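import Mathlib

set_option autoImplicit false

namespace Cfsg.Agent.Lib.Helper5

theorem card_mul_relIndex_of_le {G : Type*} [Group G] {H K : Subgroup G} (h : H ≤ K) :
    Nat.card H * H.relIndex K = Nat.card K := by
  have := Subgroup.relIndex_mul_relIndex ⊥ H K bot_le h
  rwa [Subgroup.relIndex_bot_left, Subgroup.relIndex_bot_left] at this

theorem relIndex_ne_zero_of_finite {G : Type*} [Group G] [Finite G] (H K : Subgroup G) :
    H.relIndex K ≠ 0 := by
  unfold Subgroup.relIndex
  exact Subgroup.index_ne_zero_of_finite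

theorem card_mul_card_le_sup_mul_inf {G : Type*} [Group G] [Finite G] (H K : Subgroup G) :
    Nat.card H * Nat.card K ≤ Nat.card (H ⊔ K : Subgroup G) * Nat.card (H ⊓ K : Subgroup G) := by
  have h1 : Nat.card (H ⊓ K : Subgroup G) * H.relIndex K = Nat.card K := by
    have := card_mul_relIndex_of_le (inf_le_right : H ⊓ K ≤ K)
    rwa [Subgroup.inf_relIndex_right] at this
  have h2 : Nat.card H * H.relIndex (H ⊔ K) = Nat.card (H ⊔ K : Subgroup G) :=
    card_mul_relIndex_of_le le_sup_left
  have h3 : H.relIndex K ≤ H.relIndex (H ⊔ K) :=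
    Subgroup.relIndex_le_of_le_right le_sup_right (relIndex_ne_zero_of_finite _ _)
  calc Nat.card H * Nat.card K = Nat.card H * (Nat.card (H ⊓ K : Subgroup G) * H.relIndex K) := by
        rw [h1]
    _ = (Nat.card H * H.relIndex K) * Nat.card (H ⊓ K : Subgroup G) := by ring
    _ ≤ (Nat.card H * H.relIndex (H ⊔ K)) * Nat.card (H ⊓ K : Subgroup G) := by gcongr
    _ = Nat.card (H ⊔ K : Subgroup G) * Nat.card (H ⊓ K : Subgroup G) := by rw [h2]

open Pointwise in
theorem card_image_mk_eq_relIndex {G : Type*} [Group G] (H K : Subgroup G) :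
    Nat.card ((H : Set G).image (QuotientGroup.mk : G → G ⧸ K)) = K.relIndex H := by
  let φ : H → G ⧸ K := fun h => QuotientGroup.mk (h : G)
  have hrange : Set.range φ = (H : Set G).image (QuotientGroup.mk : G → G ⧸ K) := by
    ext q
    constructor
    · rintro ⟨h, rfl⟩
      exact ⟨h, h.2, rfl⟩
    · rintro ⟨g, hg, rfl⟩
      exact ⟨⟨g, hg⟩, rfl⟩
  rw [← hrange]
  have e1 : Quotient (Setoid.ker φ) ≃ Set.range φ := Setoid.quotientKerEquivRange φ
  have e2 : Quotient (Setoid.ker φ) ≃ (H ⧸ K.subgroupOf H) := by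
    apply Quotient.congrRight
    intro a b
    rw [Setoid.ker_def, QuotientGroup.leftRel_apply, Subgroup.mem_subgroupOf]
    show (QuotientGroup.mk (a : G) : G ⧸ K) = QuotientGroup.mk (b : G) ↔ _
    rw [QuotientGroup.eq]
    simp
  rw [← Nat.card_congr e1, Nat.card_congr e2]
  rfl

open Pointwise in
theorem card_mul_set_mul_card_inf {G : Type*} [Group G] (H K : Subgroup G) :
    Nat.card ((H : Set G) * (K : Set G) : Set G) * Nat.card (H ⊓ K : Subgroup G) =
      Nat.card H * Nat.card K := by
  rw [Subgroup.card_mul_eq_card_subgroup_mul_card_quotient K (H : Set G),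
    card_image_mk_eq_relIndex]
  have h1 : Nat.card (H ⊓ K : Subgroup G) * K.relIndex H = Nat.card H := by
    have := card_mul_relIndex_of_le (inf_le_left : H ⊓ K ≤ H)
    rwa [Subgroup.inf_relIndex_left] at this
  calc Nat.card K * K.relIndex H * Nat.card (H ⊓ K : Subgroup G)
      = (Nat.card (H ⊓ K : Subgroup G) * K.relIndex H) * Nat.card K := by ring
    _ = Nat.card H * Nat.card K := by rw [h1]

end Cfsg.Agent.Lib.Helper5
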