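import Mathlib
import Cfsg.Prelude.Def_Transfer

set_option autoImplicit false

namespace Cfsg.Agent.Lib.Helper5

universe u

theorem elemAb_bot {G : Type u} [Group G] (p : ℕ) : Cfsg.IsElementaryAbelian p (⊥ : Subgroup G) := by
  refine ⟨inferInstance, ?_⟩
  intro a ha
  rw [Subgroup.mem_bot] at ha
  subst ha
  exact one_pow p

theorem elemAb_closure {G : Type u} [Group G] (p : ℕ) (s : Set G)
    (hcomm : ∀ x ∈ s, ∀ y ∈ s, x * y = y * x) (hpow : ∀ x ∈ s, x ^ p = 1) :
    Cfsg.IsElementaryAbelian p (Subgroup.closure s) := by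
  have hc := Subgroup.isMulCommutative_closure hcomm
  refine ⟨hc, ?_⟩
  intro a ha
  induction ha using Subgroup.closure_induction with
  | mem x hx => exact hpow x hx
  | one => exact one_pow p
  | mul x y hx hy ihx ihy =>
    have hxy : Commute x y := setLike_mul_comm hx hy
    rw [hxy.mul_pow, ihx, ihy, one_mul]
  | inv x hx ih => rw [inv_pow, ih, inv_one]

theorem elemAb_of_le {G : Type u} [Group G] {p : ℕ} {A B : Subgroup G} (h : B ≤ A)
    (hA : Cfsg.IsElementaryAbelian p A) : Cfsg.IsElementaryAbelian p B := by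
  obtain ⟨hc, hp⟩ := hA
  refine ⟨?_, fun a ha => hp a (h ha)⟩
  exact ⟨⟨fun a b => Subtype.ext (setLike_mul_comm (h a.2) (h b.2))⟩⟩

theorem elemAb_adjoin {G : Type u} [Group G] {p : ℕ} {A : Subgroup G}
    (hA : Cfsg.IsElementaryAbelian p A) (x : G) (hx : x ∈ Subgroup.centralizer (A : Set G))
    (hxp : x ^ p = 1) :
    Cfsg.IsElementaryAbelian p (Subgroup.closure ((A : Set G) ∪ {x})) := by
  obtain ⟨hc, hp⟩ := hA
  apply elemAb_closure
  · rintro y (hy | hy) z (hz | hz)
    · exact setLike_mul_comm hy hz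
    · rw [Set.mem_singleton_iff] at hz; subst hz; exact (hx y hy)
    · rw [Set.mem_singleton_iff] at hy; subst hy; exact (hx z hz).symm
    · rw [Set.mem_singleton_iff] at hy hz; subst hy; subst hz; rfl
  · rintro y (hy | hy)
    · exact hp y hy
    · rw [Set.mem_singleton_iff] at hy; subst hy; exact hxp

theorem maxElemAb_nonempty {G : Type u} [Group G] [Finite G] (p : ℕ) :
    (Cfsg.maxElementaryAbelianSubgroups p G).Nonempty := by
  classical
  have hfin : Set.Finite {A : Subgroup G | Cfsg.IsElementaryAbelian p A} := Set.toFinite _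
  have hne : {A : Subgroup G | Cfsg.IsElementaryAbelian p A}.Nonempty := ⟨⊥, elemAb_bot p⟩
  obtain ⟨A, hA, hmax⟩ := Set.exists_max_image _ (fun A : Subgroup G => Nat.card A) hfin hne
  exact ⟨A, hA, fun B hB => hmax B hB⟩

theorem maxElemAb_le_thompson {G : Type u} [Group G] {p : ℕ} {A : Subgroup G}
    (hA : A ∈ Cfsg.maxElementaryAbelianSubgroups p G) : A ≤ Cfsg.thompsonSubgroup p G :=
  le_sSup hA

theorem maxElemAb_mem_of_centralizes {G : Type u} [Group G] [Finite G] {p : ℕ} {A : Subgroup G}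
    (hA : A ∈ Cfsg.maxElementaryAbelianSubgroups p G) (x : G)
    (hx : x ∈ Subgroup.centralizer (A : Set G)) (hxp : x ^ p = 1) : x ∈ A := by
  have hB := elemAb_adjoin hA.1 x hx hxp
  have hle : A ≤ Subgroup.closure ((A : Set G) ∪ {x}) := fun a ha =>
    Subgroup.subset_closure (Or.inl ha)
  have hcard := hA.2 _ hB
  have := Subgroup.eq_of_le_of_card_ge hle hcard
  rw [this]
  exact Subgroup.subset_closure (Or.inr rfl)

theorem elemAb_map {G H : Type u} [Group G] [Group H] {p : ℕ} (f : G →* H) {A : Subgroup G}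
    (hA : Cfsg.IsElementaryAbelian p A) : Cfsg.IsElementaryAbelian p (A.map f) := by
  obtain ⟨hc, hp⟩ := hA
  refine ⟨inferInstance, ?_⟩
  rintro _ ⟨a, ha, rfl⟩
  rw [← map_pow, hp a ha, map_one]

theorem elemAb_comap_of_injective {G H : Type u} [Group G] [Group H] {p : ℕ} (f : G →* H)
    (hf : Function.Injective f) {A : Subgroup H}
    (hA : Cfsg.IsElementaryAbelian p A) : Cfsg.IsElementaryAbelian p (A.comap f) := by
  obtain ⟨hc, hp⟩ := hA
  refine ⟨Subgroup.comap_injective_isMulCommutative A hf, ?_⟩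
  intro a ha
  apply hf
  rw [map_pow, map_one]
  exact hp _ ha

theorem maxElemAb_map_equiv {G H : Type u} [Group G] [Group H] {p : ℕ} (e : G ≃* H) {A : Subgroup G}
    (hA : A ∈ Cfsg.maxElementaryAbelianSubgroups p G) :
    A.map e.toMonoidHom ∈ Cfsg.maxElementaryAbelianSubgroups p H := by
  refine ⟨elemAb_map _ hA.1, ?_⟩
  intro B hB
  have h1 := hA.2 (B.comap e.toMonoidHom) (elemAb_comap_of_injective _ e.injective hB)
  have h2 : Nat.card (A.map e.toMonoidHom) = Nat.card A :=
    Nat.card_congr (e.subgroupMap A).symm.toEquiv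
  have h3 : Nat.card (B.comap e.toMonoidHom) = Nat.card B := by
    have : (B.comap e.toMonoidHom) = B.map e.symm.toMonoidHom := by
      ext x
      simp only [Subgroup.mem_comap, Subgroup.mem_map, MulEquiv.coe_toMonoidHom]
      constructor
      · intro h; exact ⟨e x, h, by simp⟩
      · rintro ⟨y, hy, rfl⟩; simpa using hy
    rw [this]
    exact Nat.card_congr (e.symm.subgroupMap B).symm.toEquiv
  omega

theorem card_subgroupOf_of_le {G : Type u} [Group G] {A U : Subgroup G} (h : A ≤ U) :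
    Nat.card (A.subgroupOf U) = Nat.card A :=
  Nat.card_congr (Subgroup.subgroupOfEquivOfLe h).toEquiv

theorem maxElemAb_subgroupOf {G : Type u} [Group G] {p : ℕ} {A U : Subgroup G}
    (hA : A ∈ Cfsg.maxElementaryAbelianSubgroups p G) (hAU : A ≤ U) :
    A.subgroupOf U ∈ Cfsg.maxElementaryAbelianSubgroups p U := by
  refine ⟨elemAb_comap_of_injective U.subtype U.subtype_injective hA.1, ?_⟩
  intro B hB
  have h1 := hA.2 (B.map U.subtype) (elemAb_map U.subtype hB)
  rw [Subgroup.card_map_of_injective U.subtype_injective] at h1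
  rw [card_subgroupOf_of_le hAU]
  exact h1

theorem maxElemAb_map_subtype {G : Type u} [Group G] {p : ℕ} {U : Subgroup G} {B : Subgroup U}
    (hB : B ∈ Cfsg.maxElementaryAbelianSubgroups p U)
    (hU : ∃ A ∈ Cfsg.maxElementaryAbelianSubgroups p G, A ≤ U) :
    B.map U.subtype ∈ Cfsg.maxElementaryAbelianSubgroups p G := by
  obtain ⟨A, hA, hAU⟩ := hU
  refine ⟨elemAb_map U.subtype hB.1, ?_⟩
  intro C hC
  have h1 := hA.2 C hC
  have h2 := hB.2 _ (maxElemAb_subgroupOf hA hAU).1
  rw [card_subgroupOf_of_le hAU] at h2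
  rw [Subgroup.card_map_of_injective U.subtype_injective]
  omega

theorem thompsonSubgroupOf_le_of_exists {G : Type u} [Group G] {p : ℕ} {U : Subgroup G}
    (hU : ∃ A ∈ Cfsg.maxElementaryAbelianSubgroups p G, A ≤ U) :
    Cfsg.thompsonSubgroupOf p U ≤ Cfsg.thompsonSubgroup p G := by
  unfold Cfsg.thompsonSubgroupOf
  rw [Subgroup.map_le_iff_le_comap]
  apply sSup_le
  intro B hB
  rw [← Subgroup.map_le_iff_le_comap]
  exact maxElemAb_le_thompson (maxElemAb_map_subtype hB hU)

theorem maxElemAb_le_thompsonSubgroupOf {G : Type u} [Group G] {p : ℕ} {A U : Subgroup G}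
    (hA : A ∈ Cfsg.maxElementaryAbelianSubgroups p G) (hAU : A ≤ U) :
    A ≤ Cfsg.thompsonSubgroupOf p U := by
  unfold Cfsg.thompsonSubgroupOf
  rw [← Subgroup.map_subgroupOf_eq_of_le hAU]
  exact Subgroup.map_mono (maxElemAb_le_thompson (maxElemAb_subgroupOf hA hAU))

theorem elemAb_isPGroup {G : Type u} [Group G] {p : ℕ} {A : Subgroup G}
    (hA : Cfsg.IsElementaryAbelian p A) : IsPGroup p A := by
  intro a
  refine ⟨1, ?_⟩
  rw [pow_one]
  exact Subtype.ext (by simpa using hA.2 a.1 a.2)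

theorem exists_maxElemAb_le_sylow {G : Type u} [Group G] [Finite G] {p : ℕ} [Fact p.Prime]
    (S : Sylow p G) : ∃ A ∈ Cfsg.maxElementaryAbelianSubgroups p G, A ≤ (S : Subgroup G) := by
  obtain ⟨A₀, hA₀⟩ := maxElemAb_nonempty (G := G) p
  obtain ⟨S₀, hS₀⟩ := (elemAb_isPGroup hA₀.1).exists_le_sylow
  obtain ⟨g, hg⟩ := MulAction.exists_smul_eq G S₀ S
  refine ⟨A₀.map (MulAut.conj g).toMonoidHom, maxElemAb_map_equiv (MulAut.conj g) hA₀, ?_⟩
  rw [← hg, Sylow.coe_subgroup_smul]
  rintro _ ⟨a, ha, rfl⟩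
  exact (Subgroup.mem_smul_pointwise_iff_exists _ _ _).2 ⟨a, hS₀ ha, rfl⟩

end Cfsg.Agent.Lib.Helper5
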