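import Mathlib
import Cfsg.Prelude.Def_Local
import Cfsg.Prelude.Def_CaseTheorems
import Cfsg.Agent.Lib.Helper1.Fitting
import Cfsg.Agent.Lib.Helper1.PLength
import Cfsg.Agent.Lib.Lead.Coprime
import Cfsg.Agent.Lib.Helper5.Card
import Cfsg.Agent.Lib.Helper5.ElemAb

set_option autoImplicit false

namespace Cfsg.Agent.Lib.Helper5

variable {G : Type*} [Group G]

theorem h5_coprime_pgroup [Finite G] {p : ℕ} [Fact p.Prime] {A D : Subgroup G}
    (hA : IsPGroup p A) (hD : (Nat.card D).Coprime p) : (Nat.card A).Coprime (Nat.card D) := by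
  obtain ⟨n, hn⟩ := hA.exists_card_eq
  rw [hn]
  exact (Nat.Coprime.pow_left n hD.symm)

theorem h5_eq_one_of_mem_pgroup_of_mem_coprime [Finite G] {p : ℕ} [Fact p.Prime]
    {A D : Subgroup G} (hA : IsPGroup p A) (hD : (Nat.card D).Coprime p) {g : G}
    (h1 : g ∈ A) (h2 : g ∈ D) : g = 1 :=
  Cfsg.Agent.Lib.Lead.inf_eq_bot_of_coprime' A D (h5_coprime_pgroup hA hD) h1 h2

theorem h5_exists_lift_centralizer [Finite G] {p : ℕ} [Fact p.Prime] (N : Subgroup G) [hNn : N.Normal]
    (hN : (Nat.card N).Coprime p) (P : Subgroup G) (hP : IsPGroup p P) (y : G)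
    (hy : QuotientGroup.mk' N y ∈ Subgroup.centralizer
      ((P.map (QuotientGroup.mk' N) : Subgroup (G ⧸ N)) : Set (G ⧸ N))) :
    ∃ d ∈ N, y * d ∈ Subgroup.centralizer (P : Set G) := by
  set π : G →* G ⧸ N := QuotientGroup.mk' N with hπ
  have hker : ∀ g : G, π g = 1 ↔ g ∈ N := fun g => QuotientGroup.eq_one_iff g
  rw [Subgroup.mem_centralizer_iff] at hy
  have hy1 : ∀ a ∈ P, y⁻¹ * (a * y * a⁻¹) ∈ N := by
    intro a ha
    rw [← hker]
    have h1 : π a * π y = π y * π a := hy (π a) ⟨a, ha, rfl⟩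
    simp only [map_mul, map_inv]
    rw [h1]
    group
  have hPN : P ≤ Subgroup.normalizer (N : Set G) := by
    have : Subgroup.normalizer (N : Set G) = ⊤ := Subgroup.normalizer_eq_top_iff.mpr hNn
    rw [this]; exact le_top
  have hPsolv : Group.IsSolvable P := by
    have := hP.isNilpotent
    infer_instance
  exact Cfsg.Agent.Lib.Lead.coset_fixed P N hPN (h5_coprime_pgroup hP hN) (Or.inl hPsolv) y hy1

theorem h5_pPrimePCore_normal (p : ℕ) (G : Type*) [Group G] : (Cfsg.pPrimePCore p G).Normal := by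
  unfold Cfsg.pPrimePCore
  infer_instance

theorem h5_pPrimeCore_le_pPrimePCore (p : ℕ) (G : Type*) [Group G] :
    Cfsg.pPrimeCore p G ≤ Cfsg.pPrimePCore p G := by
  intro x hx
  unfold Cfsg.pPrimePCore
  rw [Subgroup.mem_comap]
  have : QuotientGroup.mk' (Cfsg.pPrimeCore p G) x = 1 := (QuotientGroup.eq_one_iff x).mpr hx
  rw [this]; exact Subgroup.one_mem _

theorem h5_mem_pPrimePCore_iff {p : ℕ} (x : G) :
    x ∈ Cfsg.pPrimePCore p G ↔
      QuotientGroup.mk' (Cfsg.pPrimeCore p G) x ∈ Cfsg.pCore p (G ⧸ Cfsg.pPrimeCore p G) :=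
  Iff.rfl

theorem h5_sylow_pPrimePCore_map [Finite G] {p : ℕ} [Fact p.Prime]
    (P : Sylow p ↥(Cfsg.pPrimePCore p G)) :
    (((P : Subgroup ↥(Cfsg.pPrimePCore p G)).map (Cfsg.pPrimePCore p G).subtype).map
      (QuotientGroup.mk' (Cfsg.pPrimeCore p G))) = Cfsg.pCore p (G ⧸ Cfsg.pPrimeCore p G) := by
  set N := Cfsg.pPrimeCore p G with hN
  set π := QuotientGroup.mk' N with hπ
  set Q := Cfsg.pCore p (G ⧸ N) with hQ
  have hQp : IsPGroup p Q := Cfsg.Agent.Lib.Helper1.pCore_isPGroup p
  apply le_antisymm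
  · rintro _ ⟨_, ⟨x, _, rfl⟩, rfl⟩
    exact x.2
  · intro q hq
    let f : ↥(Q.comap π) →* ↥Q := π.subgroupComap Q
    have hf : Function.Surjective f :=
      π.subgroupComap_surjective_of_surjective Q (QuotientGroup.mk'_surjective N)
    let P0 : Sylow p ↥(Q.comap π) := P
    let P' : Sylow p ↥Q := Sylow.mapSurjective hf P0
    have htop : (⊤ : Subgroup ↥Q) = (P' : Subgroup ↥Q) :=
      P'.is_maximal' (hQp.to_subgroup ⊤) le_top
    have hq' : (⟨q, hq⟩ : ↥Q) ∈ (P' : Subgroup ↥Q) := by rw [← htop]; trivial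
    rw [Sylow.coe_mapSurjective] at hq'
    obtain ⟨x, hx, hxq⟩ := hq'
    refine ⟨x.1, ⟨x, hx, rfl⟩, ?_⟩
    have := congrArg Subtype.val hxq
    exact this

theorem h5_pCore_le_pPrimePCore [Finite G] {p : ℕ} [Fact p.Prime] :
    Cfsg.pCore p G ≤ Cfsg.pPrimePCore p G := by
  intro x hx
  rw [h5_mem_pPrimePCore_iff]
  have h1 : (Cfsg.pCore p G).map (QuotientGroup.mk' (Cfsg.pPrimeCore p G)) ≤
      Cfsg.pCore p (G ⧸ Cfsg.pPrimeCore p G) := by
    apply Cfsg.Agent.Lib.Helper1.le_pCore
    · exact Subgroup.Normal.map (Cfsg.pCore_normal p G) _ (QuotientGroup.mk'_surjective _)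
    · exact (Cfsg.Agent.Lib.Helper1.pCore_isPGroup p).map _
  exact h1 ⟨x, hx, rfl⟩

theorem h5_pPrimePCore_isPGroup [Finite G] {p : ℕ} [Fact p.Prime]
    (h : Cfsg.pPrimeCore p G = ⊥) : IsPGroup p ↥(Cfsg.pPrimePCore p G) := by
  unfold Cfsg.pPrimePCore
  apply IsPGroup.comap_of_injective (Cfsg.Agent.Lib.Helper1.pCore_isPGroup p)
  rw [← MonoidHom.ker_eq_bot_iff, QuotientGroup.ker_mk', h]

theorem h5_pPrimePCore_eq_pCore [Finite G] {p : ℕ} [Fact p.Prime]
    (h : Cfsg.pPrimeCore p G = ⊥) : Cfsg.pPrimePCore p G = Cfsg.pCore p G := by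
  apply le_antisymm _ h5_pCore_le_pPrimePCore
  exact Cfsg.Agent.Lib.Helper1.le_pCore (h5_pPrimePCore_normal p G) (h5_pPrimePCore_isPGroup h)

theorem h5_sylow_eq_top_of_isPGroup {p : ℕ} {K : Type*} [Group K] (hK : IsPGroup p K)
    (P : Sylow p K) : (P : Subgroup K) = ⊤ :=
  (P.is_maximal' (hK.to_subgroup ⊤) le_top).symm

theorem h5_isPConstrained_iff_of_isPGroup [Finite G] {p : ℕ} [Fact p.Prime]
    (h : IsPGroup p ↥(Cfsg.pPrimePCore p G)) :
    Cfsg.IsPConstrained p G ↔
      Subgroup.centralizer (Cfsg.pPrimePCore p G : Set G) ≤ Cfsg.pPrimePCore p G := by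
  have key : ∀ P : Sylow p ↥(Cfsg.pPrimePCore p G),
      (P : Subgroup ↥(Cfsg.pPrimePCore p G)).map (Cfsg.pPrimePCore p G).subtype =
        Cfsg.pPrimePCore p G := by
    intro P
    rw [h5_sylow_eq_top_of_isPGroup h P, ← MonoidHom.range_eq_map, Subgroup.range_subtype]
  unfold Cfsg.IsPConstrained
  constructor
  · intro hc
    obtain ⟨P⟩ := (inferInstance : Nonempty (Sylow p ↥(Cfsg.pPrimePCore p G)))
    have := hc P
    rw [key P] at this
    exact this
  · intro hc P
    rw [key P]
    exact hc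

open scoped Pointwise

theorem h5_pow_card_eq_one_of_mem {E : Type*} [Group E] {H : Subgroup E} {x : E} (hx : x ∈ H) :
    x ^ Nat.card H = 1 := by
  rw [← orderOf_dvd_iff_pow_eq_one, ← Subgroup.orderOf_mk x hx]
  exact orderOf_dvd_natCard _

theorem h5_central_hall_complement {E : Type*} [Group E] [Finite E] (Z : Subgroup E)
    (hZc : ∀ z ∈ Z, ∀ e : E, z * e = e * z) (hcop : (Nat.card Z).Coprime Z.index) :
    ∃ D : Subgroup E, D.Characteristic ∧ Subgroup.IsComplement' Z D := by
  have hZn : Z.Normal := by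
    constructor
    intro z hz g
    rw [← hZc z hz g, mul_inv_cancel_right]
    exact hz
  obtain ⟨D, hD⟩ := Subgroup.exists_right_complement'_of_coprime hcop
  refine ⟨D, ?_, hD⟩
  set m := Z.index with hm
  have hcardD : Nat.card D = m := by
    have h1 := hD.card_mul_card
    have h2 := Z.card_mul_index
    rw [← h2] at h1
    exact Nat.eq_of_mul_eq_mul_left Nat.card_pos h1
  have hmem : ∀ x : E, x ∈ D ↔ x ^ m = 1 := by
    intro x
    constructor
    · intro hx
      rw [← hcardD]
      exact h5_pow_card_eq_one_of_mem hx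
    · intro hx
      have hmul : (Z : Set E) * (D : Set E) = Set.univ := (Subgroup.isComplement'_def.mp hD).mul_eq
      have hx' : x ∈ (Z : Set E) * (D : Set E) := by rw [hmul]; trivial
      obtain ⟨z, hz, d, hd, hzd⟩ := hx'
      have hzd' : z * d = x := hzd
      have hcomm : Commute z d := hZc z hz d
      have hd1 : d ^ m = 1 := by
        rw [← hcardD]
        exact h5_pow_card_eq_one_of_mem hd
      have hz1 : z ^ m = 1 := by
        have := hcomm.mul_pow m
        rw [hzd', hx, hd1, mul_one] at this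
        exact this.symm
      have hz2 : z ^ Nat.card Z = 1 := h5_pow_card_eq_one_of_mem hz
      have hz3 : z = 1 := (pow_eq_one_iff_of_coprime hcop).mp ⟨hz2, hz1⟩
      rw [← hzd', hz3, one_mul]
      exact hd
  rw [Subgroup.characteristic_iff_le_comap]
  intro φ x hx
  rw [Subgroup.mem_comap, hmem]
  rw [hmem] at hx
  show (φ x) ^ m = 1
  rw [← map_pow, hx, map_one]


theorem h5_isPSolvable_of_surjective {X Y : Type*} [Group X] [Group Y] {p : ℕ} [Fact p.Prime]
    (f : X →* Y) (hf : Function.Surjective f) (h : Cfsg.IsPSolvable p X) : Cfsg.IsPSolvable p Y := by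
  obtain ⟨n, H, h0, hlast, hmono, hnorm, hfac⟩ := h
  refine ⟨n, fun i => (H i).map f, ?_, ?_, ?_, ?_, ?_⟩
  · show (H 0).map f = ⊥
    rw [h0, Subgroup.map_bot]
  · show (H (Fin.last n)).map f = ⊤
    rw [hlast, Subgroup.map_top_of_surjective f hf]
  · intro i j hij
    exact Subgroup.map_mono (hmono hij)
  · intro i
    exact Subgroup.Normal.map (hnorm i) f hf
  · intro i
    have hdvd : ((H i.castSucc).map f).relIndex ((H i.succ).map f) ∣
        (H i.castSucc).relIndex (H i.succ) := by
      rw [← Subgroup.relIndex_comap, Subgroup.comap_map_eq]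
      exact Subgroup.relIndex_dvd_of_le_left (H i.succ) le_sup_left
    rcases hfac i with ⟨m, hm⟩ | hcop
    · left
      rw [hm] at hdvd
      obtain ⟨j, _, hj⟩ := (Nat.dvd_prime_pow (Fact.out : p.Prime)).mp hdvd
      exact ⟨j, hj⟩
    · right
      exact Nat.Coprime.coprime_dvd_left hdvd hcop



theorem h5_normal_map_of_characteristic {X : Type*} [Group X] (E : Subgroup X) [hE : E.Normal]
    (D : Subgroup E) [D.Characteristic] : (D.map E.subtype).Normal := by
  rw [← Subgroup.normalizer_eq_top_iff, eq_top_iff]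
  apply Cfsg.Agent.Lib.Lead.le_normalizer_map_characteristic E ⊤ _ D
  rw [Subgroup.normalizer_eq_top_iff.mpr hE]

theorem h5_centralizer_pCore_le {X : Type*} [Group X] [Finite X] {p : ℕ} [Fact p.Prime]
    (hsol : Cfsg.IsPSolvable p X) (hO : Cfsg.pPrimeCore p X = ⊥) :
    Subgroup.centralizer (Cfsg.pCore p X : Set X) ≤ Cfsg.pCore p X := by
  set Q := Cfsg.pCore p X with hQ
  set C := Subgroup.centralizer (Q : Set X) with hC
  have hQn : Q.Normal := Cfsg.pCore_normal p X
  have hQp : IsPGroup p Q := Cfsg.Agent.Lib.Helper1.pCore_isPGroup p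
  have hCn : C.Normal := Subgroup.normal_centralizer
  obtain ⟨n, H, h0, hlast, hmono, hnorm, hfac⟩ := hsol
  have key : ∀ i : Fin (n + 1), C ⊓ H i ≤ Q := by
    intro i
    induction i using Fin.induction with
    | zero => rw [h0, inf_bot_eq]; exact bot_le
    | succ i ih =>
      set E := C ⊓ H i.succ with hE
      set Z₀ := C ⊓ H i.castSucc with hZ₀
      have hHle : H i.castSucc ≤ H i.succ := hmono (Fin.castSucc_lt_succ (i := i)).le
      have hZE : Z₀ ≤ E := inf_le_inf_left C hHle
      have hEn : E.Normal := by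
        have := hnorm i.succ
        exact Subgroup.normal_inf_normal C (H i.succ)
      have hHn : (H i.castSucc).Normal := hnorm i.castSucc
      have hZeq : Z₀ = H i.castSucc ⊓ E := by
        apply le_antisymm
        · exact le_inf inf_le_right hZE
        · exact le_inf (le_trans inf_le_right inf_le_left) inf_le_left
      have hmdvd : Z₀.relIndex E ∣ (H i.castSucc).relIndex (H i.succ) := by
        rw [hZeq, Subgroup.inf_relIndex_right, ← Subgroup.relIndex_sup_right]
        have h1 : H i.castSucc ≤ E ⊔ H i.castSucc := le_sup_right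
        have h2 : E ⊔ H i.castSucc ≤ H i.succ := sup_le inf_le_right hHle
        exact Dvd.intro _ (Subgroup.relIndex_mul_relIndex _ _ _ h1 h2)
      have hZp : IsPGroup p Z₀ := hQp.to_le ih
      obtain ⟨a, ha⟩ := hZp.exists_card_eq
      have hcardE : Nat.card Z₀ * Z₀.relIndex E = Nat.card E := card_mul_relIndex_of_le hZE
      rcases hfac i with ⟨k, hk⟩ | hcop
      · rw [hk] at hmdvd
        obtain ⟨j, _, hj⟩ := (Nat.dvd_prime_pow (Fact.out : p.Prime)).mp hmdvd
        have hEp : IsPGroup p E := by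
          apply IsPGroup.of_card (n := a + j)
          rw [← hcardE, ha, hj, pow_add]
        exact Cfsg.Agent.Lib.Helper1.le_pCore hEn hEp
      · have hmcop : (Z₀.relIndex E).Coprime p := Nat.Coprime.coprime_dvd_left hmdvd hcop
        set Z : Subgroup E := Z₀.subgroupOf E with hZ
        have hZcard : Nat.card Z = p ^ a := by
          rw [hZ, card_subgroupOf_of_le hZE, ha]
        have hZidx : Z.index = Z₀.relIndex E := rfl
        have hZc : ∀ z ∈ Z, ∀ e : E, z * e = e * z := by
          intro z hz e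
          apply Subtype.ext
          have h1 : (z : X) ∈ Q := ih hz
          have h2 : (e : X) ∈ C := e.2.1
          rw [hC, Subgroup.mem_centralizer_iff] at h2
          exact h2 _ h1
        have hcop' : (Nat.card Z).Coprime Z.index := by
          rw [hZcard, hZidx]
          exact Nat.Coprime.pow_left a hmcop.symm
        obtain ⟨D, hDchar, hD⟩ := h5_central_hall_complement Z hZc hcop'
        have hDn : (D.map E.subtype).Normal := h5_normal_map_of_characteristic E D
        have hDcard : Nat.card D = Z.index := by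
          have h1 := hD.card_mul_card
          have h2 := Z.card_mul_index
          rw [← h2] at h1
          exact Nat.eq_of_mul_eq_mul_left Nat.card_pos h1
        have hDcop : (Nat.card (D.map E.subtype)).Coprime p := by
          rw [Subgroup.card_map_of_injective E.subtype_injective, hDcard, hZidx]
          exact hmcop
        have hDle : D.map E.subtype ≤ Cfsg.pPrimeCore p X :=
          Cfsg.Agent.Lib.Helper1.le_pPrimeCore hDn hDcop
        rw [hO, le_bot_iff, Subgroup.map_eq_bot_iff_of_injective _ E.subtype_injective] at hDle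
        have hZtop : Z = ⊤ := by
          have := hD.sup_eq_top
          rw [hDle, sup_bot_eq] at this
          exact this
        intro e he
        have : (⟨e, he⟩ : E) ∈ Z := by rw [hZtop]; trivial
        exact ih this
  have := key (Fin.last n)
  rw [hlast, inf_top_eq] at this
  exact this

end Cfsg.Agent.Lib.Helper5
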