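import Mathlib
import Cfsg.Agent.Lib.Helper13.S5955.Defs

set_option autoImplicit false

/-!
# Project S5955: linear algebra of (alternating) bilinear forms on subspaces (helper5)
-/

namespace Cfsg.Agent.Lib.Helper13.S5955

open Polynomial Module

variable {F : Type*} [Field F] {V : Type*} [AddCommGroup V] [Module F V]

theorem h5_mem_orth (B : LinearMap.BilinForm F V) (U : Submodule F V) (m : V) :
    m ∈ B.orthogonal U ↔ ∀ u ∈ U, B u m = 0 := by
  rw [LinearMap.BilinForm.mem_orthogonal_iff]

/-- the dimension of the orthogonal of `U` inside a non-degenerate `N` -/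
theorem h5_finrank_perp [FiniteDimensional F V] (B : LinearMap.BilinForm F V)
    (N U : Submodule F V) (hN : SND B N) (hUN : U ≤ N) :
    finrank F ↥(N ⊓ B.orthogonal U) + finrank F U = finrank F N := by
  classical
  let f : ↥U →ₗ[F] Module.Dual F ↥N := B.domRestrict₁₂ U N
  have hfa : ∀ (u : ↥U) (n : ↥N), f u n = B (u : V) (n : V) := fun u n => rfl
  have hf : Function.Injective f := by
    rw [← LinearMap.ker_eq_bot, LinearMap.ker_eq_bot']
    intro t ht
    have : (t : V) = 0 := hN t (hUN t.2) (fun v hv => by
      have := LinearMap.congr_fun ht ⟨v, hv⟩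
      rw [hfa] at this
      exact this)
    exact Subtype.ext this
  have hW : finrank F ↥(LinearMap.range f) = finrank F U := LinearMap.finrank_range_of_inj hf
  have heq : (LinearMap.range f).dualCoannihilator =
      (N ⊓ B.orthogonal U).comap N.subtype := by
    ext n
    rw [Submodule.mem_dualCoannihilator, Submodule.mem_comap, Submodule.mem_inf, h5_mem_orth]
    constructor
    · intro h
      refine ⟨n.2, fun u hu => ?_⟩
      have := h (f ⟨u, hu⟩) ⟨⟨u, hu⟩, rfl⟩
      rw [hfa] at this
      exact this
    · rintro ⟨-, h⟩ φ ⟨u, rfl⟩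
      rw [hfa]
      exact h u u.2
  have h1 := Subspace.finrank_add_finrank_dualCoannihilator_eq (LinearMap.range f)
  have h2 : finrank F ↥((N ⊓ B.orthogonal U).comap N.subtype) =
      finrank F ↥(N ⊓ B.orthogonal U) :=
    (Submodule.comapSubtypeEquivOfLe (inf_le_left : N ⊓ B.orthogonal U ≤ N)).finrank_eq
  rw [heq, h2, hW] at h1
  omega

/-- skew-symmetry of an alternating form -/
theorem h5_skew (B : LinearMap.BilinForm F V) (halt : ∀ v, B v v = 0) (u v : V) :
    B u v = - B v u := by
  have h := halt (u + v)
  simp only [map_add, LinearMap.add_apply, halt u, halt v, zero_add, add_zero] at h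
  exact eq_neg_of_add_eq_zero_right h

theorem h5_zero_swap (B : LinearMap.BilinForm F V) (halt : ∀ v, B v v = 0) {u v : V}
    (h : B u v = 0) : B v u = 0 := by
  rw [h5_skew B halt, h, neg_zero]

/-- splitting a non-degenerate subspace off a non-degenerate subspace (alternating form) -/
theorem h5_split_nd [FiniteDimensional F V] (B : LinearMap.BilinForm F V)
    (halt : ∀ v, B v v = 0) (N U : Submodule F V) (hN : SND B N) (hUN : U ≤ N)
    (hU : SND B U) :
    Disjoint U (N ⊓ B.orthogonal U) ∧ U ⊔ (N ⊓ B.orthogonal U) = N ∧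
      SND B (N ⊓ B.orthogonal U) ∧
      finrank F ↥(N ⊓ B.orthogonal U) + finrank F U = finrank F N := by
  have hdim := h5_finrank_perp B N U hN hUN
  have hdisj : Disjoint U (N ⊓ B.orthogonal U) := by
    rw [Submodule.disjoint_def]
    intro u hu hu'
    rw [Submodule.mem_inf, h5_mem_orth] at hu'
    exact hU u hu (fun v hv => h5_zero_swap B halt (hu'.2 v hv))
  have hsup : U ⊔ (N ⊓ B.orthogonal U) = N := by
    apply Submodule.eq_of_le_of_finrank_le (sup_le hUN inf_le_left)
    have h1 := Submodule.finrank_sup_add_finrank_inf_eq U (N ⊓ B.orthogonal U)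
    rw [disjoint_iff.mp hdisj, finrank_bot] at h1
    omega
  refine ⟨hdisj, hsup, ?_, hdim⟩
  intro u hu h
  have hu2 := hu
  rw [Submodule.mem_inf, h5_mem_orth] at hu2
  apply hN u hu2.1
  intro w hw
  rw [← hsup, Submodule.mem_sup] at hw
  obtain ⟨u1, hu1, n1, hn1, rfl⟩ := hw
  rw [map_add, h n1 hn1, add_zero]
  exact h5_zero_swap B halt (hu2.2 u1 hu1)

/-- a hyperbolic pair inside a non-zero non-degenerate alternating subspace -/
theorem h5_hyp [FiniteDimensional F V] (B : LinearMap.BilinForm F V)
    (halt : ∀ v, B v v = 0) (N : Submodule F V) (hN : SND B N) (hpos : 0 < finrank F N) :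
    ∃ e ∈ N, ∃ N' : Submodule F V, N' ≤ N ∧ SND B N' ∧ finrank F N' + 2 = finrank F N ∧
      e ∉ N' ∧ (∀ v ∈ N', B e v = 0) := by
  classical
  have hne : N ≠ ⊥ := by
    intro h
    rw [h, finrank_bot] at hpos
    exact lt_irrefl _ hpos
  obtain ⟨e, heN, he0⟩ := Submodule.exists_mem_ne_zero_of_ne_bot hne
  have hexf : ∃ f ∈ N, B e f ≠ 0 := by
    by_contra hcon
    push Not at hcon
    exact he0 (hN e heN hcon)
  obtain ⟨f, hfN, hef⟩ := hexf
  have hfe : B f e ≠ 0 := by
    rw [h5_skew B halt]
    exact neg_ne_zero.mpr hef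
  set U : Submodule F V := Submodule.span F {e, f} with hUdef
  have heU : e ∈ U := Submodule.subset_span (by simp)
  have hfU : f ∈ U := Submodule.subset_span (by simp)
  have hUN : U ≤ N := by
    rw [hUdef, Submodule.span_le]
    intro v hv
    rcases hv with rfl | rfl
    · exact heN
    · exact hfN
  have hUmem : ∀ u ∈ U, ∃ a b : F, u = a • e + b • f := by
    intro u hu
    rw [hUdef, Submodule.mem_span_pair] at hu
    obtain ⟨a, b, rfl⟩ := hu
    exact ⟨a, b, rfl⟩
  have hUnd : SND B U := by
    intro u hu h
    obtain ⟨a, b, rfl⟩ := hUmem u hu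
    have h1 := h e heU
    have h2 := h f hfU
    rw [map_add, LinearMap.add_apply, map_smul, map_smul, LinearMap.smul_apply,
      LinearMap.smul_apply, halt e, smul_zero, zero_add, smul_eq_mul] at h1
    rw [map_add, LinearMap.add_apply, map_smul, map_smul, LinearMap.smul_apply,
      LinearMap.smul_apply, halt f, smul_zero, add_zero, smul_eq_mul] at h2
    have hb : b = 0 := by
      rcases mul_eq_zero.mp h1 with h | h
      · exact h
      · exact absurd h hfe
    have ha : a = 0 := by
      rcases mul_eq_zero.mp h2 with h | h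
      · exact h
      · exact absurd h hef
    rw [ha, hb, zero_smul, zero_smul, add_zero]
  have hli : LinearIndependent F ![e, f] := by
    rw [LinearIndependent.pair_iff]
    intro s t hst
    have h1 : B (s • e + t • f) f = 0 := by rw [hst]; simp
    have h2 : B (s • e + t • f) e = 0 := by rw [hst]; simp
    rw [map_add, LinearMap.add_apply, map_smul, map_smul, LinearMap.smul_apply,
      LinearMap.smul_apply, halt f, smul_zero, add_zero, smul_eq_mul] at h1
    rw [map_add, LinearMap.add_apply, map_smul, map_smul, LinearMap.smul_apply,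
      LinearMap.smul_apply, halt e, smul_zero, zero_add, smul_eq_mul] at h2
    constructor
    · rcases mul_eq_zero.mp h1 with h | h
      · exact h
      · exact absurd h hef
    · rcases mul_eq_zero.mp h2 with h | h
      · exact h
      · exact absurd h hfe
  have hUdim : finrank F U = 2 := by
    have h := finrank_span_eq_card hli
    have e2 : Set.range ![e, f] = {e, f} := by
      ext v
      simp only [Matrix.range_cons, Matrix.range_empty, Set.union_empty, Set.union_singleton,
        Set.mem_insert_iff, Set.mem_singleton_iff]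
      tauto
    rw [e2] at h
    rw [hUdef, h]
    rfl
  obtain ⟨-, -, hnd, hdim⟩ := h5_split_nd B halt N U hN hUN hUnd
  refine ⟨e, heN, N ⊓ B.orthogonal U, inf_le_left, hnd, by omega, ?_, ?_⟩
  · intro h
    rw [Submodule.mem_inf, h5_mem_orth] at h
    exact hfe (h.2 f hfU)
  · intro v hv
    rw [Submodule.mem_inf, h5_mem_orth] at hv
    exact hv.2 e heU

end Cfsg.Agent.Lib.Helper13.S5955
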