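import Mathlib
import Cfsg.Agent.Lib.Helper13.S5955.Defs
import Cfsg.Agent.Lib.Helper5.S5955Alt

set_option autoImplicit false

namespace Cfsg.Agent.Lib.Helper13.S5955

open Polynomial Module

/-- T7 [S-M] NDEVEN: a non-degenerate alternating space has even dimension. -/
theorem nd_even {F : Type*} [Field F] {V : Type*} [AddCommGroup V] [Module F V]
    [FiniteDimensional F V] (B : LinearMap.BilinForm F V) (halt : ∀ v, B v v = 0)
    (N : Submodule F V) (hN : SND B N) : Even (finrank F N) := by
  induction hk : finrank F N using Nat.strong_induction_on generalizing N with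
  | _ k ih =>
    rcases Nat.eq_zero_or_pos k with h0 | hpos
    · rw [h0]; exact Even.zero
    · rw [← hk] at hpos
      obtain ⟨e, -, N', -, hnd, hdim, -, -⟩ := h5_hyp B halt N hN hpos
      have hev := ih (finrank F N') (by omega) N' hnd rfl
      have e2 : k = finrank F N' + 2 := by omega
      rw [e2]
      exact hev.add even_two

end Cfsg.Agent.Lib.Helper13.S5955
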