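import Mathlib

set_option autoImplicit false

namespace Cfsg.Agent.Lib.Helper5

open scoped commutatorElement Pointwise

section
variable {S : Type*} [Group S]

def h5gA1 (A : Subgroup S) (b : S) : Subgroup S := A.map (MulAut.conj b⁻¹).toMonoidHom

def h5gGen (A : Subgroup S) (b : S) : Set S := {g : S | ∃ a ∈ A, g = a * b⁻¹ * a⁻¹ * b}

def h5gStar (A : Subgroup S) (b : S) : Subgroup S :=
  (A ⊓ h5gA1 A b) ⊔ Subgroup.closure (h5gGen A b)

theorem h5g_mem_A1 {A : Subgroup S} {b x : S} : x ∈ h5gA1 A b ↔ b * x * b⁻¹ ∈ A := by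
  unfold h5gA1
  rw [Subgroup.mem_map]
  constructor
  · rintro ⟨a, ha, rfl⟩
    simp only [MulEquiv.coe_toMonoidHom, MulAut.conj_apply, inv_inv]
    have : b * (b⁻¹ * a * b) * b⁻¹ = a := by group
    rwa [this]
  · intro h
    refine ⟨b * x * b⁻¹, h, ?_⟩
    simp only [MulEquiv.coe_toMonoidHom, MulAut.conj_apply, inv_inv]
    group

theorem h5g_conj_mem_A1 {A : Subgroup S} {b a : S} (ha : a ∈ A) : b⁻¹ * a * b ∈ h5gA1 A b := by
  rw [h5g_mem_A1]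
  have : b * (b⁻¹ * a * b) * b⁻¹ = a := by group
  rwa [this]

theorem h5g_A1_le_M {A : Subgroup S} {b : S}
    (hbN : b ∈ Subgroup.normalizer ((Subgroup.normalizer (A : Set S)) : Set S)) :
    h5gA1 A b ≤ Subgroup.normalizer (A : Set S) := by
  intro x hx
  have h1 : b * x * b⁻¹ ∈ Subgroup.normalizer (A : Set S) :=
    Subgroup.le_normalizer (h5g_mem_A1.mp hx)
  exact (Subgroup.mem_normalizer_iff.mp hbN x).mpr h1

theorem h5g_A1_norm_A {A : Subgroup S} {b : S}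
    (hbN : b ∈ Subgroup.normalizer ((Subgroup.normalizer (A : Set S)) : Set S))
    {x a : S} (hx : x ∈ h5gA1 A b) (ha : a ∈ A) : x * a * x⁻¹ ∈ A :=
  (Subgroup.mem_normalizer_iff.mp (h5g_A1_le_M hbN hx) a).mp ha

theorem h5g_A_norm_A1 {A : Subgroup S} {b : S}
    (hbN : b ∈ Subgroup.normalizer ((Subgroup.normalizer (A : Set S)) : Set S))
    {x a : S} (hx : x ∈ h5gA1 A b) (ha : a ∈ A) : a * x * a⁻¹ ∈ h5gA1 A b := by
  rw [h5g_mem_A1]
  have h1 : b * a * b⁻¹ ∈ Subgroup.normalizer (A : Set S) :=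
    (Subgroup.mem_normalizer_iff.mp hbN a).mp (Subgroup.le_normalizer ha)
  have h2 := (Subgroup.mem_normalizer_iff.mp h1 (b * x * b⁻¹)).mp (h5g_mem_A1.mp hx)
  have e : b * (a * x * a⁻¹) * b⁻¹ = b * a * b⁻¹ * (b * x * b⁻¹) * (b * a * b⁻¹)⁻¹ := by group
  rw [e]; exact h2

theorem h5g_A1_comm {A : Subgroup S} {b : S}
    (hA : ∀ a ∈ A, ∀ a' ∈ A, a * a' = a' * a)
    {x y : S} (hx : x ∈ h5gA1 A b) (hy : y ∈ h5gA1 A b) : x * y = y * x := by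
  have h := hA _ (h5g_mem_A1.mp hx) _ (h5g_mem_A1.mp hy)
  calc x * y = b⁻¹ * ((b * x * b⁻¹) * (b * y * b⁻¹)) * b := by group
    _ = b⁻¹ * ((b * y * b⁻¹) * (b * x * b⁻¹)) * b := by rw [h]
    _ = y * x := by group

theorem h5g_comm_mem {A : Subgroup S} {b : S}
    (hbN : b ∈ Subgroup.normalizer ((Subgroup.normalizer (A : Set S)) : Set S))
    {a x : S} (ha : a ∈ A) (hx : x ∈ h5gA1 A b) :
    ⁅a, x⁆ ∈ A ⊓ h5gA1 A b ∧ ⁅x, a⁆ ∈ A ⊓ h5gA1 A b := by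
  have h1 : x * a⁻¹ * x⁻¹ ∈ A := h5g_A1_norm_A hbN hx (A.inv_mem ha)
  have h2 : a * x * a⁻¹ ∈ h5gA1 A b := h5g_A_norm_A1 hbN hx ha
  have h3 : x * a * x⁻¹ ∈ A := h5g_A1_norm_A hbN hx ha
  have h4 : a * x⁻¹ * a⁻¹ ∈ h5gA1 A b := h5g_A_norm_A1 hbN (Subgroup.inv_mem _ hx) ha
  constructor
  · refine Subgroup.mem_inf.mpr ⟨?_, ?_⟩
    · have e : ⁅a, x⁆ = a * (x * a⁻¹ * x⁻¹) := by simp only [commutatorElement_def]; group
      rw [e]; exact A.mul_mem ha h1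
    · have e : ⁅a, x⁆ = (a * x * a⁻¹) * x⁻¹ := by simp only [commutatorElement_def]
      rw [e]; exact Subgroup.mul_mem _ h2 (Subgroup.inv_mem _ hx)
  · refine Subgroup.mem_inf.mpr ⟨?_, ?_⟩
    · have e : ⁅x, a⁆ = (x * a * x⁻¹) * a⁻¹ := by simp only [commutatorElement_def]
      rw [e]; exact A.mul_mem h3 (A.inv_mem ha)
    · have e : ⁅x, a⁆ = x * (a * x⁻¹ * a⁻¹) := by simp only [commutatorElement_def]; group
      rw [e]; exact Subgroup.mul_mem _ hx h4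

theorem h5g_Z_central {A : Subgroup S} {b : S}
    (hA : ∀ a ∈ A, ∀ a' ∈ A, a * a' = a' * a)
    {z h : S} (hz : z ∈ A ⊓ h5gA1 A b) (hh : h ∈ A ⊔ h5gA1 A b) : z * h = h * z := by
  have hle : A ⊔ h5gA1 A b ≤ Subgroup.centralizer ({z} : Set S) := by
    apply sup_le
    · intro a ha
      rw [Subgroup.mem_centralizer_singleton_iff]
      exact hA a ha z (Subgroup.mem_inf.mp hz).1
    · intro x hx
      rw [Subgroup.mem_centralizer_singleton_iff]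
      exact h5g_A1_comm hA hx (Subgroup.mem_inf.mp hz).2
  have := hle hh
  rw [Subgroup.mem_centralizer_singleton_iff] at this
  exact this.symm

theorem h5g_HA {A : Subgroup S} {b : S}
    (hA : ∀ a ∈ A, ∀ a' ∈ A, a * a' = a' * a)
    (hbN : b ∈ Subgroup.normalizer ((Subgroup.normalizer (A : Set S)) : Set S))
    {h a : S} (hh : h ∈ A ⊔ h5gA1 A b) (ha : a ∈ A) : ⁅h, a⁆ ∈ A ⊓ h5gA1 A b := by
  have hcl : A ⊔ h5gA1 A b = Subgroup.closure ((A : Set S) ∪ (h5gA1 A b : Set S)) := by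
    rw [Subgroup.closure_union, Subgroup.closure_eq, Subgroup.closure_eq]
  have hh' : h ∈ Subgroup.closure ((A : Set S) ∪ (h5gA1 A b : Set S)) := hcl ▸ hh
  induction hh' using Subgroup.closure_induction with
  | mem x hx =>
    rcases hx with hx | hx
    · have : ⁅x, a⁆ = 1 := commutatorElement_eq_one_iff_mul_comm.mpr (hA x hx a ha)
      rw [this]; exact Subgroup.one_mem _
    · exact (h5g_comm_mem hbN ha hx).2
  | one => rw [commutatorElement_one_left]; exact Subgroup.one_mem _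
  | mul x y hx hy ihx ihy =>
    have hx' : x ∈ A ⊔ h5gA1 A b := hcl ▸ hx
    have hy' : y ∈ A ⊔ h5gA1 A b := hcl ▸ hy
    have e1 : ⁅x * y, a⁆ = (x * ⁅y, a⁆ * x⁻¹) * ⁅x, a⁆ := by
      simp only [commutatorElement_def]; group
    have e2 : x * ⁅y, a⁆ * x⁻¹ = ⁅y, a⁆ := by
      rw [← h5g_Z_central hA (ihy hy') hx']; group
    rw [e1, e2]
    exact Subgroup.mul_mem _ (ihy hy') (ihx hx')
  | inv x hx ihx =>
    have hx' : x ∈ A ⊔ h5gA1 A b := hcl ▸ hx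
    have e1 : ⁅x⁻¹, a⁆ = x⁻¹ * ⁅x, a⁆⁻¹ * x := by
      simp only [commutatorElement_def]; group
    have hz := Subgroup.inv_mem _ (ihx hx')
    have e2 : x⁻¹ * ⁅x, a⁆⁻¹ * x = ⁅x, a⁆⁻¹ := by
      rw [mul_assoc, h5g_Z_central hA hz hx']; group
    rw [e1, e2]
    exact hz

theorem h5g_gen_mem_H {A : Subgroup S} {b a : S} (ha : a ∈ A) :
    a * b⁻¹ * a⁻¹ * b ∈ A ⊔ h5gA1 A b := by
  have e : a * b⁻¹ * a⁻¹ * b = a * (b⁻¹ * a⁻¹ * b) := by group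
  rw [e]
  exact Subgroup.mul_mem _ (Subgroup.mem_sup_left ha)
    (Subgroup.mem_sup_right (h5g_conj_mem_A1 (A.inv_mem ha)))

theorem h5g_gen_mem_B {A B : Subgroup S} [B.Normal] {b a : S} (hb : b ∈ B) :
    a * b⁻¹ * a⁻¹ * b ∈ B :=
  B.mul_mem (Subgroup.Normal.conj_mem inferInstance _ (B.inv_mem hb) a) hb

theorem h5g_D_le_H {A : Subgroup S} {b : S} :
    Subgroup.closure (h5gGen A b) ≤ A ⊔ h5gA1 A b := by
  rw [Subgroup.closure_le]
  rintro g ⟨a, ha, rfl⟩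
  exact h5g_gen_mem_H ha

theorem h5g_D_le_B {A B : Subgroup S} [B.Normal] {b : S} (hb : b ∈ B) :
    Subgroup.closure (h5gGen A b) ≤ B := by
  rw [Subgroup.closure_le]
  rintro g ⟨a, -, rfl⟩
  exact h5g_gen_mem_B (A := A) hb

theorem h5g_star_le_H {A : Subgroup S} {b : S} : h5gStar A b ≤ A ⊔ h5gA1 A b :=
  sup_le (le_trans inf_le_left le_sup_left) h5g_D_le_H

theorem h5g_conj_AB {A B : Subgroup S} (hBA : ⁅B, B⁆ ≤ A) {c x : S} (hc : c ∈ B)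
    (hx : x ∈ A ⊓ B) : c * x * c⁻¹ ∈ A := by
  have e : c * x * c⁻¹ = ⁅c, x⁆ * x := by simp only [commutatorElement_def]; group
  rw [e]
  exact A.mul_mem (hBA (Subgroup.commutator_mem_commutator hc (Subgroup.mem_inf.mp hx).2))
    (Subgroup.mem_inf.mp hx).1

theorem h5g_AB_le_Z {A B : Subgroup S} (hBA : ⁅B, B⁆ ≤ A) {b : S} (hb : b ∈ B) :
    A ⊓ B ≤ A ⊓ h5gA1 A b := by
  intro x hx
  exact Subgroup.mem_inf.mpr ⟨(Subgroup.mem_inf.mp hx).1, h5g_mem_A1.mpr (h5g_conj_AB hBA hb hx)⟩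

theorem h5g_dB_le_Z {A B : Subgroup S} [B.Normal] (hBA : ⁅B, B⁆ ≤ A) {b : S} (hb : b ∈ B) :
    ⁅B, B⁆ ≤ A ⊓ h5gA1 A b := by
  intro x hx
  refine h5g_AB_le_Z hBA hb (Subgroup.mem_inf.mpr ⟨hBA hx, ?_⟩)
  exact Subgroup.commutator_le_left B B hx

theorem h5g_ker {A B : Subgroup S} [B.Normal] (hBA : ⁅B, B⁆ ≤ A) {b : S} (hb : b ∈ B)
    {c : S} (hc : c ∈ A) :
    c * b⁻¹ * c⁻¹ * b ∈ A ⊓ h5gA1 A b ↔ c ∈ A ⊓ h5gA1 A b := by
  constructor
  · intro h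
    refine Subgroup.mem_inf.mpr ⟨hc, h5g_mem_A1.mpr ?_⟩
    have h1 := h5g_mem_A1.mp (Subgroup.mem_inf.mp h).2
    have e : b * (c * b⁻¹ * c⁻¹ * b) * b⁻¹ = (b * c * b⁻¹) * c⁻¹ := by group
    rw [e] at h1
    have := A.mul_mem h1 hc
    rwa [inv_mul_cancel_right] at this
  · intro h
    have h1 : b * c * b⁻¹ ∈ A := h5g_mem_A1.mp (Subgroup.mem_inf.mp h).2
    have ht : b * c * b⁻¹ * c⁻¹ ∈ A ⊓ B := by
      refine Subgroup.mem_inf.mpr ⟨A.mul_mem h1 (A.inv_mem hc), ?_⟩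
      have e : b * c * b⁻¹ * c⁻¹ = b * (c * b⁻¹ * c⁻¹) := by group
      rw [e]
      exact B.mul_mem hb (Subgroup.Normal.conj_mem inferInstance _ (B.inv_mem hb) c)
    have h2 : b⁻¹ * (b * c * b⁻¹ * c⁻¹) * b⁻¹⁻¹ ∈ A := h5g_conj_AB hBA (B.inv_mem hb) ht
    refine Subgroup.mem_inf.mpr ⟨?_, h5g_mem_A1.mpr ?_⟩
    · have e : c * b⁻¹ * c⁻¹ * b = b⁻¹ * (b * c * b⁻¹ * c⁻¹) * b⁻¹⁻¹ := by group
      rw [e]; exact h2
    · have e : b * (c * b⁻¹ * c⁻¹ * b) * b⁻¹ = b * c * b⁻¹ * c⁻¹ := by group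
      rw [e]; exact (Subgroup.mem_inf.mp ht).1

theorem h5g_gen_mul {A : Subgroup S} {b : S}
    (hA : ∀ a ∈ A, ∀ a' ∈ A, a * a' = a' * a)
    (hbN : b ∈ Subgroup.normalizer ((Subgroup.normalizer (A : Set S)) : Set S))
    {a a' : S} (ha : a ∈ A) (ha' : a' ∈ A) :
    ∃ z ∈ A ⊓ h5gA1 A b,
      (a * b⁻¹ * a⁻¹ * b) * (a' * b⁻¹ * a'⁻¹ * b) = (a' * a) * b⁻¹ * (a' * a)⁻¹ * b * z := by
  have hz : ⁅a * b⁻¹ * a⁻¹ * b, a'⁆ ∈ A ⊓ h5gA1 A b := h5g_HA hA hbN (h5g_gen_mem_H ha) ha'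
  refine ⟨⁅a * b⁻¹ * a⁻¹ * b, a'⁆, hz, ?_⟩
  have hcen := h5g_Z_central hA hz (h5g_gen_mem_H (b := b) (A.mul_mem ha' ha))
  rw [← hcen]
  simp only [commutatorElement_def]
  group

theorem h5g_star_surj {A B : Subgroup S} [B.Normal] (hBA : ⁅B, B⁆ ≤ A) {b : S} (hb : b ∈ B)
    (hA : ∀ a ∈ A, ∀ a' ∈ A, a * a' = a' * a)
    (hbN : b ∈ Subgroup.normalizer ((Subgroup.normalizer (A : Set S)) : Set S))
    {x : S} (hx : x ∈ h5gStar A b) :
    ∃ a ∈ A, ∃ z ∈ A ⊓ h5gA1 A b, x = (a * b⁻¹ * a⁻¹ * b) * z := by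
  have hcl : h5gStar A b =
      Subgroup.closure (((A ⊓ h5gA1 A b : Subgroup S) : Set S) ∪ h5gGen A b) := by
    unfold h5gStar
    rw [Subgroup.closure_union, Subgroup.closure_eq]
  have hx' : x ∈ Subgroup.closure (((A ⊓ h5gA1 A b : Subgroup S) : Set S) ∪ h5gGen A b) :=
    hcl ▸ hx
  induction hx' using Subgroup.closure_induction with
  | mem y hy =>
    rcases hy with hy | ⟨a, ha, rfl⟩
    · exact ⟨1, A.one_mem, y, hy, by group⟩
    · exact ⟨a, ha, 1, Subgroup.one_mem _, by group⟩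
  | one => exact ⟨1, A.one_mem, 1, Subgroup.one_mem _, by group⟩
  | mul y y' hy hy' ihy ihy' =>
    obtain ⟨a, ha, z, hz, rfl⟩ := ihy (hcl ▸ hy)
    obtain ⟨a', ha', z', hz', rfl⟩ := ihy' (hcl ▸ hy')
    obtain ⟨w, hw, hmul⟩ := h5g_gen_mul hA hbN (b := b) ha ha'
    refine ⟨a' * a, A.mul_mem ha' ha, w * z * z', Subgroup.mul_mem _ (Subgroup.mul_mem _ hw hz) hz',
      ?_⟩
    have hcen := h5g_Z_central hA hz (h5g_gen_mem_H (b := b) ha')
    calc a * b⁻¹ * a⁻¹ * b * z * (a' * b⁻¹ * a'⁻¹ * b * z')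
        = a * b⁻¹ * a⁻¹ * b * (z * (a' * b⁻¹ * a'⁻¹ * b)) * z' := by group
      _ = a * b⁻¹ * a⁻¹ * b * ((a' * b⁻¹ * a'⁻¹ * b) * z) * z' := by rw [hcen]
      _ = ((a * b⁻¹ * a⁻¹ * b) * (a' * b⁻¹ * a'⁻¹ * b)) * z * z' := by group
      _ = (a' * a) * b⁻¹ * (a' * a)⁻¹ * b * w * z * z' := by rw [hmul]
      _ = (a' * a) * b⁻¹ * (a' * a)⁻¹ * b * (w * z * z') := by group
  | inv y hy ihy =>
    obtain ⟨a, ha, z, hz, rfl⟩ := ihy (hcl ▸ hy)
    obtain ⟨w, hw, hmul⟩ := h5g_gen_mul hA hbN (b := b) ha (A.inv_mem ha)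
    have e1 : a⁻¹ * a * b⁻¹ * (a⁻¹ * a)⁻¹ * b = 1 := by group
    rw [e1, one_mul] at hmul
    refine ⟨a⁻¹, A.inv_mem ha, w⁻¹ * z⁻¹,
      Subgroup.mul_mem _ (Subgroup.inv_mem _ hw) (Subgroup.inv_mem _ hz), ?_⟩
    have hcen := h5g_Z_central hA (Subgroup.inv_mem _ hz)
      (Subgroup.inv_mem _ (h5g_gen_mem_H (b := b) ha))
    have h3 : (a * b⁻¹ * a⁻¹ * b)⁻¹ = (a⁻¹ * b⁻¹ * a⁻¹⁻¹ * b) * w⁻¹ := by
      rw [← hmul]; group
    calc (a * b⁻¹ * a⁻¹ * b * z)⁻¹ = z⁻¹ * (a * b⁻¹ * a⁻¹ * b)⁻¹ := by group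
      _ = (a * b⁻¹ * a⁻¹ * b)⁻¹ * z⁻¹ := hcen
      _ = (a⁻¹ * b⁻¹ * a⁻¹⁻¹ * b) * w⁻¹ * z⁻¹ := by rw [h3]
      _ = a⁻¹ * b⁻¹ * a⁻¹⁻¹ * b * (w⁻¹ * z⁻¹) := by group

end

theorem h5g_card_range_eq {α β γ : Type*} (f : α → β) (g : α → γ)
    (h : ∀ x y, f x = f y ↔ g x = g y) : Nat.card (Set.range f) = Nat.card (Set.range g) := by
  classical
  let F : Set.range f → Set.range g := fun y => ⟨g (Classical.choose y.2), Set.mem_range_self _⟩
  apply Nat.card_congr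
  refine Equiv.ofBijective F ⟨?_, ?_⟩
  · rintro ⟨y, hy⟩ ⟨y', hy'⟩ hF
    have h1 : g (Classical.choose hy) = g (Classical.choose hy') := congrArg Subtype.val hF
    have h2 := (h _ _).mpr h1
    rw [Classical.choose_spec hy, Classical.choose_spec hy'] at h2
    exact Subtype.ext h2
  · rintro ⟨z, x, rfl⟩
    refine ⟨⟨f x, Set.mem_range_self x⟩, ?_⟩
    apply Subtype.ext
    change g (Classical.choose (Set.mem_range_self x)) = g x
    exact (h _ _).mp (Classical.choose_spec (Set.mem_range_self (f := f) x))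

section
variable {S : Type*} [Group S]

theorem h5g_conj_Z_iff {A : Subgroup S} {b : S}
    (hA : ∀ a ∈ A, ∀ a' ∈ A, a * a' = a' * a)
    {y x : S} (hy : y ∈ A ⊔ h5gA1 A b) :
    y * x * y⁻¹ ∈ A ⊓ h5gA1 A b ↔ x ∈ A ⊓ h5gA1 A b := by
  constructor
  · intro h
    have hcen := h5g_Z_central hA h hy
    have e : x = y⁻¹ * ((y * x * y⁻¹) * y) := by group
    rw [e, hcen]
    have e2 : y⁻¹ * (y * (y * x * y⁻¹)) = y * x * y⁻¹ := by group
    rw [e2]; exact h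
  · intro h
    have hcen := h5g_Z_central hA h hy
    have e : y * x * y⁻¹ = (y * x) * y⁻¹ := rfl
    rw [e, ← hcen]
    have e2 : x * y * y⁻¹ = x := by group
    rw [e2]; exact h

theorem h5g_star_coe {A B : Subgroup S} [B.Normal] (hBA : ⁅B, B⁆ ≤ A) {b : S} (hb : b ∈ B)
    (hA : ∀ a ∈ A, ∀ a' ∈ A, a * a' = a' * a)
    (hbN : b ∈ Subgroup.normalizer ((Subgroup.normalizer (A : Set S)) : Set S)) :
    ((h5gStar A b : Subgroup S) : Set S) =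
      h5gGen A b * ((A ⊓ h5gA1 A b : Subgroup S) : Set S) := by
  ext x
  constructor
  · intro hx
    obtain ⟨a, ha, z, hz, rfl⟩ := h5g_star_surj hBA hb hA hbN hx
    exact Set.mul_mem_mul ⟨a, ha, rfl⟩ hz
  · rintro ⟨d, ⟨a, ha, rfl⟩, z, hz, rfl⟩
    refine Subgroup.mul_mem _ ?_ ?_
    · exact Subgroup.mem_sup_right (Subgroup.subset_closure ⟨a, ha, rfl⟩)
    · exact Subgroup.mem_sup_left hz

theorem h5g_card_star {A B : Subgroup S} [B.Normal] (hBA : ⁅B, B⁆ ≤ A) {b : S} (hb : b ∈ B)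
    (hA : ∀ a ∈ A, ∀ a' ∈ A, a * a' = a' * a)
    (hbN : b ∈ Subgroup.normalizer ((Subgroup.normalizer (A : Set S)) : Set S)) :
    Nat.card (h5gStar A b) = Nat.card A := by
  have h1 : Nat.card (h5gStar A b) =
      Nat.card ((h5gGen A b * ((A ⊓ h5gA1 A b : Subgroup S) : Set S) : Set S)) := by
    rw [← h5g_star_coe hBA hb hA hbN]; rfl
  have hAZ : (A : Set S) = (A : Set S) * ((A ⊓ h5gA1 A b : Subgroup S) : Set S) := by
    ext x
    constructor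
    · intro hx
      exact ⟨x, hx, 1, Subgroup.one_mem _, mul_one x⟩
    · rintro ⟨a, ha, z, hz, rfl⟩
      exact A.mul_mem ha (Subgroup.mem_inf.mp hz).1
  have h2 : Nat.card A =
      Nat.card (((A : Set S) * ((A ⊓ h5gA1 A b : Subgroup S) : Set S) : Set S)) := by
    rw [← hAZ]; rfl
  rw [h1, h2, Subgroup.card_mul_eq_card_subgroup_mul_card_quotient,
    Subgroup.card_mul_eq_card_subgroup_mul_card_quotient]
  congr 1
  have e1 : (QuotientGroup.mk : S → S ⧸ (A ⊓ h5gA1 A b)) '' (h5gGen A b) =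
      Set.range (fun a : A => (QuotientGroup.mk ((a : S) * b⁻¹ * (a : S)⁻¹ * b) :
        S ⧸ (A ⊓ h5gA1 A b))) := by
    ext q
    constructor
    · rintro ⟨d, ⟨a, ha, rfl⟩, rfl⟩
      exact ⟨⟨a, ha⟩, rfl⟩
    · rintro ⟨a, rfl⟩
      exact ⟨_, ⟨a.1, a.2, rfl⟩, rfl⟩
  have e2 : (QuotientGroup.mk : S → S ⧸ (A ⊓ h5gA1 A b)) '' (A : Set S) =
      Set.range (fun a : A => (QuotientGroup.mk (a : S) : S ⧸ (A ⊓ h5gA1 A b))) := by
    ext q
    constructor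
    · rintro ⟨a, ha, rfl⟩
      exact ⟨⟨a, ha⟩, rfl⟩
    · rintro ⟨a, rfl⟩
      exact ⟨a.1, a.2, rfl⟩
  rw [e1, e2]
  apply h5g_card_range_eq
  rintro ⟨a, ha⟩ ⟨a', ha'⟩
  simp only
  rw [QuotientGroup.eq, QuotientGroup.eq]
  have hc : a⁻¹ * a' ∈ A := A.mul_mem (A.inv_mem ha) ha'
  rw [← h5g_ker hBA hb hc]
  have hx1 : b⁻¹ * a * b ∈ A ⊔ h5gA1 A b := Subgroup.mem_sup_right (h5g_conj_mem_A1 ha)
  have e3 : (a * b⁻¹ * a⁻¹ * b)⁻¹ * (a' * b⁻¹ * a'⁻¹ * b) =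
      (b⁻¹ * a * b) * ((a⁻¹ * a') * b⁻¹ * (a⁻¹ * a')⁻¹ * b) * (b⁻¹ * a * b)⁻¹ := by group
  rw [e3]
  exact h5g_conj_Z_iff hA hx1

end

section
variable {S : Type*} [Group S]

theorem h5g_mem_normalizer_of_conj_le [Finite S] {K : Subgroup S} {g : S}
    (h : ∀ x ∈ K, g * x * g⁻¹ ∈ K) : g ∈ Subgroup.normalizer (K : Set S) := by
  have hle : K.map (MulAut.conj g).toMonoidHom ≤ K := by
    rintro _ ⟨x, hx, rfl⟩
    exact h x hx
  have heq : K.map (MulAut.conj g).toMonoidHom = K :=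
    Subgroup.eq_of_le_of_card_ge hle
      (by rw [Subgroup.card_map_of_injective (MulAut.conj g).injective])
  exact Subgroup.mem_normalizer_iff_map_conj_eq.mpr heq

theorem h5g_dB_le_star {A B : Subgroup S} [B.Normal] (hBA : ⁅B, B⁆ ≤ A) {b : S} (hb : b ∈ B) :
    ⁅B, B⁆ ≤ h5gStar A b :=
  le_trans (h5g_dB_le_Z hBA hb) le_sup_left

theorem h5g_H_le_M {A : Subgroup S} {b : S}
    (hbN : b ∈ Subgroup.normalizer ((Subgroup.normalizer (A : Set S)) : Set S)) :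
    A ⊔ h5gA1 A b ≤ Subgroup.normalizer (A : Set S) :=
  sup_le Subgroup.le_normalizer (h5g_A1_le_M hbN)

theorem h5g_star_le_M {A : Subgroup S} {b : S}
    (hbN : b ∈ Subgroup.normalizer ((Subgroup.normalizer (A : Set S)) : Set S)) :
    h5gStar A b ≤ Subgroup.normalizer (A : Set S) :=
  le_trans h5g_star_le_H (h5g_H_le_M hbN)

theorem h5g_A_le_norm_star [Finite S] {A : Subgroup S} {b : S}
    (hA : ∀ a ∈ A, ∀ a' ∈ A, a * a' = a' * a)
    (hbN : b ∈ Subgroup.normalizer ((Subgroup.normalizer (A : Set S)) : Set S)) :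
    A ≤ Subgroup.normalizer ((h5gStar A b : Subgroup S) : Set S) := by
  intro a ha
  apply h5g_mem_normalizer_of_conj_le
  intro x hx
  have h1 : ⁅x, a⁆ ∈ A ⊓ h5gA1 A b := h5g_HA hA hbN (h5g_star_le_H hx) ha
  have e : a * x * a⁻¹ = ⁅x, a⁆⁻¹ * x := by simp only [commutatorElement_def]; group
  rw [e]
  exact Subgroup.mul_mem _ (Subgroup.mem_sup_left (Subgroup.inv_mem _ h1)) hx

theorem h5g_gen_mem_star {A : Subgroup S} {b a : S} (ha : a ∈ A) :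
    a * b⁻¹ * a⁻¹ * b ∈ h5gStar A b :=
  Subgroup.mem_sup_right (Subgroup.subset_closure ⟨a, ha, rfl⟩)

theorem h5g_b_mem_norm_star [Finite S] {A B : Subgroup S} [B.Normal] (hBA : ⁅B, B⁆ ≤ A)
    {b : S} (hb : b ∈ B) :
    b ∈ Subgroup.normalizer ((h5gStar A b : Subgroup S) : Set S) := by
  have h1 : b⁻¹ ∈ Subgroup.normalizer ((h5gStar A b : Subgroup S) : Set S) := by
    apply h5g_mem_normalizer_of_conj_le
    have hle : h5gStar A b ≤ (h5gStar A b).comap (MulAut.conj b⁻¹).toMonoidHom := by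
      apply sup_le
      · intro z hz
        rw [Subgroup.mem_comap]
        change b⁻¹ * z * b⁻¹⁻¹ ∈ h5gStar A b
        have e : b⁻¹ * z * b⁻¹⁻¹ = (z * b⁻¹ * z⁻¹ * b)⁻¹ * z := by group
        rw [e]
        exact Subgroup.mul_mem _ (Subgroup.inv_mem _ (h5g_gen_mem_star (Subgroup.mem_inf.mp hz).1))
          (Subgroup.mem_sup_left hz)
      · rw [Subgroup.closure_le]
        rintro _ ⟨a, ha, rfl⟩
        rw [SetLike.mem_coe, Subgroup.mem_comap]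
        change b⁻¹ * (a * b⁻¹ * a⁻¹ * b) * b⁻¹⁻¹ ∈ h5gStar A b
        have e : b⁻¹ * (a * b⁻¹ * a⁻¹ * b) * b⁻¹⁻¹ =
            ⁅b⁻¹, a * b⁻¹ * a⁻¹ * b⁆ * (a * b⁻¹ * a⁻¹ * b) := by
          simp only [commutatorElement_def]; group
        rw [e]
        refine Subgroup.mul_mem _ ?_ (h5g_gen_mem_star ha)
        exact h5g_dB_le_star hBA hb (Subgroup.commutator_mem_commutator (B.inv_mem hb)
          (h5g_gen_mem_B (A := A) hb))
    intro x hx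
    exact hle hx
  have := Subgroup.inv_mem _ h1
  rwa [inv_inv] at this

theorem h5g_M_le_norm_star [Finite S] {A B : Subgroup S} [B.Normal] (hBA : ⁅B, B⁆ ≤ A)
    {b : S} (hb : b ∈ B)
    (hbN : b ∈ Subgroup.normalizer ((Subgroup.normalizer (A : Set S)) : Set S)) :
    Subgroup.normalizer (A : Set S) ≤
      Subgroup.normalizer ((h5gStar A b : Subgroup S) : Set S) := by
  intro g hg
  apply h5g_mem_normalizer_of_conj_le
  have hginv : g⁻¹ ∈ Subgroup.normalizer (A : Set S) := Subgroup.inv_mem _ hg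
  have hle : h5gStar A b ≤ (h5gStar A b).comap (MulAut.conj g).toMonoidHom := by
    apply sup_le
    · intro z hz
      rw [Subgroup.mem_comap]
      change g * z * g⁻¹ ∈ h5gStar A b
      apply Subgroup.mem_sup_left
      refine Subgroup.mem_inf.mpr ⟨?_, h5g_mem_A1.mpr ?_⟩
      · exact (Subgroup.mem_normalizer_iff.mp hg z).mp (Subgroup.mem_inf.mp hz).1
      · have h1 : b * g * b⁻¹ ∈ Subgroup.normalizer (A : Set S) :=
          (Subgroup.mem_normalizer_iff.mp hbN g).mp hg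
        have h2 := (Subgroup.mem_normalizer_iff.mp h1 (b * z * b⁻¹)).mp
          (h5g_mem_A1.mp (Subgroup.mem_inf.mp hz).2)
        have e : b * (g * z * g⁻¹) * b⁻¹ = b * g * b⁻¹ * (b * z * b⁻¹) * (b * g * b⁻¹)⁻¹ := by
          group
        rw [e]; exact h2
    · rw [Subgroup.closure_le]
      rintro _ ⟨a, ha, rfl⟩
      rw [SetLike.mem_coe, Subgroup.mem_comap]
      change g * (a * b⁻¹ * a⁻¹ * b) * g⁻¹ ∈ h5gStar A b
      have ha' : g * a * g⁻¹ ∈ A := (Subgroup.mem_normalizer_iff.mp hg a).mp ha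
      have hmB : g * b * g⁻¹ * b⁻¹ ∈ B :=
        B.mul_mem (Subgroup.Normal.conj_mem inferInstance _ hb g) (B.inv_mem hb)
      have hmM : g * b * g⁻¹ * b⁻¹ ∈ Subgroup.normalizer (A : Set S) := by
        have h1 : b * g⁻¹ * b⁻¹ ∈ Subgroup.normalizer (A : Set S) :=
          (Subgroup.mem_normalizer_iff.mp hbN g⁻¹).mp hginv
        have e : g * b * g⁻¹ * b⁻¹ = g * (b * g⁻¹ * b⁻¹) := by group
        rw [e]; exact Subgroup.mul_mem _ hg h1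
      generalize hm : g * b * g⁻¹ * b⁻¹ = m at hmB hmM
      have hminv : m⁻¹ ∈ Subgroup.normalizer (A : Set S) := Subgroup.inv_mem _ hmM
      have ha'' : m⁻¹ * (g * a * g⁻¹) * m⁻¹⁻¹ ∈ A :=
        (Subgroup.mem_normalizer_iff.mp hminv _).mp ha'
      rw [inv_inv] at ha''
      have hAB : (g * a * g⁻¹) * (m⁻¹ * (g * a * g⁻¹) * m)⁻¹ ∈ A ⊓ B := by
        refine Subgroup.mem_inf.mpr ⟨A.mul_mem ha' (A.inv_mem ha''), ?_⟩
        have e : (g * a * g⁻¹) * (m⁻¹ * (g * a * g⁻¹) * m)⁻¹ =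
            ((g * a * g⁻¹) * m⁻¹ * (g * a * g⁻¹)⁻¹) * m := by group
        rw [e]
        exact B.mul_mem (Subgroup.Normal.conj_mem inferInstance _ (B.inv_mem hmB) _) hmB
      have e : g * (a * b⁻¹ * a⁻¹ * b) * g⁻¹ =
          ((g * a * g⁻¹) * (m⁻¹ * (g * a * g⁻¹) * m)⁻¹) *
            ((m⁻¹ * (g * a * g⁻¹) * m) * b⁻¹ * (m⁻¹ * (g * a * g⁻¹) * m)⁻¹ * b) := by
        rw [← hm]; group
      rw [e]
      exact Subgroup.mul_mem _ (Subgroup.mem_sup_left (h5g_AB_le_Z hBA hb hAB))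
        (h5g_gen_mem_star ha'')
  intro x hx
  exact hle hx

end

end Cfsg.Agent.Lib.Helper5
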