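import Mathlib
import Cfsg.Agent.S0650
import Cfsg.Agent.Lib.Helper5.Glauberman

set_option autoImplicit false

namespace Cfsg.Agent.Lib.Helper5

open scoped commutatorElement Pointwise

section
variable {S : Type*} [Group S]

theorem h5g_exists_normalizing [Finite S] {p : ℕ} [Fact p.Prime] (hS : IsPGroup p S)
    (M B : Subgroup S) [B.Normal] (h : ¬ B ≤ M) :
    ∃ b ∈ B, b ∈ Subgroup.normalizer (M : Set S) ∧ b ∉ M := by
  have hnil : Group.IsNilpotent ↥(M ⊔ B) := (hS.to_subgroup (M ⊔ B)).isNilpotent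
  have hNC : NormalizerCondition ↥(M ⊔ B) := Group.normalizerCondition_of_isNilpotent
  have hlt : M.subgroupOf (M ⊔ B) < ⊤ := by
    refine lt_of_le_of_ne le_top ?_
    intro heq
    rw [Subgroup.subgroupOf_eq_top] at heq
    exact h (le_trans le_sup_right heq)
  obtain ⟨x, hxN, hxM⟩ := SetLike.exists_of_lt (hNC _ hlt)
  have hxS : (x : S) ∈ Subgroup.normalizer (M : Set S) := by
    apply h5g_mem_normalizer_of_conj_le
    intro y hy
    have hyΓ : y ∈ M ⊔ B := Subgroup.mem_sup_left hy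
    have h1 : (⟨y, hyΓ⟩ : ↥(M ⊔ B)) ∈ M.subgroupOf (M ⊔ B) := by
      rw [Subgroup.mem_subgroupOf]; exact hy
    have h2 := (Subgroup.mem_normalizer_iff.mp hxN ⟨y, hyΓ⟩).mp h1
    rw [Subgroup.mem_subgroupOf] at h2
    simpa using h2
  have hxΓ : (x : S) ∈ ((M ⊔ B : Subgroup S) : Set S) := x.2
  rw [Subgroup.mul_normal] at hxΓ
  obtain ⟨m, hm, b₀, hb₀, hmb⟩ := Set.mem_mul.mp hxΓ
  have hmb' : m * b₀ = (x : S) := hmb
  refine ⟨b₀, hb₀, ?_, ?_⟩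
  · have e : b₀ = m⁻¹ * (x : S) := by rw [← hmb']; group
    rw [e]
    exact Subgroup.mul_mem _ (Subgroup.inv_mem _ (Subgroup.le_normalizer hm)) hxS
  · intro hb₀M
    apply hxM
    rw [Subgroup.mem_subgroupOf, ← hmb']
    exact M.mul_mem hm hb₀M

theorem h5g_star_le_of_normal {A D : Subgroup S} [D.Normal] (hAD : A ≤ D) (b : S) :
    h5gStar A b ≤ D := by
  apply sup_le (le_trans inf_le_left hAD)
  rw [Subgroup.closure_le]
  rintro g ⟨a, ha, rfl⟩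
  have e : a * b⁻¹ * a⁻¹ * b = a * (b⁻¹ * a⁻¹ * b⁻¹⁻¹) := by group
  rw [e]
  exact D.mul_mem (hAD ha)
    (Subgroup.Normal.conj_mem inferInstance _ (D.inv_mem (hAD ha)) b⁻¹)

theorem h5g_family_replacement [Finite S] {p : ℕ} [Fact p.Prime] (hS : IsPGroup p S)
    (hp : p ≠ 2) (D : Subgroup S) [D.Normal] (Q : Subgroup S → Prop)
    (hQc : ∀ A : Subgroup S, Q A → IsMulCommutative A)
    (hQstar : ∀ (A : Subgroup S) (b : S), Q A → IsMulCommutative ↥(h5gStar A b) →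
      Monoid.exponent ↥(h5gStar A b) ∣ Monoid.exponent A → Q (h5gStar A b))
    (B : Subgroup S) [B.Normal]
    (hU : ∃ U : Subgroup S, (U ≤ D ∧ Q U ∧ ∀ V : Subgroup S, V ≤ D → Q V → Nat.card V ≤ Nat.card U) ∧
      ⁅B, B⁆ ≤ U ∧ ¬ B ≤ U) :
    ∃ A : Subgroup S, (A ≤ D ∧ Q A ∧ ∀ V : Subgroup S, V ≤ D → Q V → Nat.card V ≤ Nat.card A) ∧
      ⁅B, B⁆ ≤ A ∧ ¬ B ≤ A ∧ B ≤ Subgroup.normalizer (A : Set S) := by
  classical
  have hfin : Set.Finite {U : Subgroup S |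
      (U ≤ D ∧ Q U ∧ ∀ V : Subgroup S, V ≤ D → Q V → Nat.card V ≤ Nat.card U) ∧
      ⁅B, B⁆ ≤ U ∧ ¬ B ≤ U} := Set.toFinite _
  obtain ⟨A, hAmem, hAmax⟩ := Set.exists_max_image _
    (fun U : Subgroup S => Nat.card (U ⊓ B : Subgroup S)) hfin hU
  obtain ⟨⟨hAD, hQA, hAcard⟩, hBA, hBnA⟩ := hAmem
  refine ⟨A, ⟨hAD, hQA, hAcard⟩, hBA, hBnA, ?_⟩
  by_contra hnot
  obtain ⟨b, hb, hbN, hbA⟩ := h5g_exists_normalizing hS (Subgroup.normalizer (A : Set S)) B hnot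
  have hAc := hQc A hQA
  obtain ⟨h1, h2, h3, h4, h5, -, -, -, -, h10⟩ :=
    Cfsg.Agent.S0650.main hS B (fun h => absurd h hp) A hAc hBA hnot b hb hbN hbA
  have hQs : Q (h5gStar A b) := hQstar A b hQA h2 (h10 hp)
  have hmem : (h5gStar A b ≤ D ∧ Q (h5gStar A b) ∧
      ∀ V : Subgroup S, V ≤ D → Q V → Nat.card V ≤ Nat.card (h5gStar A b)) ∧
      ⁅B, B⁆ ≤ h5gStar A b ∧ ¬ B ≤ h5gStar A b := by
    refine ⟨⟨h5g_star_le_of_normal hAD b, hQs, ?_⟩, h3, ?_⟩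
    · intro V hVD hQV
      rw [h1]
      exact hAcard V hVD hQV
    · intro hle
      exact (ne_of_lt h5) (inf_eq_right.mpr hle)
  have hmax := hAmax _ hmem
  have hlt : Nat.card (A ⊓ B : Subgroup S) < Nat.card (h5gStar A b ⊓ B : Subgroup S) := by
    by_contra hcon
    push Not at hcon
    exact (ne_of_lt h4) (Subgroup.eq_of_le_of_card_ge h4.le hcon)
  exact absurd hmax (not_le_of_gt hlt)

end

end Cfsg.Agent.Lib.Helper5
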