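import Mathlib
import Cfsg.Agent.Lib.Helper5.PConstr
import Cfsg.Agent.S0028
import Cfsg.Agent.S0630

set_option autoImplicit false

namespace Cfsg.Agent.Lib.Helper5

open scoped Pointwise

theorem h5_pCore_map_le {A B : Type*} [Group A] [Group B] {p : ℕ} [Fact p.Prime]
    (e : A ≃* B) : (Cfsg.pCore p A).map e.toMonoidHom ≤ Cfsg.pCore p B := by
  apply Cfsg.Agent.Lib.Helper1.le_pCore
  · exact Subgroup.Normal.map (Cfsg.pCore_normal p A) e.toMonoidHom e.surjective
  · exact (Cfsg.Agent.Lib.Helper1.pCore_isPGroup p).map _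

theorem h5_mem_pCore_equiv {A B : Type*} [Group A] [Group B] {p : ℕ} [Fact p.Prime]
    (e : A ≃* B) (a : A) : e a ∈ Cfsg.pCore p B ↔ a ∈ Cfsg.pCore p A := by
  constructor
  · intro h
    have h1 : e.symm (e a) ∈ Cfsg.pCore p A := h5_pCore_map_le e.symm ⟨e a, h, rfl⟩
    rwa [e.symm_apply_apply] at h1
  · intro h
    exact h5_pCore_map_le e ⟨a, h, rfl⟩

theorem h5_centralizer_pCore_le_of_equiv {A B : Type*} [Group A] [Group B] {p : ℕ} [Fact p.Prime]
    (e : A ≃* B) (h : Subgroup.centralizer (Cfsg.pCore p A : Set A) ≤ Cfsg.pCore p A) :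
    Subgroup.centralizer (Cfsg.pCore p B : Set B) ≤ Cfsg.pCore p B := by
  intro b hb
  rw [Subgroup.mem_centralizer_iff] at hb
  have h1 : e.symm b ∈ Subgroup.centralizer (Cfsg.pCore p A : Set A) := by
    rw [Subgroup.mem_centralizer_iff]
    intro a ha
    have h2 := hb (e a) ((h5_mem_pCore_equiv e a).mpr ha)
    apply e.injective
    rw [map_mul, map_mul, e.apply_symm_apply]
    exact h2
  have h3 := h h1
  rw [← h5_mem_pCore_equiv e, e.apply_symm_apply] at h3
  exact h3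

theorem h5_isPConstrained_iff_quotient {G : Type*} [Group G] [Finite G] {p : ℕ} [Fact p.Prime] :
    Cfsg.IsPConstrained p G ↔
      Subgroup.centralizer (Cfsg.pCore p (G ⧸ Cfsg.pPrimeCore p G) : Set (G ⧸ Cfsg.pPrimeCore p G)) ≤
        Cfsg.pCore p (G ⧸ Cfsg.pPrimeCore p G) := by
  have h1 : Cfsg.pPrimeCore p (G ⧸ Cfsg.pPrimeCore p G) = ⊥ :=
    Cfsg.Agent.Lib.Helper1.pPrimeCore_quotient_eq_bot p
  have h2 := h5_pPrimePCore_eq_pCore h1
  have h3 := h5_pPrimePCore_isPGroup h1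
  rw [Cfsg.Agent.S0630.result, h5_isPConstrained_iff_of_isPGroup h3, h2]

theorem h5_isPConstrained_iff_of_surjective {H Y : Type*} [Group H] [Finite H] [Group Y]
    {p : ℕ} [Fact p.Prime] (f : H →* Y) (hf : Function.Surjective f)
    (hker : f.ker = Cfsg.pPrimeCore p H) :
    Cfsg.IsPConstrained p H ↔
      Subgroup.centralizer (Cfsg.pCore p Y : Set Y) ≤ Cfsg.pCore p Y := by
  rw [h5_isPConstrained_iff_quotient]
  let e : H ⧸ Cfsg.pPrimeCore p H ≃* Y :=
    (QuotientGroup.quotientMulEquivOfEq hker.symm).trans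
      (QuotientGroup.quotientKerEquivOfSurjective f hf)
  exact ⟨h5_centralizer_pCore_le_of_equiv e, h5_centralizer_pCore_le_of_equiv e.symm⟩


theorem h5_local_constrained {X : Type*} [Group X] [Finite X] {p : ℕ} [Fact p.Prime]
    (hX : Subgroup.centralizer (Cfsg.pCore p X : Set X) ≤ Cfsg.pCore p X) (R Y : Subgroup X)
    (hR : IsPGroup p R) (hYN : Y ≤ Subgroup.normalizer (R : Set X))
    (hCY : Subgroup.centralizer (R : Set X) ≤ Y)
    (hRY : R ≤ Y ∨ Y ≤ Subgroup.centralizer (R : Set X)) :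
    Subgroup.centralizer (Cfsg.pCore p ↥Y : Set ↥Y) ≤ Cfsg.pCore p ↥Y := by
  set Q := Cfsg.pCore p X with hQ
  have hQn : Q.Normal := Cfsg.pCore_normal p X
  have hQp : IsPGroup p Q := Cfsg.Agent.Lib.Helper1.pCore_isPGroup p
  have hnormtop : Subgroup.normalizer (Q : Set X) = ⊤ := Subgroup.normalizer_eq_top_iff.mpr hQn
  have hOYn : (Cfsg.pCore p ↥Y).Normal := Cfsg.pCore_normal p ↥Y
  have hT : ∀ t ∈ Q ⊓ Subgroup.centralizer (R : Set X), ∃ ht : t ∈ Y, (⟨t, ht⟩ : ↥Y) ∈ Cfsg.pCore p ↥Y := by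
    set T := Q ⊓ Subgroup.centralizer (R : Set X) with hTdef
    have hTY : T ≤ Y := le_trans inf_le_right hCY
    have hTn : (T.subgroupOf Y).Normal := by
      constructor
      intro t ht y
      rw [Subgroup.mem_subgroupOf] at ht ⊢
      have h1 : ((y * t * y⁻¹ : ↥Y) : X) = (y : X) * (t : X) * (y : X)⁻¹ := by simp
      rw [h1]
      have ht1 : (t : X) ∈ Q := (Subgroup.mem_inf.mp ht).1
      have ht2 : (t : X) ∈ Subgroup.centralizer (R : Set X) := (Subgroup.mem_inf.mp ht).2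
      refine Subgroup.mem_inf.mpr ⟨hQn.conj_mem _ ht1 _, ?_⟩
      rw [Subgroup.mem_centralizer_iff]
      intro r hr
      have hyn : (y : X)⁻¹ ∈ Subgroup.normalizer (R : Set X) := Subgroup.inv_mem _ (hYN y.2)
      have h2 : (y : X)⁻¹ * r * ((y : X)⁻¹)⁻¹ ∈ R := (Subgroup.mem_normalizer_iff.mp hyn r).mp hr
      have h3 := (Subgroup.mem_centralizer_iff.mp ht2) _ h2
      calc r * ((y : X) * (t : X) * (y : X)⁻¹)
          = (y : X) * (((y : X)⁻¹ * r * ((y : X)⁻¹)⁻¹) * (t : X)) * (y : X)⁻¹ := by group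
        _ = (y : X) * ((t : X) * ((y : X)⁻¹ * r * ((y : X)⁻¹)⁻¹)) * (y : X)⁻¹ := by rw [h3]
        _ = (y : X) * (t : X) * (y : X)⁻¹ * r := by group
    have hTp : IsPGroup p ↥(T.subgroupOf Y) := by
      have h1 : IsPGroup p T := hQp.to_le inf_le_left
      exact h1.comap_of_injective Y.subtype Y.subtype_injective
    have hle : T.subgroupOf Y ≤ Cfsg.pCore p ↥Y := Cfsg.Agent.Lib.Helper1.le_pCore hTn hTp
    intro t ht
    exact ⟨hTY ht, hle (Subgroup.mem_subgroupOf.mpr ht)⟩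
  have hDn : (Subgroup.centralizer (Cfsg.pCore p ↥Y : Set ↥Y)).Normal := Subgroup.normal_centralizer
  apply Cfsg.Agent.Lib.Helper1.le_pCore hDn
  intro d
  set d₀ : X := ((d : ↥Y) : X) with hd₀
  have hdY : d₀ ∈ Y := (d : ↥Y).2
  have hdcent : ∀ w : ↥Y, w ∈ Cfsg.pCore p ↥Y → (w : X) * d₀ = d₀ * (w : X) := by
    intro w hw
    have h1 := (Subgroup.mem_centralizer_iff.mp d.2) w hw
    exact congrArg Subtype.val h1
  have hdR : ∀ r ∈ R, r * d₀ = d₀ * r := by
    rcases hRY with hRY | hRY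
    · intro r hr
      have hRn : (R.subgroupOf Y).Normal := by
        constructor
        intro t ht y
        rw [Subgroup.mem_subgroupOf] at ht ⊢
        have h1 : ((y * t * y⁻¹ : ↥Y) : X) = (y : X) * (t : X) * (y : X)⁻¹ := by simp
        rw [h1]
        exact (Subgroup.mem_normalizer_iff.mp (hYN y.2) _).mp ht
      have hRp : IsPGroup p ↥(R.subgroupOf Y) := hR.comap_of_injective Y.subtype Y.subtype_injective
      have hle : R.subgroupOf Y ≤ Cfsg.pCore p ↥Y := Cfsg.Agent.Lib.Helper1.le_pCore hRn hRp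
      have h2 : (⟨r, hRY hr⟩ : ↥Y) ∈ Cfsg.pCore p ↥Y := hle (Subgroup.mem_subgroupOf.mpr hr)
      exact hdcent _ h2
    · intro r hr
      exact (Subgroup.mem_centralizer_iff.mp (hRY hdY)) r hr
  have hn0 : orderOf d₀ ≠ 0 := (orderOf_pos d₀).ne'
  obtain ⟨a, m, hm, hnm⟩ := Nat.exists_eq_pow_mul_and_not_dvd hn0 p (Fact.out : p.Prime).ne_one
  set x : X := d₀ ^ (p ^ a) with hx
  set B : Subgroup X := Subgroup.zpowers x with hB
  have hxm : x ^ m = 1 := by
    rw [hx, ← pow_mul, ← hnm, pow_orderOf_eq_one]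
  have hBcop : (Nat.card B).Coprime p := by
    rw [hB, Nat.card_zpowers]
    have h1 : orderOf x ∣ m := orderOf_dvd_of_pow_eq_one hxm
    have h2 : m.Coprime p := ((Fact.out : p.Prime).coprime_iff_not_dvd.mpr hm).symm
    exact Nat.Coprime.coprime_dvd_left h1 h2
  have hBcomm : ∀ z : X, z * d₀ = d₀ * z → ∀ b ∈ B, z * b = b * z := by
    intro z hz b hb
    obtain ⟨j, rfl⟩ := Subgroup.mem_zpowers_iff.mp hb
    have h1 : Commute z d₀ := hz
    exact (h1.pow_right (p ^ a)).zpow_right j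
  have hPQ : R ≤ Subgroup.centralizer (B : Set X) := by
    intro r hr
    rw [Subgroup.mem_centralizer_iff]
    intro b hb
    exact (hBcomm r (hdR r hr) b hb).symm
  have hCond : Q ⊓ Subgroup.centralizer (R : Set X) ≤ Subgroup.centralizer (B : Set X) := by
    intro t ht
    obtain ⟨htY, htO⟩ := hT t ht
    rw [Subgroup.mem_centralizer_iff]
    intro b hb
    exact (hBcomm t (hdcent _ htO) b hb).symm
  have hBQ : B ≤ Subgroup.centralizer (Q : Set X) :=
    Cfsg.Agent.S0028.result p R B Q hR hBcop hQp hPQ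
      (by rw [hnormtop]; exact le_top) (by rw [hnormtop]; exact le_top) hCond
  have hxB : x ∈ B := Subgroup.mem_zpowers x
  have hxQ : x ∈ Q := hX (hBQ hxB)
  have hx1 : x = 1 := h5_eq_one_of_mem_pgroup_of_mem_coprime hQp hBcop hxQ hxB
  refine ⟨a, ?_⟩
  apply Subtype.ext
  apply Subtype.ext
  simp only [Subgroup.coe_pow, Subgroup.coe_one]
  exact hx1

end Cfsg.Agent.Lib.Helper5
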