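import Mathlib
import Cfsg.Agent.S0593
import Cfsg.Agent.S0595

set_option autoImplicit false

namespace Cfsg.Agent.Lib.Helper5

open Cfsg

theorem sylow_two_noncomm_of_subgroup {Γ : Type*} [Group Γ] [Finite Γ] {q : ℕ} [Fact q.Prime]
    (Γ₀ : Subgroup Γ) (T₀ : Sylow q Γ₀) (h : ¬ IsMulCommutative T₀) (T : Sylow q Γ) :
    ¬ IsMulCommutative T := by
  intro hT
  apply h
  have hR : IsPGroup q ((T₀ : Subgroup Γ₀).map Γ₀.subtype) := by
    intro y
    obtain ⟨t, ht, hty⟩ := y.2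
    obtain ⟨k, hk⟩ := T₀.isPGroup' ⟨t, ht⟩
    refine ⟨k, ?_⟩
    apply Subtype.ext
    have h1 := congrArg (fun z => ((z : Γ₀) : Γ)) (congrArg Subtype.val hk)
    simp only [Subgroup.coe_pow, Subgroup.coe_one] at h1 ⊢
    rw [← hty]
    exact h1
  have hcomm := Cfsg.Agent.S0595.commutative_of_sylow_commutative T hT _ hR
  refine ⟨⟨fun x y => ?_⟩⟩
  have hxm : ((x : Γ₀) : Γ) ∈ (T₀ : Subgroup Γ₀).map Γ₀.subtype := ⟨x, x.2, rfl⟩
  have hym : ((y : Γ₀) : Γ) ∈ (T₀ : Subgroup Γ₀).map Γ₀.subtype := ⟨y, y.2, rfl⟩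
  have h1 := hcomm _ hxm _ hym
  apply Subtype.ext
  apply Subtype.ext
  exact h1

section Abs
variable {p : ℕ} [Fact p.Prime] {Γ : Type*} [Group Γ] {E : Type*} [CommGroup E]

def QuadA (α : Γ →* MulAut E) (x : Γ) : Prop := ∀ v : E, α x (α x v / v) = α x v / v

theorem pow_eq_one_of_module [Module (ZMod p) (Additive E)] (v : E) : v ^ p = 1 := by
  have h : (p : ℕ) • (Additive.ofMul v) = 0 := by
    rw [← Nat.cast_smul_eq_nsmul (ZMod p), CharP.cast_eq_zero (ZMod p) p, zero_smul]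
  exact h

theorem quadA_pow_apply (α : Γ →* MulAut E) (x : Γ) (hx : QuadA α x) (v : E) (n : ℕ) :
    α (x ^ n) v = v * (α x v / v) ^ n := by
  induction n with
  | zero => simp
  | succ n ih =>
    rw [pow_succ', map_mul, MulAut.mul_apply, ih, map_mul, map_pow, hx v, pow_succ]
    have : α x v * (α x v / v) ^ n = v * ((α x v / v) ^ n * (α x v / v)) := by
      rw [mul_comm ((α x v / v) ^ n), ← mul_assoc, mul_div_cancel]
    exact this

theorem quadA_pow_p [Module (ZMod p) (Additive E)] (α : Γ →* MulAut E)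
    (hα : Function.Injective α) (x : Γ) (hx : QuadA α x) : x ^ p = 1 := by
  apply hα
  rw [map_one]
  ext v
  rw [quadA_pow_apply α x hx, pow_eq_one_of_module (p := p), mul_one, MulAut.one_apply]

theorem quadA_conj (α : Γ →* MulAut E) (x g : Γ) (hx : QuadA α x) : QuadA α (g * x * g⁻¹) := by
  intro v
  have h1 : ∀ w : E, α (g * x * g⁻¹) w = α g (α x (α g⁻¹ w)) := by
    intro w
    rw [map_mul, map_mul, MulAut.mul_apply, MulAut.mul_apply]
  have h2 : ∀ w : E, α g⁻¹ (α g w) = w := by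
    intro w
    rw [← MulAut.mul_apply, ← map_mul, inv_mul_cancel, map_one, MulAut.one_apply]
  have h3 : ∀ w : E, α g (α g⁻¹ w) = w := by
    intro w
    rw [← MulAut.mul_apply, ← map_mul, mul_inv_cancel, map_one, MulAut.one_apply]
  have h4 : α (g * x * g⁻¹) v / v = α g (α x (α g⁻¹ v) / α g⁻¹ v) := by
    rw [h1, map_div, h3]
  rw [h4, h1, h2, hx]

theorem abs595 [Finite Γ] [Finite E] [Module (ZMod p) (Additive E)] (hp : p ≠ 2)
    (α : Γ →* MulAut E) (hα : Function.Injective α) (x : Γ) (hx : QuadA α x)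
    (hxO : x ∉ Cfsg.pCore p Γ) (T : Sylow 2 Γ) : ¬ IsMulCommutative T := by
  have hxp : x ^ p = 1 := quadA_pow_p α hα x hx
  obtain ⟨g, hg⟩ := Cfsg.Agent.S0595.exists_conj_not_pgroup x hxp hxO
  set Γ₀ := Subgroup.closure ({x, g * x * g⁻¹} : Set Γ) with hΓ₀
  have hxm : x ∈ Γ₀ := Subgroup.subset_closure (by simp)
  have hym : g * x * g⁻¹ ∈ Γ₀ := Subgroup.subset_closure (by simp)
  have hgen : Subgroup.closure ({⟨x, hxm⟩, ⟨g * x * g⁻¹, hym⟩} : Set Γ₀) = ⊤ := by
    apply Subgroup.map_injective Γ₀.subtype_injective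
    rw [MonoidHom.map_closure, ← MonoidHom.range_eq_map, Subgroup.range_subtype, Set.image_pair]
    rfl
  have hinj : Function.Injective (α.comp Γ₀.subtype) := hα.comp Γ₀.subtype_injective
  have hT₀ := Cfsg.Agent.S0593.lemB (p := p) hp (α.comp Γ₀.subtype) hinj ⟨x, hxm⟩
    ⟨g * x * g⁻¹, hym⟩ hgen (fun v => hx v) (fun v => quadA_conj α x g hx v) hg default
  exact sylow_two_noncomm_of_subgroup Γ₀ default hT₀ T

end Abs

end Cfsg.Agent.Lib.Helper5
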