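import Mathlib
import Cfsg.Agent.S0592

set_option autoImplicit false

namespace Cfsg.Agent.Lib.Helper5

open Cfsg.Agent.S0592

section Direct
variable {K : Type*} [Field K] {Γ : Type*} [Group Γ] {V : Type*} [AddCommGroup V] [Module K V]

theorem exists_hom_of_finrank_two' [FiniteDimensional K V]
    (h2 : Module.finrank K V = 2) (ρ : Γ →* (V →ₗ[K] V)) (x y : Γ)
    (hgen : Subgroup.closure {x, y} = (⊤ : Subgroup Γ))
    (hx : ∀ w, ρ x (ρ x w - w) = ρ x w - w) (hy : ∀ w, ρ y (ρ y w - w) = ρ y w - w) :
    ∃ φ : Γ →* Matrix.SpecialLinearGroup (Fin 2) K, ∀ g : Γ, φ g = 1 → ρ g = 1 := by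
  classical
  let b : Module.Basis (Fin 2) K V := Module.finBasisOfFinrankEq K V h2
  let M : Γ →* Matrix (Fin 2) (Fin 2) K :=
    ((LinearMap.toMatrixAlgEquiv b : (V →ₗ[K] V) ≃ₐ[K] Matrix (Fin 2) (Fin 2) K) :
      (V →ₗ[K] V) →* Matrix (Fin 2) (Fin 2) K).comp ρ
  have hMapp : ∀ g, M g = LinearMap.toMatrixAlgEquiv b (ρ g) := fun g => rfl
  have hquad : ∀ z : Γ, (∀ w, ρ z (ρ z w - w) = ρ z w - w) → (M z).det = 1 := by
    intro z hz
    have hN : (ρ z - 1) * (ρ z - 1) = 0 := by
      ext w
      simp only [Module.End.mul_apply, LinearMap.sub_apply, Module.End.one_apply,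
        LinearMap.zero_apply]
      rw [hz w, sub_self]
    have hN' : (M z - 1) * (M z - 1) = 0 := by
      have := congrArg (LinearMap.toMatrixAlgEquiv b) hN
      rw [map_mul, map_sub, map_one, map_zero] at this
      exact this
    have := det_one_add_of_sq_zero _ hN'
    rwa [add_sub_cancel] at this
  have hdet : ∀ g : Γ, (M g).det = 1 := by
    have hd : (Matrix.detMonoidHom.comp M : Γ →* K) = 1 := by
      apply MonoidHom.eq_of_eqOn_dense hgen
      intro z hz
      rcases hz with rfl | hz
      · exact hquad _ hx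
      · rw [Set.mem_singleton_iff] at hz
        subst hz
        exact hquad _ hy
    intro g
    have := congrArg (fun f : Γ →* K => f g) hd
    exact this
  let φ : Γ →* Matrix.SpecialLinearGroup (Fin 2) K :=
    { toFun := fun g => ⟨M g, hdet g⟩
      map_one' := Subtype.ext (map_one M)
      map_mul' := fun g h => Subtype.ext (map_mul M g h) }
  refine ⟨φ, fun g hg => ?_⟩
  have h1 : M g = 1 := congrArg Subtype.val hg
  rw [hMapp] at h1
  have h3 : LinearMap.toMatrixAlgEquiv b (ρ g) = LinearMap.toMatrixAlgEquiv b 1 := by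
    rw [h1, map_one]
  exact (LinearMap.toMatrixAlgEquiv b).injective h3

end Direct

section Main
universe u v
variable {K : Type*} [Field K] [Fintype K] {p : ℕ} [Fact p.Prime] [CharP K p] {Γ : Type v} [Group Γ]

theorem main_aux_sub (x y : Γ) (hgen : Subgroup.closure {x, y} = (⊤ : Subgroup Γ)) (e k : ℕ)
    (hk : k ∣ Fintype.card K - 1) (hxy : (x * y) ^ (p ^ e * k) = 1) (D : Subgroup Γ) :
    ∀ (n : ℕ) (V : Type u) [AddCommGroup V] [Module K V] [FiniteDimensional K V]
      (ρ : Γ →* (V →ₗ[K] V)), Module.finrank K V = n →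
      (∀ w, ρ x (ρ x w - w) = ρ x w - w) → (∀ w, ρ y (ρ y w - w) = ρ y w - w) →
      (¬ ∀ d ∈ D, ∃ j : ℕ, ρ d ^ (p ^ j) = 1) →
      ∃ φ : Γ →* Matrix.SpecialLinearGroup (Fin 2) K, ¬ ∀ d ∈ D, ∃ j : ℕ, φ d ^ (p ^ j) = 1 := by
  intro n
  induction n using Nat.strong_induction_on with
  | _ n ih =>
    intro V _ _ _ ρ hn hx hy hnp
    rcases Nat.lt_or_ge n 2 with h2 | h2
    · exfalso
      apply hnp
      intro d _
      exact trivial_of_finrank_le_one (p := p) (by omega) ρ x y hgen hx hy d
    rcases Nat.eq_or_lt_of_le h2 with h2' | h3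
    · obtain ⟨φ, hφ⟩ := exists_hom_of_finrank_two' (by omega) ρ x y hgen hx hy
      refine ⟨φ, fun hall => hnp fun d hd => ?_⟩
      obtain ⟨j, hj⟩ := hall d hd
      refine ⟨j, ?_⟩
      rw [← map_pow] at hj ⊢
      exact hφ _ hj
    · haveI : Nontrivial V := Module.nontrivial_of_finrank_pos (R := K) (by omega)
      have hT : ρ (x * y) ^ (p ^ e * k) = 1 := by rw [← map_pow, hxy, map_one]
      obtain ⟨μ, v, hv0, hv⟩ := exists_eigenvector (ρ (x * y)) e k hk hT
      have hinv := invariant_span ρ x y hgen hx hy μ v hv0 hv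
      have hUle : Module.finrank K (Submodule.span K ({v, ρ y v} : Set V)) ≤ 2 := by
        classical
        have h1 := finrank_span_finset_le_card (R := K) ({v, ρ y v} : Finset V)
        have h2 : (({v, ρ y v} : Finset V) : Set V) = {v, ρ y v} := by simp
        rw [h2] at h1
        exact h1.trans Finset.card_le_two
      have hUpos : 0 < Module.finrank K (Submodule.span K ({v, ρ y v} : Set V)) := by
        rw [Module.finrank_pos_iff_exists_ne_zero]
        refine ⟨⟨v, Submodule.subset_span (by simp)⟩, ?_⟩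
        intro h0
        exact hv0 (congrArg Subtype.val h0)
      have hsum := Submodule.finrank_quotient_add_finrank (Submodule.span K ({v, ρ y v} : Set V))
      by_cases hUp : ∀ d ∈ D, ∃ j : ℕ,
          restrictHom ρ (Submodule.span K ({v, ρ y v} : Set V)) hinv d ^ (p ^ j) = 1
      · have hQp : ¬ ∀ d ∈ D, ∃ j : ℕ,
            quotHom ρ (Submodule.span K ({v, ρ y v} : Set V)) hinv d ^ (p ^ j) = 1 := by
          intro hQ
          apply hnp
          intro d hd
          have hinv' : ∀ g : D, ∀ u ∈ Submodule.span K ({v, ρ y v} : Set V),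
              (ρ.comp D.subtype) g u ∈ Submodule.span K ({v, ρ y v} : Set V) :=
            fun g u hu => hinv g u hu
          have := isP_of_restrict_quot (p := p) (ρ.comp D.subtype)
            (Submodule.span K ({v, ρ y v} : Set V)) hinv'
            (fun g => hUp g g.2) (fun g => hQ g g.2) ⟨d, hd⟩
          exact this
        exact ih (Module.finrank K (V ⧸ Submodule.span K ({v, ρ y v} : Set V))) (by omega)
          (V ⧸ Submodule.span K ({v, ρ y v} : Set V)) (quotHom ρ _ hinv) rfl
          (quad_quot ρ _ hinv x hx) (quad_quot ρ _ hinv y hy) hQp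
      · exact ih (Module.finrank K (Submodule.span K ({v, ρ y v} : Set V))) (by omega)
          (Submodule.span K ({v, ρ y v} : Set V)) (restrictHom ρ _ hinv) rfl
          (quad_restrict ρ _ hinv x hx) (quad_restrict ρ _ hinv y hy) hUp

end Main

end Cfsg.Agent.Lib.Helper5
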