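import Mathlib
import Cfsg.Agent.Lib.Lead.Coprime

set_option autoImplicit false

namespace Cfsg.Agent.Lib.Helper5

theorem exists_invariant_sylow_sub {S : Type*} [Group S] [Finite S] (A R : Subgroup S)
    (hAR : A ≤ Subgroup.normalizer (R : Set S)) (hcop : (Nat.card A).Coprime (Nat.card R))
    (hsolv : Group.IsSolvable A) (r : ℕ) [Fact r.Prime] :
    ∃ Q : Subgroup S, Q ≤ R ∧ IsPGroup r Q ∧ A ≤ Subgroup.normalizer (Q : Set S) ∧
      Nat.card Q = r ^ (Nat.card R).factorization r := by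
  have hRle : R ≤ R ⊔ A := le_sup_left
  have hAle : A ≤ R ⊔ A := le_sup_right
  haveI hKn : (R.subgroupOf (R ⊔ A)).Normal := by
    apply Subgroup.normal_subgroupOf_of_le_normalizer
    exact sup_le Subgroup.le_normalizer hAR
  have hsup : A.subgroupOf (R ⊔ A) ⊔ R.subgroupOf (R ⊔ A) = ⊤ := by
    rw [← Subgroup.subgroupOf_sup hAle hRle, sup_comm, Subgroup.subgroupOf_self]
  have hcardA : Nat.card (A.subgroupOf (R ⊔ A)) = Nat.card A :=
    Nat.card_congr (Subgroup.subgroupOfEquivOfLe hAle).toEquiv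
  have hcardR : Nat.card (R.subgroupOf (R ⊔ A)) = Nat.card R :=
    Nat.card_congr (Subgroup.subgroupOfEquivOfLe hRle).toEquiv
  have hcop' : (Nat.card (A.subgroupOf (R ⊔ A))).Coprime (Nat.card (R.subgroupOf (R ⊔ A))) := by
    rw [hcardA, hcardR]; exact hcop
  have hsolv' : Group.IsSolvable (A.subgroupOf (R ⊔ A)) :=
    solvable_of_solvable_injective (f := (Subgroup.subgroupOfEquivOfLe hAle).toMonoidHom)
      (Subgroup.subgroupOfEquivOfLe hAle).injective
  obtain ⟨P, hP⟩ := Cfsg.Agent.Lib.Lead.exists_invariant_sylow_ext (A.subgroupOf (R ⊔ A))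
    (R.subgroupOf (R ⊔ A)) hsup hcop' (Or.inl hsolv') r
  refine ⟨((P : Subgroup (R.subgroupOf (R ⊔ A))).map (R.subgroupOf (R ⊔ A)).subtype).map
    (R ⊔ A).subtype, ?_, ?_, ?_, ?_⟩
  · rintro _ ⟨_, ⟨x, _, rfl⟩, rfl⟩
    exact x.2
  · exact (P.isPGroup'.map _).map _
  · intro a ha
    have h1 : (⟨a, hAle ha⟩ : ↥(R ⊔ A)) ∈ A.subgroupOf (R ⊔ A) := ha
    have h2 := hP h1
    have h3 := Subgroup.le_normalizer_map (R ⊔ A).subtype ⟨_, h2, rfl⟩
    exact h3
  · rw [Subgroup.card_map_of_injective (R ⊔ A).subtype_injective,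
      Subgroup.card_map_of_injective (R.subgroupOf (R ⊔ A)).subtype_injective,
      Sylow.card_eq_multiplicity, hcardR]

end Cfsg.Agent.Lib.Helper5
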