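import Mathlib
import Cfsg.Prelude.Def_Transfer

set_option autoImplicit false

namespace Cfsg.Agent.Lib.Helper5

section
variable {G₂ : Type*} [Group G₂] [Finite G₂] {p : ℕ} [Fact p.Prime]

theorem tp_sylow_gt_one (hp : p ≠ 2) (N₁ : Subgroup G₂) [N₁.Normal] (hN₁ : IsPGroup 2 N₁)
    (t₂ : G₂) (ht₂ : t₂ ^ p = 1) (q : G₂) (hq : q ∈ N₁) (hqt : q * t₂ ≠ t₂ * q) :
    1 < Nat.card (Sylow p G₂) := by
  by_contra hcon
  have hle : Nat.card (Sylow p G₂) ≤ 1 := not_lt.mp hcon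
  haveI : Subsingleton (Sylow p G₂) := (Finite.card_le_one_iff_subsingleton).mp hle
  have hzp : IsPGroup p (Subgroup.zpowers t₂) := by
    intro g
    refine ⟨1, ?_⟩
    obtain ⟨g, hg⟩ := g
    obtain ⟨i, rfl⟩ := Subgroup.mem_zpowers_iff.mp hg
    apply Subtype.ext
    rw [pow_one, Subgroup.coe_pow, Subgroup.coe_one]
    show (t₂ ^ i) ^ p = 1
    rw [← zpow_natCast, ← zpow_mul, mul_comm, zpow_mul, zpow_natCast, ht₂, one_zpow]
  obtain ⟨P, hP⟩ := hzp.exists_le_sylow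
  have hPn : (P : Subgroup G₂).Normal := by
    rw [← Subgroup.normalizer_eq_top_iff, eq_top_iff]
    intro g _
    exact Sylow.smul_eq_iff_mem_normalizer.mp (Subsingleton.elim _ _)
  haveI : Fact (Nat.Prime 2) := ⟨Nat.prime_two⟩
  have hdis : Disjoint N₁ (P : Subgroup G₂) :=
    IsPGroup.disjoint_of_ne 2 p (Ne.symm hp) _ _ hN₁ P.isPGroup'
  exact hqt (Subgroup.commute_of_normal_of_disjoint _ _ inferInstance hPn hdis q t₂ hq
    (hP (Subgroup.mem_zpowers t₂))).eq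

theorem tp_no_normal_complement (hp : p ≠ 2) (N₁ : Subgroup G₂) [N₁.Normal]
    (hN₁ : IsPGroup 2 N₁) (t₂ : G₂) (ht₂ : t₂ ^ p = 1) (q : G₂) (hq : q ∈ N₁)
    (hqt : q * t₂ ≠ t₂ * q) : ¬ Cfsg.HasNormalPComplement 2 G₂ := by
  have hpp : p.Prime := Fact.out
  haveI : Fact (Nat.Prime 2) := ⟨Nat.prime_two⟩
  rintro ⟨P₂, M, hMn, hM⟩
  have hidx : (P₂ : Subgroup G₂).index = Nat.card M := hM.index_eq_card
  have hModd : ¬ 2 ∣ Nat.card M := by
    rw [← hidx]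
    exact P₂.not_dvd_index
  have hMidx : M.index = Nat.card (P₂ : Subgroup G₂) := by
    have h1 := hM.card_mul_card
    have h2 := M.card_mul_index
    rw [← h2] at h1
    exact (Nat.eq_of_mul_eq_mul_left Nat.card_pos h1).symm
  obtain ⟨a, ha⟩ := P₂.isPGroup'.exists_card_eq
  have htM : t₂ ∈ M := by
    rw [← QuotientGroup.eq_one_iff]
    have h1 : ((t₂ : G₂) : G₂ ⧸ M) ^ p = 1 := by
      rw [← QuotientGroup.mk_pow, ht₂]; rfl
    have h2 : ((t₂ : G₂) : G₂ ⧸ M) ^ (2 ^ a) = 1 := by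
      rw [← QuotientGroup.mk_pow, QuotientGroup.eq_one_iff, ← ha, ← hMidx]
      exact Subgroup.pow_index_mem M t₂
    have hcop : Nat.Coprime p (2 ^ a) :=
      Nat.Coprime.pow_right a ((Nat.coprime_primes hpp Nat.prime_two).mpr hp)
    exact (pow_eq_one_iff_of_coprime hcop).mp ⟨h1, h2⟩
  obtain ⟨b, hb⟩ := hN₁.exists_card_eq
  have hdis : Disjoint N₁ M := by
    apply Subgroup.disjoint_of_coprime_natCard
    rw [hb]
    apply Nat.Coprime.pow_left
    exact (Nat.Prime.coprime_iff_not_dvd Nat.prime_two).mpr hModd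
  exact hqt (Subgroup.commute_of_normal_of_disjoint _ _ inferInstance hMn hdis q t₂ hq htM).eq

theorem tp_three_dvd (N₁ : Subgroup G₂) [N₁.Normal] (hN₁ : IsPGroup 2 N₁)
    (A₂ : Subgroup G₂) (hA₂ : Nat.card A₂ ∣ p) (hsup : A₂ ⊔ N₁ = ⊤)
    (h3 : 3 ∣ Nat.card G₂) : p = 3 := by
  have hpp : p.Prime := Fact.out
  obtain ⟨b, hb⟩ := hN₁.exists_card_eq
  have hidx : N₁.index ∣ p := by
    rw [← Subgroup.relIndex_top_right, ← hsup, Subgroup.relIndex_sup_right]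
    exact (Subgroup.relIndex_dvd_card _ _).trans hA₂
  have hcard : Nat.card G₂ ∣ 2 ^ b * p := by
    rw [← N₁.card_mul_index, hb]
    exact Nat.mul_dvd_mul_left _ hidx
  have h3' : 3 ∣ 2 ^ b * p := h3.trans hcard
  rcases (Nat.Prime.dvd_mul Nat.prime_three).mp h3' with h | h
  · have := Nat.Prime.dvd_of_dvd_pow Nat.prime_three h
    omega
  · exact ((Nat.prime_dvd_prime_iff_eq Nat.prime_three hpp).mp h).symm

end

end Cfsg.Agent.Lib.Helper5
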