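import Mathlib
import Cfsg.Agent.S0275
import Cfsg.Agent.S0593
import Cfsg.Agent.Lib.Helper5.PConstr
import Cfsg.Agent.Lib.Helper5.InvSylow
import Cfsg.Agent.Lib.Helper5.TwoPGroup
import Cfsg.Agent.Lib.Helper1.SL23Recog
import Cfsg.Agent.S0106

set_option autoImplicit false

namespace Cfsg.Agent.Lib.Helper5

open Cfsg.Agent.S0275 (cayley_two conj_eq_or commute_of_commute_nonscalar exists_lin_of_commute)

section Mat
variable {K : Type*} [Field K]

theorem eq_smul_one_of_not_nonscalar (M : Matrix (Fin 2) (Fin 2) K) (h : ¬ S0275.NonScalar M) :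
    M = (M 0 0) • (1 : Matrix (Fin 2) (Fin 2) K) := by
  unfold S0275.NonScalar at h
  push Not at h
  obtain ⟨h01, h10, h00⟩ := h
  ext i j
  fin_cases i <;> fin_cases j <;> simp [h01, h10, h00]

theorem not_nonscalar_smul_one (c : K) : ¬ S0275.NonScalar (c • (1 : Matrix (Fin 2) (Fin 2) K)) := by
  unfold S0275.NonScalar
  simp

theorem nonscalar_of_odd_order (g : Matrix.SpecialLinearGroup (Fin 2) K)
    (hg1 : g ≠ 1) (m : ℕ) (hm : Odd m) (hgm : g ^ m = 1) :
    S0275.NonScalar (g : Matrix (Fin 2) (Fin 2) K) := by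
  by_contra hns
  have hM := eq_smul_one_of_not_nonscalar _ hns
  set c := (g : Matrix (Fin 2) (Fin 2) K) 0 0 with hc
  have hdet : c * c = 1 := by
    have hd := g.2
    rw [hM, Matrix.det_smul, Matrix.det_one, mul_one, Fintype.card_fin] at hd
    rw [← pow_two]
    exact hd
  have hpow : c ^ m = 1 := by
    have h1 : ((g ^ m : Matrix.SpecialLinearGroup (Fin 2) K) : Matrix (Fin 2) (Fin 2) K) = 1 := by
      rw [hgm]; rfl
    rw [Matrix.SpecialLinearGroup.coe_pow, hM, smul_pow, one_pow] at h1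
    have h3 := congrFun (congrFun h1 0) 0
    simpa using h3
  obtain ⟨k, hk⟩ := hm
  have hc1 : c = 1 := by
    rw [hk, pow_succ, pow_mul, pow_two, hdet, one_pow, one_mul] at hpow
    exact hpow
  apply hg1
  apply Subtype.ext
  rw [hM, hc1, one_smul]
  rfl

theorem commute_sl_of_commute_nonscalar (z g g' : Matrix.SpecialLinearGroup (Fin 2) K)
    (hz : S0275.NonScalar (z : Matrix (Fin 2) (Fin 2) K)) (h : g * z = z * g) (h' : g' * z = z * g') :
    g * g' = g' * g := by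
  apply Subtype.ext
  rw [Matrix.SpecialLinearGroup.coe_mul, Matrix.SpecialLinearGroup.coe_mul]
  apply commute_of_commute_nonscalar _ _ _ hz
  · have := congrArg Subtype.val h
    rwa [Matrix.SpecialLinearGroup.coe_mul, Matrix.SpecialLinearGroup.coe_mul] at this
  · have := congrArg Subtype.val h'
    rwa [Matrix.SpecialLinearGroup.coe_mul, Matrix.SpecialLinearGroup.coe_mul] at this

theorem commute_of_not_nonscalar (s t : Matrix.SpecialLinearGroup (Fin 2) K)
    (hs : ¬ S0275.NonScalar (s : Matrix (Fin 2) (Fin 2) K)) : t * s = s * t := by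
  apply Subtype.ext
  rw [Matrix.SpecialLinearGroup.coe_mul, Matrix.SpecialLinearGroup.coe_mul,
    eq_smul_one_of_not_nonscalar _ hs]
  simp

end Mat

section Fin
variable {K : Type*} [Field K] {p : ℕ} [Fact p.Prime] [CharP K p]

theorem trace_sq_ne_four (hp : p ≠ 2) (M : Matrix (Fin 2) (Fin 2) K) (hd : M.det = 1)
    (hns : S0275.NonScalar M) (m : ℕ) (hm : ¬ p ∣ m) (hMm : M ^ m = 1) : M.trace ^ 2 ≠ 4 := by
  intro h4
  have hpp : p.Prime := Fact.out
  have h2 : (2 : K) ≠ 0 := by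
    intro h
    have h' : ((2 : ℕ) : K) = 0 := by exact_mod_cast h
    rw [CharP.cast_eq_zero_iff K p] at h'
    exact hp ((Nat.prime_dvd_prime_iff_eq hpp Nat.prime_two).mp h')
  set ε := M.trace / 2 with hε
  have hεε : ε * ε = 1 := by
    rw [hε]
    field_simp
    linear_combination h4
  have hτ : M.trace = 2 * ε := by rw [hε]; field_simp
  have hε0 : ε ≠ 0 := by
    intro h0
    rw [h0, mul_zero] at hεε
    exact zero_ne_one hεε
  have hcay := cayley_two M hd
  have hNN : (M - ε • 1) * (M - ε • 1) = 0 := by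
    rw [sub_mul, mul_sub, mul_sub, hcay, hτ]
    simp only [smul_mul_assoc, mul_smul_comm, one_mul, mul_one, smul_smul, hεε]
    module
  have hN1 : (ε • (M - ε • 1)) * (ε • (M - ε • 1)) = 0 := by
    rw [smul_mul_assoc, mul_smul_comm, hNN, smul_zero, smul_zero]
  have hM : M = ε • (1 + ε • (M - ε • 1)) := by
    rw [smul_add, smul_smul, hεε, one_smul]
    abel
  have hpow : M ^ m = (ε ^ m) • (1 + m • (ε • (M - ε • 1))) := by
    conv_lhs => rw [hM]
    rw [smul_pow, Cfsg.Agent.S0592.one_add_pow_of_sq_zero _ hN1]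
  rw [hMm] at hpow
  have hmK : (m : K) ≠ 0 := by
    intro h
    rw [CharP.cast_eq_zero_iff K p] at h
    exact hm h
  have hc0 : ε ^ m * m * ε ≠ 0 := mul_ne_zero (mul_ne_zero (pow_ne_zero _ hε0) hmK) hε0
  have hN : M - ε • 1 = ((ε ^ m * m * ε)⁻¹ * (1 - ε ^ m)) • (1 : Matrix (Fin 2) (Fin 2) K) := by
    have h5 : (ε ^ m * m * ε) • (M - ε • 1) = (1 - ε ^ m) • (1 : Matrix (Fin 2) (Fin 2) K) := by
      have h6 : (1 : Matrix (Fin 2) (Fin 2) K) =
          ε ^ m • 1 + (ε ^ m * m * ε) • (M - ε • 1) := by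
        have h7 := hpow
        rw [smul_add, ← Nat.cast_smul_eq_nsmul K, smul_smul, smul_smul] at h7
        exact h7
      rw [sub_smul, one_smul]
      calc (ε ^ m * m * ε) • (M - ε • 1)
          = (ε ^ m • 1 + (ε ^ m * m * ε) • (M - ε • 1)) - ε ^ m • 1 := by abel
        _ = 1 - ε ^ m • 1 := by rw [← h6]
    rw [mul_smul, ← h5, smul_smul, inv_mul_cancel₀ hc0, one_smul]
  have hMs : M = (ε + (ε ^ m * m * ε)⁻¹ * (1 - ε ^ m)) • (1 : Matrix (Fin 2) (Fin 2) K) := by
    rw [add_smul, ← hN]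
    abel
  rw [hMs] at hns
  exact not_nonscalar_smul_one _ hns

theorem two_ne_zero_of_char (hp : p ≠ 2) : (2 : K) ≠ 0 := by
  have hpp : p.Prime := Fact.out
  intro h
  have h' : ((2 : ℕ) : K) = 0 := by exact_mod_cast h
  rw [CharP.cast_eq_zero_iff K p] at h'
  exact hp ((Nat.prime_dvd_prime_iff_eq hpp Nat.prime_two).mp h')

theorem commute_of_conj_commute (hp : p ≠ 2) (t s : Matrix.SpecialLinearGroup (Fin 2) K)
    (ht : t ^ p = 1) (m : ℕ) (hm : ¬ p ∣ m) (hsm : s ^ m = 1)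
    (hc : (t * s * t⁻¹) * s = s * (t * s * t⁻¹)) : t * s = s * t := by
  have hpp : p.Prime := Fact.out
  by_cases hns : S0275.NonScalar (s : Matrix (Fin 2) (Fin 2) K)
  · have h2 := two_ne_zero_of_char (K := K) hp
    have hMm : (s : Matrix (Fin 2) (Fin 2) K) ^ m = 1 := by
      rw [← Matrix.SpecialLinearGroup.coe_pow, hsm]; rfl
    have htr4 := trace_sq_ne_four hp _ s.2 hns m hm hMm
    have htr : ((t * s * t⁻¹ : Matrix.SpecialLinearGroup (Fin 2) K) :
        Matrix (Fin 2) (Fin 2) K).trace = (s : Matrix (Fin 2) (Fin 2) K).trace := by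
      rw [Matrix.SpecialLinearGroup.coe_mul, Matrix.SpecialLinearGroup.coe_mul,
        Matrix.trace_mul_comm, ← mul_assoc, ← Matrix.SpecialLinearGroup.coe_mul,
        inv_mul_cancel, Matrix.SpecialLinearGroup.coe_one, one_mul]
    have hc' : ((t * s * t⁻¹ : Matrix.SpecialLinearGroup (Fin 2) K) :
        Matrix (Fin 2) (Fin 2) K) * (s : Matrix (Fin 2) (Fin 2) K) =
        (s : Matrix (Fin 2) (Fin 2) K) * ((t * s * t⁻¹ : Matrix.SpecialLinearGroup (Fin 2) K) :
        Matrix (Fin 2) (Fin 2) K) := by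
      rw [← Matrix.SpecialLinearGroup.coe_mul, ← Matrix.SpecialLinearGroup.coe_mul, hc]
    rcases conj_eq_or _ _ h2 hns s.2 (t * s * t⁻¹).2 htr htr4 hc' with h | h
    · have h' : t * s * t⁻¹ = s := Subtype.ext h
      calc t * s = (t * s * t⁻¹) * t := by group
        _ = s * t := by rw [h']
    · have hcay := cayley_two _ s.2
      have hinv : s * (t * s * t⁻¹) = 1 := by
        apply Subtype.ext
        rw [Matrix.SpecialLinearGroup.coe_mul, h, mul_sub, hcay]
        simp only [mul_smul_comm, mul_one, Matrix.SpecialLinearGroup.coe_one]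
        abel
      have h' : t * s * t⁻¹ = s⁻¹ := eq_inv_of_mul_eq_one_right hinv
      have h'' : t * s⁻¹ * t⁻¹ = s := by
        have : t * s⁻¹ * t⁻¹ = (t * s * t⁻¹)⁻¹ := by group
        rw [this, h', inv_inv]
      have hsq : (t * t) * s = s * (t * t) := by
        calc (t * t) * s = t * (t * s * t⁻¹) * t := by group
          _ = t * s⁻¹ * t := by rw [h']
          _ = (t * s⁻¹ * t⁻¹) * (t * t) := by group
          _ = s * (t * t) := by rw [h'']
      obtain ⟨j, hj⟩ := hpp.odd_of_ne_two hp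
      have ht' : t = (t * t) ^ (j + 1) := by
        rw [← pow_two, ← pow_mul]
        have : 2 * (j + 1) = p + 1 := by omega
        rw [this, pow_succ, ht, one_mul]
      have hcomm : Commute (t * t) s := hsq
      have := (hcomm.pow_left (j + 1)).eq
      rw [← ht'] at this
      exact this
  · exact commute_of_not_nonscalar s t hns

theorem centralizes_of_abelian (hp : p ≠ 2) [Finite K] (t : Matrix.SpecialLinearGroup (Fin 2) K)
    (ht : t ^ p = 1) (A : Subgroup (Matrix.SpecialLinearGroup (Fin 2) K))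
    (hA : ∀ a ∈ A, ∀ b ∈ A, a * b = b * a) (hcop : (Nat.card A).Coprime p)
    (hnorm : ∀ a ∈ A, t * a * t⁻¹ ∈ A) : ∀ a ∈ A, t * a = a * t := by
  have hpp : p.Prime := Fact.out
  intro a ha
  apply commute_of_conj_commute hp t a ht (Nat.card A)
  · intro hdvd
    have := Nat.Coprime.eq_one_of_dvd hcop.symm hdvd
    exact hpp.one_lt.ne' this
  · exact h5_pow_card_eq_one_of_mem ha
  · exact hA _ (hnorm a ha) _ ha

theorem exists_central_nonscalar [Finite K] (hp : p ≠ 2) (r : ℕ) [Fact r.Prime] (hr : r ≠ 2)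
    (A : Subgroup (Matrix.SpecialLinearGroup (Fin 2) K)) (hA : IsPGroup r A) (hA1 : A ≠ ⊥) :
    ∃ z ∈ A, S0275.NonScalar (z : Matrix (Fin 2) (Fin 2) K) ∧ ∀ a ∈ A, a * z = z * a := by
  have hrp : r.Prime := Fact.out
  haveI : Nontrivial A := (Subgroup.nontrivial_iff_ne_bot _).mpr hA1
  haveI hZ : Nontrivial (Subgroup.center A) := hA.center_nontrivial
  obtain ⟨⟨z, hzc⟩, hz1⟩ := exists_ne (1 : Subgroup.center A)
  have hz1' : (z : Matrix.SpecialLinearGroup (Fin 2) K) ≠ 1 := by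
    intro h
    apply hz1
    apply Subtype.ext
    apply Subtype.ext
    exact h
  obtain ⟨j, hj⟩ := hA z
  have hj' : (z : Matrix.SpecialLinearGroup (Fin 2) K) ^ (r ^ j) = 1 := by
    have := congrArg Subtype.val hj
    simpa using this
  refine ⟨z, z.2, nonscalar_of_odd_order _ hz1' (r ^ j) (hrp.odd_of_ne_two hr).pow hj', ?_⟩
  intro a ha
  rw [Subgroup.mem_center_iff] at hzc
  have := hzc ⟨a, ha⟩
  exact congrArg Subtype.val this

theorem abelian_of_odd_pgroup [Finite K] (hp : p ≠ 2) (r : ℕ) [Fact r.Prime] (hr : r ≠ 2)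
    (A : Subgroup (Matrix.SpecialLinearGroup (Fin 2) K)) (hA : IsPGroup r A) :
    ∀ a ∈ A, ∀ b ∈ A, a * b = b * a := by
  by_cases hA1 : A = ⊥
  · intro a ha b hb
    rw [hA1, Subgroup.mem_bot] at ha hb
    rw [ha, hb]
  · obtain ⟨z, _, hzns, hzc⟩ := exists_central_nonscalar hp r hr A hA hA1
    intro a ha b hb
    exact commute_sl_of_commute_nonscalar z a b hzns (hzc a ha) (hzc b hb)

theorem commute_of_normal_pgroup [Finite K] (hp : p ≠ 2)
    (t t' : Matrix.SpecialLinearGroup (Fin 2) K) (ht : t ^ p = 1) (ht' : t' ^ p = 1)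
    (P : Subgroup (Matrix.SpecialLinearGroup (Fin 2) K)) (hP : IsPGroup p P) (hP1 : P ≠ ⊥)
    (hn : t ∈ Subgroup.normalizer (P : Set (Matrix.SpecialLinearGroup (Fin 2) K)))
    (hn' : t' ∈ Subgroup.normalizer (P : Set (Matrix.SpecialLinearGroup (Fin 2) K))) :
    t * t' = t' * t := by
  have hzp : ∀ w : Matrix.SpecialLinearGroup (Fin 2) K, w ^ p = 1 →
      IsPGroup p (Subgroup.zpowers w) := by
    intro w hw g
    refine ⟨1, ?_⟩
    obtain ⟨g, hg⟩ := g
    obtain ⟨i, rfl⟩ := Subgroup.mem_zpowers_iff.mp hg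
    apply Subtype.ext
    rw [pow_one, Subgroup.coe_pow, Subgroup.coe_one]
    show (w ^ i) ^ p = 1
    rw [← zpow_natCast, ← zpow_mul, mul_comm, zpow_mul, zpow_natCast, hw, one_zpow]
  have key : ∀ w : Matrix.SpecialLinearGroup (Fin 2) K, w ^ p = 1 →
      w ∈ Subgroup.normalizer (P : Set (Matrix.SpecialLinearGroup (Fin 2) K)) →
      ∃ z : Matrix.SpecialLinearGroup (Fin 2) K, S0275.NonScalar (z : Matrix (Fin 2) (Fin 2) K) ∧
        w * z = z * w ∧ ∀ a ∈ P, a * z = z * a := by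
    intro w hw hwn
    have hle : Subgroup.zpowers w ≤ Subgroup.normalizer (P : Set (Matrix.SpecialLinearGroup (Fin 2) K)) := by
      rw [Subgroup.zpowers_le]
      exact hwn
    have hB : IsPGroup p (P ⊔ Subgroup.zpowers w : Subgroup _) :=
      IsPGroup.to_sup_of_normal_left' hP (hzp w hw) hle
    have hB1 : (P ⊔ Subgroup.zpowers w : Subgroup _) ≠ ⊥ := by
      intro h
      apply hP1
      rw [eq_bot_iff, ← h]
      exact le_sup_left
    obtain ⟨z, _, hzns, hzc⟩ := exists_central_nonscalar hp p hp _ hB hB1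
    refine ⟨z, hzns, hzc w (Subgroup.mem_sup_right (Subgroup.mem_zpowers w)), ?_⟩
    intro a ha
    exact hzc a (Subgroup.mem_sup_left ha)
  obtain ⟨z₁, hz₁, hwz₁, hPz₁⟩ := key t ht hn
  obtain ⟨z₂, hz₂, hwz₂, hPz₂⟩ := key t' ht' hn'
  obtain ⟨z, hzP, hzns, _⟩ := exists_central_nonscalar hp p hp P hP hP1
  have h1 : t * z = z * t := commute_sl_of_commute_nonscalar z₁ t z hz₁ hwz₁ (hPz₁ z hzP)
  have h2 : t' * z = z * t' := commute_sl_of_commute_nonscalar z₂ t' z hz₂ hwz₂ (hPz₂ z hzP)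
  exact commute_sl_of_commute_nonscalar z t t' hzns h1 h2

theorem eq_of_forall_prime_pow {S : Type*} [Group S] [Finite S] (C R : Subgroup S) (hCR : C ≤ R)
    (h : ∀ r : ℕ, r.Prime → ∃ Q : Subgroup S, Q ≤ C ∧
      Nat.card Q = r ^ (Nat.card R).factorization r) : C = R := by
  apply Subgroup.eq_of_le_of_card_ge hCR
  apply Nat.le_of_dvd Nat.card_pos
  rw [← Nat.factorization_prime_le_iff_dvd Nat.card_pos.ne' Nat.card_pos.ne']
  intro r hr
  obtain ⟨Q, hQC, hQ⟩ := h r hr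
  rw [← Nat.Prime.pow_dvd_iff_le_factorization hr Nat.card_pos.ne', ← hQ]
  exact Subgroup.card_dvd_of_le hQC

end Fin

section Main
variable {K : Type*} [Field K] [Fintype K] {p : ℕ} [Fact p.Prime] [CharP K p]

theorem exists_two_subgroup_not_centralized (hp : p ≠ 2)
    (t : Matrix.SpecialLinearGroup (Fin 2) K) (ht : t ^ p = 1)
    (R : Subgroup (Matrix.SpecialLinearGroup (Fin 2) K)) (hcop : (Nat.card R).Coprime p)
    (hnorm : t ∈ Subgroup.normalizer (R : Set (Matrix.SpecialLinearGroup (Fin 2) K)))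
    (hnc : ∃ r ∈ R, t * r ≠ r * t) :
    ∃ Q : Subgroup (Matrix.SpecialLinearGroup (Fin 2) K), Q ≤ R ∧ IsPGroup 2 Q ∧
      Subgroup.zpowers t ≤ Subgroup.normalizer (Q : Set (Matrix.SpecialLinearGroup (Fin 2) K)) ∧
      ∃ q ∈ Q, t * q ≠ q * t := by
  have hpp : p.Prime := Fact.out
  have hAR : Subgroup.zpowers t ≤
      Subgroup.normalizer (R : Set (Matrix.SpecialLinearGroup (Fin 2) K)) := by
    rw [Subgroup.zpowers_le]; exact hnorm
  have hcardA : Nat.card (Subgroup.zpowers t) ∣ p := by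
    rw [Nat.card_zpowers]
    exact orderOf_dvd_of_pow_eq_one ht
  have hcopA : (Nat.card (Subgroup.zpowers t)).Coprime (Nat.card R) :=
    Nat.Coprime.coprime_dvd_left hcardA hcop.symm
  have hsolv : Group.IsSolvable (Subgroup.zpowers t) :=
    Group.isSolvable_of_comm (fun a b =>
      (inferInstance : IsMulCommutative (Subgroup.zpowers t)).is_comm.comm a b)
  have hQ : ∀ r : ℕ, r.Prime → ∃ Q : Subgroup (Matrix.SpecialLinearGroup (Fin 2) K), Q ≤ R ∧
      IsPGroup r Q ∧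
      Subgroup.zpowers t ≤ Subgroup.normalizer (Q : Set (Matrix.SpecialLinearGroup (Fin 2) K)) ∧
      Nat.card Q = r ^ (Nat.card R).factorization r := by
    intro r hr
    haveI : Fact r.Prime := ⟨hr⟩
    exact exists_invariant_sylow_sub (Subgroup.zpowers t) R hAR hcopA hsolv r
  obtain ⟨Q₂, hQ₂R, hQ₂p, hQ₂n, hQ₂c⟩ := hQ 2 Nat.prime_two
  refine ⟨Q₂, hQ₂R, hQ₂p, hQ₂n, ?_⟩
  by_contra hcon
  push Not at hcon
  obtain ⟨r₀, hr₀R, hr₀⟩ := hnc
  apply hr₀
  have hCR : R ⊓ Subgroup.centralizer ({t} : Set (Matrix.SpecialLinearGroup (Fin 2) K)) = R := by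
    apply eq_of_forall_prime_pow _ R inf_le_left
    intro r hr
    by_cases hr2 : r = 2
    · subst hr2
      refine ⟨Q₂, ?_, hQ₂c⟩
      intro q hq
      refine ⟨hQ₂R hq, (?_ : q ∈ Subgroup.centralizer
        ({t} : Set (Matrix.SpecialLinearGroup (Fin 2) K)))⟩
      rw [Subgroup.mem_centralizer_singleton_iff]
      exact (hcon q hq).symm
    · obtain ⟨Q, hQR, hQp, hQn, hQc⟩ := hQ r hr
      haveI : Fact r.Prime := ⟨hr⟩
      refine ⟨Q, ?_, hQc⟩
      have hab := abelian_of_odd_pgroup hp r hr2 Q hQp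
      have hcopQ : (Nat.card Q).Coprime p :=
        Nat.Coprime.coprime_dvd_left (Subgroup.card_dvd_of_le hQR) hcop
      have hnQ : ∀ a ∈ Q, t * a * t⁻¹ ∈ Q := by
        intro a ha
        exact (Subgroup.mem_normalizer_iff.mp (hQn (Subgroup.mem_zpowers t)) a).mp ha
      have hcent := centralizes_of_abelian hp t ht Q hab hcopQ hnQ
      intro q hq
      refine ⟨hQR hq, (?_ : q ∈ Subgroup.centralizer
        ({t} : Set (Matrix.SpecialLinearGroup (Fin 2) K)))⟩
      rw [Subgroup.mem_centralizer_singleton_iff]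
      exact (hcent q hq).symm
  have : r₀ ∈ R ⊓ Subgroup.centralizer ({t} : Set (Matrix.SpecialLinearGroup (Fin 2) K)) := by
    rw [hCR]; exact hr₀R
  have h2 : r₀ ∈ Subgroup.centralizer ({t} : Set (Matrix.SpecialLinearGroup (Fin 2) K)) :=
    this.2
  rw [Subgroup.mem_centralizer_singleton_iff] at h2
  exact h2.symm

theorem sl2_section (hp : p ≠ 2) (t : Matrix.SpecialLinearGroup (Fin 2) K) (ht : t ^ p = 1)
    (Q : Subgroup (Matrix.SpecialLinearGroup (Fin 2) K)) (hQp : IsPGroup 2 Q)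
    (hQn : Subgroup.zpowers t ≤
      Subgroup.normalizer (Q : Set (Matrix.SpecialLinearGroup (Fin 2) K)))
    (q : Matrix.SpecialLinearGroup (Fin 2) K) (hq : q ∈ Q) (hqt : t * q ≠ q * t) :
    p = 3 ∧ ∃ (Y : Subgroup (Matrix.SpecialLinearGroup (Fin 2) K))
      (f : Y →* Matrix.SpecialLinearGroup (Fin 2) (ZMod 3)),
      Y ≤ Q ⊔ Subgroup.zpowers t ∧ Function.Surjective f := by
  have hQle : Q ≤ Q ⊔ Subgroup.zpowers t := le_sup_left
  have hAle : Subgroup.zpowers t ≤ Q ⊔ Subgroup.zpowers t := le_sup_right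
  haveI hN₁n : (Q.subgroupOf (Q ⊔ Subgroup.zpowers t)).Normal :=
    Subgroup.normal_subgroupOf_of_le_normalizer (sup_le Subgroup.le_normalizer hQn)
  have hN₁ : IsPGroup 2 (Q.subgroupOf (Q ⊔ Subgroup.zpowers t)) := hQp.comap_subtype
  have ht₂ : (⟨t, hAle (Subgroup.mem_zpowers t)⟩ : ↥(Q ⊔ Subgroup.zpowers t)) ^ p = 1 := by
    apply Subtype.ext
    rw [Subgroup.coe_pow, Subgroup.coe_one]
    exact ht
  have hq₂ : (⟨q, hQle hq⟩ : ↥(Q ⊔ Subgroup.zpowers t)) ∈
      Q.subgroupOf (Q ⊔ Subgroup.zpowers t) := hq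
  have hqt₂ : (⟨q, hQle hq⟩ : ↥(Q ⊔ Subgroup.zpowers t)) * ⟨t, hAle (Subgroup.mem_zpowers t)⟩ ≠
      ⟨t, hAle (Subgroup.mem_zpowers t)⟩ * ⟨q, hQle hq⟩ := by
    intro h
    apply hqt
    have := congrArg Subtype.val h
    exact this.symm
  have hA₂ : Nat.card ((Subgroup.zpowers t).subgroupOf (Q ⊔ Subgroup.zpowers t)) ∣ p := by
    rw [Nat.card_congr (Subgroup.subgroupOfEquivOfLe hAle).toEquiv, Nat.card_zpowers]
    exact orderOf_dvd_of_pow_eq_one ht
  have hsup : (Subgroup.zpowers t).subgroupOf (Q ⊔ Subgroup.zpowers t) ⊔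
      Q.subgroupOf (Q ⊔ Subgroup.zpowers t) = ⊤ := by
    rw [← Subgroup.subgroupOf_sup hAle hQle, sup_comm, Subgroup.subgroupOf_self]
  have hsyl := tp_sylow_gt_one hp _ hN₁ _ ht₂ _ hq₂ hqt₂
  obtain ⟨k, hk, ⟨e⟩⟩ := Cfsg.Agent.S0275.result p hp (Q ⊔ Subgroup.zpowers t) hsyl default
  rcases Cfsg.Agent.S0106.result (default : Sylow 2 ↥(Q ⊔ Subgroup.zpowers t)) k hk ⟨e⟩ with
    hnpc | ⟨H', K', hK', ⟨e'⟩⟩
  · exact absurd hnpc (tp_no_normal_complement hp _ hN₁ _ ht₂ _ hq₂ hqt₂)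
  · have h24 : Nat.card (↥H' ⧸ K'.subgroupOf H') = 24 := by
      rw [Nat.card_congr e'.toEquiv]
      exact Cfsg.Agent.Lib.Helper1.card_SL23
    have h3 : 3 ∣ Nat.card ↥(Q ⊔ Subgroup.zpowers t) := by
      have h1 : Nat.card (↥H' ⧸ K'.subgroupOf H') ∣ Nat.card H' :=
        Subgroup.card_quotient_dvd_card _
      have h2 : Nat.card H' ∣ Nat.card ↥(Q ⊔ Subgroup.zpowers t) :=
        Subgroup.card_subgroup_dvd_card H'
      rw [h24] at h1
      exact (by norm_num : 3 ∣ 24).trans (h1.trans h2)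
    refine ⟨tp_three_dvd _ hN₁ _ hA₂ hsup h3, H'.map (Q ⊔ Subgroup.zpowers t).subtype,
      (e'.toMonoidHom.comp (QuotientGroup.mk' (K'.subgroupOf H'))).comp
        (H'.equivMapOfInjective (Q ⊔ Subgroup.zpowers t).subtype
          (Q ⊔ Subgroup.zpowers t).subtype_injective).symm.toMonoidHom, ?_, ?_⟩
    · rintro _ ⟨y, _, rfl⟩
      exact y.2
    · intro z
      obtain ⟨w, hw⟩ := e'.surjective z
      obtain ⟨h, rfl⟩ := QuotientGroup.mk'_surjective (K'.subgroupOf H') w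
      refine ⟨(H'.equivMapOfInjective (Q ⊔ Subgroup.zpowers t).subtype
          (Q ⊔ Subgroup.zpowers t).subtype_injective) h, ?_⟩
      simp only [MonoidHom.comp_apply, MulEquiv.coe_toMonoidHom, MulEquiv.symm_apply_apply]
      exact hw

end Main

end Cfsg.Agent.Lib.Helper5
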