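import Mathlib
import Cfsg.Agent.S0593
import Cfsg.Agent.Lib.Helper5.QuadAbs
import Cfsg.Agent.Lib.Helper5.QuadSub
import Cfsg.Agent.Lib.Helper5.SL2Coprime

set_option autoImplicit false

namespace Cfsg.Agent.Lib.Helper5

open Cfsg

section Lin
variable {p : ℕ} [Fact p.Prime]

theorem linearize_aux {Γ : Type*} [Group Γ] {W : Type*} [AddCommGroup W] [Module (ZMod p) W]
    [Finite W] (K : Type) [Field K] [Algebra (ZMod p) K]
    (ρ₀ : Γ →* Module.End (ZMod p) W) (hinj : Function.Injective ρ₀) (x y : Γ)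
    (hx : (ρ₀ x - 1) * (ρ₀ x - 1) = 0) (hy : (ρ₀ y - 1) * (ρ₀ y - 1) = 0) :
    ∃ (n : ℕ) (ρ : Γ →* ((Fin n → K) →ₗ[K] (Fin n → K))), Function.Injective ρ ∧
      (∀ w, ρ x (ρ x w - w) = ρ x w - w) ∧ (∀ w, ρ y (ρ y w - w) = ρ y w - w) := by
  classical
  let b := Module.finBasis (ZMod p) W
  let Ψ : Module.End (ZMod p) W →+* Module.End K (Fin (Module.finrank (ZMod p) W) → K) :=
    ((Matrix.toLinAlgEquiv' (R := K) (n := Fin (Module.finrank (ZMod p) W))).toRingEquiv.toRingHom).comp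
      (((algebraMap (ZMod p) K).mapMatrix (m := Fin (Module.finrank (ZMod p) W))).comp
        ((LinearMap.toMatrixAlgEquiv b).toRingEquiv.toRingHom))
  have hΨ : Function.Injective Ψ := by
    intro s t hst
    simp only [Ψ, RingHom.coe_comp, Function.comp_apply] at hst
    have h1 := (Matrix.toLinAlgEquiv' (R := K) (n := Fin (Module.finrank (ZMod p) W))).injective hst
    have h2 := Matrix.map_injective (algebraMap (ZMod p) K).injective h1
    exact (LinearMap.toMatrixAlgEquiv b).injective h2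
  refine ⟨Module.finrank (ZMod p) W, (Ψ : Module.End (ZMod p) W →* _).comp ρ₀, hΨ.comp hinj, ?_, ?_⟩
  · rw [Cfsg.Agent.S0593.quad_iff_sq_zero]
    show (Ψ (ρ₀ x) - 1) * (Ψ (ρ₀ x) - 1) = 0
    rw [← map_one Ψ, ← map_sub, ← map_mul, hx, map_zero]
  · rw [Cfsg.Agent.S0593.quad_iff_sq_zero]
    show (Ψ (ρ₀ y) - 1) * (Ψ (ρ₀ y) - 1) = 0
    rw [← map_one Ψ, ← map_sub, ← map_mul, hy, map_zero]

theorem linearize_add {Γ : Type*} [Group Γ] [Finite Γ] {W : Type*} [AddCommGroup W]
    [Module (ZMod p) W] [Finite W]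
    (ρ₀ : Γ →* Module.End (ZMod p) W) (hinj : Function.Injective ρ₀) (x y : Γ)
    (hx : (ρ₀ x - 1) * (ρ₀ x - 1) = 0) (hy : (ρ₀ y - 1) * (ρ₀ y - 1) = 0) (C : Prop)
    (hC : ∀ (K : Type) [Field K] [Fintype K] [CharP K p] (n : ℕ)
      (ρ : Γ →* ((Fin n → K) →ₗ[K] (Fin n → K))) (e k : ℕ), Function.Injective ρ →
      (∀ w, ρ x (ρ x w - w) = ρ x w - w) → (∀ w, ρ y (ρ y w - w) = ρ y w - w) →
      k ∣ Fintype.card K - 1 → (x * y) ^ (p ^ e * k) = 1 → C) : C := by
  classical
  have hpp : p.Prime := Fact.out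
  have hord : orderOf (x * y) ≠ 0 := (orderOf_pos _).ne'
  obtain ⟨e, k, hk, hek⟩ := Nat.exists_eq_pow_mul_and_not_dvd hord p hpp.ne_one
  have hk0 : k ≠ 0 := by rintro rfl; exact hk (dvd_zero p)
  letI : Fintype (GaloisField p (Nat.totient k)) := Fintype.ofFinite _
  have hcard : Fintype.card (GaloisField p (Nat.totient k)) = p ^ Nat.totient k := by
    rw [← Nat.card_eq_fintype_card]
    exact GaloisField.card p _ (Nat.totient_pos.2 (Nat.pos_of_ne_zero hk0)).ne'
  have hkd : k ∣ Fintype.card (GaloisField p (Nat.totient k)) - 1 := by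
    rw [hcard]; exact Cfsg.Agent.S0593.dvd_pow_totient_sub_one p k hpp hk
  have hxy : (x * y) ^ (p ^ e * k) = 1 := by rw [← hek]; exact pow_orderOf_eq_one _
  obtain ⟨n, ρ, hρ, hqx, hqy⟩ := linearize_aux (GaloisField p (Nat.totient k)) ρ₀ hinj x y hx hy
  exact hC (GaloisField p (Nat.totient k)) n ρ e k hρ hqx hqy hkd hxy

theorem linearize {Γ : Type*} [Group Γ] [Finite Γ] {E : Type*} [CommGroup E] [Finite E]
    [Module (ZMod p) (Additive E)] (α : Γ →* MulAut E) (hα : Function.Injective α) (x y : Γ)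
    (hx : QuadA α x) (hy : QuadA α y) (C : Prop)
    (hC : ∀ (K : Type) [Field K] [Fintype K] [CharP K p] (n : ℕ)
      (ρ : Γ →* ((Fin n → K) →ₗ[K] (Fin n → K))) (e k : ℕ), Function.Injective ρ →
      (∀ w, ρ x (ρ x w - w) = ρ x w - w) → (∀ w, ρ y (ρ y w - w) = ρ y w - w) →
      k ∣ Fintype.card K - 1 → (x * y) ^ (p ^ e * k) = 1 → C) : C := by
  have key : ∀ (g : Γ) (v : Additive E),
      (AddMonoidHom.toZModLinearMap p (MonoidHom.toAdditive (α g).toMonoidHom) :
        Additive E →ₗ[ZMod p] Additive E) v =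
        Additive.ofMul (α g (Additive.toMul v)) := fun g v => rfl
  let ρ₀ : Γ →* Module.End (ZMod p) (Additive E) :=
    { toFun := fun g => (MonoidHom.toAdditive (α g).toMonoidHom).toZModLinearMap p
      map_one' := by
        apply LinearMap.ext
        intro v
        rw [key, Module.End.one_apply, map_one]
        rfl
      map_mul' := by
        intro g h
        apply LinearMap.ext
        intro v
        rw [Module.End.mul_apply, key, key, key, map_mul]
        rfl }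
  have hinj : Function.Injective ρ₀ := by
    intro g h hgh
    apply hα
    ext v
    have := congrArg (fun f : Module.End (ZMod p) (Additive E) => (f (Additive.ofMul v)).toMul) hgh
    exact this
  have hqx : (ρ₀ x - 1) * (ρ₀ x - 1) = 0 := by
    rw [← Cfsg.Agent.S0593.quad_iff_sq_zero]
    intro w
    show Additive.ofMul (α x (α x w.toMul / w.toMul)) = Additive.ofMul (α x w.toMul / w.toMul)
    rw [hx]
  have hqy : (ρ₀ y - 1) * (ρ₀ y - 1) = 0 := by
    rw [← Cfsg.Agent.S0593.quad_iff_sq_zero]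
    intro w
    show Additive.ofMul (α y (α y w.toMul / w.toMul)) = Additive.ofMul (α y w.toMul / w.toMul)
    rw [hy]
  exact linearize_add ρ₀ hinj x y hqx hqy C hC

end Lin

section Sec
universe u v
variable {K : Type*} [Field K] [Fintype K] {p : ℕ} [Fact p.Prime] [CharP K p]

theorem map_normal_le_normalizer {Γ : Type*} [Group Γ] {S : Type*} [Group S] (φ : Γ →* S)
    (N : Subgroup Γ) [hN : N.Normal] (g : Γ) :
    φ g ∈ Subgroup.normalizer ((N.map φ : Subgroup S) : Set S) := by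
  apply Subgroup.le_normalizer_map φ
  refine ⟨g, ?_, rfl⟩
  rw [Subgroup.normalizer_eq_top_iff.mpr hN]
  trivial

theorem quad_section_lin (hp : p ≠ 2) {Γ : Type v} [Group Γ] [Finite Γ] (x y : Γ)
    (hgen : Subgroup.closure {x, y} = (⊤ : Subgroup Γ)) (hxp : x ^ p = 1) (hyp : y ^ p = 1)
    (e k : ℕ) (hk : k ∣ Fintype.card K - 1) (hxy : (x * y) ^ (p ^ e * k) = 1)
    (V : Type u) [AddCommGroup V] [Module K V] [FiniteDimensional K V]
    (ρ : Γ →* (V →ₗ[K] V)) (hx : ∀ w, ρ x (ρ x w - w) = ρ x w - w)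
    (hy : ∀ w, ρ y (ρ y w - w) = ρ y w - w)
    (N P : Subgroup Γ) [N.Normal] [P.Normal] (hPp : IsPGroup p P)
    (hidx : (P.relIndex N).Coprime p)
    (hD : ¬ ∀ d ∈ ⁅N, Subgroup.zpowers x⁆, ∃ j : ℕ, ρ d ^ (p ^ j) = 1) :
    p = 3 ∧ ∃ (Y : Subgroup Γ) (f : Y →* Matrix.SpecialLinearGroup (Fin 2) (ZMod 3)),
      Function.Surjective f := by
  obtain ⟨φ, hφ⟩ := main_aux_sub (K := K) (p := p) x y hgen e k hk hxy ⁅N, Subgroup.zpowers x⁆
    _ V ρ rfl hx hy hD
  have ht : φ x ^ p = 1 := by rw [← map_pow, hxp, map_one]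
  have ht' : φ y ^ p = 1 := by rw [← map_pow, hyp, map_one]
  have hrange : ∀ g : Γ, φ g ∈ Subgroup.closure ({φ x, φ y} : Set _) := by
    intro g
    have h1 : φ g ∈ (Subgroup.closure ({x, y} : Set Γ)).map φ := by
      rw [hgen]
      exact ⟨g, Subgroup.mem_top g, rfl⟩
    rw [MonoidHom.map_closure, Set.image_pair] at h1
    exact h1
  have hPbot : P.map φ = ⊥ := by
    by_contra hP1
    have hcomm := commute_of_normal_pgroup hp (φ x) (φ y) ht ht' (P.map φ) (hPp.map φ) hP1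
      (map_normal_le_normalizer φ P x) (map_normal_le_normalizer φ P y)
    have hEA := elemAb_closure p ({φ x, φ y} : Set (Matrix.SpecialLinearGroup (Fin 2) K))
      (by
        rintro a (rfl | ha) b (rfl | hb)
        · rfl
        · rw [Set.mem_singleton_iff] at hb; subst hb; exact hcomm
        · rw [Set.mem_singleton_iff] at ha; subst ha; exact hcomm.symm
        · rw [Set.mem_singleton_iff] at ha hb; subst ha; subst hb; rfl)
      (by
        rintro a (rfl | ha)
        · exact ht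
        · rw [Set.mem_singleton_iff] at ha; subst ha; exact ht')
    apply hφ
    intro d _
    refine ⟨1, ?_⟩
    rw [pow_one]
    exact hEA.2 _ (hrange d)
  have hcop : (Nat.card (N.map φ)).Coprime p := by
    have hdvd : (P.map φ).relIndex (N.map φ) ∣ P.relIndex N := by
      rw [← Subgroup.relIndex_comap, Subgroup.comap_map_eq]
      exact Subgroup.relIndex_dvd_of_le_left N le_sup_left
    rw [hPbot, Subgroup.relIndex_bot_left] at hdvd
    exact Nat.Coprime.coprime_dvd_left hdvd hidx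
  have hnc : ∃ r ∈ N.map φ, φ x * r ≠ r * φ x := by
    by_contra hcon
    push Not at hcon
    apply hφ
    intro d hd
    refine ⟨0, ?_⟩
    rw [pow_zero, pow_one]
    have hle : ⁅N, Subgroup.zpowers x⁆ ≤ φ.ker := by
      rw [Subgroup.commutator_le]
      intro n hn z hz
      obtain ⟨i, rfl⟩ := Subgroup.mem_zpowers_iff.mp hz
      rw [MonoidHom.mem_ker, map_commutatorElement, commutatorElement_eq_one_iff_commute, map_zpow]
      have h1 : Commute (φ n) (φ x) := (hcon (φ n) ⟨n, hn, rfl⟩).symm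
      exact h1.zpow_right i
    exact hle hd
  obtain ⟨Q, hQR, hQp, hQn, q, hq, hqt⟩ :=
    exists_two_subgroup_not_centralized hp (φ x) ht (N.map φ) hcop
      (map_normal_le_normalizer φ N x) hnc
  obtain ⟨h3, Y, f, hY, hf⟩ := sl2_section hp (φ x) ht Q hQp hQn q hq hqt
  refine ⟨h3, Y.comap φ, f.comp (φ.subgroupComap Y), ?_⟩
  have hYr : Y ≤ φ.range := by
    refine hY.trans (sup_le (hQR.trans ?_) ?_)
    · rintro _ ⟨n, _, rfl⟩
      exact ⟨n, rfl⟩
    · rw [Subgroup.zpowers_le]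
      exact ⟨x, rfl⟩
  intro z
  obtain ⟨⟨w, hw⟩, rfl⟩ := hf z
  obtain ⟨g, rfl⟩ := hYr hw
  exact ⟨⟨g, hw⟩, rfl⟩

theorem quad_section_abs {p : ℕ} [Fact p.Prime] (hp : p ≠ 2) {Γ : Type v} [Group Γ] [Finite Γ]
    {E : Type*} [CommGroup E] [Finite E] [Module (ZMod p) (Additive E)] (α : Γ →* MulAut E)
    (hα : Function.Injective α) (x y : Γ)
    (hgen : Subgroup.closure {x, y} = (⊤ : Subgroup Γ)) (hx : QuadA α x) (hy : QuadA α y)
    (N P : Subgroup Γ) [N.Normal] [P.Normal] (hPp : IsPGroup p P)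
    (hidx : (P.relIndex N).Coprime p) (hD : ¬ IsPGroup p (⁅N, Subgroup.zpowers x⁆ : Subgroup Γ)) :
    p = 3 ∧ ∃ (Y : Subgroup Γ) (f : Y →* Matrix.SpecialLinearGroup (Fin 2) (ZMod 3)),
      Function.Surjective f := by
  apply linearize (p := p) α hα x y hx hy
  intro K _ _ _ n ρ e k hρ hqx hqy hkd hxy
  have hxp : x ^ p = 1 := quadA_pow_p (p := p) α hα x hx
  have hyp : y ^ p = 1 := quadA_pow_p (p := p) α hα y hy
  apply quad_section_lin (K := K) hp x y hgen hxp hyp e k hkd hxy (Fin n → K) ρ hqx hqy N P hPp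
    hidx
  intro hall
  apply hD
  intro d
  obtain ⟨j, hj⟩ := hall d d.2
  refine ⟨j, ?_⟩
  apply Subtype.ext
  apply hρ
  rw [Subgroup.coe_pow, map_pow, Subgroup.coe_one, map_one]
  exact hj

end Sec

end Cfsg.Agent.Lib.Helper5
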