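import Mathlib
import Cfsg.Prelude.Def_Local

set_option autoImplicit false

namespace Cfsg.Agent.Lib.Helper5

universe u

open scoped commutatorElement

theorem isPSolvable_of_quotient {G : Type u} [Group G] [Finite G] {p : ℕ} (N : Subgroup G)
    [N.Normal] (hN : (∃ m : ℕ, Nat.card N = p ^ m) ∨ (Nat.card N).Coprime p)
    (hQ : Cfsg.IsPSolvable p (G ⧸ N)) : Cfsg.IsPSolvable p G := by
  obtain ⟨n, H, h0, hlast, hmono, hnorm, hfac⟩ := hQ
  have hsurj := QuotientGroup.mk'_surjective N
  refine ⟨n + 1, Fin.cons ⊥ (fun i => (H i).comap (QuotientGroup.mk' N)), ?_, ?_, ?_, ?_, ?_⟩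
  · rfl
  · rw [← Fin.succ_last, Fin.cons_succ, hlast, Subgroup.comap_top]
  · rw [Fin.monotone_iff_le_succ]
    intro i
    rw [Fin.cons_succ]
    refine Fin.cases ?_ (fun j => ?_) i
    · rw [Fin.castSucc_zero, Fin.cons_zero]
      exact bot_le
    · rw [← Fin.succ_castSucc, Fin.cons_succ]
      exact Subgroup.comap_mono (hmono (Fin.castSucc_le_succ j))
  · intro i
    refine Fin.cases ?_ (fun j => ?_) i
    · rw [Fin.cons_zero]
      infer_instance
    · rw [Fin.cons_succ]
      have := hnorm j
      infer_instance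
  · intro i
    rw [Fin.cons_succ]
    refine Fin.cases ?_ (fun j => ?_) i
    · rw [Fin.castSucc_zero, Fin.cons_zero, h0, MonoidHom.comap_bot, QuotientGroup.ker_mk',
        Subgroup.relIndex_bot_left]
      exact hN
    · rw [← Fin.succ_castSucc, Fin.cons_succ, Subgroup.relIndex_comap,
        Subgroup.map_comap_eq_self_of_surjective hsurj]
      exact hfac j

theorem exists_normal_pgroup_of_solvable {G : Type u} [Group G] [Finite G] [Nontrivial G]
    (hs : Group.IsSolvable G) :
    ∃ (q : ℕ) (N : Subgroup G), q.Prime ∧ N.Normal ∧ N ≠ ⊥ ∧ IsPGroup q N := by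
  classical
  obtain ⟨n, hn⟩ := hs.solvable
  have hex : ∃ n, derivedSeries G n = ⊥ := ⟨n, hn⟩
  set m := Nat.find hex with hm
  have hm1 : derivedSeries G m = ⊥ := Nat.find_spec hex
  have hm0 : m ≠ 0 := by
    intro h0
    rw [h0, derivedSeries_zero] at hm1
    exact top_ne_bot hm1
  obtain ⟨k, hk⟩ := Nat.exists_eq_succ_of_ne_zero hm0
  have hk1 : derivedSeries G k ≠ ⊥ := by
    intro h
    have := Nat.find_min' hex h
    omega
  set A := derivedSeries G k with hA
  have hAn : A.Normal := derivedSeries_normal G k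
  have hAc : ⁅A, A⁆ = ⊥ := by
    rw [hA, ← derivedSeries_succ]
    rw [hk] at hm1; exact hm1
  have hAcomm : ∀ a b : A, a * b = b * a := by
    intro a b
    have h1 : ⁅(a : G), (b : G)⁆ ∈ ⁅A, A⁆ := Subgroup.commutator_mem_commutator a.2 b.2
    rw [hAc, Subgroup.mem_bot, commutatorElement_eq_one_iff_mul_comm] at h1
    exact Subtype.ext h1
  have hcard : 1 < Nat.card A := by
    rw [Subgroup.one_lt_card_iff_ne_bot]; exact hk1
  obtain ⟨q, hq, hqd⟩ := Nat.exists_prime_and_dvd (Nat.ne_of_gt hcard)
  haveI : Fact q.Prime := ⟨hq⟩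
  let Q : Sylow q A := default
  have hQn : (Q : Subgroup A).Normal := ⟨fun x hx g => by
    rw [hAcomm g x, mul_inv_cancel_right]; exact hx⟩
  have hQc : (Q : Subgroup A).Characteristic := Sylow.characteristic_of_normal Q hQn
  refine ⟨q, (Q : Subgroup A).map A.subtype, hq, ?_, ?_, Q.2.map _⟩
  · exact ConjAct.normal_of_characteristic_of_normal
  · intro h
    rw [Subgroup.map_eq_bot_iff_of_injective _ A.subtype_injective] at h
    exact Q.ne_bot_of_dvd_card hqd h

theorem isPSolvable_of_isSolvable_aux (p : ℕ) [Fact p.Prime] : ∀ (n : ℕ) (G : Type u) [Group G]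
    [Finite G], Nat.card G = n → Group.IsSolvable G → Cfsg.IsPSolvable p G := by
  intro n
  induction n using Nat.strong_induction_on with
  | _ n ih =>
    intro G _ _ hcard hs
    by_cases htriv : Subsingleton G
    · refine ⟨0, fun _ => ⊥, rfl, ?_, fun _ _ _ => le_rfl, fun _ => inferInstance, ?_⟩
      · exact (Subsingleton.elim _ _)
      · intro i; exact i.elim0
    · rw [not_subsingleton_iff_nontrivial] at htriv
      obtain ⟨q, N, hq, hNn, hN1, hNq⟩ := exists_normal_pgroup_of_solvable hs
      haveI := hNn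
      haveI := hs
      have hlt : Nat.card (G ⧸ N) < n := by
        rw [← hcard, Subgroup.card_eq_card_quotient_mul_card_subgroup N]
        have h1 : 1 < Nat.card ↥N := by
          rw [Subgroup.one_lt_card_iff_ne_bot]; exact hN1
        have h2 := Nat.card_pos (α := G ⧸ N)
        nlinarith
      have hQ := ih _ hlt (G ⧸ N) rfl (Group.isSolvable_of_surjective (QuotientGroup.mk'_surjective N))
      apply isPSolvable_of_quotient N _ hQ
      haveI : Fact q.Prime := ⟨hq⟩
      obtain ⟨m, hm⟩ := IsPGroup.iff_card.mp hNq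
      by_cases hqp : q = p
      · left; exact ⟨m, by rw [hm, hqp]⟩
      · right
        rw [hm]
        apply Nat.Coprime.pow_left
        rw [Nat.coprime_primes hq (Fact.out : p.Prime)]
        exact hqp

theorem isPSolvable_of_isSolvable (p : ℕ) [Fact p.Prime] (G : Type u) [Group G] [Finite G]
    (hs : Group.IsSolvable G) : Cfsg.IsPSolvable p G :=
  isPSolvable_of_isSolvable_aux p _ G rfl hs

end Cfsg.Agent.Lib.Helper5
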