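import Mathlib
import Cfsg.Agent.Lib.helper3.BSZ.Defs

/-!
# Project BSZ, rows A01 (`binary_bot`) and A02 (`binary_iso`), verbatim vs `helper3/BSZ/Skel.lean.txt`.
-/

set_option autoImplicit false

namespace Cfsg.Agent.Lib.helper3.BSZ

open Cfsg Cfsg.Agent.Lib.helper3

/-- the action of `G` on `G ⧸ ⊥` is free -/
theorem bsza01_free {G : Type*} [Group G] (g g' : G) (x : G ⧸ (⊥ : Subgroup G))
    (h : g • x = g' • x) : g = g' := by
  induction x using QuotientGroup.induction_on with
  | H a =>
    rw [MulAction.Quotient.smul_mk, MulAction.Quotient.smul_mk, QuotientGroup.eq,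
      Subgroup.mem_bot, smul_eq_mul, smul_eq_mul] at h
    have h2 : g * a = g' * a := by
      have := congrArg (fun z => (g * a) * z) h
      simp only [mul_inv_cancel_left, mul_one] at this
      exact this.symm
    exact mul_right_cancel h2

/-- A01 [S]: the regular action is binary. -/
theorem binary_bot {G : Type*} [Group G] : BinH (⊥ : Subgroup G) := by
  intro n I J hn hpair
  have h0 : 0 < n := by omega
  have h1 : 1 < n := by omega
  have h01 : (⟨0, h0⟩ : Fin n) ≠ ⟨1, h1⟩ := by
    intro h
    have := congrArg Fin.val h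
    simp at this
  obtain ⟨g₀, hg₀, -⟩ := hpair ⟨0, h0⟩ ⟨1, h1⟩ h01
  refine ⟨g₀, ?_⟩
  intro i
  by_cases hi : i = ⟨0, h0⟩
  · rw [hi]; exact hg₀
  · obtain ⟨g', hg'0, hg'i⟩ := hpair ⟨0, h0⟩ i (fun h => hi h.symm)
    have : g' = g₀ := bsza01_free g' g₀ (I ⟨0, h0⟩) (hg'0.trans hg₀.symm)
    rw [← this]
    exact hg'i

/-- the bijection `G ⧸ H ≃ G' ⧸ H.map e` induced by an isomorphism `e` -/
noncomputable def bsza02_equiv {G G' : Type*} [Group G] [Group G'] (e : G ≃* G') (H : Subgroup G) :
    G ⧸ H ≃ G' ⧸ H.map e.toMonoidHom :=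
  Quotient.congr e.toEquiv (by
    intro a b
    show QuotientGroup.leftRel H a b ↔ QuotientGroup.leftRel (H.map e.toMonoidHom) (e a) (e b)
    rw [QuotientGroup.leftRel_apply, QuotientGroup.leftRel_apply, ← map_inv, ← map_mul,
      Subgroup.mem_map_equiv, MulEquiv.symm_apply_apply])

theorem bsza02_equiv_mk {G G' : Type*} [Group G] [Group G'] (e : G ≃* G') (H : Subgroup G) (a : G) :
    bsza02_equiv e H (QuotientGroup.mk a) = QuotientGroup.mk (e a) := rfl

theorem bsza02_equiv_smul {G G' : Type*} [Group G] [Group G'] (e : G ≃* G') (H : Subgroup G)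
    (g : G) (x : G ⧸ H) : bsza02_equiv e H (g • x) = e g • bsza02_equiv e H x := by
  induction x using QuotientGroup.induction_on with
  | H a =>
    rw [MulAction.Quotient.smul_mk, bsza02_equiv_mk, bsza02_equiv_mk, MulAction.Quotient.smul_mk,
      smul_eq_mul, smul_eq_mul, map_mul]

/-- one direction of A02 -/
theorem bsza02_forward {G G' : Type*} [Group G] [Group G'] (e : G ≃* G') (H : Subgroup G)
    (hB : BinH H) : BinH (H.map e.toMonoidHom) := by
  intro n I' J' hn hpair
  obtain ⟨g, hg⟩ := hB n (fun i => (bsza02_equiv e H).symm (I' i))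
    (fun i => (bsza02_equiv e H).symm (J' i)) hn (by
      intro i j hij
      obtain ⟨g', hi, hj⟩ := hpair i j hij
      refine ⟨e.symm g', ?_, ?_⟩
      · apply (bsza02_equiv e H).injective
        rw [bsza02_equiv_smul, Equiv.apply_symm_apply, Equiv.apply_symm_apply,
          MulEquiv.apply_symm_apply]
        exact hi
      · apply (bsza02_equiv e H).injective
        rw [bsza02_equiv_smul, Equiv.apply_symm_apply, Equiv.apply_symm_apply,
          MulEquiv.apply_symm_apply]
        exact hj)
  refine ⟨e g, ?_⟩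
  intro i
  have := congrArg (bsza02_equiv e H) (hg i)
  rw [bsza02_equiv_smul, Equiv.apply_symm_apply, Equiv.apply_symm_apply] at this
  exact this

/-- A02 [M]: transport along a group isomorphism. -/
theorem binary_iso {G G' : Type*} [Group G] [Group G'] (e : G ≃* G') (H : Subgroup G) :
    BinH H ↔ BinH (H.map e.toMonoidHom) := by
  constructor
  · exact bsza02_forward e H
  · intro h
    have h2 := bsza02_forward e.symm (H.map e.toMonoidHom) h
    have h3 : (H.map e.toMonoidHom).map e.symm.toMonoidHom = H := by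
      ext x
      rw [Subgroup.mem_map_equiv, Subgroup.mem_map_equiv]
      simp
    rw [h3] at h2
    exact h2

end Cfsg.Agent.Lib.helper3.BSZ
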