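import Mathlib
import Cfsg.Agent.Lib.helper15.St2
import Cfsg.Agent.Lib.helper7.StA
import Cfsg.Agent.Lib.helper7.StC
import Cfsg.Agent.Lib.Helper24.STCI1
import Cfsg.Agent.Lib.helper23.STCX2
import Cfsg.Agent.Lib.Helper27.STU.Defs
import Cfsg.Agent.Lib.Helper27.STU.Defs2

/-!
# Project STU (helper27, PSU S2291), row Λ5 (helper5), verbatim: `Lam.exists_c_ne`, `Lam.exists_of_c`, `Lam.exists_of_skew`,
`Lam.c_skew_of_even`.
-/

set_option autoImplicit false

namespace Cfsg.Agent.Lib.Helper27.STU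

open Cfsg.Agent.Lib.helper15.St2 Cfsg.Agent.Lib.helper7.St Cfsg.Agent.Lib.helper3.STC

namespace Lam

variable {F : Type*} [Field F] [StarRing F] {od : Prop}

/-- in the even case the `c`-coordinates are the skew elements -/
theorem exists_of_skew (c : F) (hc : star c = -c) : ∃ ξ : Lam F od, ξ.c = c ∧ ξ.v = 0 :=
  ⟨⟨0, c, by rw [hc, star_zero, mul_zero, add_zero, add_neg_cancel], fun _ => rfl⟩, rfl, rfl⟩

/-- Λ5 [S-M]  existence of parameters (hypotheses `Hyp F`, file `Frob.lean`).  Even case (`¬ od`): `ξ.v = 0`, so `star ξ.c = -ξ.c`; `r = star r` is needed.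
Odd case: `norm_surj` applied to `-(r * c + star (r * c))`. -/
theorem exists_c_ne (hF : Hyp F) : ∃ ξ : Lam F od, ξ.c ≠ 0 := by
  obtain ⟨c, hc0, hc⟩ := hF.ex_skew
  obtain ⟨ξ, h1, -⟩ := exists_of_skew (od := od) c hc
  exact ⟨ξ, by rw [h1]; exact hc0⟩

/-- in the odd case every scalar is the `c`-coordinate of some element -/
theorem exists_of_c (hF : Hyp F) (hod : od) (c : F) : ∃ ξ : Lam F od, ξ.c = c := by
  obtain ⟨y, hy⟩ := hF.norm_surj (-(c + star c)) (by rw [star_neg, star_add, star_star, add_comm])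
  exact ⟨⟨y, c, by rw [hy, add_neg_cancel], fun h => absurd hod h⟩, rfl⟩

theorem c_skew_of_even (hod : ¬ od) (ξ : Lam F od) : star ξ.c = -ξ.c := by
  have h1 := ξ.h
  rw [ξ.hv hod, zero_mul, add_zero] at h1
  exact eq_neg_of_add_eq_zero_right h1

end Lam

end Cfsg.Agent.Lib.Helper27.STU
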