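import Mathlib
import Cfsg.Agent.S0673

set_option autoImplicit false
open Cfsg

namespace Cfsg.Agent.Lib.Helper5

open Polynomial
open Cfsg.Agent.S0673 (evL Vr finrank_Vr evL_injOn)

section
variable {p : ℕ} [Fact p.Prime] {K : Type*} [Field K] [CharP K p]

theorem pd_mem_Vr (r : ℕ) (f : ZMod p → K) :
    f ∈ Vr (p := p) (K := K) r ↔ ∃ P : K[X], P.degree < r ∧ f = evL P := by
  constructor
  · rintro ⟨P, hP, rfl⟩
    exact ⟨P, mem_degreeLT.mp hP, rfl⟩
  · rintro ⟨P, hP, rfl⟩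
    exact ⟨P, mem_degreeLT.mpr hP, rfl⟩

theorem pd_Vr_mono {r s : ℕ} (h : r ≤ s) : Vr (p := p) (K := K) r ≤ Vr s :=
  Submodule.map_mono (degreeLT_mono h)

theorem pd_evL_apply (P : K[X]) (j : ZMod p) : evL (p := p) P j = P.eval (ZMod.cast j : K) := rfl

theorem pd_evL_mul (P Q : K[X]) : evL (p := p) (P * Q) = evL P * evL Q := by
  funext j
  simp [pd_evL_apply]

theorem pd_evL_X : evL (p := p) (X : K[X]) = fun j => (ZMod.cast j : K) := by
  funext j
  simp [pd_evL_apply]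

theorem pd_evL_inj (P Q : K[X]) (hP : P.degree < p) (hQ : Q.degree < p)
    (h : evL (p := p) P = evL Q) : P = Q := by
  have h1 : P - Q ∈ degreeLT K p := by
    rw [mem_degreeLT]
    exact lt_of_le_of_lt (degree_sub_le P Q) (max_lt hP hQ)
  have h2 : evL (p := p) (P - Q) = 0 := by rw [map_sub, h, sub_self]
  exact sub_eq_zero.mp (evL_injOn _ h1 h2)

theorem pd_eq_Vr (W : Submodule K (ZMod p → K)) (hW : ∀ f ∈ W, (fun j => f (j - 1)) ∈ W) :
    Module.finrank K W ≤ p ∧ W = Vr (Module.finrank K W) := by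
  obtain ⟨r, hr, hfr, hmem⟩ := Cfsg.Agent.S0673.result W hW
  rw [hfr]
  refine ⟨hr, ?_⟩
  ext f
  rw [hmem, pd_mem_Vr]
  constructor
  · rintro ⟨P, hP, hj⟩
    exact ⟨P, hP, funext hj⟩
  · rintro ⟨P, hP, rfl⟩
    exact ⟨P, hP, fun j => rfl⟩

def pd_Inv (Γ : Subgroup (Equiv.Perm (ZMod p))) (M : Submodule K (ZMod p → K)) : Prop :=
  ∀ γ ∈ Γ, ∀ f ∈ M, (fun j => f (γ j)) ∈ M

noncomputable def pd_U (K : Type*) [Field K] (Γ : Subgroup (Equiv.Perm (ZMod p))) :
    Submodule K (ZMod p → K) :=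
  Submodule.span K {f | ∃ γ ∈ Γ, f = fun j => (ZMod.cast (γ j) : K)}

theorem pd_U_inv (Γ : Subgroup (Equiv.Perm (ZMod p))) : pd_Inv Γ (pd_U K Γ) := by
  intro γ hγ f hf
  have hle : (pd_U K Γ).map (LinearMap.funLeft K K (γ : ZMod p → ZMod p)) ≤ pd_U K Γ := by
    rw [pd_U, Submodule.map_span, Submodule.span_le]
    rintro _ ⟨f, ⟨γ', hγ', rfl⟩, rfl⟩
    apply Submodule.subset_span
    exact ⟨γ' * γ, Γ.mul_mem hγ' hγ, rfl⟩
  exact hle ⟨f, hf, rfl⟩

theorem pd_shift_of_inv (Γ : Subgroup (Equiv.Perm (ZMod p)))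
    (hτ : Equiv.addRight (1 : ZMod p) ∈ Γ) (M : Submodule K (ZMod p → K)) (hM : pd_Inv Γ M) :
    ∀ f ∈ M, (fun j => f (j - 1)) ∈ M := by
  intro f hf
  have h1 := hM _ (Γ.inv_mem hτ) f hf
  have h2 : ∀ j : ZMod p, (Equiv.addRight (1 : ZMod p))⁻¹ j = j - 1 := by
    intro j
    rw [Equiv.Perm.inv_def, Equiv.addRight_symm, Equiv.coe_addRight, sub_eq_add_neg]
  simp only [h2] at h1
  exact h1

theorem pd_U_le (Γ : Subgroup (Equiv.Perm (ZMod p))) (M : Submodule K (ZMod p → K))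
    (hM : pd_Inv Γ M) (hx : (fun j : ZMod p => (ZMod.cast j : K)) ∈ M) : pd_U K Γ ≤ M := by
  rw [pd_U, Submodule.span_le]
  rintro _ ⟨γ, hγ, rfl⟩
  exact hM γ hγ _ hx

theorem pd_x_mem_U (Γ : Subgroup (Equiv.Perm (ZMod p))) :
    (fun j : ZMod p => (ZMod.cast j : K)) ∈ pd_U K Γ :=
  Submodule.subset_span ⟨1, Γ.one_mem, rfl⟩

theorem pd_x_mem_Vr {r : ℕ} (hr : 2 ≤ r) :
    (fun j : ZMod p => (ZMod.cast j : K)) ∈ Vr (p := p) (K := K) r := by
  rw [pd_mem_Vr]
  refine ⟨X, ?_, pd_evL_X.symm⟩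
  rw [degree_X]
  exact_mod_cast hr

theorem pd_affine_of_small (Γ : Subgroup (Equiv.Perm (ZMod p)))
    (hτ : Equiv.addRight (1 : ZMod p) ∈ Γ) (r' : ℕ) (h2 : 2 ≤ r') (hr' : 2 * r' ≤ p + 2)
    (hinv : pd_Inv Γ (Vr (p := p) (K := K) r')) :
    ∀ γ ∈ Γ, ∃ a b : ZMod p, ∀ j, γ j = a * j + b := by
  have hp : p.Prime := Fact.out
  have hp2 : 2 ≤ p := hp.two_le
  have hr'p : r' ≤ p := by omega
  have hNZ : NeZero p := ⟨hp.ne_zero⟩
  obtain ⟨hr''p, hUeq⟩ := pd_eq_Vr (pd_U K Γ) (pd_shift_of_inv Γ hτ _ (pd_U_inv Γ))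
  set r'' := Module.finrank K (pd_U K Γ) with hr''
  have hUle : pd_U K Γ ≤ Vr r' := pd_U_le Γ _ hinv (pd_x_mem_Vr h2)
  have hr''le : r'' ≤ r' := by
    have := Submodule.finrank_mono hUle
    rwa [finrank_Vr r' hr'p] at this
  have hxU : (fun j : ZMod p => (ZMod.cast j : K)) ∈ Vr (p := p) (K := K) r'' := by
    rw [← hUeq]; exact pd_x_mem_U Γ
  have h2r'' : 2 ≤ r'' := by
    obtain ⟨P, hP, hPx⟩ := (pd_mem_Vr _ _).mp hxU
    rw [← pd_evL_X] at hPx
    have hXP : (X : K[X]) = P := by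
      apply pd_evL_inj _ _ _ _ hPx
      · rw [degree_X]; exact_mod_cast hp.one_lt
      · exact lt_of_lt_of_le hP (by exact_mod_cast hr''p)
    rw [← hXP, degree_X] at hP
    exact_mod_cast hP
  have hr''2 : r'' ≤ 2 := by
    by_contra hcon
    have h3 : 3 ≤ r'' := by omega
    have hex : ∃ γ₀ ∈ Γ, (fun j : ZMod p => (ZMod.cast (γ₀ j) : K)) ∉
        Vr (p := p) (K := K) (r'' - 1) := by
      by_contra hall
      push Not at hall
      have hle : pd_U K Γ ≤ Vr (r'' - 1) := by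
        rw [pd_U, Submodule.span_le]
        rintro _ ⟨γ, hγ, rfl⟩
        exact hall γ hγ
      have := Submodule.finrank_mono hle
      rw [finrank_Vr (r'' - 1) (by omega)] at this
      omega
    obtain ⟨γ₀, hγ₀, hnot⟩ := hex
    have hmem : (fun j : ZMod p => (ZMod.cast (γ₀ j) : K)) ∈ Vr (p := p) (K := K) r'' := by
      rw [← hUeq]
      exact Submodule.subset_span ⟨γ₀, hγ₀, rfl⟩
    obtain ⟨P, hP, hPx⟩ := (pd_mem_Vr _ _).mp hmem
    have hPnot : ¬ P.degree < ((r'' - 1 : ℕ) : WithBot ℕ) := by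
      intro hlt
      exact hnot ((pd_mem_Vr _ _).mpr ⟨P, hlt, hPx⟩)
    have hP0 : P ≠ 0 := by
      rintro rfl
      apply hPnot
      rw [degree_zero]
      exact WithBot.bot_lt_coe _
    have hnat : P.natDegree = r'' - 1 := by
      have h1 : P.natDegree < r'' := (natDegree_lt_iff_degree_lt hP0).mpr hP
      have h2 : ¬ P.natDegree < r'' - 1 := fun h => hPnot ((natDegree_lt_iff_degree_lt hP0).mp h)
      omega
    have hx2 : (fun j : ZMod p => (ZMod.cast j : K) ^ 2) ∈ pd_U K Γ := by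
      rw [hUeq]
      apply pd_Vr_mono h3
      rw [pd_mem_Vr]
      refine ⟨X ^ 2, ?_, ?_⟩
      · rw [degree_X_pow]; norm_num
      · funext j; simp [pd_evL_apply]
    have hsq := pd_U_inv (K := K) Γ γ₀ hγ₀ _ hx2
    rw [hUeq] at hsq
    obtain ⟨Q, hQ, hQx⟩ := (pd_mem_Vr _ _).mp hsq
    have hPQ : P ^ 2 = Q := by
      apply pd_evL_inj
      · have : (P ^ 2).natDegree < p := by
          rw [natDegree_pow, hnat]
          have h4 : 2 * (r'' - 1) ≤ p := by omega
          rcases Nat.lt_or_ge (2 * (r'' - 1)) p with h5 | h5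
          · exact h5
          · exfalso
            have h6 : 2 * (r'' - 1) = p := le_antisymm h4 h5
            have h7 : 2 ∣ p := ⟨r'' - 1, h6.symm⟩
            have h8 := (Nat.prime_dvd_prime_iff_eq Nat.prime_two hp).mp h7
            omega
        exact (natDegree_lt_iff_degree_lt (pow_ne_zero 2 hP0)).mp this
      · exact lt_of_lt_of_le hQ (by exact_mod_cast hr''p)
      · rw [← hQx, sq, pd_evL_mul, ← hPx]
        funext j
        simp [sq]
    have hdeg : (P ^ 2).natDegree < r'' := by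
      rw [hPQ]
      by_cases hQ0 : Q = 0
      · rw [hQ0, natDegree_zero]; omega
      · exact (natDegree_lt_iff_degree_lt hQ0).mpr hQ
    rw [natDegree_pow, hnat] at hdeg
    omega
  have hr''eq : r'' = 2 := le_antisymm hr''2 h2r''
  intro γ hγ
  have hmem : (fun j : ZMod p => (ZMod.cast (γ j) : K)) ∈ Vr (p := p) (K := K) 2 := by
    rw [← hr''eq, ← hUeq]
    exact Submodule.subset_span ⟨γ, hγ, rfl⟩
  obtain ⟨P, hP, hPx⟩ := (pd_mem_Vr _ _).mp hmem
  have hP1 : P.natDegree ≤ 1 := by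
    by_cases hP0 : P = 0
    · rw [hP0, natDegree_zero]; omega
    · have : P.natDegree < 2 := (natDegree_lt_iff_degree_lt hP0).mpr hP
      omega
  have hPform := eq_X_add_C_of_natDegree_le_one hP1
  have hval : ∀ j : ZMod p, (ZMod.cast (γ j) : K) = P.coeff 1 * (ZMod.cast j : K) + P.coeff 0 := by
    intro j
    have := congrFun hPx j
    rw [pd_evL_apply, hPform] at this
    simpa using this
  have hc : ∀ a : ZMod p, (ZMod.cast a : K) = ZMod.castHom (dvd_refl p) K a := fun a => rfl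
  have hinj := ZMod.castHom_injective (n := p) K
  have h0 : P.coeff 0 = (ZMod.cast (γ 0) : K) := by
    have := hval 0
    rw [ZMod.cast_zero, mul_zero, zero_add] at this
    exact this.symm
  have h1 : P.coeff 1 = (ZMod.cast (γ 1 - γ 0) : K) := by
    have e1 : (ZMod.cast (1 : ZMod p) : K) = 1 := by rw [hc, map_one]
    have := hval 1
    rw [e1, mul_one, h0] at this
    rw [hc (γ 1 - γ 0), map_sub, ← hc, ← hc, this]
    ring
  refine ⟨γ 1 - γ 0, γ 0, fun j => ?_⟩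
  apply hinj
  have := hval j
  rw [h0, h1] at this
  simp only [hc] at this
  rw [this, map_add, map_mul]

theorem pd_cast_eq (a : ZMod p) : (ZMod.cast a : K) = ZMod.castHom (dvd_refl p) K a := rfl

theorem pd_sum_pow_cast (i : ℕ) (hi : i + 1 < p) : ∑ j : ZMod p, (ZMod.cast j : K) ^ i = 0 := by
  have hNZ : NeZero p := ⟨(Fact.out : p.Prime).ne_zero⟩
  have h1 : ∑ j : ZMod p, j ^ i = 0 := by
    apply FiniteField.sum_pow_lt_card_sub_one
    rw [ZMod.card]
    omega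
  have h2 : ∑ j : ZMod p, (ZMod.cast j : K) ^ i =
      ZMod.castHom (dvd_refl p) K (∑ j : ZMod p, j ^ i) := by
    rw [map_sum]
    apply Finset.sum_congr rfl
    intro j _
    rw [map_pow, pd_cast_eq]
  rw [h2, h1, map_zero]

theorem pd_sum_pow_pred : ∑ j : ZMod p, (ZMod.cast j : K) ^ (p - 1) = -1 := by
  have hp : p.Prime := Fact.out
  have hNZ : NeZero p := ⟨hp.ne_zero⟩
  have h : ∀ j : ZMod p, j ^ (p - 1) = 1 - (if j = 0 then 1 else 0) := by
    intro j
    split_ifs with hj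
    · rw [hj, zero_pow (by have := hp.two_le; omega), sub_self]
    · rw [ZMod.pow_card_sub_one_eq_one hj, sub_zero]
  have h1 : ∑ j : ZMod p, j ^ (p - 1) = -1 := by
    simp_rw [h]
    rw [Finset.sum_sub_distrib, Finset.sum_ite_eq' Finset.univ (0 : ZMod p),
      if_pos (Finset.mem_univ _), Finset.sum_const, Finset.card_univ, ZMod.card, nsmul_eq_mul,
      mul_one, CharP.cast_eq_zero, zero_sub]
  have h2 : ∑ j : ZMod p, (ZMod.cast j : K) ^ (p - 1) =
      ZMod.castHom (dvd_refl p) K (∑ j : ZMod p, j ^ (p - 1)) := by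
    rw [map_sum]
    apply Finset.sum_congr rfl
    intro j _
    rw [map_pow, pd_cast_eq]
  rw [h2, h1, map_neg, map_one]

theorem pd_sum_evL_eq_zero (R : K[X]) (hR : R.natDegree + 1 < p) :
    ∑ j : ZMod p, evL (p := p) R j = 0 := by
  have hNZ : NeZero p := ⟨(Fact.out : p.Prime).ne_zero⟩
  simp only [pd_evL_apply, eval_eq_sum_range]
  rw [Finset.sum_comm]
  apply Finset.sum_eq_zero
  intro i hi
  rw [← Finset.mul_sum, pd_sum_pow_cast i (by have := Finset.mem_range.mp hi; omega), mul_zero]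

def pd_dual (M : Submodule K (ZMod p → K)) : Submodule K (ZMod p → K) where
  carrier := {f | ∀ h ∈ M, ∑ j, f j * h j = 0}
  add_mem' := by
    intro f₁ f₂ h₁ h₂ h hh
    simp only [Pi.add_apply, add_mul, Finset.sum_add_distrib]
    rw [h₁ h hh, h₂ h hh, add_zero]
  zero_mem' := by
    intro h _
    simp
  smul_mem' := by
    intro c f hf h hh
    simp only [Pi.smul_apply, smul_eq_mul, mul_assoc, ← Finset.mul_sum]
    rw [hf h hh, mul_zero]

theorem pd_mem_dual (M : Submodule K (ZMod p → K)) (f : ZMod p → K) :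
    f ∈ pd_dual M ↔ ∀ h ∈ M, ∑ j, f j * h j = 0 := Iff.rfl

theorem pd_dual_inv (Γ : Subgroup (Equiv.Perm (ZMod p))) (M : Submodule K (ZMod p → K))
    (hM : pd_Inv Γ M) : pd_Inv Γ (pd_dual M) := by
  have hNZ : NeZero p := ⟨(Fact.out : p.Prime).ne_zero⟩
  intro γ hγ f hf h hh
  have h1 := hf _ (hM γ⁻¹ (Γ.inv_mem hγ) h hh)
  rw [← h1]
  apply Fintype.sum_equiv γ
  intro j
  simp

theorem pd_affine_of_inv (Γ : Subgroup (Equiv.Perm (ZMod p)))
    (hτ : Equiv.addRight (1 : ZMod p) ∈ Γ) (M : Submodule K (ZMod p → K)) (hM : pd_Inv Γ M)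
    (h2 : 2 ≤ Module.finrank K M)
    (hp2' : 2 * Module.finrank K M ≤ p + 2 ∨ Module.finrank K M + 2 ≤ p) :
    ∀ γ ∈ Γ, ∃ a b : ZMod p, ∀ j, γ j = a * j + b := by
  have hp : p.Prime := Fact.out
  have hNZ : NeZero p := ⟨hp.ne_zero⟩
  obtain ⟨hr₀p, hMeq⟩ := pd_eq_Vr M (pd_shift_of_inv Γ hτ _ hM)
  set r₀ := Module.finrank K M with hr₀
  by_cases hsmall : 2 * r₀ ≤ p + 2
  · exact pd_affine_of_small (K := K) Γ hτ r₀ h2 hsmall (hMeq ▸ hM)
  · have hp2 : r₀ + 2 ≤ p := by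
      rcases hp2' with h | h
      · exact absurd h hsmall
      · exact h
    have hDinv := pd_dual_inv Γ M hM
    obtain ⟨hr₁p, hDeq⟩ := pd_eq_Vr (pd_dual M) (pd_shift_of_inv Γ hτ _ hDinv)
    set r₁ := Module.finrank K (pd_dual M) with hr₁
    have hle : Vr (p := p) (K := K) (p - r₀) ≤ pd_dual M := by
      intro f hf
      obtain ⟨P, hP, rfl⟩ := (pd_mem_Vr _ _).mp hf
      intro h hh
      rw [hMeq] at hh
      obtain ⟨Q, hQ, rfl⟩ := (pd_mem_Vr _ _).mp hh
      have : ∀ j, evL (p := p) P j * evL Q j = evL (P * Q) j := by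
        intro j; rw [pd_evL_mul]; rfl
      simp only [this]
      apply pd_sum_evL_eq_zero
      by_cases hP0 : P = 0
      · rw [hP0, zero_mul, natDegree_zero]; omega
      by_cases hQ0 : Q = 0
      · rw [hQ0, mul_zero, natDegree_zero]; omega
      have h1 : P.natDegree < p - r₀ := (natDegree_lt_iff_degree_lt hP0).mpr hP
      have h3 : Q.natDegree < r₀ := (natDegree_lt_iff_degree_lt hQ0).mpr hQ
      have h4 := natDegree_mul_le (p := P) (q := Q)
      omega
    have h1 : p - r₀ ≤ r₁ := by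
      have := Submodule.finrank_mono hle
      rwa [finrank_Vr (p - r₀) (by omega)] at this
    have h3 : r₁ ≤ p - r₀ := by
      by_contra hcon
      have hmem : evL (p := p) (X ^ (p - r₀) : K[X]) ∈ pd_dual M := by
        rw [hDeq]
        apply pd_Vr_mono (show p - r₀ + 1 ≤ r₁ by omega)
        rw [pd_mem_Vr]
        refine ⟨X ^ (p - r₀), ?_, rfl⟩
        rw [degree_X_pow]
        exact_mod_cast Nat.lt_succ_self _
      have hmem2 : evL (p := p) (X ^ (r₀ - 1) : K[X]) ∈ M := by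
        rw [hMeq, pd_mem_Vr]
        refine ⟨X ^ (r₀ - 1), ?_, rfl⟩
        rw [degree_X_pow]
        exact_mod_cast (show r₀ - 1 < r₀ by omega)
      have h4 := hmem _ hmem2
      have h5 : ∀ j : ZMod p, evL (p := p) (X ^ (p - r₀) : K[X]) j * evL (X ^ (r₀ - 1) : K[X]) j =
          (ZMod.cast j : K) ^ (p - 1) := by
        intro j
        rw [pd_evL_apply, pd_evL_apply, eval_pow, eval_pow, eval_X, ← pow_add]
        congr 1
        omega
      simp only [h5] at h4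
      rw [pd_sum_pow_pred] at h4
      simp at h4
    have hr₁eq : r₁ = p - r₀ := le_antisymm h3 h1
    apply pd_affine_of_small (K := K) Γ hτ r₁ (by omega) (by omega)
    rw [← hDeq]
    exact hDinv

end

section
variable {R : Type*} [CommRing R]

open scoped commutatorElement

theorem pd_apply_inv {α : Type*} (γ : Equiv.Perm α) (x : α) : γ (γ⁻¹ x) = x := by
  rw [Equiv.Perm.inv_def, Equiv.apply_symm_apply]

def pd_transl (R : Type*) [CommRing R] : Subgroup (Equiv.Perm R) where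
  carrier := {γ | ∀ x y, γ x - γ y = x - y}
  one_mem' := fun x y => rfl
  mul_mem' := by
    intro γ δ hγ hδ x y
    rw [Equiv.Perm.mul_apply, Equiv.Perm.mul_apply, hγ, hδ]
  inv_mem' := by
    intro γ hγ x y
    have := hγ (γ⁻¹ x) (γ⁻¹ y)
    rw [pd_apply_inv, pd_apply_inv] at this
    exact this.symm

theorem pd_mem_transl (γ : Equiv.Perm R) : γ ∈ pd_transl R ↔ ∀ x y, γ x - γ y = x - y := Iff.rfl

theorem pd_transl_comm (γ δ : Equiv.Perm R) (hγ : γ ∈ pd_transl R) (hδ : δ ∈ pd_transl R) :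
    γ * δ = δ * γ := by
  ext x
  rw [Equiv.Perm.mul_apply, Equiv.Perm.mul_apply]
  have h1 := hγ (δ x) 0
  have h2 := hδ x 0
  have h3 := hδ (γ x) 0
  have h4 := hγ x 0
  have e1 : γ (δ x) = δ x + γ 0 := by rw [← sub_eq_iff_eq_add, h1, sub_zero]
  have e2 : δ x = x + δ 0 := by rw [← sub_eq_iff_eq_add, h2, sub_zero]
  have e3 : δ (γ x) = γ x + δ 0 := by rw [← sub_eq_iff_eq_add, h3, sub_zero]
  have e4 : γ x = x + γ 0 := by rw [← sub_eq_iff_eq_add, h4, sub_zero]
  rw [e1, e2, e3, e4]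
  ring

theorem pd_solvable_of_affine (Γ : Subgroup (Equiv.Perm R))
    (h : ∀ γ ∈ Γ, ∃ a b : R, ∀ x, γ x = a * x + b) : Group.IsSolvable Γ := by
  have hlin : ∀ γ ∈ Γ, ∃ a : R, ∀ x y, γ x - γ y = a * (x - y) := by
    intro γ hγ
    obtain ⟨a, b, hab⟩ := h γ hγ
    exact ⟨a, fun x y => by rw [hab, hab]; ring⟩
  have hcomm : ∀ γ ∈ Γ, ∀ δ ∈ Γ, ⁅γ, δ⁆ ∈ pd_transl R := by
    intro γ hγ δ hδ
    obtain ⟨a, ha⟩ := hlin γ hγ
    obtain ⟨a', ha'⟩ := hlin γ⁻¹ (Γ.inv_mem hγ)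
    obtain ⟨c, hc⟩ := hlin δ hδ
    obtain ⟨c', hc'⟩ := hlin δ⁻¹ (Γ.inv_mem hδ)
    have haa' : a * a' = 1 := by
      have h1 := ha (γ⁻¹ 1) (γ⁻¹ 0)
      rw [pd_apply_inv, pd_apply_inv, ha'] at h1
      rw [sub_zero, mul_one] at h1
      exact h1.symm
    have hcc' : c * c' = 1 := by
      have h1 := hc (δ⁻¹ 1) (δ⁻¹ 0)
      rw [pd_apply_inv, pd_apply_inv, hc'] at h1
      rw [sub_zero, mul_one] at h1
      exact h1.symm
    intro x y
    rw [commutatorElement_def]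
    simp only [Equiv.Perm.mul_apply]
    rw [ha, hc, ha', hc']
    calc a * (c * (a' * (c' * (x - y)))) = (a * a') * (c * c') * (x - y) := by ring
      _ = x - y := by rw [haa', hcc']; ring
  rw [Group.isSolvable_def]
  refine ⟨2, ?_⟩
  rw [eq_bot_iff]
  have h1 : derivedSeries Γ 1 ≤ (pd_transl R).comap Γ.subtype := by
    rw [derivedSeries_succ, derivedSeries_zero, Subgroup.commutator_le]
    intro g₁ _ g₂ _
    rw [Subgroup.mem_comap, map_commutatorElement]
    exact hcomm _ g₁.2 _ g₂.2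
  calc derivedSeries Γ 2 = ⁅derivedSeries Γ 1, derivedSeries Γ 1⁆ := derivedSeries_succ _ _
    _ ≤ ⁅(pd_transl R).comap Γ.subtype, (pd_transl R).comap Γ.subtype⁆ :=
        Subgroup.commutator_mono h1 h1
    _ ≤ ⊥ := by
      rw [Subgroup.commutator_le]
      intro g₁ hg₁ g₂ hg₂
      rw [Subgroup.mem_bot, commutatorElement_eq_one_iff_mul_comm]
      apply Subtype.ext
      exact pd_transl_comm _ _ hg₁ hg₂

end


section
variable {α : Type*} [Fintype α] [DecidableEq α] {p : ℕ} [Fact p.Prime]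

theorem pd_exists_cycle (hα : Fintype.card α = p) (G : Subgroup (Equiv.Perm α))
    [MulAction.IsPretransitive G α] :
    ∃ σ ∈ G, orderOf σ = p ∧ ∀ x y : α, ∃ i : ℕ, (σ ^ i) x = y := by
  have hp : p.Prime := Fact.out
  have hpos : 0 < Fintype.card α := by rw [hα]; exact hp.pos
  obtain ⟨a₀⟩ := Fintype.card_pos_iff.mp hpos
  have hdvd : p ∣ Nat.card G := by
    have h1 := MulAction.index_stabilizer_of_transitive G a₀
    rw [Nat.card_eq_fintype_card, hα] at h1
    rw [← h1]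
    exact Subgroup.index_dvd_card _
  obtain ⟨x, hx⟩ := exists_prime_orderOf_dvd_card' p hdvd
  have hord : orderOf (x : Equiv.Perm α) = p := by rw [Subgroup.orderOf_coe, hx]
  have hcyc : (x : Equiv.Perm α).IsCycle :=
    Equiv.Perm.isCycle_of_prime_order'' (hα ▸ hp) (hord.trans hα.symm)
  have hsupp : (x : Equiv.Perm α).support = Finset.univ := by
    rw [← Finset.card_eq_iff_eq_univ, ← hcyc.orderOf, hord, hα]
  refine ⟨x.1, x.2, hord, fun a b => ?_⟩
  apply hcyc.exists_pow_eq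
  · rw [← Equiv.Perm.mem_support, hsupp]; exact Finset.mem_univ _
  · rw [← Equiv.Perm.mem_support, hsupp]; exact Finset.mem_univ _

theorem pd_exists_equiv (hα : Fintype.card α = p) (σ : Equiv.Perm α) (hord : orderOf σ = p)
    (htr : ∀ x y : α, ∃ i : ℕ, (σ ^ i) x = y) :
    ∃ e : ZMod p ≃ α, ∀ j : ZMod p, σ (e j) = e (j + 1) := by
  have hp : p.Prime := Fact.out
  have hNZ : NeZero p := ⟨hp.ne_zero⟩
  have hpos : 0 < Fintype.card α := by rw [hα]; exact hp.pos
  obtain ⟨a₀⟩ := Fintype.card_pos_iff.mp hpos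
  have hpow : ∀ m n : ℕ, m ≡ n [MOD p] → σ ^ m = σ ^ n := by
    intro m n hmn
    rw [pow_eq_pow_iff_modEq, hord]
    exact hmn
  have hsurj : Function.Surjective (fun j : ZMod p => (σ ^ j.val) a₀) := by
    intro y
    obtain ⟨i, hi⟩ := htr a₀ y
    refine ⟨(i : ZMod p), ?_⟩
    show (σ ^ ((i : ZMod p)).val) a₀ = y
    rw [ZMod.val_natCast, hpow (i % p) i (Nat.mod_modEq i p), hi]
  have hbij : Function.Bijective (fun j : ZMod p => (σ ^ j.val) a₀) := by
    rw [Fintype.bijective_iff_surjective_and_card]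
    exact ⟨hsurj, by rw [ZMod.card, hα]⟩
  refine ⟨Equiv.ofBijective _ hbij, fun j => ?_⟩
  show σ ((σ ^ j.val) a₀) = (σ ^ (j + 1).val) a₀
  have h1 : (j + 1).val ≡ j.val + 1 [MOD p] := by
    rw [ZMod.val_add]
    have : (1 : ZMod p).val ≡ 1 [MOD p] := by
      have : Fact (1 < p) := ⟨hp.one_lt⟩
      rw [ZMod.val_one]
    exact (Nat.mod_modEq _ _).trans (Nat.ModEq.add_left _ this)
  rw [hpow _ _ h1, pow_succ', Equiv.Perm.mul_apply]

theorem pd_solvable_of_invariant (hα : Fintype.card α = p) (G : Subgroup (Equiv.Perm α))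
    [MulAction.IsPretransitive G α] {K : Type*} [Field K] [CharP K p]
    (W : Submodule K (α → K)) (hW : ∀ g ∈ G, ∀ w ∈ W, (fun x => w (g x)) ∈ W)
    (h2 : 2 ≤ Module.finrank K W)
    (hp2 : 2 * Module.finrank K W ≤ p + 2 ∨ Module.finrank K W + 2 ≤ p) :
    Group.IsSolvable G := by
  obtain ⟨σ, hσG, hord, htr⟩ := pd_exists_cycle hα G
  obtain ⟨e, he⟩ := pd_exists_equiv hα σ hord htr
  let φ : Equiv.Perm α ≃* Equiv.Perm (ZMod p) := e.symm.permCongrHom
  let Γ : Subgroup (Equiv.Perm (ZMod p)) := G.map (φ : Equiv.Perm α →* Equiv.Perm (ZMod p))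
  have hφ : ∀ (π : Equiv.Perm α) (j : ZMod p), φ π j = e.symm (π (e j)) := fun π j => rfl
  have hτ : Equiv.addRight (1 : ZMod p) ∈ Γ := by
    refine ⟨σ, hσG, ?_⟩
    ext j
    show φ σ j = _
    rw [hφ, he, Equiv.symm_apply_apply]
    rfl
  let L : (α → K) ≃ₗ[K] (ZMod p → K) := LinearEquiv.funCongrLeft K K e
  have hL : ∀ (w : α → K) (j : ZMod p), L w j = w (e j) := fun w j => rfl
  let M : Submodule K (ZMod p → K) := W.map (L : (α → K) →ₗ[K] (ZMod p → K))
  have hM : pd_Inv Γ M := by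
    rintro _ ⟨π, hπ, rfl⟩ _ ⟨w, hw, rfl⟩
    refine ⟨fun x => w (π x), hW π hπ w hw, ?_⟩
    funext j
    show w (π (e j)) = w (e (e.symm (π (e j))))
    rw [Equiv.apply_symm_apply]
  have hfr : Module.finrank K M = Module.finrank K W := (L.submoduleMap W).finrank_eq.symm
  have haff := pd_affine_of_inv (K := K) Γ hτ M hM (hfr ▸ h2) (hfr ▸ hp2)
  have hsolvΓ : Group.IsSolvable Γ := pd_solvable_of_affine Γ haff
  exact Group.isSolvable_of_isSolvable_injective (f := (φ.subgroupMap G).toMonoidHom)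
    (φ.subgroupMap G).injective

end


end Cfsg.Agent.Lib.Helper5
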