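import Mathlib
import Cfsg.Agent.Lib.Helper13.S5955.Defs
import Cfsg.Agent.Lib.Helper5.S5955Alt

set_option autoImplicit false

namespace Cfsg.Agent.Lib.Helper13.S5955

open Polynomial Module

/-- T1 [S] PERP: the orthogonal of an invariant subspace is invariant (`x⁻¹ = x ^ (r - 1)`). -/
theorem perp_inv {F : Type*} [Field F] {V : Type*} [AddCommGroup V] [Module F V]
    {r : ℕ} (hr : 0 < r) {B : LinearMap.BilinForm F V} {x : Module.End F V} (h : SCtx r B x)
    (U : Submodule F V) (hU : SInv x U) : SInv x (B.orthogonal U) := by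
  intro m hm
  rw [h5_mem_orth] at hm ⊢
  intro u hu
  have e1 : x ((x ^ (r - 1)) u) = u := by
    have h2 : x * x ^ (r - 1) = x ^ r := by
      rw [← pow_succ']
      congr 1
      omega
    have h3 : (x * x ^ (r - 1)) u = u := by
      rw [h2, h.pow]
      rfl
    exact h3
  rw [← e1, h.pres]
  exact hm _ (Cfsg.Agent.Lib.Helper24.el_pow_mem hU (r - 1) hu)

end Cfsg.Agent.Lib.Helper13.S5955
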