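import Mathlib
import Cfsg.Agent.Lib.helper17.OMP.Defs

/-!
# Project OMP (designer helper17, S2295), row E7 (helper5): `Mv1.conj_tv conj_tv_neg_fst conj_tv_neg_snd` VERBATIM.
Conjugation of transvections by an element moving the indices (`conj_tv` of `CTATVAPI` and its signed versions).
Extra: `ompe7_conj_tv_gen` (general coefficients).
-/

set_option autoImplicit false

namespace Cfsg.Agent.Lib.helper17.OMP

open Matrix Cfsg.Agent.Lib.helper14.CTE Cfsg.Agent.Lib.helper14.CTA Cfsg.Agent.Lib.helper17.SLN Cfsg.Agent.Lib.Helper28.CTD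
  Cfsg.Agent.Lib.helper3.STC Cfsg.Agent.Lib.Lead.STD

universe u v w

section E

variable {F : Type u} [Field F] {ι : Type w} [Fintype ι] [DecidableEq ι]

/-- general form: `g e_i = α e_a`, `e_c g = β e_j` gives `g x_ij(x) g⁻¹ = x_ac(α x β⁻¹ …)`; here with `α β = ε`, `ε² = 1` in the
form `g x_ij(x) = x_ac(α * β * x) g` whenever `β * β = 1`. -/
theorem ompe7_conj_tv_gen (g : Matrix.SpecialLinearGroup ι F) (i j a c : ι) (hij : i ≠ j) (hac : a ≠ c) (α β : F)
    (hβ : β * β = 1)
    (h1 : g.1 *ᵥ Pi.single i 1 = Pi.single a α) (h2 : Pi.single c 1 ᵥ* g.1 = Pi.single j β) (x : F) :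
    g * tv i j x * g⁻¹ = tv a c (α * β * x) := by
  rw [mul_inv_eq_iff_eq_mul]
  apply Subtype.ext
  rw [Matrix.SpecialLinearGroup.coe_mul, Matrix.SpecialLinearGroup.coe_mul, tv_coe hij, tv_coe hac]
  unfold Matrix.transvection
  rw [mul_add, add_mul, mul_one, one_mul]
  congr 1
  ext p q
  have e1 : ∀ p, g.1 p i = if p = a then α else 0 := by
    intro p
    have := congrFun h1 p
    rw [Matrix.mulVec_single_one, Pi.single_apply] at this
    exact this
  have e2 : ∀ q, g.1 c q = if q = j then β else 0 := by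
    intro q
    have := congrFun h2 q
    rw [Matrix.single_one_vecMul, Pi.single_apply] at this
    exact this
  rw [ctatvapi_mul_single, ctatvapi_single_mul, e1, e2]
  by_cases hq : q = j
  · by_cases hp : p = a
    · rw [if_pos hq, if_pos hp, if_pos hp, if_pos hq]
      calc α * x = α * (β * β) * x := by rw [hβ, mul_one]
        _ = α * β * x * β := by ring
    · rw [if_pos hq, if_neg hp, if_neg hp, zero_mul]
  · rw [if_neg hq, if_neg hq, mul_zero, ite_self]

/-- E7 [S-M] (three statements, one file)  conjugation of transvections by an element moving the indices: `conj_tv` of `CTATVAPI`; the signed versions: the same proof with the coefficient `-1`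
(or: `g = g' * D` with a diagonal `D`). -/
theorem Mv1.conj_tv {g : Matrix.SpecialLinearGroup ι F} {a b c d : ι} (ha : Mv1 g a c) (hb : Mv1 g b d) (hab : a ≠ b)
    (hcd : c ≠ d) (t : F) : g * tv a b t * g⁻¹ = tv c d t :=
  Cfsg.Agent.Lib.helper14.CTA.conj_tv g a b c d hab hcd ha.1 hb.2 t

theorem conj_tv_neg_fst (g : Matrix.SpecialLinearGroup ι F) (i j a c : ι) (hij : i ≠ j) (hac : a ≠ c)
    (h1 : g.1 *ᵥ Pi.single i 1 = Pi.single a (-1)) (h2 : Pi.single c 1 ᵥ* g.1 = Pi.single j 1) (x : F) :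
    g * tv i j x * g⁻¹ = tv a c (-x) := by
  rw [ompe7_conj_tv_gen g i j a c hij hac (-1) 1 (mul_one 1) h1 h2 x]
  congr 1
  ring

theorem conj_tv_neg_snd (g : Matrix.SpecialLinearGroup ι F) (i j a c : ι) (hij : i ≠ j) (hac : a ≠ c)
    (h1 : g.1 *ᵥ Pi.single i 1 = Pi.single a 1) (h2 : Pi.single c 1 ᵥ* g.1 = Pi.single j (-1)) (x : F) :
    g * tv i j x * g⁻¹ = tv a c (-x) := by
  rw [ompe7_conj_tv_gen g i j a c hij hac 1 (-1) (by ring) h1 h2 x]
  congr 1
  ring

end E

end Cfsg.Agent.Lib.helper17.OMP
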