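import Mathlib
import Cfsg.Agent.Lib.Helper1.SLN.Defs
import Cfsg.Agent.Lib.Helper1.SLN.Defs2
import Cfsg.Agent.Lib.helper6.SLPM4
import Cfsg.Agent.Lib.Helper16.SLNM3

/-!
# SL7 row H4 (helper5): `closure_UL`, verbatim.  Extras `sl7h4_*`.
-/

set_option autoImplicit false

namespace Cfsg.Agent.Lib.Helper1.SLN

open Matrix Equiv
open Cfsg.Agent.Lib.helper17.SLP

universe u v w

section H

variable {F : Type u} [Field F] {G : Type v} [Group G]

theorem sl7h4_xU_coe (t : F) :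
    ((xU t : Matrix.SpecialLinearGroup (Fin 2) F) : Matrix (Fin 2) (Fin 2) F) = !![1, t; 0, 1] := by
  ext i j
  fin_cases i <;> fin_cases j <;>
    simp [xU, Matrix.SpecialLinearGroup.transvection, Matrix.transvection]

theorem sl7h4_xL_coe (t : F) :
    ((xL t : Matrix.SpecialLinearGroup (Fin 2) F) : Matrix (Fin 2) (Fin 2) F) = !![1, 0; t, 1] := by
  ext i j
  fin_cases i <;> fin_cases j <;>
    simp [xL, Matrix.SpecialLinearGroup.transvection, Matrix.transvection]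

theorem sl7h4_xL_inv (t : F) : (xL t)⁻¹ = xL (-t) := by
  apply inv_eq_of_mul_eq_one_right
  apply Subtype.ext
  rw [Matrix.SpecialLinearGroup.coe_mul, sl7h4_xL_coe, sl7h4_xL_coe]
  ext i j
  fin_cases i <;> fin_cases j <;> simp [Matrix.mul_apply, Fin.sum_univ_two]

/-- `wM = xU 1 * (xL 1)⁻¹ * xU 1`. -/
theorem sl7h4_wM_eq : (wM : Matrix.SpecialLinearGroup (Fin 2) F) = xU 1 * (xL 1)⁻¹ * xU 1 := by
  rw [sl7h4_xL_inv]
  apply Subtype.ext
  rw [Matrix.SpecialLinearGroup.coe_mul, Matrix.SpecialLinearGroup.coe_mul, sl7h4_xL_coe, sl7h4_xU_coe]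
  ext i j
  fin_cases i <;> fin_cases j <;> simp [wM, Matrix.mul_apply, Fin.sum_univ_two]

/-- H4 [S-M]  `wM = xM 1 * (xL 1)⁻¹ * xM 1`, `xM = xU` (M3a), `closure_M` (`helper6.SLPM4`). -/
theorem closure_UL [Fintype F] (ζ : Fˣ) (hζ : ∀ y : Fˣ, y ∈ Subgroup.zpowers ζ) :
    Subgroup.closure ({xU (1 : F), xL (1 : F), hM ζ} : Set (Matrix.SpecialLinearGroup (Fin 2) F)) = ⊤ := by
  rw [eq_top_iff, ← closure_M ζ hζ, Subgroup.closure_le]
  set K := Subgroup.closure ({xU (1 : F), xL (1 : F), hM ζ} : Set (Matrix.SpecialLinearGroup (Fin 2) F))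
  have h1 : xU (1 : F) ∈ K := Subgroup.subset_closure (by simp)
  have h2 : xL (1 : F) ∈ K := Subgroup.subset_closure (by simp)
  have h3 : hM ζ ∈ K := Subgroup.subset_closure (by simp)
  intro g hg
  rcases hg with rfl | rfl | hg
  · rw [xM_eq_xU]; exact h1
  · exact h3
  · rw [Set.mem_singleton_iff] at hg
    rw [hg, sl7h4_wM_eq]
    exact K.mul_mem (K.mul_mem h1 (K.inv_mem h2)) h1

end H

end Cfsg.Agent.Lib.Helper1.SLN
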