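import Mathlib
import Cfsg.Agent.Lib.Helper1.SLN.Defs
import Cfsg.Agent.Lib.Helper1.SLN.Defs2
import Cfsg.Agent.Lib.Lead.SLn
import Cfsg.Agent.Lib.Helper16.SLNM3
import Cfsg.Agent.Lib.Helper5.SL7H4

/-!
# SL7 row H5 (helper5), core: `glue_of_two` with the statement of H3 (`torus_comm`) as a hypothesis.
Extras `sl7h5_*`.
-/

set_option autoImplicit false
set_option linter.unusedSimpArgs false

namespace Cfsg.Agent.Lib.Helper1.SLN

open Matrix Equiv
open Cfsg.Agent.Lib.helper17.SLP

universe u v w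

theorem sl7h5_cases (M : ℕ) (x : Fin (M + 4)) :
    x = i0 M ∨ x = i1 M ∨ x = i2 M ∨ x = i3 M ∨ (x ≠ i0 M ∧ x ≠ i1 M ∧ x ≠ i2 M ∧ x ≠ i3 M) := by
  by_cases h0 : x = i0 M
  · exact Or.inl h0
  by_cases h1 : x = i1 M
  · exact Or.inr (Or.inl h1)
  by_cases h2 : x = i2 M
  · exact Or.inr (Or.inr (Or.inl h2))
  by_cases h3 : x = i3 M
  · exact Or.inr (Or.inr (Or.inr (Or.inl h3)))
  exact Or.inr (Or.inr (Or.inr (Or.inr ⟨h0, h1, h2, h3⟩)))

/-- `ρ = (0 2)(1 3)` is an involution. -/
theorem sl7h5_rho_mul_rho (M : ℕ) : rho M * rho M = 1 := by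
  apply Subtype.ext
  apply Equiv.ext
  intro x
  show (swap (i0 M) (i2 M) * swap (i1 M) (i3 M)) ((swap (i0 M) (i2 M) * swap (i1 M) (i3 M)) x) = x
  have h01 := i01 M; have h02 := i02 M; have h03 := i03 M
  have h12 := i12 M; have h13 := i13 M; have h23 := i23 M
  rcases sl7h5_cases M x with rfl | rfl | rfl | rfl | ⟨a, b, c, d⟩ <;>
    simp [Equiv.Perm.mul_apply, Equiv.swap_apply_of_ne_of_ne, h01, h02, h03, h12, h13, h23,
      h01.symm, h02.symm, h03.symm, h12.symm, h13.symm, h23.symm, *]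

/-- `ρ = (0 2)(1 3)` and `t23 = (0 1)(2 3)` commute. -/
theorem sl7h5_rho_t23 (M : ℕ) : rho M * t23 M = t23 M * rho M := by
  apply Subtype.ext
  apply Equiv.ext
  intro x
  show (swap (i0 M) (i2 M) * swap (i1 M) (i3 M)) ((swap (i0 M) (i1 M) * swap (i2 M) (i3 M)) x) =
    (swap (i0 M) (i1 M) * swap (i2 M) (i3 M)) ((swap (i0 M) (i2 M) * swap (i1 M) (i3 M)) x)
  have h01 := i01 M; have h02 := i02 M; have h03 := i03 M
  have h12 := i12 M; have h13 := i13 M; have h23 := i23 M
  rcases sl7h5_cases M x with rfl | rfl | rfl | rfl | ⟨a, b, c, d⟩ <;>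
    simp [Equiv.Perm.mul_apply, Equiv.swap_apply_of_ne_of_ne, h01, h02, h03, h12, h13, h23,
      h01.symm, h02.symm, h03.symm, h12.symm, h13.symm, h23.symm, *]

section H

variable {F : Type u} [Field F] {G : Type v} [Group G]

/-- the flip is an involution. -/
theorem sl7h5_flip2_flip2 (m : Matrix.SpecialLinearGroup (Fin 2) F) : flip2 (flip2 m) = m := by
  apply Subtype.ext
  show (flip2F (flip2F m) : Matrix (Fin 2) (Fin 2) F) = _
  rw [flip2F_coe]
  ext i j
  fin_cases i <;> fin_cases j <;> simp [flip2F_coe]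

/-- every transvection of `SL₂` is `xU t` or `xL t`. -/
theorem sl7h5_tv_cases (i j : Fin 2) (h : i ≠ j) (c : F) :
    Matrix.SpecialLinearGroup.transvection h c = xU c ∨ Matrix.SpecialLinearGroup.transvection h c = xL c := by
  fin_cases i <;> fin_cases j
  · exact absurd rfl h
  · exact Or.inl rfl
  · exact Or.inr rfl
  · exact absurd rfl h

/-- H5 core: `glue_of_two` with the statement of H3 (`torus_comm`) as hypothesis `hH3`. -/
theorem sl7h5_core [Fintype F] (M : ℕ) (α : alternatingGroup (Fin (M + 4)) →* G)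
    (β : Matrix.SpecialLinearGroup (Fin 3) F →* G) (H : Glue3 M α β)
    (hH3 : ∀ (s : Fˣ) (t : F),
      Commute (β (emb23 (hM s))) (α (rho M) * β (emb23 (xU t)) * (α (rho M))⁻¹) ∧
      Commute (β (emb23 (hM s))) (α (rho M) * β (emb23 (xL t)) * (α (rho M))⁻¹))
    (h5a : Commute (β (emb23 (xU (1 : F)))) (α (rho M) * β (emb23 (xU (1 : F))) * (α (rho M))⁻¹))
    (h5b : Commute (β (emb23 (xU (1 : F)))) (α (rho M) * β (emb23 (xL (1 : F))) * (α (rho M))⁻¹)) :
    Glue M α β := by
  classical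
  obtain ⟨ζ, hζ⟩ := IsCyclic.exists_generator (α := Fˣ)
  have hUL := closure_UL ζ hζ
  -- the two homomorphisms
  let A : Matrix.SpecialLinearGroup (Fin 2) F →* G := β.comp emb23
  let B : Matrix.SpecialLinearGroup (Fin 2) F →* G :=
    (MulAut.conj (α (rho M))).toMonoidHom.comp (β.comp emb23)
  have hA : ∀ m, A m = β (emb23 m) := fun _ => rfl
  have hB : ∀ m, B m = α (rho M) * β (emb23 m) * (α (rho M))⁻¹ := fun _ => rfl
  have hρρ : α (rho M) * α (rho M) = 1 := by rw [← map_mul, sl7h5_rho_mul_rho, map_one]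
  have hρinv : (α (rho M))⁻¹ = α (rho M) := inv_eq_of_mul_eq_one_right hρρ
  -- conjugation by `α ρ` swaps `A` and `B`
  have hρB : ∀ m, α (rho M) * B m * (α (rho M))⁻¹ = A m := by
    intro m
    rw [hB, hA, hρinv]
    calc α (rho M) * (α (rho M) * β (emb23 m) * α (rho M)) * α (rho M)
        = (α (rho M) * α (rho M)) * β (emb23 m) * (α (rho M) * α (rho M)) := by group
      _ = β (emb23 m) := by rw [hρρ, one_mul, mul_one]
  -- conjugation by `α t23`
  have hτA : ∀ m, α (t23 M) * A m * (α (t23 M))⁻¹ = A (flip2 m) := fun m => H.g3 m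
  have hτρ : α (t23 M) * α (rho M) = α (rho M) * α (t23 M) := by
    rw [← map_mul, ← map_mul, sl7h5_rho_t23]
  have hτB : ∀ m, α (t23 M) * B m * (α (t23 M))⁻¹ = B (flip2 m) := by
    intro m
    rw [hB, hB, ← H.g3 m]
    calc α (t23 M) * (α (rho M) * β (emb23 m) * (α (rho M))⁻¹) * (α (t23 M))⁻¹
        = (α (t23 M) * α (rho M)) * β (emb23 m) * (α (t23 M) * α (rho M))⁻¹ := by group
      _ = (α (rho M) * α (t23 M)) * β (emb23 m) * (α (rho M) * α (t23 M))⁻¹ := by rw [hτρ]
      _ = α (rho M) * (α (t23 M) * β (emb23 m) * (α (t23 M))⁻¹) * (α (rho M))⁻¹ := by group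
  -- (1) `A (xU 1)` commutes with all `B m'`
  have h1 : ∀ m', Commute (A (xU (1 : F))) (B m') := by
    have hle : (⊤ : Subgroup (Matrix.SpecialLinearGroup (Fin 2) F)) ≤
        (Subgroup.centralizer ({A (xU (1 : F))} : Set G)).comap B := by
      rw [← hUL, Subgroup.closure_le]
      intro g hg
      rw [SetLike.mem_coe, Subgroup.mem_comap, Subgroup.mem_centralizer_iff]
      intro x hx
      rw [Set.mem_singleton_iff] at hx
      rw [hx]
      rcases hg with rfl | rfl | hg
      · exact h5a.eq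
      · exact h5b.eq
      · rw [Set.mem_singleton_iff] at hg
        rw [hg]
        -- `B (hM ζ)` commutes with `A (xU 1)`
        have h := (hH3 ζ 1).1
        have h' := (Commute.conj_iff (α (rho M))).2 h
        rw [← hB, ← hB (xU 1), hρB] at h'
        exact h'.symm.eq
    intro m'
    have := hle (Subgroup.mem_top m')
    rw [Subgroup.mem_comap, Subgroup.mem_centralizer_iff] at this
    exact this _ rfl
  -- (2) `A (xL 1)` commutes with all `B m'`
  have h2 : ∀ m', Commute (A (xL (1 : F))) (B m') := by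
    intro m'
    have h := h1 (flip2 m')
    have h' := (Commute.conj_iff (α (t23 M))).2 h
    rw [hτA, hτB, flip2_xU, sl7h5_flip2_flip2] at h'
    exact h'
  -- (3) `A (hM ζ)` commutes with all `B m'`
  have h3 : ∀ m', Commute (A (hM ζ)) (B m') := by
    have hle : (⊤ : Subgroup (Matrix.SpecialLinearGroup (Fin 2) F)) ≤
        (Subgroup.centralizer ({A (hM ζ)} : Set G)).comap B := by
      rw [← Cfsg.Agent.Lib.Lead.SL_closure_transvections (ι := Fin 2) (F := F), Subgroup.closure_le]
      rintro g ⟨i, j, hij, c, rfl⟩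
      rw [SetLike.mem_coe, Subgroup.mem_comap, Subgroup.mem_centralizer_iff]
      intro x hx
      rw [Set.mem_singleton_iff] at hx
      rw [hx]
      rcases sl7h5_tv_cases i j hij c with h | h
      · rw [h]; exact (hH3 ζ c).1.eq
      · rw [h]; exact (hH3 ζ c).2.eq
    intro m'
    have := hle (Subgroup.mem_top m')
    rw [Subgroup.mem_comap, Subgroup.mem_centralizer_iff] at this
    exact this _ rfl
  -- (4) all `A m`
  have h4 : ∀ m m', Commute (A m) (B m') := by
    have hle : (⊤ : Subgroup (Matrix.SpecialLinearGroup (Fin 2) F)) ≤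
        (Subgroup.centralizer (Set.range B)).comap A := by
      rw [← hUL, Subgroup.closure_le]
      intro g hg
      rw [SetLike.mem_coe, Subgroup.mem_comap, Subgroup.mem_centralizer_iff]
      rintro x ⟨m', rfl⟩
      rcases hg with rfl | rfl | hg
      · exact (h1 m').symm.eq
      · exact (h2 m').symm.eq
      · rw [Set.mem_singleton_iff] at hg
        rw [hg]
        exact (h3 m').symm.eq
    intro m m'
    have := hle (Subgroup.mem_top m)
    rw [Subgroup.mem_comap, Subgroup.mem_centralizer_iff] at this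
    exact (this _ ⟨m', rfl⟩).symm
  exact Glue3.toGlue M H (fun m m' => h4 m m')

end H

end Cfsg.Agent.Lib.Helper1.SLN
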