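import Cfsg.Agent.Lib.Helper1.PLK.Defs

/-!
# Project PLK (S2480), row T0 (`contract_props`), verbatim.
-/

set_option autoImplicit false

namespace Cfsg.Agent.Lib.Helper1.PLK

open Polynomial
open Cfsg.Agent.Lib.Helper29.GLK
open Cfsg.Agent.Lib.Helper1.SLK

universe u

/-- `expand m (contract m f) = f` for `f` supported on the multiples of `m` -/
theorem plkt0_expand_contract {F : Type u} [Field F] (m : ℕ) (hm : m ≠ 0) (f : F[X])
    (hf : ∀ k, ¬ m ∣ k → f.coeff k = 0) : expand F m (contract m f) = f := by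
  ext k
  rw [coeff_expand (Nat.pos_of_ne_zero hm)]
  by_cases hk : m ∣ k
  · rw [if_pos hk, coeff_contract hm, Nat.div_mul_cancel hk]
  · rw [if_neg hk, hf k hk]

/-- T0 -/
theorem contract_props {F : Type u} [Field F] (m : ℕ) (hm : m ≠ 0) (f : F[X])
    (hf : ∀ k, ¬ m ∣ k → f.coeff k = 0) :
    expand F m (contract m f) = f ∧ f.natDegree = m * (contract m f).natDegree ∧
      (contract m f).coeff 0 = f.coeff 0 ∧ (f.Monic → (contract m f).Monic) := by
  have h1 := plkt0_expand_contract m hm f hf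
  refine ⟨h1, ?_, ?_, ?_⟩
  · conv_lhs => rw [← h1]
    rw [natDegree_expand, mul_comm]
  · rw [coeff_contract hm, zero_mul]
  · intro hmon
    rw [← h1] at hmon
    exact (monic_expand_iff (Nat.pos_of_ne_zero hm)).1 hmon

end Cfsg.Agent.Lib.Helper1.PLK
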