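import Cfsg.Agent.Lib.Helper1.PLK.Defs
import Cfsg.Agent.Lib.Helper5.PLKT0

/-!
# Project PLK (S2480), row T1 (`tctr_mem`), verbatim, with the basic facts on `tupTw` used by T2-T4.
-/

set_option autoImplicit false

namespace Cfsg.Agent.Lib.Helper1.PLK

open Polynomial
open Cfsg.Agent.Lib.Helper29.GLK
open Cfsg.Agent.Lib.Helper1.SLK

universe u

/-- the degree of `T i` is `m` times the degree of its contraction -/
theorem plkt1_deg {F : Type u} [Field F] [Fintype F] {n m : ℕ} (hm : m ≠ 0)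
    {T : Fin n → F[X]} (hT : T ∈ tupTw F n m) (i : Fin n) :
    (T i).natDegree = m * (contract m (T i)).natDegree :=
  (contract_props m hm (T i) ((mem_tupTw.1 hT).2 i)).2.1

/-- `T i` is the expansion of its contraction -/
theorem plkt1_expand {F : Type u} [Field F] [Fintype F] {n m : ℕ} (hm : m ≠ 0)
    {T : Fin n → F[X]} (hT : T ∈ tupTw F n m) (i : Fin n) :
    expand F m (contract m (T i)) = T i :=
  (contract_props m hm (T i) ((mem_tupTw.1 hT).2 i)).1

/-- the contraction of `T i` is monic -/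
theorem plkt1_monic {F : Type u} [Field F] [Fintype F] {n m : ℕ} (hm : m ≠ 0)
    {T : Fin n → F[X]} (hT : T ∈ tupTw F n m) (i : Fin n) :
    (contract m (T i)).Monic :=
  (contract_props m hm (T i) ((mem_tupTw.1 hT).2 i)).2.2.2 ((mem_tupTw.1 hT).1.1 i).1

/-- the constant coefficient of the contraction of `T i` -/
theorem plkt1_coeff_zero {F : Type u} [Field F] [Fintype F] {n m : ℕ} (hm : m ≠ 0)
    {T : Fin n → F[X]} (hT : T ∈ tupTw F n m) (i : Fin n) :
    (contract m (T i)).coeff 0 = (T i).coeff 0 :=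
  (contract_props m hm (T i) ((mem_tupTw.1 hT).2 i)).2.2.1

/-- `T i` has degree `0` for `i ≥ n / m` -/
theorem plkt1_high {F : Type u} [Field F] [Fintype F] {n m : ℕ} (hm : m ≠ 0) (hmn : m ∣ n)
    {T : Fin n → F[X]} (hT : T ∈ tupTw F n m) (i : Fin n) (hi : n / m ≤ (i : ℕ)) :
    (T i).natDegree = 0 := by
  by_contra hne
  have hsum := (mem_tupTw.1 hT).1.2
  have hle : (1 + (i : ℕ)) * (T i).natDegree ≤ n := by
    conv_rhs => rw [← hsum]
    exact Finset.single_le_sum (f := fun i : Fin n => (1 + (i : ℕ)) * (T i).natDegree)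
      (fun _ _ => Nat.zero_le _) (Finset.mem_univ i)
  have hd := plkt1_deg hm hT i
  have hc : 1 ≤ (contract m (T i)).natDegree := by
    rcases Nat.eq_zero_or_pos (contract m (T i)).natDegree with h0 | h0
    · rw [h0, mul_zero] at hd
      exact absurd hd hne
    · exact h0
  have hdm : m ≤ (T i).natDegree := by
    rw [hd]
    exact Nat.le_mul_of_pos_right m hc
  have hnm : n / m * m = n := Nat.div_mul_cancel hmn
  have hmpos : 0 < m := Nat.pos_of_ne_zero hm
  have h1 : (n / m + 1) * m ≤ (1 + (i : ℕ)) * (T i).natDegree :=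
    Nat.mul_le_mul (by omega) hdm
  have h2 : (n / m + 1) * m = n + m := by rw [add_mul, hnm, one_mul]
  omega

/-- `T i = 1` for `i ≥ n / m` -/
theorem plkt1_high_one {F : Type u} [Field F] [Fintype F] {n m : ℕ} (hm : m ≠ 0) (hmn : m ∣ n)
    {T : Fin n → F[X]} (hT : T ∈ tupTw F n m) (i : Fin n) (hi : n / m ≤ (i : ℕ)) :
    T i = 1 := by
  have hmon : (T i).Monic := ((mem_tupTw.1 hT).1.1 i).1
  have h0 := plkt1_high hm hmn hT i hi
  exact eq_one_of_monic_natDegree_zero hmon h0

/-- a sum over `Fin n` of a function vanishing for `i ≥ n / m` is a sum over `Fin (n / m)` -/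
theorem plkt1_sum_castLE {M : Type*} [AddCommMonoid M] (n m : ℕ) (f : Fin n → M)
    (hf : ∀ i : Fin n, n / m ≤ (i : ℕ) → f i = 0) :
    ∑ i : Fin n, f i = ∑ j : Fin (n / m), f (Fin.castLE (Nat.div_le_self n m) j) := by
  classical
  let g : ℕ → M := fun k => if h : k < n then f ⟨k, h⟩ else 0
  have h1 : ∑ i : Fin n, f i = ∑ k ∈ Finset.range n, g k := by
    rw [← Fin.sum_univ_eq_sum_range]
    apply Finset.sum_congr rfl
    intro i _
    show f i = g i
    simp only [g]
    rw [dif_pos i.2]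
  have h2 : ∑ j : Fin (n / m), f (Fin.castLE (Nat.div_le_self n m) j) =
      ∑ k ∈ Finset.range (n / m), g k := by
    rw [← Fin.sum_univ_eq_sum_range]
    apply Finset.sum_congr rfl
    intro j _
    have hj : (j : ℕ) < n := lt_of_lt_of_le j.2 (Nat.div_le_self n m)
    show f (Fin.castLE (Nat.div_le_self n m) j) = g j
    simp only [g]
    rw [dif_pos hj]
    rfl
  rw [h1, h2]
  symm
  apply Finset.sum_subset
  · intro k hk
    rw [Finset.mem_range] at hk ⊢
    exact lt_of_lt_of_le hk (Nat.div_le_self n m)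
  · intro k hk hk'
    rw [Finset.mem_range] at hk hk'
    simp only [g]
    rw [dif_pos hk]
    exact hf ⟨k, hk⟩ (not_lt.1 hk')

/-- the same for products -/
theorem plkt1_prod_castLE {M : Type*} [CommMonoid M] (n m : ℕ) (f : Fin n → M)
    (hf : ∀ i : Fin n, n / m ≤ (i : ℕ) → f i = 1) :
    ∏ i : Fin n, f i = ∏ j : Fin (n / m), f (Fin.castLE (Nat.div_le_self n m) j) :=
  plkt1_sum_castLE (M := Additive M) n m f hf

/-- T1 -/
theorem tctr_mem {F : Type u} [Field F] [Fintype F] (n m : ℕ) (hm : m ≠ 0) (hmn : m ∣ n)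
    (T : Fin n → F[X]) (hT : T ∈ tupTw F n m) : tctr m T ∈ tupFin F (n / m) := by
  rw [mem_tupFin]
  refine ⟨?_, ?_⟩
  · intro j
    refine ⟨plkt1_monic hm hT _, ?_⟩
    show (contract m (T _)).coeff 0 ≠ 0
    rw [plkt1_coeff_zero hm hT]
    exact ((mem_tupTw.1 hT).1.1 _).2
  · have hsum := (mem_tupTw.1 hT).1.2
    rw [plkt1_sum_castLE n m (fun i : Fin n => (1 + (i : ℕ)) * (T i).natDegree)
      (fun i hi => by
        show (1 + (i : ℕ)) * (T i).natDegree = 0
        rw [plkt1_high hm hmn hT i hi, mul_zero])] at hsum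
    have h3 : ∑ j : Fin (n / m), (1 + ((Fin.castLE (Nat.div_le_self n m) j : Fin n) : ℕ)) *
        (T (Fin.castLE (Nat.div_le_self n m) j)).natDegree =
        m * ∑ j : Fin (n / m), (1 + (j : ℕ)) * (tctr m T j).natDegree := by
      rw [Finset.mul_sum]
      apply Finset.sum_congr rfl
      intro j _
      rw [plkt1_deg hm hT]
      show (1 + (j : ℕ)) * (m * (contract m (T (Fin.castLE (Nat.div_le_self n m) j))).natDegree) =
        m * ((1 + (j : ℕ)) * (contract m (T (Fin.castLE (Nat.div_le_self n m) j))).natDegree)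
      ring
    rw [h3] at hsum
    have hmpos : 0 < m := Nat.pos_of_ne_zero hm
    exact (Nat.div_eq_of_eq_mul_right hmpos hsum.symm).symm

end Cfsg.Agent.Lib.Helper1.PLK
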