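import Cfsg.Agent.Lib.Helper1.PLK.Defs
import Cfsg.Agent.Lib.Helper5.PLKT1

/-!
# Project PLK (S2480), row T2 (`tctr_injOn`), verbatim.
-/

set_option autoImplicit false

namespace Cfsg.Agent.Lib.Helper1.PLK

open Polynomial
open Cfsg.Agent.Lib.Helper29.GLK
open Cfsg.Agent.Lib.Helper1.SLK

universe u

/-- `T i` from `tctr m T` for `i < n / m` -/
theorem plkt2_low {F : Type u} [Field F] [Fintype F] {n m : ℕ} (hm : m ≠ 0)
    {T : Fin n → F[X]} (hT : T ∈ tupTw F n m) (i : Fin n) (hi : (i : ℕ) < n / m) :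
    T i = expand F m (tctr m T ⟨(i : ℕ), hi⟩) := by
  have h : Fin.castLE (Nat.div_le_self n m) ⟨(i : ℕ), hi⟩ = i := Fin.ext rfl
  show T i = expand F m (contract m (T (Fin.castLE (Nat.div_le_self n m) ⟨(i : ℕ), hi⟩)))
  rw [h, plkt1_expand hm hT]

/-- T2 -/
theorem tctr_injOn {F : Type u} [Field F] [Fintype F] (n m : ℕ) (hm : m ≠ 0) (hmn : m ∣ n) :
    Set.InjOn (tctr (F := F) (n := n) m) (tupTw F n m) := by
  intro T hT T' hT' h
  have hT1 : T ∈ tupTw F n m := hT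
  have hT1' : T' ∈ tupTw F n m := hT'
  funext i
  by_cases hi : (i : ℕ) < n / m
  · rw [plkt2_low hm hT1 i hi, plkt2_low hm hT1' i hi, h]
  · rw [plkt1_high_one hm hmn hT1 i (not_lt.1 hi), plkt1_high_one hm hmn hT1' i (not_lt.1 hi)]

end Cfsg.Agent.Lib.Helper1.PLK
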