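import Cfsg.Agent.Lib.Helper1.PLK.Defs
import Cfsg.Agent.Lib.Helper5.PLKT1

/-!
# Project PLK (S2480), row T3 (`tg_tctr`), verbatim.
-/

set_option autoImplicit false

namespace Cfsg.Agent.Lib.Helper1.PLK

open Polynomial
open Cfsg.Agent.Lib.Helper29.GLK
open Cfsg.Agent.Lib.Helper1.SLK

universe u

/-- the occurring indices of `T` are the images of those of `tctr m T` -/
theorem plkt3_filter {F : Type u} [Field F] [Fintype F] (n m : ℕ) (hm : m ≠ 0) (hmn : m ∣ n)
    (T : Fin n → F[X]) (hT : T ∈ tupTw F n m) :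
    Finset.univ.filter (fun i : Fin n => (T i).natDegree ≠ 0) =
      (Finset.univ.filter (fun j : Fin (n / m) => (tctr m T j).natDegree ≠ 0)).image
        (Fin.castLE (Nat.div_le_self n m)) := by
  ext i
  simp only [Finset.mem_filter, Finset.mem_univ, true_and, Finset.mem_image]
  constructor
  · intro hi
    have hlt : (i : ℕ) < n / m := by
      by_contra hge
      exact hi (plkt1_high hm hmn hT i (not_lt.1 hge))
    refine ⟨⟨(i : ℕ), hlt⟩, ?_, Fin.ext rfl⟩
    have h : Fin.castLE (Nat.div_le_self n m) ⟨(i : ℕ), hlt⟩ = i := Fin.ext rfl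
    show (contract m (T (Fin.castLE (Nat.div_le_self n m) ⟨(i : ℕ), hlt⟩))).natDegree ≠ 0
    rw [h]
    intro h0
    apply hi
    rw [plkt1_deg hm hT i, h0, mul_zero]
  · rintro ⟨j, hj, rfl⟩
    have hj' : (contract m (T (Fin.castLE (Nat.div_le_self n m) j))).natDegree ≠ 0 := hj
    rw [plkt1_deg hm hT]
    exact Nat.mul_ne_zero hm hj'

/-- `tE` agrees -/
theorem plkt3_tE {F : Type u} [Field F] [Fintype F] (n m : ℕ) (hm : m ≠ 0) (hmn : m ∣ n)
    (T : Fin n → F[X]) (hT : T ∈ tupTw F n m) : tE (tctr m T) = tE T := by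
  unfold tE
  rw [plkt3_filter n m hm hmn T hT, Finset.gcd_image]
  rfl

/-- T3 -/
theorem tg_tctr {F : Type u} [Field F] [Fintype F] (n m : ℕ) (hm : m ≠ 0) (hmn : m ∣ n)
    (T : Fin n → F[X]) (hT : T ∈ tupTw F n m) (q : ℕ) : tg q (tctr m T) = tg q T := by
  unfold tg
  rw [plkt3_tE n m hm hmn T hT]

end Cfsg.Agent.Lib.Helper1.PLK
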