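import Mathlib
import Cfsg.Agent.Lib.helper7.REE.Defs

/-!
# Project REE, row G5F (core): `C(c) = E` for `c ∈ A₁ ∖ 1`, from the statements of the rows
ARA, GEND, G4H, G4J, G4K, G5B, G5C, G5D, G5E taken as hypotheses.
-/

set_option autoImplicit false

namespace Cfsg.Agent.Lib.helper7.REE

open Matrix Cfsg.Agent.Lib.helper8

universe u v

namespace ReeAx

variable {G : Type u} [Group G] [Finite G] {K : Type v} [Field K] [Fintype K] {m : ℕ}

/-- elements of exponent 2 commute -/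
theorem reeg5f_comm_of_sq {x y : G} (hx : x * x = 1) (hy : y * y = 1)
    (hxy : (x * y) * (x * y) = 1) : x * y = y * x := by
  have h1 : x⁻¹ = x := inv_eq_of_mul_eq_one_right hx
  have h2 : y⁻¹ = y := inv_eq_of_mul_eq_one_right hy
  have h3 : (x * y)⁻¹ = x * y := inv_eq_of_mul_eq_one_right hxy
  rw [_root_.mul_inv_rev, h1, h2] at h3
  exact h3.symm

/-- if `g ^ 3` commutes with `t` and `3 ∤ |g|`, then `g` commutes with `t` -/
theorem reeg5f_comm_of_cube {g t : G} (h3 : ¬ 3 ∣ orderOf g)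
    (hc : g ^ 3 * t = t * g ^ 3) : g * t = t * g := by
  have hcop : Nat.Coprime 3 (orderOf g) := (Nat.Prime.coprime_iff_not_dvd Nat.prime_three).2 h3
  obtain ⟨k, hk⟩ := exists_pow_eq_self_of_coprime hcop
  have hcomm : Commute (g ^ 3) t := hc
  have := hcomm.pow_left k
  rw [hk] at this
  exact this

/-- G5F core. -/
theorem cent_A1_elt_core (R : ReeAx G K m)
    (har : Odd ((qq m + 1) / 4) ∧ 4 * ((qq m + 1) / 4) = qq m + 1)
    (hfc : ∀ (C V A : Subgroup G), V ≤ C → A ≤ C → Nat.card V = 4 → (∀ v ∈ V, v * v = 1) →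
      ¬ 2 ∣ Nat.card C / 4 →
      (∀ g ∈ C, (∀ v ∈ V, g * v * g⁻¹ ∈ V) → ∀ v ∈ V, g * v = v * g) →
      (∀ x ∈ C, Odd (orderOf x) → (∃ v ∈ V, v ≠ 1 ∧ x * v = v * x) → x ∈ A) →
      ∀ x ∈ C, ∃ v ∈ V, ∃ a ∈ A, x = v * a)
    (hVb : (∀ v, v ∈ R.V ↔ v = 1 ∨ v = R.t ∨ v = R.n0 ∨ v = R.t * R.n0) ∧ Nat.card R.V = 4 ∧
      R.t * R.n0 = R.n0 * R.t ∧ R.t ≠ R.n0 ∧ R.n0 ≠ 1 ∧ R.t * R.n0 ≠ 1 ∧
      (∀ v ∈ R.V, v * v = 1) ∧ R.V ≤ R.E ∧ (∀ v ∈ R.V, v ∈ R.L → v = 1 ∨ v = R.n0))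
    (hEb : Nat.card R.E = qq m + 1 ∧ (∀ e₁ ∈ R.E, ∀ e₂ ∈ R.E, e₁ * e₂ = e₂ * e₁) ∧
      (∀ e, e ∈ R.E ↔ ∃ v ∈ R.V, ∃ a ∈ R.A1, e = v * a) ∧
      (∀ e, e ∈ R.E ↔ e ∈ R.D ∨ ∃ d ∈ R.D, e = R.t * d) ∧
      (∀ e ∈ R.E, e ^ ((qq m + 1) / 2) = 1) ∧ (∀ e ∈ R.E, e * e = 1 → e ∈ R.V) ∧
      (∀ e ∈ R.E, e ∉ R.V → e * e ∈ R.A1 ∧ e * e ≠ 1) ∧
      (∀ e ∈ R.E, Odd (orderOf e) → e ∈ R.A1) ∧
      R.A1 ≤ R.E ∧ R.D ≤ R.E)
    (hctA : ∀ c : G, c ∈ R.A1 → c ≠ 1 → ∀ g : G, g * R.t = R.t * g → g * c = c * g → g ∈ R.E)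
    (hrho : ∃ ρ : G, ρ * R.t * ρ⁻¹ = R.n0 ∧ ρ * R.n0 * ρ⁻¹ = R.t * R.n0)
    (hNVfix : ∀ g : G, (∀ v ∈ R.V, g * v * g⁻¹ ∈ R.V) →
      (g * R.t * g⁻¹ = R.t ∨ g * R.n0 * g⁻¹ = R.n0 ∨
        g * (R.t * R.n0) * g⁻¹ = R.t * R.n0) → ∀ v ∈ R.V, g * v = v * g)
    (hNVb : Nat.card (Subgroup.normalizer (R.V : Set G)) = 6 * (qq m + 1) ∧
      (∀ g ∈ Subgroup.normalizer (R.V : Set G), ∀ a ∈ R.A1, g * a * g⁻¹ ∈ R.A1) ∧
      (∀ g ∈ Subgroup.normalizer (R.V : Set G), ∀ e ∈ R.E, g * e * g⁻¹ ∈ R.E) ∧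
      (∀ g : G, (∀ e ∈ R.E, g * e * g⁻¹ ∈ R.E) → g ∈ Subgroup.normalizer (R.V : Set G)))
    (hno3 : ∀ c : G, c ∈ R.A1 → c ≠ 1 → ∀ g : G, g * c = c * g → ¬ 3 ∣ orderOf g)
    (c : G) (hc : c ∈ R.A1) (hc1 : c ≠ 1) :
    Subgroup.centralizer {c} = R.E := by
  obtain ⟨hVmem, hV4, htn, htne, hn1, htn1, hVexp, hVE, -⟩ := hVb
  obtain ⟨hEcard, hEcomm, hEVA, -, -, -, -, hEodd, hA1E, -⟩ := hEb
  obtain ⟨-, hNVA1, -, -⟩ := hNVb
  have hcE : c ∈ R.E := hA1E hc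
  have htV : R.t ∈ R.V := (hVmem _).2 (Or.inr (Or.inl rfl))
  have hnV : R.n0 ∈ R.V := (hVmem _).2 (Or.inr (Or.inr (Or.inl rfl)))
  have htnV : R.t * R.n0 ∈ R.V := (hVmem _).2 (Or.inr (Or.inr (Or.inr rfl)))
  have ht1 : R.t ≠ 1 := R.t_ne
  have htt : R.t * R.t = 1 := R.t_sq
  have hnn : R.n0 * R.n0 = 1 := R.n0_sq
  -- E ≤ C(c)
  have hEC : R.E ≤ Subgroup.centralizer {c} := by
    intro e he
    rw [Subgroup.mem_centralizer_singleton_iff]
    exact hEcomm e he c hcE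
  have hVC : R.V ≤ Subgroup.centralizer {c} := le_trans hVE hEC
  have hAC : R.A1 ≤ Subgroup.centralizer {c} := le_trans hA1E hEC
  -- the Sylow condition
  have hsyl : ¬ 2 ∣ Nat.card (Subgroup.centralizer ({c} : Set G)) / 4 := by
    intro h2
    have h4 : 4 ∣ Nat.card (Subgroup.centralizer ({c} : Set G)) := by
      rw [← hV4]; exact Subgroup.card_dvd_of_le hVC
    have h8 : 2 ^ 3 ∣ Nat.card (Subgroup.centralizer ({c} : Set G)) := by
      obtain ⟨k, hk⟩ := h4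
      obtain ⟨j, hj⟩ := h2
      rw [hk] at hj
      rw [Nat.mul_div_cancel_left _ (by norm_num)] at hj
      rw [hk, hj]
      exact ⟨j, by ring⟩
    have : Fact (Nat.Prime 2) := ⟨Nat.prime_two⟩
    have hV4' : Nat.card (R.V.subgroupOf (Subgroup.centralizer ({c} : Set G))) = 2 ^ 2 := by
      rw [Nat.card_congr (Subgroup.subgroupOfEquivOfLe hVC).toEquiv, hV4]
      norm_num
    obtain ⟨K', hK'card, hK'le⟩ := Sylow.exists_subgroup_card_pow_prime_le 2 h8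
      (R.V.subgroupOf (Subgroup.centralizer ({c} : Set G))) hV4' (by norm_num)
    set P : Subgroup G := K'.map (Subgroup.centralizer ({c} : Set G)).subtype with hP
    have hPcard : Nat.card P = 2 ^ 3 := by
      rw [hP, Subgroup.card_map_of_injective (Subgroup.subtype_injective _), hK'card]
    have hPp : IsPGroup 2 P := IsPGroup.of_card hPcard
    obtain ⟨S, hPS⟩ := hPp.exists_le_sylow
    have hSexp := (R.syl2 S).1
    have hPC : P ≤ Subgroup.centralizer ({c} : Set G) := by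
      rw [hP]
      intro x hx
      obtain ⟨y, _, rfl⟩ := Subgroup.mem_map.1 hx
      exact y.2
    have htP : R.t ∈ P := by
      rw [hP]
      refine Subgroup.mem_map.2 ⟨⟨R.t, hVC htV⟩, hK'le ?_, rfl⟩
      rw [Subgroup.mem_subgroupOf]
      exact htV
    have hPE : P ≤ R.E := by
      intro x hx
      have hxc : x * c = c * x := Subgroup.mem_centralizer_singleton_iff.1 (hPC hx)
      have hxt : x * R.t = R.t * x :=
        reeg5f_comm_of_sq (hSexp x (hPS hx)) htt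
          (hSexp _ (S.mul_mem (hPS hx) (hPS htP)))
      exact hctA c hc hc1 x hxt hxc
    have hdvd : 2 ^ 3 ∣ qq m + 1 := by
      rw [← hPcard, ← hEcard]; exact Subgroup.card_dvd_of_le hPE
    obtain ⟨hodd, h4q⟩ := har
    rw [← h4q] at hdvd
    obtain ⟨j, hj⟩ := hodd
    rw [hj] at hdvd
    omega
  -- N_C(V) = C_C(V)
  have hNC : ∀ g ∈ Subgroup.centralizer ({c} : Set G), (∀ v ∈ R.V, g * v * g⁻¹ ∈ R.V) →
      ∀ v ∈ R.V, g * v = v * g := by
    intro g hg hgV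
    apply hNVfix g hgV
    by_contra hcon
    push Not at hcon
    obtain ⟨hft, hfn, hftn⟩ := hcon
    have hgc : g * c = c * g := Subgroup.mem_centralizer_singleton_iff.1 hg
    have h3 : ¬ 3 ∣ orderOf g := hno3 c hc hc1 g hgc
    -- conjugation is injective
    have hinj : ∀ a b : G, g * a * g⁻¹ = g * b * g⁻¹ → a = b := by
      intro a b h
      have := mul_right_cancel h
      exact mul_left_cancel this
    have hmul : ∀ a b : G, g * (a * b) * g⁻¹ = (g * a * g⁻¹) * (g * b * g⁻¹) := by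
      intro a b; group
    have hone : ∀ a : G, g * a * g⁻¹ = 1 → a = 1 := by
      intro a h
      apply hinj a 1
      rw [h]; group
    have hcube : ∀ a : G, g ^ 3 * a * (g ^ 3)⁻¹ = g * (g * (g * a * g⁻¹) * g⁻¹) * g⁻¹ := by
      intro a
      have h3' : g ^ 3 = g * g * g := by rw [pow_succ, pow_succ, pow_one]
      rw [h3']; group
    have key : g ^ 3 * R.t * (g ^ 3)⁻¹ = R.t := by
      rw [hcube]
      rcases (hVmem _).1 (hgV _ htV) with h | h | h | h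
      · exact absurd (hone _ h) ht1
      · exact absurd h hft
      · -- g t g⁻¹ = n0
        rcases (hVmem _).1 (hgV _ hnV) with h' | h' | h' | h'
        · exact absurd (hone _ h') hn1
        · -- g n0 g⁻¹ = t : then t n0 is fixed
          exfalso
          apply hftn
          rw [hmul, h, h', htn]
        · exact absurd h' hfn
        · -- g n0 g⁻¹ = t n0
          rw [h, h', hmul R.t R.n0, h, h']
          rw [htn, ← mul_assoc R.n0 R.n0 R.t, hnn, one_mul]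
      · -- g t g⁻¹ = t n0
        rcases (hVmem _).1 (hgV _ hnV) with h' | h' | h' | h'
        · exact absurd (hone _ h') hn1
        · -- g n0 g⁻¹ = t
          rw [h, hmul R.t R.n0, h, h']
          rw [htn, mul_assoc R.n0 R.t R.t, htt, mul_one]
          exact h'
        · exact absurd h' hfn
        · exact absurd (hinj _ _ (h.trans h'.symm)) htne
    have hcomm3 : g ^ 3 * R.t = R.t * g ^ 3 := by
      have := key
      rw [mul_inv_eq_iff_eq_mul] at this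
      exact this
    have hcomm : g * R.t = R.t * g := reeg5f_comm_of_cube h3 hcomm3
    apply hft
    rw [hcomm, mul_inv_cancel_right]
  -- odd elements centralising an involution of V lie in A₁
  obtain ⟨ρ, hρt, hρn⟩ := hrho
  have hρtn : ρ * (R.t * R.n0) * ρ⁻¹ = R.t := by
    have : ρ * (R.t * R.n0) * ρ⁻¹ = (ρ * R.t * ρ⁻¹) * (ρ * R.n0 * ρ⁻¹) := by group
    rw [this, hρt, hρn, htn, ← mul_assoc, hnn, one_mul]
  have hρinj : ∀ a b : G, ρ * a * ρ⁻¹ = ρ * b * ρ⁻¹ → a = b := by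
    intro a b h
    exact mul_left_cancel (mul_right_cancel h)
  have hρN : ρ ∈ Subgroup.normalizer (R.V : Set G) := by
    rw [Subgroup.mem_normalizer_iff]
    intro v
    constructor
    · intro hv
      rcases (hVmem _).1 hv with h | h | h | h
      · rw [h]; simp
      · rw [h, hρt]; exact hnV
      · rw [h, hρn]; exact htnV
      · rw [h, hρtn]; exact htV
    · intro hv
      rcases (hVmem _).1 hv with h | h | h | h
      · have : v = 1 := by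
          apply hρinj v 1; rw [h]; group
        rw [this]; exact R.V.one_mem
      · have : v = R.t * R.n0 := hρinj _ _ (h.trans hρtn.symm)
        rw [this]; exact htnV
      · have : v = R.t := hρinj _ _ (h.trans hρt.symm)
        rw [this]; exact htV
      · have : v = R.n0 := hρinj _ _ (h.trans hρn.symm)
        rw [this]; exact hnV
  have hgen : ∀ s ∈ Subgroup.normalizer (R.V : Set G), ∀ x : G, x * c = c * x →
      Odd (orderOf x) → x * (s * R.t * s⁻¹) = (s * R.t * s⁻¹) * x → x ∈ R.A1 := by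
    intro s hs x hxc hxodd hxs
    have hs' : s⁻¹ ∈ Subgroup.normalizer (R.V : Set G) := Subgroup.inv_mem _ hs
    have hc' : s⁻¹ * c * s⁻¹⁻¹ ∈ R.A1 := hNVA1 _ hs' c hc
    have hc'1 : s⁻¹ * c * s⁻¹⁻¹ ≠ 1 := by
      intro h
      apply hc1
      have : c = s * (s⁻¹ * c * s⁻¹⁻¹) * s⁻¹ := by group
      rw [this, h]; group
    have hx't : (s⁻¹ * x * s⁻¹⁻¹) * R.t = R.t * (s⁻¹ * x * s⁻¹⁻¹) := by
      have e1 : (s⁻¹ * x * s⁻¹⁻¹) * R.t = s⁻¹ * (x * (s * R.t * s⁻¹)) * s := by group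
      have e2 : R.t * (s⁻¹ * x * s⁻¹⁻¹) = s⁻¹ * ((s * R.t * s⁻¹) * x) * s := by group
      rw [e1, e2, hxs]
    have hx'c : (s⁻¹ * x * s⁻¹⁻¹) * (s⁻¹ * c * s⁻¹⁻¹) = (s⁻¹ * c * s⁻¹⁻¹) * (s⁻¹ * x * s⁻¹⁻¹) := by
      have e1 : (s⁻¹ * x * s⁻¹⁻¹) * (s⁻¹ * c * s⁻¹⁻¹) = s⁻¹ * (x * c) * s := by group
      have e2 : (s⁻¹ * c * s⁻¹⁻¹) * (s⁻¹ * x * s⁻¹⁻¹) = s⁻¹ * (c * x) * s := by group
      rw [e1, e2, hxc]
    have hx'E : s⁻¹ * x * s⁻¹⁻¹ ∈ R.E := hctA _ hc' hc'1 _ hx't hx'c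
    have hord : orderOf (s⁻¹ * x * s⁻¹⁻¹) = orderOf x := by
      have : s⁻¹ * x * s⁻¹⁻¹ = MulAut.conj s⁻¹ x := by simp
      rw [this]
      exact orderOf_injective (MulAut.conj s⁻¹).toMonoidHom (MulAut.conj s⁻¹).injective x
    have hx'A : s⁻¹ * x * s⁻¹⁻¹ ∈ R.A1 := hEodd _ hx'E (by rw [hord]; exact hxodd)
    have := hNVA1 s hs _ hx'A
    have e : s * (s⁻¹ * x * s⁻¹⁻¹) * s⁻¹ = x := by group
    rwa [e] at this
  have hodd : ∀ x ∈ Subgroup.centralizer ({c} : Set G), Odd (orderOf x) →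
      (∃ v ∈ R.V, v ≠ 1 ∧ x * v = v * x) → x ∈ R.A1 := by
    intro x hx hxodd hv
    have hxc : x * c = c * x := Subgroup.mem_centralizer_singleton_iff.1 hx
    obtain ⟨v, hvV, hv1, hxv⟩ := hv
    rcases (hVmem _).1 hvV with h | h | h | h
    · exact absurd h hv1
    · refine hgen 1 (Subgroup.one_mem _) x hxc hxodd ?_
      rw [one_mul, inv_one, mul_one, ← h]; exact hxv
    · refine hgen ρ hρN x hxc hxodd ?_
      rw [hρt, ← h]; exact hxv
    · refine hgen (ρ * ρ) (Subgroup.mul_mem _ hρN hρN) x hxc hxodd ?_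
      have : ρ * ρ * R.t * (ρ * ρ)⁻¹ = ρ * (ρ * R.t * ρ⁻¹) * ρ⁻¹ := by group
      rw [this, hρt, hρn, ← h]; exact hxv
  have hmain := hfc (Subgroup.centralizer ({c} : Set G)) R.V R.A1 hVC hAC hV4 hVexp hsyl hNC hodd
  apply le_antisymm
  · intro x hx
    obtain ⟨v, hv, a, ha, rfl⟩ := hmain x hx
    exact (hEVA _).2 ⟨v, hv, a, ha, rfl⟩
  · exact hEC

end ReeAx

end Cfsg.Agent.Lib.helper7.REE
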