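import Mathlib
import Cfsg.Agent.Lib.Helper18.REELA.Defs

/-!
# Project REE, block LA, row LA12 (`la_fix_line`), verbatim vs `Helper18/REELA/Skel.lean.txt`.
-/

set_option autoImplicit false

namespace Cfsg.Agent.Lib.helper7.REE

open Matrix Polynomial

universe v

section finite

variable {K : Type v} [Field K] [Fintype K]

variable {V : Type*} [AddCommGroup V] [Module K V]

/-- LA12 [S-M]. An endomorphism of finite order `k` prime to `|K| - 1` fixes every invariant
line pointwise.  (`L₁ = K v`, `g v = a v`, `a^k = 1`, `a^(|K|-1) = 1`.) -/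
theorem la_fix_line (L₁ : Submodule K V) (h1 : Module.finrank K L₁ = 1) (g : Module.End K V)
    (hg : ∀ x ∈ L₁, g x ∈ L₁) (k : ℕ) (hk0 : 0 < k) (hk : g ^ k = 1)
    (hcop : k.Coprime (Fintype.card K - 1)) : ∀ x ∈ L₁, g x = x := by
  obtain ⟨v, hv0, hv⟩ := finrank_eq_one_iff'.1 h1
  have hvL : (v : V) ∈ L₁ := v.2
  have hv0' : (v : V) ≠ 0 := fun h => hv0 (Subtype.ext h)
  obtain ⟨a, ha⟩ := hv ⟨g v, hg v hvL⟩
  have ha' : g (v : V) = a • (v : V) := by
    have := congrArg Subtype.val ha
    simpa using this.symm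
  have hpow : ∀ n : ℕ, (g ^ n) (v : V) = a ^ n • (v : V) := by
    intro n
    induction n with
    | zero => simp
    | succ n ih =>
      rw [pow_succ, Module.End.mul_apply, ha', map_smul, ih, smul_smul, pow_succ, mul_comm]
  have hak : a ^ k = 1 := by
    have h := hpow k
    rw [hk, Module.End.one_apply] at h
    have h2 : (a ^ k - 1) • (v : V) = 0 := by
      rw [sub_smul, one_smul, ← h, sub_self]
    rcases smul_eq_zero.1 h2 with h3 | h3
    · exact sub_eq_zero.1 h3
    · exact absurd h3 hv0'
  have ha0 : a ≠ 0 := by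
    intro h
    rw [h, zero_pow hk0.ne'] at hak
    exact zero_ne_one hak
  have haq : a ^ (Fintype.card K - 1) = 1 := FiniteField.pow_card_sub_one_eq_one a ha0
  have ha1 : a = 1 := by
    have := (pow_gcd_eq_one (a := a) (m := k) (n := Fintype.card K - 1)).2 ⟨hak, haq⟩
    rw [Nat.Coprime.gcd_eq_one hcop, pow_one] at this
    exact this
  intro x hx
  obtain ⟨c, hc⟩ := hv ⟨x, hx⟩
  have hc' : x = c • (v : V) := by
    have := congrArg Subtype.val hc
    simpa using this.symm
  rw [hc', map_smul, ha', ha1, one_smul]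

end finite

end Cfsg.Agent.Lib.helper7.REE
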