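import Mathlib
import Cfsg.Agent.Lib.helper7.REE.Defs

/-!
# Project REE, row G7D (core): π-tori are TI, Hall, conjugate when their orders are not
coprime, and cover the prime divisors of `N₀` — from the statements of the rows ARA (part 8),
G7A (`tor_pi`), G7B (`tor_cyclic`) taken as hypotheses.
-/

set_option autoImplicit false

namespace Cfsg.Agent.Lib.helper7.REE

open Matrix Cfsg.Agent.Lib.helper8

universe u v

namespace ReeAx

variable {G : Type u} [Group G] [Finite G] {K : Type v} [Field K] [Fintype K] {m : ℕ}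

omit [Finite G] in
/-- the conjugate of a centraliser is the centraliser of the conjugate -/
theorem reeg7d_map_cent (g x : G) :
    (Subgroup.centralizer ({x} : Set G)).map (MulAut.conj g).toMonoidHom =
      Subgroup.centralizer ({g * x * g⁻¹} : Set G) := by
  ext y
  rw [Subgroup.mem_map, Subgroup.mem_centralizer_singleton_iff]
  constructor
  · rintro ⟨z, hz, rfl⟩
    rw [Subgroup.mem_centralizer_singleton_iff] at hz
    show (g * z * g⁻¹) * (g * x * g⁻¹) = (g * x * g⁻¹) * (g * z * g⁻¹)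
    have e1 : (g * z * g⁻¹) * (g * x * g⁻¹) = g * (z * x) * g⁻¹ := by group
    have e2 : (g * x * g⁻¹) * (g * z * g⁻¹) = g * (x * z) * g⁻¹ := by group
    rw [e1, e2, hz]
  · intro hy
    refine ⟨g⁻¹ * y * g, ?_, ?_⟩
    · rw [Subgroup.mem_centralizer_singleton_iff]
      have e1 : (g⁻¹ * y * g) * x = g⁻¹ * (y * (g * x * g⁻¹)) * g := by group
      have e2 : x * (g⁻¹ * y * g) = g⁻¹ * ((g * x * g⁻¹) * y) * g := by group
      rw [e1, e2, hy]
    · show g * (g⁻¹ * y * g) * g⁻¹ = y
      group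

omit [Finite G] in
/-- if conjugation by `g` maps `A` onto `A` then `g` normalises `A` -/
theorem reeg7d_mem_normalizer (A : Subgroup G) (g : G)
    (h : A.map (MulAut.conj g).toMonoidHom = A) : g ∈ Subgroup.normalizer (A : Set G) := by
  rw [Subgroup.mem_normalizer_iff]
  intro y
  constructor
  · intro hy
    rw [← h]
    exact Subgroup.mem_map.2 ⟨y, hy, rfl⟩
  · intro hy
    rw [← h] at hy
    obtain ⟨z, hz, hzy⟩ := Subgroup.mem_map.1 hy
    have hzy' : g * z * g⁻¹ = g * y * g⁻¹ := hzy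
    have : z = y := mul_left_cancel (mul_right_cancel hzy')
    rwa [← this]

/-- A Sylow `l`-subgroup meeting a subgroup `A` (which is the centraliser of each of its
non-trivial elements) non-trivially lies in `A`. -/
theorem reeg7d_sylow_le (A : Subgroup G)
    (hA : ∀ a ∈ A, a ≠ 1 → Subgroup.centralizer ({a} : Set G) = A)
    (l : ℕ) [Fact l.Prime] (P : Sylow l G) (a : G) (haA : a ∈ A) (ha1 : a ≠ 1) (haP : a ∈ P) :
    (P : Subgroup G) ≤ A := by
  have hnt : Nontrivial (P : Subgroup G) := by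
    refine ⟨⟨⟨a, haP⟩, 1, ?_⟩⟩
    intro h
    apply ha1
    exact congrArg Subtype.val h
  have hcen : Nontrivial (Subgroup.center (P : Subgroup G)) := P.isPGroup'.center_nontrivial
  obtain ⟨z, hz1⟩ := exists_ne (1 : Subgroup.center (P : Subgroup G))
  have hzc : ∀ y : (P : Subgroup G), y * (z : (P : Subgroup G)) = (z : (P : Subgroup G)) * y := by
    intro y
    have := Subgroup.mem_center_iff.1 z.2 y
    exact this
  set zz : G := ((z : (P : Subgroup G)) : G) with hzz
  have hzz1 : zz ≠ 1 := by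
    intro h
    apply hz1
    apply Subtype.ext
    apply Subtype.ext
    exact h
  have hzza : zz * a = a * zz := by
    have := hzc ⟨a, haP⟩
    have h2 := congrArg Subtype.val this
    exact h2.symm
  have hzzA : zz ∈ A := by
    rw [← hA a haA ha1, Subgroup.mem_centralizer_singleton_iff]
    exact hzza
  have hcz : Subgroup.centralizer ({zz} : Set G) = A := hA zz hzzA hzz1
  intro y hy
  rw [← hcz, Subgroup.mem_centralizer_singleton_iff]
  have := hzc ⟨y, hy⟩
  exact congrArg Subtype.val this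

/-- Cauchy inside a subgroup -/
theorem reeg7d_cauchy (A : Subgroup G) (l : ℕ) [Fact l.Prime] (h : l ∣ Nat.card A) :
    ∃ a ∈ A, orderOf a = l := by
  obtain ⟨x, hx⟩ := exists_prime_orderOf_dvd_card' (G := A) l h
  exact ⟨x, x.2, by rw [Subgroup.orderOf_coe]; exact hx⟩

/-- an element of prime order lies in a Sylow subgroup -/
theorem reeg7d_in_sylow (l : ℕ) [hl : Fact l.Prime] (a : G) (ha : orderOf a = l) :
    ∃ P : Sylow l G, a ∈ P := by
  have hp : IsPGroup l (Subgroup.zpowers a) := by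
    apply IsPGroup.of_card (n := 1)
    rw [Nat.card_zpowers, ha, pow_one]
  obtain ⟨P, hP⟩ := hp.exists_le_sylow
  exact ⟨P, hP (Subgroup.mem_zpowers a)⟩

/-- G7D core. -/
theorem tor_hall_core (R : ReeAx G K m)
    (hgg : gg m = qq m ^ 3 * (qq m - 1) * (qq m + 1) * nn m)
    (htp : ∀ A : Subgroup G, R.IsTor A → (∀ c ∈ A, c ^ nn m = 1) ∧ Nat.card A ∣ nn m ∧
      2 ≤ Nat.card A ∧ (Nat.card A).Coprime (qq m - 1))
    (htc : ∀ A : Subgroup G, R.IsTor A → IsCyclic A ∧
      ∀ a ∈ A, a ≠ 1 → Subgroup.centralizer {a} = A) :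
    (∀ A, R.IsTor A → ∀ g : G, R.IsTor (A.map (MulAut.conj g).toMonoidHom)) ∧
    (∀ A, R.IsTor A → ∀ g : G, ∀ a ∈ A, a ≠ 1 → g * a * g⁻¹ ∈ A →
      g ∈ Subgroup.normalizer (A : Set G)) ∧
    (∀ A, R.IsTor A → (Nat.card A).Coprime (nn m / Nat.card A)) ∧
    (∀ A A', R.IsTor A → R.IsTor A' → ¬ (Nat.card A).Coprime (Nat.card A') →
      ∃ g : G, A' = A.map (MulAut.conj g).toMonoidHom) ∧
    (∀ l : ℕ, l.Prime → l ∣ nn m → ∃ A, R.IsTor A ∧ l ∣ Nat.card A) := by
  have hconj1 : ∀ (g a : G), a ≠ 1 → g * a * g⁻¹ ≠ 1 := by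
    intro g a ha h
    apply ha
    have : a = g⁻¹ * (g * a * g⁻¹) * g := by group
    rw [this, h]; group
  have hnG : nn m ∣ Nat.card G := by
    rw [R.card, hgg]; exact Dvd.intro_left _ rfl
  refine ⟨?_, ?_, ?_, ?_, ?_⟩
  · -- conjugates of tori are tori
    rintro A ⟨x, ⟨hx1, hxn⟩, rfl⟩ g
    refine ⟨g * x * g⁻¹, ⟨hconj1 g x hx1, ?_⟩, reeg7d_map_cent g x⟩
    rw [conj_pow, hxn]; group
  · -- TI
    intro A hA g a haA ha1 hga
    obtain ⟨-, hcent⟩ := htc A hA
    apply reeg7d_mem_normalizer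
    have h1 := hcent a haA ha1
    have h2 := hcent (g * a * g⁻¹) hga (hconj1 g a ha1)
    calc A.map (MulAut.conj g).toMonoidHom
        = (Subgroup.centralizer ({a} : Set G)).map (MulAut.conj g).toMonoidHom := by rw [h1]
      _ = Subgroup.centralizer ({g * a * g⁻¹} : Set G) := reeg7d_map_cent g a
      _ = A := h2
  · -- Hall
    intro A hA
    obtain ⟨-, hcent⟩ := htc A hA
    obtain ⟨-, hAn, hA2, -⟩ := htp A hA
    by_contra hcop
    obtain ⟨l, hl, hlA, hlq⟩ := Nat.Prime.not_coprime_iff_dvd.1 hcop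
    have : Fact l.Prime := ⟨hl⟩
    obtain ⟨a, haA, hal⟩ := reeg7d_cauchy A l hlA
    have ha1 : a ≠ 1 := by
      intro h
      rw [h, orderOf_one] at hal
      exact hl.one_lt.ne hal
    obtain ⟨P, haP⟩ := reeg7d_in_sylow l a hal
    have hPA : (P : Subgroup G) ≤ A := reeg7d_sylow_le A hcent l P a haA ha1 haP
    have hPcard : Nat.card (P : Subgroup G) = l ^ (Nat.card G).factorization l :=
      P.card_eq_multiplicity
    have hd1 : l ^ (Nat.card G).factorization l ∣ Nat.card A := by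
      rw [← hPcard]; exact Subgroup.card_dvd_of_le hPA
    have hd2 : l ^ ((Nat.card G).factorization l + 1) ∣ Nat.card G := by
      refine dvd_trans ?_ hnG
      obtain ⟨k, hk⟩ := hAn
      have hApos : 0 < Nat.card A := by omega
      have hk' : nn m / Nat.card A = k := by
        rw [hk]; exact Nat.mul_div_cancel_left _ hApos
      rw [hk'] at hlq
      rw [hk, pow_succ]
      exact Nat.mul_dvd_mul hd1 hlq
    exact Nat.pow_succ_factorization_not_dvd (Nat.card_pos.ne') hl hd2
  · -- conjugacy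
    intro A A' hA hA' hcop
    obtain ⟨-, hcent⟩ := htc A hA
    obtain ⟨-, hcent'⟩ := htc A' hA'
    obtain ⟨l, hl, hlA, hlA'⟩ := Nat.Prime.not_coprime_iff_dvd.1 hcop
    have : Fact l.Prime := ⟨hl⟩
    obtain ⟨a, haA, hal⟩ := reeg7d_cauchy A l hlA
    obtain ⟨a', haA', hal'⟩ := reeg7d_cauchy A' l hlA'
    have ha1 : a ≠ 1 := by
      intro h
      rw [h, orderOf_one] at hal
      exact hl.one_lt.ne hal
    have ha'1 : a' ≠ 1 := by
      intro h
      rw [h, orderOf_one] at hal'
      exact hl.one_lt.ne hal'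
    obtain ⟨P, haP⟩ := reeg7d_in_sylow l a hal
    obtain ⟨P', haP'⟩ := reeg7d_in_sylow l a' hal'
    have hPA' : (P' : Subgroup G) ≤ A' := reeg7d_sylow_le A' hcent' l P' a' haA' ha'1 haP'
    obtain ⟨g, hg⟩ := MulAction.exists_smul_eq G P P'
    have hgaP' : g * a * g⁻¹ ∈ (P' : Subgroup G) := by
      rw [← hg, Sylow.coe_subgroup_smul]
      have := Subgroup.smul_mem_pointwise_smul a (MulAut.conj g) (P : Subgroup G) haP
      rwa [MulAut.smul_def, MulAut.conj_apply] at this
    have hgaA' : g * a * g⁻¹ ∈ A' := hPA' hgaP'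
    refine ⟨g, ?_⟩
    have h1 := hcent a haA ha1
    have h2 := hcent' (g * a * g⁻¹) hgaA' (hconj1 g a ha1)
    calc A' = Subgroup.centralizer ({g * a * g⁻¹} : Set G) := h2.symm
      _ = (Subgroup.centralizer ({a} : Set G)).map (MulAut.conj g).toMonoidHom :=
          (reeg7d_map_cent g a).symm
      _ = A.map (MulAut.conj g).toMonoidHom := by rw [h1]
  · -- every prime divisor of N₀ occurs
    intro l hl hln
    have : Fact l.Prime := ⟨hl⟩
    obtain ⟨x, hx⟩ := exists_prime_orderOf_dvd_card' (G := G) l (dvd_trans hln hnG)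
    have hx1 : x ≠ 1 := by
      intro h
      rw [h, orderOf_one] at hx
      exact hl.one_lt.ne hx
    have hxn : x ^ nn m = 1 := by
      rw [← orderOf_dvd_iff_pow_eq_one, hx]; exact hln
    refine ⟨Subgroup.centralizer ({x} : Set G), ⟨x, ⟨hx1, hxn⟩, rfl⟩, ?_⟩
    rw [← hx]
    have hxc : x ∈ Subgroup.centralizer ({x} : Set G) := by
      rw [Subgroup.mem_centralizer_singleton_iff]
    have := orderOf_dvd_natCard (⟨x, hxc⟩ : Subgroup.centralizer ({x} : Set G))
    rwa [← Subgroup.orderOf_coe] at this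

end ReeAx

end Cfsg.Agent.Lib.helper7.REE
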