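import Mathlib
import Cfsg.Agent.Lib.Helper18.REELA.Defs

/-!
# Project REE, block LA, row LA11 (core): an element of the commutant of `f` killed by `p` on
`W = ker p(f)` is a Frobenius power of `f` there — from the statements of LA05, LA07, LA09,
LA16 taken as hypotheses.
-/

set_option autoImplicit false

namespace Cfsg.Agent.Lib.helper7.REE

open Matrix Polynomial

universe v

section finite

variable {K : Type v} [Field K] [Fintype K]

variable {V : Type*} [AddCommGroup V] [Module K V]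

/-- LA11 core. -/
theorem la_conj_frob_ker_core (f : Module.End K V) (p : K[X])
    (h05 : ∀ s : K[X], (∀ x ∈ LinearMap.ker (aeval f p), aeval f s x = 0) ↔ p ∣ s)
    (h09 : ∀ β : AdjoinRoot p, aeval β p = 0 →
      ∃ i, i < p.natDegree ∧ β = AdjoinRoot.root p ^ (Fintype.card K ^ i))
    (h16 : ∀ (W : Submodule K V) (g h : Module.End K V), (∀ x ∈ W, h x ∈ W) →
      (∀ x ∈ W, g x = h x) →
      (∀ k : ℕ, ∀ x ∈ W, (g ^ k) x = (h ^ k) x) ∧
      (∀ r : K[X], ∀ x ∈ W, aeval g r x = aeval h r x))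
    (g : Module.End K V)
    (h07 : ∃ r : K[X], ∀ x ∈ LinearMap.ker (aeval f p), g x = aeval f r x)
    (hpg : ∀ x ∈ LinearMap.ker (aeval f p), aeval g p x = 0) :
    ∃ i, i < p.natDegree ∧
      ∀ x ∈ LinearMap.ker (aeval f p), g x = (f ^ (Fintype.card K ^ i)) x := by
  obtain ⟨r, hr⟩ := h07
  -- W is invariant under r(f)
  have hinv : ∀ x ∈ LinearMap.ker (aeval f p), aeval f r x ∈ LinearMap.ker (aeval f p) := by
    intro x hx
    rw [LinearMap.mem_ker] at hx ⊢
    have hcomm : (aeval f p) * (aeval f r) = (aeval f r) * (aeval f p) := by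
      rw [← map_mul, ← map_mul, mul_comm]
    have : (aeval f p) ((aeval f r) x) = ((aeval f p) * (aeval f r)) x := rfl
    rw [this, hcomm, Module.End.mul_apply, hx, map_zero]
  obtain ⟨-, hag⟩ := h16 (LinearMap.ker (aeval f p)) g (aeval f r) hinv hr
  -- p ∣ p.comp r
  have hdvd : p ∣ p.comp r := by
    rw [← h05]
    intro x hx
    rw [Polynomial.aeval_comp, ← hag p x hx]
    exact hpg x hx
  -- β = mk r is a root of p
  have hβ : aeval (AdjoinRoot.mk p r) p = 0 := by
    have h1 : aeval (AdjoinRoot.mk p r) p = AdjoinRoot.mk p (aeval r p) := by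
      rw [← AdjoinRoot.coe_mkₐ]
      exact Polynomial.aeval_algHom_apply (AdjoinRoot.mkₐ p) r p
    rw [h1, ← Polynomial.comp_eq_aeval, AdjoinRoot.mk_eq_zero]
    exact hdvd
  obtain ⟨i, hi, hβi⟩ := h09 _ hβ
  refine ⟨i, hi, ?_⟩
  have hmk : AdjoinRoot.mk p r = AdjoinRoot.mk p (X ^ (Fintype.card K ^ i)) := by
    rw [hβi, map_pow, AdjoinRoot.mk_X]
  rw [AdjoinRoot.mk_eq_mk] at hmk
  have hz := (h05 _).2 hmk
  intro x hx
  have h1 := hz x hx
  rw [map_sub, LinearMap.sub_apply, sub_eq_zero, map_pow, aeval_X] at h1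
  rw [hr x hx, h1]

end finite

end Cfsg.Agent.Lib.helper7.REE
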