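import Mathlib
import Cfsg.Agent.Lib.Helper13.S5955.Defs
import Cfsg.Agent.Lib.Helper13.S5955.Defs2

set_option autoImplicit false

namespace Cfsg.Agent.Lib.Helper13.S5955

open Polynomial Module

/-- the vectors of the orthogonal sum supported on the blocks in `S`, with trivial last part -/
def h5_supp (F : Type*) [Field F] (A h w : ℕ) (S : Finset (Fin A)) :
    Submodule F (OSum F A h w) where
  carrier := {u | u.2 = 0 ∧ ∀ a, a ∉ S → u.1 a = 0}
  add_mem' := by
    rintro u v ⟨hu2, hu1⟩ ⟨hv2, hv1⟩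
    refine ⟨by rw [Prod.snd_add, hu2, hv2, add_zero], fun a ha => ?_⟩
    rw [Prod.fst_add, Pi.add_apply, hu1 a ha, hv1 a ha, add_zero]
  zero_mem' := ⟨rfl, fun _ _ => rfl⟩
  smul_mem' := by
    rintro c u ⟨hu2, hu1⟩
    refine ⟨by rw [Prod.smul_snd, hu2, smul_zero], fun a ha => ?_⟩
    rw [Prod.smul_fst, Pi.smul_apply, hu1 a ha, smul_zero]

theorem h5_mem_supp {F : Type*} [Field F] {A h w : ℕ} (S : Finset (Fin A)) (u : OSum F A h w) :
    u ∈ h5_supp F A h w S ↔ u.2 = 0 ∧ ∀ a, a ∉ S → u.1 a = 0 := Iff.rfl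

theorem h5_mem_fixS {F : Type*} [Field F] {V : Type*} [AddCommGroup V] [Module F V]
    (x : Module.End F V) (v : V) : v ∈ fixS x ↔ x v = v := by
  unfold fixS
  rw [LinearMap.mem_ker, map_sub, aeval_X, map_one, LinearMap.sub_apply, Module.End.one_apply,
    sub_eq_zero]

/-- the projection to the block `a` -/
def h5_proj (F : Type*) [Field F] (A h w : ℕ) (a : Fin A) :
    OSum F A h w →ₗ[F] (Fin h ⊕ Fin h → F) :=
  (LinearMap.proj a).comp (LinearMap.fst F _ _)

theorem h5_proj_apply {F : Type*} [Field F] {A h w : ℕ} (a : Fin A) (u : OSum F A h w) :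
    h5_proj F A h w a u = u.1 a := rfl

/-- N6 [L] OSUMDIST: irreducible, fixed-point-free, pairwise non-isomorphic non-degenerate
blocks: every t.i. invariant subspace lies in the fixed space. -/
theorem osum_dist {F : Type*} [Field F] {A h : ℕ} (w r : ℕ) (hr : 0 < r)
    (y : Fin A → Module.End F (Fin h ⊕ Fin h → F)) (hy : ∀ a, SCtx r (stdB h F) (y a))
    (hfix : ∀ a, fixS (y a) = ⊥)
    (hirr : ∀ a, ∀ U : Submodule F (Fin h ⊕ Fin h → F), SInv (y a) U → U = ⊥ ∨ U = ⊤)
    (hdist : ∀ a b, a ≠ b → ¬ ∃ φ : (Fin h ⊕ Fin h → F) ≃ₗ[F] (Fin h ⊕ Fin h → F),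
      ∀ v, φ (y a v) = y b (φ v))
    (W : Submodule F (OSum F A h w)) (hW : SInv (osumX w y) W) (hWti : STI (osumB F A h w) W) :
    W ≤ fixS (osumX w y) := by
  classical
  have hfpf : ∀ a v, y a v = v → v = 0 := by
    intro a v hv
    have : v ∈ fixS (y a) := (h5_mem_fixS _ _).mpr hv
    rw [hfix a] at this
    exact (Submodule.mem_bot F).mp this
  -- it is enough to show that the block components vanish
  suffices key : ∀ u ∈ W, u.1 = 0 by
    intro u hu
    rw [h5_mem_fixS, osumX_apply]
    have h1 := key u hu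
    apply Prod.ext
    · funext a
      show y a (u.1 a) = u.1 a
      rw [h1, Pi.zero_apply, map_zero]
    · rfl
  by_contra hcon
  push Not at hcon
  obtain ⟨u0, hu0W, hu0⟩ := hcon
  -- the invariant subspaces `TS S`
  obtain ⟨TS, hTS⟩ : ∃ TS : Finset (Fin A) → Submodule F (OSum F A h w),
      ∀ S, TS S = W ⊓ h5_supp F A h w S := ⟨_, fun _ => rfl⟩
  have hTSinv : ∀ S, ∀ u ∈ TS S, osumX w y u ∈ TS S := by
    intro S u hu
    rw [hTS, Submodule.mem_inf, h5_mem_supp] at hu ⊢
    refine ⟨hW u hu.1, ?_, fun a ha => ?_⟩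
    · rw [osumX_apply]; exact hu.2.1
    · rw [osumX_apply]
      show y a (u.1 a) = 0
      rw [hu.2.2 a ha, map_zero]
  -- `TS univ` is not trivial
  have huniv : TS Finset.univ ≠ ⊥ := by
    have hne : ∃ a, u0.1 a ≠ 0 := by
      by_contra h
      push Not at h
      exact hu0 (funext h)
    obtain ⟨a, ha⟩ := hne
    intro hbot
    have hmem : osumX w y u0 - u0 ∈ TS Finset.univ := by
      rw [hTS, Submodule.mem_inf, h5_mem_supp]
      refine ⟨W.sub_mem (hW u0 hu0W) hu0W, ?_, fun b hb => absurd (Finset.mem_univ b) hb⟩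
      rw [osumX_apply, Prod.snd_sub, sub_self]
    rw [hbot, Submodule.mem_bot] at hmem
    have h1 : (osumX w y u0 - u0).1 a = 0 := by rw [hmem]; rfl
    rw [osumX_apply, Prod.fst_sub, Pi.sub_apply, sub_eq_zero] at h1
    exact ha (hfpf a _ h1)
  -- a minimal `S`
  obtain ⟨S, hSmem, hSmin⟩ := Finset.exists_min_image
    (Finset.univ.filter (fun S : Finset (Fin A) => TS S ≠ ⊥)) Finset.card
    ⟨Finset.univ, by rw [Finset.mem_filter]; exact ⟨Finset.mem_univ _, huniv⟩⟩
  rw [Finset.mem_filter] at hSmem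
  have hSne := hSmem.2
  have herase : ∀ a ∈ S, TS (S.erase a) = ⊥ := by
    intro a ha
    by_contra hne
    have := hSmin (S.erase a) (by rw [Finset.mem_filter]; exact ⟨Finset.mem_univ _, hne⟩)
    rw [Finset.card_erase_of_mem ha] at this
    have hpos : 0 < S.card := Finset.card_pos.mpr ⟨a, ha⟩
    omega
  have hinj : ∀ a ∈ S, ∀ u ∈ TS S, u.1 a = 0 → u = 0 := by
    intro a ha u hu hua
    have : u ∈ TS (S.erase a) := by
      rw [hTS, Submodule.mem_inf, h5_mem_supp] at hu ⊢
      refine ⟨hu.1, hu.2.1, fun b hb => ?_⟩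
      by_cases hba : b = a
      · rw [hba]; exact hua
      · apply hu.2.2 b
        intro hbS
        exact hb (Finset.mem_erase.mpr ⟨hba, hbS⟩)
    rw [herase a ha] at this
    exact (Submodule.mem_bot F).mp this
  obtain ⟨t, htS, ht0⟩ := Submodule.exists_mem_ne_zero_of_ne_bot hSne
  -- the projections are bijective on `TS S`
  have hsurj : ∀ a ∈ S, (TS S).map (h5_proj F A h w a) = ⊤ := by
    intro a ha
    have hinvM : SInv (y a) ((TS S).map (h5_proj F A h w a)) := by
      rintro v ⟨u, hu, rfl⟩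
      refine ⟨osumX w y u, hTSinv S u hu, ?_⟩
      rw [h5_proj_apply, h5_proj_apply, osumX_apply]
    rcases hirr a _ hinvM with hb | ht
    · exfalso
      apply ht0
      apply hinj a ha t htS
      have : h5_proj F A h w a t ∈ (TS S).map (h5_proj F A h w a) :=
        Submodule.mem_map_of_mem htS
      rw [hb, Submodule.mem_bot, h5_proj_apply] at this
      exact this
    · exact ht
  have hSnonempty : S.Nonempty := by
    rw [Finset.nonempty_iff_ne_empty]
    intro hS
    apply ht0
    have htS' := htS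
    rw [hTS, Submodule.mem_inf, h5_mem_supp, hS] at htS'
    apply Prod.ext
    · funext a
      exact htS'.2.2 a (Finset.notMem_empty a)
    · exact htS'.2.1
  obtain ⟨a, ha⟩ := hSnonempty
  -- the equivalences
  have hbij : ∀ b ∈ S, Function.Bijective ((h5_proj F A h w b).domRestrict (TS S)) := by
    intro b hb
    constructor
    · rw [← LinearMap.ker_eq_bot, LinearMap.ker_eq_bot']
      intro u hu
      apply Subtype.ext
      apply hinj b hb u.1 u.2
      have := hu
      rw [LinearMap.domRestrict_apply, h5_proj_apply] at this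
      exact this
    · intro v
      have hv : v ∈ (TS S).map (h5_proj F A h w b) := by rw [hsurj b hb]; exact Submodule.mem_top
      obtain ⟨u, hu, rfl⟩ := hv
      exact ⟨⟨u, hu⟩, rfl⟩
  by_cases hother : ∃ b ∈ S, b ≠ a
  · obtain ⟨b, hb, hba⟩ := hother
    apply hdist a b (Ne.symm hba)
    set ea := LinearEquiv.ofBijective _ (hbij a ha) with hea
    set eb := LinearEquiv.ofBijective _ (hbij b hb) with heb
    refine ⟨ea.symm.trans eb, fun v => ?_⟩
    set c := ea.symm v with hc
    have hcv : ea c = v := by rw [hc, LinearEquiv.apply_symm_apply]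
    have hcmem : osumX w y (c : OSum F A h w) ∈ TS S := hTSinv S c.1 c.2
    have h1 : ea ⟨osumX w y (c : OSum F A h w), hcmem⟩ = y a v := by
      rw [← hcv]
      rfl
    have h2 : ea.symm (y a v) = ⟨osumX w y (c : OSum F A h w), hcmem⟩ := by
      rw [← h1, LinearEquiv.symm_apply_apply]
    rw [LinearEquiv.trans_apply, LinearEquiv.trans_apply, h2]
    rfl
  · push Not at hother
    -- only one block: contradiction with non-degeneracy
    have hta : t.1 a ≠ 0 := fun h0 => ht0 (hinj a ha t htS h0)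
    have hexv : ∃ v, stdB h F (t.1 a) v ≠ 0 := by
      by_contra hno
      push Not at hno
      exact hta ((hy a).nd _ hno)
    obtain ⟨v, hv⟩ := hexv
    have hvm : v ∈ (TS S).map (h5_proj F A h w a) := by rw [hsurj a ha]; exact Submodule.mem_top
    obtain ⟨c, hcS, rfl⟩ := hvm
    have htW : t ∈ W := by
      rw [hTS, Submodule.mem_inf] at htS
      exact htS.1
    have hcW : c ∈ W := by
      have hcS' : c ∈ TS S := hcS
      rw [hTS, Submodule.mem_inf] at hcS'
      exact hcS'.1
    have hz := hWti t htW c hcW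
    have htsupp : t.2 = 0 ∧ ∀ b, b ∉ S → t.1 b = 0 := by
      rw [hTS, Submodule.mem_inf, h5_mem_supp] at htS
      exact htS.2
    rw [osumB_apply] at hz
    have hsum : ∑ b, Cfsg.sympForm h F (t.1 b) (c.1 b) = Cfsg.sympForm h F (t.1 a) (c.1 a) := by
      apply Finset.sum_eq_single a
      · intro b _ hba
        have hbS : b ∉ S := fun hbS => hba (hother b hbS)
        rw [htsupp.2 b hbS, ← stdB_apply, map_zero, LinearMap.zero_apply]
      · intro h; exact absurd (Finset.mem_univ a) h
    rw [hsum, htsupp.1, ← stdB_apply w, map_zero, LinearMap.zero_apply, add_zero,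
      ← stdB_apply] at hz
    exact hv hz

end Cfsg.Agent.Lib.Helper13.S5955
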