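import Mathlib
import Cfsg.Agent.Lib.Helper13.S5955.Defs
import Cfsg.Agent.Lib.Helper5.S5955Alt

set_option autoImplicit false

namespace Cfsg.Agent.Lib.Helper13.S5955

open Polynomial Module

/-- T6 [S-M] TIHALF: a t.i. subspace of a non-degenerate space has at most half the dimension. -/
theorem ti_le_half {F : Type*} [Field F] {V : Type*} [AddCommGroup V] [Module F V]
    [FiniteDimensional F V] (B : LinearMap.BilinForm F V)
    (N T : Submodule F V) (hN : SND B N) (hTN : T ≤ N) (hT : STI B T) :
    2 * finrank F T ≤ finrank F N := by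
  have h1 := h5_finrank_perp B N T hN hTN
  have h2 : T ≤ N ⊓ B.orthogonal T := by
    intro t ht
    rw [Submodule.mem_inf, h5_mem_orth]
    exact ⟨hTN ht, fun u hu => hT u hu t ht⟩
  have h3 := Submodule.finrank_mono h2
  omega

end Cfsg.Agent.Lib.Helper13.S5955
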