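import Mathlib
import Cfsg.Agent.Lib.Helper5.PConstr
import Cfsg.Agent.Lib.Helper1.Fitting

set_option autoImplicit false

namespace Cfsg.Agent.Lib.Helper5

theorem h5_centralizer_pPrimeCore_le {X : Type*} [Group X] [Finite X] {p : ℕ} [Fact p.Prime]
    (hsol : Cfsg.IsPSolvable p X) (hO : Cfsg.pCore p X = ⊥) :
    Subgroup.centralizer (Cfsg.pPrimeCore p X : Set X) ≤ Cfsg.pPrimeCore p X := by
  set Q := Cfsg.pPrimeCore p X with hQ
  set C := Subgroup.centralizer (Q : Set X) with hC
  have hQn : Q.Normal := Cfsg.pPrimeCore_normal p X
  have hQp : (Nat.card Q).Coprime p := Cfsg.Agent.Lib.Helper1.pPrimeCore_card_coprime p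
  have hCn : C.Normal := Subgroup.normal_centralizer
  obtain ⟨n, H, h0, hlast, hmono, hnorm, hfac⟩ := hsol
  have key : ∀ i : Fin (n + 1), C ⊓ H i ≤ Q := by
    intro i
    induction i using Fin.induction with
    | zero => rw [h0, inf_bot_eq]; exact bot_le
    | succ i ih =>
      set E := C ⊓ H i.succ with hE
      set Z₀ := C ⊓ H i.castSucc with hZ₀
      have hHle : H i.castSucc ≤ H i.succ := hmono (Fin.castSucc_lt_succ (i := i)).le
      have hZE : Z₀ ≤ E := inf_le_inf_left C hHle
      have hEn : E.Normal := by
        have := hnorm i.succ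
        exact Subgroup.normal_inf_normal C (H i.succ)
      have hHn : (H i.castSucc).Normal := hnorm i.castSucc
      have hZeq : Z₀ = H i.castSucc ⊓ E := by
        apply le_antisymm
        · exact le_inf inf_le_right hZE
        · exact le_inf (le_trans inf_le_right inf_le_left) inf_le_left
      have hmdvd : Z₀.relIndex E ∣ (H i.castSucc).relIndex (H i.succ) := by
        rw [hZeq, Subgroup.inf_relIndex_right, ← Subgroup.relIndex_sup_right]
        have h1 : H i.castSucc ≤ E ⊔ H i.castSucc := le_sup_right
        have h2 : E ⊔ H i.castSucc ≤ H i.succ := sup_le inf_le_right hHle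
        exact Dvd.intro _ (Subgroup.relIndex_mul_relIndex _ _ _ h1 h2)
      have hZcop : (Nat.card Z₀).Coprime p :=
        Nat.Coprime.coprime_dvd_left (Subgroup.card_dvd_of_le ih) hQp
      have hcardE : Nat.card Z₀ * Z₀.relIndex E = Nat.card E := card_mul_relIndex_of_le hZE
      rcases hfac i with ⟨k, hk⟩ | hcop
      · rw [hk] at hmdvd
        obtain ⟨j, _, hj⟩ := (Nat.dvd_prime_pow (Fact.out : p.Prime)).mp hmdvd
        set Z : Subgroup E := Z₀.subgroupOf E with hZ
        have hZcard : Nat.card Z = Nat.card Z₀ := by
          rw [hZ, card_subgroupOf_of_le hZE]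
        have hZidx : Z.index = Z₀.relIndex E := rfl
        have hZc : ∀ z ∈ Z, ∀ e : E, z * e = e * z := by
          intro z hz e
          apply Subtype.ext
          have h1 : (z : X) ∈ Q := ih hz
          have h2 : (e : X) ∈ C := e.2.1
          rw [hC, Subgroup.mem_centralizer_iff] at h2
          exact h2 _ h1
        have hcop' : (Nat.card Z).Coprime Z.index := by
          rw [hZcard, hZidx, hj]
          exact Nat.Coprime.pow_right j hZcop
        obtain ⟨D, hDchar, hD⟩ := h5_central_hall_complement Z hZc hcop'
        have hDn : (D.map E.subtype).Normal := h5_normal_map_of_characteristic E D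
        have hDcard : Nat.card D = Z.index := by
          have h1 := hD.card_mul_card
          have h2 := Z.card_mul_index
          rw [← h2] at h1
          exact Nat.eq_of_mul_eq_mul_left Nat.card_pos h1
        have hDp : IsPGroup p (D.map E.subtype) := by
          apply IsPGroup.of_card (n := j)
          rw [Subgroup.card_map_of_injective E.subtype_injective, hDcard, hZidx, hj]
        have hDle : D.map E.subtype ≤ Cfsg.pCore p X :=
          Cfsg.Agent.Lib.Helper1.le_pCore hDn hDp
        rw [hO, le_bot_iff, Subgroup.map_eq_bot_iff_of_injective _ E.subtype_injective] at hDle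
        have hZtop : Z = ⊤ := by
          have := hD.sup_eq_top
          rw [hDle, sup_bot_eq] at this
          exact this
        intro e he
        have : (⟨e, he⟩ : E) ∈ Z := by rw [hZtop]; trivial
        exact ih this
      · have hmcop : (Z₀.relIndex E).Coprime p := Nat.Coprime.coprime_dvd_left hmdvd hcop
        have hEcop : (Nat.card E).Coprime p := by
          rw [← hcardE]
          exact Nat.Coprime.mul_left hZcop hmcop
        exact Cfsg.Agent.Lib.Helper1.le_pPrimeCore hEn hEcop
  have := key (Fin.last n)
  rw [hlast, inf_top_eq] at this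
  exact this

end Cfsg.Agent.Lib.Helper5
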