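import Mathlib

set_option autoImplicit false

namespace Cfsg.Agent.Lib.Helper5

variable {G : Type*} [Group G]

theorem h5_mem_frattini_iff (x : G) : x ∈ frattini G ↔ ∀ M : Subgroup G, IsCoatom M → x ∈ M := by
  unfold frattini Order.radical
  simp [Subgroup.mem_iInf]

theorem h5_pgroup_coatom_normal [Finite G] {p : ℕ} [Fact p.Prime] (hG : IsPGroup p G)
    {M : Subgroup G} (hM : IsCoatom M) : M.Normal := by
  have := hG.isNilpotent
  exact Subgroup.NormalizerCondition.normal_of_coatom M Group.normalizerCondition_of_isNilpotent hM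

theorem h5_pgroup_coatom_index [Finite G] {p : ℕ} [Fact p.Prime] (hG : IsPGroup p G)
    {M : Subgroup G} (hM : IsCoatom M) : M.index = p := by
  have hn := h5_pgroup_coatom_normal hG hM
  have hQ : IsPGroup p (G ⧸ M) := hG.to_quotient M
  have hcard : Nat.card (G ⧸ M) ≠ 1 := by
    intro h
    exact hM.1 (Subgroup.index_eq_one.mp h)
  obtain ⟨q, hq⟩ := exists_prime_orderOf_dvd_card' p (hQ.card_eq_or_dvd.resolve_left hcard)
  have hq1 : q ≠ 1 := by
    intro h
    rw [h, orderOf_one] at hq
    exact (Fact.out : p.Prime).one_lt.ne hq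
  have h1 : (Subgroup.zpowers q).comap (QuotientGroup.mk' M) = ⊤ := by
    apply hM.2
    refine lt_of_le_of_ne ?_ ?_
    · intro m hm
      change QuotientGroup.mk' M m ∈ Subgroup.zpowers q
      have : QuotientGroup.mk' M m = 1 := (QuotientGroup.eq_one_iff m).mpr hm
      rw [this]; exact Subgroup.one_mem _
    · intro h
      obtain ⟨x, rfl⟩ := QuotientGroup.mk'_surjective M q
      have hx : x ∈ (Subgroup.zpowers (QuotientGroup.mk' M x)).comap (QuotientGroup.mk' M) :=
        Subgroup.mem_zpowers _
      rw [← h] at hx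
      exact hq1 ((QuotientGroup.eq_one_iff x).mpr hx)
  have h2 : Subgroup.zpowers q = ⊤ := by
    rw [← Subgroup.comap_top (QuotientGroup.mk' M)] at h1
    exact Subgroup.comap_injective (QuotientGroup.mk'_surjective M) h1
  have h3 : Nat.card (Subgroup.zpowers q) = p := by rw [Nat.card_zpowers, hq]
  rw [h2, Subgroup.card_top] at h3
  exact h3

theorem h5_pgroup_pow_mem_frattini [Finite G] {p : ℕ} [Fact p.Prime] (hG : IsPGroup p G) (x : G) :
    x ^ p ∈ frattini G := by
  rw [h5_mem_frattini_iff]
  intro M hM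
  have hn := h5_pgroup_coatom_normal hG hM
  have hidx := h5_pgroup_coatom_index hG hM
  rw [← QuotientGroup.eq_one_iff, QuotientGroup.mk_pow]
  have : Nat.card (G ⧸ M) = p := hidx
  rw [← this]
  exact pow_card_eq_one'

theorem h5_frattini_ne_top_of_nontrivial [Finite G] [Nontrivial G] : frattini G ≠ ⊤ := by
  intro h
  have h1 : (⊥ : Subgroup G) ⊔ frattini G = ⊤ := by rw [h]; simp
  have h2 := frattini_nongenerating h1
  exact bot_ne_top h2

end Cfsg.Agent.Lib.Helper5
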