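import Mathlib
import Cfsg.Agent.Lib.Lead.SPN.Defs
import Cfsg.Agent.Lib.Lead.SPN.Defs2
import Cfsg.Agent.Lib.Lead.STDB1
import Cfsg.Agent.Lib.Helper16.STDH3
import Cfsg.Agent.Lib.Helper24.STCI1

/-!
# Project SPN (designer lead; S2096 + S2097), row T1A `Cov.zz_first`, VERBATIM (helper5).
Extra: `spnt1a_zz_first` (the same statement for any `SysD` over a finite field).
-/

set_option autoImplicit false

namespace Cfsg.Agent.Lib.Lead.SPN

open Cfsg.Agent.Lib.helper15.St2 Cfsg.Agent.Lib.helper3.STC Cfsg.Agent.Lib.Lead.STD Cfsg.Agent.Lib.Helper16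
  Cfsg.Agent.Lib.Helper1.OMP

universe u v w

section T

/-- the spin element does not change under `a ↦ c`, in any `SysD` over a finite field -/
theorem spnt1a_zz_first {K : Type*} [Field K] [Finite K] {ι : Type*} [DecidableEq ι] {G : Type*} [Group G] (S : SysD K ι G)
    {a b c : ι ⊕ ι} (hab : a ≠ b) (hab' : a ≠ ng b) (hac : a ≠ c) (hac' : a ≠ ng c) (hcb : c ≠ b) (hcb' : c ≠ ng b) :
    S.h a b (-1) * S.h a (ng b) (-1) = S.h c b (-1) * S.h c (ng b) (-1) := by
  have h1 : (-1 : K) ≠ 0 := neg_ne_zero.2 one_ne_zero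
  have hab2 : a ≠ ng (ng b) := by rw [ng_ng]; exact hab
  have hcb2 : c ≠ ng (ng b) := by rw [ng_ng]; exact hcb
  rw [S.h_chain hab hab' hac hac' hcb hcb' (-1) h1, S.h_chain hab' hab2 hac hac' hcb' hcb2 (-1) h1]
  have e1 : S.h a c (-1) * S.h a c (-1) = 1 := by
    rw [S.h_mul hac hac' (-1) (-1) h1 h1, neg_mul_neg, one_mul, S.h_one]
  have e2 := S.h_comm hcb hcb' hac hac' (-1) (-1) h1 h1
  calc S.h a c (-1) * S.h c b (-1) * (S.h a c (-1) * S.h c (ng b) (-1))
      = S.h a c (-1) * (S.h c b (-1) * S.h a c (-1)) * S.h c (ng b) (-1) := by group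
    _ = S.h a c (-1) * (S.h a c (-1) * S.h c b (-1)) * S.h c (ng b) (-1) := by rw [e2]
    _ = (S.h a c (-1) * S.h a c (-1)) * S.h c b (-1) * S.h c (ng b) (-1) := by group
    _ = S.h c b (-1) * S.h c (ng b) (-1) := by rw [e1, one_mul]

namespace Cov

variable {l : ℕ} {F : Type u} [Field F] [Fintype F] {G : Type v} [Group G] (C : Cov l F G)

/-- T1a [S-M]  the spin element does not change under `a ↦ c`: `h_chain` (`Helper16.STDH3`) twice, `h_comm`, `h_mul` + `h_one` (`Lead.STDB1`): `h a c (-1) * h a c (-1) = 1`. -/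
theorem zz_first {a b c : Fin l ⊕ Fin l} (hab : a ≠ b) (hab' : a ≠ ng b) (hac : a ≠ c) (hac' : a ≠ ng c) (hcb : c ≠ b) (hcb' : c ≠ ng b) :
    C.S.h a b (-1) * C.S.h a (ng b) (-1) = C.S.h c b (-1) * C.S.h c (ng b) (-1) :=
  spnt1a_zz_first C.S hab hab' hac hac' hcb hcb'

end Cov

end T

end Cfsg.Agent.Lib.Lead.SPN
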