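import Mathlib
import Cfsg.Agent.Lib.Lead.STB.Defs
import Cfsg.Agent.Lib.Lead.STB.Defs4
import Cfsg.Agent.Lib.Helper20.STCR1

/-!
# Project STB (designer lead; S2094 family), row R3b `SysB.Rep.M_form`: the core (helper5).
The STATEMENTS of R0b `TbL_form`, `TbS_form` are hypotheses; the R3 facts are proved here under own names
(`SysB.Rep.stbr3b_M_one`, `stbr3b_M_mul`, `stbr3b_M_x`, `stbr3b_M_xs`).
-/

set_option autoImplicit false

namespace Cfsg.Agent.Lib.Lead.STB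

open Matrix Cfsg.Agent.Lib.helper15.St2 Cfsg.Agent.Lib.helper3.STC Cfsg.Agent.Lib.Lead.STD

universe v w

namespace SysB

namespace Rep

variable {K : Type*} [Field K] {ι : Type*} {G : Type*} [Group G] {S : SysB K ι G} {l : Type*} [Fintype l] [DecidableEq l] (R : S.Rep l)

theorem stbr3b_M_one : R.M 1 = 1 := by
  unfold Rep.M
  rw [map_one]
  rfl

theorem stbr3b_M_mul (g g' : G) : R.M (g * g') = R.M g * R.M g' := by
  unfold Rep.M
  rw [map_mul]
  rfl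

theorem stbr3b_M_x {a b : ι ⊕ ι} (hab : a ≠ b) (hab' : a ≠ ng b) (t : K) : R.M (S.x a b t) = TbL (Em R.e a) (Em R.e b) t :=
  R.hφ a b hab hab' t

theorem stbr3b_M_xs (a : ι ⊕ ι) (t : K) : R.M (S.xs a t) = TbS (Em R.e a) t :=
  R.hφs a t

/-- core of R3b: `hL`, `hS` are the statements of R0b -/
theorem stbr3b_core
    (hL : ∀ {a b : l ⊕ l}, a ≠ b → a ≠ ng b → ∀ t : K, (TbL a b t)ᵀ * JB * TbL a b t = (JB : Matrix (Ix l) (Ix l) K))
    (hS : ∀ (a : l ⊕ l) (t : K), (TbS a t)ᵀ * JB * TbS a t = (JB : Matrix (Ix l) (Ix l) K))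
    {Q : ι ⊕ ι → ι ⊕ ι → Prop} {Qs : ι ⊕ ι → Prop} :
    ∀ z ∈ S.XQ Q Qs, (R.M z)ᵀ * JB * R.M z = (JB : Matrix (Ix l) (Ix l) K) := by
  intro z hz
  unfold SysB.XQ at hz
  induction hz using Subgroup.closure_induction with
  | mem x hx =>
    rcases hx with ⟨a, b, t, hab, hab', -, rfl⟩ | ⟨a, t, -, rfl⟩
    · rw [R.stbr3b_M_x hab hab']
      apply hL
      · exact fun e => hab (Em_injective R.e e)
      · rw [← Em_ng]
        exact fun e => hab' (Em_injective R.e e)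
    · rw [R.stbr3b_M_xs]
      exact hS _ _
  | one =>
    rw [R.stbr3b_M_one, Matrix.transpose_one, Matrix.one_mul, Matrix.mul_one]
  | mul x y _ _ hx hy =>
    rw [R.stbr3b_M_mul, Matrix.transpose_mul]
    calc (R.M y)ᵀ * (R.M x)ᵀ * JB * (R.M x * R.M y)
        = (R.M y)ᵀ * ((R.M x)ᵀ * JB * R.M x) * R.M y := by simp only [Matrix.mul_assoc]
      _ = JB := by rw [hx, hy]
  | inv x _ hx =>
    have h1 : R.M x * R.M x⁻¹ = 1 := by
      rw [← R.stbr3b_M_mul, mul_inv_cancel, R.stbr3b_M_one]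
    calc (R.M x⁻¹)ᵀ * JB * R.M x⁻¹
        = (R.M x⁻¹)ᵀ * ((R.M x)ᵀ * JB * R.M x) * R.M x⁻¹ := by rw [hx]
      _ = (R.M x * R.M x⁻¹)ᵀ * JB * (R.M x * R.M x⁻¹) := by
          rw [Matrix.transpose_mul]; simp only [Matrix.mul_assoc]
      _ = JB := by rw [h1, Matrix.transpose_one, Matrix.one_mul, Matrix.mul_one]

end Rep

end SysB

end Cfsg.Agent.Lib.Lead.STB
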