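import Mathlib
import Cfsg.Agent.Lib.Lead.STB.Defs
import Cfsg.Agent.Lib.Lead.STDB1
import Cfsg.Agent.Lib.Helper24.STCI1

/-!
# Project STB (designer lead; S2094 family), row W3, the core (helper5): `cj_w_xs_a`, `cj_w_xs_nb`, `cj_w_xs_na` from the STATEMENT of
W2 `cj_w_xs_b` (hypothesis `hW2`), by inverse (`w_neg`) and symmetry (`w_sym`).
-/

set_option autoImplicit false

namespace Cfsg.Agent.Lib.Lead.STB

open Cfsg.Agent.Lib.helper15.St2 Cfsg.Agent.Lib.helper3.STC Cfsg.Agent.Lib.Lead.STD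

universe v w

namespace SysB

variable {K : Type*} [Field K] {ι : Type*} {G : Type*} [Group G] (S : SysB K ι G)

theorem stbw3_a_core
    (hW2 : ∀ {a b : ι ⊕ ι}, a ≠ b → a ≠ ng b → ∀ u t : K, u ≠ 0 → cj (S.w a b u) (S.xs b t) = S.xs a (u * t))
    {a b : ι ⊕ ι} (hab : a ≠ b) (hab' : a ≠ ng b) (u t : K) (hu : u ≠ 0) :
    cj (S.w a b u) (S.xs a t) = S.xs b (-(u⁻¹ * t)) := by
  have h1 := hW2 hab hab' (-u) (-(u⁻¹ * t)) (neg_ne_zero.2 hu)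
  have e : -u * -(u⁻¹ * t) = t := by
    field_simp
  rw [e] at h1
  have h2 := cj_inv_of h1
  have e2 : (S.w a b (-u))⁻¹ = S.w a b u := by
    show (S.toSysD.w a b (-u))⁻¹ = S.toSysD.w a b u
    rw [S.toSysD.w_neg, inv_inv]
  rw [e2] at h2
  exact h2

theorem stbw3_nb_core
    (hW2 : ∀ {a b : ι ⊕ ι}, a ≠ b → a ≠ ng b → ∀ u t : K, u ≠ 0 → cj (S.w a b u) (S.xs b t) = S.xs a (u * t))
    {a b : ι ⊕ ι} (hab : a ≠ b) (hab' : a ≠ ng b) (u t : K) (hu : u ≠ 0) :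
    cj (S.w a b u) (S.xs (ng b) t) = S.xs (ng a) (u⁻¹ * t) := by
  have hn : ng b ≠ ng a := fun e => hab (ng_inj.1 e).symm
  have hn' : ng b ≠ ng (ng a) := by
    rw [ng_ng]
    intro e
    exact hab' e.symm
  have e1 : S.w a b u = S.w (ng b) (ng a) (-u) := S.toSysD.w_sym hab hab' u
  rw [e1, S.stbw3_a_core hW2 hn hn' (-u) t (neg_ne_zero.2 hu)]
  congr 1
  rw [inv_neg]
  ring

theorem stbw3_na_core
    (hW2 : ∀ {a b : ι ⊕ ι}, a ≠ b → a ≠ ng b → ∀ u t : K, u ≠ 0 → cj (S.w a b u) (S.xs b t) = S.xs a (u * t))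
    {a b : ι ⊕ ι} (hab : a ≠ b) (hab' : a ≠ ng b) (u t : K) (hu : u ≠ 0) :
    cj (S.w a b u) (S.xs (ng a) t) = S.xs (ng b) (-(u * t)) := by
  have hn : ng b ≠ ng a := fun e => hab (ng_inj.1 e).symm
  have hn' : ng b ≠ ng (ng a) := by
    rw [ng_ng]
    intro e
    exact hab' e.symm
  have e1 : S.w a b u = S.w (ng b) (ng a) (-u) := S.toSysD.w_sym hab hab' u
  rw [e1, hW2 hn hn' (-u) t (neg_ne_zero.2 hu)]
  congr 1
  ring

end SysB

end Cfsg.Agent.Lib.Lead.STB
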