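import Mathlib
import Cfsg.Agent.Lib.Lead.STB.Defs
import Cfsg.Agent.Lib.Lead.STB.Defs3
import Cfsg.Agent.Lib.Helper20.STBH2
import Cfsg.Agent.Lib.Helper9.STBN1c
import Cfsg.Agent.Lib.Helper9.STBN3

/-!
# Project STB (designer lead; S2094 family), row F2b `SysB.NP_h`, `SysB.NP_hs`, VERBATIM (helper5):
H2 (`Helper20.STBH2`), N1d (`Helper9.STBN1c`), N3 (`Helper9.STBN3`).
-/

set_option autoImplicit false

namespace Cfsg.Agent.Lib.Lead.STB

open Cfsg.Agent.Lib.helper15.St2 Cfsg.Agent.Lib.helper3.STC Cfsg.Agent.Lib.Lead.STD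

universe v w

namespace SysB

variable {K : Type*} [Field K] {ι : Type*} [DecidableEq ι] {G : Type*} [Group G] (S : SysB K ι G)

section F
variable (o : ι ⊕ ι)

/-- F2b [S-M]  the generators of `Hg o` are in `NP` (H2 `isMon_h`, `isMon_hs` with `σ = 1`, N3). -/
theorem NP_h [Finite K] {b : ι ⊕ ι} (hb : b ≠ o) (hb' : b ≠ ng o) {t : K} (ht : t ≠ 0) : S.NP o (S.h o b t) :=
  ⟨S.h_mem_Phat o hb hb' ht,
    SysB.IsMon.cj_mem_Yg S o (S.isMon_h (a := o) (b := b) (fun e => hb e.symm)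
      (fun e => hb' (by rw [e, Cfsg.Agent.Lib.helper3.STC.ng_ng])) t ht) (Equiv.Perm.one_apply o)⟩

theorem NP_hs [Finite K] {t : K} (ht : t ≠ 0) : S.NP o (S.hs o t) :=
  ⟨S.hs_mem_Phat o ht, SysB.IsMon.cj_mem_Yg S o (S.isMon_hs o t ht) (Equiv.Perm.one_apply o)⟩

end F

end SysB

end Cfsg.Agent.Lib.Lead.STB
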