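import Mathlib
import Cfsg.Agent.Lib.Lead.STB.Defs
import Cfsg.Agent.Lib.Lead.STB.Defs3
import Cfsg.Agent.Lib.Lead.STDB1
import Cfsg.Agent.Lib.Helper24.STCI1
import Cfsg.Agent.Lib.Helper22.STBN1
import Cfsg.Agent.Lib.Helper25.STBN4
import Cfsg.Agent.Lib.Helper9.STBN1c
import Cfsg.Agent.Lib.Helper5.STBF2b

/-!
# Project STB (designer lead; S2094 family), row F4 `SysB.lemA_long`: the core (helper5).
Port of `helper6.STDF4core.stdf4_core`.  `hN6` is the STATEMENT of N6 `Yj_Pg` at `o`, `j`; N4 (`Helper25.STBN4`), N1 / N1b (`Helper22.STBN1`),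
N1d (`Helper9.STBN1c`), F2b (`Helper5.STBF2b`), STD `lu`, `lu0`, `w_eq_w_one_mul_h` at `S.toSysD` are on main.
-/

set_option autoImplicit false

namespace Cfsg.Agent.Lib.Lead.STB

open Cfsg.Agent.Lib.helper15.St2 Cfsg.Agent.Lib.helper3.STC Cfsg.Agent.Lib.Lead.STD

universe v w

namespace SysB

variable {K : Type*} [Field K] {ι : Type*} [DecidableEq ι] {G : Type*} [Group G] (S : SysB K ι G)

section F
variable (o : ι ⊕ ι)

/-- core of F4 `lemA_long`: `hN6` is the statement of N6 `Yj_Pg` at `o`, `j` -/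
theorem stbf4_core [Finite K] {j : ι ⊕ ι} (hj : j ≠ o) (hj' : j ≠ ng o)
    (hN6 : ∀ y' ∈ S.Yj o j, ∀ s : K, ∃ y₂ ∈ S.Yg o, ∃ p ∈ S.Pg o, S.x o j s * y' = y' * y₂ * p)
    (t : K) {y p : G} (hy : y ∈ S.Yg o)
    (hp : p ∈ S.Phat o) : S.x o j t * (y * p) ∈ S.cell0 o ∨ S.x o j t * (y * p) ∈ S.cell o j := by
  have hoj : o ≠ j := Ne.symm hj
  have hoj' : o ≠ ng j := fun e => hj' (by rw [e, Cfsg.Agent.Lib.helper3.STC.ng_ng])
  obtain ⟨u, y', hy', rfl⟩ := S.Yg_decomp o hj hj' y hy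
  have hy'' : y' ∈ S.Yg o := S.Yj_le_Yg o j hy'
  by_cases hd : 1 + t * u = 0
  · -- degenerate case
    have ht : t ≠ 0 := by
      rintro rfl
      simp at hd
    have hu : u = -t⁻¹ := by
      field_simp
      linear_combination hd
    subst hu
    obtain ⟨y2, hy2, p1, hp1, e⟩ := hN6 y' hy' (-t)
    have hh : S.h o j t⁻¹ ∈ S.Phat o := S.h_mem_Phat o hj hj' (inv_ne_zero ht)
    refine Or.inr ⟨cj (S.h o j t⁻¹) (y' * y2),
      (S.NP_h o hj hj' (inv_ne_zero ht)).2 _ (mul_mem hy'' hy2),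
      S.h o j t⁻¹ * p1 * p, mul_mem (mul_mem hh (S.Pg_le_Phat o hp1)) hp, ?_⟩
    calc S.x o j t * (S.x j o (-t⁻¹) * y' * p)
        = (S.x o j t * S.x j o (-t⁻¹)) * y' * p := by group
      _ = (S.w o j 1 * S.h o j t⁻¹ * S.x o j (-t)) * y' * p := by
          rw [S.toSysD.lu0 hoj hoj', S.toSysD.w_eq_w_one_mul_h hoj hoj' t ht]
      _ = S.w o j 1 * S.h o j t⁻¹ * (S.x o j (-t) * y') * p := by group
      _ = S.w o j 1 * S.h o j t⁻¹ * (y' * y2 * p1) * p := by rw [e]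
      _ = S.w o j 1 * cj (S.h o j t⁻¹) (y' * y2) * (S.h o j t⁻¹ * p1 * p) := by
          unfold cj; group
  · obtain ⟨y2, hy2, p1, hp1, e⟩ := hN6 y' hy' (t / (1 + t * u))
    have hh : S.h o j (1 + t * u) ∈ S.Phat o := S.h_mem_Phat o hj hj' hd
    refine Or.inl ⟨S.x j o (u / (1 + t * u)) * cj (S.h o j (1 + t * u)) (y' * y2),
      mul_mem (S.x_mem_Yg o j _) ((S.NP_h o hj hj' hd).2 _ (mul_mem hy'' hy2)),
      S.h o j (1 + t * u) * p1 * p, mul_mem (mul_mem hh (S.Pg_le_Phat o hp1)) hp, ?_⟩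
    calc S.x o j t * (S.x j o u * y' * p)
        = (S.x o j t * S.x j o u) * y' * p := by group
      _ = (S.x j o (u / (1 + t * u)) * S.h o j (1 + t * u) * S.x o j (t / (1 + t * u))) *
            y' * p := by rw [S.toSysD.lu hoj hoj' t u hd]
      _ = S.x j o (u / (1 + t * u)) * S.h o j (1 + t * u) *
            (S.x o j (t / (1 + t * u)) * y') * p := by group
      _ = S.x j o (u / (1 + t * u)) * S.h o j (1 + t * u) * (y' * y2 * p1) * p := by rw [e]
      _ = S.x j o (u / (1 + t * u)) * cj (S.h o j (1 + t * u)) (y' * y2) *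
            (S.h o j (1 + t * u) * p1 * p) := by
          unfold cj; group

end F

end SysB

end Cfsg.Agent.Lib.Lead.STB
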