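import Mathlib
import Cfsg.Agent.Lib.Lead.STB.Defs
import Cfsg.Agent.Lib.Lead.STB.Defs3
import Cfsg.Agent.Lib.Helper5.STBF4core
import Cfsg.Agent.Lib.Helper25.STBN6

/-!
# Project STB (designer lead; S2094 family), row F4 `SysB.lemA_long`, VERBATIM (helper5): `stbf4_core` on N6 `Yj_Pg` (`Helper25.STBN6`).
-/

set_option autoImplicit false

namespace Cfsg.Agent.Lib.Lead.STB

open Cfsg.Agent.Lib.helper15.St2 Cfsg.Agent.Lib.helper3.STC Cfsg.Agent.Lib.Lead.STD

universe v w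

namespace SysB

variable {K : Type*} [Field K] {ι : Type*} [DecidableEq ι] {G : Type*} [Group G] (S : SysB K ι G)

section F
variable (o : ι ⊕ ι)

/-- F4 [M]  the long root element `x o j t` on the big cell (model STD F4 `lemA_short`, `Helper13.STDF4`): N4 (`y = x j o u * y'`), STD `lu` / `lu0` at `S.toSysD`, `w_eq_w_one_mul_h`, N6, `NP_h`. -/
theorem lemA_long [Finite K] {j : ι ⊕ ι} (hj : j ≠ o) (hj' : j ≠ ng o) (t : K) {y p : G} (hy : y ∈ S.Yg o) (hp : p ∈ S.Phat o) :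
    S.x o j t * (y * p) ∈ S.cell0 o ∨ S.x o j t * (y * p) ∈ S.cell o j :=
  S.stbf4_core o hj hj' (S.Yj_Pg o hj hj') t hy hp

end F

end SysB

end Cfsg.Agent.Lib.Lead.STB
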