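import Mathlib
import Cfsg.Agent.Lib.Lead.STB.Defs
import Cfsg.Agent.Lib.Lead.STB.Defs2
import Cfsg.Agent.Lib.Lead.STB.Defs3
import Cfsg.Agent.Lib.Lead.STB.Defs4
import Cfsg.Agent.Lib.Lead.STB.Sub
import Cfsg.Agent.Lib.Helper1.STBX1
import Cfsg.Agent.Lib.Helper9.STBN1c
import Cfsg.Agent.Lib.helper6.STBW13
import Cfsg.Agent.Lib.Helper20.STBR3
import Cfsg.Agent.Lib.Helper20.STBR5s

/-!
# Project STB (designer lead; S2094 family), row J6 `SysB.Rep.A_fix_eq_one`, VERBATIM (helper5).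
On N1c (`Helper9.STBN1c`: `Ag_eq_Yg_ng`), X1 (`Helper1.STBX1`: `IsMon.cj_mem_XQ`), W13 (`helper6.STBW13`: `isMon_ws`), R3 (`Helper20.STBR3`), R5s (`Helper20.STBR5s`: `M_ws_nfst`).
-/

set_option autoImplicit false
set_option linter.unusedSectionVars false

namespace Cfsg.Agent.Lib.Lead.STB

open Matrix Cfsg.Agent.Lib.helper15.St2 Cfsg.Agent.Lib.helper3.STC Cfsg.Agent.Lib.Lead.STD

universe v w

namespace SysB

namespace Rep

variable {K : Type*} [Field K] {ι : Type*} {G : Type*} [Group G] {S : SysB K ι G} {l : Type*} [Fintype l] [DecidableEq l] (R : S.Rep l)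

variable (o : ι ⊕ ι)

theorem stbj6_ng_ng (a : ι ⊕ ι) : ng (ng a) = a := by cases a <;> rfl

/-- conjugation by `ws o 1` maps `Ag o` into `Yg o` -/
theorem stbj6_cj_mem [DecidableEq ι] : ∀ a ∈ S.Ag o, cj (S.ws o 1) a ∈ S.Yg o := by
  intro a ha
  rw [Ag_eq_Yg_ng] at ha
  have hmon := S.isMon_ws o 1 one_ne_zero
  refine SysB.IsMon.cj_mem_XQ S hmon (Q := fun _ b => b = ng o) (Qs := fun a => a = ng (ng o)) (Q' := fun _ b => b = o)
    (Qs' := fun a => a = ng o) ?_ ?_ a ha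
  · intro k l _ _ hl
    show swb o l = o
    rw [hl]
    exact swb_ng_self o
  · intro k hk
    show swb o k = ng o
    rw [hk, stbj6_ng_ng]
    exact swb_self o

/-- J6 [M]  an element of `Ag o` fixing `e_{-o}` is trivial. -/
theorem A_fix_eq_one [DecidableEq ι] (hYfix : ∀ y ∈ S.Yg o, R.M y *ᵥ evb (Eb R.e o) = evb (Eb R.e o) → y = 1) {a : G} (ha : a ∈ S.Ag o)
    (h : R.M a *ᵥ evb (Eb R.e (ng o)) = evb (Eb R.e (ng o))) : a = 1 := by
  have hw : R.M (S.ws o 1) *ᵥ evb (Eb R.e (ng o)) = (-1 : K) • evb (Eb R.e o) := by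
    have := M_ws_nfst R o 1 one_ne_zero
    rw [this]
    norm_num
  have hw' : R.M (S.ws o 1) *ᵥ ((-1 : K) • evb (Eb R.e (ng o))) = evb (Eb R.e o) := by
    rw [Matrix.mulVec_smul, hw, smul_smul]
    simp
  have hwi : R.M (S.ws o 1)⁻¹ *ᵥ evb (Eb R.e o) = (-1 : K) • evb (Eb R.e (ng o)) := M_inv_mulVec R hw'
  have hfix : R.M (cj (S.ws o 1) a) *ᵥ evb (Eb R.e o) = evb (Eb R.e o) := by
    unfold cj
    rw [M_mul, M_mul, ← Matrix.mulVec_mulVec, ← Matrix.mulVec_mulVec, hwi, Matrix.mulVec_smul, h, hw']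
  have h1 := hYfix _ (stbj6_cj_mem o a ha) hfix
  unfold cj at h1
  have : a = (S.ws o 1)⁻¹ * (S.ws o 1 * a * (S.ws o 1)⁻¹) * S.ws o 1 := by group
  rw [this, h1]
  group

end Rep

end SysB

end Cfsg.Agent.Lib.Lead.STB
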