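import Mathlib
import Cfsg.Agent.Lib.Lead.STB.Defs
import Cfsg.Agent.Lib.Lead.STB.Defs2
import Cfsg.Agent.Lib.Lead.STB.Defs3
import Cfsg.Agent.Lib.Lead.STB.Defs4
import Cfsg.Agent.Lib.Lead.STB.Sub
import Cfsg.Agent.Lib.Helper5.STBN4s
import Cfsg.Agent.Lib.Helper20.STBR0
import Cfsg.Agent.Lib.Helper20.STBR3

/-!
# Project STB (designer lead; S2094 family), row J2b `SysB.Rep.Y_fix_eq_one_one`, VERBATIM (helper5).
On N4s (`Helper5.STBN4s`: `Yg_decomp_s`), R0 (`Helper20.STBR0`: `TbS_mulVec`), R3 (`Helper20.STBR3`: `M_xs`).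
-/

set_option autoImplicit false
set_option linter.unusedSectionVars false

namespace Cfsg.Agent.Lib.Lead.STB

open Matrix Cfsg.Agent.Lib.helper15.St2 Cfsg.Agent.Lib.helper3.STC Cfsg.Agent.Lib.Lead.STD

universe v w

namespace SysB

section A
variable {K : Type*} [Field K] {ι : Type*} {G : Type*} [Group G] (S : SysB K ι G) (o : ι ⊕ ι)

theorem stbj2b_ng_ng (a : ι ⊕ ι) : ng (ng a) = a := by cases a <;> rfl

theorem stbj2b_eq_or (hι : ∀ i : ι, i = ab o) (a b : ι ⊕ ι) : a = b ∨ a = ng b := by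
  have ha := hι (ab a)
  have hb := hι (ab b)
  cases a <;> cases b <;> simp only [ab] at ha hb <;> simp [ng, ha, hb]

/-- rank one: there are no long root elements, `Ys o` is trivial -/
theorem stbj2b_Ys_eq_bot (hι : ∀ i : ι, i = ab o) : S.Ys o = ⊥ := by
  unfold Ys XQ
  rw [Subgroup.closure_eq_bot_iff]
  rintro _ (⟨a, b, t, hab, hab', -, rfl⟩ | ⟨a, t, hF, rfl⟩)
  · rcases stbj2b_eq_or o hι a b with e | e
    · exact absurd e hab
    · exact absurd e hab'
  · exact hF.elim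

end A

namespace Rep

variable {K : Type*} [Field K] {ι : Type*} {G : Type*} [Group G] {S : SysB K ι G} {l : Type*} [Fintype l] [DecidableEq l] (R : S.Rep l)

variable (o : ι ⊕ ι)

/-- J2b [S-M]  rank one: an element of `Yg o` fixing `e_o` is trivial. -/
theorem Y_fix_eq_one_one (hι : ∀ i : ι, i = ab o) {y : G} (hy : y ∈ S.Yg o) (h : R.M y *ᵥ evb (Eb R.e o) = evb (Eb R.e o)) : y = 1 := by
  obtain ⟨u, y', hy', rfl⟩ := S.Yg_decomp_s o y hy
  rw [S.stbj2b_Ys_eq_bot o hι, Subgroup.mem_bot] at hy'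
  subst hy'
  rw [mul_one] at h ⊢
  rw [M_xs, TbS_mulVec] at h
  have h0 := congrFun h i0
  have hEm : Em R.e (ng o) = ng (Em R.e o) := by cases o <;> rfl
  have hnn : ng (ng (Em R.e o)) = Em R.e o := by cases (Em R.e o) <;> rfl
  simp only [hEm, hnn, evb, Eb, Pi.add_apply, Pi.sub_apply, Pi.single_apply] at h0
  simp at h0
  rw [h0]
  exact S.stbn4s_xs_zero _

end Rep

end SysB

end Cfsg.Agent.Lib.Lead.STB
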