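import Mathlib
import Cfsg.Agent.Lib.helper17.STM.Defs
import Cfsg.Agent.Lib.helper17.STM.Defs2
import Cfsg.Agent.Lib.helper7.StC
import Cfsg.Agent.Lib.helper2.STDN4
import Cfsg.Agent.Lib.helper4.STMX1

/-!
# Project STM (designer helper17; S2099 family), row N4 `SysM.Yg_decomp`, VERBATIM (helper5): port of `Helper25.STBN4`.
Model `helper2.STDN4` (left induction on the closure); only the commutation of `x j o` with the GENERATORS of `Yg o` is needed
(`stdn4_Yg_gen_comm` at `S.toSysD`, `comm_ls` for the short generator), so the row does not depend on N4a.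
-/

set_option autoImplicit false

namespace Cfsg.Agent.Lib.helper17.STM

open Cfsg.Agent.Lib.helper15.St2 Cfsg.Agent.Lib.helper3.STC Cfsg.Agent.Lib.Lead.STD

universe v w

namespace SysM

variable {F : Type*} [Field F] {A B : F} [Fact (∀ r : F, r ^ 2 ≠ -B + A * r)] {ι : Type*} [DecidableEq ι] {G : Type*} [Group G] (S : SysM F A B ι G)

section N
variable (o : ι ⊕ ι)

omit [DecidableEq ι] in
/-- N4 [S-M]  decomposition of the abelian group `Yg o` along a root subgroup `x j o`. -/
theorem Yg_decomp {j : ι ⊕ ι} (hj : j ≠ o) (hj' : j ≠ ng o) : ∀ y ∈ S.Yg o, ∃ u : F, ∃ y' ∈ S.Yj o j, y = S.x j o u * y' := by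
  refine Cfsg.Agent.Lib.helper7.St.closure_left_induction'
    (p := fun y => ∃ u : F, ∃ y' ∈ S.Yj o j, y = S.x j o u * y') (S.XQ_gens_inv _ _) ?_ ?_
  · exact ⟨0, 1, one_mem _, by rw [S.toSysD.stdj2_x_zero, one_mul]⟩
  · rintro _ (⟨a, b, t, hab, hab', rfl, rfl⟩ | ⟨a, t, rfl, rfl⟩) g ⟨u, y', hy', rfl⟩
    · by_cases haj : a = j
      · subst haj
        exact ⟨t + u, y', hy', by rw [← mul_assoc, S.add a b hab hab']⟩
      · have hm : S.x a b t ∈ S.Yj b j :=
          Subgroup.subset_closure (Or.inl ⟨a, b, t, hab, hab', ⟨rfl, haj⟩, rfl⟩)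
        refine ⟨u, S.x a b t * y', mul_mem hm hy', ?_⟩
        rw [← mul_assoc, S.toSysD.stdn4_Yg_gen_comm b hab hab' hj hj', mul_assoc]
    · have hm : S.xs (ng o) t ∈ S.Yj o j :=
        Subgroup.subset_closure (Or.inr ⟨ng o, t, rfl, rfl⟩)
      refine ⟨u, S.xs (ng o) t * y', mul_mem hm hy', ?_⟩
      have hjo : j ≠ ng (ng o) := by
        intro e
        apply hj
        rw [e]; cases o <;> rfl
      have hoo : o ≠ ng o := by cases o <;> simp [ng]
      have hc := S.comm_ls (ng o) j o hj hj' hoo hjo t u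
      rw [← mul_assoc, hc, mul_assoc]

end N

end SysM

end Cfsg.Agent.Lib.helper17.STM
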