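import Mathlib
import Cfsg.Agent.Lib.helper17.STM.Defs
import Cfsg.Agent.Lib.helper17.STM.Defs2

/-!
# Project STM (designer helper17; S2099 family), row F17N `SysM.lemBN`, `SysM.lemBN_s`: the cores (helper5).  Port of `Helper5.STBF17Ncore`.
Hypotheses: `hmove` = F8 `IsMon_move` at W13 `isMon_ws o 1` (`fun hab t => S.IsMon_move (S.isMon_ws o 1 one_ne_zero) hab t`), `hmoves` = F8 `IsMon_move_s` at the same,
`hF10` / `hF10s` = the STATEMENTS of F10 `lemA_all` / F10s `lemA_all_s`, `hF16` = the statement of F16 `InD_ws`.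
-/

set_option autoImplicit false

namespace Cfsg.Agent.Lib.helper17.STM

open Cfsg.Agent.Lib.helper15.St2 Cfsg.Agent.Lib.helper3.STC Cfsg.Agent.Lib.Lead.STD

universe v w

namespace SysM

variable {F : Type*} [Field F] {A B : F} [Fact (∀ r : F, r ^ 2 ≠ -B + A * r)] {ι : Type*} [DecidableEq ι] {G : Type*} [Group G] (S : SysM F A B ι G)

section F
variable (o : ι ⊕ ι)

/-- core of F17N `lemBN` -/
theorem stmf17n_core
    (hmove : ∀ {a b : ι ⊕ ι}, a ≠ b → ∀ t : F, ∃ s : F, S.x a b t * S.ws o 1 = S.ws o 1 * S.x ((swb o)⁻¹ a) ((swb o)⁻¹ b) s)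
    (hF10 : ∀ (a b : ι ⊕ ι) (t : F) {y p : G}, y ∈ S.Yg o → p ∈ S.Phat o → S.InD o (S.x a b t * (y * p)))
    (hF16 : ∀ {g : G}, S.InD o g → S.InD o (S.ws o 1 * g))
    (a b : ι ⊕ ι) (t : F) {y p : G} (hy : y ∈ S.Yg o) (hp : p ∈ S.Phat o) :
    S.InD o (S.x a b t * (S.ws o 1 * y * p)) := by
  by_cases hab : a = b
  · subst hab
    rw [S.diag, one_mul]
    exact Or.inr (Or.inr ⟨y, hy, p, hp, rfl⟩)
  · obtain ⟨s, hs⟩ := hmove hab t
    have e : S.x a b t * (S.ws o 1 * y * p) = S.ws o 1 * (S.x ((swb o)⁻¹ a) ((swb o)⁻¹ b) s * (y * p)) := by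
      calc S.x a b t * (S.ws o 1 * y * p) = (S.x a b t * S.ws o 1) * y * p := by group
        _ = (S.ws o 1 * S.x ((swb o)⁻¹ a) ((swb o)⁻¹ b) s) * y * p := by rw [hs]
        _ = S.ws o 1 * (S.x ((swb o)⁻¹ a) ((swb o)⁻¹ b) s * (y * p)) := by group
    rw [e]
    exact hF16 (hF10 _ _ s hy hp)

/-- core of F17N `lemBN_s` -/
theorem stmf17n_s_core
    (hmoves : ∀ (a : ι ⊕ ι) (t : Kq F A B), ∃ s : Kq F A B, S.xs a t * S.ws o 1 = S.ws o 1 * S.xs ((swb o)⁻¹ a) s)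
    (hF10s : ∀ (a : ι ⊕ ι) (t : Kq F A B) {y p : G}, y ∈ S.Yg o → p ∈ S.Phat o → S.InD o (S.xs a t * (y * p)))
    (hF16 : ∀ {g : G}, S.InD o g → S.InD o (S.ws o 1 * g))
    (a : ι ⊕ ι) (t : Kq F A B) {y p : G} (hy : y ∈ S.Yg o) (hp : p ∈ S.Phat o) :
    S.InD o (S.xs a t * (S.ws o 1 * y * p)) := by
  obtain ⟨s, hs⟩ := hmoves a t
  have e : S.xs a t * (S.ws o 1 * y * p) = S.ws o 1 * (S.xs ((swb o)⁻¹ a) s * (y * p)) := by
    calc S.xs a t * (S.ws o 1 * y * p) = (S.xs a t * S.ws o 1) * y * p := by group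
      _ = (S.ws o 1 * S.xs ((swb o)⁻¹ a) s) * y * p := by rw [hs]
      _ = S.ws o 1 * (S.xs ((swb o)⁻¹ a) s * (y * p)) := by group
  rw [e]
  exact hF16 (hF10s _ s hy hp)

end F

end SysM

end Cfsg.Agent.Lib.helper17.STM
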