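import Mathlib
import Cfsg.Agent.Lib.helper17.STM.Defs
import Cfsg.Agent.Lib.helper17.STM.Defs2
import Cfsg.Agent.Lib.Lead.STDB1
import Cfsg.Agent.Lib.Helper24.STCI1
import Cfsg.Agent.Lib.helper4.STMX1
import Cfsg.Agent.Lib.Helper5.STMN4

/-!
# Project STM (designer helper17; S2099 family), row F4 `SysM.lemA_long`: the core (helper5).
Port of `Helper5.STBF4core`.  `hN6` is the STATEMENT of N6 `Yj_Pg` at `o`, `j`; `hNPh` is the second component of F2b `NP_h` at `o`, `j`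
(`h o j t` normalises `Yg o`).  N4 (`Helper5.STMN4`), X1 (`helper4.STMX1`), STD `lu`, `lu0`, `w_eq_w_one_mul_h` at `S.toSysD` are on main;
the membership facts of N1 / N1b / N1d that are used are proved here under own names (`stmf4_*`).
-/

set_option autoImplicit false

namespace Cfsg.Agent.Lib.helper17.STM

open Cfsg.Agent.Lib.helper15.St2 Cfsg.Agent.Lib.helper3.STC Cfsg.Agent.Lib.Lead.STD

universe v w

namespace SysM

variable {F : Type*} [Field F] {A B : F} [Fact (∀ r : F, r ^ 2 ≠ -B + A * r)] {ι : Type*} [DecidableEq ι] {G : Type*} [Group G] (S : SysM F A B ι G)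

section F
variable (o : ι ⊕ ι)

omit [DecidableEq ι] in
/-- own-name copy of N1 `x_mem_Yg` -/
theorem stmf4_x_mem_Yg (a : ι ⊕ ι) (t : F) : S.x a o t ∈ S.Yg o :=
  S.x_mem_XQ (Q := fun _ b => b = o) (Qs := fun a => a = ng o) rfl t

omit [DecidableEq ι] in
/-- own-name copy of N1b `Yj_le_Yg` -/
theorem stmf4_Yj_le_Yg (j : ι ⊕ ι) : S.Yj o j ≤ S.Yg o :=
  S.XQ_mono (fun _ _ _ _ h => h.1) (fun _ h => h)

omit [DecidableEq ι] in
/-- own-name copy of N1b `Pg_le_Phat` -/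
theorem stmf4_Pg_le_Phat : S.Pg o ≤ S.Phat o := le_sup_left

omit [DecidableEq ι] in
/-- own-name copy of N1d `h_mem_Phat` -/
theorem stmf4_h_mem_Phat {b : ι ⊕ ι} (hb : b ≠ o) (hb' : b ≠ ng o) {t : F} (ht : t ≠ 0) : S.h o b t ∈ S.Phat o :=
  Subgroup.mem_sup_right (Subgroup.subset_closure (Or.inl ⟨b, t, hb, hb', ht, rfl⟩))

omit [DecidableEq ι] in
/-- core of F4 `lemA_long`: `hN6` is the statement of N6 `Yj_Pg` at `o`, `j`; `hNPh`: the torus elements `h o j t` normalise `Yg o` (F2b `NP_h`) -/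
theorem stmf4_core [Finite F] {j : ι ⊕ ι} (hj : j ≠ o) (hj' : j ≠ ng o)
    (hN6 : ∀ y' ∈ S.Yj o j, ∀ s : F, ∃ y₂ ∈ S.Yg o, ∃ p ∈ S.Pg o, S.x o j s * y' = y' * y₂ * p)
    (hNPh : ∀ t : F, t ≠ 0 → ∀ y ∈ S.Yg o, cj (S.h o j t) y ∈ S.Yg o)
    (t : F) {y p : G} (hy : y ∈ S.Yg o)
    (hp : p ∈ S.Phat o) : S.x o j t * (y * p) ∈ S.cell0 o ∨ S.x o j t * (y * p) ∈ S.cell o j := by
  have hoj : o ≠ j := Ne.symm hj
  have hoj' : o ≠ ng j := fun e => hj' (by rw [e, Cfsg.Agent.Lib.helper3.STC.ng_ng])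
  obtain ⟨u, y', hy', rfl⟩ := S.Yg_decomp o hj hj' y hy
  have hy'' : y' ∈ S.Yg o := S.stmf4_Yj_le_Yg o j hy'
  by_cases hd : 1 + t * u = 0
  · -- degenerate case
    have ht : t ≠ 0 := by
      rintro rfl
      simp at hd
    have hu : u = -t⁻¹ := by
      field_simp
      linear_combination hd
    subst hu
    obtain ⟨y2, hy2, p1, hp1, e⟩ := hN6 y' hy' (-t)
    have hh : S.h o j t⁻¹ ∈ S.Phat o := S.stmf4_h_mem_Phat o hj hj' (inv_ne_zero ht)
    refine Or.inr ⟨cj (S.h o j t⁻¹) (y' * y2),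
      hNPh _ (inv_ne_zero ht) _ (mul_mem hy'' hy2),
      S.h o j t⁻¹ * p1 * p, mul_mem (mul_mem hh (S.stmf4_Pg_le_Phat o hp1)) hp, ?_⟩
    calc S.x o j t * (S.x j o (-t⁻¹) * y' * p)
        = (S.x o j t * S.x j o (-t⁻¹)) * y' * p := by group
      _ = (S.w o j 1 * S.h o j t⁻¹ * S.x o j (-t)) * y' * p := by
          rw [S.toSysD.lu0 hoj hoj', S.toSysD.w_eq_w_one_mul_h hoj hoj' t ht]
      _ = S.w o j 1 * S.h o j t⁻¹ * (S.x o j (-t) * y') * p := by group
      _ = S.w o j 1 * S.h o j t⁻¹ * (y' * y2 * p1) * p := by rw [e]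
      _ = S.w o j 1 * cj (S.h o j t⁻¹) (y' * y2) * (S.h o j t⁻¹ * p1 * p) := by
          unfold cj; group
  · obtain ⟨y2, hy2, p1, hp1, e⟩ := hN6 y' hy' (t / (1 + t * u))
    have hh : S.h o j (1 + t * u) ∈ S.Phat o := S.stmf4_h_mem_Phat o hj hj' hd
    refine Or.inl ⟨S.x j o (u / (1 + t * u)) * cj (S.h o j (1 + t * u)) (y' * y2),
      mul_mem (S.stmf4_x_mem_Yg o j _) (hNPh _ hd _ (mul_mem hy'' hy2)),
      S.h o j (1 + t * u) * p1 * p, mul_mem (mul_mem hh (S.stmf4_Pg_le_Phat o hp1)) hp, ?_⟩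
    calc S.x o j t * (S.x j o u * y' * p)
        = (S.x o j t * S.x j o u) * y' * p := by group
      _ = (S.x j o (u / (1 + t * u)) * S.h o j (1 + t * u) * S.x o j (t / (1 + t * u))) *
            y' * p := by rw [S.toSysD.lu hoj hoj' t u hd]
      _ = S.x j o (u / (1 + t * u)) * S.h o j (1 + t * u) *
            (S.x o j (t / (1 + t * u)) * y') * p := by group
      _ = S.x j o (u / (1 + t * u)) * S.h o j (1 + t * u) * (y' * y2 * p1) * p := by rw [e]
      _ = S.x j o (u / (1 + t * u)) * cj (S.h o j (1 + t * u)) (y' * y2) *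
            (S.h o j (1 + t * u) * p1 * p) := by
          unfold cj; group

end F

end SysM

end Cfsg.Agent.Lib.helper17.STM
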