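import Mathlib
import Cfsg.Agent.Lib.helper17.STM.Defs
import Cfsg.Agent.Lib.helper17.STM.Defs2
import Cfsg.Agent.Lib.Lead.STDB1
import Cfsg.Agent.Lib.helper2.STDN4
import Cfsg.Agent.Lib.helper7.StC
import Cfsg.Agent.Lib.Helper24.STCI1

/-!
# Project STM (designer helper17; S2099 family), rows N4s `SysM.Yg_decomp_s` and N4T `SysM.YT_decomp`, VERBATIM (helper5); port of `Helper5.STBN4s`.
Neither needs N4a: the commutation facts are proved on the generators (`comm_ls`, `SysD.stdn4_Yg_gen_comm`).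
Extras: `SysM.stmn4s_xs_zero`, `SysM.stmn4s_xs_neg`, `SysM.stmn4s_Ys_comm`, `SysM.stmn4s_gens_inv`.
-/

set_option autoImplicit false

namespace Cfsg.Agent.Lib.helper17.STM

open Cfsg.Agent.Lib.helper15.St2 Cfsg.Agent.Lib.helper3.STC Cfsg.Agent.Lib.Lead.STD

universe v w

namespace SysM

variable {F : Type*} [Field F] {A B : F} [Fact (∀ r : F, r ^ 2 ≠ -B + A * r)] {ι : Type*} [DecidableEq ι] {G : Type*} [Group G] (S : SysM F A B ι G)

omit [DecidableEq ι] in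
theorem stmn4s_xs_zero (a : ι ⊕ ι) : S.xs a 0 = 1 := by
  have h := S.adds a 0 0
  rw [add_zero] at h
  exact mul_eq_left.mp h

omit [DecidableEq ι] in
theorem stmn4s_xs_neg (a : ι ⊕ ι) (t : Kq F A B) : S.xs a (-t) = (S.xs a t)⁻¹ :=
  eq_inv_of_mul_eq_one_left (by rw [S.adds, neg_add_cancel, S.stmn4s_xs_zero])

omit [DecidableEq ι] in
/-- the generators of `XQ Q Qs` are closed under inverses -/
theorem stmn4s_gens_inv (Q : ι ⊕ ι → ι ⊕ ι → Prop) (Qs : ι ⊕ ι → Prop) :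
    ∀ s ∈ ({g | ∃ a b t, a ≠ b ∧ a ≠ ng b ∧ Q a b ∧ g = S.x a b t} ∪ {g | ∃ a t, Qs a ∧ g = S.xs a t} : Set G),
      s⁻¹ ∈ ({g | ∃ a b t, a ≠ b ∧ a ≠ ng b ∧ Q a b ∧ g = S.x a b t} ∪ {g | ∃ a t, Qs a ∧ g = S.xs a t} : Set G) := by
  rintro _ (⟨a, b, t, hab, hab', hQ, rfl⟩ | ⟨a, t, hQ, rfl⟩)
  · exact Or.inl ⟨a, b, -t, hab, hab', hQ, (S.toSysD.stdn4_x_neg a b t).symm⟩
  · exact Or.inr ⟨a, -t, hQ, (S.stmn4s_xs_neg a t).symm⟩

section N
variable (o : ι ⊕ ι)

omit [DecidableEq ι] in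
/-- the long part of `Yg o` commutes with `xs (ng o)` -/
theorem stmn4s_Ys_comm (u : Kq F A B) : ∀ y ∈ S.Ys o, S.xs (ng o) u * y = y * S.xs (ng o) u := by
  intro y hy
  unfold Ys XQ at hy
  induction hy using Subgroup.closure_induction with
  | mem x hx =>
    rcases hx with ⟨a, b, t, hab, hab', rfl, rfl⟩ | ⟨a, t, hf, -⟩
    · exact S.comm_ls (ng b) a b hab hab' (ne_ng b) (by rw [ng_ng]; exact hab) u t
    · exact absurd hf id
  | one => rw [mul_one, one_mul]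
  | mul x y _ _ hx hy => rw [← mul_assoc, hx, mul_assoc, hy, mul_assoc]
  | inv x _ hx =>
    calc S.xs (ng o) u * x⁻¹ = x⁻¹ * (x * S.xs (ng o) u) * x⁻¹ := by group
      _ = x⁻¹ * (S.xs (ng o) u * x) * x⁻¹ := by rw [hx]
      _ = x⁻¹ * S.xs (ng o) u := by group

omit [DecidableEq ι] in
/-- N4s [S-M]  … and along the short root subgroup `xs (ng o)`. -/
theorem Yg_decomp_s : ∀ y ∈ S.Yg o, ∃ u : Kq F A B, ∃ y' ∈ S.Ys o, y = S.xs (ng o) u * y' := by
  refine Cfsg.Agent.Lib.helper7.St.closure_left_induction'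
    (p := fun y => ∃ u : Kq F A B, ∃ y' ∈ S.Ys o, y = S.xs (ng o) u * y') (S.stmn4s_gens_inv _ _) ?_ ?_
  · exact ⟨0, 1, one_mem _, by rw [S.stmn4s_xs_zero, one_mul]⟩
  · rintro _ (⟨a, b, t, hab, hab', rfl, rfl⟩ | ⟨a, t, rfl, rfl⟩) g ⟨u, y', hy', rfl⟩
    · have hm : S.x a b t ∈ S.Ys b := Subgroup.subset_closure (Or.inl ⟨a, b, t, hab, hab', rfl, rfl⟩)
      refine ⟨u, S.x a b t * y', mul_mem hm hy', ?_⟩
      rw [← mul_assoc, ← S.stmn4s_Ys_comm b u _ hm, mul_assoc]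
    · exact ⟨t + u, y', hy', by rw [← mul_assoc, S.adds]⟩

omit [DecidableEq ι] in
/-- N4T [S-M]  … and of `YT o (insert j T)` along `x j o` (if `j = o` or `j = ng o` then `x j o u = 1`: `S.diag`, STD `x_opp'`, and the statement holds with `u = 0`). -/
theorem YT_decomp (T : Set (ι ⊕ ι)) (j : ι ⊕ ι) : ∀ y ∈ S.YT o (insert j T), ∃ u : F, ∃ y' ∈ S.YT o T, y = S.x j o u * y' := by
  refine Cfsg.Agent.Lib.helper7.St.closure_left_induction'
    (p := fun y => ∃ u : F, ∃ y' ∈ S.YT o T, y = S.x j o u * y') (S.stmn4s_gens_inv _ _) ?_ ?_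
  · exact ⟨0, 1, one_mem _, by rw [S.toSysD.x_zero, one_mul]⟩
  · rintro _ (⟨a, b, t, hab, hab', ⟨rfl, haT⟩, rfl⟩ | ⟨a, t, hf, -⟩) g ⟨u, y', hy', rfl⟩
    · by_cases haj : a = j
      · subst haj
        exact ⟨t + u, y', hy', by rw [← mul_assoc, S.add a b hab hab']⟩
      · have haT' : a ∈ T := by
          rcases haT with h | h
          · exact absurd h haj
          · exact h
        have hm : S.x a b t ∈ S.YT b T := Subgroup.subset_closure (Or.inl ⟨a, b, t, hab, hab', ⟨rfl, haT'⟩, rfl⟩)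
        refine ⟨u, S.x a b t * y', mul_mem hm hy', ?_⟩
        by_cases hj : j = b
        · subst hj
          rw [S.diag, one_mul, one_mul]
        by_cases hj' : j = ng b
        · subst hj'
          have e := S.opp (ng b) u
          rw [ng_ng] at e
          rw [e, one_mul, one_mul]
        · rw [← mul_assoc, S.toSysD.stdn4_Yg_gen_comm b hab hab' hj hj', mul_assoc]
    · exact absurd hf id

end N

end SysM

end Cfsg.Agent.Lib.helper17.STM
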