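import Mathlib
import Cfsg.Agent.Lib.helper23.TD4V.Defs
import Cfsg.Agent.Lib.helper8.TD4C4
import Cfsg.Agent.Lib.helper8.ChevTwH1
import Cfsg.Agent.Lib.Lead.SLn

/-!
# TD4V row I1 (helper5): `hJ_phiB` (verbatim from `helper23/TD4V/Skel.lean.txt`), with extras `td4vi1_*`.
-/

set_option autoImplicit false

namespace Cfsg.Agent.Lib.helper23.TD4V

open Cfsg.Lie Cfsg.Lie.ChevalleyDatum Matrix
open Cfsg.Agent.Lib.helper8 Cfsg.Agent.Lib.helper8.TD4
open Cfsg.Agent.Lib.helper23.P4V

universe u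

section I

variable {F K : Type u} [Field F] [Field K] [Fintype F] [Fintype K] (j : F →+* K) (q : ℕ)

/-- `hJ t` moves `X 14 b` to `X 14 ((Nm q t)⁻¹ b)`. -/
theorem td4vi1_hJ_X14 {K : Type u} [Field K] (q : ℕ) (t : K) (ht : t ≠ 0) (b : K) :
    hJ hB q t * X 14 b = X 14 ((Nm q t)⁻¹ * b) * hJ hB q t := by
  obtain ⟨hd, -, h14, -⟩ := hJ_props (E := K) hB q t ht
  have h := (h8chi_spec chevD4 hB (hJ hB q t) hd 14 (by decide)).2 b
  rw [h14] at h
  unfold X Nm
  rw [← h]
  group

/-- `hJ t` moves `X 9 b` to `X 9 (Nm q t * b)`. -/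
theorem td4vi1_hJ_X9 {K : Type u} [Field K] (q : ℕ) (t : K) (ht : t ≠ 0) (b : K) :
    hJ hB q t * X 9 b = X 9 (Nm q t * b) * hJ hB q t := by
  obtain ⟨hd, -, -, h9⟩ := hJ_props (E := K) hB q t ht
  have h := (h8chi_spec chevD4 hB (hJ hB q t) hd 9 (by decide)).2 b
  rw [h9] at h
  unfold X Nm
  rw [← h]
  group

/-- the predicate of the transvection induction, for any `c ≠ 0` with the two conjugation rules -/
theorem td4vi1_aux {K : Type u} [Field K] (k : GG K) (c : K) (hc : c ≠ 0)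
    (h14 : ∀ b : K, k * X 14 b = X 14 (c⁻¹ * b) * k)
    (h9 : ∀ b : K, k * X 9 b = X 9 (c * b) * k)
    (S : Matrix.SpecialLinearGroup (Fin 2) K) :
    ∀ S' : Matrix.SpecialLinearGroup (Fin 2) K,
      (S' : M2 K) = !![1, 0; 0, c] * (S : M2 K) * !![1, 0; 0, c⁻¹] →
      k * phiB S = phiB S' * k := by
  have hdd : (!![1, 0; 0, c⁻¹] : M2 K) * !![1, 0; 0, c] = 1 := by
    ext i j
    fin_cases i <;> fin_cases j <;> simp [Matrix.mul_apply, Fin.sum_univ_two, hc]
  induction S using Cfsg.Agent.Lib.Lead.SL_transvection_induction with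
  | htransvec i j hij t =>
    intro S' hS'
    fin_cases i <;> fin_cases j
    · exact absurd rfl hij
    · -- upper
      have e1 : (Matrix.SpecialLinearGroup.transvection hij t :
          Matrix.SpecialLinearGroup (Fin 2) K) = h8slU t := by
        apply Subtype.ext
        rw [Matrix.SpecialLinearGroup.transvection_coe, h8slU_val]
        ext a b
        fin_cases a <;> fin_cases b <;> simp [Matrix.single_apply]
      have e2 : S' = h8slU (c⁻¹ * t) := by
        apply Subtype.ext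
        rw [hS', e1, h8slU_val, h8slU_val]
        ext a b
        fin_cases a <;> fin_cases b <;>
          simp [Matrix.mul_apply, Fin.sum_univ_two, hc, mul_comm]
      rw [e1, e2, phiB_U, phiB_U]
      exact h14 t
    · -- lower
      have e1 : (Matrix.SpecialLinearGroup.transvection hij t :
          Matrix.SpecialLinearGroup (Fin 2) K) = h8slL t := by
        apply Subtype.ext
        rw [Matrix.SpecialLinearGroup.transvection_coe, h8slL_val]
        ext a b
        fin_cases a <;> fin_cases b <;> simp [Matrix.single_apply]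
      have e2 : S' = h8slL (c * t) := by
        apply Subtype.ext
        rw [hS', e1, h8slL_val, h8slL_val]
        ext a b
        fin_cases a <;> fin_cases b <;>
          simp [Matrix.mul_apply, Fin.sum_univ_two, hc]
      rw [e1, e2, phiB_L, phiB_L]
      exact h9 t
    · exact absurd rfl hij
  | hmul A B hA hB' =>
    intro S' hS'
    have hdetd : (!![1, 0; 0, c] : M2 K).det = c := by simp [Matrix.det_fin_two_of]
    have hdetd' : (!![1, 0; 0, c⁻¹] : M2 K).det = c⁻¹ := by simp [Matrix.det_fin_two_of]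
    have hdet : ∀ T : Matrix.SpecialLinearGroup (Fin 2) K,
        (!![1, 0; 0, c] * (T : M2 K) * !![1, 0; 0, c⁻¹]).det = 1 := by
      intro T
      rw [Matrix.det_mul, Matrix.det_mul, hdetd, hdetd', T.det_coe, mul_one, mul_inv_cancel₀ hc]
    set A' : Matrix.SpecialLinearGroup (Fin 2) K := ⟨_, hdet A⟩ with hA'
    set B' : Matrix.SpecialLinearGroup (Fin 2) K := ⟨_, hdet B⟩ with hB''
    have hS'eq : S' = A' * B' := by
      apply Subtype.ext
      rw [hS', Matrix.SpecialLinearGroup.coe_mul, Matrix.SpecialLinearGroup.coe_mul]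
      show _ = (!![1, 0; 0, c] * (A : M2 K) * !![1, 0; 0, c⁻¹]) *
        (!![1, 0; 0, c] * (B : M2 K) * !![1, 0; 0, c⁻¹])
      calc !![1, 0; 0, c] * ((A : M2 K) * (B : M2 K)) * !![1, 0; 0, c⁻¹]
          = !![1, 0; 0, c] * (A : M2 K) * 1 * (B : M2 K) * !![1, 0; 0, c⁻¹] := by
            simp only [Matrix.mul_one, Matrix.mul_assoc]
        _ = _ := by rw [← hdd]; simp only [Matrix.mul_assoc]
    rw [hS'eq, map_mul, map_mul, ← mul_assoc, hA A' rfl, mul_assoc, hB' B' rfl, mul_assoc]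

/-- `Nm q t ≠ 0` for `t ≠ 0` (no finiteness needed) -/
theorem td4vi1_Nm_ne {K : Type u} [Field K] (q : ℕ) (t : K) (ht : t ≠ 0) : Nm q t ≠ 0 := by
  unfold Nm
  exact mul_ne_zero (mul_ne_zero ht (pow_ne_zero _ ht)) (pow_ne_zero _ ht)

/-- I1 over any field (no finiteness, no `F`, `j`). -/
theorem td4vi1_hJ_phiB {K : Type u} [Field K] (q : ℕ) (t : K) (ht : t ≠ 0)
    (S S' : Matrix.SpecialLinearGroup (Fin 2) K)
    (h : (S' : M2 K) = !![1, 0; 0, Nm q t] * (S : M2 K) * !![1, 0; 0, (Nm q t)⁻¹]) :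
    hJ hB q t * phiB S = phiB S' * hJ hB q t :=
  td4vi1_aux (hJ hB q t) (Nm q t) (td4vi1_Nm_ne q t ht) (td4vi1_hJ_X14 q t ht) (td4vi1_hJ_X9 q t ht)
    S S' h

/-- **I1** [M]. -/
theorem hJ_phiB (t : K) (ht : t ≠ 0) (S S' : Matrix.SpecialLinearGroup (Fin 2) K)
    (h : (S' : M2 K) = !![1, 0; 0, Nm q t] * (S : M2 K) * !![1, 0; 0, (Nm q t)⁻¹]) :
    hJ hB q t * phiB S = phiB S' * hJ hB q t :=
  td4vi1_hJ_phiB q t ht S S' h

end I

end Cfsg.Agent.Lib.helper23.TD4V
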