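import Mathlib
import Cfsg.Agent.Lib.helper23.TD4V.Defs
import Cfsg.Agent.Lib.Helper5.TD4VI1
import Cfsg.Agent.Lib.Helper16.TD4VM3
import Cfsg.Agent.Lib.Helper16.TD4VE3

/-!
# TD4V row I2 (helper5): `iota_mul` (with the extra hypothesis `hs : s ≠ 0`, without which the Skel statement is false),
`iota_one`, `iota_inv` (both verbatim from `helper23/TD4V/Skel.lean.txt`), extras `td4vi2_*`.
-/

set_option autoImplicit false

namespace Cfsg.Agent.Lib.helper23.TD4V

open Cfsg.Lie Cfsg.Lie.ChevalleyDatum Matrix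
open Cfsg.Agent.Lib.helper8 Cfsg.Agent.Lib.helper8.TD4
open Cfsg.Agent.Lib.helper23.P4V

universe u

section I

variable {F K : Type u} [Field F] [Field K] [Fintype F] [Fintype K] (j : F →+* K) (q : ℕ)

theorem td4vi2_det_ne {F : Type u} [Field F] (A : GL (Fin 2) F) : (A : M2 F).det ≠ 0 := by
  have := A.isUnit.map (Matrix.detMonoidHom (n := Fin 2) (R := F))
  exact this.ne_zero

/-- `Nm q` is multiplicative on inverses (any field) -/
theorem td4vi2_Nm_inv {K : Type u} [Field K] (q : ℕ) (t : K) : Nm q t⁻¹ = (Nm q t)⁻¹ := by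
  unfold Nm
  rw [inv_pow, inv_pow, mul_inv, mul_inv]

/-- the product rule of `iota` from the product rule of `hJ` at the pair `(t, s)` -/
theorem td4vi2_mul_core {F K : Type u} [Field F] [Field K] (j : F →+* K) (q : ℕ)
    (A B : GL (Fin 2) F) (t s : K) (ht : t ≠ 0)
    (hmul : hJ hB q (t * s) = hJ hB q t * hJ hB q s)
    (h : j (A : M2 F).det = Nm q t) :
    iota j q (A * B) (t * s) = iota j q A t * iota j q B s := by
  set a : F := (A : M2 F).det with ha
  set b : F := (B : M2 F).det with hb'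
  have ha0 : a ≠ 0 := td4vi2_det_ne A
  have hN0 : Nm q t ≠ 0 := td4vi1_Nm_ne q t ht
  have hdetAB : ((A * B : GL (Fin 2) F) : M2 F).det = a * b := by
    rw [Units.val_mul, Matrix.det_mul]
  -- the conjugate of `map j (sl2of B)`
  set mB : Matrix.SpecialLinearGroup (Fin 2) K := Matrix.SpecialLinearGroup.map j (sl2of B) with hmB
  have hdetd : (!![1, 0; 0, Nm q t] : M2 K).det = Nm q t := by simp [Matrix.det_fin_two_of]
  have hdetd' : (!![1, 0; 0, (Nm q t)⁻¹] : M2 K).det = (Nm q t)⁻¹ := by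
    simp [Matrix.det_fin_two_of]
  have hdet : (!![1, 0; 0, Nm q t] * (mB : M2 K) * !![1, 0; 0, (Nm q t)⁻¹]).det = 1 := by
    rw [Matrix.det_mul, Matrix.det_mul, hdetd, hdetd', mB.det_coe, mul_one, mul_inv_cancel₀ hN0]
  set S' : Matrix.SpecialLinearGroup (Fin 2) K := ⟨_, hdet⟩ with hS'
  have hI1 : hJ hB q t * phiB mB = phiB S' * hJ hB q t := td4vi1_hJ_phiB q t ht mB S' rfl
  have hprodF : ((sl2of (A * B) : Matrix.SpecialLinearGroup (Fin 2) F) : M2 F) =
      ((A : M2 F) * !![1, 0; 0, a⁻¹]) *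
      (!![1, 0; 0, a] * ((B : M2 F) * !![1, 0; 0, b⁻¹]) * !![1, 0; 0, a⁻¹]) := by
    rw [sl2of_val, hdetAB]
    have hdd : (!![1, 0; 0, a⁻¹] : M2 F) * !![1, 0; 0, a] = 1 := by
      ext i j
      fin_cases i <;> fin_cases j <;> simp [Matrix.mul_apply, Fin.sum_univ_two, ha0]
    have hdd2 : (!![1, 0; 0, b⁻¹] : M2 F) * !![1, 0; 0, a⁻¹] = !![1, 0; 0, (a * b)⁻¹] := by
      ext i j
      fin_cases i <;> fin_cases j <;> simp [Matrix.mul_apply, Fin.sum_univ_two, mul_comm]
    calc ((A * B : GL (Fin 2) F) : M2 F) * !![1, 0; 0, (a * b)⁻¹]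
        = (A : M2 F) * 1 * (B : M2 F) * (!![1, 0; 0, b⁻¹] * !![1, 0; 0, a⁻¹]) := by
          rw [hdd2, Units.val_mul, Matrix.mul_one]
      _ = _ := by rw [← hdd]; simp only [Matrix.mul_assoc]
  have hprod : Matrix.SpecialLinearGroup.map j (sl2of (A * B)) =
      Matrix.SpecialLinearGroup.map j (sl2of A) * S' := by
    apply Subtype.ext
    rw [Matrix.SpecialLinearGroup.coe_mul, Matrix.SpecialLinearGroup.map_apply_coe,
      Matrix.SpecialLinearGroup.map_apply_coe, hprodF, sl2of_val]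
    show _ = _ * (!![1, 0; 0, Nm q t] * (mB : M2 K) * !![1, 0; 0, (Nm q t)⁻¹])
    have hmapd : ∀ x : F, j.mapMatrix (!![1, 0; 0, x] : M2 F) = !![1, 0; 0, j x] := by
      intro x
      ext i k
      fin_cases i <;> fin_cases k <;> simp [RingHom.mapMatrix_apply]
    rw [hmB, Matrix.SpecialLinearGroup.map_apply_coe, sl2of_val, ← h]
    simp only [map_mul, hmapd, map_inv₀]
    rfl
  unfold iota
  rw [hprod, map_mul, hmul]
  calc phiB (Matrix.SpecialLinearGroup.map j (sl2of A)) * phiB S' * (hJ hB q t * hJ hB q s)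
      = phiB (Matrix.SpecialLinearGroup.map j (sl2of A)) * (phiB S' * hJ hB q t) * hJ hB q s := by
        simp only [mul_assoc]
    _ = phiB (Matrix.SpecialLinearGroup.map j (sl2of A)) * (hJ hB q t * phiB mB) * hJ hB q s := by
        rw [hI1]
    _ = phiB (Matrix.SpecialLinearGroup.map j (sl2of A)) * hJ hB q t * (phiB mB * hJ hB q s) := by
        simp only [mul_assoc]

/-- **I2** (`iota_mul`, with the hypothesis `hs : s ≠ 0` added: the Skel text without it is false at `s = 0`). -/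
theorem iota_mul (A B : GL (Fin 2) F) (t s : K) (ht : t ≠ 0) (hs : s ≠ 0)
    (h : j (A : M2 F).det = Nm q t) :
    iota j q (A * B) (t * s) = iota j q A t * iota j q B s :=
  td4vi2_mul_core j q A B t s ht (hJ_mul q t s ht hs) h

theorem iota_one : iota j q (1 : GL (Fin 2) F) 1 = 1 := by
  have h1 : sl2of (1 : GL (Fin 2) F) = 1 := by
    apply Subtype.ext
    rw [sl2of_val]
    ext i k
    fin_cases i <;> fin_cases k <;> simp
  unfold iota
  rw [h1, map_one, map_one, one_mul]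
  exact td4ve3_hJ_one q

theorem iota_inv (A : GL (Fin 2) F) (t : K) (ht : t ≠ 0) (h : j (A : M2 F).det = Nm q t) :
    iota j q A⁻¹ t⁻¹ = (iota j q A t)⁻¹ := by
  have hdet : j ((A⁻¹ : GL (Fin 2) F) : M2 F).det = Nm q t⁻¹ := by
    rw [td4vi2_Nm_inv, ← h, ← map_inv₀]
    congr 1
    have h1 : ((A⁻¹ : GL (Fin 2) F) : M2 F).det * (A : M2 F).det = 1 := by
      rw [← Matrix.det_mul, ← Units.val_mul, inv_mul_cancel, Units.val_one, Matrix.det_one]
    exact eq_inv_of_mul_eq_one_left h1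
  have h2 : iota j q A⁻¹ t⁻¹ * iota j q A t = 1 := by
    rw [← iota_mul j q A⁻¹ A t⁻¹ t (inv_ne_zero ht) ht hdet, inv_mul_cancel, inv_mul_cancel₀ ht,
      iota_one]
  exact eq_inv_of_mul_eq_one_left h2

end I

end Cfsg.Agent.Lib.helper23.TD4V
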