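import Mathlib
import Cfsg.Agent.Lib.helper23.TD4V.Defs
import Cfsg.Agent.Lib.Helper5.TD4VI1

/-!
# TD4V row I5 (helper5): `x0_eq_iota` (verbatim from `helper23/TD4V/Skel.lean.txt`).
-/

set_option autoImplicit false

namespace Cfsg.Agent.Lib.helper23.TD4V

open Cfsg.Lie Cfsg.Lie.ChevalleyDatum Matrix
open Cfsg.Agent.Lib.helper8 Cfsg.Agent.Lib.helper8.TD4
open Cfsg.Agent.Lib.helper23.P4V

universe u

section I

variable {F K : Type u} [Field F] [Field K] [Fintype F] [Fintype K] (j : F →+* K) (q : ℕ)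

/-- `x0 = hJ t * phiB (W⁻¹ U(τ))` -/
theorem td4vi5_x0 {K : Type u} [Field K] (q : ℕ) (t τ : K) :
    x0 hB q t τ = hJ hB q t * phiB ((h8slW : Matrix.SpecialLinearGroup (Fin 2) K)⁻¹ * h8slU τ) := by
  rw [map_mul, map_inv, phiB_W, phiB_U]
  unfold x0 nb X
  rw [mul_assoc]

/-- I5 over arbitrary fields -/
theorem td4vi5_core {F K : Type u} [Field F] [Field K] (j : F →+* K) (q : ℕ)
    (t τ : K) (ht : t ≠ 0) (c θ : F) (hc : j c = Nm q t) (hθ : j θ = τ)
    (A0 : GL (Fin 2) F) (hA0 : (A0 : M2 F) = !![0, -1; c, c * θ]) :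
    x0 hB q t τ = iota j q A0 t := by
  have hN0 : Nm q t ≠ 0 := td4vi1_Nm_ne q t ht
  have hc0 : c ≠ 0 := by
    intro h0
    rw [h0, map_zero] at hc
    exact hN0 hc.symm
  have hdetA : (A0 : M2 F).det = c := by
    rw [hA0]
    simp [Matrix.det_fin_two_of]
  have hS : ((Matrix.SpecialLinearGroup.map j (sl2of A0) : Matrix.SpecialLinearGroup (Fin 2) K) :
      M2 K) = !![1, 0; 0, Nm q t] *
        (((h8slW : Matrix.SpecialLinearGroup (Fin 2) K)⁻¹ * h8slU τ :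
          Matrix.SpecialLinearGroup (Fin 2) K) : M2 K) * !![1, 0; 0, (Nm q t)⁻¹] := by
    rw [Matrix.SpecialLinearGroup.map_apply_coe, sl2of_val, hdetA, hA0,
      Matrix.SpecialLinearGroup.coe_mul, Matrix.SpecialLinearGroup.coe_inv, h8slW_val, h8slU_val,
      Matrix.adjugate_fin_two_of, ← hc, ← hθ]
    ext a b
    fin_cases a <;> fin_cases b <;>
      simp [Matrix.mul_apply, Fin.sum_univ_two, RingHom.mapMatrix_apply, hc0]
  rw [td4vi5_x0, td4vi1_hJ_phiB q t ht _ _ hS]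
  rfl

/-- **I5** [M]. -/
theorem x0_eq_iota (t τ : K) (ht : t ≠ 0) (c θ : F) (hc : j c = Nm q t) (hθ : j θ = τ)
    (A0 : GL (Fin 2) F) (hA0 : (A0 : M2 F) = !![0, -1; c, c * θ]) :
    x0 hB q t τ = iota j q A0 t :=
  td4vi5_core j q t τ ht c θ hc hθ A0 hA0

end I

end Cfsg.Agent.Lib.helper23.TD4V
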