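import Mathlib
import Cfsg.Agent.Lib.helper23.TD4V.Defs

/-!
# Project TD4V (S2462), rows N2 (`pow_q3`, `pow_q_q2`, `j_pow`) and N4 (`Nm_mul`, `Nm_one`, `Nm_ne_zero`, `Nm_pow`,
`Tr3_pow`), verbatim.
-/

set_option autoImplicit false

namespace Cfsg.Agent.Lib.helper23.TD4V

open Cfsg.Lie Cfsg.Lie.ChevalleyDatum Matrix
open Cfsg.Agent.Lib.helper8 Cfsg.Agent.Lib.helper8.TD4
open Cfsg.Agent.Lib.helper23.P4V

universe u v

section N

variable {F K : Type u} [Field F] [Field K] [Fintype F] [Fintype K] (j : F →+* K) (q : ℕ)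

/-- the `q`-th power map is additive on a finite field with `q ^ 3` elements -/
theorem td4vn2_frob_add (hK : Fintype.card K = q ^ 3) (x y : K) :
    (x + y) ^ q = x ^ q + y ^ q := by
  obtain ⟨p, hp, n, hpp, hn⟩ := FiniteField.card' K
  have : Fact p.Prime := ⟨hpp⟩
  have hdvd : q ∣ p ^ (n : ℕ) := by
    rw [← hn, hK]
    exact dvd_pow_self q (by norm_num)
  obtain ⟨k, _, rfl⟩ := (Nat.dvd_prime_pow hpp).1 hdvd
  exact add_pow_char_pow x y p k

/-- **N2**, part 1. -/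
theorem pow_q3 (hK : Fintype.card K = q ^ 3) (x : K) : x ^ (q ^ 3) = x := by
  rw [← hK, FiniteField.pow_card]

/-- **N2**, part 2. -/
theorem pow_q_q2 (hK : Fintype.card K = q ^ 3) (x : K) : (x ^ (q ^ 2)) ^ q = x := by
  rw [← pow_mul]
  have h : q ^ 2 * q = q ^ 3 := by ring
  rw [h, pow_q3 q hK]

/-- **N2**, part 3. -/
theorem j_pow (hF : Fintype.card F = q) (a : F) : j a ^ q = j a := by
  rw [← map_pow]
  congr 1
  rw [← hF, FiniteField.pow_card]

/-- **N4**, part 1. -/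
theorem Nm_mul (s t : K) : Nm q (s * t) = Nm q s * Nm q t := by
  unfold Nm
  rw [mul_pow, mul_pow]
  ring

/-- **N4**, part 2. -/
theorem Nm_one : Nm q (1 : K) = 1 := by
  unfold Nm
  rw [one_pow, one_pow, one_mul, one_mul]

/-- **N4**, part 3. -/
theorem Nm_ne_zero (t : K) (ht : t ≠ 0) : Nm q t ≠ 0 := by
  unfold Nm
  exact mul_ne_zero (mul_ne_zero ht (pow_ne_zero _ ht)) (pow_ne_zero _ ht)

/-- **N4**, part 4. -/
theorem Nm_pow (hK : Fintype.card K = q ^ 3) (t : K) : Nm q t ^ q = Nm q t := by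
  unfold Nm
  rw [mul_pow, mul_pow, pow_q_q2 q hK, ← pow_mul, ← pow_two]
  ring

/-- **N4**, part 5. -/
theorem Tr3_pow (hq : IsPrimePow q) (hK : Fintype.card K = q ^ 3) (t : K) : Tr3 q t ^ q = Tr3 q t := by
  unfold Tr3
  rw [td4vn2_frob_add q hK, td4vn2_frob_add q hK, pow_q_q2 q hK, ← pow_mul, ← pow_two]
  ring

/-- `Tr3` is additive -/
theorem td4vn2_Tr3_add (hK : Fintype.card K = q ^ 3) (x y : K) :
    Tr3 q (x + y) = Tr3 q x + Tr3 q y := by
  unfold Tr3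
  have h2 : ∀ z : K, z ^ (q ^ 2) = (z ^ q) ^ q := by
    intro z
    rw [← pow_mul, pow_two]
  rw [h2 (x + y), td4vn2_frob_add q hK, td4vn2_frob_add q hK, h2 x, h2 y]
  ring

/-- `Tr3` is `F`-linear -/
theorem td4vn2_Tr3_smul (hF : Fintype.card F = q) (a : F) (x : K) :
    Tr3 q (j a * x) = j a * Tr3 q x := by
  unfold Tr3
  have h2 : (j a) ^ (q ^ 2) = j a := by
    rw [pow_two, pow_mul, j_pow j q hF, j_pow j q hF]
  rw [mul_pow, mul_pow, j_pow j q hF, h2]
  ring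

theorem td4vn2_Tr3_zero : Tr3 q (0 : K) = 0 ∨ q = 0 := by
  by_cases hq : q = 0
  · exact Or.inr hq
  · left
    unfold Tr3
    rw [zero_pow hq, zero_pow (pow_ne_zero 2 hq), add_zero, add_zero]

theorem td4vn2_Tr3_sub (hK : Fintype.card K = q ^ 3) (x y : K) :
    Tr3 q (x - y) = Tr3 q x - Tr3 q y := by
  have h := td4vn2_Tr3_add q hK (x - y) y
  rw [sub_add_cancel] at h
  rw [h, add_sub_cancel_right]

end N

end Cfsg.Agent.Lib.helper23.TD4V
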