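import Mathlib
import Cfsg.Agent.Lib.helper23.TD4V.Defs
import Cfsg.Agent.Lib.Helper5.TD4VN2

/-!
# Project TD4V (S2462), row N3 (`exists_pre`), verbatim.
-/

set_option autoImplicit false

namespace Cfsg.Agent.Lib.helper23.TD4V

open Cfsg.Lie Cfsg.Lie.ChevalleyDatum Matrix
open Cfsg.Agent.Lib.helper8 Cfsg.Agent.Lib.helper8.TD4
open Cfsg.Agent.Lib.helper23.P4V

universe u v

section N

variable {F K : Type u} [Field F] [Field K] [Fintype F] [Fintype K] (j : F →+* K) (q : ℕ)

/-- the roots of `X ^ q - X` in any field extension of `F` (`|F| = q ≥ 2`) are the images of the elements of `F` -/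
theorem td4vn3_pre {F' : Type u} {K' : Type v} [Field F'] [Fintype F'] [Field K'] (j' : F' →+* K') (q : ℕ)
    (hq : 2 ≤ q) (hF : Fintype.card F' = q) (x : K') (hx : x ^ q = x) : ∃ a : F', j' a = x := by
  classical
  have hq1 : 1 < q := hq
  have hP0 : (Polynomial.X ^ q - Polynomial.X : Polynomial K') ≠ 0 :=
    FiniteField.X_pow_card_sub_X_ne_zero K' hq1
  have hroot : ∀ y : K', y ^ q = y →
      y ∈ (Polynomial.X ^ q - Polynomial.X : Polynomial K').roots.toFinset := by
    intro y hy
    rw [Multiset.mem_toFinset, Polynomial.mem_roots hP0, Polynomial.IsRoot.def]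
    simp only [Polynomial.eval_sub, Polynomial.eval_pow, Polynomial.eval_X]
    rw [hy, sub_self]
  have hsub : Finset.univ.image j' ⊆
      (Polynomial.X ^ q - Polynomial.X : Polynomial K').roots.toFinset := by
    intro y hy
    obtain ⟨k, _, rfl⟩ := Finset.mem_image.mp hy
    apply hroot
    rw [← map_pow, ← hF, FiniteField.pow_card]
  have hcard : (Polynomial.X ^ q - Polynomial.X : Polynomial K').roots.toFinset.card ≤
      (Finset.univ.image j').card := by
    rw [Finset.card_image_of_injective _ j'.injective, Finset.card_univ, hF]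
    calc (Polynomial.X ^ q - Polynomial.X : Polynomial K').roots.toFinset.card
        ≤ Multiset.card (Polynomial.X ^ q - Polynomial.X : Polynomial K').roots :=
          Multiset.toFinset_card_le _
      _ ≤ (Polynomial.X ^ q - Polynomial.X : Polynomial K').natDegree :=
          Polynomial.card_roots' _
      _ = q := FiniteField.X_pow_card_sub_X_natDegree_eq K' hq1
  have heq := Finset.eq_of_subset_of_card_le hsub hcard
  have hxr := hroot x hx
  rw [← heq] at hxr
  obtain ⟨k, _, hk⟩ := Finset.mem_image.mp hxr
  exact ⟨k, hk⟩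

/-- **N3**. -/
theorem exists_pre (hq : IsPrimePow q) (hF : Fintype.card F = q) (c : K) (hc : c ^ q = c) :
    ∃ a : F, j a = c :=
  td4vn3_pre j q hq.two_le hF c hc

end N

end Cfsg.Agent.Lib.helper23.TD4V
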