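import Mathlib
import Cfsg.Agent.Lib.helper23.TD4V.Defs
import Cfsg.Agent.Lib.Helper5.TD4VN2
import Cfsg.Agent.Lib.Helper5.TD4VN3

/-!
# Project TD4V (S2462), row N5 (`Nm_surj`), verbatim.
-/

set_option autoImplicit false

namespace Cfsg.Agent.Lib.helper23.TD4V

open Cfsg.Lie Cfsg.Lie.ChevalleyDatum Matrix
open Cfsg.Agent.Lib.helper8 Cfsg.Agent.Lib.helper8.TD4
open Cfsg.Agent.Lib.helper23.P4V

universe u v

section N

variable {F K : Type u} [Field F] [Field K] [Fintype F] [Fintype K] (j : F →+* K) (q : ℕ)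

/-- `Nm q s = s ^ (q ^ 2 + q + 1)` -/
theorem td4vn5_Nm_eq (s : K) : Nm q s = s ^ (q ^ 2 + q + 1) := by
  unfold Nm
  rw [pow_add, pow_add, pow_one]
  ring

/-- **N5**. -/
theorem Nm_surj (hq : IsPrimePow q) (hF : Fintype.card F = q) (hK : Fintype.card K = q ^ 3) (c : F)
    (hc : c ≠ 0) : ∃ s : K, s ≠ 0 ∧ Nm q s = j c := by
  classical
  have hq2 : 2 ≤ q := hq.two_le
  set N : ℕ := q ^ 2 + q + 1 with hN
  have hNpos : 0 < N := by omega
  haveI : NeZero N := ⟨by omega⟩
  -- the two homomorphisms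
  let φ : Kˣ →* Kˣ := powMonoidHom N
  let ψ : Fˣ →* Kˣ := Units.map (j : F →* K)
  have hψinj : Function.Injective ψ := by
    intro a b hab
    apply Units.ext
    apply j.injective
    have := congrArg Units.val hab
    exact this
  -- range φ ≤ range ψ
  have hle : φ.range ≤ ψ.range := by
    rintro y ⟨s, rfl⟩
    have hy : ((φ s : Kˣ) : K) ^ q = ((φ s : Kˣ) : K) := by
      show ((s ^ N : Kˣ) : K) ^ q = ((s ^ N : Kˣ) : K)
      rw [Units.val_pow_eq_pow_val, ← td4vn5_Nm_eq, Nm_pow q hK]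
    obtain ⟨a, ha⟩ := exists_pre j q hq hF _ hy
    have ha0 : a ≠ 0 := by
      rintro rfl
      rw [map_zero] at ha
      exact (φ s).ne_zero ha.symm
    refine ⟨Units.mk0 a ha0, ?_⟩
    apply Units.ext
    exact ha
  -- cardinalities
  have hcK : Nat.card Kˣ = q ^ 3 - 1 := by
    rw [Nat.card_units, Nat.card_eq_fintype_card, hK]
  have hcF : Nat.card Fˣ = q - 1 := by
    rw [Nat.card_units, Nat.card_eq_fintype_card, hF]
  have hker : φ.ker = rootsOfUnity N K := by
    ext s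
    rw [MonoidHom.mem_ker, mem_rootsOfUnity]
    rfl
  have hkc : Nat.card φ.ker ≤ N := by
    rw [hker]
    exact card_rootsOfUnity K N
  have hmul : Nat.card φ.ker * Nat.card φ.range = q ^ 3 - 1 := by
    rw [← Subgroup.index_ker, Subgroup.card_mul_index, hcK]
  have hfac : q ^ 3 - 1 = N * (q - 1) := by
    obtain ⟨r, rfl⟩ : ∃ r, q = r + 2 := ⟨q - 2, by omega⟩
    rw [hN]
    have : (r + 2) ^ 3 - 1 = ((r + 2) ^ 2 + (r + 2) + 1) * (r + 2 - 1) := by
      have h1 : r + 2 - 1 = r + 1 := by omega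
      rw [h1]
      have h2 : (r + 2) ^ 3 = ((r + 2) ^ 2 + (r + 2) + 1) * (r + 1) + 1 := by ring
      rw [h2]
      omega
    exact this
  have hrange : q - 1 ≤ Nat.card φ.range := by
    by_contra hlt
    rw [not_le] at hlt
    have h1 : Nat.card φ.ker * Nat.card φ.range ≤ N * Nat.card φ.range := Nat.mul_le_mul_right _ hkc
    have h2 : N * Nat.card φ.range < N * (q - 1) := Nat.mul_lt_mul_of_pos_left hlt hNpos
    omega
  have hcψ : Nat.card ψ.range = q - 1 := by
    rw [← hcF]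
    exact (Nat.card_congr (MonoidHom.ofInjective hψinj).toEquiv).symm
  have heq : φ.range = ψ.range := by
    apply Subgroup.eq_of_le_of_card_ge hle
    rw [hcψ]
    exact hrange
  have hmem : ψ (Units.mk0 c hc) ∈ φ.range := by
    rw [heq]
    exact ⟨_, rfl⟩
  obtain ⟨s, hs⟩ := hmem
  refine ⟨(s : K), s.ne_zero, ?_⟩
  rw [td4vn5_Nm_eq]
  have := congrArg Units.val hs
  rw [← Units.val_pow_eq_pow_val]
  exact this

end N

end Cfsg.Agent.Lib.helper23.TD4V
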