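import Mathlib
import Cfsg.Agent.Lib.helper23.TD4V.Defs
import Cfsg.Agent.Lib.Helper9.TD4VQ1
import Cfsg.Agent.Lib.Helper9.TD4VI4
import Cfsg.Agent.Lib.helper23.TD4VQ2

/-!
# TD4V row Q3 (helper5): `iota_norm_Q`, `iota_norm_Q'`, `iota_norm_Qm`, `iota_norm_Qm'`
(verbatim from `helper23/TD4V/Skel.lean.txt`), with the general forms `td4vq3_*` for any `l ∈ G ⊓ LK`.
-/

set_option autoImplicit false

namespace Cfsg.Agent.Lib.helper23.TD4V

open Cfsg.Lie Cfsg.Lie.ChevalleyDatum Matrix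
open Cfsg.Agent.Lib.helper8 Cfsg.Agent.Lib.helper8.TD4
open Cfsg.Agent.Lib.helper23.P4V

universe u

section QQ

variable {F K : Type u} [Field F] [Field K] [Fintype F] [Fintype K] (j : F →+* K) (q : ℕ)

/-- any `l ∈ G ⊓ LK` normalises `Q` -/
theorem td4vq3_Q {K : Type u} [Field K] (q : ℕ) (l : GG K) (hl : l ∈ twistedD4 K q) (hl' : l ∈ LK K)
    (u : GG K) (hu : u ∈ Q K q) : l * u * l⁻¹ ∈ Q K q := by
  have hP : l ∈ PK K := td4vq1_LK_le_PK hl'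
  have h1 := (Cfsg.Agent.S1048.result (F := K) chevD4 (by simp) ({1} : Set ℕ)).1 hP
  rw [Subgroup.mem_normalizer_iff] at h1
  exact ⟨(h1 u).mp hu.1, Subgroup.mul_mem _ (Subgroup.mul_mem _ hl hu.2) (Subgroup.inv_mem _ hl)⟩

/-- any `l ∈ G ⊓ LK` normalises `Q`, other side -/
theorem td4vq3_Q' {K : Type u} [Field K] (q : ℕ) (l : GG K) (hl : l ∈ twistedD4 K q) (hl' : l ∈ LK K)
    (u : GG K) (hu : u ∈ Q K q) : l⁻¹ * u * l ∈ Q K q := by
  have h := td4vq3_Q q l⁻¹ (Subgroup.inv_mem _ hl) (Subgroup.inv_mem _ hl') u hu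
  rwa [inv_inv] at h

/-- any `l ∈ G ⊓ LK` normalises `Qm` -/
theorem td4vq3_Qm {K : Type u} [Field K] (q : ℕ) (l : GG K) (hl : l ∈ twistedD4 K q) (hl' : l ∈ LK K)
    (v : GG K) (hv : v ∈ Qm K q) : l * v * l⁻¹ ∈ Qm K q :=
  ⟨td4vq2_norm l hl' v hv.1, Subgroup.mul_mem _ (Subgroup.mul_mem _ hl hv.2) (Subgroup.inv_mem _ hl)⟩

/-- any `l ∈ G ⊓ LK` normalises `Qm`, other side -/
theorem td4vq3_Qm' {K : Type u} [Field K] (q : ℕ) (l : GG K) (hl : l ∈ twistedD4 K q) (hl' : l ∈ LK K)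
    (v : GG K) (hv : v ∈ Qm K q) : l⁻¹ * v * l ∈ Qm K q := by
  have h := td4vq3_Qm q l⁻¹ (Subgroup.inv_mem _ hl) (Subgroup.inv_mem _ hl') v hv
  rwa [inv_inv] at h

/-- **Q3** [S] (all four; Q1 with `LK ≤ PK` (S1048 part 2), Q2, I4, and `G` is a group). -/
theorem iota_norm_Q (hq : IsPrimePow q) (hF : Fintype.card F = q) (hK : Fintype.card K = q ^ 3)
    (A : GL (Fin 2) F) (t : K) (ht : t ≠ 0) (u : GG K) (hu : u ∈ Q K q) :
    iota j q A t * u * (iota j q A t)⁻¹ ∈ Q K q :=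
  td4vq3_Q q _ (iota_mem j q hq hF hK A t ht).1 (iota_mem j q hq hF hK A t ht).2 u hu

theorem iota_norm_Q' (hq : IsPrimePow q) (hF : Fintype.card F = q) (hK : Fintype.card K = q ^ 3)
    (A : GL (Fin 2) F) (t : K) (ht : t ≠ 0) (u : GG K) (hu : u ∈ Q K q) :
    (iota j q A t)⁻¹ * u * iota j q A t ∈ Q K q :=
  td4vq3_Q' q _ (iota_mem j q hq hF hK A t ht).1 (iota_mem j q hq hF hK A t ht).2 u hu

theorem iota_norm_Qm (hq : IsPrimePow q) (hF : Fintype.card F = q) (hK : Fintype.card K = q ^ 3)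
    (A : GL (Fin 2) F) (t : K) (ht : t ≠ 0) (v : GG K) (hv : v ∈ Qm K q) :
    iota j q A t * v * (iota j q A t)⁻¹ ∈ Qm K q :=
  td4vq3_Qm q _ (iota_mem j q hq hF hK A t ht).1 (iota_mem j q hq hF hK A t ht).2 v hv

theorem iota_norm_Qm' (hq : IsPrimePow q) (hF : Fintype.card F = q) (hK : Fintype.card K = q ^ 3)
    (A : GL (Fin 2) F) (t : K) (ht : t ≠ 0) (v : GG K) (hv : v ∈ Qm K q) :
    (iota j q A t)⁻¹ * v * iota j q A t ∈ Qm K q :=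
  td4vq3_Qm' q _ (iota_mem j q hq hF hK A t ht).1 (iota_mem j q hq hF hK A t ht).2 v hv

end QQ

end Cfsg.Agent.Lib.helper23.TD4V
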