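import Mathlib
import Cfsg.Agent.Lib.helper23.TD4V.Defs
import Cfsg.Agent.Lib.Helper5.TD4VN2
import Cfsg.Agent.Lib.Helper5.TD4VI2
import Cfsg.Agent.Lib.Helper5.TD4VQ3

/-!
# TD4V row Q4 (helper5): `Pp_dec` (verbatim from `helper23/TD4V/Skel.lean.txt`).
-/

set_option autoImplicit false

namespace Cfsg.Agent.Lib.helper23.TD4V

open Cfsg.Lie Cfsg.Lie.ChevalleyDatum Matrix
open Cfsg.Agent.Lib.helper8 Cfsg.Agent.Lib.helper8.TD4
open Cfsg.Agent.Lib.helper23.P4V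

universe u

section QQ

variable {F K : Type u} [Field F] [Field K] [Fintype F] [Fintype K] (j : F →+* K) (q : ℕ)

/-- **Q4** [M]. -/
theorem Pp_dec (hq : IsPrimePow q) (hF : Fintype.card F = q) (hK : Fintype.card K = q ^ 3)
    (g : GG K) (hg : g ∈ Pp j q) :
    ∃ (A : GL (Fin 2) F) (t : K), t ≠ 0 ∧ j (A : M2 F).det = Nm q t ∧ ∃ u ∈ Q K q,
      g = iota j q A t * u := by
  have hone : j ((1 : GL (Fin 2) F) : M2 F).det = Nm q (1 : K) := by
    rw [Nm_one, Units.val_one, Matrix.det_one, map_one]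
  unfold Pp at hg
  induction hg using Subgroup.closure_induction with
  | mem x hx =>
    rcases hx with ⟨A, t, ht, hdet, rfl⟩ | hx
    · exact ⟨A, t, ht, hdet, 1, Subgroup.one_mem _, (mul_one _).symm⟩
    · refine ⟨1, 1, one_ne_zero, hone, x, hx, ?_⟩
      rw [iota_one, one_mul]
  | one =>
    refine ⟨1, 1, one_ne_zero, hone, 1, Subgroup.one_mem _, ?_⟩
    rw [iota_one, one_mul]
  | mul x y _ _ hx hy =>
    obtain ⟨A, t, ht, hdA, u, hu, rfl⟩ := hx
    obtain ⟨B, s, hs, hdB, u', hu', rfl⟩ := hy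
    refine ⟨A * B, t * s, mul_ne_zero ht hs, ?_, (iota j q B s)⁻¹ * u * iota j q B s * u',
      Subgroup.mul_mem _ (iota_norm_Q' j q hq hF hK B s hs u hu) hu', ?_⟩
    · rw [Units.val_mul, Matrix.det_mul, map_mul, hdA, hdB, Nm_mul]
    · rw [iota_mul j q A B t s ht hs hdA]
      group
  | inv x _ hx =>
    obtain ⟨A, t, ht, hdA, u, hu, rfl⟩ := hx
    have hdet : j ((A⁻¹ : GL (Fin 2) F) : M2 F).det = Nm q t⁻¹ := by
      rw [td4vi2_Nm_inv, ← hdA, ← map_inv₀]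
      congr 1
      have h1 : ((A⁻¹ : GL (Fin 2) F) : M2 F).det * (A : M2 F).det = 1 := by
        rw [← Matrix.det_mul, ← Units.val_mul, inv_mul_cancel, Units.val_one, Matrix.det_one]
      exact eq_inv_of_mul_eq_one_left h1
    refine ⟨A⁻¹, t⁻¹, inv_ne_zero ht, hdet, iota j q A t * u⁻¹ * (iota j q A t)⁻¹,
      iota_norm_Q j q hq hF hK A t ht u⁻¹ (Subgroup.inv_mem _ hu), ?_⟩
    rw [iota_inv j q A t ht hdA]
    group

end QQ

end Cfsg.Agent.Lib.helper23.TD4V
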