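import Mathlib
import Cfsg.Agent.Lib.Lead.BCG.Defs
import Cfsg.Agent.Lib.helper7.C3QNPEXh7
import Cfsg.Agent.Lib.Helper24.ElR

/-!
# Project BCG (S2474), row A14 `siegel_elt` (helper5): the Siegel element
`u = c3qnpex_T Q z w (Q w)` is a nontrivial isometry with `u ^ p = 1`, commuting with every
`polar`-preserving `g` fixing `z` and `w`.
-/

set_option autoImplicit false

namespace Cfsg.Agent.Lib.Lead.BCG

open Polynomial Module Matrix Cfsg.Agent.Lib.Helper10.C3Q

theorem siegel_elt {F : Type*} [Field F] {p : ℕ} [Fact p.Prime] [CharP F p] (hp2 : p ≠ 2)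
    {ι : Type} [Fintype ι] [DecidableEq ι] (Q : QuadraticForm F (ι → F))
    (hQ : (QuadraticMap.polarBilin Q).Nondegenerate) (z w : ι → F) (hz0 : z ≠ 0) (hz : Q z = 0)
    (hzw : QuadraticMap.polar (⇑Q) z w = 0) (hw : Q w ≠ 0) :
    ∃ u : Module.End F (ι → F), (∀ v, Q (u v) = Q v) ∧ u ^ p = 1 ∧ u ≠ 1 ∧
      ∀ g : Module.End F (ι → F),
        (∀ a b, QuadraticMap.polar (⇑Q) (g a) (g b) = QuadraticMap.polar (⇑Q) a b) →
        g z = z → g w = w → Commute g u := by
  have hp : p.Prime := Fact.out
  have hp3 : 3 ≤ p := by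
    have := hp.two_le
    omega
  refine ⟨c3qnpex_T Q z w (Q w), fun v => c3qnpex_isom Q z w hz hzw v, ?_, ?_, ?_⟩
  · rw [c3qnpex_T_eq, add_comm, Cfsg.Agent.Lib.Helper24.el_add_one_pow_char]
    have h3 := c3qnpex_N_cube Q z w hz hzw
    have : c3qnpex_N Q z w (Q w) ^ p = 0 := by
      have e : p = 3 + (p - 3) := by omega
      rw [e, pow_add, h3, zero_mul]
    rw [this, zero_add]
  · intro hu
    -- a vector `v` with `polar z v ≠ 0`
    have hex : ∃ v, QuadraticMap.polar (⇑Q) z v ≠ 0 := by
      by_contra hcon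
      push_neg at hcon
      apply hz0
      apply hQ.1 z
      intro v
      rw [QuadraticMap.polarBilin_apply_apply]
      exact hcon v
    obtain ⟨v, hv⟩ := hex
    have h1 := congrArg (fun f : Module.End F (ι → F) => f v) hu
    simp only [Module.End.one_apply] at h1
    rw [c3qnpex_T_apply] at h1
    set a := QuadraticMap.polar (⇑Q) z v with ha
    set b := QuadraticMap.polar (⇑Q) w v + Q w * a with hb
    have h2 : a • w = b • z := by
      have : v + a • w - b • z = v := h1
      have h3 : a • w - b • z = 0 := by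
        have := congrArg (fun t => t - v) this
        simp only [sub_self] at this
        rw [← this]
        abel
      exact sub_eq_zero.mp h3
    have h3 : w = (a⁻¹ * b) • z := by
      rw [mul_smul, ← h2, smul_smul, inv_mul_cancel₀ hv, one_smul]
    apply hw
    rw [h3, QuadraticMap.map_smul, hz, smul_zero]
  · intro g hg hgz hgw
    apply LinearMap.ext
    intro v
    rw [Module.End.mul_apply, Module.End.mul_apply, c3qnpex_T_apply, c3qnpex_T_apply]
    have e1 : QuadraticMap.polar (⇑Q) z (g v) = QuadraticMap.polar (⇑Q) z v := by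
      conv_lhs => rw [← hgz]
      exact hg z v
    have e2 : QuadraticMap.polar (⇑Q) w (g v) = QuadraticMap.polar (⇑Q) w v := by
      conv_lhs => rw [← hgw]
      exact hg w v
    rw [e1, e2, map_sub, map_add, map_smul, map_smul, hgz, hgw]

end Cfsg.Agent.Lib.Lead.BCG
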