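import Mathlib
import Cfsg.Agent.Lib.helper14.BGL.SPDefs
import Cfsg.Agent.Lib.helper14.BGL.SPDefs2
import Cfsg.Agent.Lib.Helper10.BGL.Defs
import Cfsg.Agent.Lib.Helper10.BGL.Bridge
import Cfsg.Agent.Lib.helper8.ChevBaseAll
import Cfsg.Agent.Lib.helper8.ChevBNAll
import Cfsg.Agent.Lib.helper8.ChevReflAll
import Cfsg.Agent.Lib.helper8.ChevNM
import Cfsg.Agent.Lib.helper8.ChevNgen
import Cfsg.Agent.Lib.helper8.ChevFix1
import Cfsg.Agent.Lib.helper8.ChevTits5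
import Cfsg.Agent.Lib.Helper12.BGLSPO1
import Cfsg.Agent.Lib.Helper26.BGLSPM1

/-!
# Project BGL (designer helper10), block SP (designer helper14), row M4 `span_generic` (helper5): the core.
On the landed O1 (`spOrb_spec`, `Helper12.BGLSPO1`) and M1 (`top_diff_zero`, `Helper26.BGLSPM1`); the statements of M2 (`col_all_zero`),
M3 (`stabP_Lq`) and R6 (`row_zero`) are hypotheses.  Extras `bglspm4_*`.
-/

set_option autoImplicit false

namespace Cfsg.Agent.Lib.helper14.BGLSP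

open Cfsg.Lie Cfsg.Lie.ChevalleyDatum Cfsg.Agent.Lib.helper8 Cfsg.Agent.Lib.Helper10.BGL Matrix

universe u

variable {K : Type u} [Field K] (D : ChevalleyDatum)

/-- a matrix killing every vector is zero -/
theorem bglspm4_eq_zero {n : Type*} [Fintype n] [DecidableEq n] (M : Matrix n n K) (h : ∀ v : n → K, M *ᵥ v = 0) :
    M = 0 := by
  ext i j
  have := congrFun (h (Pi.single j 1)) i
  rw [Matrix.mulVec_single_one] at this
  exact this

section M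
variable [Finite K] (p : ℕ) [Fact p.Prime] [CharP K p]

omit [Finite K] in
/-- `2 ≠ 0` in odd characteristic -/
theorem bglspm4_two_ne (hp : p ≠ 2) : (2 : K) ≠ 0 := by
  intro h2
  have h : ((2 : ℕ) : K) = 0 := by exact_mod_cast h2
  rw [CharP.cast_eq_zero_iff K p] at h
  have hpp : p.Prime := Fact.out
  exact hp ((Nat.prime_dvd_prime_iff_eq hpp Nat.prime_two).1 h)

omit [Finite K] [CharP K p] in
/-- `(-1) ^ (p ^ a) = -1` for odd `p` -/
theorem bglspm4_neg_one_pow (hp : p ≠ 2) (a : ℕ) : (-1 : K) ^ (p ^ a) = -1 := by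
  have hpp : p.Prime := Fact.out
  have hodd : Odd (p ^ a) := (hpp.odd_of_ne_two hp).pow
  exact hodd.neg_one_pow

/-- **M4 core**: `span_generic` from the statements of M2, M3, R6. -/
theorem bglspm4_core (hp : p ≠ 2) {lam : List ℕ} (hT : SPTab D lam) (a : ℕ) (h : GL D.Idx K)
    (hs : ∀ m ∈ Lq D K (p ^ a), ∀ m' ∈ Lq D K (p ^ a),
      Rt (p ^ a) (topEntry D ((m * h * m' : GL D.Idx K) : Matrix D.Idx D.Idx K)))
    (hM2 : (2 : K) ≠ 0 → ∀ (q : ℕ), (-1 : K) ^ q = -1 → ∀ (Δ : Matrix D.Idx D.Idx K),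
      (∀ m ∈ Lq D K q, ∀ m' ∈ Lq D K q,
        rc D (((m : Matrix D.Idx D.Idx K) * Δ) *ᵥ ((m' : Matrix D.Idx D.Idx K) *ᵥ re D K (D.nroots - 1))) 0 = 0) →
      ∀ m ∈ Lq D K q, ∀ v : D.Idx → K, rc D (((m : Matrix D.Idx D.Idx K) * Δ) *ᵥ v) 0 = 0)
    (hM3 : ∀ (q : ℕ), (-1 : K) ^ q = -1 →
      StabP D (fun w : D.Idx → K => ∀ m ∈ Lq D K q, rc D ((m : Matrix D.Idx D.Idx K) *ᵥ w) 0 = 0) ∧
      ∀ w : D.Idx → K, (∀ m ∈ Lq D K q, rc D ((m : Matrix D.Idx D.Idx K) *ᵥ w) 0 = 0) → rc D w 0 = 0)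
    (hR6 : ∀ {P : (D.Idx → K) → Prop}, StabP D P → (∀ w, P w → rc D w 0 = 0) → ∀ w, P w → w = 0) :
    RatM D (p ^ a) (h : Matrix D.Idx D.Idx K) := by
  obtain ⟨dep, par, horb⟩ := hT.orb
  have hn : 0 < D.nroots := (spOrb_spec D horb).1
  have h2 : (2 : K) ≠ 0 := bglspm4_two_ne p hp
  have hq2 : (-1 : K) ^ (p ^ a) = -1 := bglspm4_neg_one_pow p hp a
  set Δ : Matrix D.Idx D.Idx K :=
    ((h8Psi D ((sig (K := K) p a : K ≃+* K) : K →+* K) h : GL D.Idx K) : Matrix D.Idx D.Idx K) -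
      (h : Matrix D.Idx D.Idx K) with hΔ
  have h1 := top_diff_zero D p a hn h hs
  have h3 := hM2 h2 (p ^ a) hq2 Δ h1
  obtain ⟨hP, h0⟩ := hM3 (p ^ a) hq2
  have hΔ0 : Δ = 0 := by
    apply bglspm4_eq_zero
    intro v
    apply hR6 hP h0
    intro m hm
    rw [Matrix.mulVec_mulVec]
    exact h3 m hm v
  rw [ratM_iff p D a h]
  apply Units.ext
  exact sub_eq_zero.1 hΔ0

end M

end Cfsg.Agent.Lib.helper14.BGLSP
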