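import Mathlib
import Cfsg.Agent.Lib.Helper5.BGLSPM4core
import Cfsg.Agent.Lib.Helper22.BGLSPM2
import Cfsg.Agent.Lib.helper8.BGLSPM3
import Cfsg.Agent.Lib.Helper1.BGLSPR1

/-!
# Project BGL (designer helper10), block SP (designer helper14), row M4 `span_generic` (helper5): the verbatim wrapper.
`bglspm4_core` on the landed M2 (`col_all_zero`, `Helper22.BGLSPM2`), M3 (`stabP_Lq`, `helper8.BGLSPM3`) and R6 (`row_zero`,
`Helper1.BGLSPR1`).
-/

set_option autoImplicit false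

namespace Cfsg.Agent.Lib.helper14.BGLSP

open Cfsg.Lie Cfsg.Lie.ChevalleyDatum Cfsg.Agent.Lib.helper8 Cfsg.Agent.Lib.Helper10.BGL Matrix

universe u

variable {K : Type u} [Field K] (D : ChevalleyDatum)

section M
variable [Finite K] (p : ℕ) [Fact p.Prime] [CharP K p]

/-- M4 [M]  the generic span step. -/
theorem span_generic (hp : p ≠ 2) (hB : H8Base.{u} D) {lam : List ℕ} (hT : SPTab D lam) {xs : List ℕ} {X : List (List ℤ)} {d : ℤ}
    (hX : spXChk D lam xs X d = true) (hd : ((d : ℤ) : K) ≠ 0) {ys : List ℕ} {Y : List (List ℤ)}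
    (hY : spYChk D lam ys Y = true) (a : ℕ) (h : GL D.Idx K)
    (hs : ∀ m ∈ Lq D K (p ^ a), ∀ m' ∈ Lq D K (p ^ a),
      Rt (p ^ a) (topEntry D ((m * h * m' : GL D.Idx K) : Matrix D.Idx D.Idx K))) :
    RatM D (p ^ a) (h : Matrix D.Idx D.Idx K) :=
  bglspm4_core D p hp hT a h hs
    (fun h2 q hq2 Δ hh => col_all_zero D hB hT hY h2 q hq2 Δ hh)
    (fun q hq2 => stabP_Lq D hB q hq2)
    (fun hP h0 => row_zero hT hP h0 hX hd)

end M

end Cfsg.Agent.Lib.helper14.BGLSP
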