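import Mathlib
import Cfsg.Prelude.Def_ChevStructure
import Cfsg.Agent.Lib.helper8.BTT.Defs
import Cfsg.Agent.Lib.helper8.ChevUnits
import Cfsg.Agent.S1048

/-!
# BTT GRP12 (core): `G ∩ FilP ℓ_L = U_J` for a dominant level function `L` with zero set `J`.
The cited rows (GRP10 `filP_le_U`, GRP11 `levi_lev`, GRP2 `x_fil`, ROOT4 `dom_pos`, GEN4 `filP_inv`)
enter as hypotheses; S1048 is imported; the easy generic facts (GEN1 `fil_filP`, GEN2, GEN8
`filP_lev_eq_one`) are reproved here under own names.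
-/

set_option autoImplicit false

namespace Cfsg.Agent.Lib.helper8.BTT

open Cfsg.Lie Cfsg.Lie.ChevalleyDatum Cfsg.Agent.Lib.helper8

universe u

section
variable {ι : Type*} [Fintype ι] [DecidableEq ι] {F : Type*} [Field F]

omit [Fintype ι] in
/-- own copy of GEN1 `fil_filP` -/
theorem bttgrp12_fil_filP (ℓ : ι → ℝ) (c : ℝ) (hc : 0 < c) (M : Matrix ι ι F) (h : Fil ℓ c M) :
    FilP ℓ M := by
  intro i j hne
  have := h i j hne
  linarith

omit [Fintype ι] in
/-- own copy of GEN2 `filP_one` -/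
theorem bttgrp12_filP_one (ℓ : ι → ℝ) : FilP ℓ (1 : Matrix ι ι F) := by
  intro i j hne
  rw [sub_self] at hne
  exact absurd rfl hne

/-- own copy of GEN2 `filP_mul` -/
theorem bttgrp12_filP_mul (ℓ : ι → ℝ) (M M' : Matrix ι ι F) (h : FilP ℓ M) (h' : FilP ℓ M') :
    FilP ℓ (M * M') := by
  intro i j hne
  have e : M * M' - 1 = (M - 1) * (M' - 1) + (M - 1) + (M' - 1) := by
    simp only [Matrix.sub_mul, Matrix.mul_sub, Matrix.one_mul, Matrix.mul_one]
    abel
  rw [e, Matrix.add_apply, Matrix.add_apply] at hne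
  by_cases h1 : ((M - 1) * (M' - 1)) i j = 0
  · rw [h1, zero_add] at hne
    by_cases h2 : (M - 1) i j = 0
    · rw [h2, zero_add] at hne
      exact h' i j hne
    · exact h i j h2
  · rw [Matrix.mul_apply] at h1
    obtain ⟨k, _, hk⟩ := Finset.exists_ne_zero_of_sum_ne_zero h1
    have hk1 : (M - 1) i k ≠ 0 := left_ne_zero_of_mul hk
    have hk2 : (M' - 1) k j ≠ 0 := right_ne_zero_of_mul hk
    exact lt_trans (h' k j hk2) (h i k hk1)

omit [Fintype ι] in
/-- own copy of GEN8 `filP_lev_eq_one` -/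
theorem bttgrp12_filP_lev_eq_one (ℓ : ι → ℝ) (M : Matrix ι ι F) (h : FilP ℓ M) (h' : Lev ℓ ℓ M) :
    M = 1 := by
  ext i j
  by_cases hij : i = j
  · subst hij
    rw [Matrix.one_apply_eq]
    by_contra hne
    have : (M - 1) i i ≠ 0 := by
      rw [Matrix.sub_apply, Matrix.one_apply_eq]
      exact sub_ne_zero.mpr hne
    exact lt_irrefl _ (h i i this)
  · rw [Matrix.one_apply_ne hij]
    by_contra hne
    have h1 : (M - 1) i j ≠ 0 := by
      rw [Matrix.sub_apply, Matrix.one_apply_ne hij, sub_zero]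
      exact hne
    have h2 := h i j h1
    have h3 := h' i j hne
    rw [h3] at h2
    exact lt_irrefl _ h2

end

section
variable {F : Type u} [Field F] (D : ChevalleyDatum)

/-- `U_J ≤ U` -/
theorem bttgrp12_UJ_le_U (J : Set ℕ) : D.unipotentRadical F J ≤ D.posUnipotent F := by
  unfold ChevalleyDatum.unipotentRadical ChevalleyDatum.posUnipotent
  apply Subgroup.closure_mono
  rintro g ⟨r, t, hr, _, hg⟩
  exact ⟨r, t, hr, hg⟩

/-- GRP12 core: the cited rows as hypotheses. -/
theorem bttgrp12_core (hD : D ∈ [chevG2, chevB2, chevD4, chevF4, chevE6, chevE7, chevE8])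
    (L : Fin D.nroots → ℝ)
    (hinv : ∀ g : GL D.Idx F, FilP (lvl D L) (g : Matrix D.Idx D.Idx F) →
      FilP (lvl D L) ((g⁻¹ : GL D.Idx F) : Matrix D.Idx D.Idx F))
    (hxfil : ∀ s < D.nroots, ∀ t : F, 0 ≤ lv D L s → Fil (lvl D L) (lv D L s) (D.x F s t))
    (hpos : ∀ r, D.IsPosRoot r → ¬ D.InRootSub (zeroSet D L) r → 0 < lv D L r)
    (h10 : ∀ q : GL D.Idx F, q ∈ D.group F → FilP (lvl D L) (q : Matrix D.Idx D.Idx F) →
      q ∈ D.posUnipotent F)
    (h11 : ∀ l : GL D.Idx F, l ∈ D.leviSubgroup F (zeroSet D L) →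
      Lev (lvl D L) (lvl D L) (l : Matrix D.Idx D.Idx F))
    (q : GL D.Idx F) :
    (q ∈ D.group F ∧ FilP (lvl D L) (q : Matrix D.Idx D.Idx F)) ↔
      q ∈ D.unipotentRadical F (zeroSet D L) := by
  -- the subgroup `G ∩ FilP`
  let T : Subgroup (GL D.Idx F) :=
    { carrier := {g | g ∈ D.group F ∧ FilP (lvl D L) (g : Matrix D.Idx D.Idx F)}
      mul_mem' := fun {a b} ha hb =>
        ⟨Subgroup.mul_mem _ ha.1 hb.1, by
          rw [Units.val_mul]; exact bttgrp12_filP_mul _ _ _ ha.2 hb.2⟩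
      one_mem' := ⟨Subgroup.one_mem _, by rw [Units.val_one]; exact bttgrp12_filP_one _⟩
      inv_mem' := fun {a} ha => ⟨Subgroup.inv_mem _ ha.1, hinv a ha.2⟩ }
  have hUJT : D.unipotentRadical F (zeroSet D L) ≤ T := by
    unfold ChevalleyDatum.unipotentRadical
    rw [Subgroup.closure_le]
    rintro g ⟨r, t, hr, hnot, hg⟩
    refine ⟨?_, ?_⟩
    · apply h8_U_le_group D
      apply Subgroup.subset_closure
      exact ⟨r, t, hr, hg⟩
    · rw [hg]
      have hp := hpos r hr hnot
      exact bttgrp12_fil_filP _ _ hp _ (hxfil r hr.1 t (le_of_lt hp))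
  constructor
  · rintro ⟨hqG, hqF⟩
    have hqU : q ∈ D.posUnipotent F := h10 q hqG hqF
    have h48 := (Cfsg.Agent.S1048.result (F := F) D hD (zeroSet D L)).2.1
    have hqP : q ∈ D.parabolicSubgroup F (zeroSet D L) := by
      unfold ChevalleyDatum.parabolicSubgroup ChevalleyDatum.borelSubgroup
      exact Subgroup.mem_sup_left (Subgroup.mem_sup_left hqU)
    rw [← h48] at hqP
    have hnorm : ∀ l ∈ D.leviSubgroup F (zeroSet D L), ∀ x ∈ D.unipotentRadical F (zeroSet D L),
        l * x * l⁻¹ ∈ D.unipotentRadical F (zeroSet D L) := by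
      intro l hl x hx
      have hN := (Cfsg.Agent.S1048.result (F := F) D hD (zeroSet D L)).1
      have hlP : l ∈ D.parabolicSubgroup F (zeroSet D L) := by
        rw [← h48]; exact Subgroup.mem_sup_right hl
      have := hN hlP
      rw [Subgroup.mem_normalizer_iff] at this
      exact (this x).mp hx
    -- write `q = u * l`
    have hdec : ∃ u ∈ D.unipotentRadical F (zeroSet D L),
        ∃ l ∈ D.leviSubgroup F (zeroSet D L), u * l = q := by
      -- `U_J` is normalised by `L_J`, so the join is the product set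
      have hprod : ∀ g ∈ D.unipotentRadical F (zeroSet D L) ⊔ D.leviSubgroup F (zeroSet D L),
          ∃ u ∈ D.unipotentRadical F (zeroSet D L),
            ∃ l ∈ D.leviSubgroup F (zeroSet D L), u * l = g := by
        intro g hg
        rw [Subgroup.sup_eq_closure] at hg
        induction hg using Subgroup.closure_induction with
        | mem x hx =>
          rcases hx with hx | hx
          · exact ⟨x, hx, 1, Subgroup.one_mem _, mul_one x⟩
          · exact ⟨1, Subgroup.one_mem _, x, hx, one_mul x⟩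
        | one => exact ⟨1, Subgroup.one_mem _, 1, Subgroup.one_mem _, mul_one 1⟩
        | mul x y _ _ ihx ihy =>
          obtain ⟨u1, hu1, l1, hl1, rfl⟩ := ihx
          obtain ⟨u2, hu2, l2, hl2, rfl⟩ := ihy
          refine ⟨u1 * (l1 * u2 * l1⁻¹), Subgroup.mul_mem _ hu1 (hnorm l1 hl1 u2 hu2),
            l1 * l2, Subgroup.mul_mem _ hl1 hl2, ?_⟩
          group
        | inv x _ ih =>
          obtain ⟨u1, hu1, l1, hl1, rfl⟩ := ih
          refine ⟨l1⁻¹ * u1⁻¹ * (l1⁻¹)⁻¹, hnorm l1⁻¹ (Subgroup.inv_mem _ hl1) u1⁻¹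
            (Subgroup.inv_mem _ hu1), l1⁻¹, Subgroup.inv_mem _ hl1, ?_⟩
          group
      exact hprod q hqP
    obtain ⟨u, hu, l, hl, hul⟩ := hdec
    have huT := hUJT hu
    have hlF : FilP (lvl D L) ((l : GL D.Idx F) : Matrix D.Idx D.Idx F) := by
      have : l = u⁻¹ * q := by rw [← hul]; group
      rw [this, Units.val_mul]
      exact bttgrp12_filP_mul _ _ _ (hinv u huT.2) hqF
    have hl1 : (l : Matrix D.Idx D.Idx F) = 1 := bttgrp12_filP_lev_eq_one _ _ hlF (h11 l hl)
    have hl1' : l = 1 := Units.ext hl1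
    rw [hl1', mul_one] at hul
    rw [← hul]
    exact hu
  · intro hq
    exact hUJT hq

end

end Cfsg.Agent.Lib.helper8.BTT
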