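import Mathlib

set_option autoImplicit false

namespace Cfsg.Agent.Lib.Helper5.Stem

open Subgroup

variable {Γ G : Type*} [Group Γ] [Group G] (σ : Γ →* G)

/-- `z` generates the central kernel of order two of `σ` -/
def Ker2 (z : Γ) : Prop :=
  z ≠ 1 ∧ z * z = 1 ∧ σ z = 1 ∧ (∀ w : Γ, σ w = 1 → w = 1 ∨ w = z) ∧ ∀ g : Γ, g * z = z * g

/-- every lift of `g` squares to one -/
def QInv (g : G) : Prop := ∀ x : Γ, σ x = g → x * x = 1

variable {σ}

theorem ker2_of_card (hcen : σ.ker ≤ center Γ) (hcard : Nat.card σ.ker = 2) :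
    ∃ z : Γ, Ker2 σ z := by
  obtain ⟨x, y, hxy, huniv⟩ := Nat.card_eq_two_iff.mp hcard
  have hall : ∀ w : σ.ker, w = x ∨ w = y := by
    intro w
    have : w ∈ ({x, y} : Set σ.ker) := by rw [huniv]; exact Set.mem_univ w
    simpa using this
  -- one of them is 1
  have key : ∀ (a b : σ.ker), a ≠ b → (∀ w : σ.ker, w = a ∨ w = b) → a = 1 → Ker2 σ (b : Γ) := by
    intro a b hab hall ha
    have hb1 : (b : Γ) ≠ 1 := by
      intro h
      apply hab
      rw [ha]
      exact (Subtype.ext h).symm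
    have hw : ∀ w : Γ, σ w = 1 → w = 1 ∨ w = b := by
      intro w hw
      rcases hall ⟨w, hw⟩ with h | h
      · left
        have := congrArg Subtype.val h
        rw [ha] at this
        exact this
      · right
        exact congrArg Subtype.val h
    have hσb : σ (b : Γ) = 1 := b.2
    refine ⟨hb1, ?_, hσb, hw, ?_⟩
    · rcases hw ((b : Γ) * b) (by rw [map_mul, hσb, one_mul]) with h | h
      · exact h
      · exfalso
        apply hb1
        exact mul_eq_left.mp h
    · intro g
      exact Subgroup.mem_center_iff.mp (hcen b.2) g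
  rcases hall 1 with h | h
  · exact ⟨y, key x y hxy hall h.symm⟩
  · refine ⟨x, key y x hxy.symm (fun w => (hall w).symm) h.symm⟩

theorem qinv_conj (hsurj : Function.Surjective σ) {g : G} (h : QInv σ g) (t : G) :
    QInv σ (t * g * t⁻¹) := by
  intro x hx
  obtain ⟨T, hT⟩ := hsurj t
  have h1 : σ (T⁻¹ * x * T) = g := by
    rw [map_mul, map_mul, map_inv, hT, hx]; group
  have h2 := h _ h1
  have h3 : T⁻¹ * (x * x) * T = 1 := by
    rw [← h2]; group
  have h4 : x * x = T * (T⁻¹ * (x * x) * T) * T⁻¹ := by group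
  rw [h4, h3]; group

theorem lift_sq {z : Γ} (hK : Ker2 σ z) {g : G} (hg : g * g = 1) {x : Γ} (hx : σ x = g) :
    x * x = 1 ∨ x * x = z :=
  hK.2.2.2.1 _ (by rw [map_mul, hx, hg])

theorem sq_eq_z_of_not_qinv {z : Γ} (hK : Ker2 σ z) {g : G} (hg : g * g = 1)
    (hn : ¬ QInv σ g) : ∀ x : Γ, σ x = g → x * x = z := by
  obtain ⟨hz1, hz2, hσz, hw, hzc⟩ := hK
  unfold QInv at hn
  push Not at hn
  obtain ⟨x0, hx0, hx0n⟩ := hn
  have hx0z : x0 * x0 = z := by
    rcases lift_sq ⟨hz1, hz2, hσz, hw, hzc⟩ hg hx0 with h | h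
    · exact absurd h hx0n
    · exact h
  intro x hx
  have h1 : σ (x0⁻¹ * x) = 1 := by rw [map_mul, map_inv, hx0, hx, inv_mul_cancel]
  rcases hw _ h1 with h | h
  · have : x = x0 := by
      have := inv_mul_eq_one.mp h
      exact this.symm
    rw [this, hx0z]
  · have hx' : x = x0 * z := by rw [← h]; group
    rw [hx']
    calc x0 * z * (x0 * z) = x0 * (z * x0) * z := by group
      _ = x0 * (x0 * z) * z := by rw [hzc x0]
      _ = (x0 * x0) * (z * z) := by group
      _ = z := by rw [hz2, hx0z, mul_one]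

/-- the `E₈` argument: if the seven involutions of an elementary abelian group of order eight are
all conjugate, they lift to involutions -/
theorem qinv_of_E8 (hsurj : Function.Surjective σ) {z : Γ} (hK : Ker2 σ z) (a b c : G)
    (ha : a * a = 1) (hab : a * b = b * a) (hac : a * c = c * a) (hbc : b * c = c * b)
    (h1 : ∃ h : G, h * a * h⁻¹ = b) (h2 : ∃ h : G, h * a * h⁻¹ = c)
    (h3 : ∃ h : G, h * a * h⁻¹ = a * b) (h4 : ∃ h : G, h * a * h⁻¹ = a * c)
    (h5 : ∃ h : G, h * a * h⁻¹ = b * c) (h6 : ∃ h : G, h * a * h⁻¹ = a * b * c) :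
    QInv σ a := by
  by_contra hn
  have hK' := hK
  obtain ⟨hz1, hz2, hσz, hw, hzc⟩ := hK
  -- conjugates are also bad involutions
  have hconj : ∀ v : G, (∃ h : G, h * a * h⁻¹ = v) → v * v = 1 ∧ ¬ QInv σ v := by
    rintro v ⟨h, rfl⟩
    constructor
    · calc h * a * h⁻¹ * (h * a * h⁻¹) = h * (a * a) * h⁻¹ := by group
        _ = 1 := by rw [ha]; group
    · intro hq
      apply hn
      have := qinv_conj hsurj hq h⁻¹
      have e : h⁻¹ * (h * a * h⁻¹) * h⁻¹⁻¹ = a := by group
      rwa [e] at this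
  obtain ⟨A, hA⟩ := hsurj a
  obtain ⟨B, hB⟩ := hsurj b
  obtain ⟨C, hC⟩ := hsurj c
  have sA := sq_eq_z_of_not_qinv hK' ha hn A hA
  have sB := sq_eq_z_of_not_qinv hK' (hconj b h1).1 (hconj b h1).2 B hB
  have sC := sq_eq_z_of_not_qinv hK' (hconj c h2).1 (hconj c h2).2 C hC
  have sAB := sq_eq_z_of_not_qinv hK' (hconj _ h3).1 (hconj _ h3).2 (A * B)
    (by rw [map_mul, hA, hB])
  have sAC := sq_eq_z_of_not_qinv hK' (hconj _ h4).1 (hconj _ h4).2 (A * C)
    (by rw [map_mul, hA, hC])
  have sBC := sq_eq_z_of_not_qinv hK' (hconj _ h5).1 (hconj _ h5).2 (B * C)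
    (by rw [map_mul, hB, hC])
  have sABC := sq_eq_z_of_not_qinv hK' (hconj _ h6).1 (hconj _ h6).2 (A * B * C)
    (by rw [map_mul, map_mul, hA, hB, hC])
  -- inverses
  have iA : A⁻¹ = A * z := by
    rw [inv_eq_iff_mul_eq_one]
    calc A * (A * z) = (A * A) * z := by group
      _ = 1 := by rw [sA, hz2]
  have iB : B⁻¹ = B * z := by
    rw [inv_eq_iff_mul_eq_one]
    calc B * (B * z) = (B * B) * z := by group
      _ = 1 := by rw [sB, hz2]
  have iC : C⁻¹ = C * z := by
    rw [inv_eq_iff_mul_eq_one]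
    calc C * (C * z) = (C * C) * z := by group
      _ = 1 := by rw [sC, hz2]
  -- anti-commutation
  have anti : ∀ X Y : Γ, X⁻¹ = X * z → Y⁻¹ = Y * z → X * Y * (X * Y) = z → Y * X = z * (X * Y) := by
    intro X Y iX iY s
    have e1 : Y * X = X⁻¹ * (X * Y * (X * Y)) * Y⁻¹ := by group
    rw [e1, s, iX, iY]
    calc X * z * z * (Y * z) = X * (z * z) * (Y * z) := by group
      _ = X * (Y * z) := by rw [hz2, mul_one]
      _ = X * (z * Y) := by rw [hzc Y]
      _ = (X * z) * Y := by group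
      _ = (z * X) * Y := by rw [hzc X]
      _ = z * (X * Y) := by group
  have cBA := anti A B iA iB sAB
  have cCA := anti A C iA iC sAC
  have cCB := anti B C iB iC sBC
  -- (ABC)^2 = 1
  have fin : A * B * C * (A * B * C) = 1 := by
    calc A * B * C * (A * B * C) = A * B * (C * A) * B * C := by group
      _ = A * B * (z * (A * C)) * B * C := by rw [cCA]
      _ = A * (B * z) * A * C * B * C := by group
      _ = A * (z * B) * A * C * B * C := by rw [hzc B]
      _ = (A * z) * (B * A) * C * B * C := by group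
      _ = (A * z) * (z * (A * B)) * C * B * C := by rw [cBA]
      _ = A * (z * z) * A * B * (C * B) * C := by group
      _ = A * A * B * (z * (B * C)) * C := by rw [hz2, cCB]; group
      _ = A * A * (B * z) * B * C * C := by group
      _ = A * A * (z * B) * B * C * C := by rw [hzc B]
      _ = (A * A) * z * (B * B) * (C * C) := by group
      _ = 1 := by rw [sA, sB, sC, hz2, one_mul, hz2]
  rw [fin] at sABC
  exact hz1 sABC.symm

end Cfsg.Agent.Lib.Helper5.Stem
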