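import Mathlib
import Cfsg.Agent.Lib.Helper5.StemB

set_option autoImplicit false

/-! Collection in a polycyclic presentation of a two-group, with symbolic central tails. -/

namespace Cfsg.Agent.Lib.Helper5.PcT

open Subgroup

/-- the data of a polycyclic presentation: squares and commutators as words -/
structure PcD where
  /-- the number of generators -/
  k : ℕ
  /-- the word of the square of a generator -/
  sq : ℕ → List ℕ
  /-- the word `w` with `x j * x i = x i * x j * w` for `i < j` -/
  cm : ℕ → ℕ → List ℕ

/-- a collector state: a descending word and a list of tail variables -/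
abbrev St : Type := List ℕ × List (ℕ × ℕ)

/-- fold of a partial step function -/
def foldO (f : St → ℕ → Option St) : List ℕ → St → Option St
  | [], s => some s
  | l :: ls, s =>
    match f s l with
    | none => none
    | some s' => foldO f ls s'

/-- right multiplication of a collected word by a generator, with fuel -/
def rmul (D : PcD) : ℕ → St → ℕ → Option St
  | 0, _, _ => none
  | f + 1, (d, t), i =>
    match d with
    | [] => some ([i], t)
    | j :: d' =>
      if j < i then some (i :: j :: d', t)
      else if j = i then some ((D.sq i).reverse ++ d', (i, i) :: t)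
      else
        match rmul D f (d', t) i with
        | none => none
        | some s1 =>
          match rmul D f s1 j with
          | none => none
          | some s2 =>
            match foldO (rmul D f) (D.cm i j) s2 with
            | none => none
            | some (d3, t3) => some (d3, (i, j) :: t3)

/-- collection of a word -/
def collect (D : PcD) (f : ℕ) (w : List ℕ) : Option St := foldO (rmul D f) w ([], [])

section sound

variable {Γ : Type*} [Group Γ]

/-- the product of a word -/
def nfw (X : ℕ → Γ) (l : List ℕ) : Γ := (l.map X).prod

/-- the value of a descending word -/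
def val (X : ℕ → Γ) (d : List ℕ) : Γ := (d.reverse.map X).prod

/-- the value of a list of tail variables -/
def ev (a : ℕ → ℕ → ℕ) (t : List (ℕ × ℕ)) : ℕ := (t.map fun p => a p.1 p.2).sum

theorem nfw_nil (X : ℕ → Γ) : nfw X [] = 1 := rfl

theorem nfw_cons (X : ℕ → Γ) (i : ℕ) (l : List ℕ) : nfw X (i :: l) = X i * nfw X l := by
  simp [nfw]

theorem nfw_append (X : ℕ → Γ) (l m : List ℕ) : nfw X (l ++ m) = nfw X l * nfw X m := by
  simp [nfw]

theorem val_nil (X : ℕ → Γ) : val X [] = 1 := rfl

theorem val_cons (X : ℕ → Γ) (j : ℕ) (d : List ℕ) : val X (j :: d) = val X d * X j := by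
  simp [val]

theorem val_eq_nfw (X : ℕ → Γ) (d : List ℕ) : val X d = nfw X d.reverse := rfl

theorem val_rev_append (X : ℕ → Γ) (l d : List ℕ) :
    val X (l.reverse ++ d) = val X d * nfw X l := by
  simp [val, nfw]

theorem ev_nil (a : ℕ → ℕ → ℕ) : ev a [] = 0 := rfl

theorem ev_cons (a : ℕ → ℕ → ℕ) (p : ℕ × ℕ) (t : List (ℕ × ℕ)) :
    ev a (p :: t) = a p.1 p.2 + ev a t := by
  simp [ev]

theorem ev_append (a : ℕ → ℕ → ℕ) (t u : List (ℕ × ℕ)) : ev a (t ++ u) = ev a t + ev a u := by
  simp [ev]

/-- the relations of the presentation hold up to powers of the central element `z` -/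
structure Rels (D : PcD) (X : ℕ → Γ) (z : Γ) (a : ℕ → ℕ → ℕ) : Prop where
  sq : ∀ i, X i * X i = nfw X (D.sq i) * z ^ a i i
  cm : ∀ i j, i < j → X j * X i = X i * X j * nfw X (D.cm i j) * z ^ a i j

variable {D : PcD} {X : ℕ → Γ} {z : Γ} {a : ℕ → ℕ → ℕ}

theorem foldO_sound (hzc : ∀ g : Γ, g * z = z * g) (f : St → ℕ → Option St)
    (hf : ∀ s i s', f s i = some s' →
      val X s.1 * X i * z ^ ev a s.2 = val X s'.1 * z ^ ev a s'.2) :
    ∀ (l : List ℕ) (s s' : St), foldO f l s = some s' →
      val X s.1 * nfw X l * z ^ ev a s.2 = val X s'.1 * z ^ ev a s'.2 := by
  intro l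
  induction l with
  | nil =>
    intro s s' h
    simp only [foldO, Option.some.injEq] at h
    rw [← h, nfw_nil, mul_one]
  | cons i l ih =>
    intro s s' h
    simp only [foldO] at h
    cases hfs : f s i with
    | none => rw [hfs] at h; exact absurd h (by simp)
    | some s1 =>
      rw [hfs] at h
      have h1 := hf s i s1 hfs
      have h2 := ih s1 s' h
      have hzn : ∀ (n : ℕ) (g : Γ), g * z ^ n = z ^ n * g := fun n g =>
        ((Commute.pow_right (hzc g) n)).eq
      calc val X s.1 * nfw X (i :: l) * z ^ ev a s.2
          = val X s.1 * X i * (nfw X l * z ^ ev a s.2) := by rw [nfw_cons]; group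
        _ = val X s.1 * X i * (z ^ ev a s.2 * nfw X l) := by rw [hzn]
        _ = (val X s.1 * X i * z ^ ev a s.2) * nfw X l := by group
        _ = (val X s1.1 * z ^ ev a s1.2) * nfw X l := by rw [h1]
        _ = val X s1.1 * (z ^ ev a s1.2 * nfw X l) := by group
        _ = val X s1.1 * (nfw X l * z ^ ev a s1.2) := by rw [← hzn]
        _ = val X s1.1 * nfw X l * z ^ ev a s1.2 := by group
        _ = val X s'.1 * z ^ ev a s'.2 := h2

theorem rmul_sound (R : Rels D X z a) (hzc : ∀ g : Γ, g * z = z * g) :
    ∀ (f : ℕ) (s : St) (i : ℕ) (s' : St), rmul D f s i = some s' →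
      val X s.1 * X i * z ^ ev a s.2 = val X s'.1 * z ^ ev a s'.2 := by
  have hzn : ∀ (n : ℕ) (g : Γ), g * z ^ n = z ^ n * g := fun n g =>
    ((Commute.pow_right (hzc g) n)).eq
  intro f
  induction f with
  | zero =>
    intro s i s' h
    simp [rmul] at h
  | succ f ih =>
    rintro ⟨d, t⟩ i s' h
    cases d with
    | nil =>
      simp only [rmul, Option.some.injEq] at h
      rw [← h]
      simp [val]
    | cons j d' =>
      simp only [rmul] at h
      by_cases hji : j < i
      · rw [if_pos hji] at h
        simp only [Option.some.injEq] at h
        rw [← h]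
        show val X (j :: d') * X i * z ^ ev a t = val X (i :: j :: d') * z ^ ev a t
        rw [val_cons X i]
      · rw [if_neg hji] at h
        by_cases hje : j = i
        · rw [if_pos hje] at h
          simp only [Option.some.injEq] at h
          rw [← h]
          subst hje
          show val X (j :: d') * X j * z ^ ev a t =
            val X ((D.sq j).reverse ++ d') * z ^ ev a ((j, j) :: t)
          rw [val_cons, val_rev_append, ev_cons, pow_add]
          calc val X d' * X j * X j * z ^ ev a t = val X d' * (X j * X j) * z ^ ev a t := by group
            _ = val X d' * (nfw X (D.sq j) * z ^ a j j) * z ^ ev a t := by rw [R.sq j]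
            _ = val X d' * nfw X (D.sq j) * (z ^ a j j * z ^ ev a t) := by group
        · rw [if_neg hje] at h
          have hij : i < j := by omega
          cases h1 : rmul D f (d', t) i with
          | none => rw [h1] at h; exact absurd h (by simp)
          | some s1 =>
            rw [h1] at h
            simp only at h
            cases h2 : rmul D f s1 j with
            | none => rw [h2] at h; exact absurd h (by simp)
            | some s2 =>
              rw [h2] at h
              simp only at h
              cases h3 : foldO (rmul D f) (D.cm i j) s2 with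
              | none => rw [h3] at h; exact absurd h (by simp)
              | some s3 =>
                rw [h3] at h
                obtain ⟨d3, t3⟩ := s3
                simp only [Option.some.injEq] at h
                rw [← h]
                have e1 := ih (d', t) i s1 h1
                have e2 := ih s1 j s2 h2
                have e3 := foldO_sound hzc (rmul D f) (fun s i s' => ih s i s') (D.cm i j) s2
                  (d3, t3) h3
                show val X (j :: d') * X i * z ^ ev a t = val X d3 * z ^ ev a ((i, j) :: t3)
                rw [val_cons, ev_cons, pow_add]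
                simp only at e1 e2 e3
                calc val X d' * X j * X i * z ^ ev a t
                    = val X d' * (X j * X i) * z ^ ev a t := by group
                  _ = val X d' * (X i * X j * nfw X (D.cm i j) * z ^ a i j) * z ^ ev a t := by
                      rw [R.cm i j hij]
                  _ = val X d' * X i * (X j * nfw X (D.cm i j) * z ^ a i j * z ^ ev a t) := by
                      group
                  _ = val X d' * X i * (z ^ ev a t * (X j * nfw X (D.cm i j) * z ^ a i j)) := by
                      rw [hzn]
                  _ = (val X d' * X i * z ^ ev a t) * (X j * nfw X (D.cm i j) * z ^ a i j) := by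
                      group
                  _ = (val X s1.1 * z ^ ev a s1.2) * (X j * nfw X (D.cm i j) * z ^ a i j) := by
                      rw [e1]
                  _ = val X s1.1 * (z ^ ev a s1.2 * X j) * (nfw X (D.cm i j) * z ^ a i j) := by
                      group
                  _ = val X s1.1 * (X j * z ^ ev a s1.2) * (nfw X (D.cm i j) * z ^ a i j) := by
                      rw [← hzn]
                  _ = (val X s1.1 * X j * z ^ ev a s1.2) * (nfw X (D.cm i j) * z ^ a i j) := by
                      group
                  _ = (val X s2.1 * z ^ ev a s2.2) * (nfw X (D.cm i j) * z ^ a i j) := by rw [e2]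
                  _ = val X s2.1 * (z ^ ev a s2.2 * nfw X (D.cm i j)) * z ^ a i j := by group
                  _ = val X s2.1 * (nfw X (D.cm i j) * z ^ ev a s2.2) * z ^ a i j := by
                      rw [← hzn]
                  _ = (val X s2.1 * nfw X (D.cm i j) * z ^ ev a s2.2) * z ^ a i j := by group
                  _ = (val X d3 * z ^ ev a t3) * z ^ a i j := by rw [e3]
                  _ = val X d3 * (z ^ ev a t3 * z ^ a i j) := by group
                  _ = val X d3 * (z ^ a i j * z ^ ev a t3) := by rw [← hzn]

theorem collect_sound (R : Rels D X z a) (hzc : ∀ g : Γ, g * z = z * g) (f : ℕ) (w : List ℕ)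
    (s : St) (h : collect D f w = some s) : nfw X w = val X s.1 * z ^ ev a s.2 := by
  have := foldO_sound hzc (rmul D f) (rmul_sound R hzc f) w ([], []) s h
  simpa [val_nil, ev_nil] using this

end sound

end Cfsg.Agent.Lib.Helper5.PcT
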