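import Mathlib
import Cfsg.Agent.Lib.Helper5.PcTA

set_option autoImplicit false

/-! Collection in a polycyclic presentation of a group of prime power order, for an arbitrary prime,
with symbolic central tails.  The field `sq` of the presentation data is read as the word of the
`p`-th power of a generator. -/

namespace Cfsg.Agent.Lib.Helper5.PcP

open Subgroup Cfsg.Agent.Lib.Helper5.PcT

/-- right multiplication of a collected word by a generator, with fuel; `p` is the prime -/
def rmulP (p : ℕ) (D : PcD) : ℕ → St → ℕ → Option St
  | 0, _, _ => none
  | f + 1, (d, t), i =>
    match d with
    | [] => some ([i], t)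
    | j :: d' =>
      if j < i then some (i :: j :: d', t)
      else if j = i then
        (if (j :: d').take (p - 1) = List.replicate (p - 1) i then
          some ((D.sq i).reverse ++ (j :: d').drop (p - 1), (i, i) :: t)
        else some (i :: j :: d', t))
      else
        match rmulP p D f (d', t) i with
        | none => none
        | some s1 =>
          match rmulP p D f s1 j with
          | none => none
          | some s2 =>
            match foldO (rmulP p D f) (D.cm i j) s2 with
            | none => none
            | some (d3, t3) => some (d3, (i, j) :: t3)

/-- collection of a word -/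
def collectP (p : ℕ) (D : PcD) (f : ℕ) (w : List ℕ) : Option St :=
  foldO (rmulP p D f) w ([], [])

section sound

variable {Γ : Type*} [Group Γ]

/-- the relations of the presentation hold up to powers of the central element `z` -/
structure RelsP (p : ℕ) (D : PcD) (X : ℕ → Γ) (z : Γ) (a : ℕ → ℕ → ℕ) : Prop where
  pw : ∀ i, X i ^ p = nfw X (D.sq i) * z ^ a i i
  cm : ∀ i j, i < j → X j * X i = X i * X j * nfw X (D.cm i j) * z ^ a i j

variable {p : ℕ} {D : PcD} {X : ℕ → Γ} {z : Γ} {a : ℕ → ℕ → ℕ}

theorem val_replicate_append (X : ℕ → Γ) (n i : ℕ) (d : List ℕ) :
    val X (List.replicate n i ++ d) = val X d * X i ^ n := by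
  induction n with
  | zero => simp
  | succ n ih =>
    rw [List.replicate_succ, List.cons_append, val_cons, ih, pow_succ, mul_assoc]

theorem rmulP_sound (hp : 1 ≤ p) (R : RelsP p D X z a) (hzc : ∀ g : Γ, g * z = z * g) :
    ∀ (f : ℕ) (s : St) (i : ℕ) (s' : St), rmulP p D f s i = some s' →
      val X s.1 * X i * z ^ ev a s.2 = val X s'.1 * z ^ ev a s'.2 := by
  have hzn : ∀ (n : ℕ) (g : Γ), g * z ^ n = z ^ n * g := fun n g =>
    ((Commute.pow_right (hzc g) n)).eq
  intro f
  induction f with
  | zero =>
    intro s i s' h
    simp [rmulP] at h
  | succ f ih =>
    rintro ⟨d, t⟩ i s' h
    cases d with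
    | nil =>
      simp only [rmulP, Option.some.injEq] at h
      rw [← h]
      simp [val]
    | cons j d' =>
      simp only [rmulP] at h
      by_cases hji : j < i
      · rw [if_pos hji] at h
        simp only [Option.some.injEq] at h
        rw [← h]
        show val X (j :: d') * X i * z ^ ev a t = val X (i :: j :: d') * z ^ ev a t
        rw [val_cons X i]
      · rw [if_neg hji] at h
        by_cases hje : j = i
        · rw [if_pos hje] at h
          by_cases htk : (j :: d').take (p - 1) = List.replicate (p - 1) i
          · rw [if_pos htk] at h
            simp only [Option.some.injEq] at h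
            rw [← h]
            show val X (j :: d') * X i * z ^ ev a t =
              val X ((D.sq i).reverse ++ (j :: d').drop (p - 1)) * z ^ ev a ((i, i) :: t)
            rw [val_rev_append, ev_cons, pow_add]
            have hsplit : (j :: d') = List.replicate (p - 1) i ++ (j :: d').drop (p - 1) := by
              conv_lhs => rw [← List.take_append_drop (p - 1) (j :: d'), htk]
            have e1 : val X (j :: d') = val X ((j :: d').drop (p - 1)) * X i ^ (p - 1) := by
              conv_lhs => rw [hsplit]
              rw [val_replicate_append]
            have e2 : X i ^ (p - 1) * X i = X i ^ p := by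
              rw [← pow_succ]
              congr 1
              omega
            calc val X (j :: d') * X i * z ^ ev a t
                = val X ((j :: d').drop (p - 1)) * (X i ^ (p - 1) * X i) * z ^ ev a t := by
                  rw [e1]; group
              _ = val X ((j :: d').drop (p - 1)) * (nfw X (D.sq i) * z ^ a i i) * z ^ ev a t := by
                  rw [e2, R.pw i]
              _ = val X ((j :: d').drop (p - 1)) * nfw X (D.sq i) * (z ^ a i i * z ^ ev a t) := by
                  group
          · rw [if_neg htk] at h
            simp only [Option.some.injEq] at h
            rw [← h]
            show val X (j :: d') * X i * z ^ ev a t = val X (i :: j :: d') * z ^ ev a t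
            rw [val_cons X i]
        · rw [if_neg hje] at h
          have hij : i < j := by omega
          cases h1 : rmulP p D f (d', t) i with
          | none => rw [h1] at h; exact absurd h (by simp)
          | some s1 =>
            rw [h1] at h
            simp only at h
            cases h2 : rmulP p D f s1 j with
            | none => rw [h2] at h; exact absurd h (by simp)
            | some s2 =>
              rw [h2] at h
              simp only at h
              cases h3 : foldO (rmulP p D f) (D.cm i j) s2 with
              | none => rw [h3] at h; exact absurd h (by simp)
              | some s3 =>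
                rw [h3] at h
                obtain ⟨d3, t3⟩ := s3
                simp only [Option.some.injEq] at h
                rw [← h]
                have e1 := ih (d', t) i s1 h1
                have e2 := ih s1 j s2 h2
                have e3 := foldO_sound hzc (rmulP p D f) (fun s i s' => ih s i s') (D.cm i j) s2
                  (d3, t3) h3
                show val X (j :: d') * X i * z ^ ev a t = val X d3 * z ^ ev a ((i, j) :: t3)
                rw [val_cons, ev_cons, pow_add]
                simp only at e1 e2 e3
                calc val X d' * X j * X i * z ^ ev a t
                    = val X d' * (X j * X i) * z ^ ev a t := by group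
                  _ = val X d' * (X i * X j * nfw X (D.cm i j) * z ^ a i j) * z ^ ev a t := by
                      rw [R.cm i j hij]
                  _ = val X d' * X i * (X j * nfw X (D.cm i j) * z ^ a i j * z ^ ev a t) := by
                      group
                  _ = val X d' * X i * (z ^ ev a t * (X j * nfw X (D.cm i j) * z ^ a i j)) := by
                      rw [hzn]
                  _ = (val X d' * X i * z ^ ev a t) * (X j * nfw X (D.cm i j) * z ^ a i j) := by
                      group
                  _ = (val X s1.1 * z ^ ev a s1.2) * (X j * nfw X (D.cm i j) * z ^ a i j) := by
                      rw [e1]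
                  _ = val X s1.1 * (z ^ ev a s1.2 * X j) * (nfw X (D.cm i j) * z ^ a i j) := by
                      group
                  _ = val X s1.1 * (X j * z ^ ev a s1.2) * (nfw X (D.cm i j) * z ^ a i j) := by
                      rw [← hzn]
                  _ = (val X s1.1 * X j * z ^ ev a s1.2) * (nfw X (D.cm i j) * z ^ a i j) := by
                      group
                  _ = (val X s2.1 * z ^ ev a s2.2) * (nfw X (D.cm i j) * z ^ a i j) := by rw [e2]
                  _ = val X s2.1 * (z ^ ev a s2.2 * nfw X (D.cm i j)) * z ^ a i j := by group
                  _ = val X s2.1 * (nfw X (D.cm i j) * z ^ ev a s2.2) * z ^ a i j := by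
                      rw [← hzn]
                  _ = (val X s2.1 * nfw X (D.cm i j) * z ^ ev a s2.2) * z ^ a i j := by group
                  _ = (val X d3 * z ^ ev a t3) * z ^ a i j := by rw [e3]
                  _ = val X d3 * (z ^ ev a t3 * z ^ a i j) := by group
                  _ = val X d3 * (z ^ a i j * z ^ ev a t3) := by rw [← hzn]

theorem collectP_sound (hp : 1 ≤ p) (R : RelsP p D X z a) (hzc : ∀ g : Γ, g * z = z * g) (f : ℕ)
    (w : List ℕ) (s : St) (h : collectP p D f w = some s) :
    nfw X w = val X s.1 * z ^ ev a s.2 := by
  have := foldO_sound hzc (rmulP p D f) (rmulP_sound hp R hzc f) w ([], []) s h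
  simpa [val_nil, ev_nil] using this

end sound

end Cfsg.Agent.Lib.Helper5.PcP
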