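import Mathlib
import Cfsg.Agent.Lib.Helper5.StemB

set_option autoImplicit false

namespace Cfsg.Agent.Lib.Helper5.Stem

open Subgroup

section Norm3

variable {X : Type*} [Group X]

/-- the norm map of an element `κ` (of order three) -/
def nrm3 (κ a : X) : X := a * (κ * a * κ⁻¹) * (κ * (κ * a * κ⁻¹) * κ⁻¹)

theorem nrm3_mul (A : Subgroup X) (hA : ∀ a ∈ A, ∀ b ∈ A, a * b = b * a) (κ : X)
    (hκ : ∀ a ∈ A, κ * a * κ⁻¹ ∈ A) {a b : X} (ha : a ∈ A) (hb : b ∈ A) :
    nrm3 κ (a * b) = nrm3 κ a * nrm3 κ b := by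
  unfold nrm3
  have e1 : κ * (a * b) * κ⁻¹ = (κ * a * κ⁻¹) * (κ * b * κ⁻¹) := by group
  have e2 : κ * (κ * (a * b) * κ⁻¹) * κ⁻¹ =
      (κ * (κ * a * κ⁻¹) * κ⁻¹) * (κ * (κ * b * κ⁻¹) * κ⁻¹) := by group
  rw [e2, e1]
  set a1 := κ * a * κ⁻¹ with ha1
  set b1 := κ * b * κ⁻¹ with hb1
  set a2 := κ * a1 * κ⁻¹ with ha2
  set b2 := κ * b1 * κ⁻¹ with hb2
  have ma1 : a1 ∈ A := hκ a ha
  have mb1 : b1 ∈ A := hκ b hb
  have ma2 : a2 ∈ A := hκ a1 ma1
  have mb2 : b2 ∈ A := hκ b1 mb1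
  have c1 : b * a1 = a1 * b := hA b hb a1 ma1
  have c2 : b * a2 = a2 * b := hA b hb a2 ma2
  have c3 : b1 * a2 = a2 * b1 := hA b1 mb1 a2 ma2
  calc a * b * (a1 * b1) * (a2 * b2) = a * (b * a1) * b1 * a2 * b2 := by group
    _ = a * (a1 * b) * b1 * a2 * b2 := by rw [c1]
    _ = a * a1 * b * (b1 * a2) * b2 := by group
    _ = a * a1 * b * (a2 * b1) * b2 := by rw [c3]
    _ = a * a1 * (b * a2) * b1 * b2 := by group
    _ = a * a1 * (a2 * b) * b1 * b2 := by rw [c2]
    _ = a * a1 * a2 * (b * b1 * b2) := by group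

theorem nrm3_one (κ : X) : nrm3 κ 1 = 1 := by
  unfold nrm3; group

/-- the norm with respect to `κ²` equals the norm with respect to `κ` -/
theorem nrm3_sq (A : Subgroup X) (hA : ∀ a ∈ A, ∀ b ∈ A, a * b = b * a) (κ : X)
    (hκ : ∀ a ∈ A, κ * a * κ⁻¹ ∈ A) (hκ3 : κ * κ * κ = 1) {a : X} (ha : a ∈ A) :
    nrm3 (κ * κ) a = nrm3 κ a := by
  unfold nrm3
  have hinv : κ⁻¹ = κ * κ := by
    rw [inv_eq_iff_mul_eq_one]
    rw [← hκ3]; group
  have e1 : κ * κ * a * (κ * κ)⁻¹ = κ * (κ * a * κ⁻¹) * κ⁻¹ := by group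
  have e2 : κ * κ * (κ * κ * a * (κ * κ)⁻¹) * (κ * κ)⁻¹ = κ * a * κ⁻¹ := by
    calc κ * κ * (κ * κ * a * (κ * κ)⁻¹) * (κ * κ)⁻¹
        = (κ * κ * κ) * κ * a * κ⁻¹ * (κ * κ * κ)⁻¹ := by group
      _ = κ * a * κ⁻¹ := by rw [hκ3]; group
  rw [e2, e1]
  have ma1 : κ * a * κ⁻¹ ∈ A := hκ a ha
  have ma2 : κ * (κ * a * κ⁻¹) * κ⁻¹ ∈ A := hκ _ ma1
  calc a * (κ * (κ * a * κ⁻¹) * κ⁻¹) * (κ * a * κ⁻¹)
      = a * ((κ * (κ * a * κ⁻¹) * κ⁻¹) * (κ * a * κ⁻¹)) := by group
    _ = a * ((κ * a * κ⁻¹) * (κ * (κ * a * κ⁻¹) * κ⁻¹)) := by rw [hA _ ma2 _ ma1]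
    _ = a * (κ * a * κ⁻¹) * (κ * (κ * a * κ⁻¹) * κ⁻¹) := by group

end Norm3

variable {Γ G : Type*} [Group Γ] [Group G] {σ : Γ →* G}

/-- the preimage of a subgroup generated by commuting involutions all of whose pairwise products
lift to involutions is elementary abelian -/
theorem comap_closure_elem (hsurj : Function.Surjective σ) {z : Γ} (hK : Ker2 σ z) (S : Set G)
    (hS2 : ∀ a ∈ S, a * a = 1)
    (hSQ : ∀ a ∈ S, QInv σ a) (hSQ2 : ∀ a ∈ S, ∀ b ∈ S, QInv σ (a * b)) :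
    (∀ x ∈ (closure S).comap σ, x * x = 1) ∧
      (∀ x ∈ (closure S).comap σ, ∀ y ∈ (closure S).comap σ, x * y = y * x) := by
  obtain ⟨hz1, hz2, hσz, hw, hzc⟩ := hK
  set T : Set Γ := σ ⁻¹' S ∪ (σ.ker : Set Γ) with hT
  have hcomap : (closure S).comap σ = closure T := by
    have h1 : (closure (σ ⁻¹' S)).map σ = closure S := by
      rw [MonoidHom.map_closure, Set.image_preimage_eq S hsurj]
    rw [← h1, Subgroup.comap_map_eq, hT, Subgroup.closure_union, Subgroup.closure_eq]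
  have hT2 : ∀ x ∈ T, x * x = 1 := by
    intro x hx
    rcases hx with hx | hx
    · exact hSQ _ hx x rfl
    · rcases hw x hx with h | h
      · rw [h, one_mul]
      · rw [h, hz2]
  have hTc : ∀ x ∈ T, ∀ y ∈ T, x * y = y * x := by
    intro x hx y hy
    rcases hx with hx | hx
    · rcases hy with hy | hy
      · have h1 : (x * y) * (x * y) = 1 := hSQ2 _ hx _ hy (x * y) (by rw [map_mul])
        have hx2 := hT2 x (Or.inl hx)
        have hy2 := hT2 y (Or.inl hy)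
        calc x * y = x * ((x * y) * (x * y)) * y := by rw [h1, mul_one]
          _ = (x * x) * y * x * (y * y) := by group
          _ = y * x := by rw [hx2, hy2, one_mul, mul_one]
      · rcases hw y hy with h | h
        · rw [h, one_mul, mul_one]
        · rw [h, hzc x]
    · rcases hw x hx with h | h
      · rw [h, one_mul, mul_one]
      · rw [h, hzc y]
  rw [hcomap]
  have hcomm : ∀ x ∈ closure T, ∀ y ∈ closure T, x * y = y * x := by
    intro x hx y hy
    have := Subgroup.isMulCommutative_closure hTc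
    exact setLike_mul_comm hx hy
  refine ⟨?_, hcomm⟩
  intro x hx
  induction hx using Subgroup.closure_induction with
  | mem x hx => exact hT2 x hx
  | one => rw [one_mul]
  | mul x y hx hy ihx ihy =>
    calc x * y * (x * y) = x * (y * x) * y := by group
      _ = x * (x * y) * y := by rw [hcomm y hy x hx]
      _ = (x * x) * (y * y) := by group
      _ = 1 := by rw [ihx, ihy, one_mul]
  | inv x hx ih =>
    calc x⁻¹ * x⁻¹ = (x * x)⁻¹ := by group
      _ = 1 := by rw [ih, inv_one]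

/-- same statement downstairs -/
theorem closure_elem (S : Set G) (hS2 : ∀ a ∈ S, a * a = 1)
    (hSc : ∀ a ∈ S, ∀ b ∈ S, a * b = b * a) :
    (∀ x ∈ closure S, x * x = 1) ∧ (∀ x ∈ closure S, ∀ y ∈ closure S, x * y = y * x) := by
  have hcomm : ∀ x ∈ closure S, ∀ y ∈ closure S, x * y = y * x := by
    intro x hx y hy
    have := Subgroup.isMulCommutative_closure hSc
    exact setLike_mul_comm hx hy
  refine ⟨?_, hcomm⟩
  intro x hx
  induction hx using Subgroup.closure_induction with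
  | mem x hx => exact hS2 x hx
  | one => rw [one_mul]
  | mul x y hx hy ihx ihy =>
    calc x * y * (x * y) = x * (y * x) * y := by group
      _ = x * (x * y) * y := by rw [hcomm y hy x hx]
      _ = (x * x) * (y * y) := by group
      _ = 1 := by rw [ihx, ihy, one_mul]
  | inv x hx ih =>
    calc x⁻¹ * x⁻¹ = (x * x)⁻¹ := by group
      _ = 1 := by rw [ih, inv_one]

theorem conj_mem_closure_of_gens (S : Set G) (k : G) (hkS : ∀ a ∈ S, k * a * k⁻¹ ∈ closure S) :
    ∀ e ∈ closure S, k * e * k⁻¹ ∈ closure S := by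
  intro e he
  induction he using Subgroup.closure_induction with
  | mem x hx => exact hkS x hx
  | one => simp
  | mul x y _ _ ihx ihy =>
    have : k * (x * y) * k⁻¹ = (k * x * k⁻¹) * (k * y * k⁻¹) := by group
    rw [this]; exact mul_mem ihx ihy
  | inv x _ ih =>
    have : k * x⁻¹ * k⁻¹ = (k * x * k⁻¹)⁻¹ := by group
    rw [this]; exact inv_mem ih

end Cfsg.Agent.Lib.Helper5.Stem
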