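import Mathlib
import Cfsg.Agent.Lib.Helper5.StemC

set_option autoImplicit false

namespace Cfsg.Agent.Lib.Helper5.Stem

open Subgroup
open scoped Pointwise

variable {Γ G : Type*} [Group Γ] [Group G] {σ : Γ →* G}

theorem nrm3_central {X : Type*} [Group X] (κ w a : X) (hw : ∀ g : X, g * w = w * g) :
    nrm3 (κ * w) a = nrm3 κ a := by
  have h1 : ∀ b : X, κ * w * b * (κ * w)⁻¹ = κ * b * κ⁻¹ := by
    intro b
    calc κ * w * b * (κ * w)⁻¹ = κ * (w * b) * w⁻¹ * κ⁻¹ := by group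
      _ = κ * (b * w) * w⁻¹ * κ⁻¹ := by rw [hw b]
      _ = κ * b * κ⁻¹ := by group
  unfold nrm3
  rw [h1, h1]

theorem nrm3_conj {X : Type*} [Group X] (κ d a : X) :
    nrm3 κ (d * a * d⁻¹) = d * nrm3 (d⁻¹ * κ * d) a * d⁻¹ := by
  unfold nrm3; group

theorem map_nrm3 (κ a : Γ) : σ (nrm3 κ a) = nrm3 (σ κ) (σ a) := by
  unfold nrm3
  simp only [map_mul, map_inv]

theorem exists_lift_cube (hsurj : Function.Surjective σ) {z : Γ} (hK : Ker2 σ z) (k : G)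
    (hk3 : k * k * k = 1) : ∃ K : Γ, σ K = k ∧ K * K * K = 1 := by
  obtain ⟨hz1, hz2, hσz, hw, hzc⟩ := hK
  obtain ⟨K0, hK0⟩ := hsurj k
  rcases hw (K0 * K0 * K0) (by rw [map_mul, map_mul, hK0, hk3]) with h | h
  · exact ⟨K0, hK0, h⟩
  · refine ⟨K0 * z, by rw [map_mul, hK0, hσz, mul_one], ?_⟩
    calc K0 * z * (K0 * z) * (K0 * z) = K0 * (z * K0) * (z * K0) * z := by group
      _ = K0 * (K0 * z) * (K0 * z) * z := by rw [hzc K0]
      _ = K0 * K0 * (z * K0) * z * z := by group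
      _ = K0 * K0 * (K0 * z) * z * z := by rw [hzc K0]
      _ = (K0 * K0 * K0) * (z * z) * z := by group
      _ = 1 := by rw [h, hz2, mul_one, hz2]

/-- the canonical complement to `⟨z⟩` in the preimage of an elementary abelian `2`-group on which an
element of order three acts without fixed points -/
theorem exists_compl (hsurj : Function.Surjective σ) {z : Γ} (hK : Ker2 σ z) (S : Set G)
    (hS2 : ∀ a ∈ S, a * a = 1) (hSc : ∀ a ∈ S, ∀ b ∈ S, a * b = b * a)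
    (hSQ : ∀ a ∈ S, QInv σ a) (hSQ2 : ∀ a ∈ S, ∀ b ∈ S, QInv σ (a * b))
    (k : G) (hk3 : k * k * k = 1) (hkS : ∀ a ∈ S, k * a * k⁻¹ ∈ closure S)
    (hkN : ∀ a ∈ S, nrm3 k a = 1) :
    ∃ (E₁ : Subgroup Γ) (K : Γ), σ K = k ∧ K * K * K = 1 ∧
      (∀ x, x ∈ E₁ ↔ σ x ∈ closure S ∧ nrm3 K x = 1) ∧ z ∉ E₁ ∧
      (∀ x, σ x ∈ closure S → x ∈ E₁ ∨ x * z ∈ E₁) := by
  have hK' := hK
  obtain ⟨hz1, hz2, hσz, hw, hzc⟩ := hK
  obtain ⟨K, hKk, hK3⟩ := exists_lift_cube hsurj hK' k hk3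
  obtain ⟨hE2, hEc⟩ := comap_closure_elem hsurj hK' S hS2 hSQ hSQ2
  obtain ⟨hG2, hGc⟩ := closure_elem S hS2 hSc
  have hkE := conj_mem_closure_of_gens S k hkS
  set Et : Subgroup Γ := (closure S).comap σ with hEt
  have hKE : ∀ a ∈ Et, K * a * K⁻¹ ∈ Et := by
    intro a ha
    show σ (K * a * K⁻¹) ∈ closure S
    rw [map_mul, map_mul, map_inv, hKk]
    exact hkE _ ha
  -- the norm is trivial downstairs
  have hN1 : ∀ e ∈ closure S, nrm3 k e = 1 := by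
    intro e he
    induction he using Subgroup.closure_induction with
    | mem x hx => exact hkN x hx
    | one => exact nrm3_one k
    | mul x y hx hy ihx ihy =>
      rw [nrm3_mul (closure S) hGc k hkE hx hy, ihx, ihy, one_mul]
    | inv x hx ih =>
      have : x⁻¹ = x := by
        rw [inv_eq_iff_mul_eq_one]; exact hG2 x hx
      rw [this, ih]
  have hNker : ∀ x ∈ Et, nrm3 K x = 1 ∨ nrm3 K x = z := by
    intro x hx
    apply hw
    rw [map_nrm3, hKk]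
    exact hN1 _ hx
  have hNz : nrm3 K z = z := by
    have h1 : ∀ b : Γ, b * z * b⁻¹ = z := by
      intro b
      rw [hzc b]; group
    unfold nrm3
    rw [h1, h1, hz2, one_mul]
  have hzE : z ∈ Et := by
    show σ z ∈ closure S
    rw [hσz]; exact one_mem _
  let E₁ : Subgroup Γ :=
    { carrier := {x | σ x ∈ closure S ∧ nrm3 K x = 1}
      one_mem' := ⟨by rw [map_one]; exact one_mem _, nrm3_one K⟩
      mul_mem' := by
        rintro a b ⟨ha, hna⟩ ⟨hb, hnb⟩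
        refine ⟨by rw [map_mul]; exact mul_mem ha hb, ?_⟩
        rw [nrm3_mul Et hEc K hKE ha hb, hna, hnb, one_mul]
      inv_mem' := by
        rintro a ⟨ha, hna⟩
        have : a⁻¹ = a := by
          rw [inv_eq_iff_mul_eq_one]; exact hE2 a ha
        rw [this]
        exact ⟨ha, hna⟩ }
  refine ⟨E₁, K, hKk, hK3, fun x => Iff.rfl, ?_, ?_⟩
  · rintro ⟨_, h⟩
    rw [hNz] at h
    exact hz1 h
  · intro x hx
    rcases hNker x hx with h | h
    · left; exact ⟨hx, h⟩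
    · right
      refine ⟨by rw [map_mul, hσz, mul_one]; exact hx, ?_⟩
      rw [nrm3_mul Et hEc K hKE hx hzE, h, hNz, hz2]

/-- lifts of elements normalising `E` and `⟨k⟩` normalise the complement -/
theorem compl_conj_mem (hsurj : Function.Surjective σ) {z : Γ} (hK : Ker2 σ z) (S : Set G)
    (hS2 : ∀ a ∈ S, a * a = 1)
    (hSQ : ∀ a ∈ S, QInv σ a) (hSQ2 : ∀ a ∈ S, ∀ b ∈ S, QInv σ (a * b))
    (k : G) (hkS : ∀ a ∈ S, k * a * k⁻¹ ∈ closure S)
    (E₁ : Subgroup Γ) (K : Γ) (hKk : σ K = k) (hK3 : K * K * K = 1)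
    (hE₁ : ∀ x, x ∈ E₁ ↔ σ x ∈ closure S ∧ nrm3 K x = 1)
    (d : Γ) (hdS : ∀ e ∈ closure S, σ d * e * (σ d)⁻¹ ∈ closure S)
    (hdk : (σ d)⁻¹ * k * σ d = k ∨ (σ d)⁻¹ * k * σ d = k * k) :
    ∀ x ∈ E₁, d * x * d⁻¹ ∈ E₁ := by
  have hK' := hK
  obtain ⟨hz1, hz2, hσz, hw, hzc⟩ := hK
  obtain ⟨hE2, hEc⟩ := comap_closure_elem hsurj hK' S hS2 hSQ hSQ2
  have hkE := conj_mem_closure_of_gens S k hkS
  set Et : Subgroup Γ := (closure S).comap σ with hEt
  have hKE : ∀ a ∈ Et, K * a * K⁻¹ ∈ Et := by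
    intro a ha
    show σ (K * a * K⁻¹) ∈ closure S
    rw [map_mul, map_mul, map_inv, hKk]
    exact hkE _ ha
  have hcen : ∀ w : Γ, σ w = 1 → ∀ g : Γ, g * w = w * g := by
    intro w hw1 g
    rcases hw w hw1 with h | h
    · rw [h, one_mul, mul_one]
    · rw [h]; exact hzc g
  intro x hx
  obtain ⟨hxS, hxN⟩ := (hE₁ x).mp hx
  rw [hE₁]
  refine ⟨by rw [map_mul, map_mul, map_inv]; exact hdS _ hxS, ?_⟩
  rw [nrm3_conj]
  have key : nrm3 (d⁻¹ * K * d) x = 1 := by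
    rcases hdk with h | h
    · -- d⁻¹ K d = K w
      have hw1 : σ (K⁻¹ * (d⁻¹ * K * d)) = 1 := by
        rw [map_mul, map_inv, map_mul, map_mul, map_inv, hKk, h, inv_mul_cancel]
      have e : d⁻¹ * K * d = K * (K⁻¹ * (d⁻¹ * K * d)) := by group
      rw [e, nrm3_central K _ x (hcen _ hw1), hxN]
    · have hw1 : σ ((K * K)⁻¹ * (d⁻¹ * K * d)) = 1 := by
        rw [map_mul, map_inv, map_mul, map_mul, map_mul, map_inv, hKk, h, inv_mul_cancel]
      have e : d⁻¹ * K * d = (K * K) * ((K * K)⁻¹ * (d⁻¹ * K * d)) := by group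
      rw [e, nrm3_central (K * K) _ x (hcen _ hw1), nrm3_sq Et hEc K hKE hK3 hxS, hxN]
  rw [key]; group

end Cfsg.Agent.Lib.Helper5.Stem
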