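import Mathlib
import Cfsg.Agent.Lib.Helper5.StemD

set_option autoImplicit false

namespace Cfsg.Agent.Lib.Helper5.Stem

open Subgroup
open scoped Pointwise commutatorElement

variable {Γ G : Type*} [Group Γ] [Group G] {σ : Γ →* G}

/-- the splitting criterion: `P ≤ E ⊔ D` with `E` elementary abelian (generated by `S`) all of whose
involutions lift to involutions, an element `k` of order three acting fixed point freely on `E`,
`D` normalising `E` and `⟨k⟩` and lifting isomorphically to `D₁`. Then the kernel of order two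
meets the derived group of the preimage of `P` trivially. -/
theorem comm_comap_trivial_of_split [Finite Γ] (hsurj : Function.Surjective σ) {z : Γ}
    (hK : Ker2 σ z) (S : Set G)
    (hS2 : ∀ a ∈ S, a * a = 1) (hSc : ∀ a ∈ S, ∀ b ∈ S, a * b = b * a)
    (hSQ : ∀ a ∈ S, QInv σ a) (hSQ2 : ∀ a ∈ S, ∀ b ∈ S, QInv σ (a * b))
    (k : G) (hk3 : k * k * k = 1) (hkS : ∀ a ∈ S, k * a * k⁻¹ ∈ closure S)
    (hkN : ∀ a ∈ S, nrm3 k a = 1)
    (D : Subgroup G) (hDS : ∀ d ∈ D, ∀ e ∈ closure S, d * e * d⁻¹ ∈ closure S)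
    (hDk : ∀ d ∈ D, d⁻¹ * k * d = k ∨ d⁻¹ * k * d = k * k)
    (D₁ : Subgroup Γ) (hD₁σ : ∀ x ∈ D₁, σ x ∈ D) (hDle : D ≤ D₁.map σ)
    (n m : ℕ) (hn : Nat.card (closure S) ≤ n) (hm : Nat.card D₁ ≤ m)
    (P : Subgroup G) (hPle : P ≤ closure S ⊔ D) (hPcard : n * m ≤ Nat.card P) :
    ∀ w ∈ ⁅P.comap σ, P.comap σ⁆, σ w = 1 → w = 1 := by
  classical
  haveI : Finite G := Finite.of_surjective σ hsurj
  have hK' := hK
  obtain ⟨hz1, hz2, hσz, hw, hzc⟩ := hK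
  obtain ⟨E₁, K, hKk, hK3, hE₁, hzE₁, hE₁or⟩ :=
    exists_compl hsurj hK' S hS2 hSc hSQ hSQ2 k hk3 hkS hkN
  have hnorm : D₁ ≤ normalizer (E₁ : Set Γ) := by
    intro d hd
    apply Subgroup.mem_normalizer_fintype
    intro x hx
    exact compl_conj_mem hsurj hK' S hS2 hSQ hSQ2 k hkS E₁ K hKk hK3 hE₁ d
      (hDS _ (hD₁σ d hd)) (hDk _ (hD₁σ d hd)) x hx
  set P₁ : Subgroup Γ := D₁ ⊔ E₁ with hP₁
  -- cardinality of E₁
  have hcE : Nat.card E₁ ≤ Nat.card (closure S) := by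
    let f : E₁ → closure S := fun x => ⟨σ x, ((hE₁ x).mp x.2).1⟩
    apply Nat.card_le_card_of_injective f
    intro x y hxy
    have h1 : σ (x : Γ) = σ (y : Γ) := congrArg Subtype.val hxy
    have h2 : σ ((x : Γ)⁻¹ * y) = 1 := by rw [map_mul, map_inv, h1, inv_mul_cancel]
    rcases hw _ h2 with h | h
    · apply Subtype.ext
      exact inv_mul_eq_one.mp h
    · exfalso
      apply hzE₁
      rw [← h]
      exact E₁.mul_mem (E₁.inv_mem x.2) y.2
  have hcP₁ : Nat.card P₁ ≤ n * m := by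
    have h1 : ((P₁ : Subgroup Γ) : Set Γ) = (D₁ : Set Γ) * (E₁ : Set Γ) :=
      Subgroup.coe_mul_of_left_le_normalizer_right D₁ E₁ hnorm
    have h2 : Nat.card P₁ = Nat.card ((D₁ : Set Γ) * (E₁ : Set Γ) : Set Γ) := by
      rw [← h1]; rfl
    rw [h2]
    calc Nat.card ((D₁ : Set Γ) * (E₁ : Set Γ) : Set Γ)
        ≤ Nat.card (D₁ : Set Γ) * Nat.card (E₁ : Set Γ) := Set.natCard_mul_le
      _ ≤ m * n := Nat.mul_le_mul hm (hcE.trans hn)
      _ = n * m := mul_comm _ _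
  -- every element of the preimage of P is in P₁ · ker
  have hdec : ∀ x : Γ, σ x ∈ P → ∃ y ∈ P₁, σ (y⁻¹ * x) = 1 := by
    intro x hx
    have h1 : closure S ≤ E₁.map σ := by
      intro e he
      obtain ⟨x, rfl⟩ := hsurj e
      rcases hE₁or x he with h | h
      · exact ⟨x, h, rfl⟩
      · exact ⟨x * z, h, by rw [map_mul, hσz, mul_one]⟩
    have h2 : closure S ⊔ D ≤ P₁.map σ := by
      rw [hP₁, Subgroup.map_sup]
      exact sup_le (h1.trans le_sup_right) (hDle.trans le_sup_left)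
    obtain ⟨y, hy, hyx⟩ := h2 (hPle hx)
    exact ⟨y, hy, by rw [map_mul, map_inv, hyx, inv_mul_cancel]⟩
  have hcen : ∀ w : Γ, σ w = 1 → ∀ g : Γ, g * w = w * g := by
    intro w hw1 g
    rcases hw w hw1 with h | h
    · rw [h, one_mul, mul_one]
    · rw [h]; exact hzc g
  have hcomm : ⁅P.comap σ, P.comap σ⁆ ≤ P₁ := by
    rw [Subgroup.commutator_le]
    intro g₁ hg₁ g₂ hg₂
    obtain ⟨y₁, hy₁, hw₁⟩ := hdec g₁ hg₁
    obtain ⟨y₂, hy₂, hw₂⟩ := hdec g₂ hg₂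
    have c₁ := hcen _ hw₁
    have c₂ := hcen _ hw₂
    set w₁ := y₁⁻¹ * g₁ with hw₁d
    set w₂ := y₂⁻¹ * g₂ with hw₂d
    have e₁ : g₁ = y₁ * w₁ := by rw [hw₁d]; group
    have e₂ : g₂ = y₂ * w₂ := by rw [hw₂d]; group
    have : ⁅g₁, g₂⁆ = ⁅y₁, y₂⁆ := by
      rw [e₁, e₂, commutatorElement_def, commutatorElement_def]
      calc y₁ * w₁ * (y₂ * w₂) * (y₁ * w₁)⁻¹ * (y₂ * w₂)⁻¹
          = y₁ * (w₁ * y₂) * w₂ * w₁⁻¹ * y₁⁻¹ * w₂⁻¹ * y₂⁻¹ := by group
        _ = y₁ * (y₂ * w₁) * w₂ * w₁⁻¹ * y₁⁻¹ * w₂⁻¹ * y₂⁻¹ := by rw [← c₁ y₂]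
        _ = y₁ * y₂ * (w₁ * w₂) * w₁⁻¹ * y₁⁻¹ * w₂⁻¹ * y₂⁻¹ := by group
        _ = y₁ * y₂ * (w₂ * w₁) * w₁⁻¹ * y₁⁻¹ * w₂⁻¹ * y₂⁻¹ := by rw [c₂ w₁]
        _ = y₁ * y₂ * (w₂ * y₁⁻¹) * w₂⁻¹ * y₂⁻¹ := by group
        _ = y₁ * y₂ * (y₁⁻¹ * w₂) * w₂⁻¹ * y₂⁻¹ := by rw [← c₂ y₁⁻¹]
        _ = y₁ * y₂ * y₁⁻¹ * y₂⁻¹ := by group
    rw [this, commutatorElement_def]
    exact P₁.mul_mem (P₁.mul_mem (P₁.mul_mem hy₁ hy₂) (P₁.inv_mem hy₁)) (P₁.inv_mem hy₂)
  intro w hwc hw1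
  have hwP : w ∈ P₁ := hcomm hwc
  rcases hw w hw1 with h | h
  · exact h
  · exfalso
    rw [h] at hwP
    -- then the whole preimage is in P₁
    have hle : P.comap σ ≤ P₁ := by
      intro x hx
      obtain ⟨y, hy, hwx⟩ := hdec x hx
      have e : x = y * (y⁻¹ * x) := by group
      rw [e]
      rcases hw _ hwx with h' | h'
      · rw [h', mul_one]; exact hy
      · rw [h']; exact P₁.mul_mem hy hwP
    have hc1 : Nat.card (P.comap σ) ≤ Nat.card P₁ := Subgroup.card_le_of_le hle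
    -- but the preimage is strictly bigger than P
    let f : P.comap σ → P := fun x => ⟨σ x, x.2⟩
    have hfs : Function.Surjective f := by
      rintro ⟨g, hg⟩
      obtain ⟨x, rfl⟩ := hsurj g
      exact ⟨⟨x, hg⟩, rfl⟩
    have hfi : ¬ Function.Injective f := by
      intro hinj
      have hzm : z ∈ P.comap σ := by
        show σ z ∈ P
        rw [hσz]; exact one_mem _
      have : (⟨z, hzm⟩ : P.comap σ) = 1 := by
        apply hinj
        apply Subtype.ext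
        show σ z = σ 1
        rw [hσz, map_one]
      exact hz1 (congrArg Subtype.val this)
    haveI : Fintype (P.comap σ) := Fintype.ofFinite _
    haveI : Finite P := Finite.of_surjective f hfs
    haveI : Fintype P := Fintype.ofFinite _
    have hlt := Fintype.card_lt_of_surjective_not_injective f hfs hfi
    rw [← Nat.card_eq_fintype_card, ← Nat.card_eq_fintype_card] at hlt
    omega

end Cfsg.Agent.Lib.Helper5.Stem
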