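import Mathlib
import Cfsg.Agent.Lib.Helper5.StemE

set_option autoImplicit false

namespace Cfsg.Agent.Lib.Helper5.Stem

open Subgroup
open scoped Pointwise

variable {G : Type*} [Group G]

theorem conj_k_inv {k d : G} (hk3 : k * k * k = 1) (h : d * k * d⁻¹ = k * k) :
    d⁻¹ * k * d = k * k := by
  have h1 : d⁻¹ * (k * k) * d = k := by rw [← h]; group
  have h2 : k = (k * k) * (k * k) := by
    calc k = (k * k * k) * k := by rw [hk3, one_mul]
      _ = (k * k) * (k * k) := by group
  calc d⁻¹ * k * d = d⁻¹ * ((k * k) * (k * k)) * d := by rw [← h2]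
    _ = (d⁻¹ * (k * k) * d) * (d⁻¹ * (k * k) * d) := by group
    _ = k * k := by rw [h1]

/-- elements of a subgroup generated by elements normalising `⟨k⟩` (with `k³ = 1`) do so too -/
theorem conj_k_closure {k : G} (hk3 : k * k * k = 1) (T : Set G)
    (hT : ∀ d ∈ T, d * k * d⁻¹ = k ∨ d * k * d⁻¹ = k * k) :
    ∀ d ∈ closure T, d⁻¹ * k * d = k ∨ d⁻¹ * k * d = k * k := by
  have hkk : (k * k) * (k * k) = k := by
    calc (k * k) * (k * k) = (k * k * k) * k := by group
      _ = k := by rw [hk3, one_mul]
  intro d hd
  induction hd using Subgroup.closure_induction with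
  | mem x hx =>
    rcases hT x hx with h | h
    · left
      calc x⁻¹ * k * x = x⁻¹ * (x * k * x⁻¹) * x := by rw [h]
        _ = k := by group
    · right
      exact conj_k_inv hk3 h
  | one => left; group
  | mul x y _ _ ihx ihy =>
    have e : (x * y)⁻¹ * k * (x * y) = y⁻¹ * (x⁻¹ * k * x) * y := by group
    rw [e]
    rcases ihx with hx | hx
    · rw [hx]; exact ihy
    · rw [hx]
      have e2 : y⁻¹ * (k * k) * y = (y⁻¹ * k * y) * (y⁻¹ * k * y) := by group
      rw [e2]
      rcases ihy with hy | hy
      · right; rw [hy]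
      · left; rw [hy, hkk]
  | inv x _ ih =>
    rcases ih with h | h
    · left
      rw [inv_inv]
      calc x * k * x⁻¹ = x * (x⁻¹ * k * x) * x⁻¹ := by rw [h]
        _ = k := by group
    · right
      have h' : x⁻¹ * k * x⁻¹⁻¹ = k * k := by rw [inv_inv]; exact h
      exact conj_k_inv hk3 h'

/-- a subgroup generated by elements conjugating the generators of `E` into `E` normalises `E` -/
theorem closure_le_normalizer_closure [Finite G] (S T : Set G)
    (h : ∀ d ∈ T, ∀ a ∈ S, d * a * d⁻¹ ∈ closure S) :
    closure T ≤ normalizer ((closure S : Subgroup G) : Set G) := by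
  rw [Subgroup.closure_le]
  intro d hd
  apply Subgroup.mem_normalizer_fintype
  intro n hn
  exact conj_mem_closure_of_gens S d (h d hd) n hn

theorem conj_mem_of_le_normalizer {H D : Subgroup G} (h : D ≤ normalizer (H : Set G)) :
    ∀ d ∈ D, ∀ e ∈ H, d * e * d⁻¹ ∈ H := by
  intro d hd e he
  exact (Subgroup.mem_normalizer_iff.mp (h hd) e).mp he

theorem card_sup_le_of_le_normalizer [Finite G] {H D : Subgroup G}
    (h : D ≤ normalizer (H : Set G)) : Nat.card (H ⊔ D : Subgroup G) ≤ Nat.card H * Nat.card D := by
  have h1 : ((D ⊔ H : Subgroup G) : Set G) = (D : Set G) * (H : Set G) :=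
    Subgroup.coe_mul_of_left_le_normalizer_right D H h
  have h2 : Nat.card (H ⊔ D : Subgroup G) = Nat.card ((D : Set G) * (H : Set G) : Set G) := by
    rw [sup_comm, ← h1]; rfl
  rw [h2, mul_comm]
  exact Set.natCard_mul_le

/-- adjoining a commuting involution at most doubles the order -/
theorem card_closure_insert_invol_le [Finite G] {x : G} {T : Set G} (hx : x * x = 1)
    (hc : ∀ t ∈ T, x * t = t * x) :
    Nat.card (closure (insert x T)) ≤ 2 * Nat.card (closure T) := by
  have e : closure (insert x T) = closure T ⊔ zpowers x := by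
    rw [Set.insert_eq, Subgroup.closure_union, sup_comm, Subgroup.zpowers_eq_closure]
  have hn : zpowers x ≤ normalizer ((closure T : Subgroup G) : Set G) := by
    rw [Subgroup.zpowers_le]
    apply Subgroup.mem_normalizer_fintype
    intro n hn
    have : x * n = n * x := by
      induction hn using Subgroup.closure_induction with
      | mem t ht => exact hc t ht
      | one => simp
      | mul a b _ _ iha ihb =>
        calc x * (a * b) = (x * a) * b := by group
          _ = a * (x * b) := by rw [iha]; group
          _ = a * b * x := by rw [ihb]; group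
      | inv a _ iha =>
        calc x * a⁻¹ = a⁻¹ * (a * x) * a⁻¹ := by group
          _ = a⁻¹ * (x * a) * a⁻¹ := by rw [iha]
          _ = a⁻¹ * x := by group
    rw [this, mul_inv_cancel_right]
    exact hn
  have hz : Nat.card (zpowers x) ≤ 2 := by
    rw [Nat.card_zpowers]
    apply Nat.le_of_dvd (by norm_num)
    apply orderOf_dvd_of_pow_eq_one
    rw [pow_two, hx]
  rw [e]
  calc Nat.card (closure T ⊔ zpowers x : Subgroup G)
      ≤ Nat.card (closure T) * Nat.card (zpowers x) := card_sup_le_of_le_normalizer hn
    _ ≤ Nat.card (closure T) * 2 := Nat.mul_le_mul_left _ hz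
    _ = 2 * Nat.card (closure T) := mul_comm _ _

theorem card_closure_singleton_invol_le [Finite G] {x : G} (hx : x * x = 1) :
    Nat.card (closure ({x} : Set G)) ≤ 2 := by
  rw [← Subgroup.zpowers_eq_closure, Nat.card_zpowers]
  apply Nat.le_of_dvd (by norm_num)
  apply orderOf_dvd_of_pow_eq_one
  rw [pow_two, hx]

end Cfsg.Agent.Lib.Helper5.Stem
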