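import Mathlib
import Cfsg.Agent.Lib.Helper5.StemF
import Cfsg.Agent.Lib.helper3.StemTools2

set_option autoImplicit false

namespace Cfsg.Agent.Lib.Helper5.Stem

open Subgroup

variable {Γ G : Type*} [Group Γ] [Group G] {σ : Γ →* G}

theorem qinv_one {z : Γ} (hK : Ker2 σ z) : QInv σ 1 := by
  obtain ⟨hz1, hz2, hσz, hw, hzc⟩ := hK
  intro x hx
  rcases hw x hx with h | h
  · rw [h, one_mul]
  · rw [h, hz2]

/-- lifts of a dihedral group of order eight all of whose involutions lift to involutions -/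
theorem card_lift_dihedral_le [Finite Γ] {r s : G} (R S' : Γ) (hR : σ R = r) (hS : σ S' = s)
    (qs : QInv σ s) (qrr : QInv σ (r * r)) (qsr : QInv σ (s * r)) :
    Nat.card (closure ({R, S'} : Set Γ)) ≤ 8 := by
  have h1 : S' * S' = 1 := qs S' hS
  have h2 : (R * R) * (R * R) = 1 := qrr (R * R) (by rw [map_mul, hR])
  have h3 : (S' * R) * (S' * R) = 1 := qsr (S' * R) (by rw [map_mul, hR, hS])
  have hSinv : S'⁻¹ = S' := by rw [inv_eq_iff_mul_eq_one]; exact h1
  have hR4 : R ^ 4 = 1 := by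
    rw [← h2, pow_succ, pow_succ, pow_two]; group
  have hrel : S' * R * S'⁻¹ = R ^ 3 := by
    rw [hSinv]
    have e1 : S' * R * S' = R⁻¹ := by
      calc S' * R * S' = (S' * R) * (S' * R) * R⁻¹ := by group
        _ = R⁻¹ := by rw [h3, one_mul]
    rw [e1]
    rw [inv_eq_iff_mul_eq_one, ← hR4]
    rw [pow_succ' R 3]
  have hS2 : S' ^ 2 = 1 := by rw [pow_two, h1]
  exact Cfsg.Agent.Lib.helper3.card_closure_pair_le hrel hR4 (by norm_num) hS2 (by norm_num)

theorem map_closure_pair (R S' : Γ) : (closure ({R, S'} : Set Γ)).map σ = closure {σ R, σ S'} := by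
  rw [MonoidHom.map_closure, Set.image_pair]

/-- an elementary abelian group of order nine with an element inverting `x` and centralising `y` -/
theorem card_closure_pair_nine [Finite G] {x y t : G} (hxy : x * y = y * x) (hx3 : x ^ 3 = 1)
    (hy3 : y ^ 3 = 1) (hx1 : x ≠ 1) (hy1 : y ≠ 1) (htx : t * x * t⁻¹ = x⁻¹)
    (hty : t * y * t⁻¹ = y) : Nat.card (closure ({x, y} : Set G)) = 9 := by
  have hrel : y * x * y⁻¹ = x ^ 1 := by
    rw [pow_one, ← hxy]; group
  have hle := Cfsg.Agent.Lib.helper3.card_closure_pair_le hrel hx3 (by norm_num) hy3 (by norm_num)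
  have hxmem : x ∈ closure ({x, y} : Set G) := subset_closure (by simp)
  have hymem : y ∈ closure ({x, y} : Set G) := subset_closure (by simp)
  have hexp : ∀ g : closure ({x, y} : Set G), g ^ 3 ^ 1 = 1 := by
    rintro ⟨g, hg⟩
    obtain ⟨i, j, rfl⟩ := Cfsg.Agent.Lib.helper3.mem_closure_pair_nf hrel hx3 (by norm_num) hy3
      (by norm_num) hg
    apply Subtype.ext
    show (x ^ i * y ^ j) ^ 3 ^ 1 = 1
    have hc : Commute (x ^ i) (y ^ j) := Commute.pow_pow (show Commute x y from hxy) i j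
    rw [pow_one, hc.mul_pow, ← pow_mul, ← pow_mul, mul_comm i 3, mul_comm j 3, pow_mul, pow_mul,
      hx3, hy3, one_pow, one_pow, one_mul]
  haveI : Fact (Nat.Prime 3) := ⟨Nat.prime_three⟩
  have hpg : IsPGroup 3 (closure ({x, y} : Set G)) := fun g => ⟨1, hexp g⟩
  obtain ⟨e, he⟩ := IsPGroup.iff_card.mp hpg
  have hxo : orderOf x = 3 := orderOf_eq_prime hx3 hx1
  have hne : Nat.card (closure ({x, y} : Set G)) ≠ 3 := by
    intro h3
    have hzle : zpowers x ≤ closure ({x, y} : Set G) := by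
      rw [zpowers_le]; exact hxmem
    have hzc : Nat.card (zpowers x) = 3 := by rw [Nat.card_zpowers, hxo]
    have heq : zpowers x = closure ({x, y} : Set G) :=
      Subgroup.eq_of_le_of_card_ge hzle (by rw [hzc, h3])
    have hy : y ∈ zpowers x := by rw [heq]; exact hymem
    obtain ⟨j, hj⟩ := mem_zpowers_iff.mp hy
    have h1 : t * y * t⁻¹ = y⁻¹ := by
      rw [← hj, ← conj_zpow, htx, inv_zpow]
    rw [hty] at h1
    have h2 : y ^ 2 = 1 := by
      rw [pow_two]
      nth_rewrite 2 [h1]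
      exact mul_inv_cancel _
    have h3' : y = 1 := by
      have : y ^ 3 = y ^ 2 * y := pow_succ y 2
      rw [hy3, h2, one_mul] at this
      exact this.symm
    exact hy1 h3'
  have hdvd : 3 ∣ Nat.card (closure ({x, y} : Set G)) := by
    have h1 : orderOf (⟨x, hxmem⟩ : closure ({x, y} : Set G)) = 3 := by
      rw [← hxo]
      exact Subgroup.orderOf_mk x hxmem
    rw [← h1]
    exact orderOf_dvd_natCard _
  rw [he] at hle hne hdvd ⊢
  have he2 : e ≤ 2 := by
    by_contra hlt
    push Not at hlt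
    have : 3 ^ 3 ≤ 3 ^ e := Nat.pow_le_pow_right (by norm_num) hlt
    omega
  interval_cases e
  · omega
  · omega
  · norm_num

end Cfsg.Agent.Lib.Helper5.Stem
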