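import Mathlib
import Cfsg.Agent.Lib.Helper5.StemG
import Cfsg.Agent.Lib.helper3.StemTools2

set_option autoImplicit false

namespace Cfsg.Agent.Lib.Helper5.Stem

open Subgroup
open scoped commutatorElement

variable {Γ G : Type*} [Group Γ] [Group G] {σ : Γ →* G}

/-- lifts of commuting involutions whose product lifts to involutions commute -/
theorem lift_comm_of_qinv {a b : G} (qa : QInv σ a) (qb : QInv σ b) (qab : QInv σ (a * b))
    {A B : Γ} (hA : σ A = a) (hB : σ B = b) : A * B = B * A := by
  have h1 : (A * B) * (A * B) = 1 := qab (A * B) (by rw [map_mul, hA, hB])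
  have hA2 := qa A hA
  have hB2 := qb B hB
  calc A * B = A * ((A * B) * (A * B)) * B := by rw [h1, mul_one]
    _ = (A * A) * B * A * (B * B) := by group
    _ = B * A := by rw [hA2, hB2, one_mul, mul_one]

theorem qinv_of_triple (hsurj : Function.Surjective σ) {z : Γ} (hK : Ker2 σ z) {a b c : G}
    (qa : QInv σ a) (qb : QInv σ b) (qc : QInv σ c) (qab : QInv σ (a * b))
    (qac : QInv σ (a * c)) (qbc : QInv σ (b * c)) : QInv σ (a * b * c) := by
  obtain ⟨hz1, hz2, hσz, hw, hzc⟩ := hK
  obtain ⟨A, hA⟩ := hsurj a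
  obtain ⟨B, hB⟩ := hsurj b
  obtain ⟨C, hC⟩ := hsurj c
  have cAB := lift_comm_of_qinv qa qb qab hA hB
  have cAC := lift_comm_of_qinv qa qc qac hA hC
  have cBC := lift_comm_of_qinv qb qc qbc hB hC
  have hA2 := qa A hA
  have hB2 := qb B hB
  have hC2 := qc C hC
  have h0 : (A * B * C) * (A * B * C) = 1 := by
    calc (A * B * C) * (A * B * C) = A * B * (C * A) * B * C := by group
      _ = A * B * (A * C) * B * C := by rw [cAC]
      _ = A * (B * A) * (C * B) * C := by group
      _ = A * (A * B) * (B * C) * C := by rw [cAB, cBC]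
      _ = (A * A) * (B * B) * (C * C) := by group
      _ = 1 := by rw [hA2, hB2, hC2, one_mul, one_mul]
  intro x hx
  have h1 : σ ((A * B * C)⁻¹ * x) = 1 := by
    rw [map_mul, map_inv, map_mul, map_mul, hA, hB, hC, hx, inv_mul_cancel]
  have e : x = (A * B * C) * ((A * B * C)⁻¹ * x) := by group
  rcases hw _ h1 with h | h
  · rw [e, h, mul_one]; exact h0
  · rw [e, h]
    calc A * B * C * z * (A * B * C * z) = (A * B * C) * (z * (A * B * C)) * z := by group
      _ = (A * B * C) * ((A * B * C) * z) * z := by rw [hzc (A * B * C)]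
      _ = ((A * B * C) * (A * B * C)) * (z * z) := by group
      _ = 1 := by rw [h0, hz2, one_mul]

/-- lifts of `D₈ × C₂` all of whose involutions lift to involutions -/
theorem card_lift_d8c2_le [Finite Γ] {r s c : G} (R S' C : Γ) (hR : σ R = r) (hS : σ S' = s)
    (hC : σ C = c) (qs : QInv σ s) (qrr : QInv σ (r * r)) (qsr : QInv σ (s * r))
    (qc : QInv σ c) (qcs : QInv σ (c * s)) (qcsr : QInv σ (c * (s * r))) :
    Nat.card (closure ({R, S'} : Set Γ) ⊔ zpowers C : Subgroup Γ) ≤ 16 := by
  have h8 := card_lift_dihedral_le R S' hR hS qs qrr qsr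
  have hCS : C * S' = S' * C := lift_comm_of_qinv qc qs qcs hC hS
  have hCSR : C * (S' * R) = (S' * R) * C :=
    lift_comm_of_qinv qc qsr qcsr hC (show σ (S' * R) = s * r by rw [map_mul, hS, hR])
  have hS2 : S' * S' = 1 := qs S' hS
  have hCR : C * R = R * C := by
    have e : R = S' * (S' * R) := by
      calc R = (S' * S') * R := by rw [hS2, one_mul]
        _ = S' * (S' * R) := by group
    calc C * R = C * (S' * (S' * R)) := by rw [← e]
      _ = (C * S') * (S' * R) := by group
      _ = S' * (C * (S' * R)) := by rw [hCS]; group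
      _ = S' * ((S' * R) * C) := by rw [hCSR]
      _ = (S' * (S' * R)) * C := by group
      _ = R * C := by rw [← e]
  have hC2 : C * C = 1 := qc C hC
  have hn : zpowers C ≤ normalizer ((closure ({R, S'} : Set Γ) : Subgroup Γ) : Set Γ) := by
    rw [zpowers_le]
    apply Subgroup.mem_normalizer_fintype
    intro n hn
    have : C * n = n * C := by
      induction hn using Subgroup.closure_induction with
      | mem t ht =>
        rcases ht with rfl | rfl
        · exact hCR
        · exact hCS
      | one => simp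
      | mul a b _ _ iha ihb =>
        calc C * (a * b) = (C * a) * b := by group
          _ = a * (C * b) := by rw [iha]; group
          _ = a * b * C := by rw [ihb]; group
      | inv a _ iha =>
        calc C * a⁻¹ = a⁻¹ * (a * C) * a⁻¹ := by group
          _ = a⁻¹ * (C * a) * a⁻¹ := by rw [iha]
          _ = a⁻¹ * C := by group
    rw [this, mul_inv_cancel_right]
    exact hn
  have hz : Nat.card (zpowers C) ≤ 2 := by
    rw [Nat.card_zpowers]
    apply Nat.le_of_dvd (by norm_num)
    apply orderOf_dvd_of_pow_eq_one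
    rw [pow_two, hC2]
  calc Nat.card (closure ({R, S'} : Set Γ) ⊔ zpowers C : Subgroup Γ)
      ≤ Nat.card (closure ({R, S'} : Set Γ)) * Nat.card (zpowers C) :=
        card_sup_le_of_le_normalizer hn
    _ ≤ 8 * 2 := Nat.mul_le_mul h8 hz

/-- abstract form of the extraspecial argument -/
theorem heis_abs {E Q : Type*} [Group E] [Group Q] (τ : E →* Q)
    (hc : τ.ker ≤ center E) (a b : E) (hgen : closure {a, b} ⊔ τ.ker = ⊤)
    (hua : ⁅a, b⁆ * a = a * ⁅a, b⁆) (hub : ⁅a, b⁆ * b = b * ⁅a, b⁆) (ha3 : a ^ 3 ∈ τ.ker)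
    (hw1 : τ ⁅a, b⁆ ≠ 1) : ∀ v ∈ commutator E, τ v = 1 → v = 1 := by
  set u := ⁅a, b⁆ with hu
  -- u is central
  have hucen : u ∈ center E := by
    rw [Subgroup.mem_center_iff]
    intro g
    have hg : g ∈ closure {a, b} ⊔ τ.ker := by rw [hgen]; trivial
    have hcl : closure {a, b} ⊔ τ.ker ≤ centralizer {u} := by
      apply sup_le
      · rw [Subgroup.closure_le]
        intro x hx
        rw [SetLike.mem_coe, Subgroup.mem_centralizer_singleton_iff]
        rcases hx with rfl | rfl
        · exact hua.symm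
        · exact hub.symm
      · intro x hx
        rw [Subgroup.mem_centralizer_singleton_iff]
        exact (Subgroup.mem_center_iff.mp (hc hx) u).symm
    have := hcl hg
    rw [Subgroup.mem_centralizer_singleton_iff] at this
    exact this
  have hnorm : (zpowers u).Normal := by
    constructor
    intro n hn g
    have hncen : n ∈ center E := by
      obtain ⟨j, rfl⟩ := mem_zpowers_iff.mp hn
      exact Subgroup.zpow_mem _ hucen j
    have := Subgroup.mem_center_iff.mp hncen g
    rw [this, mul_inv_cancel_right]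
    exact hn
  have hder : commutator E ≤ zpowers u := by
    apply Cfsg.Agent.Lib.helper3.derived_le_zpowers τ.ker hc a b u hgen hnorm
    refine ⟨u, mem_zpowers u, ?_⟩
    rw [hu, commutatorElement_def]; group
  have hu3 : u ^ 3 = 1 := by
    rw [hu, ← Cfsg.Agent.Lib.helper3.comm_pow_left_of_central hucen 3,
      commutatorElement_eq_one_iff_mul_comm]
    exact (Subgroup.mem_center_iff.mp (hc ha3) b).symm
  intro v hv hv1
  obtain ⟨j, rfl⟩ := mem_zpowers_iff.mp (hder hv)
  rw [map_zpow] at hv1
  have hτu3 : (τ u) ^ 3 = 1 := by rw [← map_pow, hu3, map_one]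
  have hord : orderOf (τ u) = 3 := orderOf_eq_prime hτu3 hw1
  have hdvd : ((orderOf (τ u) : ℕ) : ℤ) ∣ j := orderOf_dvd_iff_zpow_eq_one.mpr hv1
  rw [hord] at hdvd
  obtain ⟨q, rfl⟩ := hdvd
  rw [zpow_mul]
  have : u ^ ((3 : ℕ) : ℤ) = 1 := by rw [zpow_natCast, hu3]
  rw [this, one_zpow]

end Cfsg.Agent.Lib.Helper5.Stem
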