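import Mathlib
import Cfsg.Agent.Lib.Helper5.StemH
import Cfsg.Agent.Lib.helper3.StemTools2
import Cfsg.Agent.Lib.helper3.Pullback
import Cfsg.Agent.Lib.Helper21.StemMeta

set_option autoImplicit false

namespace Cfsg.Agent.Lib.Helper5.Stem

open Subgroup
open scoped commutatorElement

variable {Γ G : Type*} [Group Γ] [Group G] {σ : Γ →* G}

/-- preimages of an extraspecial group of order 27 (generated by `x, y` inverted by `t`) under a
central extension whose kernel has exponent three -/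
theorem comm_comap_trivial_of_heis (hsurj : Function.Surjective σ)
    (hcen : σ.ker ≤ center Γ) (hk3 : ∀ κ ∈ σ.ker, κ ^ 3 = 1)
    (x y t : G) (hx3 : x ^ 3 = 1) (hwx : ⁅x, y⁆ * x = x * ⁅x, y⁆)
    (hwy : ⁅x, y⁆ * y = y * ⁅x, y⁆) (hw1 : ⁅x, y⁆ ≠ 1) (htx : t * x * t⁻¹ = x⁻¹)
    (hty : t * y * t⁻¹ = y⁻¹) (htw : t * ⁅x, y⁆ * t⁻¹ = ⁅x, y⁆) :
    ∀ w ∈ ⁅(closure {x, y}).comap σ, (closure {x, y}).comap σ⁆, σ w = 1 → w = 1 := by
  obtain ⟨X, hX⟩ := hsurj x
  obtain ⟨Y, hY⟩ := hsurj y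
  obtain ⟨T, hT⟩ := hsurj t
  set W := ⁅X, Y⁆ with hW
  have hσW : σ W = ⁅x, y⁆ := by rw [hW, map_commutatorElement, hX, hY]
  have key : ∀ (A : Γ) (a : G), σ A = a → ⁅x, y⁆ * a = a * ⁅x, y⁆ → t * a * t⁻¹ = a⁻¹ →
      ⁅A, W⁆ = 1 := by
    intro A a hA hwa hta
    set c := ⁅A, W⁆ with hc
    have hcker : c ∈ σ.ker := by
      rw [MonoidHom.mem_ker, hc, map_commutatorElement, hA, hσW,
        commutatorElement_eq_one_iff_mul_comm]
      exact hwa.symm
    have hccen := Subgroup.mem_center_iff.mp (hcen hcker)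
    have hconj : T * c * T⁻¹ = ⁅A⁻¹, W⁆ := by
      rw [hc, Cfsg.Agent.Lib.helper3.conj_comm_eq]
      apply Cfsg.Agent.Lib.helper3.comm_eq_of_map_eq σ hcen
      · rw [map_mul, map_mul, map_inv, map_inv, hT, hA, hta]
      · rw [map_mul, map_mul, map_inv, hT, hσW, htw]
    have hinv : ⁅A⁻¹, W⁆ = c⁻¹ := by
      have h1 := Cfsg.Agent.Lib.helper3.comm_mul_left_of_commute (x := A⁻¹) (x' := A) (y := W)
        (hccen A⁻¹)
      rw [inv_mul_cancel] at h1
      have h2 : ⁅(1 : Γ), W⁆ = 1 := by simp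
      rw [h2] at h1
      exact eq_inv_of_mul_eq_one_right h1.symm
    have hc2 : c = c⁻¹ := by
      rw [← hinv, ← hconj, hccen T, mul_inv_cancel_right]
    have h2 : c ^ 2 = 1 := by
      rw [pow_two]
      nth_rewrite 2 [hc2]
      exact mul_inv_cancel _
    have h3 := hk3 c hcker
    have : c ^ 3 = c ^ 2 * c := pow_succ c 2
    rw [h3, h2, one_mul] at this
    exact this.symm
  have hXW : W * X = X * W :=
    (commutatorElement_eq_one_iff_mul_comm.mp (key X x hX hwx htx)).symm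
  have hYW : W * Y = Y * W :=
    (commutatorElement_eq_one_iff_mul_comm.mp (key Y y hY hwy hty)).symm
  -- pass to the preimage of the subgroup
  set S : Subgroup G := closure {x, y} with hS
  have hxmem : x ∈ S := subset_closure (by simp)
  have hymem : y ∈ S := subset_closure (by simp)
  have hXm : X ∈ S.comap σ := by show σ X ∈ S; rw [hX]; exact hxmem
  have hYm : Y ∈ S.comap σ := by show σ Y ∈ S; rw [hY]; exact hymem
  set τ := σ.subgroupComap S with hτ
  have hker : τ.ker ≤ center (S.comap σ) := by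
    intro g hg
    rw [MonoidHom.mem_ker] at hg
    have hg' : σ (g : Γ) = 1 := congrArg Subtype.val hg
    have hc : (g : Γ) ∈ center Γ := hcen (MonoidHom.mem_ker.2 hg')
    rw [Subgroup.mem_center_iff]
    intro h
    apply Subtype.ext
    exact Subgroup.mem_center_iff.1 hc h
  have hgenQ : closure {(⟨x, hxmem⟩ : S), ⟨y, hymem⟩} = ⊤ := by
    have h0 := Subgroup.closure_closure_coe_preimage (k := ({x, y} : Set G))
    have hset : (((↑) : closure ({x, y} : Set G) → G) ⁻¹' ({x, y} : Set G)) =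
        {(⟨x, hxmem⟩ : closure ({x, y} : Set G)), ⟨y, hymem⟩} := by
      ext ⟨g, hg⟩
      simp [Subtype.ext_iff]
    rw [hset] at h0
    exact h0
  set a : S.comap σ := ⟨X, hXm⟩ with ha
  set b : S.comap σ := ⟨Y, hYm⟩ with hb
  have hτa : τ a = ⟨x, hxmem⟩ := Subtype.ext hX
  have hτb : τ b = ⟨y, hymem⟩ := Subtype.ext hY
  have hgen : closure {a, b} ⊔ τ.ker = ⊤ := by
    apply Cfsg.Agent.Lib.Helper21.gen_lift τ a b
    rw [hτa, hτb]
    exact hgenQ
  have hcoe : ((⁅a, b⁆ : S.comap σ) : Γ) = W := Cfsg.Agent.Lib.helper3.coe_commElt _ a b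
  have hua : ⁅a, b⁆ * a = a * ⁅a, b⁆ := by
    apply Subtype.ext
    show ((⁅a, b⁆ : S.comap σ) : Γ) * X = X * ((⁅a, b⁆ : S.comap σ) : Γ)
    rw [hcoe]; exact hXW
  have hub : ⁅a, b⁆ * b = b * ⁅a, b⁆ := by
    apply Subtype.ext
    show ((⁅a, b⁆ : S.comap σ) : Γ) * Y = Y * ((⁅a, b⁆ : S.comap σ) : Γ)
    rw [hcoe]; exact hYW
  have ha3 : a ^ 3 ∈ τ.ker := by
    rw [MonoidHom.mem_ker, map_pow, hτa]
    apply Subtype.ext
    show x ^ 3 = 1
    exact hx3
  have hw1' : τ ⁅a, b⁆ ≠ 1 := by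
    intro h
    apply hw1
    have h2 : σ ((⁅a, b⁆ : S.comap σ) : Γ) = 1 := congrArg Subtype.val h
    rw [hcoe, hσW] at h2
    exact h2
  have main := heis_abs τ hker a b hgen hua hub ha3 hw1'
  intro w hw hw1
  rw [← Subgroup.map_subtype_commutator] at hw
  obtain ⟨w', hw', rfl⟩ := hw
  have h1 : τ w' = 1 := Subtype.ext hw1
  rw [main w' hw' h1]
  rfl

end Cfsg.Agent.Lib.Helper5.Stem
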