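import Mathlib
import Cfsg.Prelude.Def_KGroupFacts

set_option autoImplicit false

/-! The calculus of commutators of lifts in a central extension. -/

namespace Cfsg.Agent.Lib.Helper5.Stem

open Subgroup
open scoped commutatorElement

variable {Γ G : Type*} [Group Γ] [Group G] {σ : Γ →* G}

/-- commutators do not depend on the choice of lifts -/
theorem comm_lift_indep (hcen : σ.ker ≤ center Γ) {X X' Y Y' : Γ} (hX : σ X = σ X')
    (hY : σ Y = σ Y') : ⁅X, Y⁆ = ⁅X', Y'⁆ := by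
  have h1 : X'⁻¹ * X ∈ σ.ker := by
    rw [MonoidHom.mem_ker, map_mul, map_inv, hX, inv_mul_cancel]
  have h2 : Y'⁻¹ * Y ∈ σ.ker := by
    rw [MonoidHom.mem_ker, map_mul, map_inv, hY, inv_mul_cancel]
  have c1 : ∀ g : Γ, g * (X'⁻¹ * X) = (X'⁻¹ * X) * g := Subgroup.mem_center_iff.mp (hcen h1)
  have c2 : ∀ g : Γ, g * (Y'⁻¹ * Y) = (Y'⁻¹ * Y) * g := Subgroup.mem_center_iff.mp (hcen h2)
  set κ := X'⁻¹ * X with hκ
  set μ := Y'⁻¹ * Y with hμ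
  have eX : X = X' * κ := by rw [hκ]; group
  have eY : Y = Y' * μ := by rw [hμ]; group
  rw [commutatorElement_def, commutatorElement_def, eX, eY]
  have c1' : ∀ g : Γ, g * κ⁻¹ = κ⁻¹ * g := by
    intro g
    calc g * κ⁻¹ = κ⁻¹ * (κ * g) * κ⁻¹ := by group
      _ = κ⁻¹ * (g * κ) * κ⁻¹ := by rw [c1 g]
      _ = κ⁻¹ * g := by group
  have c2' : ∀ g : Γ, g * μ⁻¹ = μ⁻¹ * g := by
    intro g
    calc g * μ⁻¹ = μ⁻¹ * (μ * g) * μ⁻¹ := by group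
      _ = μ⁻¹ * (g * μ) * μ⁻¹ := by rw [c2 g]
      _ = μ⁻¹ * g := by group
  calc X' * κ * (Y' * μ) * (X' * κ)⁻¹ * (Y' * μ)⁻¹
      = X' * (κ * (Y' * μ)) * κ⁻¹ * X'⁻¹ * μ⁻¹ * Y'⁻¹ := by group
    _ = X' * ((Y' * μ) * κ) * κ⁻¹ * X'⁻¹ * μ⁻¹ * Y'⁻¹ := by rw [c1 (Y' * μ)]
    _ = X' * Y' * (μ * X'⁻¹) * μ⁻¹ * Y'⁻¹ := by group
    _ = X' * Y' * (X'⁻¹ * μ) * μ⁻¹ * Y'⁻¹ := by rw [← c2 X'⁻¹]
    _ = X' * Y' * X'⁻¹ * Y'⁻¹ := by group

section bet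
variable (hs : Function.Surjective σ)

/-- the commutator of lifts of two elements -/
noncomputable def bet (g h : G) : Γ := ⁅Function.surjInv hs g, Function.surjInv hs h⁆

theorem bet_eq (hcen : σ.ker ≤ center Γ) (X Y : Γ) : bet hs (σ X) (σ Y) = ⁅X, Y⁆ := by
  unfold bet
  apply comm_lift_indep hcen
  · exact Function.surjInv_eq hs _
  · exact Function.surjInv_eq hs _

theorem map_bet (g h : G) : σ (bet hs g h) = ⁅g, h⁆ := by
  unfold bet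
  rw [map_commutatorElement, Function.surjInv_eq hs, Function.surjInv_eq hs]

theorem bet_mem_ker {g h : G} (hc : g * h = h * g) : bet hs g h ∈ σ.ker := by
  rw [MonoidHom.mem_ker, map_bet, commutatorElement_eq_one_iff_mul_comm]
  exact hc

theorem bet_central (hcen : σ.ker ≤ center Γ) {g h : G} (hc : g * h = h * g) (x : Γ) :
    x * bet hs g h = bet hs g h * x :=
  Subgroup.mem_center_iff.mp (hcen (bet_mem_ker hs hc)) x

theorem bet_swap (g h : G) : bet hs h g = (bet hs g h)⁻¹ := by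
  unfold bet
  rw [commutatorElement_inv]

theorem bet_self (g : G) : bet hs g g = 1 := by
  unfold bet
  exact commutatorElement_self _

theorem bet_conj (hcen : σ.ker ≤ center Γ) (t : G) {g h : G} (hc : g * h = h * g) :
    bet hs (t * g * t⁻¹) (t * h * t⁻¹) = bet hs g h := by
  obtain ⟨T, rfl⟩ := hs t
  obtain ⟨X, rfl⟩ := hs g
  obtain ⟨Y, rfl⟩ := hs h
  have e1 : σ T * σ X * (σ T)⁻¹ = σ (T * X * T⁻¹) := by rw [map_mul, map_mul, map_inv]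
  have e2 : σ T * σ Y * (σ T)⁻¹ = σ (T * Y * T⁻¹) := by rw [map_mul, map_mul, map_inv]
  rw [e1, e2, bet_eq hs hcen, bet_eq hs hcen]
  have hk : ⁅X, Y⁆ ∈ σ.ker := by
    rw [← bet_eq hs hcen]
    exact bet_mem_ker hs hc
  have hcentral : ∀ x : Γ, x * ⁅X, Y⁆ = ⁅X, Y⁆ * x := Subgroup.mem_center_iff.mp (hcen hk)
  calc ⁅T * X * T⁻¹, T * Y * T⁻¹⁆ = T * ⁅X, Y⁆ * T⁻¹ := by
        rw [commutatorElement_def, commutatorElement_def]; group
    _ = ⁅X, Y⁆ := by rw [hcentral T]; group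

theorem bet_mul_left (hcen : σ.ker ≤ center Γ) {g g' h : G} (hc : g * h = h * g)
    (hc' : g' * h = h * g') : bet hs (g * g') h = bet hs g h * bet hs g' h := by
  obtain ⟨X, rfl⟩ := hs g
  obtain ⟨X', rfl⟩ := hs g'
  obtain ⟨Y, rfl⟩ := hs h
  have hcentral := bet_central hs hcen hc'
  rw [bet_eq hs hcen] at hcentral
  rw [← map_mul, bet_eq hs hcen, bet_eq hs hcen, bet_eq hs hcen]
  calc ⁅X * X', Y⁆ = X * ⁅X', Y⁆ * X⁻¹ * ⁅X, Y⁆ := by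
        rw [commutatorElement_def, commutatorElement_def, commutatorElement_def]; group
    _ = ⁅X', Y⁆ * ⁅X, Y⁆ := by rw [hcentral X]; group
    _ = ⁅X, Y⁆ * ⁅X', Y⁆ := (hcentral _).symm

theorem bet_mul_right (hcen : σ.ker ≤ center Γ) {g h h' : G} (hc : g * h = h * g)
    (hc' : g * h' = h' * g) : bet hs g (h * h') = bet hs g h * bet hs g h' := by
  rw [bet_swap hs (h * h') g, bet_mul_left hs hcen hc.symm hc'.symm, mul_inv_rev,
    ← bet_swap hs h' g, ← bet_swap hs h g]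
  exact bet_central hs hcen hc _

theorem bet_inv_left (hcen : σ.ker ≤ center Γ) {g h : G} (hc : g * h = h * g) :
    bet hs g⁻¹ h = (bet hs g h)⁻¹ := by
  have hc' : g⁻¹ * h = h * g⁻¹ := by
    calc g⁻¹ * h = g⁻¹ * (h * g) * g⁻¹ := by group
      _ = g⁻¹ * (g * h) * g⁻¹ := by rw [hc]
      _ = h * g⁻¹ := by group
  have h1 := bet_mul_left hs hcen hc hc'
  have h2 : bet hs (g * g⁻¹) h = 1 := by
    obtain ⟨Y, rfl⟩ := hs h
    have : g * g⁻¹ = σ 1 := by rw [map_one, mul_inv_cancel]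
    rw [this, bet_eq hs hcen, commutatorElement_one_left]
  rw [h2] at h1
  exact eq_inv_of_mul_eq_one_right h1.symm

theorem bet_inv_right (hcen : σ.ker ≤ center Γ) {g h : G} (hc : g * h = h * g) :
    bet hs g h⁻¹ = (bet hs g h)⁻¹ := by
  rw [bet_swap hs h⁻¹ g, bet_inv_left hs hcen hc.symm, bet_swap hs g h, inv_inv]

end bet

/-! ### kernels of exponent three -/

theorem ker_eq_one_of_eq_inv (hk3 : ∀ κ ∈ σ.ker, κ ^ 3 = 1) {κ : Γ} (hκ : κ ∈ σ.ker)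
    (h : κ = κ⁻¹) : κ = 1 := by
  have h2 : κ * κ = 1 := by
    nth_rewrite 1 [h]
    exact inv_mul_cancel κ
  have h3 := hk3 κ hκ
  rw [pow_succ, pow_two, h2, one_mul] at h3
  exact h3

/-- an element of order three inverted by some element lifts to elements of order three -/
theorem lift_cube_of_inverted (hs : Function.Surjective σ) (hcen : σ.ker ≤ center Γ)
    (hk3 : ∀ κ ∈ σ.ker, κ ^ 3 = 1) {g t : G} (h : t * g * t⁻¹ = g⁻¹) (hg3 : g ^ 3 = 1)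
    (X : Γ) (hX : σ X = g) : X ^ 3 = 1 := by
  obtain ⟨T, rfl⟩ := hs t
  have hX3 : X ^ 3 ∈ σ.ker := by rw [MonoidHom.mem_ker, map_pow, hX, hg3]
  have hc3 : ∀ x : Γ, x * X ^ 3 = X ^ 3 * x := Subgroup.mem_center_iff.mp (hcen hX3)
  set κ := T * X * T⁻¹ * X with hκ
  have hκk : κ ∈ σ.ker := by
    rw [MonoidHom.mem_ker, hκ, map_mul, map_mul, map_mul, map_inv, hX, h, inv_mul_cancel]
  have hcκ : ∀ x : Γ, x * κ = κ * x := Subgroup.mem_center_iff.mp (hcen hκk)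
  have e1 : T * X * T⁻¹ = κ * X⁻¹ := by rw [hκ]; group
  have e2 : (T * X * T⁻¹) ^ 3 = X ^ 3 := by
    rw [conj_pow, hc3 T]; group
  have e3 : (κ * X⁻¹) ^ 3 = κ ^ 3 * (X⁻¹) ^ 3 := by
    have hcomm : Commute κ X⁻¹ := (hcκ X⁻¹).symm
    exact hcomm.mul_pow 3
  rw [e1, e3, hk3 κ hκk, one_mul, inv_pow] at e2
  -- (X^3)⁻¹ = X^3
  exact ker_eq_one_of_eq_inv hk3 hX3 e2.symm

/-- lifts of commuting elements, one inverted and one centralised by some element, commute -/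
theorem bet_eq_one_of_inverted (hs : Function.Surjective σ) (hcen : σ.ker ≤ center Γ)
    (hk3 : ∀ κ ∈ σ.ker, κ ^ 3 = 1) {g h t : G} (hc : g * h = h * g) (h1 : t * g * t⁻¹ = g⁻¹)
    (h2 : t * h * t⁻¹ = h) : bet hs g h = 1 := by
  have e := bet_conj hs hcen t hc
  rw [h1, h2, bet_inv_left hs hcen hc] at e
  exact ker_eq_one_of_eq_inv hk3 (bet_mem_ker hs hc) e.symm

/-! ### derived groups -/

/-- the derived group of a group generated by a set lies in a subgroup normalised by the set and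
containing the commutators of its elements -/
theorem commutator_le_of_gens [Finite Γ] (S : Set Γ) (L : Subgroup Γ)
    (hN : ∀ s ∈ S, ∀ x ∈ L, s * x * s⁻¹ ∈ L) (hc : ∀ s ∈ S, ∀ s' ∈ S, ⁅s, s'⁆ ∈ L) :
    ⁅closure S, closure S⁆ ≤ L := by
  have hnorm : closure S ≤ normalizer (L : Set Γ) := by
    rw [closure_le]
    intro s hs
    apply Subgroup.mem_normalizer_fintype
    exact hN s hs
  have hconj : ∀ g ∈ closure S, ∀ x ∈ L, g * x * g⁻¹ ∈ L := by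
    intro g hg x hx
    exact (Subgroup.mem_normalizer_iff.mp (hnorm hg) x).mp hx
  have h1 : ∀ g ∈ closure S, ∀ s' ∈ S, ⁅g, s'⁆ ∈ L := by
    intro g hg s' hs'
    induction hg using Subgroup.closure_induction with
    | mem x hx => exact hc x hx s' hs'
    | one => rw [commutatorElement_one_left]; exact one_mem _
    | mul x y hx hy ihx ihy =>
      have e : ⁅x * y, s'⁆ = x * ⁅y, s'⁆ * x⁻¹ * ⁅x, s'⁆ := by
        rw [commutatorElement_def, commutatorElement_def, commutatorElement_def]; group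
      rw [e]
      exact mul_mem (hconj x hx _ ihy) ihx
    | inv x hx ihx =>
      have e : ⁅x⁻¹, s'⁆ = x⁻¹ * (⁅x, s'⁆)⁻¹ * x⁻¹⁻¹ := by
        rw [commutatorElement_def]; group
      rw [e]
      exact hconj x⁻¹ (inv_mem hx) _ (inv_mem ihx)
  have h2 : ∀ g ∈ closure S, ∀ g' ∈ closure S, ⁅g, g'⁆ ∈ L := by
    intro g hg g' hg'
    induction hg' using Subgroup.closure_induction with
    | mem x hx => exact h1 g hg x hx
    | one => rw [commutatorElement_one_right]; exact one_mem _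
    | mul x y hx hy ihx ihy =>
      have e : ⁅g, x * y⁆ = ⁅g, x⁆ * (x * ⁅g, y⁆ * x⁻¹) := by
        rw [commutatorElement_def, commutatorElement_def, commutatorElement_def]; group
      rw [e]
      exact mul_mem ihx (hconj x hx _ ihy)
    | inv x hx ihx =>
      have e : ⁅g, x⁻¹⁆ = x⁻¹ * (⁅g, x⁆)⁻¹ * x⁻¹⁻¹ := by
        rw [commutatorElement_def]; group
      rw [e]
      exact hconj x⁻¹ (inv_mem hx) _ (inv_mem ihx)
  rw [Subgroup.commutator_le]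
  exact h2

/-- elements of a group generated by three commuting elements -/
theorem mem_closure_triple_comm {x y z : Γ} (hxy : x * y = y * x) (hxz : x * z = z * x)
    (hyz : y * z = z * y) {w : Γ} (hw : w ∈ closure ({x, y, z} : Set Γ)) :
    ∃ i j k : ℤ, w = x ^ i * y ^ j * z ^ k := by
  have cxy : Commute x y := hxy
  have cxz : Commute x z := hxz
  have cyz : Commute y z := hyz
  induction hw using Subgroup.closure_induction with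
  | mem a ha =>
    rcases ha with rfl | rfl | rfl
    · exact ⟨1, 0, 0, by simp⟩
    · exact ⟨0, 1, 0, by simp⟩
    · exact ⟨0, 0, 1, by simp⟩
  | one => exact ⟨0, 0, 0, by simp⟩
  | mul a b _ _ iha ihb =>
    obtain ⟨i, j, k, rfl⟩ := iha
    obtain ⟨i', j', k', rfl⟩ := ihb
    refine ⟨i + i', j + j', k + k', ?_⟩
    rw [zpow_add, zpow_add, zpow_add]
    have c1 : Commute (z ^ k) (x ^ i') := (cxz.zpow_zpow i' k).symm
    have c2 : Commute (z ^ k) (y ^ j') := (cyz.zpow_zpow j' k).symm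
    have c3 : Commute (y ^ j) (x ^ i') := (cxy.zpow_zpow i' j).symm
    calc x ^ i * y ^ j * z ^ k * (x ^ i' * y ^ j' * z ^ k')
        = x ^ i * y ^ j * (z ^ k * x ^ i') * y ^ j' * z ^ k' := by group
      _ = x ^ i * y ^ j * (x ^ i' * z ^ k) * y ^ j' * z ^ k' := by rw [c1.eq]
      _ = x ^ i * (y ^ j * x ^ i') * (z ^ k * y ^ j') * z ^ k' := by group
      _ = x ^ i * (x ^ i' * y ^ j) * (y ^ j' * z ^ k) * z ^ k' := by rw [c3.eq, c2.eq]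
      _ = x ^ i * x ^ i' * (y ^ j * y ^ j') * (z ^ k * z ^ k') := by group
  | inv a _ iha =>
    obtain ⟨i, j, k, rfl⟩ := iha
    refine ⟨-i, -j, -k, ?_⟩
    have c1 : Commute (x ^ i) (y ^ j) := cxy.zpow_zpow i j
    have c2 : Commute (x ^ i) (z ^ k) := cxz.zpow_zpow i k
    have c3 : Commute (y ^ j) (z ^ k) := cyz.zpow_zpow j k
    rw [zpow_neg, zpow_neg, zpow_neg, mul_inv_rev, mul_inv_rev]
    have c1' : Commute (x ^ i)⁻¹ (y ^ j)⁻¹ := c1.inv_inv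
    have c2' : Commute (x ^ i)⁻¹ (z ^ k)⁻¹ := c2.inv_inv
    have c3' : Commute (y ^ j)⁻¹ (z ^ k)⁻¹ := c3.inv_inv
    calc (z ^ k)⁻¹ * ((y ^ j)⁻¹ * (x ^ i)⁻¹) = (z ^ k)⁻¹ * ((x ^ i)⁻¹ * (y ^ j)⁻¹) := by rw [c1'.eq]
      _ = ((z ^ k)⁻¹ * (x ^ i)⁻¹) * (y ^ j)⁻¹ := by group
      _ = ((x ^ i)⁻¹ * (z ^ k)⁻¹) * (y ^ j)⁻¹ := by rw [c2'.eq]
      _ = (x ^ i)⁻¹ * ((z ^ k)⁻¹ * (y ^ j)⁻¹) := by group
      _ = (x ^ i)⁻¹ * ((y ^ j)⁻¹ * (z ^ k)⁻¹) := by rw [c3'.eq]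
      _ = (x ^ i)⁻¹ * (y ^ j)⁻¹ * (z ^ k)⁻¹ := by group

/-- the commutator of two products with almost central factors -/
theorem comm_mul_mul_of_central {X Y α β κ₁ κ₂ : Γ} (hκ₁ : ∀ x : Γ, x * κ₁ = κ₁ * x)
    (hκ₂ : ∀ x : Γ, x * κ₂ = κ₂ * x) (h1 : α * Y = κ₁ * (Y * α)) (h2 : X * β = κ₂ * (β * X))
    (hαX : α * X = X * α) (hβY : β * Y = Y * β) (hαβ : α * β = β * α)
    (hαV : α * ⁅X, Y⁆ = ⁅X, Y⁆ * α) :
    ⁅α * X, β * Y⁆ = κ₁ * κ₂ * ⁅X, Y⁆ := by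
  -- consequences for inverses
  have hαX' : α * X⁻¹ = X⁻¹ * α := by
    calc α * X⁻¹ = X⁻¹ * (X * α) * X⁻¹ := by group
      _ = X⁻¹ * (α * X) * X⁻¹ := by rw [hαX]
      _ = X⁻¹ * α := by group
  have hβY' : β * Y⁻¹ = Y⁻¹ * β := by
    calc β * Y⁻¹ = Y⁻¹ * (Y * β) * Y⁻¹ := by group
      _ = Y⁻¹ * (β * Y) * Y⁻¹ := by rw [hβY]
      _ = Y⁻¹ * β := by group
  have h1' : α⁻¹ * Y⁻¹ = κ₁ * (Y⁻¹ * α⁻¹) := by
    have : Y * α = κ₁⁻¹ * (α * Y) := by rw [h1]; group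
    calc α⁻¹ * Y⁻¹ = (Y * α)⁻¹ := by group
      _ = (κ₁⁻¹ * (α * Y))⁻¹ := by rw [this]
      _ = Y⁻¹ * α⁻¹ * κ₁ := by group
      _ = κ₁ * (Y⁻¹ * α⁻¹) := (hκ₁ _)
  have h2' : β * X⁻¹ = κ₂ * (X⁻¹ * β) := by
    calc β * X⁻¹ = X⁻¹ * (X * β) * X⁻¹ := by group
      _ = X⁻¹ * (κ₂ * (β * X)) * X⁻¹ := by rw [h2]
      _ = (X⁻¹ * κ₂) * β := by group
      _ = (κ₂ * X⁻¹) * β := by rw [hκ₂ X⁻¹]
      _ = κ₂ * (X⁻¹ * β) := by group
  have hαβ' : β * α⁻¹ = α⁻¹ * β := by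
    calc β * α⁻¹ = α⁻¹ * (α * β) * α⁻¹ := by group
      _ = α⁻¹ * (β * α) * α⁻¹ := by rw [hαβ]
      _ = α⁻¹ * β := by group
  rw [commutatorElement_def]
  calc α * X * (β * Y) * (α * X)⁻¹ * (β * Y)⁻¹
      = α * X * (β * Y) * X⁻¹ * α⁻¹ * Y⁻¹ * β⁻¹ := by group
    _ = α * X * (Y * β) * X⁻¹ * α⁻¹ * Y⁻¹ * β⁻¹ := by rw [hβY]
    _ = α * X * Y * (β * X⁻¹) * α⁻¹ * Y⁻¹ * β⁻¹ := by group
    _ = α * X * Y * (κ₂ * (X⁻¹ * β)) * α⁻¹ * Y⁻¹ * β⁻¹ := by rw [h2']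
    _ = (α * X * Y * κ₂) * X⁻¹ * (β * α⁻¹) * Y⁻¹ * β⁻¹ := by group
    _ = (κ₂ * (α * X * Y)) * X⁻¹ * (α⁻¹ * β) * Y⁻¹ * β⁻¹ := by rw [hκ₂ (α * X * Y), hαβ']
    _ = κ₂ * (α * X * Y) * X⁻¹ * α⁻¹ * (β * Y⁻¹) * β⁻¹ := by group
    _ = κ₂ * (α * X * Y) * X⁻¹ * α⁻¹ * (Y⁻¹ * β) * β⁻¹ := by rw [hβY']
    _ = κ₂ * (α * X * Y) * X⁻¹ * (α⁻¹ * Y⁻¹) := by group
    _ = κ₂ * (α * X * Y) * X⁻¹ * (κ₁ * (Y⁻¹ * α⁻¹)) := by rw [h1']
    _ = κ₂ * ((α * X * Y * X⁻¹) * κ₁) * (Y⁻¹ * α⁻¹) := by group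
    _ = κ₂ * (κ₁ * (α * X * Y * X⁻¹)) * (Y⁻¹ * α⁻¹) := by rw [hκ₁ (α * X * Y * X⁻¹)]
    _ = κ₂ * κ₁ * (α * ⁅X, Y⁆) * α⁻¹ := by rw [commutatorElement_def]; group
    _ = κ₂ * κ₁ * (⁅X, Y⁆ * α) * α⁻¹ := by rw [hαV]
    _ = (κ₂ * κ₁) * ⁅X, Y⁆ := by group
    _ = κ₁ * κ₂ * ⁅X, Y⁆ := by rw [hκ₁ κ₂]

end Cfsg.Agent.Lib.Helper5.Stem
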