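import Mathlib
import Cfsg.Agent.Lib.Helper5.StemF

set_option autoImplicit false

/-! Bounds for the order of a subgroup obtained by adjoining an element with a power inside. -/

namespace Cfsg.Agent.Lib.Helper5.Stem

open Subgroup
open scoped Pointwise

variable {G : Type*} [Group G]

/-- adjoining a normalising element with `n`-th power inside multiplies the order by at most
`n` -/
theorem card_sup_zpowers_le [Finite G] {H : Subgroup G} {x : G}
    (hx : ∀ h ∈ H, x * h * x⁻¹ ∈ H) (n : ℕ) (hn0 : 0 < n) (hxn : x ^ n ∈ H) :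
    Nat.card (H ⊔ zpowers x : Subgroup G) ≤ n * Nat.card H := by
  classical
  have hnorm : zpowers x ≤ normalizer (H : Set G) := by
    rw [zpowers_le]
    apply Subgroup.mem_normalizer_fintype
    exact hx
  have h1 : ((zpowers x ⊔ H : Subgroup G) : Set G) = (zpowers x : Set G) * (H : Set G) :=
    Subgroup.coe_mul_of_left_le_normalizer_right (zpowers x) H hnorm
  let f : Fin n × H → G := fun p => x ^ (p.1 : ℕ) * (p.2 : G)
  have hsub : ((H ⊔ zpowers x : Subgroup G) : Set G) ⊆ Set.range f := by
    rw [sup_comm, h1]
    rintro _ ⟨y, hy, h, hh, rfl⟩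
    obtain ⟨k, rfl⟩ := mem_zpowers_iff.mp hy
    have hkn : (0 : ℤ) < n := by exact_mod_cast hn0
    have h0 : 0 ≤ k % n := Int.emod_nonneg _ (ne_of_gt hkn)
    have hlt : k % n < n := Int.emod_lt_of_pos _ hkn
    have hxq : x ^ ((n : ℤ) * (k / n)) ∈ H := by
      rw [zpow_mul]
      apply zpow_mem
      rw [zpow_natCast]
      exact hxn
    refine ⟨(⟨(k % n).toNat, by omega⟩, ⟨x ^ ((n : ℤ) * (k / n)) * h, mul_mem hxq hh⟩), ?_⟩
    show x ^ ((k % n).toNat) * (x ^ ((n : ℤ) * (k / n)) * h) = x ^ k * h
    have e : x ^ ((k % n).toNat) = x ^ (k % n) := by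
      conv_rhs => rw [← Int.toNat_of_nonneg h0]
      exact (zpow_natCast x _).symm
    rw [e, ← mul_assoc, ← zpow_add, Int.emod_add_mul_ediv]
  have h2 : Nat.card (H ⊔ zpowers x : Subgroup G) = Set.ncard ((H ⊔ zpowers x : Subgroup G) : Set G) :=
    (_root_.Nat.card_coe_set_eq _)
  rw [h2]
  calc Set.ncard ((H ⊔ zpowers x : Subgroup G) : Set G) ≤ Set.ncard (Set.range f) :=
        Set.ncard_le_ncard hsub (Set.toFinite _)
    _ ≤ Nat.card (Fin n × H) := by
        rw [← Set.image_univ]
        have := Set.ncard_image_le (f := f) (Set.toFinite (Set.univ : Set (Fin n × H)))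
        rwa [Set.ncard_univ] at this
    _ = n * Nat.card H := by
        rw [Nat.card_prod, Nat.card_fin]

/-- adjoining a commuting element of order three at most triples the order -/
theorem card_closure_insert_cube_le [Finite G] {x : G} {T : Set G} (hx : x * x * x = 1)
    (hc : ∀ t ∈ T, x * t = t * x) :
    Nat.card (closure (insert x T)) ≤ 3 * Nat.card (closure T) := by
  have e : closure (insert x T) = closure T ⊔ zpowers x := by
    rw [Set.insert_eq, Subgroup.closure_union, sup_comm, Subgroup.zpowers_eq_closure]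
  rw [e]
  apply card_sup_zpowers_le _ 3 (by norm_num)
  · rw [pow_succ, pow_two, hx]; exact one_mem _
  · intro n hn
    have : x * n = n * x := by
      induction hn using Subgroup.closure_induction with
      | mem t ht => exact hc t ht
      | one => simp
      | mul a b _ _ iha ihb =>
        calc x * (a * b) = (x * a) * b := by group
          _ = a * (x * b) := by rw [iha]; group
          _ = a * b * x := by rw [ihb]; group
      | inv a _ iha =>
        calc x * a⁻¹ = a⁻¹ * (a * x) * a⁻¹ := by group
          _ = a⁻¹ * (x * a) * a⁻¹ := by rw [iha]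
          _ = a⁻¹ * x := by group
    rw [this, mul_inv_cancel_right]
    exact hn

theorem card_closure_singleton_cube_le [Finite G] {x : G} (hx : x * x * x = 1) :
    Nat.card (closure ({x} : Set G)) ≤ 3 := by
  rw [← Subgroup.zpowers_eq_closure, Nat.card_zpowers]
  apply Nat.le_of_dvd (by norm_num)
  apply orderOf_dvd_of_pow_eq_one
  rw [pow_succ, pow_two, hx]

end Cfsg.Agent.Lib.Helper5.Stem
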