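import Mathlib
import Cfsg.Agent.Lib.Helper5.StemI
import Cfsg.Agent.Lib.Helper5.StemQ
import Cfsg.Agent.Lib.Helper5.StemS

set_option autoImplicit false

/-! The splitting criterion for an extraspecial group of order `p ^ 3` and exponent `p` normalised
by an element acting with eigenvalues `2` and `4`, and a bound for generated subgroups. -/

namespace Cfsg.Agent.Lib.Helper5.Stem

open Subgroup
open scoped commutatorElement

/-- conjugation maps a generated subgroup into another one if it does so on generators -/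
theorem conj_mem_closure_of_gens_two {G : Type*} [Group G] (S S' : Set G) (k : G)
    (hkS : ∀ a ∈ S, k * a * k⁻¹ ∈ closure S') : ∀ e ∈ closure S, k * e * k⁻¹ ∈ closure S' := by
  intro e he
  induction he using Subgroup.closure_induction with
  | mem x hx => exact hkS x hx
  | one => simp
  | mul x y _ _ ihx ihy =>
    have : k * (x * y) * k⁻¹ = (k * x * k⁻¹) * (k * y * k⁻¹) := by group
    rw [this]; exact mul_mem ihx ihy
  | inv x _ ih =>
    have : k * x⁻¹ * k⁻¹ = (k * x * k⁻¹)⁻¹ := by group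
    rw [this]; exact inv_mem ih

/-- adjoining an element normalising a generated subgroup with `n`-th power inside multiplies the
order by at most `n` -/
theorem card_closure_insert_pow_le {G : Type*} [Group G] [Finite G] {x : G} {T : Set G} (n : ℕ)
    (hn0 : 0 < n) (hxn : x ^ n ∈ closure T) (hc : ∀ t ∈ T, x * t * x⁻¹ ∈ closure T) :
    Nat.card (closure (insert x T)) ≤ n * Nat.card (closure T) := by
  have e : closure (insert x T) = closure T ⊔ zpowers x := by
    rw [Set.insert_eq, Subgroup.closure_union, sup_comm, Subgroup.zpowers_eq_closure]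
  rw [e]
  exact card_sup_zpowers_le (conj_mem_closure_of_gens_two T T x hc) n hn0 hxn

/-- abstract form of the extraspecial argument, for a prime `p` -/
theorem heis_abs_p {E Q : Type*} [Group E] [Group Q] (p : ℕ) [hp : Fact p.Prime] (τ : E →* Q)
    (hc : τ.ker ≤ center E) (a b : E) (hgen : closure {a, b} ⊔ τ.ker = ⊤)
    (hua : ⁅a, b⁆ * a = a * ⁅a, b⁆) (hub : ⁅a, b⁆ * b = b * ⁅a, b⁆) (hap : a ^ p ∈ τ.ker)
    (hw1 : τ ⁅a, b⁆ ≠ 1) : ∀ v ∈ commutator E, τ v = 1 → v = 1 := by
  set u := ⁅a, b⁆ with hu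
  have hucen : u ∈ center E := by
    rw [Subgroup.mem_center_iff]
    intro g
    have hg : g ∈ closure {a, b} ⊔ τ.ker := by rw [hgen]; trivial
    have hcl : closure {a, b} ⊔ τ.ker ≤ centralizer {u} := by
      apply sup_le
      · rw [Subgroup.closure_le]
        intro x hx
        rw [SetLike.mem_coe, Subgroup.mem_centralizer_singleton_iff]
        rcases hx with rfl | rfl
        · exact hua.symm
        · exact hub.symm
      · intro x hx
        rw [Subgroup.mem_centralizer_singleton_iff]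
        exact (Subgroup.mem_center_iff.mp (hc hx) u).symm
    have := hcl hg
    rw [Subgroup.mem_centralizer_singleton_iff] at this
    exact this
  have hnorm : (zpowers u).Normal := by
    constructor
    intro n hn g
    have hncen : n ∈ center E := by
      obtain ⟨j, rfl⟩ := mem_zpowers_iff.mp hn
      exact Subgroup.zpow_mem _ hucen j
    have := Subgroup.mem_center_iff.mp hncen g
    rw [this, mul_inv_cancel_right]
    exact hn
  have hder : commutator E ≤ zpowers u := by
    apply Cfsg.Agent.Lib.helper3.derived_le_zpowers τ.ker hc a b u hgen hnorm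
    refine ⟨u, mem_zpowers u, ?_⟩
    rw [hu, commutatorElement_def]; group
  have hup : u ^ p = 1 := by
    rw [hu, ← Cfsg.Agent.Lib.helper3.comm_pow_left_of_central hucen p,
      commutatorElement_eq_one_iff_mul_comm]
    exact (Subgroup.mem_center_iff.mp (hc hap) b).symm
  intro v hv hv1
  obtain ⟨j, rfl⟩ := mem_zpowers_iff.mp (hder hv)
  rw [map_zpow] at hv1
  have hτup : (τ u) ^ p = 1 := by rw [← map_pow, hup, map_one]
  have hord : orderOf (τ u) = p := orderOf_eq_prime hτup hw1
  have hdvd : ((orderOf (τ u) : ℕ) : ℤ) ∣ j := orderOf_dvd_iff_zpow_eq_one.mpr hv1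
  rw [hord] at hdvd
  obtain ⟨q, rfl⟩ := hdvd
  rw [zpow_mul]
  have : u ^ ((p : ℕ) : ℤ) = 1 := by rw [zpow_natCast, hup]
  rw [this, one_zpow]

variable {Γ G : Type*} [Group Γ] [Group G] {σ : Γ →* G}

/-- preimages of an extraspecial group of order `p ^ 3` and exponent `p` (generated by `x, y`
which an element `s` maps to `x ^ 2`, `y ^ 4`, fixing their commutator) under a central extension
whose kernel has exponent `p`, for a prime `p ≠ 3` -/
theorem comm_comap_trivial_of_heis_scaled (p : ℕ) [hp : Fact p.Prime] (hp3 : p ≠ 3)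
    (hsurj : Function.Surjective σ)
    (hcen : σ.ker ≤ center Γ) (hkp : ∀ κ ∈ σ.ker, κ ^ p = 1)
    (x y s : G) (hxp : x ^ p = 1) (hwx : ⁅x, y⁆ * x = x * ⁅x, y⁆)
    (hwy : ⁅x, y⁆ * y = y * ⁅x, y⁆) (hw1 : ⁅x, y⁆ ≠ 1) (hsx : s * x * s⁻¹ = x * x)
    (hsy : s * y * s⁻¹ = y * y * (y * y)) (hsw : s * ⁅x, y⁆ * s⁻¹ = ⁅x, y⁆) :
    ∀ w ∈ ⁅(closure {x, y}).comap σ, (closure {x, y}).comap σ⁆, σ w = 1 → w = 1 := by
  obtain ⟨X, hX⟩ := hsurj x
  obtain ⟨Y, hY⟩ := hsurj y
  set W := ⁅X, Y⁆ with hW
  have hσW : σ W = ⁅x, y⁆ := by rw [hW, map_commutatorElement, hX, hY]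
  -- the pairing of `w` with `x` and `y`
  have b1 : bet hsurj ⁅x, y⁆ x = 1 := by
    have e := bet_conj hsurj hcen s hwx
    rw [hsw, hsx, bet_mul_right hsurj hcen hwx hwx] at e
    have : bet hsurj ⁅x, y⁆ x * bet hsurj ⁅x, y⁆ x = bet hsurj ⁅x, y⁆ x * 1 := by
      rw [e, mul_one]
    exact mul_left_cancel this
  have b2 : bet hsurj ⁅x, y⁆ y = 1 := by
    have hwyy : ⁅x, y⁆ * (y * y) = (y * y) * ⁅x, y⁆ :=
      (Commute.mul_right (show Commute ⁅x, y⁆ y from hwy) hwy).eq
    have e := bet_conj hsurj hcen s hwy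
    rw [hsw, hsy, bet_mul_right hsurj hcen hwyy hwyy, bet_mul_right hsurj hcen hwy hwy] at e
    set c := bet hsurj ⁅x, y⁆ y with hc
    have hcker : c ∈ σ.ker := bet_mem_ker hsurj hwy
    have hcp : c ^ p = 1 := hkp c hcker
    have hc3 : c ^ 3 = 1 := by
      have h4 : c * c * c * c = c * 1 := by
        rw [mul_one]
        calc c * c * c * c = c * c * (c * c) := by group
          _ = c := e
      have : c * (c * c * c) = c * 1 := by rw [← h4]; group
      have h3 := mul_left_cancel this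
      rw [pow_succ, pow_two]; exact h3
    have hord : orderOf c ∣ Nat.gcd 3 p :=
      Nat.dvd_gcd (orderOf_dvd_of_pow_eq_one hc3) (orderOf_dvd_of_pow_eq_one hcp)
    have hg : Nat.gcd 3 p = 1 := by
      rw [Nat.Coprime.gcd_eq_one]
      rw [Nat.coprime_primes Nat.prime_three hp.out]
      exact fun h => hp3 h.symm
    rw [hg, Nat.dvd_one, orderOf_eq_one_iff] at hord
    exact hord
  have hXW : W * X = X * W := by
    have := bet_eq hsurj hcen W X
    rw [hσW, hX, b1] at this
    exact commutatorElement_eq_one_iff_mul_comm.mp this.symm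
  have hYW : W * Y = Y * W := by
    have := bet_eq hsurj hcen W Y
    rw [hσW, hY, b2] at this
    exact commutatorElement_eq_one_iff_mul_comm.mp this.symm
  -- pass to the preimage of the subgroup
  set S : Subgroup G := closure {x, y} with hS
  have hxmem : x ∈ S := subset_closure (by simp)
  have hymem : y ∈ S := subset_closure (by simp)
  have hXm : X ∈ S.comap σ := by show σ X ∈ S; rw [hX]; exact hxmem
  have hYm : Y ∈ S.comap σ := by show σ Y ∈ S; rw [hY]; exact hymem
  set τ := σ.subgroupComap S with hτ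
  have hker : τ.ker ≤ center (S.comap σ) := by
    intro g hg
    rw [MonoidHom.mem_ker] at hg
    have hg' : σ (g : Γ) = 1 := congrArg Subtype.val hg
    have hc : (g : Γ) ∈ center Γ := hcen (MonoidHom.mem_ker.2 hg')
    rw [Subgroup.mem_center_iff]
    intro h
    apply Subtype.ext
    exact Subgroup.mem_center_iff.1 hc h
  have hgenQ : closure {(⟨x, hxmem⟩ : S), ⟨y, hymem⟩} = ⊤ := by
    have h0 := Subgroup.closure_closure_coe_preimage (k := ({x, y} : Set G))
    have hset : (((↑) : closure ({x, y} : Set G) → G) ⁻¹' ({x, y} : Set G)) =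
        {(⟨x, hxmem⟩ : closure ({x, y} : Set G)), ⟨y, hymem⟩} := by
      ext ⟨g, hg⟩
      simp [Subtype.ext_iff]
    rw [hset] at h0
    exact h0
  set a : S.comap σ := ⟨X, hXm⟩ with ha
  set b : S.comap σ := ⟨Y, hYm⟩ with hb
  have hτa : τ a = ⟨x, hxmem⟩ := Subtype.ext hX
  have hτb : τ b = ⟨y, hymem⟩ := Subtype.ext hY
  have hgen : closure {a, b} ⊔ τ.ker = ⊤ := by
    apply Cfsg.Agent.Lib.Helper21.gen_lift τ a b
    rw [hτa, hτb]
    exact hgenQ
  have hcoe : ((⁅a, b⁆ : S.comap σ) : Γ) = W := Cfsg.Agent.Lib.helper3.coe_commElt _ a b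
  have hua : ⁅a, b⁆ * a = a * ⁅a, b⁆ := by
    apply Subtype.ext
    show ((⁅a, b⁆ : S.comap σ) : Γ) * X = X * ((⁅a, b⁆ : S.comap σ) : Γ)
    rw [hcoe]; exact hXW
  have hub : ⁅a, b⁆ * b = b * ⁅a, b⁆ := by
    apply Subtype.ext
    show ((⁅a, b⁆ : S.comap σ) : Γ) * Y = Y * ((⁅a, b⁆ : S.comap σ) : Γ)
    rw [hcoe]; exact hYW
  have hap : a ^ p ∈ τ.ker := by
    rw [MonoidHom.mem_ker, map_pow, hτa]
    apply Subtype.ext
    show x ^ p = 1
    exact hxp
  have hw1' : τ ⁅a, b⁆ ≠ 1 := by
    intro h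
    apply hw1
    have h2 : σ ((⁅a, b⁆ : S.comap σ) : Γ) = 1 := congrArg Subtype.val h
    rw [hcoe, hσW] at h2
    exact h2
  have main := heis_abs_p p τ hker a b hgen hua hub hap hw1'
  intro w hw hw1
  rw [← Subgroup.map_subtype_commutator] at hw
  obtain ⟨w', hw', rfl⟩ := hw
  have h1 : τ w' = 1 := Subtype.ext hw1
  rw [main w' hw' h1]
  rfl

end Cfsg.Agent.Lib.Helper5.Stem
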