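import Mathlib
import Cfsg.Agent.Lib.Helper5.PcTA
import Cfsg.Agent.Lib.Helper5.StemT

set_option autoImplicit false

/-! Splitting of the preimage of a two-group given by a polycyclic presentation, from a certificate
that the tails of the presentation are determined by squares of involutions. -/

namespace Cfsg.Agent.Lib.Helper5.PcT

open Subgroup Cfsg.Agent.Lib.Helper5.Stem
open scoped commutatorElement

/-- the form of the square of an involution word -/
def invForm (D : PcD) (f : ℕ) (u : List ℕ) : Option (List (ℕ × ℕ)) :=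
  match collect D f (u ++ u) with
  | some ([], L) => some L
  | _ => none

/-- the form of an associativity triple -/
def triForm (D : PcD) (f : ℕ) (q : ℕ × ℕ × ℕ) : Option (List (ℕ × ℕ)) :=
  match collect D f [q.1, q.2.1, q.2.2] with
  | none => none
  | some (d1, t1) =>
    match collect D f [q.2.1, q.2.2] with
    | none => none
    | some (d2, t2) =>
      match collect D f (q.1 :: d2.reverse) with
      | none => none
      | some (d3, t3) => if d1 = d3 then some (t1 ++ (t2 ++ t3)) else none

/-- all forms known to have even value -/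
def zforms (D : PcD) (f : ℕ) (invW : List (List ℕ)) (tri : List (ℕ × ℕ × ℕ)) :
    List (List (ℕ × ℕ)) :=
  invW.filterMap (invForm D f) ++ tri.filterMap (triForm D f)

/-- every entry occurs an even number of times -/
def evenCounts (t : List (ℕ × ℕ)) : Bool :=
  t.all fun p => (@List.count (ℕ × ℕ) instBEqOfDecidableEq p t) % 2 == 0

theorem even_list_sum (l : List ℕ) (h : ∀ x ∈ l, Even x) : Even l.sum := by
  induction l with
  | nil => exact ⟨0, rfl⟩
  | cons x l ih =>
    rw [List.sum_cons]
    exact Even.add (h x List.mem_cons_self) (ih fun y hy => h y (List.mem_cons_of_mem x hy))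

theorem even_ev_of_evenCounts (a : ℕ → ℕ → ℕ) (t : List (ℕ × ℕ)) (h : evenCounts t = true) :
    Even (ev a t) := by
  unfold ev
  rw [Finset.sum_list_map_count]
  apply Finset.even_sum
  intro p hp
  have hp' : p ∈ t := List.mem_toFinset.mp hp
  unfold evenCounts at h
  rw [List.all_eq_true] at h
  have := h p hp'
  have h2 : (@List.count (ℕ × ℕ) instBEqOfDecidableEq p t) % 2 = 0 := by simpa using this
  rw [smul_eq_mul]
  exact Even.mul_right (Nat.even_iff.mpr h2) _

theorem ev_flatMap {α : Type*} (a : ℕ → ℕ → ℕ) (l : List α) (g : α → List (ℕ × ℕ)) :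
    ev a (l.flatMap g) = (l.map fun x => ev a (g x)).sum := by
  induction l with
  | nil => rfl
  | cons x l ih => rw [List.flatMap_cons, ev_append, ih, List.map_cons, List.sum_cons]

section parity

variable {Γ : Type*} [Group Γ] {z : Γ}

theorem pow_eq_one_iff_even (hz1 : z ≠ 1) (hz2 : z * z = 1) (n : ℕ) : z ^ n = 1 ↔ Even n := by
  have ho : orderOf z = 2 := orderOf_eq_prime (by rw [pow_two, hz2]) hz1
  rw [← orderOf_dvd_iff_pow_eq_one, ho, even_iff_two_dvd]

theorem pow_eq_pow_of_even (hz2 : z * z = 1) {m n : ℕ} (h : Even (m + n)) : z ^ m = z ^ n := by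
  obtain ⟨r, hr⟩ := h
  have h1 : z ^ (m + n) = 1 := by
    rw [hr, ← two_mul, pow_mul, pow_two, hz2, one_pow]
  have h2 : z ^ n * z ^ n = 1 := by
    rw [← pow_add, ← two_mul, pow_mul, pow_two, hz2, one_pow]
  rw [pow_add] at h1
  calc z ^ m = z ^ m * (z ^ n * z ^ n) := by rw [h2, mul_one]
    _ = (z ^ m * z ^ n) * z ^ n := by group
    _ = z ^ n := by rw [h1, one_mul]

end parity

section forms

variable {Γ : Type*} [Group Γ] {D : PcD} {X : ℕ → Γ} {z : Γ} {a : ℕ → ℕ → ℕ}

theorem invForm_sound (R : Rels D X z a) (hzc : ∀ g : Γ, g * z = z * g) (hz1 : z ≠ 1)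
    (hz2 : z * z = 1) (f : ℕ) (u : List ℕ) (L : List (ℕ × ℕ)) (h : invForm D f u = some L)
    (hu : nfw X u * nfw X u = 1) : Even (ev a L) := by
  unfold invForm at h
  cases hc : collect D f (u ++ u) with
  | none => rw [hc] at h; exact absurd h (by simp)
  | some s =>
    rw [hc] at h
    obtain ⟨d, t⟩ := s
    cases d with
    | cons j d' => exact absurd h (by simp)
    | nil =>
      simp only [Option.some.injEq] at h
      subst h
      have := collect_sound R hzc f (u ++ u) ([], t) hc
      rw [nfw_append, hu] at this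
      simp only [val_nil, one_mul] at this
      exact (pow_eq_one_iff_even hz1 hz2 _).mp this.symm

theorem triForm_sound (R : Rels D X z a) (hzc : ∀ g : Γ, g * z = z * g) (hz1 : z ≠ 1)
    (hz2 : z * z = 1) (f : ℕ) (q : ℕ × ℕ × ℕ) (L : List (ℕ × ℕ))
    (h : triForm D f q = some L) : Even (ev a L) := by
  have hzn : ∀ (n : ℕ) (g : Γ), g * z ^ n = z ^ n * g := fun n g =>
    ((Commute.pow_right (hzc g) n)).eq
  unfold triForm at h
  cases h1 : collect D f [q.1, q.2.1, q.2.2] with
  | none => rw [h1] at h; exact absurd h (by simp)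
  | some s1 =>
    rw [h1] at h
    obtain ⟨d1, t1⟩ := s1
    simp only at h
    cases h2 : collect D f [q.2.1, q.2.2] with
    | none => rw [h2] at h; exact absurd h (by simp)
    | some s2 =>
      rw [h2] at h
      obtain ⟨d2, t2⟩ := s2
      simp only at h
      cases h3 : collect D f (q.1 :: d2.reverse) with
      | none => rw [h3] at h; exact absurd h (by simp)
      | some s3 =>
        rw [h3] at h
        obtain ⟨d3, t3⟩ := s3
        simp only at h
        by_cases hd : d1 = d3
        · rw [if_pos hd] at h
          simp only [Option.some.injEq] at h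
          subst h
          have e1 := collect_sound R hzc f _ _ h1
          have e2 := collect_sound R hzc f _ _ h2
          have e3 := collect_sound R hzc f _ _ h3
          simp only [nfw_cons, nfw_nil, mul_one] at e1 e2 e3
          rw [← val_eq_nfw] at e3
          have key : val X d1 * z ^ ev a t1 = val X d1 * (z ^ ev a t3 * z ^ ev a t2) := by
            calc val X d1 * z ^ ev a t1 = X q.1 * (X q.2.1 * X q.2.2) := e1.symm
              _ = X q.1 * (val X d2 * z ^ ev a t2) := by rw [e2]
              _ = (X q.1 * val X d2) * z ^ ev a t2 := by group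
              _ = (val X d3 * z ^ ev a t3) * z ^ ev a t2 := by rw [e3]
              _ = val X d1 * (z ^ ev a t3 * z ^ ev a t2) := by rw [hd]; group
          have key2 : z ^ ev a t1 = z ^ (ev a t3 + ev a t2) := by
            rw [pow_add]; exact mul_left_cancel key
          rw [ev_append, ev_append]
          have h4 : z ^ (ev a t1 + (ev a t2 + ev a t3)) = 1 := by
            rw [pow_add, key2, ← pow_add]
            have : ev a t3 + ev a t2 + (ev a t2 + ev a t3) = 2 * (ev a t2 + ev a t3) := by ring
            rw [this, pow_mul, pow_two, hz2, one_pow]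
          exact (pow_eq_one_iff_even hz1 hz2 _).mp h4
        · rw [if_neg hd] at h
          exact absurd h (by simp)

theorem zforms_even (R : Rels D X z a) (hzc : ∀ g : Γ, g * z = z * g) (hz1 : z ≠ 1)
    (hz2 : z * z = 1) (f : ℕ) (invW : List (List ℕ)) (tri : List (ℕ × ℕ × ℕ))
    (hinv : ∀ u ∈ invW, nfw X u * nfw X u = 1) :
    ∀ F ∈ zforms D f invW tri, Even (ev a F) := by
  intro F hF
  unfold zforms at hF
  rcases List.mem_append.mp hF with h | h
  · obtain ⟨u, hu, hf⟩ := List.mem_filterMap.mp h
    exact invForm_sound R hzc hz1 hz2 f u F hf (hinv u hu)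
  · obtain ⟨q, _, hf⟩ := List.mem_filterMap.mp h
    exact triForm_sound R hzc hz1 hz2 f q F hf

end forms

/-- the word of a relation -/
def wOf (D : PcD) (i j : ℕ) : List ℕ := if i = j then D.sq i else D.cm i j

/-- the coboundary form of a relation -/
def cob (D : PcD) (C : List (List (ℕ × ℕ))) (i j : ℕ) : List (ℕ × ℕ) :=
  (wOf D i j).flatMap fun l => C.getD l []

/-- the form to be checked for a relation -/
def whole (D : PcD) (C Z : List (List (ℕ × ℕ))) (cert : List ℕ) (i j : ℕ) : List (ℕ × ℕ) :=
  (i, j) :: (cob D C i j ++ cert.flatMap fun n => Z.getD n [])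

/-- the certificate check -/
def certOK (D : PcD) (C Z : List (List (ℕ × ℕ))) (certs : List (List ℕ)) : Bool :=
  (List.range D.k).all fun i => (List.range D.k).all fun j =>
    decide (j < i) || evenCounts (whole D C Z (certs.getD (i * D.k + j) []) i j)

theorem cert_sound (D : PcD) (C Z : List (List (ℕ × ℕ))) (certs : List (List ℕ))
    (a : ℕ → ℕ → ℕ) (hZ : ∀ F ∈ Z, Even (ev a F)) (h : certOK D C Z certs = true)
    (i j : ℕ) (hij : i ≤ j) (hj : j < D.k) :
    Even (a i j + ((wOf D i j).map fun l => ev a (C.getD l [])).sum) := by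
  unfold certOK at h
  rw [List.all_eq_true] at h
  have h1 := h i (List.mem_range.mpr (lt_of_le_of_lt hij hj))
  rw [List.all_eq_true] at h1
  have h2 := h1 j (List.mem_range.mpr hj)
  rw [Bool.or_eq_true] at h2
  rcases h2 with h2 | h2
  · have : j < i := by simpa using h2
    omega
  · have h3 := even_ev_of_evenCounts a _ h2
    unfold whole at h3
    rw [ev_cons, ev_append] at h3
    unfold cob at h3
    rw [ev_flatMap, ev_flatMap] at h3
    have h4 : Even ((certs.getD (i * D.k + j) []).map fun n => ev a (Z.getD n [])).sum := by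
      apply even_list_sum
      intro x hx
      obtain ⟨n, _, rfl⟩ := List.mem_map.mp hx
      by_cases hn : n < Z.length
      · rw [List.getD_eq_getElem _ _ hn]
        exact hZ _ (List.getElem_mem hn)
      · rw [List.getD_eq_default _ _ (by omega)]
        exact ⟨0, rfl⟩
    simp only at h3
    rw [← add_assoc] at h3
    exact (Nat.even_add.mp h3).mpr h4

end Cfsg.Agent.Lib.Helper5.PcT
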