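import Mathlib
import Cfsg.Agent.Lib.Helper5.PcPA
import Cfsg.Agent.Lib.Helper5.PcTB

set_option autoImplicit false

/-! Forms with values divisible by the prime, and the certificate check, for polycyclic presentations
of groups of prime power order. -/

namespace Cfsg.Agent.Lib.Helper5.PcP

open Subgroup Cfsg.Agent.Lib.Helper5.PcT

/-- a form repeated `n` times -/
def rep (n : ℕ) (t : List (ℕ × ℕ)) : List (ℕ × ℕ) := (List.replicate n t).flatten

theorem ev_rep (a : ℕ → ℕ → ℕ) (n : ℕ) (t : List (ℕ × ℕ)) : ev a (rep n t) = n * ev a t := by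
  induction n with
  | zero => simp [rep, ev]
  | succ n ih =>
    have : rep (n + 1) t = t ++ rep n t := by
      simp [rep, List.replicate_succ]
    rw [this, ev_append, ih]
    ring

/-- every entry occurs a number of times divisible by `p` -/
def zeroCounts (p : ℕ) (t : List (ℕ × ℕ)) : Bool :=
  t.all fun q => (@List.count (ℕ × ℕ) instBEqOfDecidableEq q t) % p == 0

theorem dvd_ev_of_zeroCounts (p : ℕ) (a : ℕ → ℕ → ℕ) (t : List (ℕ × ℕ))
    (h : zeroCounts p t = true) : p ∣ ev a t := by
  unfold ev
  rw [Finset.sum_list_map_count]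
  apply Finset.dvd_sum
  intro q hq
  have hq' : q ∈ t := List.mem_toFinset.mp hq
  unfold zeroCounts at h
  rw [List.all_eq_true] at h
  have := h q hq'
  have h2 : (@List.count (ℕ × ℕ) instBEqOfDecidableEq q t) % p = 0 := by simpa using this
  rw [smul_eq_mul]
  exact Dvd.dvd.mul_right (Nat.dvd_of_mod_eq_zero h2) _

theorem dvd_list_sum (p : ℕ) (l : List ℕ) (h : ∀ x ∈ l, p ∣ x) : p ∣ l.sum := by
  induction l with
  | nil => exact dvd_zero p
  | cons x l ih =>
    rw [List.sum_cons]
    exact dvd_add (h x List.mem_cons_self) (ih fun y hy => h y (List.mem_cons_of_mem x hy))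

section order

variable {Γ : Type*} [Group Γ] {z : Γ} {p : ℕ}

theorem pow_eq_one_iff_dvd (hp : p.Prime) (hz1 : z ≠ 1) (hzp : z ^ p = 1) (n : ℕ) :
    z ^ n = 1 ↔ p ∣ n := by
  have : Fact p.Prime := ⟨hp⟩
  have ho : orderOf z = p := orderOf_eq_prime hzp hz1
  rw [← orderOf_dvd_iff_pow_eq_one, ho]

theorem pow_mul_self_eq_one (hzp : z ^ p = 1) (n : ℕ) : z ^ (p * n) = 1 := by
  rw [pow_mul, hzp, one_pow]

/-- `z ^ m = z ^ n` when `m + (p - 1) * n` is divisible by `p` -/
theorem pow_eq_pow_of_dvd (hp : 1 ≤ p) (hzp : z ^ p = 1) {m n : ℕ} (h : p ∣ m + (p - 1) * n) :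
    z ^ m = z ^ n := by
  obtain ⟨r, hr⟩ := h
  have h1 : z ^ (m + (p - 1) * n) = 1 := by rw [hr, pow_mul_self_eq_one hzp]
  have h2 : z ^ ((p - 1) * n) * z ^ n = 1 := by
    rw [← pow_add]
    have : (p - 1) * n + n = p * n := by
      have : p - 1 + 1 = p := by omega
      calc (p - 1) * n + n = (p - 1 + 1) * n := by ring
        _ = p * n := by rw [this]
    rw [this, pow_mul_self_eq_one hzp]
  rw [pow_add] at h1
  calc z ^ m = z ^ m * (z ^ ((p - 1) * n) * z ^ n) := by rw [h2, mul_one]
    _ = (z ^ m * z ^ ((p - 1) * n)) * z ^ n := by group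
    _ = z ^ n := by rw [h1, one_mul]

/-- if `z ^ m = z ^ n` then `m + (p - 1) * n` is divisible by `p` -/
theorem dvd_of_pow_eq_pow (hp : p.Prime) (hz1 : z ≠ 1) (hzp : z ^ p = 1) {m n : ℕ}
    (h : z ^ m = z ^ n) : p ∣ m + (p - 1) * n := by
  apply (pow_eq_one_iff_dvd hp hz1 hzp _).mp
  rw [pow_add, h, ← pow_add]
  have h1 : 1 ≤ p := hp.one_lt.le
  have : n + (p - 1) * n = p * n := by
    have : p - 1 + 1 = p := by omega
    calc n + (p - 1) * n = (p - 1 + 1) * n := by ring
      _ = p * n := by rw [this]
  rw [this, pow_mul_self_eq_one hzp]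

end order

/-- the form of a consistency check: the word `u ++ v` collected directly and through the collected
form of `v` -/
def conForm (p : ℕ) (D : PcD) (f : ℕ) (q : List ℕ × List ℕ) : Option (List (ℕ × ℕ)) :=
  match collectP p D f (q.1 ++ q.2) with
  | none => none
  | some (d1, t1) =>
    match collectP p D f q.2 with
    | none => none
    | some (d2, t2) =>
      match collectP p D f (q.1 ++ d2.reverse) with
      | none => none
      | some (d3, t3) => if d1 = d3 then some (t1 ++ rep (p - 1) (t2 ++ t3)) else none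

/-- the form of a relation `u₁ * v₁⁻¹ = u₂ * v₂⁻¹` between four words, the first two and the last
two having equal images -/
def relForm (p : ℕ) (D : PcD) (f : ℕ) (q : List ℕ × List ℕ × List ℕ × List ℕ) :
    Option (List (ℕ × ℕ)) :=
  match collectP p D f q.1 with
  | none => none
  | some (d1, t1) =>
    match collectP p D f q.2.1 with
    | none => none
    | some (d2, t2) =>
      match collectP p D f q.2.2.1 with
      | none => none
      | some (d3, t3) =>
        match collectP p D f q.2.2.2 with
        | none => none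
        | some (d4, t4) =>
          if d1 = d2 ∧ d3 = d4 then some ((t1 ++ t4) ++ rep (p - 1) (t2 ++ t3)) else none

/-- all forms known to have value divisible by `p` -/
def zformsP (p : ℕ) (D : PcD) (f : ℕ) (con : List (List ℕ × List ℕ))
    (rel : List (List ℕ × List ℕ × List ℕ × List ℕ)) : List (List (ℕ × ℕ)) :=
  con.filterMap (conForm p D f) ++ rel.filterMap (relForm p D f)

section forms

variable {Γ : Type*} [Group Γ] {p : ℕ} {D : PcD} {X : ℕ → Γ} {z : Γ} {a : ℕ → ℕ → ℕ}

theorem conForm_sound (hp : p.Prime) (R : RelsP p D X z a) (hzc : ∀ g : Γ, g * z = z * g)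
    (hz1 : z ≠ 1) (hzp : z ^ p = 1) (f : ℕ) (q : List ℕ × List ℕ) (L : List (ℕ × ℕ))
    (h : conForm p D f q = some L) : p ∣ ev a L := by
  have hp1 : 1 ≤ p := hp.one_lt.le
  unfold conForm at h
  cases h1 : collectP p D f (q.1 ++ q.2) with
  | none => rw [h1] at h; exact absurd h (by simp)
  | some s1 =>
    rw [h1] at h
    obtain ⟨d1, t1⟩ := s1
    simp only at h
    cases h2 : collectP p D f q.2 with
    | none => rw [h2] at h; exact absurd h (by simp)
    | some s2 =>
      rw [h2] at h
      obtain ⟨d2, t2⟩ := s2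
      simp only at h
      cases h3 : collectP p D f (q.1 ++ d2.reverse) with
      | none => rw [h3] at h; exact absurd h (by simp)
      | some s3 =>
        rw [h3] at h
        obtain ⟨d3, t3⟩ := s3
        simp only at h
        by_cases hd : d1 = d3
        · rw [if_pos hd] at h
          simp only [Option.some.injEq] at h
          subst h
          have e1 := collectP_sound hp1 R hzc f _ _ h1
          have e2 := collectP_sound hp1 R hzc f _ _ h2
          have e3 := collectP_sound hp1 R hzc f _ _ h3
          simp only [nfw_append] at e1 e3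
          rw [← val_eq_nfw] at e3
          have key : val X d1 * z ^ ev a t1 = val X d1 * (z ^ ev a t3 * z ^ ev a t2) := by
            calc val X d1 * z ^ ev a t1 = nfw X q.1 * nfw X q.2 := e1.symm
              _ = nfw X q.1 * (val X d2 * z ^ ev a t2) := by rw [e2]
              _ = (nfw X q.1 * val X d2) * z ^ ev a t2 := by group
              _ = (val X d3 * z ^ ev a t3) * z ^ ev a t2 := by rw [e3]
              _ = val X d1 * (z ^ ev a t3 * z ^ ev a t2) := by rw [hd]; group
          have key2 : z ^ ev a t1 = z ^ (ev a t2 + ev a t3) := by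
            rw [add_comm, pow_add]; exact mul_left_cancel key
          rw [ev_append, ev_rep, ev_append]
          exact dvd_of_pow_eq_pow hp hz1 hzp key2
        · rw [if_neg hd] at h
          exact absurd h (by simp)

theorem relForm_sound (hp : p.Prime) (R : RelsP p D X z a) (hzc : ∀ g : Γ, g * z = z * g)
    (hz1 : z ≠ 1) (hzp : z ^ p = 1) (f : ℕ) (q : List ℕ × List ℕ × List ℕ × List ℕ)
    (L : List (ℕ × ℕ)) (h : relForm p D f q = some L)
    (hq : nfw X q.1 * (nfw X q.2.1)⁻¹ = nfw X q.2.2.1 * (nfw X q.2.2.2)⁻¹) : p ∣ ev a L := by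
  have hp1 : 1 ≤ p := hp.one_lt.le
  have hzn : ∀ (n : ℕ) (g : Γ), g * z ^ n = z ^ n * g := fun n g =>
    ((Commute.pow_right (hzc g) n)).eq
  unfold relForm at h
  cases h1 : collectP p D f q.1 with
  | none => rw [h1] at h; exact absurd h (by simp)
  | some s1 =>
    rw [h1] at h
    obtain ⟨d1, t1⟩ := s1
    simp only at h
    cases h2 : collectP p D f q.2.1 with
    | none => rw [h2] at h; exact absurd h (by simp)
    | some s2 =>
      rw [h2] at h
      obtain ⟨d2, t2⟩ := s2
      simp only at h
      cases h3 : collectP p D f q.2.2.1 with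
      | none => rw [h3] at h; exact absurd h (by simp)
      | some s3 =>
        rw [h3] at h
        obtain ⟨d3, t3⟩ := s3
        simp only at h
        cases h4 : collectP p D f q.2.2.2 with
        | none => rw [h4] at h; exact absurd h (by simp)
        | some s4 =>
          rw [h4] at h
          obtain ⟨d4, t4⟩ := s4
          simp only at h
          by_cases hd : d1 = d2 ∧ d3 = d4
          · rw [if_pos hd] at h
            simp only [Option.some.injEq] at h
            subst h
            obtain ⟨hd1, hd2⟩ := hd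
            have e1 := collectP_sound hp1 R hzc f _ _ h1
            have e2 := collectP_sound hp1 R hzc f _ _ h2
            have e3 := collectP_sound hp1 R hzc f _ _ h3
            have e4 := collectP_sound hp1 R hzc f _ _ h4
            simp only at e1 e2 e3 e4
            rw [e1, e2, e3, e4, ← hd1, ← hd2] at hq
            have hL : val X d1 * z ^ ev a t1 * (val X d1 * z ^ ev a t2)⁻¹ =
                z ^ ev a t1 * (z ^ ev a t2)⁻¹ := by
              calc val X d1 * z ^ ev a t1 * (val X d1 * z ^ ev a t2)⁻¹
                  = val X d1 * (z ^ ev a t1 * (z ^ ev a t2)⁻¹) * (val X d1)⁻¹ := by group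
                _ = val X d1 * (z ^ (ev a t1 : ℤ) * (z ^ (ev a t2 : ℤ))⁻¹) * (val X d1)⁻¹ := by
                    simp only [zpow_natCast]
                _ = z ^ ev a t1 * (z ^ ev a t2)⁻¹ := by
                    have c1 : Commute (val X d1) z := (hzc (val X d1))
                    have c2 : Commute (val X d1) (z ^ (ev a t1 : ℤ) * (z ^ (ev a t2 : ℤ))⁻¹) :=
                      (c1.zpow_right _).mul_right (c1.zpow_right _).inv_right
                    rw [c2.eq]
                    simp only [zpow_natCast]
                    group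
            have hR : val X d3 * z ^ ev a t3 * (val X d3 * z ^ ev a t4)⁻¹ =
                z ^ ev a t3 * (z ^ ev a t4)⁻¹ := by
              calc val X d3 * z ^ ev a t3 * (val X d3 * z ^ ev a t4)⁻¹
                  = val X d3 * (z ^ ev a t3 * (z ^ ev a t4)⁻¹) * (val X d3)⁻¹ := by group
                _ = val X d3 * (z ^ (ev a t3 : ℤ) * (z ^ (ev a t4 : ℤ))⁻¹) * (val X d3)⁻¹ := by
                    simp only [zpow_natCast]
                _ = z ^ ev a t3 * (z ^ ev a t4)⁻¹ := by
                    have c1 : Commute (val X d3) z := (hzc (val X d3))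
                    have c2 : Commute (val X d3) (z ^ (ev a t3 : ℤ) * (z ^ (ev a t4 : ℤ))⁻¹) :=
                      (c1.zpow_right _).mul_right (c1.zpow_right _).inv_right
                    rw [c2.eq]
                    simp only [zpow_natCast]
                    group
            rw [hL, hR] at hq
            have key : z ^ (ev a t1 + ev a t4) = z ^ (ev a t2 + ev a t3) := by
              rw [pow_add, pow_add]
              have := hq
              calc z ^ ev a t1 * z ^ ev a t4
                  = (z ^ ev a t1 * (z ^ ev a t2)⁻¹) * z ^ ev a t2 * z ^ ev a t4 := by group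
                _ = (z ^ ev a t3 * (z ^ ev a t4)⁻¹) * z ^ ev a t2 * z ^ ev a t4 := by rw [hq]
                _ = z ^ ev a t3 * ((z ^ ev a t4)⁻¹ * z ^ ev a t2) * z ^ ev a t4 := by group
                _ = z ^ ev a t3 * (z ^ ev a t2 * (z ^ ev a t4)⁻¹) * z ^ ev a t4 := by
                    rw [← (hzn (ev a t2) ((z ^ ev a t4)⁻¹))]
                _ = z ^ ev a t3 * z ^ ev a t2 := by group
                _ = z ^ ev a t2 * z ^ ev a t3 := by rw [← pow_add, ← pow_add, add_comm]
            rw [ev_append, ev_append, ev_rep, ev_append]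
            exact dvd_of_pow_eq_pow hp hz1 hzp key
          · rw [if_neg hd] at h
            exact absurd h (by simp)

theorem zformsP_dvd (hp : p.Prime) (R : RelsP p D X z a) (hzc : ∀ g : Γ, g * z = z * g)
    (hz1 : z ≠ 1) (hzp : z ^ p = 1) (f : ℕ) (con : List (List ℕ × List ℕ))
    (rel : List (List ℕ × List ℕ × List ℕ × List ℕ))
    (hrel : ∀ q ∈ rel, nfw X q.1 * (nfw X q.2.1)⁻¹ = nfw X q.2.2.1 * (nfw X q.2.2.2)⁻¹) :
    ∀ F ∈ zformsP p D f con rel, p ∣ ev a F := by
  intro F hF
  unfold zformsP at hF
  rcases List.mem_append.mp hF with h | h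
  · obtain ⟨q, _, hf⟩ := List.mem_filterMap.mp h
    exact conForm_sound hp R hzc hz1 hzp f q F hf
  · obtain ⟨q, hq, hf⟩ := List.mem_filterMap.mp h
    exact relForm_sound hp R hzc hz1 hzp f q F hf (hrel q hq)

end forms

/-- the form to be checked for a relation -/
def wholeP (p : ℕ) (D : PcD) (C Z : List (List (ℕ × ℕ))) (cert : List ℕ) (i j : ℕ) :
    List (ℕ × ℕ) :=
  (i, j) :: (rep (p - 1) (cob D C i j) ++ cert.flatMap fun n => Z.getD n [])

/-- the certificate check -/
def certOKP (p : ℕ) (D : PcD) (C Z : List (List (ℕ × ℕ))) (certs : List (List ℕ)) : Bool :=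
  (List.range D.k).all fun i => (List.range D.k).all fun j =>
    decide (j < i) || zeroCounts p (wholeP p D C Z (certs.getD (i * D.k + j) []) i j)

theorem certP_sound (p : ℕ) (D : PcD) (C Z : List (List (ℕ × ℕ))) (certs : List (List ℕ))
    (a : ℕ → ℕ → ℕ) (hZ : ∀ F ∈ Z, p ∣ ev a F) (h : certOKP p D C Z certs = true)
    (i j : ℕ) (hij : i ≤ j) (hj : j < D.k) :
    p ∣ a i j + (p - 1) * ((wOf D i j).map fun l => ev a (C.getD l [])).sum := by
  unfold certOKP at h
  rw [List.all_eq_true] at h
  have h1 := h i (List.mem_range.mpr (lt_of_le_of_lt hij hj))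
  rw [List.all_eq_true] at h1
  have h2 := h1 j (List.mem_range.mpr hj)
  rw [Bool.or_eq_true] at h2
  rcases h2 with h2 | h2
  · have : j < i := by simpa using h2
    omega
  · have h3 := dvd_ev_of_zeroCounts p a _ h2
    unfold wholeP at h3
    rw [ev_cons, ev_append, ev_rep] at h3
    unfold cob at h3
    rw [ev_flatMap, ev_flatMap] at h3
    have h4 : p ∣ ((certs.getD (i * D.k + j) []).map fun n => ev a (Z.getD n [])).sum := by
      apply dvd_list_sum
      intro x hx
      obtain ⟨n, _, rfl⟩ := List.mem_map.mp hx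
      by_cases hn : n < Z.length
      · rw [List.getD_eq_getElem _ _ hn]
        exact hZ _ (List.getElem_mem hn)
      · rw [List.getD_eq_default _ _ (by omega)]
        exact dvd_zero p
    simp only at h3
    rw [← add_assoc] at h3
    exact (Nat.dvd_add_left h4).mp h3

end Cfsg.Agent.Lib.Helper5.PcP
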