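import Mathlib
import Cfsg.Agent.Lib.Helper5.PcTB

set_option autoImplicit false

/-! Adjusting lifts by central elements, the order of a group with a polycyclic presentation, and
the splitting theorem. -/

namespace Cfsg.Agent.Lib.Helper5.PcT

open Subgroup Cfsg.Agent.Lib.Helper5.Stem
open scoped commutatorElement

section adjust

variable {Γ : Type*} [Group Γ] {D : PcD} {X : ℕ → Γ} {z : Γ} {a : ℕ → ℕ → ℕ}

theorem nfw_adjust (hzc : ∀ g : Γ, g * z = z * g) (c : ℕ → ℕ) (l : List ℕ) :
    nfw (fun i => X i * z ^ c i) l = nfw X l * z ^ (l.map c).sum := by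
  have hzn : ∀ (n : ℕ) (g : Γ), g * z ^ n = z ^ n * g := fun n g =>
    ((Commute.pow_right (hzc g) n)).eq
  induction l with
  | nil => simp [nfw]
  | cons i l ih =>
    rw [nfw_cons, nfw_cons, ih, List.map_cons, List.sum_cons, pow_add]
    calc X i * z ^ c i * (nfw X l * z ^ (l.map c).sum)
        = X i * (z ^ c i * nfw X l) * z ^ (l.map c).sum := by group
      _ = X i * (nfw X l * z ^ c i) * z ^ (l.map c).sum := by rw [← hzn]
      _ = X i * nfw X l * (z ^ c i * z ^ (l.map c).sum) := by group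

/-- adjusted lifts satisfy the relations exactly -/
theorem rels_adjust (R : Rels D X z a) (hzc : ∀ g : Γ, g * z = z * g) (hz2 : z * z = 1)
    (c : ℕ → ℕ)
    (hpar : ∀ i j, i ≤ j → Even (a i j + ((wOf D i j).map c).sum)) :
    Rels D (fun i => X i * z ^ c i) z (fun _ _ => 0) := by
  have hzn : ∀ (n : ℕ) (g : Γ), g * z ^ n = z ^ n * g := fun n g =>
    ((Commute.pow_right (hzc g) n)).eq
  have hsqz : ∀ n : ℕ, z ^ n * z ^ n = 1 := by
    intro n
    rw [← pow_add, ← two_mul, pow_mul, pow_two, hz2, one_pow]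
  constructor
  · intro i
    have h1 := hpar i i le_rfl
    have hw : wOf D i i = D.sq i := by simp [wOf]
    rw [hw] at h1
    have h2 := pow_eq_pow_of_even hz2 h1
    show X i * z ^ c i * (X i * z ^ c i) = nfw (fun i => X i * z ^ c i) (D.sq i) * z ^ 0
    rw [nfw_adjust hzc, pow_zero, mul_one, ← h2, ← R.sq i]
    calc X i * z ^ c i * (X i * z ^ c i) = X i * (z ^ c i * X i) * z ^ c i := by group
      _ = X i * (X i * z ^ c i) * z ^ c i := by rw [← hzn]
      _ = X i * X i * (z ^ c i * z ^ c i) := by group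
      _ = X i * X i := by rw [hsqz, mul_one]
  · intro i j hij
    have h1 := hpar i j hij.le
    have hw : wOf D i j = D.cm i j := by simp [wOf, hij.ne]
    rw [hw] at h1
    have h2 := pow_eq_pow_of_even hz2 h1
    show X j * z ^ c j * (X i * z ^ c i) =
      X i * z ^ c i * (X j * z ^ c j) * nfw (fun i => X i * z ^ c i) (D.cm i j) * z ^ 0
    rw [nfw_adjust hzc, pow_zero, mul_one, ← h2]
    have eL : X j * z ^ c j * (X i * z ^ c i) =
        X i * X j * nfw X (D.cm i j) * z ^ (a i j + c j + c i) := by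
      calc X j * z ^ c j * (X i * z ^ c i) = X j * (z ^ c j * X i) * z ^ c i := by group
        _ = X j * (X i * z ^ c j) * z ^ c i := by rw [← hzn]
        _ = (X j * X i) * (z ^ c j * z ^ c i) := by group
        _ = (X i * X j * nfw X (D.cm i j) * z ^ a i j) * (z ^ c j * z ^ c i) := by
            rw [R.cm i j hij]
        _ = X i * X j * nfw X (D.cm i j) * (z ^ a i j * z ^ c j * z ^ c i) := by group
        _ = X i * X j * nfw X (D.cm i j) * z ^ (a i j + c j + c i) := by
            rw [pow_add, pow_add]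
    have eR : X i * z ^ c i * (X j * z ^ c j) * (nfw X (D.cm i j) * z ^ a i j) =
        X i * X j * nfw X (D.cm i j) * z ^ (a i j + c j + c i) := by
      calc X i * z ^ c i * (X j * z ^ c j) * (nfw X (D.cm i j) * z ^ a i j)
          = X i * (z ^ c i * (X j * z ^ c j * nfw X (D.cm i j))) * z ^ a i j := by group
        _ = X i * ((X j * z ^ c j * nfw X (D.cm i j)) * z ^ c i) * z ^ a i j := by rw [← hzn]
        _ = X i * X j * (z ^ c j * nfw X (D.cm i j)) * z ^ c i * z ^ a i j := by group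
        _ = X i * X j * (nfw X (D.cm i j) * z ^ c j) * z ^ c i * z ^ a i j := by rw [← hzn]
        _ = X i * X j * nfw X (D.cm i j) * (z ^ c j * z ^ c i * z ^ a i j) := by group
        _ = X i * X j * nfw X (D.cm i j) * z ^ (a i j + c j + c i) := by
            rw [← pow_add, ← pow_add]
            congr 2
            ring
    rw [eL, eR]

end adjust

section chain

variable {Γ : Type*} [Group Γ] [Finite Γ] {D : PcD} {X : ℕ → Γ} {z : Γ}

/-- the generators from `m` on -/
def tailSet (D : PcD) (X : ℕ → Γ) (m : ℕ) : Set Γ := {x | ∃ l, m ≤ l ∧ l < D.k ∧ x = X l}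

theorem tailSet_succ (m : ℕ) (hm : m < D.k) :
    tailSet D X m = insert (X m) (tailSet D X (m + 1)) := by
  ext x
  constructor
  · rintro ⟨l, h1, h2, rfl⟩
    by_cases hl : l = m
    · left; rw [hl]
    · right; exact ⟨l, by omega, h2, rfl⟩
  · rintro (rfl | ⟨l, h1, h2, rfl⟩)
    · exact ⟨m, le_rfl, hm, rfl⟩
    · exact ⟨l, by omega, h2, rfl⟩

theorem closure_insert_inv (x : Γ) (T : Set Γ) :
    closure (insert x⁻¹ T) = closure (insert x T) := by
  apply le_antisymm
  · rw [closure_le]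
    rintro y (rfl | hy)
    · exact inv_mem (subset_closure (Set.mem_insert _ _))
    · exact subset_closure (Set.mem_insert_of_mem _ hy)
  · rw [closure_le]
    rintro y (rfl | hy)
    · have : y⁻¹ ∈ closure (insert y⁻¹ T) := subset_closure (Set.mem_insert _ _)
      simpa using inv_mem this
    · exact subset_closure (Set.mem_insert_of_mem _ hy)

theorem nfw_mem_closure (T : Set Γ) (l : List ℕ) (h : ∀ x ∈ l, X x ∈ closure T) :
    nfw X l ∈ closure T := by
  induction l with
  | nil => exact one_mem _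
  | cons i l ih =>
    rw [nfw_cons]
    exact mul_mem (h i List.mem_cons_self) (ih fun x hx => h x (List.mem_cons_of_mem i hx))

/-- a group with a polycyclic presentation on `k` generators has order at most `2 ^ k` -/
theorem card_closure_le (R : Rels D X z (fun _ _ => 0))
    (hsq : ∀ i, i < D.k → ∀ l ∈ D.sq i, i < l ∧ l < D.k)
    (hcm : ∀ i j, i < j → j < D.k → ∀ l ∈ D.cm i j, i < l ∧ l < D.k) :
    ∀ n m, m + n = D.k → Nat.card (closure (tailSet D X m)) ≤ 2 ^ n := by
  intro n
  induction n with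
  | zero =>
    intro m hm
    have : tailSet D X m = ∅ := by
      ext x
      simp only [tailSet, Set.mem_setOf_eq, Set.mem_empty_iff_false, iff_false]
      rintro ⟨l, h1, h2, _⟩
      omega
    rw [this, Subgroup.closure_empty]
    simp
  | succ n ih =>
    intro m hm
    have hmk : m < D.k := by omega
    rw [tailSet_succ m hmk, ← closure_insert_inv]
    have hmem : ∀ l, m < l → l < D.k → X l ∈ closure (tailSet D X (m + 1)) := by
      intro l h1 h2
      exact subset_closure ⟨l, by omega, h2, rfl⟩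
    have h1 : ((X m)⁻¹) ^ 2 ∈ closure (tailSet D X (m + 1)) := by
      have e : ((X m)⁻¹) ^ 2 = (nfw X (D.sq m))⁻¹ := by
        have := R.sq m
        rw [pow_zero, mul_one] at this
        rw [← this]; group
      rw [e]
      apply inv_mem
      apply nfw_mem_closure
      intro x hx
      obtain ⟨hx1, hx2⟩ := hsq m hmk x hx
      exact hmem x hx1 hx2
    have h2 : ∀ t ∈ tailSet D X (m + 1), (X m)⁻¹ * t * ((X m)⁻¹)⁻¹ ∈
        closure (tailSet D X (m + 1)) := by
      rintro t ⟨j, hj1, hj2, rfl⟩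
      have hmj : m < j := by omega
      have := R.cm m j hmj
      rw [pow_zero, mul_one] at this
      have e : (X m)⁻¹ * X j * ((X m)⁻¹)⁻¹ = X j * nfw X (D.cm m j) := by
        rw [inv_inv]
        calc (X m)⁻¹ * X j * X m = (X m)⁻¹ * (X j * X m) := by group
          _ = (X m)⁻¹ * (X m * X j * nfw X (D.cm m j)) := by rw [this]
          _ = X j * nfw X (D.cm m j) := by group
      rw [e]
      apply mul_mem (hmem j hmj hj2)
      apply nfw_mem_closure
      intro x hx
      obtain ⟨hx1, hx2⟩ := hcm m j hmj hj2 x hx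
      exact hmem x hx1 hx2
    have h3 := card_closure_insert_pow_le (x := (X m)⁻¹) (T := tailSet D X (m + 1)) 2
      (by norm_num) h1 h2
    have h4 := ih (m + 1) (by omega)
    calc Nat.card (closure (insert (X m)⁻¹ (tailSet D X (m + 1))))
        ≤ 2 * Nat.card (closure (tailSet D X (m + 1))) := h3
      _ ≤ 2 * 2 ^ n := Nat.mul_le_mul_left _ h4
      _ = 2 ^ (n + 1) := by ring

end chain

section cover

variable {Γ G : Type*} [Group Γ] [Group G] {σ : Γ →* G}

/-- if a subgroup of the extension covers `P` and is not bigger than `P`, the kernel of order two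
meets the derived group of the preimage of `P` trivially -/
theorem comm_comap_trivial_of_cover [Finite Γ] (hsurj : Function.Surjective σ) {z : Γ}
    (hK : Ker2 σ z) (P : Subgroup G) (P₁ : Subgroup Γ) (hmap : P ≤ P₁.map σ)
    (hcard : Nat.card P₁ ≤ Nat.card P) :
    ∀ w ∈ ⁅P.comap σ, P.comap σ⁆, σ w = 1 → w = 1 := by
  classical
  haveI : Finite G := Finite.of_surjective σ hsurj
  obtain ⟨hz1, hz2, hσz, hw, hzc⟩ := hK
  have hdec : ∀ x : Γ, σ x ∈ P → ∃ y ∈ P₁, σ (y⁻¹ * x) = 1 := by
    intro x hx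
    obtain ⟨y, hy, hyx⟩ := hmap hx
    exact ⟨y, hy, by rw [map_mul, map_inv, hyx, inv_mul_cancel]⟩
  have hcen : ∀ w : Γ, σ w = 1 → ∀ g : Γ, g * w = w * g := by
    intro w hw1 g
    rcases hw w hw1 with h | h
    · rw [h, one_mul, mul_one]
    · rw [h]; exact hzc g
  have hcomm : ⁅P.comap σ, P.comap σ⁆ ≤ P₁ := by
    rw [Subgroup.commutator_le]
    intro g₁ hg₁ g₂ hg₂
    obtain ⟨y₁, hy₁, hw₁⟩ := hdec g₁ hg₁
    obtain ⟨y₂, hy₂, hw₂⟩ := hdec g₂ hg₂
    have c₁ := hcen _ hw₁
    have c₂ := hcen _ hw₂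
    set w₁ := y₁⁻¹ * g₁ with hw₁d
    set w₂ := y₂⁻¹ * g₂ with hw₂d
    have e₁ : g₁ = y₁ * w₁ := by rw [hw₁d]; group
    have e₂ : g₂ = y₂ * w₂ := by rw [hw₂d]; group
    have : ⁅g₁, g₂⁆ = ⁅y₁, y₂⁆ := by
      rw [e₁, e₂, commutatorElement_def, commutatorElement_def]
      calc y₁ * w₁ * (y₂ * w₂) * (y₁ * w₁)⁻¹ * (y₂ * w₂)⁻¹
          = y₁ * (w₁ * y₂) * w₂ * w₁⁻¹ * y₁⁻¹ * w₂⁻¹ * y₂⁻¹ := by group
        _ = y₁ * (y₂ * w₁) * w₂ * w₁⁻¹ * y₁⁻¹ * w₂⁻¹ * y₂⁻¹ := by rw [← c₁ y₂]
        _ = y₁ * y₂ * (w₁ * w₂) * w₁⁻¹ * y₁⁻¹ * w₂⁻¹ * y₂⁻¹ := by group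
        _ = y₁ * y₂ * (w₂ * w₁) * w₁⁻¹ * y₁⁻¹ * w₂⁻¹ * y₂⁻¹ := by rw [c₂ w₁]
        _ = y₁ * y₂ * (w₂ * y₁⁻¹) * w₂⁻¹ * y₂⁻¹ := by group
        _ = y₁ * y₂ * (y₁⁻¹ * w₂) * w₂⁻¹ * y₂⁻¹ := by rw [← c₂ y₁⁻¹]
        _ = y₁ * y₂ * y₁⁻¹ * y₂⁻¹ := by group
    rw [this, commutatorElement_def]
    exact P₁.mul_mem (P₁.mul_mem (P₁.mul_mem hy₁ hy₂) (P₁.inv_mem hy₁)) (P₁.inv_mem hy₂)
  intro w hwc hw1
  have hwP : w ∈ P₁ := hcomm hwc
  rcases hw w hw1 with h | h
  · exact h
  · exfalso
    rw [h] at hwP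
    have hle : P.comap σ ≤ P₁ := by
      intro x hx
      obtain ⟨y, hy, hwx⟩ := hdec x hx
      have e : x = y * (y⁻¹ * x) := by group
      rw [e]
      rcases hw _ hwx with h' | h'
      · rw [h', mul_one]; exact hy
      · rw [h']; exact P₁.mul_mem hy hwP
    have hc1 : Nat.card (P.comap σ) ≤ Nat.card P₁ := Subgroup.card_le_of_le hle
    let f : P.comap σ → P := fun x => ⟨σ x, x.2⟩
    have hfs : Function.Surjective f := by
      rintro ⟨g, hg⟩
      obtain ⟨x, rfl⟩ := hsurj g
      exact ⟨⟨x, hg⟩, rfl⟩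
    have hfi : ¬ Function.Injective f := by
      intro hinj
      have hzm : z ∈ P.comap σ := by
        show σ z ∈ P
        rw [hσz]; exact one_mem _
      have : (⟨z, hzm⟩ : P.comap σ) = 1 := by
        apply hinj
        apply Subtype.ext
        show σ z = σ 1
        rw [hσz, map_one]
      exact hz1 (congrArg Subtype.val this)
    haveI : Fintype (P.comap σ) := Fintype.ofFinite _
    have : Finite P := Finite.of_surjective f hfs
    haveI : Fintype P := Fintype.ofFinite _
    have hlt := Fintype.card_lt_of_surjective_not_injective f hfs hfi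
    rw [← Nat.card_eq_fintype_card, ← Nat.card_eq_fintype_card] at hlt
    omega

end cover

end Cfsg.Agent.Lib.Helper5.PcT
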