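import Mathlib
import Cfsg.Agent.Lib.Helper5.PcPB
import Cfsg.Agent.Lib.Helper5.PcTD

set_option autoImplicit false

/-! Adjusting lifts by central elements, the order of a group with a polycyclic presentation, and
the splitting theorem, for an arbitrary prime. -/

namespace Cfsg.Agent.Lib.Helper5.PcP

open Subgroup Cfsg.Agent.Lib.Helper5.Stem Cfsg.Agent.Lib.Helper5.PcT
open scoped commutatorElement

section adjust

variable {Γ : Type*} [Group Γ] {p : ℕ} {D : PcD} {X : ℕ → Γ} {z : Γ} {a : ℕ → ℕ → ℕ}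

/-- adjusted lifts satisfy the relations exactly -/
theorem rels_adjustP (hp : 1 ≤ p) (R : RelsP p D X z a) (hzc : ∀ g : Γ, g * z = z * g)
    (hzp : z ^ p = 1) (c : ℕ → ℕ)
    (hpar : ∀ i j, i ≤ j → p ∣ a i j + (p - 1) * ((wOf D i j).map c).sum) :
    RelsP p D (fun i => X i * z ^ c i) z (fun _ _ => 0) := by
  have hzn : ∀ (n : ℕ) (g : Γ), g * z ^ n = z ^ n * g := fun n g =>
    ((Commute.pow_right (hzc g) n)).eq
  constructor
  · intro i
    have h1 := hpar i i le_rfl
    have hw : wOf D i i = D.sq i := by simp [wOf]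
    rw [hw] at h1
    have h2 := pow_eq_pow_of_dvd hp hzp h1
    show (X i * z ^ c i) ^ p = nfw (fun i => X i * z ^ c i) (D.sq i) * z ^ 0
    rw [nfw_adjust hzc, pow_zero, mul_one, ← h2, ← R.pw i]
    have hcomm : Commute (X i) (z ^ c i) := (hzn (c i) (X i))
    rw [hcomm.mul_pow, ← pow_mul, mul_comm (c i) p, pow_mul_self_eq_one hzp, mul_one]
  · intro i j hij
    have h1 := hpar i j hij.le
    have hw : wOf D i j = D.cm i j := by simp [wOf, hij.ne]
    rw [hw] at h1
    have h2 := pow_eq_pow_of_dvd hp hzp h1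
    show X j * z ^ c j * (X i * z ^ c i) =
      X i * z ^ c i * (X j * z ^ c j) * nfw (fun i => X i * z ^ c i) (D.cm i j) * z ^ 0
    rw [nfw_adjust hzc, pow_zero, mul_one, ← h2]
    have eL : X j * z ^ c j * (X i * z ^ c i) =
        X i * X j * nfw X (D.cm i j) * z ^ (a i j + c j + c i) := by
      calc X j * z ^ c j * (X i * z ^ c i) = X j * (z ^ c j * X i) * z ^ c i := by group
        _ = X j * (X i * z ^ c j) * z ^ c i := by rw [← hzn]
        _ = (X j * X i) * (z ^ c j * z ^ c i) := by group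
        _ = (X i * X j * nfw X (D.cm i j) * z ^ a i j) * (z ^ c j * z ^ c i) := by
            rw [R.cm i j hij]
        _ = X i * X j * nfw X (D.cm i j) * (z ^ a i j * z ^ c j * z ^ c i) := by group
        _ = X i * X j * nfw X (D.cm i j) * z ^ (a i j + c j + c i) := by
            rw [pow_add, pow_add]
    have eR : X i * z ^ c i * (X j * z ^ c j) * (nfw X (D.cm i j) * z ^ a i j) =
        X i * X j * nfw X (D.cm i j) * z ^ (a i j + c j + c i) := by
      calc X i * z ^ c i * (X j * z ^ c j) * (nfw X (D.cm i j) * z ^ a i j)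
          = X i * (z ^ c i * (X j * z ^ c j * nfw X (D.cm i j))) * z ^ a i j := by group
        _ = X i * ((X j * z ^ c j * nfw X (D.cm i j)) * z ^ c i) * z ^ a i j := by rw [← hzn]
        _ = X i * X j * (z ^ c j * nfw X (D.cm i j)) * z ^ c i * z ^ a i j := by group
        _ = X i * X j * (nfw X (D.cm i j) * z ^ c j) * z ^ c i * z ^ a i j := by rw [← hzn]
        _ = X i * X j * nfw X (D.cm i j) * (z ^ c j * z ^ c i * z ^ a i j) := by group
        _ = X i * X j * nfw X (D.cm i j) * z ^ (a i j + c j + c i) := by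
            rw [← pow_add, ← pow_add]
            congr 2
            ring
    rw [eL, eR]

end adjust

section chain

variable {Γ : Type*} [Group Γ] [Finite Γ] {p : ℕ} {D : PcD} {X : ℕ → Γ} {z : Γ}

/-- a group with a polycyclic presentation on `k` generators with `p`-th powers has order at most
`p ^ k` -/
theorem card_closure_leP (hp : 1 ≤ p) (R : RelsP p D X z (fun _ _ => 0))
    (hsq : ∀ i, i < D.k → ∀ l ∈ D.sq i, i < l ∧ l < D.k)
    (hcm : ∀ i j, i < j → j < D.k → ∀ l ∈ D.cm i j, i < l ∧ l < D.k) :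
    ∀ n m, m + n = D.k → Nat.card (closure (tailSet D X m)) ≤ p ^ n := by
  intro n
  induction n with
  | zero =>
    intro m hm
    have : tailSet D X m = ∅ := by
      ext x
      simp only [tailSet, Set.mem_setOf_eq, Set.mem_empty_iff_false, iff_false]
      rintro ⟨l, h1, h2, _⟩
      omega
    rw [this, Subgroup.closure_empty]
    simp
  | succ n ih =>
    intro m hm
    have hmk : m < D.k := by omega
    rw [tailSet_succ m hmk, ← closure_insert_inv]
    have hmem : ∀ l, m < l → l < D.k → X l ∈ closure (tailSet D X (m + 1)) := by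
      intro l h1 h2
      exact subset_closure ⟨l, by omega, h2, rfl⟩
    have h1 : ((X m)⁻¹) ^ p ∈ closure (tailSet D X (m + 1)) := by
      have e : ((X m)⁻¹) ^ p = (nfw X (D.sq m))⁻¹ := by
        have := R.pw m
        rw [pow_zero, mul_one] at this
        rw [← this, inv_pow]
      rw [e]
      apply inv_mem
      apply nfw_mem_closure
      intro x hx
      obtain ⟨hx1, hx2⟩ := hsq m hmk x hx
      exact hmem x hx1 hx2
    have h2 : ∀ t ∈ tailSet D X (m + 1), (X m)⁻¹ * t * ((X m)⁻¹)⁻¹ ∈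
        closure (tailSet D X (m + 1)) := by
      rintro t ⟨j, hj1, hj2, rfl⟩
      have hmj : m < j := by omega
      have := R.cm m j hmj
      rw [pow_zero, mul_one] at this
      have e : (X m)⁻¹ * X j * ((X m)⁻¹)⁻¹ = X j * nfw X (D.cm m j) := by
        rw [inv_inv]
        calc (X m)⁻¹ * X j * X m = (X m)⁻¹ * (X j * X m) := by group
          _ = (X m)⁻¹ * (X m * X j * nfw X (D.cm m j)) := by rw [this]
          _ = X j * nfw X (D.cm m j) := by group
      rw [e]
      apply mul_mem (hmem j hmj hj2)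
      apply nfw_mem_closure
      intro x hx
      obtain ⟨hx1, hx2⟩ := hcm m j hmj hj2 x hx
      exact hmem x hx1 hx2
    have h3 := card_closure_insert_pow_le (x := (X m)⁻¹) (T := tailSet D X (m + 1)) p
      (by omega) h1 h2
    have h4 := ih (m + 1) (by omega)
    calc Nat.card (closure (insert (X m)⁻¹ (tailSet D X (m + 1))))
        ≤ p * Nat.card (closure (tailSet D X (m + 1))) := h3
      _ ≤ p * p ^ n := Nat.mul_le_mul_left _ h4
      _ = p ^ (n + 1) := by ring

end chain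

section cover

variable {Γ G : Type*} [Group Γ] [Group G] {σ : Γ →* G}

/-- if a subgroup of the extension covers `P` and is not bigger than `P`, the central kernel meets
the derived group of the preimage of `P` trivially -/
theorem comm_comap_trivial_of_cover' [Finite Γ] (hcen : σ.ker ≤ center Γ)
    (P : Subgroup G) (P₁ : Subgroup Γ) (hmap : P ≤ P₁.map σ)
    (hcard : Nat.card P₁ ≤ Nat.card P) :
    ∀ w ∈ ⁅P.comap σ, P.comap σ⁆, σ w = 1 → w = 1 := by
  classical
  have hdec : ∀ x : Γ, σ x ∈ P → ∃ y ∈ P₁, σ (y⁻¹ * x) = 1 := by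
    intro x hx
    obtain ⟨y, hy, hyx⟩ := hmap hx
    exact ⟨y, hy, by rw [map_mul, map_inv, hyx, inv_mul_cancel]⟩
  have hcen' : ∀ w : Γ, σ w = 1 → ∀ g : Γ, g * w = w * g := by
    intro w hw1 g
    exact Subgroup.mem_center_iff.mp (hcen (MonoidHom.mem_ker.mpr hw1)) g
  have hcomm : ⁅P.comap σ, P.comap σ⁆ ≤ P₁ := by
    rw [Subgroup.commutator_le]
    intro g₁ hg₁ g₂ hg₂
    obtain ⟨y₁, hy₁, hw₁⟩ := hdec g₁ hg₁
    obtain ⟨y₂, hy₂, hw₂⟩ := hdec g₂ hg₂
    have c₁ := hcen' _ hw₁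
    have c₂ := hcen' _ hw₂
    set w₁ := y₁⁻¹ * g₁ with hw₁d
    set w₂ := y₂⁻¹ * g₂ with hw₂d
    have e₁ : g₁ = y₁ * w₁ := by rw [hw₁d]; group
    have e₂ : g₂ = y₂ * w₂ := by rw [hw₂d]; group
    have : ⁅g₁, g₂⁆ = ⁅y₁, y₂⁆ := by
      rw [e₁, e₂, commutatorElement_def, commutatorElement_def]
      calc y₁ * w₁ * (y₂ * w₂) * (y₁ * w₁)⁻¹ * (y₂ * w₂)⁻¹
          = y₁ * (w₁ * y₂) * w₂ * w₁⁻¹ * y₁⁻¹ * w₂⁻¹ * y₂⁻¹ := by group
        _ = y₁ * (y₂ * w₁) * w₂ * w₁⁻¹ * y₁⁻¹ * w₂⁻¹ * y₂⁻¹ := by rw [← c₁ y₂]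
        _ = y₁ * y₂ * (w₁ * w₂) * w₁⁻¹ * y₁⁻¹ * w₂⁻¹ * y₂⁻¹ := by group
        _ = y₁ * y₂ * (w₂ * w₁) * w₁⁻¹ * y₁⁻¹ * w₂⁻¹ * y₂⁻¹ := by rw [c₂ w₁]
        _ = y₁ * y₂ * (w₂ * y₁⁻¹) * w₂⁻¹ * y₂⁻¹ := by group
        _ = y₁ * y₂ * (y₁⁻¹ * w₂) * w₂⁻¹ * y₂⁻¹ := by rw [← c₂ y₁⁻¹]
        _ = y₁ * y₂ * y₁⁻¹ * y₂⁻¹ := by group
    rw [this, commutatorElement_def]
    exact P₁.mul_mem (P₁.mul_mem (P₁.mul_mem hy₁ hy₂) (P₁.inv_mem hy₁)) (P₁.inv_mem hy₂)
  -- the restriction of `σ` to `P₁` is injective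
  let Q : Subgroup P₁ := (P.comap σ).subgroupOf P₁
  let f : Q → P := fun x => ⟨σ x.1.1, x.2⟩
  have hfs : Function.Surjective f := by
    rintro ⟨g, hg⟩
    obtain ⟨y, hy, hyg⟩ := hmap hg
    refine ⟨⟨⟨y, hy⟩, ?_⟩, ?_⟩
    · show σ y ∈ P
      rw [hyg]; exact hg
    · exact Subtype.ext hyg
  have hQle : Nat.card Q ≤ Nat.card P₁ := Subgroup.card_le_card_group Q
  have hPle : Nat.card P ≤ Nat.card Q := Nat.card_le_card_of_surjective f hfs
  have hQP : Nat.card Q = Nat.card P := le_antisymm (le_trans hQle hcard) hPle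
  have hfi : Function.Injective f := by
    have hbij : Function.Bijective f :=
      (Nat.bijective_iff_surjective_and_card f).mpr ⟨hfs, hQP⟩
    exact hbij.1
  have hQtop : Q = ⊤ := by
    apply Subgroup.eq_top_of_card_eq
    omega
  intro w hwc hw1
  have hwP : w ∈ P₁ := hcomm hwc
  have hwQ : (⟨w, hwP⟩ : P₁) ∈ Q := by rw [hQtop]; exact Subgroup.mem_top _
  have h1Q : (1 : P₁) ∈ Q := Q.one_mem
  have : (⟨⟨w, hwP⟩, hwQ⟩ : Q) = ⟨1, h1Q⟩ := by
    apply hfi
    apply Subtype.ext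
    show σ w = σ 1
    rw [hw1, map_one]
  have := congrArg (fun x : Q => (x.1.1 : Γ)) this
  exact this

end cover

/-- `z` generates the central kernel of order `p` of `σ` -/
def KerP {Γ G : Type*} [Group Γ] [Group G] (p : ℕ) (σ : Γ →* G) (z : Γ) : Prop :=
  z ≠ 1 ∧ z ^ p = 1 ∧ σ z = 1 ∧ (∀ w : Γ, σ w = 1 → ∃ n : ℕ, w = z ^ n) ∧ ∀ g : Γ, g * z = z * g

section main

variable {Γ G : Type*} [Group Γ] [Group G] {σ : Γ →* G}

theorem kerP_of_card [Finite Γ] {p : ℕ} (hp : p.Prime) (hcen : σ.ker ≤ center Γ)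
    (hcard : Nat.card σ.ker = p) : ∃ z : Γ, KerP p σ z := by
  have : Fact p.Prime := ⟨hp⟩
  have hcyc : IsCyclic σ.ker := isCyclic_of_prime_card hcard
  obtain ⟨g, hg⟩ := hcyc.exists_generator
  refine ⟨g.1, ?_, ?_, g.2, ?_, ?_⟩
  · intro h1
    have hg1 : g = 1 := Subtype.ext h1
    have hall : ∀ x : σ.ker, x = 1 := by
      intro x
      obtain ⟨k, hk⟩ := hg x
      simp only at hk
      rw [← hk, hg1, one_zpow]
    have : Nat.card σ.ker = 1 := by
      rw [Nat.card_eq_one_iff_unique]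
      exact ⟨⟨fun a b => by rw [hall a, hall b]⟩, ⟨1⟩⟩
    rw [hcard] at this
    exact hp.one_lt.ne' this
  · have h := pow_card_eq_one' (G := σ.ker) (x := g)
    rw [hcard] at h
    have := congrArg Subtype.val h
    simpa using this
  · intro w hw
    have hwz : (⟨w, hw⟩ : σ.ker) ∈ Subgroup.zpowers g := hg _
    rw [← mem_powers_iff_mem_zpowers] at hwz
    obtain ⟨n, hn⟩ := hwz
    refine ⟨n, ?_⟩
    have := congrArg Subtype.val hn
    simpa using this.symm
  · intro x
    exact Subgroup.mem_center_iff.mp (hcen g.2) x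

theorem exists_pow_of_map_eqP {p : ℕ} {z : Γ} (hK : KerP p σ z) {x y : Γ} (h : σ x = σ y) :
    ∃ n : ℕ, x = y * z ^ n := by
  obtain ⟨hz1, hzp, hσz, hw, hzc⟩ := hK
  have h1 : σ (y⁻¹ * x) = 1 := by rw [map_mul, map_inv, h, inv_mul_cancel]
  obtain ⟨n, hn⟩ := hw _ h1
  refine ⟨n, ?_⟩
  rw [← hn]; group

/-- the data check, for a prime `p` -/
theorem ker_le_center_of_kerP {p : ℕ} {z : Γ} (hK : KerP p σ z) : σ.ker ≤ center Γ := by
  obtain ⟨hz1, hzp, hσz, hw, hzc⟩ := hK
  intro w hw1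
  obtain ⟨n, rfl⟩ := hw w (MonoidHom.mem_ker.mp hw1)
  rw [Subgroup.mem_center_iff]
  intro g
  exact ((Commute.pow_right (hzc g) n)).eq

/-- the splitting theorem, for an arbitrary list of forms with values divisible by `p` -/
theorem comm_comap_trivial_of_pcp_forms [Finite Γ] {p : ℕ} (hp : p.Prime)
    (hsurj : Function.Surjective σ) {z : Γ}
    (hK : KerP p σ z) (k : ℕ) (sqL : List (List ℕ)) (cmL : List (List (List ℕ))) (g : ℕ → G)
    (hg1 : ∀ i, k ≤ i → g i = 1)
    (hsqG : ∀ i, i < k → g i ^ p = nfw g (sqL.getD i []))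
    (hcmG : ∀ i j, i < j → j < k →
      g j * g i = g i * g j * nfw g ((cmL.getD i []).getD j []))
    (C : List (List (ℕ × ℕ))) (Z : List (List (ℕ × ℕ)))
    (certs : List (List ℕ)) (hdata : dataOK k sqL cmL = true)
    (hchk : certOKP p (PcD.ofLists k sqL cmL) C Z certs = true)
    (hZ : ∀ (Y : ℕ → Γ) (a : ℕ → ℕ → ℕ), (∀ i, σ (Y i) = g i) →
      RelsP p (PcD.ofLists k sqL cmL) Y z a → ∀ F ∈ Z, p ∣ ev a F)
    (P : Subgroup G) (hP : P ≤ closure {x | ∃ i, i < k ∧ x = g i})
    (hPc : p ^ k ≤ Nat.card P) :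
    ∀ w ∈ ⁅P.comap σ, P.comap σ⁆, σ w = 1 → w = 1 := by
  classical
  have hp1 : 1 ≤ p := hp.one_lt.le
  have hK' := hK
  obtain ⟨hz1, hzp, hσz, hw, hzc⟩ := hK
  set D : PcD := PcD.ofLists k sqL cmL with hD
  have hDk : D.k = k := rfl
  -- the data
  unfold dataOK at hdata
  simp only [Bool.and_eq_true, decide_eq_true_eq, List.all_eq_true, List.mem_range] at hdata
  obtain ⟨⟨hsl, hcl⟩, hsql, hcml⟩ := hdata
  have hsq0 : ∀ i, k ≤ i → D.sq i = [] := by
    intro i hi
    show sqL.getD i [] = []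
    exact List.getD_eq_default _ _ (by omega)
  have hrow : ∀ i, (cmL.getD i []).length ≤ k := by
    intro i
    by_cases hi : i < cmL.length
    · rw [List.getD_eq_getElem _ _ hi]
      exact hcl _ (List.getElem_mem hi)
    · rw [List.getD_eq_default _ _ (by omega)]
      simp
  have hcm0 : ∀ i j, k ≤ j → D.cm i j = [] := by
    intro i j hj
    show (cmL.getD i []).getD j [] = []
    exact List.getD_eq_default _ _ (le_trans (hrow i) hj)
  -- lifts
  let Y : ℕ → Γ := fun i => if i < k then Classical.choose (hsurj (g i)) else 1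
  have hY : ∀ i, σ (Y i) = g i := by
    intro i
    by_cases hi : i < k
    · simp only [Y, if_pos hi]
      exact Classical.choose_spec (hsurj (g i))
    · simp only [Y, if_neg hi]
      rw [map_one, hg1 i (by omega)]
  have hY1 : ∀ i, k ≤ i → Y i = 1 := by
    intro i hi
    simp only [Y, if_neg (not_lt.mpr hi)]
  -- the tails
  have H : ∀ i j, ∃ n : ℕ, (i = j → Y i ^ p = nfw Y (D.sq i) * z ^ n) ∧
      (i < j → Y j * Y i = Y i * Y j * nfw Y (D.cm i j) * z ^ n) ∧ (k ≤ j → n = 0) := by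
    intro i j
    by_cases hj : k ≤ j
    · refine ⟨0, ?_, ?_, fun _ => rfl⟩
      · intro hij
        rw [hsq0 i (by omega), hY1 i (by omega)]
        simp [nfw]
      · intro _
        rw [hcm0 i j hj, hY1 j hj]
        simp [nfw]
    · have hjk : j < k := by omega
      by_cases hij : i = j
      · have h1 : σ (Y i ^ p) = σ (nfw Y (D.sq i)) := by
          rw [map_pow, hY, map_nfw Y g hY]
          exact hsqG i (by omega)
        obtain ⟨n, hn⟩ := exists_pow_of_map_eqP hK' h1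
        exact ⟨n, fun _ => hn, fun h => absurd hij (by omega), fun h => absurd h hj⟩
      · by_cases hlt : i < j
        · have h1 : σ (Y j * Y i) = σ (Y i * Y j * nfw Y (D.cm i j)) := by
            rw [map_mul, map_mul, map_mul, hY, hY, map_nfw Y g hY]
            exact hcmG i j hlt hjk
          obtain ⟨n, hn⟩ := exists_pow_of_map_eqP hK' h1
          exact ⟨n, fun h => absurd h hij, fun _ => hn, fun h => absurd h hj⟩
        · exact ⟨0, fun h => absurd h hij, fun h => absurd h hlt, fun _ => rfl⟩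
  choose a ha using H
  have R : RelsP p D Y z a := ⟨fun i => (ha i i).1 rfl, fun i j hij => (ha i j).2.1 hij⟩
  have hZ' := hZ Y a hY R
  let c : ℕ → ℕ := fun l => ev a (C.getD l [])
  have hpar : ∀ i j, i ≤ j → p ∣ a i j + (p - 1) * ((wOf D i j).map c).sum := by
    intro i j hij
    by_cases hj : j < k
    · exact certP_sound p D C _ certs a hZ' hchk i j hij hj
    · have h0 : a i j = 0 := (ha i j).2.2 (by omega)
      have hw0 : wOf D i j = [] := by
        unfold wOf
        split_ifs with h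
        · exact hsq0 i (by omega)
        · exact hcm0 i j (by omega)
      rw [h0, hw0]
      simp
  have R' := rels_adjustP hp1 R hzc hzp c hpar
  set X' : ℕ → Γ := fun i => Y i * z ^ c i with hX'
  have hX : ∀ i, σ (X' i) = g i := by
    intro i
    rw [hX', map_mul, map_pow, hσz, one_pow, mul_one, hY]
  -- the order of the complement
  have hsq' : ∀ i, i < D.k → ∀ l ∈ D.sq i, i < l ∧ l < D.k := by
    intro i hi l hl
    have := hsql i hi l hl
    exact this
  have hcm' : ∀ i j, i < j → j < D.k → ∀ l ∈ D.cm i j, i < l ∧ l < D.k := by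
    intro i j hij hj l hl
    have := hcml i (by rw [hDk] at hj; omega) j hj l hl
    exact this
  have hcard := card_closure_leP hp1 R' hsq' hcm' k 0 (by rw [hDk]; omega)
  set P₁ : Subgroup Γ := closure (tailSet D X' 0) with hP₁
  apply comm_comap_trivial_of_cover' (ker_le_center_of_kerP hK') P P₁ _ (le_trans hcard hPc)
  refine le_trans hP ?_
  rw [closure_le]
  rintro x ⟨i, hi, rfl⟩
  exact ⟨X' i, subset_closure ⟨i, Nat.zero_le _, hi, rfl⟩, hX i⟩

end main

end Cfsg.Agent.Lib.Helper5.PcP
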