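import Mathlib
import Cfsg.Agent.Lib.Helper5.PcTD

set_option autoImplicit false

/-! The splitting theorem for the preimage of a two-group given by a polycyclic presentation, with
commuting lifts of pairs of commuting elements among the hypotheses. -/

namespace Cfsg.Agent.Lib.Helper5.PcT

open Subgroup Cfsg.Agent.Lib.Helper5.Stem
open scoped commutatorElement

/-- the form of a commutation -/
def commForm (D : PcD) (f : ℕ) (uv : List ℕ × List ℕ) : Option (List (ℕ × ℕ)) :=
  match collect D f (uv.1 ++ uv.2) with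
  | none => none
  | some (d1, t1) =>
    match collect D f (uv.2 ++ uv.1) with
    | none => none
    | some (d2, t2) => if d1 = d2 then some (t1 ++ t2) else none

/-- all forms known to have even value, commutations included -/
def zforms2 (D : PcD) (f : ℕ) (invW : List (List ℕ)) (tri : List (ℕ × ℕ × ℕ))
    (commW : List (List ℕ × List ℕ)) : List (List (ℕ × ℕ)) :=
  zforms D f invW tri ++ commW.filterMap (commForm D f)

section forms

variable {Γ : Type*} [Group Γ] {D : PcD} {X : ℕ → Γ} {z : Γ} {a : ℕ → ℕ → ℕ}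

theorem commForm_sound (R : Rels D X z a) (hzc : ∀ g : Γ, g * z = z * g) (hz1 : z ≠ 1)
    (hz2 : z * z = 1) (f : ℕ) (uv : List ℕ × List ℕ) (L : List (ℕ × ℕ))
    (h : commForm D f uv = some L)
    (hc : nfw X uv.1 * nfw X uv.2 = nfw X uv.2 * nfw X uv.1) : Even (ev a L) := by
  unfold commForm at h
  cases h1 : collect D f (uv.1 ++ uv.2) with
  | none => rw [h1] at h; exact absurd h (by simp)
  | some s1 =>
    rw [h1] at h
    obtain ⟨d1, t1⟩ := s1
    simp only at h
    cases h2 : collect D f (uv.2 ++ uv.1) with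
    | none => rw [h2] at h; exact absurd h (by simp)
    | some s2 =>
      rw [h2] at h
      obtain ⟨d2, t2⟩ := s2
      simp only at h
      by_cases hd : d1 = d2
      · rw [if_pos hd] at h
        simp only [Option.some.injEq] at h
        subst h
        have e1 := collect_sound R hzc f _ _ h1
        have e2 := collect_sound R hzc f _ _ h2
        rw [nfw_append] at e1 e2
        rw [hc, e2, ← hd] at e1
        have key : z ^ ev a t2 = z ^ ev a t1 := mul_left_cancel e1
        rw [ev_append]
        have h4 : z ^ (ev a t1 + ev a t2) = 1 := by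
          rw [pow_add, key, ← pow_add, ← two_mul, pow_mul, pow_two, hz2, one_pow]
        exact (pow_eq_one_iff_even hz1 hz2 _).mp h4
      · rw [if_neg hd] at h
        exact absurd h (by simp)

theorem zforms2_even (R : Rels D X z a) (hzc : ∀ g : Γ, g * z = z * g) (hz1 : z ≠ 1)
    (hz2 : z * z = 1) (f : ℕ) (invW : List (List ℕ)) (tri : List (ℕ × ℕ × ℕ))
    (commW : List (List ℕ × List ℕ))
    (hinv : ∀ u ∈ invW, nfw X u * nfw X u = 1)
    (hcomm : ∀ uv ∈ commW, nfw X uv.1 * nfw X uv.2 = nfw X uv.2 * nfw X uv.1) :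
    ∀ F ∈ zforms2 D f invW tri commW, Even (ev a F) := by
  intro F hF
  unfold zforms2 at hF
  rcases List.mem_append.mp hF with h | h
  · exact zforms_even R hzc hz1 hz2 f invW tri hinv F h
  · obtain ⟨uv, huv, hf⟩ := List.mem_filterMap.mp h
    exact commForm_sound R hzc hz1 hz2 f uv F hf (hcomm uv huv)

end forms

section main

variable {Γ G : Type*} [Group Γ] [Group G] {σ : Γ →* G}

/-- all lifts of the two elements commute -/
def QComm (σ : Γ →* G) (a b : G) : Prop := ∀ x y : Γ, σ x = a → σ y = b → x * y = y * x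

/-- the splitting theorem, with commuting lifts among the hypotheses -/
theorem comm_comap_trivial_of_pc' [Finite Γ] (hsurj : Function.Surjective σ) {z : Γ}
    (hK : Ker2 σ z) (k : ℕ) (sqL : List (List ℕ)) (cmL : List (List (List ℕ))) (g : ℕ → G)
    (hg1 : ∀ i, k ≤ i → g i = 1)
    (hsqG : ∀ i, i < k → g i * g i = nfw g (sqL.getD i []))
    (hcmG : ∀ i j, i < j → j < k →
      g j * g i = g i * g j * nfw g ((cmL.getD i []).getD j []))
    (f : ℕ) (invW : List (List ℕ)) (tri : List (ℕ × ℕ × ℕ)) (C : List (List (ℕ × ℕ)))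
    (commW : List (List ℕ × List ℕ)) (certs : List (List ℕ)) (hdata : dataOK k sqL cmL = true)
    (hchk : certOK (PcD.ofLists k sqL cmL) C
      (zforms2 (PcD.ofLists k sqL cmL) f invW tri commW) certs = true)
    (hQ : ∀ u ∈ invW, QInv σ (nfw g u))
    (hC : ∀ uv ∈ commW, QComm σ (nfw g uv.1) (nfw g uv.2))
    (P : Subgroup G) (hP : P ≤ closure {x | ∃ i, i < k ∧ x = g i})
    (hPc : 2 ^ k ≤ Nat.card P) :
    ∀ w ∈ ⁅P.comap σ, P.comap σ⁆, σ w = 1 → w = 1 := by
  classical
  have hK' := hK
  obtain ⟨hz1, hz2, hσz, hw, hzc⟩ := hK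
  set D : PcD := PcD.ofLists k sqL cmL with hD
  have hDk : D.k = k := rfl
  -- the data
  unfold dataOK at hdata
  simp only [Bool.and_eq_true, decide_eq_true_eq, List.all_eq_true, List.mem_range] at hdata
  obtain ⟨⟨hsl, hcl⟩, hsql, hcml⟩ := hdata
  have hsq0 : ∀ i, k ≤ i → D.sq i = [] := by
    intro i hi
    show sqL.getD i [] = []
    exact List.getD_eq_default _ _ (by omega)
  have hrow : ∀ i, (cmL.getD i []).length ≤ k := by
    intro i
    by_cases hi : i < cmL.length
    · rw [List.getD_eq_getElem _ _ hi]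
      exact hcl _ (List.getElem_mem hi)
    · rw [List.getD_eq_default _ _ (by omega)]
      simp
  have hcm0 : ∀ i j, k ≤ j → D.cm i j = [] := by
    intro i j hj
    show (cmL.getD i []).getD j [] = []
    exact List.getD_eq_default _ _ (le_trans (hrow i) hj)
  -- lifts
  let Y : ℕ → Γ := fun i => if i < k then Classical.choose (hsurj (g i)) else 1
  have hY : ∀ i, σ (Y i) = g i := by
    intro i
    by_cases hi : i < k
    · simp only [Y, if_pos hi]
      exact Classical.choose_spec (hsurj (g i))
    · simp only [Y, if_neg hi]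
      rw [map_one, hg1 i (by omega)]
  have hY1 : ∀ i, k ≤ i → Y i = 1 := by
    intro i hi
    simp only [Y, if_neg (not_lt.mpr hi)]
  -- the tails
  have H : ∀ i j, ∃ n : ℕ, (i = j → Y i * Y i = nfw Y (D.sq i) * z ^ n) ∧
      (i < j → Y j * Y i = Y i * Y j * nfw Y (D.cm i j) * z ^ n) ∧ (k ≤ j → n = 0) := by
    intro i j
    by_cases hj : k ≤ j
    · refine ⟨0, ?_, ?_, fun _ => rfl⟩
      · intro hij
        rw [hsq0 i (by omega), hY1 i (by omega)]
        simp [nfw]
      · intro _
        rw [hcm0 i j hj, hY1 j hj]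
        simp [nfw]
    · have hjk : j < k := by omega
      by_cases hij : i = j
      · have h1 : σ (Y i * Y i) = σ (nfw Y (D.sq i)) := by
          rw [map_mul, hY, map_nfw Y g hY]
          exact hsqG i (by omega)
        obtain ⟨n, hn⟩ := exists_pow_of_map_eq hK' h1
        exact ⟨n, fun _ => hn, fun h => absurd hij (by omega), fun h => absurd h hj⟩
      · by_cases hlt : i < j
        · have h1 : σ (Y j * Y i) = σ (Y i * Y j * nfw Y (D.cm i j)) := by
            rw [map_mul, map_mul, map_mul, hY, hY, map_nfw Y g hY]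
            exact hcmG i j hlt hjk
          obtain ⟨n, hn⟩ := exists_pow_of_map_eq hK' h1
          exact ⟨n, fun h => absurd h hij, fun _ => hn, fun h => absurd h hj⟩
        · exact ⟨0, fun h => absurd h hij, fun h => absurd h hlt, fun _ => rfl⟩
  choose a ha using H
  have R : Rels D Y z a := ⟨fun i => (ha i i).1 rfl, fun i j hij => (ha i j).2.1 hij⟩
  -- the forms
  have hinv : ∀ u ∈ invW, nfw Y u * nfw Y u = 1 := by
    intro u hu
    exact hQ u hu _ (map_nfw Y g hY u)
  have hcomm : ∀ uv ∈ commW, nfw Y uv.1 * nfw Y uv.2 = nfw Y uv.2 * nfw Y uv.1 := by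
    intro uv huv
    exact hC uv huv _ _ (map_nfw Y g hY uv.1) (map_nfw Y g hY uv.2)
  have hZ := zforms2_even R hzc hz1 hz2 f invW tri commW hinv hcomm
  let c : ℕ → ℕ := fun l => ev a (C.getD l [])
  have hpar : ∀ i j, i ≤ j → Even (a i j + ((wOf D i j).map c).sum) := by
    intro i j hij
    by_cases hj : j < k
    · exact cert_sound D C _ certs a hZ hchk i j hij hj
    · have h0 : a i j = 0 := (ha i j).2.2 (by omega)
      have hw0 : wOf D i j = [] := by
        unfold wOf
        split_ifs with h
        · exact hsq0 i (by omega)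
        · exact hcm0 i j (by omega)
      rw [h0, hw0]
      exact ⟨0, rfl⟩
  have R' := rels_adjust R hzc hz2 c hpar
  set X' : ℕ → Γ := fun i => Y i * z ^ c i with hX'
  have hX : ∀ i, σ (X' i) = g i := by
    intro i
    rw [hX', map_mul, map_pow, hσz, one_pow, mul_one, hY]
  -- the order of the complement
  have hsq' : ∀ i, i < D.k → ∀ l ∈ D.sq i, i < l ∧ l < D.k := by
    intro i hi l hl
    have := hsql i hi l hl
    exact this
  have hcm' : ∀ i j, i < j → j < D.k → ∀ l ∈ D.cm i j, i < l ∧ l < D.k := by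
    intro i j hij hj l hl
    have := hcml i (by rw [hDk] at hj; omega) j hj l hl
    exact this
  have hcard := card_closure_le R' hsq' hcm' k 0 (by rw [hDk]; omega)
  set P₁ : Subgroup Γ := closure (tailSet D X' 0) with hP₁
  apply comm_comap_trivial_of_cover hsurj hK' P P₁ _ (le_trans hcard hPc)
  refine le_trans hP ?_
  rw [closure_le]
  rintro x ⟨i, hi, rfl⟩
  exact ⟨X' i, subset_closure ⟨i, Nat.zero_le _, hi, rfl⟩, hX i⟩

end main

end Cfsg.Agent.Lib.Helper5.PcT
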