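import Mathlib
import Cfsg.Agent.Lib.Helper5.PcPC
import Cfsg.Agent.Lib.Helper5.PcTF

set_option autoImplicit false

/-! Fusion hypotheses for the splitting theorem for an arbitrary prime: equal powers and equal
commutators of lifts of conjugate elements. -/

namespace Cfsg.Agent.Lib.Helper5.PcP

open Subgroup Cfsg.Agent.Lib.Helper5.Stem Cfsg.Agent.Lib.Helper5.PcT
open scoped commutatorElement

section defs

variable {Γ G : Type*} [Group Γ] [Group G]

/-- all lifts of the two elements have the same `p`-th power -/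
def QPowEq (p : ℕ) (σ : Γ →* G) (a b : G) : Prop := ∀ x y : Γ, σ x = a → σ y = b → x ^ p = y ^ p

/-- all lifts of the element have trivial `p`-th power -/
def QPowOne (p : ℕ) (σ : Γ →* G) (a : G) : Prop := ∀ x : Γ, σ x = a → x ^ p = 1

/-- the lifts of the two pairs have the same commutator -/
def QCommEq (σ : Γ →* G) (a b a' b' : G) : Prop :=
  ∀ x y x' y' : Γ, σ x = a → σ y = b → σ x' = a' → σ y' = b' →
    x * y * (y * x)⁻¹ = x' * y' * (y' * x')⁻¹

variable {σ : Γ →* G} {p : ℕ} {z : Γ}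

theorem kerP_central (hK : KerP p σ z) {w : Γ} (hw : σ w = 1) (g : Γ) : g * w = w * g :=
  Subgroup.mem_center_iff.mp (ker_le_center_of_kerP hK (MonoidHom.mem_ker.mpr hw)) g

theorem kerP_pow (hK : KerP p σ z) {w : Γ} (hw : σ w = 1) : w ^ p = 1 := by
  obtain ⟨hz1, hzp, hσz, hw', hzc⟩ := hK
  obtain ⟨n, rfl⟩ := hw' w hw
  rw [← pow_mul, mul_comm, pow_mul, hzp, one_pow]

/-- lifts of conjugate elements of order `p` have the same `p`-th power -/
theorem qpoweq_of_conj (hsurj : Function.Surjective σ) (hK : KerP p σ z) {a b h : G}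
    (ha : a ^ p = 1) (hab : h * a * h⁻¹ = b) : QPowEq p σ a b := by
  intro x y hx hy
  obtain ⟨H, hH⟩ := hsurj h
  have hxp : σ (x ^ p) = 1 := by rw [map_pow, hx, ha]
  have hxc := kerP_central hK hxp
  set w := (H * x * H⁻¹)⁻¹ * y with hwd
  have hw1 : σ w = 1 := by
    rw [hwd, map_mul, map_inv, map_mul, map_mul, map_inv, hH, hx, hy, hab, inv_mul_cancel]
  have hwc := kerP_central hK hw1
  have hwp := kerP_pow hK hw1
  have e2 : y = (H * x * H⁻¹) * w := by rw [hwd]; group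
  have hcomm : Commute (H * x * H⁻¹) w := hwc _
  rw [e2, hcomm.mul_pow, hwp, mul_one, conj_pow, hxc H]
  group

/-- lifts of an element of order `p` conjugate to a power of itself with exponent not congruent to
one have trivial `p`-th power -/
theorem qpowone_of_conj_pow (hp : p.Prime) (hsurj : Function.Surjective σ) (hK : KerP p σ z)
    {a h : G} (k : ℕ) (hk1 : 1 ≤ k) (hk : ¬ p ∣ k - 1) (ha : a ^ p = 1)
    (hab : h * a * h⁻¹ = a ^ k) : QPowOne p σ a := by
  intro x hx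
  have hK' := hK
  obtain ⟨hz1, hzp, hσz, hw', hzc⟩ := hK
  have h1 : QPowEq p σ a (a ^ k) := qpoweq_of_conj hsurj hK' ha hab
  have h2 := h1 x (x ^ k) hx (by rw [map_pow, hx])
  have hxp : σ (x ^ p) = 1 := by rw [map_pow, hx, ha]
  obtain ⟨m, hm⟩ := hw' _ hxp
  have h3 : (x ^ k) ^ p = (x ^ p) ^ k := by rw [← pow_mul, ← pow_mul, mul_comm]
  rw [h3, hm, ← pow_mul] at h2
  -- z ^ m = z ^ (m * k)
  have h4 : z ^ (m * (k - 1)) = 1 := by
    have e : m * k = m + m * (k - 1) := by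
      have : k = 1 + (k - 1) := by omega
      calc m * k = m * (1 + (k - 1)) := by rw [← this]
        _ = m + m * (k - 1) := by ring
    rw [e, pow_add] at h2
    exact (mul_eq_left.mp h2.symm)
  have h5 : p ∣ m * (k - 1) := (pow_eq_one_iff_dvd hp hz1 hzp _).mp h4
  have h6 : p ∣ m := by
    rcases (Nat.Prime.dvd_mul hp).mp h5 with h | h
    · exact h
    · exact absurd h hk
  rw [hm]
  exact (pow_eq_one_iff_dvd hp hz1 hzp _).mpr h6

/-- lifts of simultaneously conjugate commuting pairs have the same commutator -/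
theorem qcommeq_of_conj (hsurj : Function.Surjective σ) (hK : KerP p σ z) {a b a' b' h : G}
    (hab : a * b = b * a) (h1 : h * a * h⁻¹ = a') (h2 : h * b * h⁻¹ = b') :
    QCommEq σ a b a' b' := by
  intro x y x' y' hx hy hx' hy'
  obtain ⟨H, hH⟩ := hsurj h
  set c := x * y * (y * x)⁻¹ with hcd
  have hc1 : σ c = 1 := by
    rw [hcd, map_mul, map_mul, map_inv, map_mul, hx, hy, hab, mul_inv_cancel]
  have hcc := kerP_central hK hc1
  set w₁ := (H * x * H⁻¹)⁻¹ * x' with hw₁d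
  set w₂ := (H * y * H⁻¹)⁻¹ * y' with hw₂d
  have hw₁ : σ w₁ = 1 := by
    rw [hw₁d, map_mul, map_inv, map_mul, map_mul, map_inv, hH, hx, hx', h1, inv_mul_cancel]
  have hw₂ : σ w₂ = 1 := by
    rw [hw₂d, map_mul, map_inv, map_mul, map_mul, map_inv, hH, hy, hy', h2, inv_mul_cancel]
  have c₁ := kerP_central hK hw₁
  have c₂ := kerP_central hK hw₂
  have e₁ : x' = (H * x * H⁻¹) * w₁ := by rw [hw₁d]; group
  have e₂ : y' = (H * y * H⁻¹) * w₂ := by rw [hw₂d]; group
  set u := H * x * H⁻¹ with hud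
  set v := H * y * H⁻¹ with hvd
  have e3 : x' * y' * (y' * x')⁻¹ = u * v * (v * u)⁻¹ := by
    rw [e₁, e₂]
    calc u * w₁ * (v * w₂) * (v * w₂ * (u * w₁))⁻¹
        = u * (w₁ * v) * w₂ * w₁⁻¹ * u⁻¹ * w₂⁻¹ * v⁻¹ := by group
      _ = u * (v * w₁) * w₂ * w₁⁻¹ * u⁻¹ * w₂⁻¹ * v⁻¹ := by rw [← c₁ v]
      _ = u * v * (w₁ * w₂) * w₁⁻¹ * u⁻¹ * w₂⁻¹ * v⁻¹ := by group
      _ = u * v * (w₂ * w₁) * w₁⁻¹ * u⁻¹ * w₂⁻¹ * v⁻¹ := by rw [c₂ w₁]
      _ = u * v * (w₂ * u⁻¹) * w₂⁻¹ * v⁻¹ := by group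
      _ = u * v * (u⁻¹ * w₂) * w₂⁻¹ * v⁻¹ := by rw [← c₂ u⁻¹]
      _ = u * v * (v * u)⁻¹ := by group
  have e4 : u * v * (v * u)⁻¹ = H * c * H⁻¹ := by
    rw [hud, hvd, hcd]; group
  rw [e3, e4, hcc H]
  group

end defs

/-- the `p`-fold repetition of a word -/
def flat (p : ℕ) (w : List ℕ) : List ℕ := (List.replicate p w).flatten

theorem nfw_flat {Γ : Type*} [Group Γ] (X : ℕ → Γ) (p : ℕ) (w : List ℕ) :
    nfw X (flat p w) = nfw X w ^ p := by
  induction p with
  | zero => simp [flat, nfw]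
  | succ n ih =>
    have : flat (n + 1) w = w ++ flat n w := by simp [flat, List.replicate_succ]
    rw [this, nfw_append, ih, pow_succ']

/-- the quadruples of words of the fusion hypotheses -/
def mkRel (p : ℕ) (pwEqL : List (List ℕ × List ℕ)) (pwOneL : List (List ℕ))
    (cmEqL : List (List ℕ × List ℕ × List ℕ × List ℕ)) (cmOneL : List (List ℕ × List ℕ)) :
    List (List ℕ × List ℕ × List ℕ × List ℕ) :=
  (pwEqL.map fun q => (flat p q.1, [], flat p q.2, [])) ++
  ((pwOneL.map fun w => (flat p w, [], [], [])) ++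
  ((cmEqL.map fun q => (q.1 ++ q.2.1, q.2.1 ++ q.1, q.2.2.1 ++ q.2.2.2, q.2.2.2 ++ q.2.2.1)) ++
  (cmOneL.map fun q => (q.1 ++ q.2, q.2 ++ q.1, [], []))))

section main

variable {Γ G : Type*} [Group Γ] [Group G] {σ : Γ →* G}

/-- the splitting theorem for an arbitrary prime, with fusion hypotheses -/
theorem comm_comap_trivial_of_pcp [Finite Γ] {p : ℕ} (hp : p.Prime)
    (hsurj : Function.Surjective σ) {z : Γ}
    (hK : KerP p σ z) (k : ℕ) (sqL : List (List ℕ)) (cmL : List (List (List ℕ))) (g : ℕ → G)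
    (hg1 : ∀ i, k ≤ i → g i = 1)
    (hsqG : ∀ i, i < k → g i ^ p = nfw g (sqL.getD i []))
    (hcmG : ∀ i j, i < j → j < k →
      g j * g i = g i * g j * nfw g ((cmL.getD i []).getD j []))
    (f : ℕ) (conL : List (List ℕ × List ℕ)) (pwEqL : List (List ℕ × List ℕ))
    (pwOneL : List (List ℕ)) (cmEqL : List (List ℕ × List ℕ × List ℕ × List ℕ))
    (cmOneL : List (List ℕ × List ℕ)) (C : List (List (ℕ × ℕ)))
    (certs : List (List ℕ)) (hdata : dataOK k sqL cmL = true)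
    (hchk : certOKP p (PcD.ofLists k sqL cmL) C
      (zformsP p (PcD.ofLists k sqL cmL) f conL (mkRel p pwEqL pwOneL cmEqL cmOneL)) certs = true)
    (hE : ∀ q ∈ pwEqL, QPowEq p σ (nfw g q.1) (nfw g q.2))
    (hO : ∀ w ∈ pwOneL, QPowOne p σ (nfw g w))
    (hCE : ∀ q ∈ cmEqL, QCommEq σ (nfw g q.1) (nfw g q.2.1) (nfw g q.2.2.1) (nfw g q.2.2.2))
    (hC : ∀ q ∈ cmOneL, QComm σ (nfw g q.1) (nfw g q.2))
    (P : Subgroup G) (hP : P ≤ closure {x | ∃ i, i < k ∧ x = g i})
    (hPc : p ^ k ≤ Nat.card P) :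
    ∀ w ∈ ⁅P.comap σ, P.comap σ⁆, σ w = 1 → w = 1 := by
  have hK' := hK
  obtain ⟨hz1, hzp, hσz, hw, hzc⟩ := hK
  refine comm_comap_trivial_of_pcp_forms hp hsurj hK' k sqL cmL g hg1 hsqG hcmG C _ certs hdata
    hchk ?_ P hP hPc
  intro Y a hY R
  apply zformsP_dvd hp R hzc hz1 hzp f conL
  intro q hq
  unfold mkRel at hq
  rcases List.mem_append.mp hq with h | h
  · obtain ⟨r, hr, rfl⟩ := List.mem_map.mp h
    simp only [nfw_flat, nfw_nil, inv_one, mul_one]
    exact hE r hr _ _ (map_nfw Y g hY r.1) (map_nfw Y g hY r.2)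
  · rcases List.mem_append.mp h with h | h
    · obtain ⟨r, hr, rfl⟩ := List.mem_map.mp h
      simp only [nfw_flat, nfw_nil, inv_one, mul_one]
      exact hO r hr _ (map_nfw Y g hY r)
    · rcases List.mem_append.mp h with h | h
      · obtain ⟨r, hr, rfl⟩ := List.mem_map.mp h
        simp only [nfw_append]
        exact hCE r hr _ _ _ _ (map_nfw Y g hY r.1) (map_nfw Y g hY r.2.1)
          (map_nfw Y g hY r.2.2.1) (map_nfw Y g hY r.2.2.2)
      · obtain ⟨r, hr, rfl⟩ := List.mem_map.mp h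
        simp only [nfw_append, nfw_nil, inv_one, mul_one]
        have := hC r hr _ _ (map_nfw Y g hY r.1) (map_nfw Y g hY r.2)
        rw [this, mul_inv_cancel]

end main

end Cfsg.Agent.Lib.Helper5.PcP
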