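import Mathlib

set_option autoImplicit false

/-! Permutations of `Fin n` coded by lookup tables: equality tests for words, lower bounds for the
orders of subgroups. The lookup function is a parameter. -/

namespace Cfsg.Agent.Lib.Helper5.CP

open Subgroup

/-- bounded universal quantifier, kernel friendly -/
def allB (n : ℕ) (p : ℕ → Bool) : Bool :=
  @Nat.rec (fun _ => Bool) true (fun k ih => p k && ih) n

theorem allB_iff (n : ℕ) (p : ℕ → Bool) : allB n p = true ↔ ∀ k < n, p k = true := by
  induction n with
  | zero => simp [allB]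
  | succ n ih =>
    have e : allB (n + 1) p = (p n && allB n p) := rfl
    rw [e, Bool.and_eq_true, ih]
    constructor
    · rintro ⟨h1, h2⟩ k hk
      rcases Nat.lt_succ_iff_lt_or_eq.mp hk with h | rfl
      · exact h2 k h
      · exact h1
    · intro h
      exact ⟨h n (Nat.lt_succ_self n), fun k hk => h k (Nat.lt_succ_of_lt hk)⟩

section core

variable (look : ℕ → ℕ → ℕ) (n : ℕ)

/-- the image of a point under a word of coded permutations, the last letter acting first -/
def ev (w : List ℕ) (p : ℕ) : ℕ := @List.rec ℕ (fun _ => ℕ) p (fun T _ ih => look T ih) w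

theorem ev_nil (p : ℕ) : ev look [] p = p := rfl

theorem ev_cons (T : ℕ) (w : List ℕ) (p : ℕ) : ev look (T :: w) p = look T (ev look w p) := rfl

/-- a coded permutation and a permutation agree -/
def Rep (T : ℕ) (g : Equiv.Perm (Fin n)) : Prop := ∀ i : Fin n, (g i).1 = look T i.1

variable {look n}

theorem rep_prod (w : List ℕ) (gs : List (Equiv.Perm (Fin n)))
    (h : List.Forall₂ (Rep look n) w gs) (i : Fin n) : (gs.prod i).1 = ev look w i.1 := by
  induction h with
  | nil => rfl
  | cons hT _ ih =>
    rw [List.prod_cons, Equiv.Perm.mul_apply, hT, ih]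
    rfl

variable (look n)

/-- a coded permutation agrees with a word of coded permutations on all points -/
def eqW (T : ℕ) (w : List ℕ) : Bool := allB n (fun p => Nat.beq (look T p) (ev look w p))

/-- two words of coded permutations agree on all points -/
def eqWW (w v : List ℕ) : Bool := allB n (fun p => Nat.beq (ev look w p) (ev look v p))

variable {look n}

theorem rep_of_eqW (T : ℕ) (w : List ℕ) (gs : List (Equiv.Perm (Fin n)))
    (h1 : List.Forall₂ (Rep look n) w gs) (h : eqW look n T w = true) :
    Rep look n T gs.prod := by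
  unfold eqW at h
  rw [allB_iff] at h
  intro i
  rw [rep_prod w gs h1 i]
  exact (Nat.eq_of_beq_eq_true (h i.1 i.2)).symm

theorem prod_eq_of_eqWW (w v : List ℕ) (gs hs : List (Equiv.Perm (Fin n)))
    (h1 : List.Forall₂ (Rep look n) w gs) (h2 : List.Forall₂ (Rep look n) v hs)
    (h : eqWW look n w v = true) : gs.prod = hs.prod := by
  unfold eqWW at h
  rw [allB_iff] at h
  apply Equiv.ext
  intro i
  apply Fin.ext
  rw [rep_prod w gs h1, rep_prod v hs h2]
  exact Nat.eq_of_beq_eq_true (h i.1 i.2)

theorem ev_eq_of_prod_eq (w v : List ℕ) (gs hs : List (Equiv.Perm (Fin n)))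
    (h1 : List.Forall₂ (Rep look n) w gs) (h2 : List.Forall₂ (Rep look n) v hs)
    (h : gs.prod = hs.prod) (p : ℕ) (hp : p < n) : ev look w p = ev look v p := by
  have e1 := rep_prod w gs h1 ⟨p, hp⟩
  have e2 := rep_prod v hs h2 ⟨p, hp⟩
  rw [h] at e1
  exact e1.symm.trans e2

theorem ne_one_of_moves (T : ℕ) (g : Equiv.Perm (Fin n)) (h : Rep look n T g) (p : ℕ)
    (hp : p < n) (hm : Nat.beq (look T p) p = false) : g ≠ 1 := by
  intro h1
  rw [h1] at h
  have e1 := h ⟨p, hp⟩
  have : look T p = p := e1.symm
  rw [this, Nat.beq_refl] at hm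
  exact Bool.noConfusion hm

end core

/-- a list of numbers is strictly increasing -/
def isStrictInc : List ℕ → Bool
  | [] => true
  | [_] => true
  | a :: b :: t => Nat.blt a b && isStrictInc (b :: t)

theorem pairwise_of_isStrictInc : ∀ l : List ℕ, isStrictInc l = true → l.Pairwise (· < ·)
  | [], _ => List.Pairwise.nil
  | [a], _ => List.pairwise_singleton _ _
  | a :: b :: t, h => by
    unfold isStrictInc at h
    rw [Bool.and_eq_true] at h
    have hab : a < b := Nat.blt_eq.mp h.1
    have ih := pairwise_of_isStrictInc (b :: t) h.2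
    rw [List.pairwise_cons]
    refine ⟨?_, ih⟩
    intro c hc
    rcases List.mem_cons.mp hc with rfl | hc
    · exact hab
    · exact lt_trans hab ((List.pairwise_cons.mp ih).1 c hc)

theorem nodup_of_isStrictInc (l : List ℕ) (h : isStrictInc l = true) : l.Nodup := by
  have := pairwise_of_isStrictInc l h
  exact this.imp (fun hab => ne_of_lt hab)

section sub

variable {look : ℕ → ℕ → ℕ} {n : ℕ} {H : Subgroup (Equiv.Perm (Fin n))}

/-- a coded permutation represents an element of a subgroup -/
abbrev RepS (look : ℕ → ℕ → ℕ) (n : ℕ) (H : Subgroup (Equiv.Perm (Fin n))) (T : ℕ) (g : H) :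
    Prop := Rep look n T (g : Equiv.Perm (Fin n))

theorem forall₂_coe (w : List ℕ) (gs : List H) (h : List.Forall₂ (RepS look n H) w gs) :
    List.Forall₂ (Rep look n) w (gs.map H.subtype) := by
  rw [List.forall₂_map_right_iff]; exact h

theorem coe_list_prod (gs : List H) :
    ((gs.prod : H) : Equiv.Perm (Fin n)) = (gs.map H.subtype).prod :=
  map_list_prod H.subtype gs

theorem eq_of_chk (w v : List ℕ) (gs hs : List H) (h1 : List.Forall₂ (RepS look n H) w gs)
    (h2 : List.Forall₂ (RepS look n H) v hs) (h : eqWW look n w v = true) :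
    gs.prod = hs.prod := by
  apply Subtype.ext
  rw [coe_list_prod, coe_list_prod]
  exact prod_eq_of_eqWW w v _ _ (forall₂_coe w gs h1) (forall₂_coe v hs h2) h

theorem rep_word (T : ℕ) (w : List ℕ) (gs : List H) (h : List.Forall₂ (RepS look n H) w gs)
    (hc : eqW look n T w = true) : RepS look n H T gs.prod := by
  show Rep look n T ((gs.prod : H) : Equiv.Perm (Fin n))
  rw [coe_list_prod]
  exact rep_of_eqW T w _ (forall₂_coe w gs h) hc

theorem rep_one (T : ℕ) (hc : eqW look n T [] = true) : RepS look n H T 1 := by
  have := rep_word (H := H) T [] [] List.Forall₂.nil hc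
  simpa using this

theorem ne_one_of_moves' (T : ℕ) (g : H) (h : RepS look n H T g) (p : ℕ) (hp : p < n)
    (hm : Nat.beq (look T p) p = false) : g ≠ 1 := by
  intro h1
  apply ne_one_of_moves T (g : Equiv.Perm (Fin n)) h p hp hm
  rw [h1]; rfl

/-- the signature of a word: the images of the points of a list, packed -/
def sigW (look : ℕ → ℕ → ℕ) (base : List ℕ) (w : List ℕ) : ℕ :=
  @List.rec ℕ (fun _ => ℕ) 0 (fun b _ ih => Nat.add (ev look w b) (Nat.mul 65536 ih)) base

theorem sigW_eq_of_prod_eq (base : List ℕ) (hb : ∀ b ∈ base, b < n) (w v : List ℕ)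
    (gs hs : List H) (h1 : List.Forall₂ (RepS look n H) w gs)
    (h2 : List.Forall₂ (RepS look n H) v hs) (h : gs.prod = hs.prod) :
    sigW look base w = sigW look base v := by
  have h' : (gs.map H.subtype).prod =
      (hs.map H.subtype).prod := by
    rw [← coe_list_prod, ← coe_list_prod, h]
  induction base with
  | nil => rfl
  | cons b base ih =>
    have e : ∀ u : List ℕ, sigW look (b :: base) u =
        ev look u b + 65536 * sigW look base u := fun _ => rfl
    rw [e, e, ih (fun c hc => hb c (List.mem_cons_of_mem b hc)),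
      ev_eq_of_prod_eq w v _ _ (forall₂_coe w gs h1) (forall₂_coe v hs h2) h' b
        (hb b List.mem_cons_self)]

theorem getD_rep (Tid : ℕ) (hid : eqW look n Tid [] = true) (gT : List ℕ) (gG : List H)
    (hrep : List.Forall₂ (RepS look n H) gT gG) (i : ℕ) :
    RepS look n H (gT.getD i Tid) (gG.getD i 1) := by
  induction hrep generalizing i with
  | nil => simpa using rep_one (H := H) Tid hid
  | cons h _ ih =>
    cases i with
    | zero => simpa using h
    | succ i => simpa using ih i

theorem word_rep (Tid : ℕ) (hid : eqW look n Tid [] = true) (gT : List ℕ) (gG : List H)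
    (hrep : List.Forall₂ (RepS look n H) gT gG) (l : List ℕ) :
    List.Forall₂ (RepS look n H) (l.map fun i => gT.getD i Tid) (l.map fun i => gG.getD i 1) := by
  induction l with
  | nil => exact List.Forall₂.nil
  | cons i l ih => exact List.Forall₂.cons (getD_rep Tid hid gT gG hrep i) ih

theorem word_mem (gG : List H) (K : Subgroup H) (hK : ∀ g ∈ gG, g ∈ K) (l : List ℕ) :
    (l.map fun i => gG.getD i 1).prod ∈ K := by
  induction l with
  | nil => exact one_mem _
  | cons i l ih =>
    rw [List.map_cons, List.prod_cons]
    apply mul_mem _ ih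
    by_cases hi : i < gG.length
    · rw [List.getD_eq_getElem _ _ hi]
      exact hK _ (List.getElem_mem hi)
    · rw [List.getD_eq_default _ _ (by omega)]
      exact one_mem _

/-- a lower bound for the order of a subgroup containing given generators -/
theorem card_ge_of_words (Tid : ℕ) (hid : eqW look n Tid [] = true) (base : List ℕ)
    (hb : ∀ b ∈ base, b < n) (gT : List ℕ) (gG : List H)
    (hrep : List.Forall₂ (RepS look n H) gT gG)
    (K : Subgroup H) (hK : ∀ g ∈ gG, g ∈ K) (ws : List (List ℕ))
    (h : isStrictInc (ws.map fun l => sigW look base (l.map fun i => gT.getD i Tid)) = true) :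
    ws.length ≤ Nat.card K := by
  classical
  have h' := nodup_of_isStrictInc _ h
  set ev' : List ℕ → H := fun l => (l.map fun i => gG.getD i 1).prod with hev
  have h1 : (ws.map ev').Nodup := by
    have h0 : ws.Nodup := List.Nodup.of_map _ h'
    apply List.Nodup.map_on _ h0
    intro a ha b hb' hab
    exact List.inj_on_of_nodup_map h' ha hb'
      (sigW_eq_of_prod_eq base hb _ _ _ _ (word_rep Tid hid gT gG hrep a)
        (word_rep Tid hid gT gG hrep b) hab)
  set F : Finset H := (ws.map ev').toFinset with hF
  have hcard : F.card = ws.length := by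
    rw [hF, List.toFinset_card_of_nodup h1, List.length_map]
  have hsub : (F : Set H) ⊆ (K : Set H) := by
    intro g hg'
    rw [hF, Finset.mem_coe, List.mem_toFinset, List.mem_map] at hg'
    obtain ⟨w, _, rfl⟩ := hg'
    exact word_mem gG K hK w
  have h2 := Set.ncard_le_ncard hsub (Set.toFinite _)
  rw [Set.ncard_coe_finset, hcard] at h2
  exact h2

end sub

end Cfsg.Agent.Lib.Helper5.CP
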