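import Mathlib
import Cfsg.Agent.Lib.Helper5.PcTD
import Cfsg.Agent.Lib.Helper5.CodedPerm

set_option autoImplicit false

/-! The relations of a polycyclic presentation, checked on coded permutations; the order of the
group generated. -/

namespace Cfsg.Agent.Lib.Helper5.PcT

open Subgroup Cfsg.Agent.Lib.Helper5.CP

section rels

variable {look : ℕ → ℕ → ℕ} {n : ℕ} {H : Subgroup (Equiv.Perm (Fin n))}

/-- the check of the relations of a polycyclic presentation on coded permutations -/
def relsChk (look : ℕ → ℕ → ℕ) (n Tid : ℕ) (gT : List ℕ) (k : ℕ) (sqL : List (List ℕ))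
    (cmL : List (List (List ℕ))) : Bool :=
  allB k (fun i => eqWW look n [gT.getD i Tid, gT.getD i Tid]
    ((sqL.getD i []).map fun l => gT.getD l Tid)) &&
  allB k (fun i => allB k (fun j => Nat.ble j i ||
    eqWW look n [gT.getD j Tid, gT.getD i Tid]
      (gT.getD i Tid :: gT.getD j Tid :: (((cmL.getD i []).getD j []).map fun l => gT.getD l Tid))))

theorem rels_of_chk (Tid : ℕ) (hid : eqW look n Tid [] = true) (gT : List ℕ) (gG : List H)
    (hrep : List.Forall₂ (RepS look n H) gT gG) (k : ℕ) (sqL : List (List ℕ))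
    (cmL : List (List (List ℕ))) (h : relsChk look n Tid gT k sqL cmL = true) :
    (∀ i, i < k → gG.getD i 1 * gG.getD i 1 = nfw (fun i => gG.getD i 1) (sqL.getD i [])) ∧
    (∀ i j, i < j → j < k → gG.getD j 1 * gG.getD i 1 =
      gG.getD i 1 * gG.getD j 1 * nfw (fun i => gG.getD i 1) ((cmL.getD i []).getD j [])) := by
  unfold relsChk at h
  rw [Bool.and_eq_true, allB_iff, allB_iff] at h
  obtain ⟨h1, h2⟩ := h
  have hr := getD_rep Tid hid gT gG hrep
  constructor
  · intro i hi
    have e := eq_of_chk _ _ [gG.getD i 1, gG.getD i 1] ((sqL.getD i []).map fun l => gG.getD l 1)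
      (List.Forall₂.cons (hr i) (List.Forall₂.cons (hr i) List.Forall₂.nil))
      (word_rep Tid hid gT gG hrep _) (h1 i hi)
    simp only [List.prod_cons, List.prod_nil, mul_one] at e
    exact e
  · intro i j hij hj
    have h3 := h2 i (lt_trans hij hj)
    rw [allB_iff] at h3
    have h4 := h3 j hj
    rw [Bool.or_eq_true] at h4
    rcases h4 with h4 | h4
    · have : j ≤ i := Nat.le_of_ble_eq_true h4
      omega
    · have e := eq_of_chk _ _ [gG.getD j 1, gG.getD i 1]
        (gG.getD i 1 :: gG.getD j 1 :: (((cmL.getD i []).getD j []).map fun l => gG.getD l 1))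
        (List.Forall₂.cons (hr j) (List.Forall₂.cons (hr i) List.Forall₂.nil))
        (List.Forall₂.cons (hr i) (List.Forall₂.cons (hr j) (word_rep Tid hid gT gG hrep _)))
        h4
      simp only [List.prod_cons, List.prod_nil, mul_one] at e
      rw [e, mul_assoc]
      rfl

end rels

section order

variable {G : Type*} [Group G] [Finite G]

/-- the order of a group generated by elements satisfying a polycyclic presentation -/
theorem card_closure_gens_le (k : ℕ) (sqL : List (List ℕ)) (cmL : List (List (List ℕ)))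
    (gG : List G) (hdata : dataOK k sqL cmL = true)
    (hsqG : ∀ i, i < k → gG.getD i 1 * gG.getD i 1 = nfw (fun i => gG.getD i 1) (sqL.getD i []))
    (hcmG : ∀ i j, i < j → j < k → gG.getD j 1 * gG.getD i 1 =
      gG.getD i 1 * gG.getD j 1 * nfw (fun i => gG.getD i 1) ((cmL.getD i []).getD j []))
    (hlen : gG.length ≤ k) :
    Nat.card (closure {x | ∃ i, i < k ∧ x = gG.getD i 1}) ≤ 2 ^ k := by
  set D : PcD := PcD.ofLists k sqL cmL with hD
  set g : ℕ → G := fun i => gG.getD i 1 with hg
  unfold dataOK at hdata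
  simp only [Bool.and_eq_true, decide_eq_true_eq, List.all_eq_true, List.mem_range] at hdata
  obtain ⟨⟨hsl, hcl⟩, hsql, hcml⟩ := hdata
  have hg1 : ∀ i, k ≤ i → g i = 1 := by
    intro i hi
    exact List.getD_eq_default _ _ (by omega)
  have hsq0 : ∀ i, k ≤ i → D.sq i = [] := by
    intro i hi
    show sqL.getD i [] = []
    exact List.getD_eq_default _ _ (by omega)
  have hrow : ∀ i, (cmL.getD i []).length ≤ k := by
    intro i
    by_cases hi : i < cmL.length
    · rw [List.getD_eq_getElem _ _ hi]
      exact hcl _ (List.getElem_mem hi)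
    · rw [List.getD_eq_default _ _ (by omega)]
      simp
  have hcm0 : ∀ i j, k ≤ j → D.cm i j = [] := by
    intro i j hj
    show (cmL.getD i []).getD j [] = []
    exact List.getD_eq_default _ _ (le_trans (hrow i) hj)
  have R : Rels D g (1 : G) (fun _ _ => 0) := by
    constructor
    · intro i
      rw [pow_zero, mul_one]
      by_cases hi : i < k
      · exact hsqG i hi
      · rw [hsq0 i (by omega), hg1 i (by omega)]
        simp [nfw]
    · intro i j hij
      rw [pow_zero, mul_one]
      by_cases hj : j < k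
      · exact hcmG i j hij hj
      · rw [hcm0 i j (by omega), hg1 j (by omega)]
        simp [nfw]
  have hsq' : ∀ i, i < D.k → ∀ l ∈ D.sq i, i < l ∧ l < D.k := fun i hi l hl => hsql i hi l hl
  have hcm' : ∀ i j, i < j → j < D.k → ∀ l ∈ D.cm i j, i < l ∧ l < D.k := by
    intro i j hij hj l hl
    have hj' : j < k := hj
    exact hcml i (by omega) j hj l hl
  have hcard := card_closure_le R hsq' hcm' k 0 (by show 0 + k = k; omega)
  have hset : {x | ∃ i, i < k ∧ x = gG.getD i 1} = tailSet D g 0 := by
    ext x
    constructor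
    · rintro ⟨i, hi, rfl⟩
      exact ⟨i, Nat.zero_le _, hi, rfl⟩
    · rintro ⟨i, _, hi, rfl⟩
      exact ⟨i, hi, rfl⟩
  rw [hset]
  exact hcard

end order

end Cfsg.Agent.Lib.Helper5.PcT
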