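import Mathlib
import Cfsg.Agent.Lib.Helper5.PcPD
import Cfsg.Agent.Lib.Helper5.PcTE
import Cfsg.Agent.Lib.helper3.StemTools

set_option autoImplicit false

/-! The relations of a polycyclic presentation of a group of prime power order and the fusion
relations, checked on coded permutations; the resulting statement that a prime does not divide the
order of the kernel of a stem extension. -/

namespace Cfsg.Agent.Lib.Helper5.PcP

open Subgroup Cfsg.Agent.Lib.Helper5.CP Cfsg.Agent.Lib.Helper5.PcT Cfsg.Agent.Lib.Helper5.Stem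
open scoped commutatorElement

section rels

variable {look : ℕ → ℕ → ℕ} {n : ℕ} {H : Subgroup (Equiv.Perm (Fin n))}

/-- the check of the relations of a polycyclic presentation on coded permutations -/
def relsChkP (look : ℕ → ℕ → ℕ) (n Tid p : ℕ) (gT : List ℕ) (k : ℕ) (sqL : List (List ℕ))
    (cmL : List (List (List ℕ))) : Bool :=
  allB k (fun i => eqWW look n (List.replicate p (gT.getD i Tid))
    ((sqL.getD i []).map fun l => gT.getD l Tid)) &&
  allB k (fun i => allB k (fun j => Nat.ble j i ||
    eqWW look n [gT.getD j Tid, gT.getD i Tid]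
      (gT.getD i Tid :: gT.getD j Tid :: (((cmL.getD i []).getD j []).map fun l => gT.getD l Tid))))

theorem forall₂_replicate (T : ℕ) (g : H) (h : RepS look n H T g) (m : ℕ) :
    List.Forall₂ (RepS look n H) (List.replicate m T) (List.replicate m g) := by
  induction m with
  | zero => exact List.Forall₂.nil
  | succ m ih => exact List.Forall₂.cons h ih

theorem rels_of_chkP (Tid : ℕ) (hid : eqW look n Tid [] = true) (p : ℕ) (gT : List ℕ)
    (gG : List H)
    (hrep : List.Forall₂ (RepS look n H) gT gG) (k : ℕ) (sqL : List (List ℕ))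
    (cmL : List (List (List ℕ))) (h : relsChkP look n Tid p gT k sqL cmL = true) :
    (∀ i, i < k → gG.getD i 1 ^ p = nfw (fun i => gG.getD i 1) (sqL.getD i [])) ∧
    (∀ i j, i < j → j < k → gG.getD j 1 * gG.getD i 1 =
      gG.getD i 1 * gG.getD j 1 * nfw (fun i => gG.getD i 1) ((cmL.getD i []).getD j [])) := by
  unfold relsChkP at h
  rw [Bool.and_eq_true, allB_iff, allB_iff] at h
  obtain ⟨h1, h2⟩ := h
  have hr := getD_rep Tid hid gT gG hrep
  constructor
  · intro i hi
    have e := eq_of_chk _ _ (List.replicate p (gG.getD i 1))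
      ((sqL.getD i []).map fun l => gG.getD l 1)
      (forall₂_replicate _ _ (hr i) p)
      (word_rep Tid hid gT gG hrep _) (h1 i hi)
    rw [List.prod_replicate] at e
    exact e
  · intro i j hij hj
    have h3 := h2 i (lt_trans hij hj)
    rw [allB_iff] at h3
    have h4 := h3 j hj
    rw [Bool.or_eq_true] at h4
    rcases h4 with h4 | h4
    · have : j ≤ i := Nat.le_of_ble_eq_true h4
      omega
    · have e := eq_of_chk _ _ [gG.getD j 1, gG.getD i 1]
        (gG.getD i 1 :: gG.getD j 1 :: (((cmL.getD i []).getD j []).map fun l => gG.getD l 1))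
        (List.Forall₂.cons (hr j) (List.Forall₂.cons (hr i) List.Forall₂.nil))
        (List.Forall₂.cons (hr i) (List.Forall₂.cons (hr j) (word_rep Tid hid gT gG hrep _)))
        h4
      simp only [List.prod_cons, List.prod_nil, mul_one] at e
      rw [e, mul_assoc]
      rfl

/-- the check of conjugacy of elements of order `p` given by words, with conjugators from a list -/
def pwChk (look : ℕ → ℕ → ℕ) (n Tid p : ℕ) (gT hT : List ℕ)
    (L : List ((List ℕ × List ℕ) × ℕ)) : Bool :=
  L.all fun q =>
    eqWW look n (hT.getD q.2 Tid :: (q.1.1.map fun l => gT.getD l Tid))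
      ((q.1.2.map fun l => gT.getD l Tid) ++ [hT.getD q.2 Tid]) &&
    eqWW look n ((flat p q.1.1).map fun l => gT.getD l Tid) []

theorem conj_of_mul' {G : Type*} [Group G] {a b c : G} (h : a * b = c * a) : a * b * a⁻¹ = c := by
  rw [h]; group

theorem pw_of_chk (Tid : ℕ) (hid : eqW look n Tid [] = true) (p : ℕ) (gT : List ℕ) (gG : List H)
    (hrep : List.Forall₂ (RepS look n H) gT gG) (hT : List ℕ) (hG : List H)
    (hrepH : List.Forall₂ (RepS look n H) hT hG) (L : List ((List ℕ × List ℕ) × ℕ))
    (h : pwChk look n Tid p gT hT L = true) :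
    ∀ q ∈ L, nfw (fun i => gG.getD i 1) q.1.1 ^ p = 1 ∧
      ∃ c : H, c * nfw (fun i => gG.getD i 1) q.1.1 * c⁻¹ = nfw (fun i => gG.getD i 1) q.1.2 := by
  intro q hq
  unfold pwChk at h
  rw [List.all_eq_true] at h
  have h1 := h q hq
  rw [Bool.and_eq_true] at h1
  obtain ⟨ha, hb⟩ := h1
  have hrh := getD_rep Tid hid hT hG hrepH q.2
  constructor
  · have e := eq_of_chk _ _ ((flat p q.1.1).map fun l => gG.getD l 1) ([] : List H)
      (word_rep Tid hid gT gG hrep _) List.Forall₂.nil hb
    rw [List.prod_nil] at e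
    rw [← nfw_flat]
    exact e
  · refine ⟨hG.getD q.2 1, ?_⟩
    have e := eq_of_chk _ _ (hG.getD q.2 1 :: (q.1.1.map fun l => gG.getD l 1))
      ((q.1.2.map fun l => gG.getD l 1) ++ [hG.getD q.2 1])
      (List.Forall₂.cons hrh (word_rep Tid hid gT gG hrep _))
      (List.rel_append (word_rep Tid hid gT gG hrep _)
        (List.Forall₂.cons hrh List.Forall₂.nil)) ha
    rw [List.prod_cons, List.prod_append, List.prod_cons, List.prod_nil, mul_one] at e
    exact conj_of_mul' e

/-- the check of simultaneous conjugacy of commuting pairs given by words -/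
def cmChk (look : ℕ → ℕ → ℕ) (n Tid : ℕ) (gT hT : List ℕ)
    (L : List ((List ℕ × List ℕ × List ℕ × List ℕ) × ℕ)) : Bool :=
  L.all fun q =>
    (eqWW look n (hT.getD q.2 Tid :: (q.1.1.map fun l => gT.getD l Tid))
      ((q.1.2.2.1.map fun l => gT.getD l Tid) ++ [hT.getD q.2 Tid]) &&
    eqWW look n (hT.getD q.2 Tid :: (q.1.2.1.map fun l => gT.getD l Tid))
      ((q.1.2.2.2.map fun l => gT.getD l Tid) ++ [hT.getD q.2 Tid])) &&
    eqWW look n ((q.1.1 ++ q.1.2.1).map fun l => gT.getD l Tid)
      ((q.1.2.1 ++ q.1.1).map fun l => gT.getD l Tid)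

theorem cm_of_chk (Tid : ℕ) (hid : eqW look n Tid [] = true) (gT : List ℕ) (gG : List H)
    (hrep : List.Forall₂ (RepS look n H) gT gG) (hT : List ℕ) (hG : List H)
    (hrepH : List.Forall₂ (RepS look n H) hT hG)
    (L : List ((List ℕ × List ℕ × List ℕ × List ℕ) × ℕ))
    (h : cmChk look n Tid gT hT L = true) :
    ∀ q ∈ L, nfw (fun i => gG.getD i 1) q.1.1 * nfw (fun i => gG.getD i 1) q.1.2.1 =
        nfw (fun i => gG.getD i 1) q.1.2.1 * nfw (fun i => gG.getD i 1) q.1.1 ∧
      ∃ c : H, c * nfw (fun i => gG.getD i 1) q.1.1 * c⁻¹ = nfw (fun i => gG.getD i 1) q.1.2.2.1 ∧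
        c * nfw (fun i => gG.getD i 1) q.1.2.1 * c⁻¹ = nfw (fun i => gG.getD i 1) q.1.2.2.2 := by
  intro q hq
  unfold cmChk at h
  rw [List.all_eq_true] at h
  have h1 := h q hq
  rw [Bool.and_eq_true, Bool.and_eq_true] at h1
  obtain ⟨⟨ha, hb⟩, hc⟩ := h1
  have hrh := getD_rep Tid hid hT hG hrepH q.2
  constructor
  · have e := eq_of_chk _ _ ((q.1.1 ++ q.1.2.1).map fun l => gG.getD l 1)
      ((q.1.2.1 ++ q.1.1).map fun l => gG.getD l 1)
      (word_rep Tid hid gT gG hrep _) (word_rep Tid hid gT gG hrep _) hc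
    rw [List.map_append, List.map_append, List.prod_append, List.prod_append] at e
    exact e
  · refine ⟨hG.getD q.2 1, ?_, ?_⟩
    · have e := eq_of_chk _ _ (hG.getD q.2 1 :: (q.1.1.map fun l => gG.getD l 1))
        ((q.1.2.2.1.map fun l => gG.getD l 1) ++ [hG.getD q.2 1])
        (List.Forall₂.cons hrh (word_rep Tid hid gT gG hrep _))
        (List.rel_append (word_rep Tid hid gT gG hrep _)
          (List.Forall₂.cons hrh List.Forall₂.nil)) ha
      rw [List.prod_cons, List.prod_append, List.prod_cons, List.prod_nil, mul_one] at e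
      exact conj_of_mul' e
    · have e := eq_of_chk _ _ (hG.getD q.2 1 :: (q.1.2.1.map fun l => gG.getD l 1))
        ((q.1.2.2.2.map fun l => gG.getD l 1) ++ [hG.getD q.2 1])
        (List.Forall₂.cons hrh (word_rep Tid hid gT gG hrep _))
        (List.rel_append (word_rep Tid hid gT gG hrep _)
          (List.Forall₂.cons hrh List.Forall₂.nil)) hb
      rw [List.prod_cons, List.prod_append, List.prod_cons, List.prod_nil, mul_one] at e
      exact conj_of_mul' e

end rels

section order

variable {G : Type*} [Group G] [Finite G]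

/-- the order of a group generated by elements satisfying a polycyclic presentation with `p`-th
powers -/
theorem card_closure_gens_leP (p : ℕ) (hp : 1 ≤ p) (k : ℕ) (sqL : List (List ℕ))
    (cmL : List (List (List ℕ)))
    (gG : List G) (hdata : dataOK k sqL cmL = true)
    (hsqG : ∀ i, i < k → gG.getD i 1 ^ p = nfw (fun i => gG.getD i 1) (sqL.getD i []))
    (hcmG : ∀ i j, i < j → j < k → gG.getD j 1 * gG.getD i 1 =
      gG.getD i 1 * gG.getD j 1 * nfw (fun i => gG.getD i 1) ((cmL.getD i []).getD j []))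
    (hlen : gG.length ≤ k) :
    Nat.card (closure {x | ∃ i, i < k ∧ x = gG.getD i 1}) ≤ p ^ k := by
  set D : PcD := PcD.ofLists k sqL cmL with hD
  set g : ℕ → G := fun i => gG.getD i 1 with hg
  unfold dataOK at hdata
  simp only [Bool.and_eq_true, decide_eq_true_eq, List.all_eq_true, List.mem_range] at hdata
  obtain ⟨⟨hsl, hcl⟩, hsql, hcml⟩ := hdata
  have hg1 : ∀ i, k ≤ i → g i = 1 := by
    intro i hi
    exact List.getD_eq_default _ _ (by omega)
  have hsq0 : ∀ i, k ≤ i → D.sq i = [] := by
    intro i hi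
    show sqL.getD i [] = []
    exact List.getD_eq_default _ _ (by omega)
  have hrow : ∀ i, (cmL.getD i []).length ≤ k := by
    intro i
    by_cases hi : i < cmL.length
    · rw [List.getD_eq_getElem _ _ hi]
      exact hcl _ (List.getElem_mem hi)
    · rw [List.getD_eq_default _ _ (by omega)]
      simp
  have hcm0 : ∀ i j, k ≤ j → D.cm i j = [] := by
    intro i j hj
    show (cmL.getD i []).getD j [] = []
    exact List.getD_eq_default _ _ (le_trans (hrow i) hj)
  have R : RelsP p D g (1 : G) (fun _ _ => 0) := by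
    constructor
    · intro i
      rw [pow_zero, mul_one]
      by_cases hi : i < k
      · exact hsqG i hi
      · rw [hsq0 i (by omega), hg1 i (by omega)]
        simp [nfw]
    · intro i j hij
      rw [pow_zero, mul_one]
      by_cases hj : j < k
      · exact hcmG i j hij hj
      · rw [hcm0 i j (by omega), hg1 j (by omega)]
        simp [nfw]
  have hsq' : ∀ i, i < D.k → ∀ l ∈ D.sq i, i < l ∧ l < D.k := fun i hi l hl => hsql i hi l hl
  have hcm' : ∀ i j, i < j → j < D.k → ∀ l ∈ D.cm i j, i < l ∧ l < D.k := by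
    intro i j hij hj l hl
    have hj' : j < k := hj
    exact hcml i (by omega) j hj l hl
  have hcard := card_closure_leP hp R hsq' hcm' k 0 (by show 0 + k = k; omega)
  have hset : {x | ∃ i, i < k ∧ x = gG.getD i 1} = tailSet D g 0 := by
    ext x
    constructor
    · rintro ⟨i, hi, rfl⟩
      exact ⟨i, Nat.zero_le _, hi, rfl⟩
    · rintro ⟨i, _, hi, rfl⟩
      exact ⟨i, hi, rfl⟩
  rw [hset]
  exact hcard

end order

section final

variable {look : ℕ → ℕ → ℕ} {n : ℕ} {H : Subgroup (Equiv.Perm (Fin n))}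

/-- a prime does not divide the order of the kernel of a stem extension of a group of permutations,
from a certificate for a Sylow subgroup: a polycyclic presentation, fusion relations and the linear
algebra showing that all tails vanish; extra hypotheses on lifts may be supplied -/
theorem stem_card_ne_of_cert [Finite H] (Tid : ℕ) (hid : eqW look n Tid [] = true) (p : ℕ)
    (hp : p.Prime) (gT : List ℕ) (gG : List H) (hrep : List.Forall₂ (RepS look n H) gT gG)
    (hT : List ℕ) (hG : List H) (hrepH : List.Forall₂ (RepS look n H) hT hG)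
    (k : ℕ) (sqL : List (List ℕ)) (cmL : List (List (List ℕ))) (hdata : dataOK k sqL cmL = true)
    (hlen : gG.length ≤ k)
    (hrels : relsChkP look n Tid p gT k sqL cmL = true)
    (f : ℕ) (conL : List (List ℕ × List ℕ)) (pwL : List ((List ℕ × List ℕ) × ℕ))
    (pwOneL : List (List ℕ)) (cmEL : List ((List ℕ × List ℕ × List ℕ × List ℕ) × ℕ))
    (cmOneL : List (List ℕ × List ℕ)) (C : List (List (ℕ × ℕ))) (certs : List (List ℕ))
    (hchk : certOKP p (PcD.ofLists k sqL cmL) C
      (zformsP p (PcD.ofLists k sqL cmL) f conL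
        (mkRel p (pwL.map Prod.fst) pwOneL (cmEL.map Prod.fst) cmOneL)) certs = true)
    (hpw : pwChk look n Tid p gT hT pwL = true) (hcm : cmChk look n Tid gT hT cmEL = true)
    (base : List ℕ) (hb : ∀ b ∈ base, b < n) (ws : List (List ℕ))
    (hws : isStrictInc (ws.map fun l => sigW look base (l.map fun i => gT.getD i Tid)) = true)
    (hwl : ws.length = p ^ k) (N : ℕ) (hN : Nat.card H = N) (hidx : ¬ p ∣ N / p ^ k)
    {Γ : Type*} [Group Γ] [Finite Γ] (σ : Γ →* H) (hσ : Cfsg.IsStemExtension σ)
    (hO : ∀ w ∈ pwOneL, QPowOne p σ (nfw (fun i => gG.getD i 1) w))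
    (hC : ∀ q ∈ cmOneL, QComm σ (nfw (fun i => gG.getD i 1) q.1) (nfw (fun i => gG.getD i 1) q.2)) :
    Nat.card σ.ker ≠ p := by
  intro hcard
  obtain ⟨hsurj, hcen, hder⟩ := hσ
  obtain ⟨z, hK⟩ := kerP_of_card hp hcen hcard
  have hK' := hK
  obtain ⟨hz1, hzp, hσz, hw, hzc⟩ := hK
  set g : ℕ → H := fun i => gG.getD i 1 with hg
  set P : Subgroup H := closure {x | ∃ i, i < k ∧ x = g i} with hP
  have hrel := rels_of_chkP Tid hid p gT gG hrep k sqL cmL hrels
  have hle : Nat.card P ≤ p ^ k :=
    card_closure_gens_leP p hp.one_lt.le k sqL cmL gG hdata hrel.1 hrel.2 hlen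
  have hmem : ∀ x ∈ gG, x ∈ P := by
    intro x hx
    obtain ⟨i, hi, rfl⟩ := List.mem_iff_getElem.mp hx
    refine subset_closure ⟨i, by omega, ?_⟩
    show gG[i] = gG.getD i 1
    rw [List.getD_eq_getElem _ _ hi]
  have hge : p ^ k ≤ Nat.card P := by
    have := card_ge_of_words Tid hid base hb gT gG hrep P hmem ws hws
    rwa [hwl] at this
  have hcardP : Nat.card P = p ^ k := le_antisymm hle hge
  have hindex : ¬ p ∣ P.index := by
    have h := Subgroup.card_mul_index P
    rw [hcardP, hN] at h
    have hpos : 0 < p ^ k := pow_pos hp.pos k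
    have : P.index = N / p ^ k := by
      rw [← h, Nat.mul_div_cancel_left _ hpos]
    rwa [this]
  have hg1 : ∀ i, k ≤ i → g i = 1 := by
    intro i hi
    exact List.getD_eq_default _ _ (by omega)
  have hpwf := pw_of_chk Tid hid p gT gG hrep hT hG hrepH pwL hpw
  have hcmf := cm_of_chk Tid hid gT gG hrep hT hG hrepH cmEL hcm
  have hS := comm_comap_trivial_of_pcp hp hsurj hK' k sqL cmL g hg1 hrel.1 hrel.2 f conL
    (pwL.map Prod.fst) pwOneL (cmEL.map Prod.fst) cmOneL C certs hdata hchk
    (by
      intro q hq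
      obtain ⟨r, hr, rfl⟩ := List.mem_map.mp hq
      obtain ⟨h1, c, h2⟩ := hpwf r hr
      exact qpoweq_of_conj hsurj hK' h1 h2)
    hO
    (by
      intro q hq
      obtain ⟨r, hr, rfl⟩ := List.mem_map.mp hq
      obtain ⟨h1, c, h2, h3⟩ := hcmf r hr
      exact qcommeq_of_conj hsurj hK' h1 h2 h3)
    hC P (le_refl _) hge
  have : Fact p.Prime := ⟨hp⟩
  have := Cfsg.Agent.Lib.helper3.stem_no_prime_of_subgroup σ hsurj hcen hder P hindex hS
    (MonoidHom.mem_ker.mpr hσz) hzp
  exact hz1 this

end final

end Cfsg.Agent.Lib.Helper5.PcP
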