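import Mathlib
import Cfsg.Prelude.Def_KGroupFacts

set_option autoImplicit false

/-! A perfect stem extension with a kernel of the largest possible order maps onto every perfect
central extension. -/

namespace Cfsg.Agent.Lib.Helper5.Stem

open Subgroup
open scoped commutatorElement

universe u v w

section

variable {C : Type u} {L : Type v} {G : Type w} [Group C] [Group L] [Group G]

/-- the fibre product of two homomorphisms -/
def fibre (τ : C →* G) (σ : L →* G) : Subgroup (C × L) where
  carrier := {p | τ p.1 = σ p.2}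
  one_mem' := by simp
  mul_mem' := by
    intro a b ha hb
    simp only [Set.mem_setOf_eq] at ha hb ⊢
    rw [Prod.fst_mul, Prod.snd_mul, map_mul, map_mul, ha, hb]
  inv_mem' := by
    intro a ha
    simp only [Set.mem_setOf_eq] at ha ⊢
    rw [Prod.fst_inv, Prod.snd_inv, map_inv, map_inv, ha]

/-- the first projection of the fibre product -/
def fib1 (τ : C →* G) (σ : L →* G) : fibre τ σ →* C := (MonoidHom.fst C L).comp (fibre τ σ).subtype

/-- the second projection of the fibre product -/
def fib2 (τ : C →* G) (σ : L →* G) : fibre τ σ →* L := (MonoidHom.snd C L).comp (fibre τ σ).subtype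

theorem fib_eq (τ : C →* G) (σ : L →* G) (p : fibre τ σ) : τ (fib1 τ σ p) = σ (fib2 τ σ p) := p.2

theorem fib1_surj (τ : C →* G) (σ : L →* G) (hσ : Function.Surjective σ) :
    Function.Surjective (fib1 τ σ) := by
  intro c
  obtain ⟨l, hl⟩ := hσ (τ c)
  exact ⟨⟨(c, l), hl.symm⟩, rfl⟩

theorem fib2_surj (τ : C →* G) (σ : L →* G) (hτ : Function.Surjective τ) :
    Function.Surjective (fib2 τ σ) := by
  intro l
  obtain ⟨c, hc⟩ := hτ (σ l)
  exact ⟨⟨(c, l), hc⟩, rfl⟩

theorem fib_ext (τ : C →* G) (σ : L →* G) (p q : fibre τ σ) (h1 : fib1 τ σ p = fib1 τ σ q)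
    (h2 : fib2 τ σ p = fib2 τ σ q) : p = q :=
  Subtype.ext (Prod.ext h1 h2)

/-- an element of the fibre product with central components is central -/
theorem fibre_central (τ : C →* G) (σ : L →* G) (p : fibre τ σ)
    (h1 : fib1 τ σ p ∈ center C) (h2 : fib2 τ σ p ∈ center L) (q : fibre τ σ) :
    q * p = p * q := by
  apply fib_ext
  · rw [map_mul, map_mul]
    exact Subgroup.mem_center_iff.mp h1 _
  · rw [map_mul, map_mul]
    exact Subgroup.mem_center_iff.mp h2 _

/-- the commutator subgroup of the fibre product is mapped onto a perfect first factor -/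
theorem map_fib1_commutator (τ : C →* G) (σ : L →* G) (hσ : Function.Surjective σ)
    [hC : Group.IsPerfect C] : (commutator (fibre τ σ)).map (fib1 τ σ) = ⊤ := by
  rw [commutator_def, Subgroup.map_commutator,
    ← MonoidHom.range_eq_map, MonoidHom.range_eq_top_of_surjective _ (fib1_surj τ σ hσ),
    ← commutator_def]
  exact hC.commutator_eq_top

/-- the commutator subgroup of the fibre product is mapped onto a perfect second factor -/
theorem map_fib2_commutator (τ : C →* G) (σ : L →* G) (hτ : Function.Surjective τ)
    [hL : Group.IsPerfect L] : (commutator (fibre τ σ)).map (fib2 τ σ) = ⊤ := by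
  rw [commutator_def, Subgroup.map_commutator,
    ← MonoidHom.range_eq_map, MonoidHom.range_eq_top_of_surjective _ (fib2_surj τ σ hτ),
    ← commutator_def]
  exact hL.commutator_eq_top

theorem comm_central_left {P : Type*} [Group P] (z k b : P) (hz : ∀ q : P, q * z = z * q) :
    ⁅z * k, b⁆ = ⁅k, b⁆ := by
  rw [commutatorElement_def, commutatorElement_def]
  have : z * k * b * (z * k)⁻¹ = k * b * k⁻¹ := by
    calc z * k * b * (z * k)⁻¹ = z * (k * b * k⁻¹) * z⁻¹ := by group
      _ = (k * b * k⁻¹) * z * z⁻¹ := by rw [hz]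
      _ = k * b * k⁻¹ := by group
  rw [this]

theorem comm_central_right {P : Type*} [Group P] (z k a : P) (hz : ∀ q : P, q * z = z * q) :
    ⁅a, z * k⁆ = ⁅a, k⁆ := by
  rw [← commutatorElement_inv, comm_central_left z k a hz, commutatorElement_inv]

/-- the commutator subgroup of the fibre product is perfect when the first group is -/
theorem fibre_commutator_perfect (τ : C →* G) (σ : L →* G) (hσ : Function.Surjective σ)
    (hσc : σ.ker ≤ center L) [hC : Group.IsPerfect C] :
    Group.IsPerfect (commutator (fibre τ σ)) := by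
  set P := fibre τ σ with hP
  set K : Subgroup P := commutator P with hK
  rw [Subgroup.isPerfect_iff]
  apply le_antisymm (Subgroup.commutator_le_right K K)
  have hmap := map_fib1_commutator τ σ hσ
  -- every element is a product of a central element and an element of `K`
  have hdec : ∀ x : P, ∃ k ∈ K, ∃ z : P, (∀ q : P, q * z = z * q) ∧ x = z * k := by
    intro x
    have hx : fib1 τ σ x ∈ K.map (fib1 τ σ) := by rw [hK, hmap]; trivial
    obtain ⟨k, hk, hkx⟩ := hx
    refine ⟨k, hk, x * k⁻¹, ?_, by group⟩
    intro q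
    have e1 : fib1 τ σ (x * k⁻¹) = 1 := by rw [map_mul, map_inv, hkx, mul_inv_cancel]
    apply fibre_central τ σ
    · rw [e1]; exact one_mem _
    · apply hσc
      rw [MonoidHom.mem_ker, ← fib_eq, e1, map_one]
  -- so every commutator is a commutator of elements of `K`
  conv_lhs => rw [hK, commutator_def]
  rw [Subgroup.commutator_le]
  intro x _ y _
  obtain ⟨k, hk, z, hz, rfl⟩ := hdec x
  obtain ⟨k', hk', z', hz', rfl⟩ := hdec y
  rw [comm_central_left z k _ hz, comm_central_right z' k' _ hz']
  exact Subgroup.commutator_mem_commutator hk hk'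

/-- a finite perfect stem extension whose kernel has the largest possible order maps onto every
finite perfect central extension, compatibly with the maps to the base group -/
theorem exists_cover_hom (τ : C →* G) (hτ : Cfsg.IsStemExtension τ) [Finite C]
    [Group.IsPerfect C]
    (hmax : ∀ (D : Type (max u v)) [Group D] [Finite D] (ρ : D →* G),
      Cfsg.IsStemExtension ρ → Nat.card ρ.ker ≤ Nat.card τ.ker)
    (σ : L →* G) [Finite L] [Group.IsPerfect L] (hσ : Function.Surjective σ)
    (hσc : σ.ker ≤ center L) :
    ∃ φ : C →* L, Function.Surjective φ ∧ ∀ c, σ (φ c) = τ c := by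
  classical
  obtain ⟨hτs, hτc, -⟩ := hτ
  set P := fibre τ σ with hP
  set K : Subgroup P := commutator P with hK
  have hperf : Group.IsPerfect K := fibre_commutator_perfect τ σ hσ hσc
  set π1 : K →* C := (fib1 τ σ).comp K.subtype with hπ1
  set π2 : K →* L := (fib2 τ σ).comp K.subtype with hπ2
  have hπ1s : Function.Surjective π1 := by
    intro c
    have hc : c ∈ K.map (fib1 τ σ) := by rw [hK, map_fib1_commutator τ σ hσ]; trivial
    obtain ⟨k, hk, hkc⟩ := hc
    exact ⟨⟨k, hk⟩, hkc⟩
  have hπ2s : Function.Surjective π2 := by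
    intro l
    have hl : l ∈ K.map (fib2 τ σ) := by rw [hK, map_fib2_commutator τ σ hτs]; trivial
    obtain ⟨k, hk, hkl⟩ := hl
    exact ⟨⟨k, hk⟩, hkl⟩
  have hcompat : ∀ d : K, τ (π1 d) = σ (π2 d) := fun d => fib_eq τ σ d.1
  set ρ : K →* G := τ.comp π1 with hρ
  have hρstem : Cfsg.IsStemExtension ρ := by
    refine ⟨hτs.comp hπ1s, ?_, ?_⟩
    · intro d hd
      rw [Subgroup.mem_center_iff]
      intro q
      apply Subtype.ext
      show q.1 * d.1 = d.1 * q.1
      have h1 : τ (π1 d) = 1 := hd
      apply fibre_central τ σ d.1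
      · exact hτc h1
      · apply hσc
        rw [MonoidHom.mem_ker]
        have := hcompat d
        rw [h1] at this
        exact this.symm
    · intro d _
      rw [hperf.commutator_eq_top]
      trivial
  have hle := hmax K ρ hρstem
  -- the first projection is injective on the kernel
  let f : ρ.ker → τ.ker := fun d => ⟨π1 d.1, d.2⟩
  have hfs : Function.Surjective f := by
    rintro ⟨c, hc⟩
    obtain ⟨d, hd⟩ := hπ1s c
    refine ⟨⟨d, ?_⟩, Subtype.ext hd⟩
    rw [MonoidHom.mem_ker]
    show τ (π1 d) = 1
    rw [hd]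
    exact hc
  have hfb := hfs.bijective_of_nat_card_le hle
  have hπ1i : Function.Injective π1 := by
    rw [injective_iff_map_eq_one]
    intro d hd
    have hdk : d ∈ ρ.ker := by
      rw [MonoidHom.mem_ker]
      show τ (π1 d) = 1
      rw [hd, map_one]
    have h1 : f ⟨d, hdk⟩ = f ⟨1, one_mem _⟩ := by
      apply Subtype.ext
      show π1 d = π1 1
      rw [hd, map_one]
    have := hfb.1 h1
    exact congrArg Subtype.val this
  let e1 : K ≃* C := MulEquiv.ofBijective π1 ⟨hπ1i, hπ1s⟩
  refine ⟨π2.comp e1.symm.toMonoidHom, ?_, ?_⟩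
  · exact hπ2s.comp e1.symm.surjective
  · intro c
    show σ (π2 (e1.symm c)) = τ c
    rw [← hcompat]
    congr 1
    exact e1.apply_symm_apply c

end

end Cfsg.Agent.Lib.Helper5.Stem
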