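import Mathlib
import Cfsg.Agent.Lib.Helper10.C3Q.Defs
import Cfsg.Agent.Lib.Helper22.C3ERNGND

set_option autoImplicit false
set_option linter.unusedVariables false
set_option linter.unusedSectionVars false

/-!
# C3Q row NKODD (`n_k_odd`), core (helper5): the `K`-structure of KSTR is a parameter, KODDFIX a hypothesis.
-/

namespace Cfsg.Agent.Lib.Helper10.C3Q

open Matrix Module Cfsg.Agent.Lib.Helper13.OTS Cfsg.Agent.Lib.Helper16

universe u

variable {F : Type u} [Field F] {ι : Type} [Fintype ι] [DecidableEq ι]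

/-- NKODD, core: `K`, its module structure, `θ`, `β` as in KSTR; `hfix` = KODDFIX on the `K`-subspaces of `ι → F`. -/
theorem c3qnkodd_core {p : ℕ} [Fact p.Prime] [CharP F p] (h2 : (2 : F) ≠ 0)
    (Q : QuadraticForm F (ι → F))
    (hQ : (QuadraticMap.polarBilin Q).Nondegenerate) (δ : F) (A : Matrix ι ι F)
    (y : GL ι F) (hy : y ∈ Cfsg.isometryGroup F (⇑Q))
    (hyA : (y : Matrix ι ι F) * A = A * (y : Matrix ι ι F)) (r : ℕ) [Fact r.Prime] (hrp : r ≠ p)
    (hyr : y ^ r = 1)
    {K : Type*} [Field K] [Algebra F K] [Module K (ι → F)] [IsScalarTower F K (ι → F)]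
    (θ : K) (β : LinearMap.BilinForm K (ι → F))
    (hfin : Module.finrank F K = 2)
    (hθ : ∀ v : ι → F, θ • v = A *ᵥ v)
    (hspan : ∀ k : K, ∃ a b : F, k = algebraMap F K a + algebraMap F K b * θ)
    (hind : ∀ a b : F, algebraMap F K a + algebraMap F K b * θ = 0 → a = 0 ∧ b = 0)
    (hβ : ∀ u v : ι → F, β u v = algebraMap F K (QuadraticMap.polar (⇑Q) u v / 2) +
        algebraMap F K (QuadraticMap.polar (⇑Q) (A *ᵥ u) v / (2 * δ)) * θ)
    (hβs : ∀ u v : ι → F, β u v = β v u)
    (hfix : ∀ (W : Submodule K (ι → F)) (βW : LinearMap.BilinForm K W), βW.Nondegenerate →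
      ∀ yW : W →ₗ[K] W, (∀ u v, βW (yW u) (yW v) = βW u v) → yW ^ r = 1 →
      Odd (Module.finrank K W) → ∃ w : W, w ≠ 0 ∧ yW w = w) :
    4 ∣ ((y : Matrix ι ι F) - 1).rank := by
  classical
  have hpP : p.Prime := Fact.out
  have hrP : r.Prime := Fact.out
  -- `y` preserves `Q` and its polar form, commutes with `A`
  have hYQ : ∀ v : ι → F, Q ((y : Matrix ι ι F) *ᵥ v) = Q v := fun v => hy v v
  have hYB : ∀ u v : ι → F, QuadraticMap.polar (⇑Q) ((y : Matrix ι ι F) *ᵥ u) ((y : Matrix ι ι F) *ᵥ v)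
      = QuadraticMap.polar (⇑Q) u v := by
    intro u v
    simp only [QuadraticMap.polar, ← Matrix.mulVec_add, hYQ]
  have hYA : ∀ v : ι → F, (y : Matrix ι ι F) *ᵥ (A *ᵥ v) = A *ᵥ ((y : Matrix ι ι F) *ᵥ v) := by
    intro v
    rw [Matrix.mulVec_mulVec, Matrix.mulVec_mulVec, hyA]
  have hsm : ∀ (a b : F) (v : ι → F),
      (algebraMap F K a + algebraMap F K b * θ) • v = a • v + b • (A *ᵥ v) := by
    intro a b v
    rw [add_smul, mul_smul, hθ, algebraMap_smul, algebraMap_smul]
  -- the `K`-linear map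
  let YK : (ι → F) →ₗ[K] (ι → F) :=
    { toFun := fun v => (y : Matrix ι ι F) *ᵥ v
      map_add' := fun u v => Matrix.mulVec_add _ u v
      map_smul' := by
        intro k v
        obtain ⟨a, b, rfl⟩ := hspan k
        simp only [RingHom.id_apply]
        rw [hsm, hsm, Matrix.mulVec_add, Matrix.mulVec_smul, Matrix.mulVec_smul, hYA] }
  have hYK : ∀ v, YK v = (y : Matrix ι ι F) *ᵥ v := fun v => rfl
  have hYpow : ∀ (k : ℕ) (v : ι → F), (YK ^ k) v = ((y : Matrix ι ι F) ^ k) *ᵥ v := by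
    intro k
    induction k with
    | zero => intro v; simp
    | succ k ih =>
      intro v
      rw [pow_succ', Module.End.mul_apply, ih, hYK, Matrix.mulVec_mulVec, ← pow_succ']
  have hYr : YK ^ r = 1 := by
    apply LinearMap.ext
    intro v
    rw [hYpow, Module.End.one_apply]
    have h1 : ((y : Matrix ι ι F)) ^ r = 1 := by
      have := congrArg (fun g : GL ι F => (g : Matrix ι ι F)) hyr
      simpa using this
    rw [h1, Matrix.one_mulVec]
  -- `r ≠ 0` in `K`
  have hrF : (r : F) ≠ 0 := by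
    intro h0
    have h1 := (CharP.cast_eq_zero_iff F p r).1 h0
    exact hrp ((Nat.prime_dvd_prime_iff_eq hpP hrP).1 h1).symm
  have hrK : (r : K) ≠ 0 := by
    intro h0
    apply hrF
    have h1 : algebraMap F K (r : F) = 0 := by rw [map_natCast]; exact h0
    exact (map_eq_zero (algebraMap F K)).1 h1
  have hdisj := Cfsg.Agent.Lib.Helper10.C3E.c3erngnd_disjoint (F := K) (V := ι → F) r hrK YK hYr
  -- the range of `Y - 1`
  set WK : Submodule K (ι → F) := LinearMap.range (YK - 1) with hWK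
  have hinv : ∀ w ∈ WK, YK w ∈ WK := by
    rintro w ⟨v, rfl⟩
    refine ⟨YK v, ?_⟩
    simp only [LinearMap.sub_apply, Module.End.one_apply, map_sub]
  let yW : WK →ₗ[K] WK := YK.restrict hinv
  have hyWr : yW ^ r = 1 := by
    apply LinearMap.ext
    intro w
    apply Subtype.ext
    rw [Module.End.pow_restrict r hinv, LinearMap.restrict_apply]
    show (YK ^ r) (w : ι → F) = (w : ι → F)
    rw [hYr]
    rfl
  let βW : LinearMap.BilinForm K WK := β.restrict WK
  have hβW : ∀ u v : WK, βW u v = β (u : ι → F) (v : ι → F) := fun u v => rfl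
  have hiso : ∀ u v : WK, βW (yW u) (yW v) = βW u v := by
    intro u v
    rw [hβW, hβW]
    show β (YK u) (YK v) = β u v
    rw [hYK, hYK, hβ, hβ, hYB, ← hYA, hYB]
  -- a vector of `WK` orthogonal to `WK` is `0`
  have hsep : ∀ u : WK, (∀ v : WK, βW u v = 0) → u = 0 := by
    intro u hu
    have h1 : ∀ t : ι → F, QuadraticMap.polar (⇑Q) (u : ι → F) ((y : Matrix ι ι F) *ᵥ t)
        = QuadraticMap.polar (⇑Q) (u : ι → F) t := by
      intro t
      have h3 := hu ⟨(YK - 1) t, ⟨t, rfl⟩⟩
      rw [hβW, hβ] at h3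
      have h4 := (hind _ _ h3).1
      have h5 : QuadraticMap.polar (⇑Q) (u : ι → F) ((YK - 1) t) = 0 := by
        have := div_eq_zero_iff.1 h4
        rcases this with h | h
        · exact h
        · exact absurd h h2
      have h6 : (YK - 1) t = (y : Matrix ι ι F) *ᵥ t - t := rfl
      rw [h6, QuadraticMap.polar_sub_right] at h5
      exact sub_eq_zero.1 h5
    have h7 : (y : Matrix ι ι F) *ᵥ (u : ι → F) - (u : ι → F) = 0 := by
      apply hQ.1
      intro s
      -- `s = Y (Y⁻¹ s)`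
      have hs : s = (y : Matrix ι ι F) *ᵥ (((y⁻¹ : GL ι F) : Matrix ι ι F) *ᵥ s) := by
        rw [Matrix.mulVec_mulVec, ← Units.val_mul, mul_inv_cancel, Units.val_one, Matrix.one_mulVec]
      show QuadraticMap.polar (⇑Q) ((y : Matrix ι ι F) *ᵥ (u : ι → F) - (u : ι → F)) s = 0
      rw [QuadraticMap.polar_sub_left, hs, hYB, h1, sub_self]
    have h8 : (u : ι → F) ∈ LinearMap.range (YK - 1) ⊓ LinearMap.ker (YK - 1) := by
      refine ⟨u.2, ?_⟩
      show (u : ι → F) ∈ LinearMap.ker (YK - 1)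
      rw [LinearMap.mem_ker]
      exact h7
    rw [hdisj] at h8
    exact Subtype.ext ((Submodule.mem_bot K).1 h8)
  have hnd : βW.Nondegenerate := by
    refine ⟨hsep, ?_⟩
    intro v hv
    apply hsep
    intro u
    rw [hβW, hβs, ← hβW]
    exact hv u
  -- the `K`-dimension is even
  have heven : Even (Module.finrank K WK) := by
    rw [← Nat.not_odd_iff_even]
    intro hodd
    obtain ⟨w, hw0, hw⟩ := hfix WK βW hnd yW hiso hyWr hodd
    apply hw0
    have h9 : (w : ι → F) ∈ LinearMap.range (YK - 1) ⊓ LinearMap.ker (YK - 1) := by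
      refine ⟨w.2, ?_⟩
      show (w : ι → F) ∈ LinearMap.ker (YK - 1)
      rw [LinearMap.mem_ker, LinearMap.sub_apply, Module.End.one_apply, sub_eq_zero]
      exact congrArg Subtype.val hw
    rw [hdisj] at h9
    exact Subtype.ext ((Submodule.mem_bot K).1 h9)
  -- the rank
  have hrange : LinearMap.range ((y : Matrix ι ι F) - 1).mulVecLin = WK.restrictScalars F := by
    ext v
    simp only [LinearMap.mem_range, Submodule.restrictScalars_mem, hWK]
    constructor
    · rintro ⟨t, rfl⟩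
      exact ⟨t, by simp [Matrix.sub_mulVec, hYK]⟩
    · rintro ⟨t, rfl⟩
      exact ⟨t, by simp [Matrix.sub_mulVec, hYK]⟩
  have hrk : ((y : Matrix ι ι F) - 1).rank = Module.finrank F K * Module.finrank K WK := by
    rw [Matrix.rank, hrange]
    exact (Module.finrank_mul_finrank F K WK).symm
  obtain ⟨m, hm⟩ := heven
  rw [hrk, hfin, hm]
  exact ⟨m, by ring⟩

end Cfsg.Agent.Lib.Helper10.C3Q
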