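import Mathlib
import Cfsg.Agent.Lib.Helper10.C3Q.Defs
import Cfsg.Agent.Lib.Helper10.C3QKSTR
import Cfsg.Agent.Lib.helper23.C3QKODDFIX
import Cfsg.Agent.Lib.Helper5.C3QNKODDcore

set_option autoImplicit false
set_option linter.unusedVariables false
set_option linter.unusedSectionVars false

/-!
# C3Q row NKODD (`n_k_odd`), verbatim (helper5): `c3qnkodd_core` + KSTR (`k_str`) + KODDFIX (`k_odd_fix`).
-/

namespace Cfsg.Agent.Lib.Helper10.C3Q

open Matrix Module Cfsg.Agent.Lib.Helper13.OTS Cfsg.Agent.Lib.Helper16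

universe u

variable {F : Type u} [Field F] {ι : Type} [Fintype ι] [DecidableEq ι]

theorem c3qnkodd_two_ne {p : ℕ} [Fact p.Prime] [CharP F p] (hp2 : p ≠ 2) : (2 : F) ≠ 0 := by
  intro h0
  have h1 : ((2 : ℕ) : F) = 0 := by exact_mod_cast h0
  have h2' := (CharP.cast_eq_zero_iff F p 2).mp h1
  exact hp2 ((Nat.prime_dvd_prime_iff_eq (Fact.out : p.Prime) Nat.prime_two).mp h2')

/-- NKODD [L]: `Y := toLin' y`, `W := range (Y - 1)`: `A`-invariant, `Y`-invariant; `V = ker (Y - 1) ⊕ W` orthogonally and `W` is non-degenerate, `Y - 1` is injective on `W`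
(`r ≠ p`: `X^r - 1` is separable; or: OTS `q_std_ctx`, `q_octx`, helper24 `o_split`: `V = fixS ⟂ cycS`, `cycS = range (Y - 1)`).  KSTR: `W` is a `K`-subspace (`θ • w = A w`), `β|W` non-degenerate
(`β u v = 0 ∀ v ∈ W ⟹ B u v = 0 ∀ v ∈ W`), `Y|W` is `K`-linear (`Y A = A Y`) and preserves `β` (formula for `β`); no fixed vector `≠ 0` in `W`; KODDFIX: `finrank K W` is even;
`finrank F W = 2 finrank K W` (`Module.finrank_mul_finrank`). -/
theorem n_k_odd [Fintype F] {p : ℕ} [Fact p.Prime] [CharP F p] (hp2 : p ≠ 2) (Q : QuadraticForm F (ι → F))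
    (hQ : (QuadraticMap.polarBilin Q).Nondegenerate) (δ : F) (A : Matrix ι ι F) (hA : Gen (⇑Q) δ A)
    (y : GL ι F) (hy : y ∈ Cfsg.isometryGroup F (⇑Q))
    (hyA : (y : Matrix ι ι F) * A = A * (y : Matrix ι ι F)) (r : ℕ) [Fact r.Prime] (hrp : r ≠ p)
    (hr2 : r ≠ 2) (hyr : y ^ r = 1) : 4 ∣ ((y : Matrix ι ι F) - 1).rank := by
  have h2 : (2 : F) ≠ 0 := c3qnkodd_two_ne hp2
  obtain ⟨K, iF, iFt, iA, iM, iS, θ, β, hcard, hfin, hθ2, hθ, hspan, hind, hβ, hβs⟩ := k_str h2 Q δ A hA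
  have h2K : (2 : K) ≠ 0 := by
    intro h0
    apply h2
    have h1 : algebraMap F K (2 : F) = 0 := by rw [map_ofNat]; exact h0
    exact (map_eq_zero (algebraMap F K)).1 h1
  have hrodd : Odd r := (Fact.out : r.Prime).odd_of_ne_two hr2
  have hfinK : Module.Finite K (ι → F) := Module.Finite.of_restrictScalars_finite F K (ι → F)
  exact c3qnkodd_core h2 Q hQ δ A y hy hyA r hrp hyr θ β hfin hθ hspan hind hβ hβs
    (fun W βW hn yW hiso hyWr hodd => k_odd_fix h2K βW hn yW hiso r hrodd hyWr hodd)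

end Cfsg.Agent.Lib.Helper10.C3Q
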