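import Mathlib
import Cfsg.Agent.Lib.Helper10.C3Q.Defs

set_option autoImplicit false
set_option linter.unusedVariables false
set_option linter.unusedSectionVars false

/-!
# C3Q row NP (`n_p`), core (helper5): the rows NPVEC, NPEX, NCOMM, NRANK enter as hypotheses.
-/

namespace Cfsg.Agent.Lib.Helper10.C3Q

open Matrix Module Cfsg.Agent.Lib.Helper13.OTS Cfsg.Agent.Lib.Helper16

universe u

variable {F : Type u} [Field F] {ι : Type} [Fintype ι] [DecidableEq ι]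

/-- the rank of a scalar matrix is `0` or `card ι` -/
theorem c3qnp_rank_scalar (c : F) :
    (c • (1 : Matrix ι ι F)).rank = 0 ∨ (c • (1 : Matrix ι ι F)).rank = Fintype.card ι := by
  by_cases hc : c = 0
  · left
    rw [hc, zero_smul, Matrix.rank_zero]
  · right
    have hu : IsUnit (c • (1 : Matrix ι ι F)).det := by
      rw [Matrix.det_smul, Matrix.det_one, mul_one]
      exact (pow_ne_zero _ hc).isUnit
    exact Matrix.rank_of_isUnit _ ((Matrix.isUnit_iff_isUnit_det _).2 hu)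

/-- conjugation does not change the rank -/
theorem c3qnp_rank_conj (g : GL ι F) (M : Matrix ι ι F) :
    (((g⁻¹ : GL ι F) : Matrix ι ι F) * M * (g : Matrix ι ι F)).rank = M.rank := by
  have h1 : IsUnit ((g : Matrix ι ι F)).det := (Matrix.isUnit_iff_isUnit_det _).1 g.isUnit
  have h2 : IsUnit (((g⁻¹ : GL ι F) : Matrix ι ι F)).det :=
    (Matrix.isUnit_iff_isUnit_det _).1 (g⁻¹).isUnit
  rw [Matrix.rank_mul_eq_left_of_isUnit_det _ _ h1, Matrix.rank_mul_eq_right_of_isUnit_det _ _ h2]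

/-- NP, core -/
theorem c3qnp_core {p : ℕ} [Fact p.Prime] (hp2 : p ≠ 2) (Qs : (ι → F) → F) (A : Matrix ι ι F)
    (hn : 2 ≤ Fintype.card ι)
    (hNPEX : ∃ x : GL ι F, x ∈ Cfsg.Geo.omegaGL Qs ∧ x ^ p = 1 ∧
      (((x : Matrix ι ι F) - 1) * ((x : Matrix ι ι F) - 1)).rank = 1)
    (hNCOMM : ∀ y : GL ι F, NrmA A y → ∀ r : ℕ, Odd r → ∀ z : F,
      ((y ^ r : GL ι F) : Matrix ι ι F) = z • (1 : Matrix ι ι F) →
      (y : Matrix ι ι F) * A = A * (y : Matrix ι ι F))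
    (hNRANK : ∀ M : Matrix ι ι F, M * A = A * M → Even M.rank) : ¬ AllConjA Qs A p := by
  intro hall
  have hp : p.Prime := Fact.out
  have hpodd : Odd p := hp.odd_of_ne_two hp2
  obtain ⟨x, hxΩ, hxp, hxr⟩ := hNPEX
  have h1 : ∃ z : F, ((x ^ p : GL ι F) : Matrix ι ι F) = z • (1 : Matrix ι ι F) :=
    ⟨1, by rw [hxp, one_smul]; rfl⟩
  have h2 : ∀ z : F, (x : Matrix ι ι F) ≠ z • (1 : Matrix ι ι F) := by
    intro z hz
    have h3 : ((x : Matrix ι ι F) - 1) * ((x : Matrix ι ι F) - 1)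
        = ((z - 1) * (z - 1)) • (1 : Matrix ι ι F) := by
      rw [hz]
      have : z • (1 : Matrix ι ι F) - 1 = (z - 1) • (1 : Matrix ι ι F) := by
        rw [sub_smul, one_smul]
      rw [this, smul_mul_smul_comm, Matrix.one_mul]
    rw [h3] at hxr
    rcases c3qnp_rank_scalar (ι := ι) ((z - 1) * (z - 1)) with h | h
    · rw [h] at hxr
      exact absurd hxr (by norm_num)
    · rw [h] at hxr
      omega
  obtain ⟨g, hgΩ, hg⟩ := hall x hxΩ h1 h2
  have hyp : ((g⁻¹ * x * g) ^ p : GL ι F) = 1 := by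
    have h0 : g⁻¹ * x * g = g⁻¹ * x * (g⁻¹)⁻¹ := by rw [inv_inv]
    rw [h0, conj_pow, hxp, mul_one, mul_inv_cancel]
  have hcomm := hNCOMM (g⁻¹ * x * g) hg p hpodd 1 (by rw [hyp, one_smul]; rfl)
  have hy : ((g⁻¹ * x * g : GL ι F) : Matrix ι ι F) - 1
      = ((g⁻¹ : GL ι F) : Matrix ι ι F) * ((x : Matrix ι ι F) - 1) * (g : Matrix ι ι F) := by
    have h4 : ((g⁻¹ : GL ι F) : Matrix ι ι F) * (g : Matrix ι ι F) = 1 := by
      rw [← Units.val_mul, inv_mul_cancel, Units.val_one]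
    rw [Matrix.mul_sub, Matrix.sub_mul, Matrix.mul_one, h4]
    rfl
  have hgg : (g : Matrix ι ι F) * ((g⁻¹ : GL ι F) : Matrix ι ι F) = 1 := by
    rw [← Units.val_mul, mul_inv_cancel, Units.val_one]
  have hM : (((g⁻¹ * x * g : GL ι F) : Matrix ι ι F) - 1) * (((g⁻¹ * x * g : GL ι F) : Matrix ι ι F) - 1)
      = ((g⁻¹ : GL ι F) : Matrix ι ι F) * (((x : Matrix ι ι F) - 1) * ((x : Matrix ι ι F) - 1))
        * (g : Matrix ι ι F) := by
    rw [hy]
    calc ((g⁻¹ : GL ι F) : Matrix ι ι F) * ((x : Matrix ι ι F) - 1) * (g : Matrix ι ι F)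
          * (((g⁻¹ : GL ι F) : Matrix ι ι F) * ((x : Matrix ι ι F) - 1) * (g : Matrix ι ι F))
        = ((g⁻¹ : GL ι F) : Matrix ι ι F) * ((x : Matrix ι ι F) - 1)
          * ((g : Matrix ι ι F) * ((g⁻¹ : GL ι F) : Matrix ι ι F)) * ((x : Matrix ι ι F) - 1)
          * (g : Matrix ι ι F) := by simp only [Matrix.mul_assoc]
      _ = _ := by rw [hgg, Matrix.mul_one]; simp only [Matrix.mul_assoc]
  have hcomm1 : (((g⁻¹ * x * g : GL ι F) : Matrix ι ι F) - 1) * A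
      = A * (((g⁻¹ * x * g : GL ι F) : Matrix ι ι F) - 1) := by
    rw [Matrix.sub_mul, Matrix.mul_sub, hcomm, Matrix.one_mul, Matrix.mul_one]
  have hcomm2 : ((((g⁻¹ * x * g : GL ι F) : Matrix ι ι F) - 1)
      * (((g⁻¹ * x * g : GL ι F) : Matrix ι ι F) - 1)) * A
      = A * ((((g⁻¹ * x * g : GL ι F) : Matrix ι ι F) - 1)
      * (((g⁻¹ * x * g : GL ι F) : Matrix ι ι F) - 1)) := by
    rw [Matrix.mul_assoc, hcomm1, ← Matrix.mul_assoc, hcomm1, Matrix.mul_assoc]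
  have heven := hNRANK _ hcomm2
  rw [hM, c3qnp_rank_conj, hxr] at heven
  exact absurd heven (by decide)

end Cfsg.Agent.Lib.Helper10.C3Q
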