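import Mathlib

set_option autoImplicit false

namespace Cfsg.Agent.Lib.Helper5

open scoped Pointwise

section Diag

theorem noncommProd_perm {α β : Type*} [Monoid β] [DecidableEq α] (s : Finset α) (σ : α → α)
    (hσ : Set.InjOn σ s) (himg : s.image σ = s) (g : α → β)
    (comm : (s : Set α).Pairwise (Function.onFun Commute g))
    (comm' : (s : Set α).Pairwise (Function.onFun Commute (fun a => g (σ a)))) :
    s.noncommProd (fun a => g (σ a)) comm' = s.noncommProd g comm := by
  unfold Finset.noncommProd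
  congr 1
  have h1 : Multiset.map (fun a => g (σ a)) s.val = Multiset.map g (Multiset.map σ s.val) := by
    rw [Multiset.map_map]; rfl
  rw [h1, ← Finset.image_val_of_injOn hσ, himg]

variable {G : Type*} [Group G]

theorem dg_mem (x y : G) (S : Subgroup G) :
    y ∈ MulAut.conj x • S ↔ x⁻¹ * y * x ∈ S := by
  rw [Subgroup.mem_pointwise_smul_iff_inv_smul_mem, ← map_inv, MulAut.smul_def,
    MulAut.conj_apply, inv_inv]

theorem dg_eq_self_iff (x : G) (S : Subgroup G) :
    MulAut.conj x • S = S ↔ x ∈ Subgroup.normalizer (S : Set G) := by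
  rw [Subgroup.mem_normalizer_iff'']
  constructor
  · intro h y
    rw [← dg_mem, h]
  · intro h
    ext y
    rw [dg_mem]
    exact (h y).symm

theorem dg_mul (x y : G) (S : Subgroup G) :
    MulAut.conj x • MulAut.conj y • S = MulAut.conj (x * y) • S := by
  rw [smul_smul, ← map_mul]

theorem diag_exists (X E M : Subgroup G) [Finite X]
    (ha : ∀ x ∈ X, x ∈ Subgroup.normalizer (E : Set G) → x ∈ Subgroup.centralizer (E : Set G))
    (hb : ∀ x ∈ X, x ∉ Subgroup.normalizer (E : Set G) →
      MulAut.conj x • E ≤ Subgroup.centralizer (E : Set G))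
    (hM : ∀ x ∈ X, MulAut.conj x • E ≤ M) (e : G) (he : e ∈ E) :
    ∃ c f : G, c ∈ Subgroup.centralizer (X : Set G) ∧ c ∈ M ∧
      f ∈ Subgroup.centralizer (E : Set G) ∧ c = e * f := by
  classical
  haveI : Fintype X := Fintype.ofFinite X
  let s : Finset (Subgroup G) := Finset.univ.image (fun x : X => MulAut.conj (x : G) • E)
  have hs : ∀ F, F ∈ s ↔ ∃ x ∈ X, MulAut.conj x • E = F := by
    intro F
    simp only [s, Finset.mem_image, Finset.mem_univ, true_and]
    constructor
    · rintro ⟨x, rfl⟩
      exact ⟨x.1, x.2, rfl⟩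
    · rintro ⟨x, hx, rfl⟩
      exact ⟨⟨x, hx⟩, rfl⟩
  let r : Subgroup G → G := fun F =>
    if h : ∃ x ∈ X, MulAut.conj x • E = F then h.choose else 1
  have hr : ∀ F ∈ s, r F ∈ X ∧ MulAut.conj (r F) • E = F := by
    intro F hF
    have h := (hs F).mp hF
    simp only [r, dif_pos h]
    exact h.choose_spec
  let g : Subgroup G → G := fun F => r F * e * (r F)⁻¹
  have hsmul : ∀ x ∈ X, ∀ F ∈ s, MulAut.conj x • F ∈ s := by
    intro x hx F hF
    obtain ⟨h1, h2⟩ := hr F hF
    rw [hs]
    exact ⟨x * r F, X.mul_mem hx h1, by rw [← dg_mul, h2]⟩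
  have hcentE : ∀ y ∈ X, y ∈ Subgroup.normalizer (E : Set G) → y * e * y⁻¹ = e := by
    intro y hy hyN
    have h1 := Subgroup.mem_centralizer_iff.mp (ha y hy hyN) e he
    rw [← h1]; group
  have hequiv : ∀ x ∈ X, ∀ F ∈ s, g (MulAut.conj x • F) = x * g F * x⁻¹ := by
    intro x hx F hF
    obtain ⟨h1, h2⟩ := hr F hF
    obtain ⟨h3, h4⟩ := hr _ (hsmul x hx F hF)
    have hy : (r (MulAut.conj x • F))⁻¹ * x * r F ∈ X :=
      X.mul_mem (X.mul_mem (X.inv_mem h3) hx) h1
    have hyN : (r (MulAut.conj x • F))⁻¹ * x * r F ∈ Subgroup.normalizer (E : Set G) := by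
      rw [← dg_eq_self_iff, ← dg_mul, ← dg_mul, h2]
      have h6 := congrArg (fun S => MulAut.conj (r (MulAut.conj x • F))⁻¹ • S) h4.symm
      simp only [dg_mul, inv_mul_cancel, map_one, one_smul] at h6
      rw [dg_mul]
      exact h6
    have h5 := hcentE _ hy hyN
    show r (MulAut.conj x • F) * e * (r (MulAut.conj x • F))⁻¹ = x * (r F * e * (r F)⁻¹) * x⁻¹
    calc r (MulAut.conj x • F) * e * (r (MulAut.conj x • F))⁻¹
        = r (MulAut.conj x • F) * (((r (MulAut.conj x • F))⁻¹ * x * r F) * e *
            ((r (MulAut.conj x • F))⁻¹ * x * r F)⁻¹) * (r (MulAut.conj x • F))⁻¹ := by rw [h5]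
      _ = x * (r F * e * (r F)⁻¹) * x⁻¹ := by group
  have hFcent : ∀ F ∈ s, F ≠ E → F ≤ Subgroup.centralizer (E : Set G) := by
    intro F hF hne
    obtain ⟨h1, h2⟩ := hr F hF
    rw [← h2]
    apply hb _ h1
    intro hN
    apply hne
    rw [← h2]
    exact (dg_eq_self_iff _ _).mpr hN
  have hgmem : ∀ F ∈ s, g F ∈ F := by
    intro F hF
    obtain ⟨h1, h2⟩ := hr F hF
    have h3 : g F ∈ MulAut.conj (r F) • E := by
      rw [dg_mem]
      show (r F)⁻¹ * (r F * e * (r F)⁻¹) * r F ∈ E
      have e1 : (r F)⁻¹ * (r F * e * (r F)⁻¹) * r F = e := by group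
      rw [e1]; exact he
    rw [h2] at h3
    exact h3
  have hEs : E ∈ s := by
    rw [hs]
    exact ⟨1, X.one_mem, by rw [map_one, one_smul]⟩
  have hcomm : (s : Set (Subgroup G)).Pairwise (Function.onFun Commute g) := by
    intro F hF F' hF' hne
    obtain ⟨h1, h2⟩ := hr F hF
    have hF'' : MulAut.conj (r F)⁻¹ • F' ∈ s := hsmul _ (X.inv_mem h1) F' hF'
    have hne' : MulAut.conj (r F)⁻¹ • F' ≠ E := by
      intro h
      apply hne
      have := congrArg (fun S => MulAut.conj (r F) • S) h
      simp only [dg_mul, mul_inv_cancel, map_one, one_smul] at this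
      rw [this, h2]
    have h3 := hFcent _ hF'' hne'
    have h4 : (r F)⁻¹ * g F' * r F ∈ MulAut.conj (r F)⁻¹ • F' := by
      rw [dg_mem, inv_inv]
      have e1 : r F * ((r F)⁻¹ * g F' * r F) * (r F)⁻¹ = g F' := by group
      rw [e1]; exact hgmem F' hF'
    have h5 := Subgroup.mem_centralizer_iff.mp (h3 h4) e he
    show g F * g F' = g F' * g F
    calc g F * g F' = r F * (e * ((r F)⁻¹ * g F' * r F)) * (r F)⁻¹ := by
          show r F * e * (r F)⁻¹ * g F' = _
          group
      _ = r F * (((r F)⁻¹ * g F' * r F) * e) * (r F)⁻¹ := by rw [h5]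
      _ = g F' * g F := by
          show _ = g F' * (r F * e * (r F)⁻¹)
          group
  refine ⟨s.noncommProd g hcomm, (s.erase E).noncommProd g
    (fun _ hx _ hy hxy => hcomm (s.mem_of_mem_erase hx) (s.mem_of_mem_erase hy) hxy), ?_, ?_, ?_, ?_⟩
  · rw [Subgroup.mem_centralizer_iff]
    intro x hx
    have h1 := Finset.map_noncommProd s g hcomm (MulAut.conj x)
    have h2 : s.noncommProd (fun F => (MulAut.conj x) (g F))
        (fun _ hx _ hy _ => (hcomm.of_refl hx hy).map (MulAut.conj x)) =
        s.noncommProd (fun F => g (MulAut.conj x • F))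
        (fun F hF F' hF' hne => by
          show Commute (g (MulAut.conj x • F)) (g (MulAut.conj x • F'))
          rw [hequiv x hx F hF, hequiv x hx F' hF']
          exact (hcomm hF hF' hne).map (MulAut.conj x)) := by
      apply Finset.noncommProd_congr rfl
      intro F hF
      rw [hequiv x hx F hF]
      rfl
    have h3 := noncommProd_perm s (fun F => MulAut.conj x • F)
      (fun F _ F' _ h => by
        have := congrArg (fun S => MulAut.conj x⁻¹ • S) h
        simpa only [dg_mul, inv_mul_cancel, map_one, one_smul] using this)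
      (by
        apply Finset.Subset.antisymm
        · intro F hF
          obtain ⟨F', hF', rfl⟩ := Finset.mem_image.mp hF
          exact hsmul x hx F' hF'
        · intro F hF
          refine Finset.mem_image.mpr ⟨MulAut.conj x⁻¹ • F, hsmul _ (X.inv_mem hx) F hF, ?_⟩
          show MulAut.conj x • MulAut.conj x⁻¹ • F = F
          rw [dg_mul, mul_inv_cancel, map_one, one_smul]) g hcomm
      (fun F hF F' hF' hne => by
          show Commute (g (MulAut.conj x • F)) (g (MulAut.conj x • F'))
          rw [hequiv x hx F hF, hequiv x hx F' hF']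
          exact (hcomm hF hF' hne).map (MulAut.conj x))
    have h4 : x * s.noncommProd g hcomm * x⁻¹ = s.noncommProd g hcomm := by
      have h5 : (MulAut.conj x) (s.noncommProd g hcomm) = x * s.noncommProd g hcomm * x⁻¹ := rfl
      rw [← h5, h1, h2, h3]
    calc x * s.noncommProd g hcomm = (x * s.noncommProd g hcomm * x⁻¹) * x := by group
      _ = s.noncommProd g hcomm * x := by rw [h4]
  · apply Subgroup.noncommProd_mem
    intro F hF
    obtain ⟨h1, h2⟩ := hr F hF
    have := hM _ h1
    rw [h2] at this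
    exact this (hgmem F hF)
  · rw [Subgroup.mem_centralizer_iff]
    intro y hy
    have h1 : Commute y ((s.erase E).noncommProd g
        (fun _ hx _ hy hxy => hcomm (s.mem_of_mem_erase hx) (s.mem_of_mem_erase hy) hxy)) := by
      apply Finset.noncommProd_commute
      intro F hF
      have hFs := s.mem_of_mem_erase hF
      have hFne : F ≠ E := Finset.ne_of_mem_erase hF
      have h2 := hFcent F hFs hFne (hgmem F hFs)
      exact (Subgroup.mem_centralizer_iff.mp h2 y hy)
    exact h1.eq
  · have h1 := Finset.mul_noncommProd_erase s hEs g hcomm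
    rw [← h1]
    congr 1
    obtain ⟨h2, h3⟩ := hr E hEs
    exact hcentE _ h2 ((dg_eq_self_iff _ _).mp h3)

end Diag

end Cfsg.Agent.Lib.Helper5
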