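import Mathlib
import Cfsg.Agent.Lib.Helper5.Diag

set_option autoImplicit false

namespace Cfsg.Agent.Lib.Helper5

open scoped Pointwise

section Diag2

variable {G : Type*} [Group G]

theorem diag_exists2 (X E M M₂ : Subgroup G) [Finite X]
    (ha : ∀ x ∈ X, x ∈ Subgroup.normalizer (E : Set G) → x ∈ Subgroup.centralizer (E : Set G))
    (hb : ∀ x ∈ X, x ∉ Subgroup.normalizer (E : Set G) →
      MulAut.conj x • E ≤ Subgroup.centralizer (E : Set G))
    (hM : ∀ x ∈ X, MulAut.conj x • E ≤ M)
    (hM₂ : ∀ x ∈ X, x ∉ Subgroup.normalizer (E : Set G) → MulAut.conj x • E ≤ M₂)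
    (e : G) (he : e ∈ E) :
    ∃ c f : G, c ∈ Subgroup.centralizer (X : Set G) ∧ c ∈ M ∧
      f ∈ Subgroup.centralizer (E : Set G) ∧ f ∈ M₂ ∧ c = e * f := by
  classical
  haveI : Fintype X := Fintype.ofFinite X
  let s : Finset (Subgroup G) := Finset.univ.image (fun x : X => MulAut.conj (x : G) • E)
  have hs : ∀ F, F ∈ s ↔ ∃ x ∈ X, MulAut.conj x • E = F := by
    intro F
    simp only [s, Finset.mem_image, Finset.mem_univ, true_and]
    constructor
    · rintro ⟨x, rfl⟩
      exact ⟨x.1, x.2, rfl⟩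
    · rintro ⟨x, hx, rfl⟩
      exact ⟨⟨x, hx⟩, rfl⟩
  let r : Subgroup G → G := fun F =>
    if h : ∃ x ∈ X, MulAut.conj x • E = F then h.choose else 1
  have hr : ∀ F ∈ s, r F ∈ X ∧ MulAut.conj (r F) • E = F := by
    intro F hF
    have h := (hs F).mp hF
    simp only [r, dif_pos h]
    exact h.choose_spec
  let g : Subgroup G → G := fun F => r F * e * (r F)⁻¹
  have hsmul : ∀ x ∈ X, ∀ F ∈ s, MulAut.conj x • F ∈ s := by
    intro x hx F hF
    obtain ⟨h1, h2⟩ := hr F hF
    rw [hs]
    exact ⟨x * r F, X.mul_mem hx h1, by rw [← dg_mul, h2]⟩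
  have hcentE : ∀ y ∈ X, y ∈ Subgroup.normalizer (E : Set G) → y * e * y⁻¹ = e := by
    intro y hy hyN
    have h1 := Subgroup.mem_centralizer_iff.mp (ha y hy hyN) e he
    rw [← h1]; group
  have hequiv : ∀ x ∈ X, ∀ F ∈ s, g (MulAut.conj x • F) = x * g F * x⁻¹ := by
    intro x hx F hF
    obtain ⟨h1, h2⟩ := hr F hF
    obtain ⟨h3, h4⟩ := hr _ (hsmul x hx F hF)
    have hy : (r (MulAut.conj x • F))⁻¹ * x * r F ∈ X :=
      X.mul_mem (X.mul_mem (X.inv_mem h3) hx) h1
    have hyN : (r (MulAut.conj x • F))⁻¹ * x * r F ∈ Subgroup.normalizer (E : Set G) := by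
      rw [← dg_eq_self_iff, ← dg_mul, ← dg_mul, h2]
      have h6 := congrArg (fun S => MulAut.conj (r (MulAut.conj x • F))⁻¹ • S) h4.symm
      simp only [dg_mul, inv_mul_cancel, map_one, one_smul] at h6
      rw [dg_mul]
      exact h6
    have h5 := hcentE _ hy hyN
    show r (MulAut.conj x • F) * e * (r (MulAut.conj x • F))⁻¹ = x * (r F * e * (r F)⁻¹) * x⁻¹
    calc r (MulAut.conj x • F) * e * (r (MulAut.conj x • F))⁻¹
        = r (MulAut.conj x • F) * (((r (MulAut.conj x • F))⁻¹ * x * r F) * e *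
            ((r (MulAut.conj x • F))⁻¹ * x * r F)⁻¹) * (r (MulAut.conj x • F))⁻¹ := by rw [h5]
      _ = x * (r F * e * (r F)⁻¹) * x⁻¹ := by group
  have hFcent : ∀ F ∈ s, F ≠ E → F ≤ Subgroup.centralizer (E : Set G) := by
    intro F hF hne
    obtain ⟨h1, h2⟩ := hr F hF
    rw [← h2]
    apply hb _ h1
    intro hN
    apply hne
    rw [← h2]
    exact (dg_eq_self_iff _ _).mpr hN
  have hgmem : ∀ F ∈ s, g F ∈ F := by
    intro F hF
    obtain ⟨h1, h2⟩ := hr F hF
    have h3 : g F ∈ MulAut.conj (r F) • E := by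
      rw [dg_mem]
      show (r F)⁻¹ * (r F * e * (r F)⁻¹) * r F ∈ E
      have e1 : (r F)⁻¹ * (r F * e * (r F)⁻¹) * r F = e := by group
      rw [e1]; exact he
    rw [h2] at h3
    exact h3
  have hEs : E ∈ s := by
    rw [hs]
    exact ⟨1, X.one_mem, by rw [map_one, one_smul]⟩
  have hcomm : (s : Set (Subgroup G)).Pairwise (Function.onFun Commute g) := by
    intro F hF F' hF' hne
    obtain ⟨h1, h2⟩ := hr F hF
    have hF'' : MulAut.conj (r F)⁻¹ • F' ∈ s := hsmul _ (X.inv_mem h1) F' hF'
    have hne' : MulAut.conj (r F)⁻¹ • F' ≠ E := by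
      intro h
      apply hne
      have := congrArg (fun S => MulAut.conj (r F) • S) h
      simp only [dg_mul, mul_inv_cancel, map_one, one_smul] at this
      rw [this, h2]
    have h3 := hFcent _ hF'' hne'
    have h4 : (r F)⁻¹ * g F' * r F ∈ MulAut.conj (r F)⁻¹ • F' := by
      rw [dg_mem, inv_inv]
      have e1 : r F * ((r F)⁻¹ * g F' * r F) * (r F)⁻¹ = g F' := by group
      rw [e1]; exact hgmem F' hF'
    have h5 := Subgroup.mem_centralizer_iff.mp (h3 h4) e he
    show g F * g F' = g F' * g F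
    calc g F * g F' = r F * (e * ((r F)⁻¹ * g F' * r F)) * (r F)⁻¹ := by
          show r F * e * (r F)⁻¹ * g F' = _
          group
      _ = r F * (((r F)⁻¹ * g F' * r F) * e) * (r F)⁻¹ := by rw [h5]
      _ = g F' * g F := by
          show _ = g F' * (r F * e * (r F)⁻¹)
          group
  refine ⟨s.noncommProd g hcomm, (s.erase E).noncommProd g
    (fun _ hx _ hy hxy => hcomm (s.mem_of_mem_erase hx) (s.mem_of_mem_erase hy) hxy), ?_, ?_, ?_, ?_, ?_⟩
  · rw [Subgroup.mem_centralizer_iff]
    intro x hx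
    have h1 := Finset.map_noncommProd s g hcomm (MulAut.conj x)
    have h2 : s.noncommProd (fun F => (MulAut.conj x) (g F))
        (fun _ hx _ hy _ => (hcomm.of_refl hx hy).map (MulAut.conj x)) =
        s.noncommProd (fun F => g (MulAut.conj x • F))
        (fun F hF F' hF' hne => by
          show Commute (g (MulAut.conj x • F)) (g (MulAut.conj x • F'))
          rw [hequiv x hx F hF, hequiv x hx F' hF']
          exact (hcomm hF hF' hne).map (MulAut.conj x)) := by
      apply Finset.noncommProd_congr rfl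
      intro F hF
      rw [hequiv x hx F hF]
      rfl
    have h3 := noncommProd_perm s (fun F => MulAut.conj x • F)
      (fun F _ F' _ h => by
        have := congrArg (fun S => MulAut.conj x⁻¹ • S) h
        simpa only [dg_mul, inv_mul_cancel, map_one, one_smul] using this)
      (by
        apply Finset.Subset.antisymm
        · intro F hF
          obtain ⟨F', hF', rfl⟩ := Finset.mem_image.mp hF
          exact hsmul x hx F' hF'
        · intro F hF
          refine Finset.mem_image.mpr ⟨MulAut.conj x⁻¹ • F, hsmul _ (X.inv_mem hx) F hF, ?_⟩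
          show MulAut.conj x • MulAut.conj x⁻¹ • F = F
          rw [dg_mul, mul_inv_cancel, map_one, one_smul]) g hcomm
      (fun F hF F' hF' hne => by
          show Commute (g (MulAut.conj x • F)) (g (MulAut.conj x • F'))
          rw [hequiv x hx F hF, hequiv x hx F' hF']
          exact (hcomm hF hF' hne).map (MulAut.conj x))
    have h4 : x * s.noncommProd g hcomm * x⁻¹ = s.noncommProd g hcomm := by
      have h5 : (MulAut.conj x) (s.noncommProd g hcomm) = x * s.noncommProd g hcomm * x⁻¹ := rfl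
      rw [← h5, h1, h2, h3]
    calc x * s.noncommProd g hcomm = (x * s.noncommProd g hcomm * x⁻¹) * x := by group
      _ = s.noncommProd g hcomm * x := by rw [h4]
  · apply Subgroup.noncommProd_mem
    intro F hF
    obtain ⟨h1, h2⟩ := hr F hF
    have := hM _ h1
    rw [h2] at this
    exact this (hgmem F hF)
  · rw [Subgroup.mem_centralizer_iff]
    intro y hy
    have h1 : Commute y ((s.erase E).noncommProd g
        (fun _ hx _ hy hxy => hcomm (s.mem_of_mem_erase hx) (s.mem_of_mem_erase hy) hxy)) := by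
      apply Finset.noncommProd_commute
      intro F hF
      have hFs := s.mem_of_mem_erase hF
      have hFne : F ≠ E := Finset.ne_of_mem_erase hF
      have h2 := hFcent F hFs hFne (hgmem F hFs)
      exact (Subgroup.mem_centralizer_iff.mp h2 y hy)
    exact h1.eq
  · apply Subgroup.noncommProd_mem
    intro F hF
    have hFs := s.mem_of_mem_erase hF
    have hFne : F ≠ E := Finset.ne_of_mem_erase hF
    obtain ⟨h1, h2⟩ := hr F hFs
    have h3 : r F ∉ Subgroup.normalizer (E : Set G) := by
      intro hN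
      apply hFne
      rw [← h2]
      exact (dg_eq_self_iff _ _).mpr hN
    have h4 := hM₂ _ h1 h3
    rw [h2] at h4
    exact h4 (hgmem F hFs)
  · have h1 := Finset.mul_noncommProd_erase s hEs g hcomm
    rw [← h1]
    congr 1
    obtain ⟨h2, h3⟩ := hr E hEs
    exact hcentE _ h2 ((dg_eq_self_iff _ _).mp h3)

end Diag2

end Cfsg.Agent.Lib.Helper5
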