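import Mathlib
import Cfsg.Prelude.Def_PLocal
import Cfsg.Agent.S0028
import Cfsg.Agent.S1324
import Cfsg.Agent.Lib.Helper1.Cores
import Cfsg.Agent.Lib.Helper1.Fitting
import Cfsg.Agent.Lib.Helper5.ElemAb

set_option autoImplicit false

namespace Cfsg.Agent.Lib.Helper5

open scoped commutatorElement

section FF

variable {G : Type*} [Group G] {p : ℕ}

def ffK (p : ℕ) (H : Subgroup G) : Subgroup G := (Cfsg.pPrimeCore p ↥H).map H.subtype

theorem ffK_le (H : Subgroup G) : ffK p H ≤ H := Subgroup.map_subtype_le _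

theorem ffK_normalized (H : Subgroup G) : H ≤ Subgroup.normalizer (ffK p H : Set G) := by
  intro h hh
  rw [Subgroup.mem_normalizer_iff]
  intro x
  constructor
  · rintro ⟨n, hn, rfl⟩
    refine ⟨⟨h, hh⟩ * n * ⟨h, hh⟩⁻¹, ?_, rfl⟩
    exact (Cfsg.pPrimeCore_normal p ↥H).conj_mem n hn ⟨h, hh⟩
  · rintro ⟨n, hn, hnx⟩
    refine ⟨⟨h, hh⟩⁻¹ * n * ⟨h, hh⟩, ?_, ?_⟩
    · have := (Cfsg.pPrimeCore_normal p ↥H).conj_mem n hn ⟨h, hh⟩⁻¹
      simpa using this
    · simp only [Subgroup.subtype_apply, Subgroup.coe_mul, Subgroup.coe_inv] at hnx ⊢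
      rw [hnx]; group

theorem ffK_coprime [Finite G] (H : Subgroup G) : (Nat.card (ffK p H)).Coprime p := by
  unfold ffK
  rw [Subgroup.card_map_of_injective H.subtype_injective]
  exact Cfsg.Agent.Lib.Helper1.pPrimeCore_card_coprime p

theorem ffK_self_cent (H : Subgroup G)
    (hS1 : Subgroup.centralizer (Cfsg.pPrimeCore p ↥H : Set ↥H) ≤ Cfsg.pPrimeCore p ↥H)
    {x : G} (hxH : x ∈ H) (hx : x ∈ Subgroup.centralizer (ffK p H : Set G)) : x ∈ ffK p H := by
  have h1 : (⟨x, hxH⟩ : ↥H) ∈ Subgroup.centralizer (Cfsg.pPrimeCore p ↥H : Set ↥H) := by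
    rw [Subgroup.mem_centralizer_iff]
    intro n hn
    apply Subtype.ext
    rw [Subgroup.mem_centralizer_iff] at hx
    exact hx n ⟨n, hn, rfl⟩
  exact ⟨⟨x, hxH⟩, hS1 h1, rfl⟩

theorem eq_bot_of_pgroup_le_coprime [Finite G] [Fact p.Prime] {A K : Subgroup G}
    (hA : IsPGroup p A) (hK : (Nat.card K).Coprime p) (h : A ≤ K) : A = ⊥ := by
  obtain ⟨n, hn⟩ := IsPGroup.iff_card.mp hA
  have h1 : Nat.card A ∣ Nat.card K := Subgroup.card_dvd_of_le h
  have h2 : (Nat.card A).Coprime (Nat.card K) := by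
    rw [hn]; exact (Nat.Coprime.pow_left n hK.symm)
  have h3 := Nat.Coprime.eq_one_of_dvd h2 h1
  exact Subgroup.card_eq_one.mp h3

theorem ff_faithful {V H A : Subgroup G} (hf : H ⊓ Subgroup.centralizer (V : Set G) = ⊥)
    (hAH : A ≤ H) (hA : A ≤ Subgroup.centralizer (V : Set G)) : A = ⊥ := by
  rw [eq_bot_iff, ← hf]; exact le_inf hAH hA

theorem elemAb_of_bestOffender {V H A : Subgroup G}
    (hf : H ⊓ Subgroup.centralizer (V : Set G) = ⊥) (hAH : A ≤ H)
    (hA : Cfsg.IsBestOffenderOn p V A) : Cfsg.IsElementaryAbelian p A := by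
  obtain ⟨-, hc, hp⟩ := hA
  have hbot : ∀ x ∈ H, x ∈ Subgroup.centralizer (V : Set G) → x = 1 := by
    intro x hx hx'
    have : x ∈ H ⊓ Subgroup.centralizer (V : Set G) := ⟨hx, hx'⟩
    rw [hf, Subgroup.mem_bot] at this
    exact this
  refine ⟨⟨⟨fun a b => ?_⟩⟩, fun a ha => hbot _ (H.pow_mem (hAH ha) p) (hp a ha)⟩
  apply Subtype.ext
  have h1 : ⁅(a : G), (b : G)⁆ ∈ ⁅A, A⁆ := Subgroup.commutator_mem_commutator a.2 b.2
  have h3 : ⁅(a : G), (b : G)⁆ ∈ H := by
    rw [commutatorElement_def]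
    exact H.mul_mem (H.mul_mem (H.mul_mem (hAH a.2) (hAH b.2)) (H.inv_mem (hAH a.2)))
      (H.inv_mem (hAH b.2))
  have h2 := hbot _ h3 (hc h1)
  rw [commutatorElement_eq_one_iff_mul_comm] at h2
  exact h2


theorem comm_centralizes_of {U : Subgroup G} {y a : G}
    (hy : ∀ u ∈ U, y * u * y⁻¹ ∈ U) (hy' : ∀ u ∈ U, y⁻¹ * u * y ∈ U)
    (ha : ∀ u ∈ U, a * u = u * a) :
    ⁅y, a⁆ ∈ Subgroup.centralizer (U : Set G) := by
  rw [Subgroup.mem_centralizer_iff]
  intro u hu
  have h1 : a⁻¹ * u * a = u := by rw [mul_assoc, ← ha u hu]; group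
  have h2 := hy' u hu
  have h3 : a * (y⁻¹ * u * y) * a⁻¹ = y⁻¹ * u * y := by
    rw [ha _ h2]; group
  have key : ⁅y, a⁆ * u * ⁅y, a⁆⁻¹ = u := by
    calc ⁅y, a⁆ * u * ⁅y, a⁆⁻¹ = y * (a * (y⁻¹ * (a⁻¹ * u * a) * y) * a⁻¹) * y⁻¹ := by
          rw [commutatorElement_def]; group
      _ = y * (a * (y⁻¹ * u * y) * a⁻¹) * y⁻¹ := by rw [h1]
      _ = y * (y⁻¹ * u * y) * y⁻¹ := by rw [h3]
      _ = u := by group
  calc u * ⁅y, a⁆ = (⁅y, a⁆ * u * ⁅y, a⁆⁻¹) * ⁅y, a⁆ := by rw [key]
    _ = ⁅y, a⁆ * u := by group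

theorem weight_lemma [Finite G] [Fact p.Prime] {V H : Subgroup G}
    (hV : Cfsg.IsElementaryAbelian p V) (hHV : H ≤ Subgroup.normalizer (V : Set G))
    (hf : H ⊓ Subgroup.centralizer (V : Set G) = ⊥) (A B : Subgroup G) (hAH : A ≤ H)
    (hA : Cfsg.IsElementaryAbelian p A) (hBA : B ≤ A)
    (hw : ¬ (ffK p H ⊓ Subgroup.centralizer (B : Set G) ≤ Subgroup.centralizer (A : Set G))) :
    V ⊓ Subgroup.centralizer (B : Set G) ≠ V ⊓ Subgroup.centralizer (A : Set G) := by
  intro heq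
  apply hw
  set L₀ := ffK p H ⊓ Subgroup.centralizer (B : Set G) with hL₀
  set U := V ⊓ Subgroup.centralizer (B : Set G) with hU
  have hAcomm : ∀ a ∈ A, ∀ b ∈ A, a * b = b * a := fun a ha b hb => by
    have := hA.1.is_comm.comm ⟨a, ha⟩ ⟨b, hb⟩
    exact congrArg Subtype.val this
  -- A normalizes L₀
  have hAL : A ≤ Subgroup.normalizer (L₀ : Set G) := by
    intro a ha
    rw [Subgroup.mem_normalizer_iff]
    intro x
    have hK := Subgroup.mem_normalizer_iff.mp (ffK_normalized (p := p) H (hAH ha)) x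
    have hcB : x ∈ Subgroup.centralizer (B : Set G) ↔
        a * x * a⁻¹ ∈ Subgroup.centralizer (B : Set G) := by
      rw [Subgroup.mem_centralizer_iff, Subgroup.mem_centralizer_iff]
      constructor
      · intro hx b hb
        have h1 : Commute b x := hx b hb
        have h2 : Commute b a := (hAcomm a ha b (hBA hb)).symm
        exact (h2.mul_right h1).mul_right h2.inv_right
      · intro hx b hb
        have h1 : Commute b (a * x * a⁻¹) := hx b hb
        have h2 : Commute b a := (hAcomm a ha b (hBA hb)).symm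
        have h3 := (h2.inv_right.mul_right h1).mul_right h2
        have h4 : a⁻¹ * (a * x * a⁻¹) * a = x := by group
        rw [h4] at h3
        exact h3
    exact ⟨fun hx => ⟨hK.mp hx.1, hcB.mp hx.2⟩, fun hx => ⟨hK.mpr hx.1, hcB.mpr hx.2⟩⟩
  set Q := ⁅L₀, A⁆ with hQ
  have hQL : Q ≤ L₀ := Subgroup.le_normalizer_iff_commutator_le_left.mp hAL
  have hQK : Q ≤ ffK p H := hQL.trans inf_le_left
  have hQH : Q ≤ H := hQK.trans (ffK_le H)
  have hQcop : (Nat.card Q).Coprime p :=
    Nat.Coprime.coprime_dvd_left (Subgroup.card_dvd_of_le hQK) (ffK_coprime H)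
  have hBQ : B ≤ Subgroup.centralizer (Q : Set G) :=
    Subgroup.le_centralizer_iff.mp (hQL.trans inf_le_right)
  have hBp : IsPGroup p B := elemAb_isPGroup (elemAb_of_le hBA hA)
  have hVp : IsPGroup p V := elemAb_isPGroup hV
  have hBV : B ≤ Subgroup.normalizer (V : Set G) := (hBA.trans hAH).trans hHV
  have hQV : Q ≤ Subgroup.normalizer (V : Set G) := hQH.trans hHV
  have hUQ : U ≤ Subgroup.centralizer (Q : Set G) := by
    rw [Subgroup.le_centralizer_iff, hQ, Subgroup.commutator_le]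
    intro y hy a ha
    have hyB : y ∈ Subgroup.centralizer (B : Set G) := hy.2
    have hyV : y ∈ Subgroup.normalizer (V : Set G) := hHV (ffK_le H hy.1)
    have hyinv : y⁻¹ ∈ Subgroup.centralizer (B : Set G) := inv_mem hyB
    have hyVinv : y⁻¹ ∈ Subgroup.normalizer (V : Set G) := inv_mem hyV
    have hnormU : ∀ z : G, z ∈ Subgroup.centralizer (B : Set G) →
        z ∈ Subgroup.normalizer (V : Set G) → ∀ u ∈ U, z * u * z⁻¹ ∈ U := by
      intro z hzB hzV u hu
      refine ⟨(Subgroup.mem_normalizer_iff.mp hzV u).mp hu.1, ?_⟩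
      show z * u * z⁻¹ ∈ Subgroup.centralizer (B : Set G)
      rw [Subgroup.mem_centralizer_iff]
      intro b hb
      have h1 : Commute b z := (Subgroup.mem_centralizer_iff.mp hzB) b hb
      have h2 : Commute b u := (Subgroup.mem_centralizer_iff.mp hu.2) b hb
      exact (h1.mul_right h2).mul_right h1.inv_right
    apply comm_centralizes_of (U := U)
    · exact hnormU y hyB hyV
    · intro u hu
      have := hnormU y⁻¹ hyinv hyVinv u hu
      simpa using this
    · intro u hu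
      have hu' : u ∈ V ⊓ Subgroup.centralizer (A : Set G) := by rw [← heq]; exact hu
      exact ((Subgroup.mem_centralizer_iff.mp hu'.2) a ha)
  have hres := Cfsg.Agent.S0028.result p B Q V hBp hQcop hVp hBQ hBV hQV hUQ
  have hQbot : Q = ⊥ := ff_faithful hf hQH hres
  rw [hQ, Subgroup.commutator_eq_bot_iff_le_centralizer] at hQbot
  exact hQbot

theorem card_eq_p_of_lt_sq [Finite G] [Fact p.Prime] {A : Subgroup G} (hA : IsPGroup p A)
    (hne : A ≠ ⊥) (hlt : Nat.card A < p ^ 2) : Nat.card A = p := by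
  have hp : p.Prime := Fact.out
  obtain ⟨n, hn⟩ := IsPGroup.iff_card.mp hA
  have h1 : 1 < Nat.card A := by
    rw [Subgroup.one_lt_card_iff_ne_bot]; exact hne
  rw [hn] at hlt h1 ⊢
  have h2 : n < 2 := (Nat.pow_lt_pow_iff_right hp.one_lt).mp hlt
  have h3 : n ≠ 0 := by
    intro h; rw [h, pow_zero] at h1; exact lt_irrefl _ h1
  have h4 : n = 1 := by omega
  rw [h4, pow_one]

theorem exists_weight [Finite G] [Fact p.Prime] {H : Subgroup G}
    (hS1 : Subgroup.centralizer (Cfsg.pPrimeCore p ↥H : Set ↥H) ≤ Cfsg.pPrimeCore p ↥H)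
    (A : Subgroup G) (hAH : A ≤ H) (hA : Cfsg.IsElementaryAbelian p A) (a : G) (haA : a ∈ A)
    (ha1 : a ≠ 1) :
    ∃ B : Subgroup G, B ≤ A ∧ B.relIndex A = p ∧ a ∉ B ∧
      ¬ (ffK p H ⊓ Subgroup.centralizer (B : Set G) ≤ Subgroup.centralizer (A : Set G)) := by
  have hp : p.Prime := Fact.out
  have hAp : IsPGroup p A := elemAb_isPGroup hA
  have hAne : A ≠ ⊥ := by
    intro h; rw [h, Subgroup.mem_bot] at haA; exact ha1 haA
  have hzp : IsPGroup p (Subgroup.zpowers a) := hAp.to_le (Subgroup.zpowers_le.mpr haA)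
  have ha_notK : ¬ a ∈ Subgroup.centralizer (ffK p H : Set G) := by
    intro hc
    have h1 := ffK_self_cent H hS1 (hAH haA) hc
    have h2 := eq_bot_of_pgroup_le_coprime hzp (ffK_coprime H) (Subgroup.zpowers_le.mpr h1)
    rw [Subgroup.zpowers_eq_bot] at h2
    exact ha1 h2
  by_cases hsq : p ^ 2 ≤ Nat.card A
  · by_contra hcon
    push_neg at hcon
    apply ha_notK
    have hgen := Cfsg.Agent.S1324.result p A (ffK p H) hA hsq
      (by
        intro hd
        have := ffK_coprime (p := p) H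
        rw [Nat.coprime_comm, hp.coprime_iff_not_dvd] at this
        exact this hd)
      (hAH.trans (ffK_normalized H))
    have hle : ffK p H ≤ Subgroup.centralizer ({a} : Set G) := by
      rw [hgen]
      apply iSup_le
      rintro ⟨B, hBA, hBi⟩
      by_cases haB : a ∈ B
      · intro x hx
        have hx2 : x ∈ Subgroup.centralizer (B : Set G) := hx.2
        rw [Subgroup.mem_centralizer_iff] at hx2 ⊢
        intro y hy
        rw [Set.mem_singleton_iff] at hy
        subst hy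
        exact hx2 y haB
      · have hrel : B.relIndex A = p := by
          have hdvd : B.relIndex A ∣ Nat.card A := Subgroup.relIndex_dvd_card B A
          obtain ⟨n, hn⟩ := IsPGroup.iff_card.mp hAp
          rw [hn] at hdvd
          obtain ⟨j, hj, hjeq⟩ := (Nat.dvd_prime_pow hp).mp hdvd
          have hj1 : j ≠ 0 := by
            intro h0
            rw [h0, pow_zero] at hjeq
            rw [Subgroup.relIndex_eq_one] at hjeq
            exact haB (hjeq haA)
          have hj2 : j ≤ 1 := by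
            by_contra hgt
            push_neg at hgt
            have : p ^ 2 ≤ p ^ j := Nat.pow_le_pow_right hp.pos hgt
            have h3 : p < p ^ 2 := by
              calc p = p ^ 1 := (pow_one p).symm
                _ < p ^ 2 := Nat.pow_lt_pow_right hp.one_lt (by norm_num)
            rw [hjeq] at hBi
            omega
          have : j = 1 := by omega
          rw [hjeq, this, pow_one]
        have h1 := hcon B hBA hrel haB
        intro x hx
        have hx2 := h1 hx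
        rw [Subgroup.mem_centralizer_iff] at hx2 ⊢
        intro y hy
        rw [Set.mem_singleton_iff] at hy
        subst hy
        exact hx2 y haA
    rw [Subgroup.mem_centralizer_iff]
    intro k hk
    have := hle hk
    rw [Subgroup.mem_centralizer_iff] at this
    exact (this a rfl).symm
  · push_neg at hsq
    have hcard := card_eq_p_of_lt_sq hAp hAne hsq
    refine ⟨⊥, bot_le, ?_, ?_, ?_⟩
    · rw [Subgroup.relIndex_bot_left, hcard]
    · rw [Subgroup.mem_bot]; exact ha1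
    · intro hle
      apply ha_notK
      rw [Subgroup.mem_centralizer_iff]
      intro k hk
      have hk2 : k ∈ ffK p H ⊓ Subgroup.centralizer ((⊥ : Subgroup G) : Set G) := by
        refine ⟨hk, ?_⟩
        show k ∈ Subgroup.centralizer ((⊥ : Subgroup G) : Set G)
        rw [Subgroup.mem_centralizer_iff]
        intro y hy
        rw [SetLike.mem_coe, Subgroup.mem_bot] at hy
        subst hy
        simp
      have := hle hk2
      rw [Subgroup.mem_centralizer_iff] at this
      exact (this a haA).symm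

theorem card_mul_p_le_of_lt [Finite G] [Fact p.Prime] {X Y V : Subgroup G} (hV : IsPGroup p V)
    (hYV : Y ≤ V) (hXY : X ≤ Y) (hne : X ≠ Y) : Nat.card X * p ≤ Nat.card Y := by
  have hp : p.Prime := Fact.out
  have h1 := Cfsg.Agent.Lib.Helper1.card_mul_relIndex_of_le hXY
  have hYp : IsPGroup p Y := hV.to_le hYV
  obtain ⟨n, hn⟩ := IsPGroup.iff_card.mp hYp
  have hdvd : X.relIndex Y ∣ p ^ n := by
    rw [← hn]; exact Subgroup.relIndex_dvd_card X Y
  obtain ⟨j, -, hj⟩ := (Nat.dvd_prime_pow hp).mp hdvd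
  have hj0 : j ≠ 0 := by
    intro h0
    rw [h0, pow_zero, Subgroup.relIndex_eq_one] at hj
    exact hne (le_antisymm hXY hj)
  have hge : p ≤ X.relIndex Y := by
    rw [hj]
    calc p = p ^ 1 := (pow_one p).symm
      _ ≤ p ^ j := Nat.pow_le_pow_right hp.pos (Nat.one_le_iff_ne_zero.mpr hj0)
  rw [← h1]
  exact Nat.mul_le_mul_left _ hge

theorem no_over_offender [Finite G] [Fact p.Prime] {V H : Subgroup G}
    (hV : Cfsg.IsElementaryAbelian p V) (hHV : H ≤ Subgroup.normalizer (V : Set G))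
    (hf : H ⊓ Subgroup.centralizer (V : Set G) = ⊥)
    (hS1 : Subgroup.centralizer (Cfsg.pPrimeCore p ↥H : Set ↥H) ≤ Cfsg.pPrimeCore p ↥H) :
    ∀ (n : ℕ) (A : Subgroup G), Nat.card A = n → A ≤ H → Cfsg.IsElementaryAbelian p A →
      Nat.card A * Nat.card ↥(V ⊓ Subgroup.centralizer (A : Set G)) ≤ Nat.card V := by
  intro n
  induction n using Nat.strong_induction_on with
  | _ n ih =>
    intro A hcard hAH hA
    by_cases hAb : A = ⊥
    · rw [hAb, Subgroup.card_bot, one_mul]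
      exact Subgroup.card_le_of_le inf_le_left
    · obtain ⟨⟨a, haA⟩, ha1'⟩ := (Subgroup.ne_bot_iff_exists_ne_one.mp hAb)
      have ha1 : a ≠ 1 := fun h => ha1' (Subtype.ext h)
      obtain ⟨B, hBA, hBi, -, hw⟩ := exists_weight hS1 A hAH hA a haA ha1
      have hne := weight_lemma hV hHV hf A B hAH hA hBA hw
      have hle : V ⊓ Subgroup.centralizer (A : Set G) ≤ V ⊓ Subgroup.centralizer (B : Set G) :=
        inf_le_inf_left V (Subgroup.centralizer_le hBA)
      have h1 := card_mul_p_le_of_lt (elemAb_isPGroup hV) inf_le_left hle (Ne.symm hne)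
      have h2 := Cfsg.Agent.Lib.Helper1.card_mul_relIndex_of_le hBA
      rw [hBi] at h2
      have hBlt : Nat.card B < n := by
        rw [← hcard, ← h2]
        have hpos : 0 < Nat.card B := Nat.card_pos
        have hp2 := (Fact.out : p.Prime).two_le
        nlinarith
      have h3 := ih (Nat.card B) hBlt B rfl (hBA.trans hAH) (elemAb_of_le hBA hA)
      calc Nat.card A * Nat.card ↥(V ⊓ Subgroup.centralizer (A : Set G))
          = Nat.card B * (Nat.card ↥(V ⊓ Subgroup.centralizer (A : Set G)) * p) := by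
            rw [← h2]; ring
        _ ≤ Nat.card B * Nat.card ↥(V ⊓ Subgroup.centralizer (B : Set G)) :=
            Nat.mul_le_mul_left _ h1
        _ ≤ Nat.card V := h3

theorem centralizer_coe_bot : Subgroup.centralizer (((⊥ : Subgroup G) : Subgroup G) : Set G) = ⊤ := by
  rw [eq_top_iff]
  intro x _
  rw [Subgroup.mem_centralizer_iff]
  intro y hy
  rw [SetLike.mem_coe, Subgroup.mem_bot] at hy
  subst hy
  simp

theorem bestOffender_iff [Finite G] [Fact p.Prime] {V H : Subgroup G}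
    (hV : Cfsg.IsElementaryAbelian p V) (hHV : H ≤ Subgroup.normalizer (V : Set G))
    (hf : H ⊓ Subgroup.centralizer (V : Set G) = ⊥)
    (hS1 : Subgroup.centralizer (Cfsg.pPrimeCore p ↥H : Set ↥H) ≤ Cfsg.pPrimeCore p ↥H)
    (A : Subgroup G) (hAH : A ≤ H) :
    Cfsg.IsBestOffenderOn p V A ↔ (Cfsg.IsElementaryAbelian p A ∧
      Nat.card A * Nat.card ↥(V ⊓ Subgroup.centralizer (A : Set G)) = Nat.card V) := by
  constructor
  · intro hA
    have hAe := elemAb_of_bestOffender hf hAH hA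
    refine ⟨hAe, le_antisymm (no_over_offender hV hHV hf hS1 _ A rfl hAH hAe) ?_⟩
    have h1 := hA.1 ⊥ bot_le
    rw [Subgroup.card_bot, one_mul, centralizer_coe_bot, inf_top_eq] at h1
    exact h1
  · rintro ⟨hAe, hcard⟩
    refine ⟨?_, ?_, ?_⟩
    · intro B hBA
      rw [hcard]
      exact no_over_offender hV hHV hf hS1 _ B rfl (hBA.trans hAH) (elemAb_of_le hBA hAe)
    · have : ⁅A, A⁆ = ⊥ := by
        rw [Subgroup.commutator_eq_bot_iff_le_centralizer]
        intro a ha
        rw [Subgroup.mem_centralizer_iff]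
        intro b hb
        exact congrArg Subtype.val (hAe.1.is_comm.comm ⟨b, hb⟩ ⟨a, ha⟩)
      rw [this]; exact bot_le
    · intro a ha
      rw [hAe.2 a ha]; exact one_mem _

theorem commutator_ne_bot_of_ne_bot {V H A : Subgroup G}
    (hf : H ⊓ Subgroup.centralizer (V : Set G) = ⊥) (hAH : A ≤ H) (hA : A ≠ ⊥) : ⁅V, A⁆ ≠ ⊥ := by
  intro h
  apply hA
  rw [Subgroup.commutator_eq_bot_iff_le_centralizer] at h
  exact ff_faithful hf hAH (Subgroup.le_centralizer_iff.mp h)

theorem ne_bot_of_commutator_ne_bot {V A : Subgroup G} (h : ⁅V, A⁆ ≠ ⊥) : A ≠ ⊥ := by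
  intro hA
  apply h
  rw [hA, Subgroup.commutator_bot_right]

theorem min_offender_card [Finite G] [Fact p.Prime] {V H : Subgroup G}
    (hV : Cfsg.IsElementaryAbelian p V) (hHV : H ≤ Subgroup.normalizer (V : Set G))
    (hf : H ⊓ Subgroup.centralizer (V : Set G) = ⊥)
    (hS1 : Subgroup.centralizer (Cfsg.pPrimeCore p ↥H : Set ↥H) ≤ Cfsg.pPrimeCore p ↥H)
    (A : Subgroup G) (hAH : A ≤ H) (hA : Cfsg.IsBestOffenderOn p V A) (hAV : ⁅V, A⁆ ≠ ⊥)
    (hmin : ∀ B : Subgroup G, B ≤ A → Cfsg.IsBestOffenderOn p V B → ⁅V, B⁆ ≠ ⊥ → B = A) :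
    Nat.card A = p := by
  have hp : p.Prime := Fact.out
  obtain ⟨hAe, hcard⟩ := (bestOffender_iff hV hHV hf hS1 A hAH).mp hA
  have hAb : A ≠ ⊥ := ne_bot_of_commutator_ne_bot hAV
  obtain ⟨⟨a, haA⟩, ha1'⟩ := (Subgroup.ne_bot_iff_exists_ne_one.mp hAb)
  have ha1 : a ≠ 1 := fun h => ha1' (Subtype.ext h)
  obtain ⟨B, hBA, hBi, -, hw⟩ := exists_weight hS1 A hAH hAe a haA ha1
  have hne := weight_lemma hV hHV hf A B hAH hAe hBA hw
  have hle : V ⊓ Subgroup.centralizer (A : Set G) ≤ V ⊓ Subgroup.centralizer (B : Set G) :=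
    inf_le_inf_left V (Subgroup.centralizer_le hBA)
  have h1 := card_mul_p_le_of_lt (elemAb_isPGroup hV) inf_le_left hle (Ne.symm hne)
  have h2 := Cfsg.Agent.Lib.Helper1.card_mul_relIndex_of_le hBA
  rw [hBi] at h2
  have hBe := elemAb_of_le hBA hAe
  have h3 := no_over_offender hV hHV hf hS1 _ B rfl (hBA.trans hAH) hBe
  have h4 : Nat.card B * Nat.card ↥(V ⊓ Subgroup.centralizer (B : Set G)) = Nat.card V := by
    apply le_antisymm h3
    calc Nat.card V = Nat.card B * (Nat.card ↥(V ⊓ Subgroup.centralizer (A : Set G)) * p) := by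
          rw [← hcard, ← h2]; ring
      _ ≤ Nat.card B * Nat.card ↥(V ⊓ Subgroup.centralizer (B : Set G)) :=
          Nat.mul_le_mul_left _ h1
  have hBbo : Cfsg.IsBestOffenderOn p V B :=
    (bestOffender_iff hV hHV hf hS1 B (hBA.trans hAH)).mpr ⟨hBe, h4⟩
  have hBbot : B = ⊥ := by
    by_contra hB
    have := hmin B hBA hBbo (commutator_ne_bot_of_ne_bot hf (hBA.trans hAH) hB)
    rw [this, Subgroup.relIndex_self] at hBi
    exact hp.one_lt.ne hBi
  rw [← h2, hBbot, Subgroup.card_bot, one_mul]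

def commHom (V : Subgroup G) (hVc : ∀ x ∈ V, ∀ y ∈ V, x * y = y * x) (a : G)
    (ha : a ∈ Subgroup.normalizer (V : Set G)) : ↥V →* ↥V where
  toFun v := ⟨⁅(v : G), a⁆, by
    rw [commutatorElement_def]
    have h1 : a * (v : G)⁻¹ * a⁻¹ ∈ V := (Subgroup.mem_normalizer_iff.mp ha _).mp (V.inv_mem v.2)
    have h2 : (v : G) * a * (v : G)⁻¹ * a⁻¹ = (v : G) * (a * (v : G)⁻¹ * a⁻¹) := by group
    rw [h2]
    exact V.mul_mem v.2 h1⟩
  map_one' := by
    apply Subtype.ext
    simp
  map_mul' v w := by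
    apply Subtype.ext
    have h1 : a * (v : G)⁻¹ * a⁻¹ ∈ V := (Subgroup.mem_normalizer_iff.mp ha _).mp (V.inv_mem v.2)
    have h2 : a * (w : G)⁻¹ * a⁻¹ ∈ V := (Subgroup.mem_normalizer_iff.mp ha _).mp (V.inv_mem w.2)
    have h3 := hVc _ h1 _ (V.mul_mem w.2 h2)
    simp only [Subgroup.coe_mul, commutatorElement_def]
    calc (v : G) * w * a * ((v : G) * w)⁻¹ * a⁻¹
        = (v : G) * ((w : G) * (a * (w : G)⁻¹ * a⁻¹) * (a * (v : G)⁻¹ * a⁻¹)) := by group
      _ = (v : G) * ((a * (v : G)⁻¹ * a⁻¹) * ((w : G) * (a * (w : G)⁻¹ * a⁻¹))) := by rw [h3]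
      _ = (v : G) * a * (v : G)⁻¹ * a⁻¹ * ((w : G) * a * (w : G)⁻¹ * a⁻¹) := by group

theorem commHom_coe (V : Subgroup G) (hVc : ∀ x ∈ V, ∀ y ∈ V, x * y = y * x) (a : G)
    (ha : a ∈ Subgroup.normalizer (V : Set G)) (v : V) :
    ((commHom V hVc a ha v : V) : G) = ⁅(v : G), a⁆ := rfl

theorem commHom_range (V : Subgroup G) (hVc : ∀ x ∈ V, ∀ y ∈ V, x * y = y * x) (a : G)
    (ha : a ∈ Subgroup.normalizer (V : Set G)) :
    (commHom V hVc a ha).range.map V.subtype = ⁅V, Subgroup.zpowers a⁆ := by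
  set R := (commHom V hVc a ha).range.map V.subtype with hR
  have hmemR : ∀ v ∈ V, ⁅v, a⁆ ∈ R := fun v hv => ⟨_, ⟨⟨v, hv⟩, rfl⟩, rfl⟩
  have hRform : ∀ r ∈ R, ∃ v ∈ V, r = ⁅v, a⁆ := by
    rintro r ⟨_, ⟨v, rfl⟩, rfl⟩
    exact ⟨v, v.2, rfl⟩
  have hRV : R ≤ V := Subgroup.map_subtype_le _
  have hconj : ∀ r ∈ R, a * r * a⁻¹ ∈ R := by
    intro r hr
    obtain ⟨v, hv, rfl⟩ := hRform r hr
    have h1 : a * v * a⁻¹ ∈ V := (Subgroup.mem_normalizer_iff.mp ha _).mp hv
    have h2 : a * ⁅v, a⁆ * a⁻¹ = ⁅a * v * a⁻¹, a⁆ := by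
      simp only [commutatorElement_def]; group
    rw [h2]; exact hmemR _ h1
  have hconj' : ∀ r ∈ R, a⁻¹ * r * a ∈ R := by
    intro r hr
    obtain ⟨v, hv, rfl⟩ := hRform r hr
    have h1 : a⁻¹ * v * a ∈ V := (Subgroup.mem_normalizer_iff''.mp ha _).mp hv
    have h2 : a⁻¹ * ⁅v, a⁆ * a = ⁅a⁻¹ * v * a, a⁆ := by
      simp only [commutatorElement_def]; group
    rw [h2]; exact hmemR _ h1
  apply le_antisymm
  · rintro _ ⟨_, ⟨v, rfl⟩, rfl⟩
    exact Subgroup.commutator_mem_commutator v.2 (Subgroup.mem_zpowers a)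
  · have key : ∀ k : ℤ, ∀ v ∈ V, ⁅v, a ^ k⁆ ∈ R := by
      intro k
      induction k using Int.induction_on with
      | zero => intro v _; simp
      | succ k ih =>
        intro v hv
        have h1 : ⁅v, a ^ ((k : ℤ) + 1)⁆ = ⁅v, a⁆ * (a * ⁅v, a ^ (k : ℤ)⁆ * a⁻¹) := by
          rw [zpow_add_one]
          simp only [commutatorElement_def]
          have : (a ^ (k : ℤ) * a) = a * a ^ (k : ℤ) := ((Commute.refl a).zpow_left k).eq
          rw [this]; group
        rw [h1]
        exact R.mul_mem (hmemR v hv) (hconj _ (ih v hv))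
      | pred k ih =>
        intro v hv
        have h0 : ⁅v, a⁻¹⁆ = a⁻¹ * (⁅v, a⁆)⁻¹ * a := by
          simp only [commutatorElement_def]; group
        have h1 : ⁅v, a ^ (-(k : ℤ) - 1)⁆ = ⁅v, a⁻¹⁆ * (a⁻¹ * ⁅v, a ^ (-(k : ℤ))⁆ * a) := by
          rw [zpow_sub_one]
          simp only [commutatorElement_def]
          have : (a ^ (-(k : ℤ)) * a⁻¹) = a⁻¹ * a ^ (-(k : ℤ)) :=
            ((Commute.refl a).inv_right.zpow_left (-(k : ℤ))).eq
          rw [this]; group
        rw [h1, h0]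
        exact R.mul_mem (hconj' _ (R.inv_mem (hmemR v hv))) (hconj' _ (ih v hv))
    rw [Subgroup.commutator_le]
    intro v hv b hb
    obtain ⟨k, rfl⟩ := Subgroup.mem_zpowers_iff.mp hb
    exact key k v hv

theorem commHom_ker (V : Subgroup G) (hVc : ∀ x ∈ V, ∀ y ∈ V, x * y = y * x) (a : G)
    (ha : a ∈ Subgroup.normalizer (V : Set G)) :
    (commHom V hVc a ha).ker =
      (V ⊓ Subgroup.centralizer (Subgroup.zpowers a : Set G)).subgroupOf V := by
  ext v
  rw [MonoidHom.mem_ker, Subgroup.mem_subgroupOf, Subgroup.mem_inf]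
  constructor
  · intro h
    have h1 : ⁅(v : G), a⁆ = 1 := by
      have := congrArg Subtype.val h
      simpa [commHom_coe] using this
    rw [commutatorElement_eq_one_iff_mul_comm] at h1
    refine ⟨v.2, ?_⟩
    rw [Subgroup.mem_centralizer_iff]
    intro b hb
    obtain ⟨k, rfl⟩ := Subgroup.mem_zpowers_iff.mp hb
    have hc : Commute (v : G) a := h1
    exact (hc.zpow_right k).symm.eq
  · rintro ⟨-, h2⟩
    apply Subtype.ext
    rw [commHom_coe, Subgroup.coe_one, commutatorElement_eq_one_iff_mul_comm]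
    rw [Subgroup.mem_centralizer_iff] at h2
    exact (h2 a (Subgroup.mem_zpowers a)).symm

theorem card_commutator_zpowers [Finite G] (V : Subgroup G)
    (hVc : ∀ x ∈ V, ∀ y ∈ V, x * y = y * x) (a : G)
    (ha : a ∈ Subgroup.normalizer (V : Set G)) :
    Nat.card ↥(⁅V, Subgroup.zpowers a⁆) *
      Nat.card ↥(V ⊓ Subgroup.centralizer (Subgroup.zpowers a : Set G)) = Nat.card V := by
  have h1 := Subgroup.card_eq_card_quotient_mul_card_subgroup (commHom V hVc a ha).ker
  have h2 : Nat.card (↥V ⧸ (commHom V hVc a ha).ker) = Nat.card (commHom V hVc a ha).range :=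
    Nat.card_congr (QuotientGroup.quotientKerEquivRange (commHom V hVc a ha)).toEquiv
  have h3 : Nat.card ((commHom V hVc a ha).range.map V.subtype) =
      Nat.card (commHom V hVc a ha).range :=
    Subgroup.card_map_of_injective V.subtype_injective
  rw [commHom_range] at h3
  rw [h2, ← h3, commHom_ker, card_subgroupOf_of_le inf_le_left] at h1
  exact h1.symm

end FF




end Cfsg.Agent.Lib.Helper5
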