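import Mathlib
import Cfsg.Agent.Lib.Helper5.FF1
import Cfsg.Agent.Lib.Helper5.Card

set_option autoImplicit false

namespace Cfsg.Agent.Lib.Helper5

open scoped commutatorElement

section FF2

variable {G : Type*} [Group G] {p : ℕ}

theorem mem_sup_of_commute {D M : Subgroup G} (hc : ∀ d ∈ D, ∀ m ∈ M, d * m = m * d) {x : G}
    (hx : x ∈ D ⊔ M) : ∃ d ∈ D, ∃ m ∈ M, x = d * m := by
  have h := MonoidHom.noncommCoprod_range D.subtype M.subtype (fun d m => hc d d.2 m m.2)
  rw [Subgroup.range_subtype, Subgroup.range_subtype] at h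
  rw [← h] at hx
  obtain ⟨⟨d, m⟩, rfl⟩ := hx
  exact ⟨d, d.2, m, m.2, rfl⟩

theorem indep_cons {k : ℕ} (t : Fin k → Subgroup G) (ht : iSupIndep t) (A D : Subgroup G)
    (hAc : ∀ x ∈ A, ∀ y ∈ A, x * y = y * x) (htA : ∀ i, t i ≤ A) (hDA : D ≤ A)
    (hD : Disjoint D (⨆ i, t i)) : iSupIndep (Fin.cons D t : Fin (k + 1) → Subgroup G) := by
  rw [iSupIndep_def]
  intro i
  refine Fin.cases ?_ (fun i' => ?_) i
  · rw [Fin.cons_zero]
    apply hD.mono_right
    apply iSup_le
    intro j
    apply iSup_le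
    intro hj
    obtain ⟨j', rfl⟩ := Fin.exists_succ_eq.mpr hj
    rw [Fin.cons_succ]
    exact le_iSup t j'
  · rw [Fin.cons_succ]
    set M := ⨆ (j' : Fin k) (_ : j' ≠ i'), t j' with hM
    have hle : (⨆ (j : Fin (k + 1)) (_ : j ≠ i'.succ), (Fin.cons D t : Fin (k + 1) → Subgroup G) j)
        ≤ D ⊔ M := by
      apply iSup_le
      intro j
      apply iSup_le
      intro hj
      revert hj
      refine Fin.cases ?_ (fun j' => ?_) j
      · intro _
        rw [Fin.cons_zero]; exact le_sup_left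
      · intro hj
        rw [Fin.cons_succ]
        have hj' : j' ≠ i' := fun h => hj (by rw [h])
        exact le_sup_of_le_right (le_iSup₂_of_le j' hj' le_rfl)
    apply Disjoint.mono_right hle
    have hMA : M ≤ A := iSup₂_le fun j' _ => htA j'
    have hMt : M ≤ ⨆ i, t i := iSup₂_le fun j' _ => le_iSup t j'
    rw [Subgroup.disjoint_def]
    intro x hx1 hx2
    obtain ⟨d, hd, m, hm, rfl⟩ := mem_sup_of_commute
      (fun d hd m hm => hAc d (hDA hd) m (hMA hm)) hx2
    have hd2 : d ∈ ⨆ i, t i := by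
      have : d = (d * m) * m⁻¹ := by group
      rw [this]
      exact Subgroup.mul_mem _ (le_iSup t i' hx1) (Subgroup.inv_mem _ (hMt hm))
    have hd1 : d = 1 := Subgroup.disjoint_def.mp hD hd hd2
    rw [hd1, one_mul] at hx1 ⊢
    exact Subgroup.disjoint_def.mp ((iSupIndep_def.mp ht) i') hx1 hm

theorem iSup_cons {k : ℕ} (t : Fin k → Subgroup G) (D : Subgroup G) :
    (⨆ i, (Fin.cons D t : Fin (k + 1) → Subgroup G) i) = D ⊔ ⨆ i, t i := by
  apply le_antisymm
  · apply iSup_le
    intro i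
    refine Fin.cases ?_ (fun i' => ?_) i
    · rw [Fin.cons_zero]; exact le_sup_left
    · rw [Fin.cons_succ]; exact le_sup_of_le_right (le_iSup t i')
  · apply sup_le
    · have := le_iSup (Fin.cons D t : Fin (k + 1) → Subgroup G) 0
      rwa [Fin.cons_zero] at this
    · apply iSup_le
      intro i'
      have := le_iSup (Fin.cons D t : Fin (k + 1) → Subgroup G) i'.succ
      rwa [Fin.cons_succ] at this

theorem weight_is_offender [Finite G] [Fact p.Prime] {V H : Subgroup G}
    (hV : Cfsg.IsElementaryAbelian p V) (hHV : H ≤ Subgroup.normalizer (V : Set G))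
    (hf : H ⊓ Subgroup.centralizer (V : Set G) = ⊥)
    (hS1 : Subgroup.centralizer (Cfsg.pPrimeCore p ↥H : Set ↥H) ≤ Cfsg.pPrimeCore p ↥H)
    (A B : Subgroup G) (hAH : A ≤ H) (hA : Cfsg.IsBestOffenderOn p V A) (hBA : B ≤ A)
    (hBi : B.relIndex A = p)
    (hw : ¬ (ffK p H ⊓ Subgroup.centralizer (B : Set G) ≤ Subgroup.centralizer (A : Set G))) :
    Cfsg.IsBestOffenderOn p V B := by
  obtain ⟨hAe, hcard⟩ := (bestOffender_iff hV hHV hf hS1 A hAH).mp hA
  have hne := weight_lemma hV hHV hf A B hAH hAe hBA hw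
  have hle : V ⊓ Subgroup.centralizer (A : Set G) ≤ V ⊓ Subgroup.centralizer (B : Set G) :=
    inf_le_inf_left V (Subgroup.centralizer_le hBA)
  have h1 := card_mul_p_le_of_lt (elemAb_isPGroup hV) inf_le_left hle (Ne.symm hne)
  have h2 := Cfsg.Agent.Lib.Helper1.card_mul_relIndex_of_le hBA
  rw [hBi] at h2
  have hBe := elemAb_of_le hBA hAe
  have h3 := no_over_offender hV hHV hf hS1 _ B rfl (hBA.trans hAH) hBe
  have h4 : Nat.card B * Nat.card ↥(V ⊓ Subgroup.centralizer (B : Set G)) = Nat.card V := by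
    apply le_antisymm h3
    calc Nat.card V = Nat.card B * (Nat.card ↥(V ⊓ Subgroup.centralizer (A : Set G)) * p) := by
          rw [← hcard, ← h2]; ring
      _ ≤ Nat.card B * Nat.card ↥(V ⊓ Subgroup.centralizer (B : Set G)) :=
          Nat.mul_le_mul_left _ h1
  exact (bestOffender_iff hV hHV hf hS1 B (hBA.trans hAH)).mpr ⟨hBe, h4⟩

theorem exists_decomp [Finite G] [Fact p.Prime] {V H : Subgroup G}
    (hV : Cfsg.IsElementaryAbelian p V) (hHV : H ≤ Subgroup.normalizer (V : Set G))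
    (hf : H ⊓ Subgroup.centralizer (V : Set G) = ⊥)
    (hS1 : Subgroup.centralizer (Cfsg.pPrimeCore p ↥H : Set ↥H) ≤ Cfsg.pPrimeCore p ↥H) :
    ∀ (n : ℕ) (A : Subgroup G), Nat.card A = n → A ≤ H → Cfsg.IsBestOffenderOn p V A →
      ∃ (k : ℕ) (B : Fin k → Subgroup G), (∀ i, B i ≤ A ∧ Cfsg.IsBestOffenderOn p V (B i) ∧
        ⁅V, B i⁆ ≠ ⊥ ∧ ∀ C : Subgroup G, C ≤ B i → Cfsg.IsBestOffenderOn p V C → ⁅V, C⁆ ≠ ⊥ →
          C = B i) ∧ iSupIndep B ∧ ⨆ i, B i = A := by
  have hp : p.Prime := Fact.out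
  intro n
  induction n using Nat.strong_induction_on with
  | _ n ih =>
    intro A hcardA hAH hA
    by_cases hAb : A = ⊥
    · refine ⟨0, fun i => i.elim0, fun i => i.elim0, iSupIndep_subsingleton _, ?_⟩
      rw [hAb, iSup_of_empty]
    · obtain ⟨hAe, hcard⟩ := (bestOffender_iff hV hHV hf hS1 A hAH).mp hA
      have hAc : ∀ x ∈ A, ∀ y ∈ A, x * y = y * x := fun x hx y hy =>
        congrArg Subtype.val (hAe.1.is_comm.comm ⟨x, hx⟩ ⟨y, hy⟩)
      obtain ⟨⟨a, haA⟩, ha1'⟩ := (Subgroup.ne_bot_iff_exists_ne_one.mp hAb)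
      have ha1 : a ≠ 1 := fun h => ha1' (Subtype.ext h)
      obtain ⟨B₁, hB₁A, hB₁i, -, hw₁⟩ := exists_weight hS1 A hAH hAe a haA ha1
      have hB₁bo := weight_is_offender hV hHV hf hS1 A B₁ hAH hA hB₁A hB₁i hw₁
      have hcardB₁ := Cfsg.Agent.Lib.Helper1.card_mul_relIndex_of_le hB₁A
      rw [hB₁i] at hcardB₁
      have hB₁ne : ¬ A ≤ B₁ := by
        intro h
        have : B₁.relIndex A = 1 := Subgroup.relIndex_eq_one.mpr h
        rw [hB₁i] at this
        exact hp.one_lt.ne' this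
      -- choose D
      let S : Set (Subgroup G) := {D | D ≤ A ∧ Cfsg.IsBestOffenderOn p V D ∧ ¬ D ≤ B₁}
      have hSfin : S.Finite := Set.toFinite S
      have hSne : S.Nonempty := ⟨A, le_rfl, hA, hB₁ne⟩
      obtain ⟨D, ⟨hDA, hDbo, hDB₁⟩, hDmin⟩ := Set.exists_min_image S (fun D => Nat.card D) hSfin hSne
      have hDe : Cfsg.IsElementaryAbelian p D := elemAb_of_le hDA hAe
      have hDH : D ≤ H := hDA.trans hAH
      have hDne : D ≠ ⊥ := by
        intro h; apply hDB₁; rw [h]; exact bot_le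
      have hdisj : D ⊓ B₁ = ⊥ := by
        by_contra hne
        obtain ⟨⟨d, hd⟩, hd1'⟩ := (Subgroup.ne_bot_iff_exists_ne_one.mp hne)
        have hd1 : d ≠ 1 := fun h => hd1' (Subtype.ext h)
        obtain ⟨D', hD'D, hD'i, hdD', hw'⟩ := exists_weight hS1 D hDH hDe d hd.1 hd1
        have hD'bo := weight_is_offender hV hHV hf hS1 D D' hDH hDbo hD'D hD'i hw'
        have hcardD' := Cfsg.Agent.Lib.Helper1.card_mul_relIndex_of_le hD'D
        rw [hD'i] at hcardD'
        have hD'B₁ : D' ≤ B₁ := by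
          by_contra hcon
          have := hDmin D' ⟨hD'D.trans hDA, hD'bo, hcon⟩
          have hpos : 0 < Nat.card D' := Nat.card_pos
          have h2 := hp.two_le
          have this' : Nat.card D ≤ Nat.card D' := this
          nlinarith
        have hle : D' ≤ D ⊓ B₁ := le_inf hD'D hD'B₁
        have hlt : D ⊓ B₁ ≠ D := by
          intro h
          apply hDB₁
          rw [← h]; exact inf_le_right
        have h3 := card_mul_p_le_of_lt (elemAb_isPGroup hDe) le_rfl inf_le_left hlt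
        have heq : D' = D ⊓ B₁ := by
          apply Subgroup.eq_of_le_of_card_ge hle
          have hpp := hp.pos
          nlinarith
        apply hdD'
        rw [heq]; exact hd
      have h5 := card_mul_card_le_sup_mul_inf B₁ D
      rw [inf_comm, hdisj, Subgroup.card_bot, mul_one] at h5
      have hsupA : B₁ ⊔ D ≤ A := sup_le hB₁A hDA
      have h6 : Nat.card ↥(B₁ ⊔ D) ≤ Nat.card A := Subgroup.card_le_of_le hsupA
      have hB₁pos : 0 < Nat.card B₁ := Nat.card_pos
      have hDcard_le : Nat.card D ≤ p := by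
        have : Nat.card B₁ * Nat.card D ≤ Nat.card B₁ * p := by
          rw [hcardB₁]; exact h5.trans h6
        exact Nat.le_of_mul_le_mul_left this hB₁pos
      have hDcard : Nat.card D = p := by
        apply card_eq_p_of_lt_sq (elemAb_isPGroup hDe) hDne
        calc Nat.card D ≤ p := hDcard_le
          _ = p ^ 1 := (pow_one p).symm
          _ < p ^ 2 := Nat.pow_lt_pow_right hp.one_lt (by norm_num)
      have hsup : D ⊔ B₁ = A := by
        rw [sup_comm]
        apply Subgroup.eq_of_le_of_card_ge hsupA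
        rw [← hcardB₁, ← hDcard]
        exact h5
      have hB₁lt : Nat.card B₁ < n := by
        rw [← hcardA, ← hcardB₁]
        have h2 := hp.two_le
        nlinarith
      obtain ⟨k, t, ht, hind, hsupt⟩ := ih (Nat.card B₁) hB₁lt B₁ rfl (hB₁A.trans hAH) hB₁bo
      refine ⟨k + 1, Fin.cons D t, ?_, ?_, ?_⟩
      · intro i
        refine Fin.cases ?_ (fun i' => ?_) i
        · rw [Fin.cons_zero]
          refine ⟨hDA, hDbo, commutator_ne_bot_of_ne_bot hf hDH hDne, ?_⟩
          intro C hCD hCbo hCV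
          have hCne : C ≠ ⊥ := ne_bot_of_commutator_ne_bot hCV
          apply Subgroup.eq_of_le_of_card_ge hCD
          rw [hDcard]
          have hdvd : Nat.card C ∣ p := by
            rw [← hDcard]; exact Subgroup.card_dvd_of_le hCD
          rcases (Nat.dvd_prime hp).mp hdvd with h | h
          · exact absurd (Subgroup.card_eq_one.mp h) hCne
          · exact h.ge
        · rw [Fin.cons_succ]
          obtain ⟨h1, h2, h3, h4⟩ := ht i'
          exact ⟨h1.trans hB₁A, h2, h3, h4⟩
      · apply indep_cons t hind A D hAc (fun i => (ht i).1.trans hB₁A) hDA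
        rw [hsupt, disjoint_iff]
        exact hdisj
      · rw [iSup_cons, hsupt]
        exact hsup

end FF2


end Cfsg.Agent.Lib.Helper5
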