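import Mathlib
import Cfsg.Agent.Lib.Helper5.Card
import Cfsg.Agent.Lib.Helper5.ElemAb

set_option autoImplicit false

namespace Cfsg.Agent.Lib.Helper5

open scoped commutatorElement

variable {G : Type*} [Group G]

theorem h5r_conj_fixed {V A : Subgroup G} {c a : G}
    (hc : c ∈ V ⊓ Subgroup.centralizer (A : Set G)) (ha : a ∈ A) : a * c * a⁻¹ = c := by
  have h1 := (Subgroup.mem_centralizer_iff.mp (Subgroup.mem_inf.mp hc).2) a ha
  rw [h1, mul_inv_cancel_right]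

theorem h5r_comm_mul (u a b : G) :
    u * (a * b) * u⁻¹ * (a * b)⁻¹ = (u * a * u⁻¹ * a⁻¹) * (a * (u * b * u⁻¹ * b⁻¹) * a⁻¹) := by
  group

theorem h5r_comm_inv (u a : G) :
    u * a⁻¹ * u⁻¹ * (a⁻¹)⁻¹ = a⁻¹ * (u * a * u⁻¹ * a⁻¹)⁻¹ * (a⁻¹)⁻¹ := by
  group

def h5rAu (V A : Subgroup G) (u : G) : Subgroup G where
  carrier := {a | a ∈ A ∧ u * a * u⁻¹ * a⁻¹ ∈ V ⊓ Subgroup.centralizer (A : Set G)}
  one_mem' := by
    refine ⟨A.one_mem, ?_⟩
    have : u * 1 * u⁻¹ * (1 : G)⁻¹ = 1 := by group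
    rw [this]; exact Subgroup.one_mem _
  mul_mem' := by
    rintro a b ⟨ha, hca⟩ ⟨hb, hcb⟩
    refine ⟨A.mul_mem ha hb, ?_⟩
    rw [h5r_comm_mul, h5r_conj_fixed hcb ha]
    exact Subgroup.mul_mem _ hca hcb
  inv_mem' := by
    rintro a ⟨ha, hca⟩
    refine ⟨A.inv_mem ha, ?_⟩
    rw [h5r_comm_inv, h5r_conj_fixed (Subgroup.inv_mem _ hca) (A.inv_mem ha)]
    exact Subgroup.inv_mem _ hca

theorem h5r_mem_Au {V A : Subgroup G} {u a : G} :
    a ∈ h5rAu V A u ↔ a ∈ A ∧ u * a * u⁻¹ * a⁻¹ ∈ V ⊓ Subgroup.centralizer (A : Set G) :=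
  Iff.rfl

theorem h5r_Au_le (V A : Subgroup G) (u : G) : h5rAu V A u ≤ A := fun _ h => h.1

theorem h5r_comm_mem_V {V A : Subgroup G}
    (hAV : ∀ a ∈ A, ∀ v ∈ V, a * v * a⁻¹ ∈ V) {u a : G} (hu : u ∈ V) (ha : a ∈ A) :
    u * a * u⁻¹ * a⁻¹ ∈ V := by
  have e : u * a * u⁻¹ * a⁻¹ = u * (a * u⁻¹ * a⁻¹) := by group
  rw [e]
  exact V.mul_mem hu (hAV a ha _ (V.inv_mem hu))

theorem h5r_Au_centralizes {V A : Subgroup G}
    (hVc : ∀ v ∈ V, ∀ w ∈ V, v * w = w * v)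
    (hAV : ∀ a ∈ A, ∀ v ∈ V, a * v * a⁻¹ ∈ V)
    (hAab : ∀ a ∈ A, ∀ b ∈ A, ∀ v ∈ V, a * b * v * b⁻¹ * a⁻¹ = b * a * v * a⁻¹ * b⁻¹)
    {u c a : G} (hu : u ∈ V) (hc : c ∈ h5rAu V A u) (ha : a ∈ A) :
    c * (u * a * u⁻¹ * a⁻¹) = (u * a * u⁻¹ * a⁻¹) * c := by
  obtain ⟨hcA, hz⟩ := hc
  set z := u * c * u⁻¹ * c⁻¹ with hzdef
  have hzV : z ∈ V := (Subgroup.mem_inf.mp hz).1
  have h1 : c * u⁻¹ * c⁻¹ = u⁻¹ * z := by rw [hzdef]; group
  have h2 : c * u * c⁻¹ = z⁻¹ * u := by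
    have : c * u * c⁻¹ = (c * u⁻¹ * c⁻¹)⁻¹ := by group
    rw [this, h1]; group
  have h3 : c * a * u⁻¹ * a⁻¹ * c⁻¹ = a * c * u⁻¹ * c⁻¹ * a⁻¹ :=
    hAab c hcA a ha u⁻¹ (V.inv_mem hu)
  have h4 : a * z * a⁻¹ = z := h5r_conj_fixed hz ha
  have h5 : c * (u * a * u⁻¹ * a⁻¹) * c⁻¹ = z⁻¹ * (u * a * u⁻¹ * a⁻¹) * z := by
    calc c * (u * a * u⁻¹ * a⁻¹) * c⁻¹ = (c * u * c⁻¹) * (c * a * u⁻¹ * a⁻¹ * c⁻¹) := by group
      _ = (z⁻¹ * u) * (a * c * u⁻¹ * c⁻¹ * a⁻¹) := by rw [h2, h3]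
      _ = (z⁻¹ * u) * (a * (c * u⁻¹ * c⁻¹) * a⁻¹) := by group
      _ = (z⁻¹ * u) * (a * (u⁻¹ * z) * a⁻¹) := by rw [h1]
      _ = (z⁻¹ * u) * ((a * u⁻¹ * a⁻¹) * (a * z * a⁻¹)) := by group
      _ = (z⁻¹ * u) * ((a * u⁻¹ * a⁻¹) * z) := by rw [h4]
      _ = z⁻¹ * (u * a * u⁻¹ * a⁻¹) * z := by group
  have h6 : z⁻¹ * (u * a * u⁻¹ * a⁻¹) * z = u * a * u⁻¹ * a⁻¹ := by
    have h7 := hVc z⁻¹ (V.inv_mem hzV) _ (h5r_comm_mem_V hAV hu ha)
    rw [h7, inv_mul_cancel_right]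
  rw [h6] at h5
  have e : c * (u * a * u⁻¹ * a⁻¹) = (c * (u * a * u⁻¹ * a⁻¹) * c⁻¹) * c := by group
  rw [e, h5]

theorem h5r_coset_iff {V A : Subgroup G} {u a b : G} (ha : a ∈ A) (hb : b ∈ A) :
    (u * a * u⁻¹ * a⁻¹)⁻¹ * (u * b * u⁻¹ * b⁻¹) ∈ V ⊓ Subgroup.centralizer (A : Set G) ↔
      a⁻¹ * b ∈ h5rAu V A u := by
  have e : (u * a * u⁻¹ * a⁻¹)⁻¹ * (u * b * u⁻¹ * b⁻¹) =
      a * (u * (a⁻¹ * b) * u⁻¹ * (a⁻¹ * b)⁻¹) * a⁻¹ := by group
  rw [e, h5r_mem_Au]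
  constructor
  · intro h
    refine ⟨A.mul_mem (A.inv_mem ha) hb, ?_⟩
    have h1 := h5r_conj_fixed h (A.inv_mem ha)
    have h2 : a⁻¹ * (a * (u * (a⁻¹ * b) * u⁻¹ * (a⁻¹ * b)⁻¹) * a⁻¹) * (a⁻¹)⁻¹ =
        u * (a⁻¹ * b) * u⁻¹ * (a⁻¹ * b)⁻¹ := by group
    rw [h2] at h1
    rw [h1]; exact h
  · rintro ⟨_, h⟩
    rw [h5r_conj_fixed h ha]
    exact h

def h5rWu (A : Subgroup G) (u : G) : Subgroup G :=
  Subgroup.closure {g | ∃ a ∈ A, g = u * a * u⁻¹ * a⁻¹}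

theorem h5r_index_bound [Finite G] (V A : Subgroup G) (u : G) :
    Nat.card A * Nat.card ↥(V ⊓ Subgroup.centralizer (A : Set G)) ≤
      Nat.card (h5rAu V A u) *
        Nat.card ↥(h5rWu A u ⊔ (V ⊓ Subgroup.centralizer (A : Set G))) := by
  set C := V ⊓ Subgroup.centralizer (A : Set G) with hC
  set WC := h5rWu A u ⊔ C with hWC
  set Au' : Subgroup ↥A := (h5rAu V A u).subgroupOf A with hAu'
  set C' : Subgroup ↥WC := C.subgroupOf WC with hC'
  have hf : ∀ a : ↥A, u * (a : G) * u⁻¹ * (a : G)⁻¹ ∈ WC := by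
    intro a
    apply Subgroup.mem_sup_left
    exact Subgroup.subset_closure ⟨a, a.2, rfl⟩
  let f : ↥A → ↥WC := fun a => ⟨u * (a : G) * u⁻¹ * (a : G)⁻¹, hf a⟩
  have hrel : ∀ a b : ↥A, a⁻¹ * b ∈ Au' ↔ (f a)⁻¹ * f b ∈ C' := by
    intro a b
    rw [hAu', hC', Subgroup.mem_subgroupOf, Subgroup.mem_subgroupOf]
    have := h5r_coset_iff (V := V) (A := A) (u := u) a.2 b.2
    simp only [f, Subgroup.coe_mul, Subgroup.coe_inv]
    exact this.symm
  let φ : ↥A ⧸ Au' → ↥WC ⧸ C' :=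
    Quotient.lift (s := QuotientGroup.leftRel Au') (fun a => (QuotientGroup.mk (f a) : ↥WC ⧸ C'))
      (fun a b hab => by
        apply QuotientGroup.eq.mpr
        exact (hrel a b).mp (QuotientGroup.leftRel_apply.mp hab))
  have hφ : Function.Injective φ := by
    intro x y
    refine Quotient.inductionOn₂' x y ?_
    intro a b hab
    have hab' : (QuotientGroup.mk (f a) : ↥WC ⧸ C') = QuotientGroup.mk (f b) := hab
    have h1 := (hrel a b).mpr (QuotientGroup.eq.mp hab')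
    exact QuotientGroup.eq.mpr h1
  have hcard : Nat.card (↥A ⧸ Au') ≤ Nat.card (↥WC ⧸ C') := Nat.card_le_card_of_injective φ hφ
  have h1 : Nat.card ↥A = Nat.card (↥A ⧸ Au') * Nat.card Au' :=
    Subgroup.card_eq_card_quotient_mul_card_subgroup Au'
  have h2 : Nat.card ↥WC = Nat.card (↥WC ⧸ C') * Nat.card C' :=
    Subgroup.card_eq_card_quotient_mul_card_subgroup C'
  have h3 : Nat.card Au' = Nat.card (h5rAu V A u) := card_subgroupOf_of_le (h5r_Au_le V A u)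
  have h4 : Nat.card C' = Nat.card C := card_subgroupOf_of_le le_sup_right
  rw [h1, h2, h3, h4]
  calc Nat.card (↥A ⧸ Au') * Nat.card (h5rAu V A u) * Nat.card C
      ≤ Nat.card (↥WC ⧸ C') * Nat.card (h5rAu V A u) * Nat.card C :=
        Nat.mul_le_mul_right _ (Nat.mul_le_mul_right _ hcard)
    _ = Nat.card (h5rAu V A u) * (Nat.card (↥WC ⧸ C') * Nat.card C) := by ring

theorem h5r_Wu_sup_le {V A : Subgroup G}
    (hVc : ∀ v ∈ V, ∀ w ∈ V, v * w = w * v)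
    (hAV : ∀ a ∈ A, ∀ v ∈ V, a * v * a⁻¹ ∈ V)
    (hAab : ∀ a ∈ A, ∀ b ∈ A, ∀ v ∈ V, a * b * v * b⁻¹ * a⁻¹ = b * a * v * a⁻¹ * b⁻¹)
    {u : G} (hu : u ∈ V) :
    h5rWu A u ⊔ (V ⊓ Subgroup.centralizer (A : Set G)) ≤
      V ⊓ Subgroup.centralizer (h5rAu V A u : Set G) := by
  apply sup_le
  · apply le_inf
    · unfold h5rWu
      rw [Subgroup.closure_le]
      rintro _ ⟨a, ha, rfl⟩
      exact h5r_comm_mem_V hAV hu ha
    · unfold h5rWu
      rw [Subgroup.closure_le]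
      rintro _ ⟨a, ha, rfl⟩
      rw [SetLike.mem_coe, Subgroup.mem_centralizer_iff]
      intro c hc
      exact h5r_Au_centralizes hVc hAV hAab hu hc ha
  · exact inf_le_inf_left V (Subgroup.centralizer_le (h5r_Au_le V A u))

theorem h5r_Au_max [Finite G] {V A : Subgroup G}
    (hVc : ∀ v ∈ V, ∀ w ∈ V, v * w = w * v)
    (hAV : ∀ a ∈ A, ∀ v ∈ V, a * v * a⁻¹ ∈ V)
    (hAab : ∀ a ∈ A, ∀ b ∈ A, ∀ v ∈ V, a * b * v * b⁻¹ * a⁻¹ = b * a * v * a⁻¹ * b⁻¹)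
    (hmax : ∀ B : Subgroup G, B ≤ A →
      Nat.card B * Nat.card ↥(V ⊓ Subgroup.centralizer (B : Set G)) ≤
        Nat.card A * Nat.card ↥(V ⊓ Subgroup.centralizer (A : Set G)))
    {u : G} (hu : u ∈ V) :
    Nat.card (h5rAu V A u) * Nat.card ↥(V ⊓ Subgroup.centralizer (h5rAu V A u : Set G)) =
        Nat.card A * Nat.card ↥(V ⊓ Subgroup.centralizer (A : Set G)) ∧
      V ⊓ Subgroup.centralizer (h5rAu V A u : Set G) =
        h5rWu A u ⊔ (V ⊓ Subgroup.centralizer (A : Set G)) := by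
  have h1 := h5r_index_bound V A u
  have h2 := h5r_Wu_sup_le hVc hAV hAab hu
  have h3 := hmax (h5rAu V A u) (h5r_Au_le V A u)
  have h4 : Nat.card ↥(h5rWu A u ⊔ (V ⊓ Subgroup.centralizer (A : Set G))) ≤
      Nat.card ↥(V ⊓ Subgroup.centralizer (h5rAu V A u : Set G)) := Subgroup.card_le_of_le h2
  have h5 : Nat.card (h5rAu V A u) * Nat.card ↥(h5rWu A u ⊔ (V ⊓ Subgroup.centralizer (A : Set G))) ≤
      Nat.card (h5rAu V A u) * Nat.card ↥(V ⊓ Subgroup.centralizer (h5rAu V A u : Set G)) :=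
    Nat.mul_le_mul_left _ h4
  have h6 : Nat.card (h5rAu V A u) * Nat.card ↥(V ⊓ Subgroup.centralizer (h5rAu V A u : Set G)) =
      Nat.card A * Nat.card ↥(V ⊓ Subgroup.centralizer (A : Set G)) :=
    le_antisymm h3 (le_trans h1 h5)
  refine ⟨h6, ?_⟩
  symm
  apply Subgroup.eq_of_le_of_card_ge h2
  have h7 : Nat.card (h5rAu V A u) * Nat.card ↥(V ⊓ Subgroup.centralizer (h5rAu V A u : Set G)) ≤
      Nat.card (h5rAu V A u) * Nat.card ↥(h5rWu A u ⊔ (V ⊓ Subgroup.centralizer (A : Set G))) := by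
    rw [h6]; exact h1
  exact Nat.le_of_mul_le_mul_left h7 Nat.card_pos

theorem h5r_CV_inf_le (V B D : Subgroup G) :
    (V ⊓ Subgroup.centralizer (B : Set G)) ⊓ (V ⊓ Subgroup.centralizer (D : Set G)) ≤
      V ⊓ Subgroup.centralizer ((B ⊔ D : Subgroup G) : Set G) := by
  intro x hx
  obtain ⟨h1, h2⟩ := Subgroup.mem_inf.mp hx
  obtain ⟨hxV, hxB⟩ := Subgroup.mem_inf.mp h1
  obtain ⟨_, hxD⟩ := Subgroup.mem_inf.mp h2
  refine Subgroup.mem_inf.mpr ⟨hxV, ?_⟩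
  have hB : B ≤ Subgroup.centralizer ({x} : Set G) := by
    intro y hy
    rw [Subgroup.mem_centralizer_iff]
    intro h hh
    rw [Set.mem_singleton_iff] at hh
    rw [hh]
    exact ((Subgroup.mem_centralizer_iff.mp hxB) y hy).symm
  have hD : D ≤ Subgroup.centralizer ({x} : Set G) := by
    intro y hy
    rw [Subgroup.mem_centralizer_iff]
    intro h hh
    rw [Set.mem_singleton_iff] at hh
    rw [hh]
    exact ((Subgroup.mem_centralizer_iff.mp hxD) y hy).symm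
  rw [Subgroup.mem_centralizer_iff]
  intro y hy
  have := (sup_le hB hD) hy
  rw [Subgroup.mem_centralizer_iff] at this
  exact (this x rfl).symm

theorem h5r_inf_max [Finite G] {V A B D : Subgroup G} (hB : B ≤ A) (hD : D ≤ A)
    (hmax : ∀ B : Subgroup G, B ≤ A →
      Nat.card B * Nat.card ↥(V ⊓ Subgroup.centralizer (B : Set G)) ≤
        Nat.card A * Nat.card ↥(V ⊓ Subgroup.centralizer (A : Set G)))
    (hmB : Nat.card B * Nat.card ↥(V ⊓ Subgroup.centralizer (B : Set G)) =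
      Nat.card A * Nat.card ↥(V ⊓ Subgroup.centralizer (A : Set G)))
    (hmD : Nat.card D * Nat.card ↥(V ⊓ Subgroup.centralizer (D : Set G)) =
      Nat.card A * Nat.card ↥(V ⊓ Subgroup.centralizer (A : Set G))) :
    Nat.card ↥(B ⊓ D) * Nat.card ↥(V ⊓ Subgroup.centralizer ((B ⊓ D : Subgroup G) : Set G)) =
        Nat.card A * Nat.card ↥(V ⊓ Subgroup.centralizer (A : Set G)) ∧
      V ⊓ Subgroup.centralizer ((B ⊓ D : Subgroup G) : Set G) =
        (V ⊓ Subgroup.centralizer (B : Set G)) ⊔ (V ⊓ Subgroup.centralizer (D : Set G)) := by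
  set μ := Nat.card A * Nat.card ↥(V ⊓ Subgroup.centralizer (A : Set G)) with hμ
  have hμpos : 0 < μ := Nat.mul_pos Nat.card_pos Nat.card_pos
  set x := Nat.card ↥(B ⊓ D) with hx
  set y := Nat.card ↥((V ⊓ Subgroup.centralizer (B : Set G)) ⊔ (V ⊓ Subgroup.centralizer (D : Set G)))
    with hy
  set y' := Nat.card ↥(V ⊓ Subgroup.centralizer ((B ⊓ D : Subgroup G) : Set G)) with hy'
  have hxpos : 0 < x := Nat.card_pos
  have i1 := card_mul_card_le_sup_mul_inf B D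
  have i2 := card_mul_card_le_sup_mul_inf (V ⊓ Subgroup.centralizer (B : Set G))
    (V ⊓ Subgroup.centralizer (D : Set G))
  have i2' : Nat.card ↥((V ⊓ Subgroup.centralizer (B : Set G)) ⊓ (V ⊓ Subgroup.centralizer (D : Set G))) ≤
      Nat.card ↥(V ⊓ Subgroup.centralizer ((B ⊔ D : Subgroup G) : Set G)) :=
    Subgroup.card_le_of_le (h5r_CV_inf_le V B D)
  have i3 := hmax (B ⊔ D) (sup_le hB hD)
  have i4 : (V ⊓ Subgroup.centralizer (B : Set G)) ⊔ (V ⊓ Subgroup.centralizer (D : Set G)) ≤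
      V ⊓ Subgroup.centralizer ((B ⊓ D : Subgroup G) : Set G) :=
    sup_le (inf_le_inf_left V (Subgroup.centralizer_le inf_le_left))
      (inf_le_inf_left V (Subgroup.centralizer_le inf_le_right))
  have i4' : y ≤ y' := Subgroup.card_le_of_le i4
  have i5 := hmax (B ⊓ D) (le_trans inf_le_left hB)
  have c1 : μ * μ ≤ μ * (x * y) := by
    calc μ * μ = (Nat.card B * Nat.card D) * (Nat.card ↥(V ⊓ Subgroup.centralizer (B : Set G)) *
          Nat.card ↥(V ⊓ Subgroup.centralizer (D : Set G))) := by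
          have e0 : μ * μ = (Nat.card B * Nat.card ↥(V ⊓ Subgroup.centralizer (B : Set G))) *
              (Nat.card D * Nat.card ↥(V ⊓ Subgroup.centralizer (D : Set G))) := by
            rw [hmB, hmD]
          rw [e0]; ring
      _ ≤ (Nat.card ↥(B ⊔ D) * x) * (y * Nat.card ↥((V ⊓ Subgroup.centralizer (B : Set G)) ⊓
            (V ⊓ Subgroup.centralizer (D : Set G)))) := Nat.mul_le_mul i1 i2
      _ ≤ (Nat.card ↥(B ⊔ D) * x) * (y * Nat.card ↥(V ⊓ Subgroup.centralizer ((B ⊔ D : Subgroup G) : Set G))) :=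
          Nat.mul_le_mul_left _ (Nat.mul_le_mul_left _ i2')
      _ = (Nat.card ↥(B ⊔ D) * Nat.card ↥(V ⊓ Subgroup.centralizer ((B ⊔ D : Subgroup G) : Set G))) *
            (x * y) := by ring
      _ ≤ μ * (x * y) := Nat.mul_le_mul_right _ i3
  have c2 : μ * (x * y) ≤ μ * (x * y') :=
    Nat.mul_le_mul_left _ (Nat.mul_le_mul_left _ i4')
  have c3 : μ * (x * y') ≤ μ * μ := Nat.mul_le_mul_left _ i5
  have e1 : x * y' = μ := by
    have : μ * (x * y') = μ * μ := le_antisymm c3 (le_trans c1 c2)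
    exact Nat.eq_of_mul_eq_mul_left hμpos this
  have e2 : x * y = μ := by
    have : μ * (x * y) = μ * μ := le_antisymm (le_trans c2 c3) c1
    exact Nat.eq_of_mul_eq_mul_left hμpos this
  refine ⟨e1, ?_⟩
  symm
  apply Subgroup.eq_of_le_of_card_ge i4
  have : x * y' = x * y := by rw [e1, e2]
  exact (Nat.eq_of_mul_eq_mul_left hxpos this).le

def h5rWs (A : Subgroup G) (s : Finset G) : Subgroup G :=
  Subgroup.closure {g | ∃ u ∈ s, ∃ a ∈ A, g = u * a * u⁻¹ * a⁻¹}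

def h5rBs (V A : Subgroup G) (s : Finset G) : Subgroup G :=
  A ⊓ ⨅ u ∈ s, h5rAu V A u

theorem h5r_Ws_insert [DecidableEq G] (A : Subgroup G) (u₀ : G) (s : Finset G) :
    h5rWs A (insert u₀ s) = h5rWu A u₀ ⊔ h5rWs A s := by
  unfold h5rWs h5rWu
  rw [← Subgroup.closure_union]
  congr 1
  ext g
  simp only [Finset.mem_insert, Set.mem_ofPred_eq, Set.mem_union]
  constructor
  · rintro ⟨u, hu | hu, a, ha, rfl⟩
    · left; rw [hu]; exact ⟨a, ha, rfl⟩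
    · right; exact ⟨u, hu, a, ha, rfl⟩
  · rintro (⟨a, ha, rfl⟩ | ⟨u, hu, a, ha, rfl⟩)
    · exact ⟨u₀, Or.inl rfl, a, ha, rfl⟩
    · exact ⟨u, Or.inr hu, a, ha, rfl⟩

theorem h5r_Bs_insert [DecidableEq G] (V A : Subgroup G) (u₀ : G) (s : Finset G) :
    h5rBs V A (insert u₀ s) = h5rAu V A u₀ ⊓ h5rBs V A s := by
  unfold h5rBs
  rw [Finset.iInf_insert]
  rw [← inf_assoc, ← inf_assoc]
  congr 1
  rw [inf_comm]

theorem h5r_Bs_max [Finite G] {V A : Subgroup G}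
    (hVc : ∀ v ∈ V, ∀ w ∈ V, v * w = w * v)
    (hAV : ∀ a ∈ A, ∀ v ∈ V, a * v * a⁻¹ ∈ V)
    (hAab : ∀ a ∈ A, ∀ b ∈ A, ∀ v ∈ V, a * b * v * b⁻¹ * a⁻¹ = b * a * v * a⁻¹ * b⁻¹)
    (hmax : ∀ B : Subgroup G, B ≤ A →
      Nat.card B * Nat.card ↥(V ⊓ Subgroup.centralizer (B : Set G)) ≤
        Nat.card A * Nat.card ↥(V ⊓ Subgroup.centralizer (A : Set G)))
    (s : Finset G) (hs : ∀ u ∈ s, u ∈ V) :
    Nat.card (h5rBs V A s) * Nat.card ↥(V ⊓ Subgroup.centralizer (h5rBs V A s : Set G)) =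
        Nat.card A * Nat.card ↥(V ⊓ Subgroup.centralizer (A : Set G)) ∧
      V ⊓ Subgroup.centralizer (h5rBs V A s : Set G) =
        h5rWs A s ⊔ (V ⊓ Subgroup.centralizer (A : Set G)) := by
  classical
  induction s using Finset.induction_on with
  | empty =>
    have h1 : h5rBs V A ∅ = A := by
      unfold h5rBs
      simp
    have h2 : h5rWs A ∅ = ⊥ := by
      unfold h5rWs
      simp
    rw [h1, h2, bot_sup_eq]
    exact ⟨rfl, rfl⟩
  | insert u₀ s hu₀ ih =>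
    have hs' : ∀ u ∈ s, u ∈ V := fun u hu => hs u (Finset.mem_insert_of_mem hu)
    have hu₀V : u₀ ∈ V := hs u₀ (Finset.mem_insert_self u₀ s)
    obtain ⟨ih1, ih2⟩ := ih hs'
    obtain ⟨h1, h2⟩ := h5r_Au_max hVc hAV hAab hmax hu₀V
    have hBsA : h5rBs V A s ≤ A := inf_le_left
    obtain ⟨h3, h4⟩ := h5r_inf_max (h5r_Au_le V A u₀) hBsA hmax h1 ih1
    rw [h5r_Bs_insert, h5r_Ws_insert]
    refine ⟨h3, ?_⟩
    rw [h4, h2, ih2]
    apply le_antisymm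
    · apply sup_le
      · apply sup_le
        · exact le_trans le_sup_left le_sup_left
        · exact le_sup_right
      · apply sup_le
        · exact le_trans le_sup_right le_sup_left
        · exact le_sup_right
    · apply sup_le
      · apply sup_le
        · exact le_trans le_sup_left le_sup_left
        · exact le_trans le_sup_left le_sup_right
      · exact le_trans le_sup_right le_sup_left

theorem h5r_core [Finite G] {V A U : Subgroup G}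
    (hVc : ∀ v ∈ V, ∀ w ∈ V, v * w = w * v)
    (hAV : ∀ a ∈ A, ∀ v ∈ V, a * v * a⁻¹ ∈ V)
    (hAab : ∀ a ∈ A, ∀ b ∈ A, ∀ v ∈ V, a * b * v * b⁻¹ * a⁻¹ = b * a * v * a⁻¹ * b⁻¹)
    (hmax : ∀ B : Subgroup G, B ≤ A →
      Nat.card B * Nat.card ↥(V ⊓ Subgroup.centralizer (B : Set G)) ≤
        Nat.card A * Nat.card ↥(V ⊓ Subgroup.centralizer (A : Set G)))
    (hU : U ≤ V) :
    Nat.card ↥(A ⊓ Subgroup.centralizer ((⁅U, A⁆ : Subgroup G) : Set G)) *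
        Nat.card ↥(V ⊓ Subgroup.centralizer
          ((A ⊓ Subgroup.centralizer ((⁅U, A⁆ : Subgroup G) : Set G) : Subgroup G) : Set G)) =
        Nat.card A * Nat.card ↥(V ⊓ Subgroup.centralizer (A : Set G)) ∧
      V ⊓ Subgroup.centralizer
          ((A ⊓ Subgroup.centralizer ((⁅U, A⁆ : Subgroup G) : Set G) : Subgroup G) : Set G) =
        ⁅U, A⁆ ⊔ (V ⊓ Subgroup.centralizer (A : Set G)) := by
  classical
  set s : Finset G := (Set.toFinite (U : Set G)).toFinset with hs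
  have hsU : ∀ u, u ∈ s ↔ u ∈ U := by
    intro u
    rw [hs, Set.Finite.mem_toFinset]; rfl
  have hsV : ∀ u ∈ s, u ∈ V := fun u hu => hU ((hsU u).mp hu)
  have hW : h5rWs A s = ⁅U, A⁆ := by
    unfold h5rWs
    rw [Subgroup.commutator_def]
    congr 1
    ext g
    simp only [Set.mem_ofPred_eq, hsU, commutatorElement_def]
    constructor
    · rintro ⟨u, hu, a, ha, rfl⟩
      exact ⟨u, hu, a, ha, rfl⟩
    · rintro ⟨u, hu, a, ha, rfl⟩
      exact ⟨u, hu, a, ha, rfl⟩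
  have hB : h5rBs V A s = A ⊓ Subgroup.centralizer ((⁅U, A⁆ : Subgroup G) : Set G) := by
    apply le_antisymm
    · intro c hc
      unfold h5rBs at hc
      obtain ⟨hcA, hc2⟩ := Subgroup.mem_inf.mp hc
      refine Subgroup.mem_inf.mpr ⟨hcA, ?_⟩
      have hcu : ∀ u ∈ U, c ∈ h5rAu V A u := by
        intro u hu
        rw [Subgroup.mem_iInf] at hc2
        have := hc2 u
        rw [Subgroup.mem_iInf] at this
        exact this ((hsU u).mpr hu)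
      have hle : ⁅U, A⁆ ≤ Subgroup.centralizer ({c} : Set G) := by
        rw [Subgroup.commutator_def, Subgroup.closure_le]
        rintro _ ⟨u, hu, a, ha, rfl⟩
        rw [SetLike.mem_coe, Subgroup.mem_centralizer_iff]
        intro h hh
        rw [Set.mem_singleton_iff] at hh
        rw [hh, commutatorElement_def]
        exact h5r_Au_centralizes hVc hAV hAab (hU hu) (hcu u hu) ha
      rw [Subgroup.mem_centralizer_iff]
      intro w hw
      have := hle hw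
      rw [Subgroup.mem_centralizer_iff] at this
      exact (this c rfl).symm
    · intro c hc
      obtain ⟨hcA, hc2⟩ := Subgroup.mem_inf.mp hc
      unfold h5rBs
      refine Subgroup.mem_inf.mpr ⟨hcA, ?_⟩
      rw [Subgroup.mem_iInf]
      intro u
      rw [Subgroup.mem_iInf]
      intro hu
      have huU : u ∈ U := (hsU u).mp hu
      have huV : u ∈ V := hU huU
      rw [h5r_mem_Au]
      refine ⟨hcA, Subgroup.mem_inf.mpr ⟨h5r_comm_mem_V hAV huV hcA, ?_⟩⟩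
      rw [Subgroup.mem_centralizer_iff]
      intro a ha
      set x := a * u * a⁻¹ * u⁻¹ with hx
      have hxW : x ∈ ⁅U, A⁆ := by
        have h1 : ⁅u, a⁆ ∈ ⁅U, A⁆ := Subgroup.commutator_mem_commutator huU ha
        have h2 : x = ⁅u, a⁆⁻¹ := by rw [hx, commutatorElement_def]; group
        rw [h2]; exact Subgroup.inv_mem _ h1
      have hxV : x ∈ V := by
        have h2 : x = (u * a * u⁻¹ * a⁻¹)⁻¹ := by rw [hx]; group
        rw [h2]; exact V.inv_mem (h5r_comm_mem_V hAV huV ha)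
      have hcx : c * x⁻¹ * c⁻¹ = x⁻¹ := by
        have h1 := (Subgroup.mem_centralizer_iff.mp hc2) x⁻¹ (Subgroup.inv_mem _ hxW)
        rw [← h1, mul_inv_cancel_right]
      have h1 : a * u * a⁻¹ = x * u := by rw [hx]; group
      have h2 : a * u⁻¹ * a⁻¹ = u⁻¹ * x⁻¹ := by rw [hx]; group
      have h3 : a * c * u⁻¹ * c⁻¹ * a⁻¹ = c * a * u⁻¹ * a⁻¹ * c⁻¹ :=
        hAab a ha c hcA u⁻¹ (V.inv_mem huV)
      have h4 : a * (u * c * u⁻¹ * c⁻¹) * a⁻¹ = x * (u * c * u⁻¹ * c⁻¹) * x⁻¹ := by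
        calc a * (u * c * u⁻¹ * c⁻¹) * a⁻¹ = (a * u * a⁻¹) * (a * c * u⁻¹ * c⁻¹ * a⁻¹) := by group
          _ = (x * u) * (c * a * u⁻¹ * a⁻¹ * c⁻¹) := by rw [h1, h3]
          _ = (x * u) * (c * (a * u⁻¹ * a⁻¹) * c⁻¹) := by group
          _ = (x * u) * (c * (u⁻¹ * x⁻¹) * c⁻¹) := by rw [h2]
          _ = (x * u) * ((c * u⁻¹ * c⁻¹) * (c * x⁻¹ * c⁻¹)) := by group
          _ = (x * u) * ((c * u⁻¹ * c⁻¹) * x⁻¹) := by rw [hcx]
          _ = x * (u * c * u⁻¹ * c⁻¹) * x⁻¹ := by group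
      have h5 : x * (u * c * u⁻¹ * c⁻¹) * x⁻¹ = u * c * u⁻¹ * c⁻¹ := by
        rw [hVc x hxV _ (h5r_comm_mem_V hAV huV hcA), mul_inv_cancel_right]
      rw [h5] at h4
      have e : a * (u * c * u⁻¹ * c⁻¹) = (a * (u * c * u⁻¹ * c⁻¹) * a⁻¹) * a := by group
      rw [e, h4]
  have := h5r_Bs_max hVc hAV hAab hmax s hsV
  rw [hB, hW] at this
  exact this

end Cfsg.Agent.Lib.Helper5
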