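import Mathlib
import Cfsg.Agent.Lib.Helper5.Replace
import Cfsg.Agent.Lib.Helper5.ElemAb
import Cfsg.Agent.Lib.Helper5.Card
import Cfsg.Agent.Lib.Helper1.Residual
import Cfsg.Agent.Lib.Lead.Coprime

set_option autoImplicit false

namespace Cfsg.Agent.Lib.Helper5

open scoped commutatorElement Pointwise

variable {G : Type*} [Group G]

theorem h5r_comm_le_of_sup {V A W : Subgroup G}
    (hVc : ∀ v ∈ V, ∀ w ∈ V, v * w = w * v) (hWV : W ≤ V)
    (hsup : V ≤ W ⊔ (V ⊓ Subgroup.centralizer (A : Set G))) :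
    ⁅V, A⁆ ≤ ⁅W, A⁆ := by
  have hWC : W ≤ Subgroup.normalizer
      ((V ⊓ Subgroup.centralizer (A : Set G) : Subgroup G) : Set G) := by
    refine le_trans ?_ (Subgroup.centralizer_le_normalizer _)
    intro w hw
    rw [Subgroup.mem_centralizer_iff]
    intro c hc
    exact hVc c (Subgroup.mem_inf.mp hc).1 w (hWV hw)
  rw [Subgroup.commutator_le]
  intro v hv a ha
  have hv' : v ∈ ((W ⊔ (V ⊓ Subgroup.centralizer (A : Set G)) : Subgroup G) : Set G) := hsup hv
  rw [Subgroup.coe_mul_of_left_le_normalizer_right _ _ hWC] at hv'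
  obtain ⟨w, hw, c, hc, hwc⟩ := Set.mem_mul.mp hv'
  have hwc' : w * c = v := hwc
  have hca : a * c = c * a :=
    (Subgroup.mem_centralizer_iff.mp (Subgroup.mem_inf.mp hc).2) a ha
  have h1 : c * a * c⁻¹ = a := by rw [← hca]; group
  have h2 : ⁅v, a⁆ = ⁅w, a⁆ := by
    rw [← hwc', commutatorElement_def, commutatorElement_def]
    calc w * c * a * (w * c)⁻¹ * a⁻¹ = w * (c * a * c⁻¹) * w⁻¹ * a⁻¹ := by group
      _ = w * a * w⁻¹ * a⁻¹ := by rw [h1]
  rw [h2]
  exact Subgroup.commutator_mem_commutator hw ha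

theorem h5r_card_sup_abelian {V W C : Subgroup G}
    (hVc : ∀ v ∈ V, ∀ w ∈ V, v * w = w * v) (hWV : W ≤ V) (hCV : C ≤ V) :
    Nat.card (W ⊔ C : Subgroup G) * Nat.card (W ⊓ C : Subgroup G) =
      Nat.card W * Nat.card C := by
  have hWC : W ≤ Subgroup.normalizer (C : Set G) := by
    refine le_trans ?_ (Subgroup.centralizer_le_normalizer _)
    intro w hw
    rw [Subgroup.mem_centralizer_iff]
    intro c hc
    exact hVc c (hCV hc) w (hWV hw)
  have h1 := card_mul_set_mul_card_inf W C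
  have h2 : Nat.card (W ⊔ C : Subgroup G) = Nat.card ((W : Set G) * (C : Set G) : Set G) := by
    rw [← Subgroup.coe_mul_of_left_le_normalizer_right W C hWC]
    rfl
  rw [h2]
  exact h1

theorem h5r_not_le_comm [Finite G] {p : ℕ} [Fact p.Prime] {V A W : Subgroup G}
    (hV : Cfsg.IsElementaryAbelian p V) (hAV : A ≤ Subgroup.normalizer (V : Set G))
    (hpow : ∀ a ∈ A, a ^ p ∈ Subgroup.centralizer (V : Set G))
    (hWV : W ≤ V) (hAW : A ≤ Subgroup.normalizer (W : Set G)) (hW : W ≠ ⊥) :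
    ¬ W ≤ ⁅W, A⁆ := by
  intro hle
  have hVc : ∀ v ∈ V, ∀ w ∈ V, v * w = w * v := by
    intro v hv w hw
    have := hV.1
    have h1 : (⟨v, hv⟩ : V) * ⟨w, hw⟩ = ⟨w, hw⟩ * ⟨v, hv⟩ := mul_comm' _ _
    exact congrArg Subtype.val h1
  have hVp : IsPGroup p V := elemAb_isPGroup hV
  obtain ⟨P⟩ : Nonempty (Sylow p A) := inferInstance
  have hP'A : (P : Subgroup A).map A.subtype ≤ A := Subgroup.map_subtype_le _
  have hP'p : IsPGroup p ((P : Subgroup A).map A.subtype) := P.2.map A.subtype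
  have hΓp : IsPGroup p (V ⊔ (P : Subgroup A).map A.subtype : Subgroup G) :=
    IsPGroup.to_sup_of_normal_left' hVp hP'p (le_trans hP'A hAV)
  have hnil : Group.IsNilpotent (V ⊔ (P : Subgroup A).map A.subtype : Subgroup G) :=
    hΓp.isNilpotent
  have hWΓ : W ≤ V ⊔ (P : Subgroup A).map A.subtype := le_trans hWV le_sup_left
  have hVW : V ≤ Subgroup.normalizer (W : Set G) := by
    refine le_trans ?_ (Subgroup.centralizer_le_normalizer _)
    intro v hv
    rw [Subgroup.mem_centralizer_iff]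
    intro w hw
    exact hVc w (hWV hw) v hv
  have hΓW : V ⊔ (P : Subgroup A).map A.subtype ≤ Subgroup.normalizer (W : Set G) :=
    sup_le hVW (le_trans hP'A hAW)
  have hlt := Cfsg.Agent.Lib.Lead.commutator_lt_of_nilpotent W
    (V ⊔ (P : Subgroup A).map A.subtype) hWΓ hΓW hnil hW
  have hT : Cfsg.pResidual p A ≤ (Subgroup.centralizer (V : Set G)).subgroupOf A := by
    unfold Cfsg.pResidual
    rw [Subgroup.closure_le]
    intro g hg
    change Nat.Coprime (orderOf g) p at hg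
    obtain ⟨m, hm⟩ := exists_pow_eq_self_of_coprime hg.symm
    rw [SetLike.mem_coe, Subgroup.mem_subgroupOf]
    have h1 : ((g ^ p : A) : G) ∈ Subgroup.centralizer (V : Set G) := by
      rw [Subgroup.coe_pow]
      exact hpow _ g.2
    have h2 : (((g ^ p) ^ m : A) : G) ∈ Subgroup.centralizer (V : Set G) := by
      rw [Subgroup.coe_pow]
      exact Subgroup.pow_mem _ h1 m
    rwa [hm] at h2
  have hcomm : ⁅W, A⁆ ≤ ⁅W, (P : Subgroup A).map A.subtype⁆ := by
    rw [Subgroup.commutator_le]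
    intro w hw a ha
    have hnorm := Cfsg.Agent.Lib.Helper1.pResidual_normal (G := A) p
    have htop := Cfsg.Agent.Lib.Helper1.sylow_sup_pResidual P
    have hmem : (⟨a, ha⟩ : A) ∈ (((P : Subgroup A) ⊔ Cfsg.pResidual p A : Subgroup A) : Set A) := by
      rw [htop]; trivial
    rw [Subgroup.mul_normal] at hmem
    obtain ⟨x, hx, t, ht, hxt⟩ := Set.mem_mul.mp hmem
    have hxt' : x * t = ⟨a, ha⟩ := hxt
    have hxt'' : (x : G) * (t : G) = a := by
      have := congrArg Subtype.val hxt'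
      simpa using this
    have htC : (t : G) ∈ Subgroup.centralizer (V : Set G) := by
      have := hT ht
      rwa [Subgroup.mem_subgroupOf] at this
    have htw : (t : G) * w⁻¹ = w⁻¹ * (t : G) :=
      ((Subgroup.mem_centralizer_iff.mp htC) w⁻¹ (V.inv_mem (hWV hw))).symm
    have h3 : (t : G) * w⁻¹ * (t : G)⁻¹ = w⁻¹ := by rw [htw]; group
    have h2 : ⁅w, a⁆ = ⁅w, (x : G)⁆ := by
      rw [← hxt'', commutatorElement_def, commutatorElement_def]
      calc w * ((x : G) * (t : G)) * w⁻¹ * ((x : G) * (t : G))⁻¹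
          = w * (x : G) * ((t : G) * w⁻¹ * (t : G)⁻¹) * (x : G)⁻¹ := by group
        _ = w * (x : G) * w⁻¹ * (x : G)⁻¹ := by rw [h3]
    rw [h2]
    refine Subgroup.commutator_mem_commutator hw ?_
    exact Subgroup.mem_map_of_mem _ hx
  exact absurd (le_trans hle (le_trans hcomm (Subgroup.commutator_mono le_rfl le_sup_right)))
    (not_le_of_gt hlt)

end Cfsg.Agent.Lib.Helper5
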