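import Mathlib
import Cfsg.Agent.Lib.Helper5.FF2
import Cfsg.Agent.S0599
import Cfsg.Agent.Lib.Lead.Coprime

set_option autoImplicit false

namespace Cfsg.Agent.Lib.Helper5

open scoped commutatorElement Pointwise

section FF3

variable {G : Type*} [Group G] {p : ℕ}

structure MinOff (p : ℕ) (V H A : Subgroup G) : Prop where
  hV : Cfsg.IsElementaryAbelian p V
  hHV : H ≤ Subgroup.normalizer (V : Set G)
  hf : H ⊓ Subgroup.centralizer (V : Set G) = ⊥
  hS1 : Subgroup.centralizer (Cfsg.pPrimeCore p ↥H : Set ↥H) ≤ Cfsg.pPrimeCore p ↥H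
  hAH : A ≤ H
  hA : Cfsg.IsBestOffenderOn p V A
  hAV : ⁅V, A⁆ ≠ ⊥
  hmin : ∀ B : Subgroup G, B ≤ A → Cfsg.IsBestOffenderOn p V B → ⁅V, B⁆ ≠ ⊥ → B = A

theorem conj_mem_centralizer_iff (y : G) (S : Subgroup G) (g : G) :
    y * g * y⁻¹ ∈ Subgroup.centralizer ((S.map (MulAut.conj y).toMonoidHom : Subgroup G) : Set G) ↔
      g ∈ Subgroup.centralizer (S : Set G) := by
  rw [Subgroup.mem_centralizer_iff, Subgroup.mem_centralizer_iff]
  constructor
  · intro h s hs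
    have h1 := h (y * s * y⁻¹) ⟨s, hs, rfl⟩
    have h2 : y * (s * g) * y⁻¹ = y * (g * s) * y⁻¹ := by
      calc y * (s * g) * y⁻¹ = (y * s * y⁻¹) * (y * g * y⁻¹) := by group
        _ = (y * g * y⁻¹) * (y * s * y⁻¹) := h1
        _ = y * (g * s) * y⁻¹ := by group
    exact mul_left_cancel (mul_right_cancel h2)
  · rintro h _ ⟨s, hs, rfl⟩
    have h1 := h s hs
    show (y * s * y⁻¹) * (y * g * y⁻¹) = (y * g * y⁻¹) * (y * s * y⁻¹)
    calc (y * s * y⁻¹) * (y * g * y⁻¹) = y * (s * g) * y⁻¹ := by group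
      _ = y * (g * s) * y⁻¹ := by rw [h1]
      _ = (y * g * y⁻¹) * (y * s * y⁻¹) := by group

theorem map_conj_self_of_mem_normalizer {V : Subgroup G} {y : G}
    (hy : y ∈ Subgroup.normalizer (V : Set G)) : V.map (MulAut.conj y).toMonoidHom = V := by
  ext g
  constructor
  · rintro ⟨v, hv, rfl⟩
    exact (Subgroup.mem_normalizer_iff.mp hy v).mp hv
  · intro hg
    refine ⟨y⁻¹ * g * y, (Subgroup.mem_normalizer_iff''.mp hy g).mp hg, ?_⟩
    show y * (y⁻¹ * g * y) * y⁻¹ = g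
    group

theorem map_conj_cent {V : Subgroup G} {y : G} (hy : y ∈ Subgroup.normalizer (V : Set G))
    (S : Subgroup G) :
    (V ⊓ Subgroup.centralizer (S : Set G)).map (MulAut.conj y).toMonoidHom =
      V ⊓ Subgroup.centralizer ((S.map (MulAut.conj y).toMonoidHom : Subgroup G) : Set G) := by
  ext g
  constructor
  · rintro ⟨v, hv, rfl⟩
    refine ⟨(Subgroup.mem_normalizer_iff.mp hy v).mp hv.1, ?_⟩
    exact (conj_mem_centralizer_iff y S v).mpr hv.2
  · rintro ⟨hg1, hg2⟩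
    refine ⟨y⁻¹ * g * y, ⟨(Subgroup.mem_normalizer_iff''.mp hy g).mp hg1, ?_⟩, ?_⟩
    · apply (conj_mem_centralizer_iff y S _).mp
      have : y * (y⁻¹ * g * y) * y⁻¹ = g := by group
      rw [this]; exact hg2
    · show y * (y⁻¹ * g * y) * y⁻¹ = g
      group

theorem card_map_conj [Finite G] (y : G) (S : Subgroup G) :
    Nat.card (S.map (MulAut.conj y).toMonoidHom) = Nat.card S :=
  Subgroup.card_map_of_injective (MulAut.conj y).injective

theorem commutator_map_conj {V : Subgroup G} {y : G} (hy : y ∈ Subgroup.normalizer (V : Set G))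
    (S : Subgroup G) :
    ⁅V, S.map (MulAut.conj y).toMonoidHom⁆ = (⁅V, S⁆).map (MulAut.conj y).toMonoidHom := by
  rw [Subgroup.map_commutator, map_conj_self_of_mem_normalizer hy]

theorem map_conj_inv_map_conj (y : G) (S : Subgroup G) :
    (S.map (MulAut.conj y).toMonoidHom).map (MulAut.conj y⁻¹).toMonoidHom = S := by
  rw [Subgroup.map_map]
  have : (MulAut.conj y⁻¹).toMonoidHom.comp (MulAut.conj y).toMonoidHom = MonoidHom.id G := by
    ext g
    show y⁻¹ * (y * g * y⁻¹) * y⁻¹⁻¹ = g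
    group
  rw [this, Subgroup.map_id]

theorem bestOffender_conj [Finite G] [Fact p.Prime] {V H : Subgroup G}
    (hV : Cfsg.IsElementaryAbelian p V) (hHV : H ≤ Subgroup.normalizer (V : Set G))
    (hf : H ⊓ Subgroup.centralizer (V : Set G) = ⊥)
    (hS1 : Subgroup.centralizer (Cfsg.pPrimeCore p ↥H : Set ↥H) ≤ Cfsg.pPrimeCore p ↥H)
    {A : Subgroup G} (hAH : A ≤ H) (hA : Cfsg.IsBestOffenderOn p V A) {y : G} (hy : y ∈ H) :
    Cfsg.IsBestOffenderOn p V (A.map (MulAut.conj y).toMonoidHom) := by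
  obtain ⟨hAe, hcard⟩ := (bestOffender_iff hV hHV hf hS1 A hAH).mp hA
  have hAyH : A.map (MulAut.conj y).toMonoidHom ≤ H := by
    rintro _ ⟨a, ha, rfl⟩
    exact H.mul_mem (H.mul_mem hy (hAH ha)) (H.inv_mem hy)
  rw [bestOffender_iff hV hHV hf hS1 _ hAyH]
  refine ⟨elemAb_map _ hAe, ?_⟩
  rw [← map_conj_cent (hHV hy), card_map_conj, card_map_conj]
  exact hcard

theorem map_conj_le_of_mem {H A : Subgroup G} (hAH : A ≤ H) {y : G} (hy : y ∈ H) :
    A.map (MulAut.conj y).toMonoidHom ≤ H := by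
  rintro _ ⟨a, ha, rfl⟩
  exact H.mul_mem (H.mul_mem hy (hAH ha)) (H.inv_mem hy)

namespace MinOff

variable [Finite G] [Fact p.Prime] {V H A : Subgroup G}

theorem elemAb (h : MinOff p V H A) : Cfsg.IsElementaryAbelian p A :=
  elemAb_of_bestOffender h.hf h.hAH h.hA

theorem card_eq (h : MinOff p V H A) : Nat.card A = p :=
  min_offender_card h.hV h.hHV h.hf h.hS1 A h.hAH h.hA h.hAV h.hmin

theorem card_cent (h : MinOff p V H A) :
    p * Nat.card ↥(V ⊓ Subgroup.centralizer (A : Set G)) = Nat.card V := by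
  have := ((bestOffender_iff h.hV h.hHV h.hf h.hS1 A h.hAH).mp h.hA).2
  rwa [h.card_eq] at this

theorem ne_bot (h : MinOff p V H A) : A ≠ ⊥ := ne_bot_of_commutator_ne_bot h.hAV

theorem quad (h : MinOff p V H A) : A ≤ Subgroup.centralizer ((⁅V, A⁆ : Subgroup G) : Set G) := by
  obtain ⟨h1, -, h3⟩ := Cfsg.Agent.S0599.result V A h.hV (h.hAH.trans h.hHV) h.hA V le_rfl
  have h4 := h.hmin (A ⊓ Subgroup.centralizer ((⁅V, A⁆ : Subgroup G) : Set G)) inf_le_left h1
    (h3 h.hAV)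
  have h5 : A ⊓ Subgroup.centralizer ((⁅V, A⁆ : Subgroup G) : Set G) ≤
      Subgroup.centralizer ((⁅V, A⁆ : Subgroup G) : Set G) := inf_le_right
  rw [h4] at h5
  exact h5

theorem conj (h : MinOff p V H A) {y : G} (hy : y ∈ H) :
    MinOff p V H (A.map (MulAut.conj y).toMonoidHom) where
  hV := h.hV
  hHV := h.hHV
  hf := h.hf
  hS1 := h.hS1
  hAH := map_conj_le_of_mem h.hAH hy
  hA := bestOffender_conj h.hV h.hHV h.hf h.hS1 h.hAH h.hA hy
  hAV := by
    rw [commutator_map_conj (h.hHV hy)]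
    intro hb
    rw [Subgroup.map_eq_bot_iff_of_injective _ (MulAut.conj y).injective] at hb
    exact h.hAV hb
  hmin := by
    intro B hBA hB hBV
    have hBH : B ≤ H := hBA.trans (map_conj_le_of_mem h.hAH hy)
    have hyinv : y⁻¹ ∈ H := H.inv_mem hy
    have h1 : B.map (MulAut.conj y⁻¹).toMonoidHom ≤ A := by
      have := Subgroup.map_mono (f := (MulAut.conj y⁻¹).toMonoidHom) hBA
      rwa [map_conj_inv_map_conj] at this
    have h2 := bestOffender_conj h.hV h.hHV h.hf h.hS1 hBH hB hyinv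
    have h3 : ⁅V, B.map (MulAut.conj y⁻¹).toMonoidHom⁆ ≠ ⊥ := by
      rw [commutator_map_conj (h.hHV hyinv)]
      intro hb
      rw [Subgroup.map_eq_bot_iff_of_injective _ (MulAut.conj y⁻¹).injective] at hb
      exact hBV hb
    have h4 := h.hmin _ h1 h2 h3
    have h5 := congrArg (Subgroup.map (MulAut.conj y).toMonoidHom) h4
    have h6 := map_conj_inv_map_conj y⁻¹ B
    rw [inv_inv] at h6
    rw [h6] at h5
    exact h5

end MinOff

/-- the subgroup of the normalizer of `V` acting trivially on `V / M` -/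
def stabSub (V M : Subgroup G) : Subgroup G where
  carrier := {e | e ∈ Subgroup.normalizer (V : Set G) ∧ ∀ v ∈ V, ⁅v, e⁆ ∈ M}
  one_mem' := ⟨one_mem _, fun v _ => by simp⟩
  mul_mem' := by
    rintro e f ⟨he1, he2⟩ ⟨hf1, hf2⟩
    refine ⟨mul_mem he1 hf1, fun v hv => ?_⟩
    have h1 : ⁅v, e * f⁆ = ⁅v, e⁆ * (e * ⁅v, f⁆ * e⁻¹) := by
      simp only [commutatorElement_def]; group
    rw [h1]
    apply M.mul_mem (he2 v hv)
    -- e m e⁻¹ ∈ M for m ∈ M ∩ V
    have hm := hf2 v hv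
    have hmV : ⁅v, f⁆ ∈ V := by
      rw [commutatorElement_def]
      have : v * f * v⁻¹ * f⁻¹ = v * (f * v⁻¹ * f⁻¹) := by group
      rw [this]
      exact V.mul_mem hv ((Subgroup.mem_normalizer_iff.mp hf1 _).mp (V.inv_mem hv))
    have h2 : e * ⁅v, f⁆ * e⁻¹ = (⁅⁅v, f⁆, e⁆)⁻¹ * ⁅v, f⁆ := by
      simp only [commutatorElement_def]; group
    rw [h2]
    exact M.mul_mem (M.inv_mem (he2 _ hmV)) hm
  inv_mem' := by
    rintro e ⟨he1, he2⟩
    refine ⟨inv_mem he1, fun v hv => ?_⟩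
    -- ⁅v, e⁻¹⁆ = ⁅e⁻¹ v e, e⁆⁻¹
    have hv' : e⁻¹ * v * e ∈ V := (Subgroup.mem_normalizer_iff''.mp he1 v).mp hv
    have h1 : ⁅v, e⁻¹⁆ = (⁅e⁻¹ * v * e, e⁆)⁻¹ := by
      simp only [commutatorElement_def]; group
    rw [h1]
    exact M.inv_mem (he2 _ hv')

theorem mem_stabSub {V M : Subgroup G} {e : G} :
    e ∈ stabSub V M ↔ e ∈ Subgroup.normalizer (V : Set G) ∧ ∀ v ∈ V, ⁅v, e⁆ ∈ M := Iff.rfl

theorem le_stabSub {V M A : Subgroup G} (hA : A ≤ Subgroup.normalizer (V : Set G))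
    (h : ⁅V, A⁆ ≤ M) : A ≤ stabSub V M := by
  intro a ha
  exact ⟨hA ha, fun v hv => h (Subgroup.commutator_mem_commutator hv ha)⟩

theorem commutator_le_of_le_stabSub {V M E : Subgroup G} (h : E ≤ stabSub V M) : ⁅V, E⁆ ≤ M := by
  rw [Subgroup.commutator_le]
  intro v hv e he
  exact (h he).2 v hv

theorem commutator_sup_le {V M A B : Subgroup G} (hA : A ≤ Subgroup.normalizer (V : Set G))
    (hB : B ≤ Subgroup.normalizer (V : Set G)) (h1 : ⁅V, A⁆ ≤ M) (h2 : ⁅V, B⁆ ≤ M) :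
    ⁅V, A ⊔ B⁆ ≤ M :=
  commutator_le_of_le_stabSub (sup_le (le_stabSub hA h1) (le_stabSub hB h2))

theorem conj_pow_of_comm {e v c : G} (h1 : e * v * e⁻¹ = v * c) (h2 : e * c = c * e) (k : ℕ) :
    e ^ k * v * (e ^ k)⁻¹ = v * c ^ k := by
  induction k with
  | zero => simp
  | succ k ih =>
    have hc : e * c ^ k * e⁻¹ = c ^ k := by
      have : Commute e (c ^ k) := (show Commute e c from h2).pow_right k
      rw [this.eq]; group
    calc e ^ (k + 1) * v * (e ^ (k + 1))⁻¹ = e * (e ^ k * v * (e ^ k)⁻¹) * e⁻¹ := by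
          rw [pow_succ']; group
      _ = e * (v * c ^ k) * e⁻¹ := by rw [ih]
      _ = (e * v * e⁻¹) * (e * c ^ k * e⁻¹) := by group
      _ = v * c * c ^ k := by rw [h1, hc]
      _ = v * c ^ (k + 1) := by rw [pow_succ', mul_assoc]

theorem pow_mem_centralizer_of_stab {V M : Subgroup G} {e : G} (he : e ∈ stabSub V M)
    (hc : e ∈ Subgroup.centralizer (M : Set G)) (k : ℕ) (hk : ∀ m ∈ M, m ^ k = 1) :
    e ^ k ∈ Subgroup.centralizer (V : Set G) := by
  rw [Subgroup.mem_centralizer_iff]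
  intro v hv
  have hv' : v⁻¹ ∈ V := V.inv_mem hv
  have hcM : ⁅v⁻¹, e⁆ ∈ M := he.2 _ hv'
  have h1 : e * v * e⁻¹ = v * ⁅v⁻¹, e⁆ := by
    simp only [commutatorElement_def]; group
  have h2 : e * ⁅v⁻¹, e⁆ = ⁅v⁻¹, e⁆ * e :=
    ((Subgroup.mem_centralizer_iff.mp hc) _ hcM).symm
  have h3 := conj_pow_of_comm h1 h2 k
  rw [hk _ hcM, mul_one] at h3
  calc v * e ^ k = (e ^ k * v * (e ^ k)⁻¹) * e ^ k := by rw [h3]
    _ = e ^ k * v := by group

theorem card_sup_of_le_normalizer (P K : Subgroup G)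
    (h : P ≤ Subgroup.normalizer (K : Set G)) :
    Nat.card ↥(P ⊔ K) * Nat.card ↥(P ⊓ K) = Nat.card P * Nat.card K := by
  have h1 := Subgroup.coe_mul_of_left_le_normalizer_right P K h
  have h2 := card_mul_set_mul_card_inf P K
  rw [← h1] at h2
  exact h2

theorem inf_ffK_eq_bot [Finite G] [Fact p.Prime] {H P : Subgroup G} (hP : IsPGroup p P) :
    P ⊓ ffK p H = ⊥ :=
  eq_bot_of_pgroup_le_coprime (hP.to_inf_left) (ffK_coprime H) inf_le_right

namespace MinOff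

variable [Finite G] [Fact p.Prime] {V H A : Subgroup G}

theorem isPGroup (h : MinOff p V H A) : IsPGroup p A := elemAb_isPGroup h.elemAb

theorem card_sup_ffK (h : MinOff p V H A) : Nat.card ↥(A ⊔ ffK p H) = p * Nat.card (ffK p H) := by
  have h1 := card_sup_of_le_normalizer A (ffK p H) (h.hAH.trans (ffK_normalized H))
  rw [inf_ffK_eq_bot h.isPGroup, Subgroup.card_bot, mul_one, h.card_eq] at h1
  exact h1

theorem card_pgroup_le (h : MinOff p V H A) {P : Subgroup G} (hP : IsPGroup p P)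
    (hPle : P ≤ A ⊔ ffK p H) : Nat.card P ≤ p := by
  have hAKH : A ⊔ ffK p H ≤ H := sup_le h.hAH (ffK_le H)
  have h1 := card_sup_of_le_normalizer P (ffK p H) ((hPle.trans hAKH).trans (ffK_normalized H))
  rw [inf_ffK_eq_bot hP, Subgroup.card_bot, mul_one] at h1
  have h2 : P ⊔ ffK p H ≤ A ⊔ ffK p H := sup_le hPle le_sup_right
  have h3 := Subgroup.card_le_of_le h2
  rw [h1, h.card_sup_ffK] at h3
  exact Nat.le_of_mul_le_mul_right h3 Nat.card_pos

theorem exists_gen (h : MinOff p V H A) : ∃ a ∈ A, a ≠ 1 ∧ Subgroup.zpowers a = A := by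
  have hp : p.Prime := Fact.out
  obtain ⟨⟨a, haA⟩, ha1'⟩ := (Subgroup.ne_bot_iff_exists_ne_one.mp h.ne_bot)
  have ha1 : a ≠ 1 := fun h' => ha1' (Subtype.ext h')
  refine ⟨a, haA, ha1, ?_⟩
  apply Subgroup.eq_of_le_of_card_ge (Subgroup.zpowers_le.mpr haA)
  rw [h.card_eq, Nat.card_zpowers]
  have hd : orderOf a ∣ p := orderOf_dvd_of_pow_eq_one (h.elemAb.2 a haA)
  rcases (Nat.dvd_prime hp).mp hd with h' | h'
  · exact absurd (orderOf_eq_one_iff.mp h') ha1
  · exact h'.ge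

theorem card_comm (h : MinOff p V H A) : Nat.card ↥(⁅V, A⁆) = p := by
  obtain ⟨a, haA, -, hz⟩ := h.exists_gen
  have hVc : ∀ x ∈ V, ∀ y ∈ V, x * y = y * x := fun x hx y hy =>
    congrArg Subtype.val (h.hV.1.is_comm.comm ⟨x, hx⟩ ⟨y, hy⟩)
  have h2 := card_commutator_zpowers V hVc a (h.hHV (h.hAH haA))
  rw [hz, ← h.card_cent] at h2
  exact Nat.eq_of_mul_eq_mul_right Nat.card_pos h2

theorem eq_of_le_of_ne_bot (h : MinOff p V H A) {B : Subgroup G} (hBA : B ≤ A) (hB : B ≠ ⊥) :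
    B = A := by
  have hp : p.Prime := Fact.out
  apply Subgroup.eq_of_le_of_card_ge hBA
  rw [h.card_eq]
  have hdvd : Nat.card B ∣ p := by
    rw [← h.card_eq]; exact Subgroup.card_dvd_of_le hBA
  rcases (Nat.dvd_prime hp).mp hdvd with h' | h'
  · exact absurd (Subgroup.card_eq_one.mp h') hB
  · exact h'.ge

end MinOff

namespace MinOff

variable [Finite G] [Fact p.Prime] {V H A B : Subgroup G}

theorem conj_le_sup (h : MinOff p V H A) {x : G} (hx : x ∈ ffK p H) :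
    A.map (MulAut.conj x).toMonoidHom ≤ A ⊔ ffK p H := by
  rintro _ ⟨a, ha, rfl⟩
  show x * a * x⁻¹ ∈ A ⊔ ffK p H
  have h1 : a * x⁻¹ * a⁻¹ ∈ ffK p H :=
    (Subgroup.mem_normalizer_iff.mp (ffK_normalized H (h.hAH ha)) _).mp (inv_mem hx)
  have h2 : x * a * x⁻¹ = (x * (a * x⁻¹ * a⁻¹)) * a := by group
  rw [h2, sup_comm]
  exact Subgroup.mul_mem_sup (mul_mem hx h1) ha

theorem conj_ne (h : MinOff p V H A) {x : G} (hx : x ∈ ffK p H)
    (hxA : x ∉ Subgroup.centralizer (A : Set G)) : A.map (MulAut.conj x).toMonoidHom ≠ A := by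
  intro heq
  apply hxA
  rw [Subgroup.mem_centralizer_iff]
  intro a ha
  have h1 : x * a * x⁻¹ ∈ A := by
    rw [← heq]; exact ⟨a, ha, rfl⟩
  have h2 : a * x⁻¹ * a⁻¹ ∈ ffK p H :=
    (Subgroup.mem_normalizer_iff.mp (ffK_normalized H (h.hAH ha)) _).mp (inv_mem hx)
  have h3 : x * a * x⁻¹ * a⁻¹ ∈ A ⊓ ffK p H := by
    refine ⟨A.mul_mem h1 (A.inv_mem ha), ?_⟩
    have : x * a * x⁻¹ * a⁻¹ = x * (a * x⁻¹ * a⁻¹) := by group
    rw [this]
    exact mul_mem hx h2
  rw [inf_ffK_eq_bot h.isPGroup, Subgroup.mem_bot] at h3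
  calc a * x = (x * a * x⁻¹ * a⁻¹)⁻¹ * (x * a) := by group
    _ = x * a := by rw [h3]; group

theorem inf_eq_bot_of_ne (hA : MinOff p V H A) (hB : MinOff p V H B) (hne : B ≠ A) :
    A ⊓ B = ⊥ := by
  by_contra hcon
  have h1 := hA.eq_of_le_of_ne_bot inf_le_left hcon
  have h2 := hB.eq_of_le_of_ne_bot inf_le_right hcon
  exact hne (h2.symm.trans h1)

theorem not_isPGroup_sup (hA : MinOff p V H A) (hB : MinOff p V H B)
    (hBA : B ≤ A ⊔ ffK p H) (hne : B ≠ A) : ¬ IsPGroup p ↥(A ⊔ B) := by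
  intro hP
  have h1 := hA.card_pgroup_le hP (sup_le le_sup_left hBA)
  have h2 : A ⊔ B = A := by
    symm
    apply Subgroup.eq_of_le_of_card_ge le_sup_left
    rw [hA.card_eq]; exact h1
  have h3 : B ≤ A := by rw [← h2]; exact le_sup_right
  exact hne (hA.eq_of_le_of_ne_bot h3 hB.ne_bot)

theorem isPGroup_of_stab (hA : MinOff p V H A) {E M : Subgroup G} (hEH : E ≤ H)
    (hMV : M ≤ V) (h1 : E ≤ stabSub V M) (h2 : E ≤ Subgroup.centralizer (M : Set G)) :
    IsPGroup p E := by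
  intro e
  refine ⟨1, ?_⟩
  rw [pow_one]
  apply Subtype.ext
  rw [Subgroup.coe_pow, Subgroup.coe_one]
  have h3 := pow_mem_centralizer_of_stab (h1 e.2) (h2 e.2) p (fun m hm => hA.hV.2 m (hMV hm))
  have h4 : (e : G) ^ p ∈ H ⊓ Subgroup.centralizer (V : Set G) := ⟨H.pow_mem (hEH e.2) p, h3⟩
  rw [hA.hf, Subgroup.mem_bot] at h4
  exact h4

theorem comm_ne (hA : MinOff p V H A) (hB : MinOff p V H B)
    (hBA : B ≤ A ⊔ ffK p H) (hne : B ≠ A) : ⁅V, A⁆ ≠ ⁅V, B⁆ := by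
  intro heq
  apply not_isPGroup_sup hA hB hBA hne
  apply hA.isPGroup_of_stab (M := ⁅V, A⁆) (sup_le hA.hAH hB.hAH)
  · exact Cfsg.Agent.Lib.Lead.commutator_le_left_of_le_normalizer V A (hA.hAH.trans hA.hHV)
  · apply sup_le
    · exact le_stabSub (hA.hAH.trans hA.hHV) le_rfl
    · exact le_stabSub (hB.hAH.trans hB.hHV) (le_of_eq heq.symm)
  · apply sup_le hA.quad
    rw [heq]; exact hB.quad

end MinOff

namespace MinOff

variable [Finite G] [Fact p.Prime] {V H A B : Subgroup G}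

theorem comm_le (hA : MinOff p V H A) : ⁅V, A⁆ ≤ V :=
  Cfsg.Agent.Lib.Lead.commutator_le_left_of_le_normalizer V A (hA.hAH.trans hA.hHV)

theorem comm_sup_eq (hA : MinOff p V H A) (hB : MinOff p V H B) :
    ⁅V, A ⊔ B⁆ = ⁅V, A⁆ ⊔ ⁅V, B⁆ := by
  apply le_antisymm
  · exact commutator_sup_le (hA.hAH.trans hA.hHV) (hB.hAH.trans hB.hHV) le_sup_left le_sup_right
  · exact sup_le (Subgroup.commutator_mono le_rfl le_sup_left)
      (Subgroup.commutator_mono le_rfl le_sup_right)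

theorem comm_inf_eq_bot (hA : MinOff p V H A) (hB : MinOff p V H B)
    (hBA : B ≤ A ⊔ ffK p H) (hne : B ≠ A) : ⁅V, A⁆ ⊓ ⁅V, B⁆ = ⊥ := by
  have hp : p.Prime := Fact.out
  by_contra hcon
  have h1 : Nat.card ↥(⁅V, A⁆ ⊓ ⁅V, B⁆) ∣ p := by
    rw [← hA.card_comm]; exact Subgroup.card_dvd_of_le inf_le_left
  rcases (Nat.dvd_prime hp).mp h1 with h' | h'
  · exact hcon (Subgroup.card_eq_one.mp h')
  · have e1 : ⁅V, A⁆ ⊓ ⁅V, B⁆ = ⁅V, A⁆ :=
      Subgroup.eq_of_le_of_card_ge inf_le_left (by rw [h', hA.card_comm])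
    have e2 : ⁅V, A⁆ ⊓ ⁅V, B⁆ = ⁅V, B⁆ :=
      Subgroup.eq_of_le_of_card_ge inf_le_right (by rw [h', hB.card_comm])
    exact comm_ne hA hB hBA hne (e1.symm.trans e2)

theorem card_comm_sup (hA : MinOff p V H A) (hB : MinOff p V H B)
    (hBA : B ≤ A ⊔ ffK p H) (hne : B ≠ A) : Nat.card ↥(⁅V, A ⊔ B⁆) = p ^ 2 := by
  rw [comm_sup_eq hA hB]
  have hVc : ∀ x ∈ V, ∀ y ∈ V, x * y = y * x := fun x hx y hy =>
    congrArg Subtype.val (hA.hV.1.is_comm.comm ⟨x, hx⟩ ⟨y, hy⟩)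
  have hnorm : ⁅V, A⁆ ≤ Subgroup.normalizer ((⁅V, B⁆ : Subgroup G) : Set G) := by
    intro w hw
    rw [Subgroup.mem_normalizer_iff]
    intro u
    have hwV := hA.comm_le hw
    constructor
    · intro hu
      have : w * u * w⁻¹ = u := by
        rw [hVc w hwV u (hB.comm_le hu)]; group
      rw [this]; exact hu
    · intro hu
      have huV : w * u * w⁻¹ ∈ V := hB.comm_le hu
      have huV' : u ∈ V := by
        have : u = w⁻¹ * (w * u * w⁻¹) * w := by group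
        rw [this]
        exact V.mul_mem (V.mul_mem (V.inv_mem hwV) huV) hwV
      have : w * u * w⁻¹ = u := by
        rw [hVc w hwV u huV']; group
      rw [← this]; exact hu
  have h1 := card_sup_of_le_normalizer _ _ hnorm
  rw [comm_inf_eq_bot hA hB hBA hne, Subgroup.card_bot, mul_one, hA.card_comm, hB.card_comm] at h1
  rw [h1, pow_two]

theorem faithful_on_comm (hA : MinOff p V H A) (hB : MinOff p V H B)
    (hBA : B ≤ A ⊔ ffK p H) (hne : B ≠ A) :
    (A ⊔ B) ⊓ Subgroup.centralizer ((⁅V, A ⊔ B⁆ : Subgroup G) : Set G) = ⊥ := by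
  set E := A ⊔ B with hE
  set N := ⁅V, E⁆ with hN
  set C := E ⊓ Subgroup.centralizer (N : Set G) with hC
  have hEH : E ≤ H := sup_le hA.hAH hB.hAH
  have hEV : E ≤ Subgroup.normalizer (V : Set G) := hEH.trans hA.hHV
  have hEK : E ≤ A ⊔ ffK p H := sup_le le_sup_left hBA
  have hNV : N ≤ V := Cfsg.Agent.Lib.Lead.commutator_le_left_of_le_normalizer V E hEV
  have hEN : E ≤ Subgroup.normalizer (N : Set G) :=
    Cfsg.Agent.Lib.Lead.right_le_normalizer_commutator V E hEV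
  have hCp : IsPGroup p C :=
    hA.isPGroup_of_stab (M := N) (inf_le_left.trans hEH) hNV
      (inf_le_left.trans (le_stabSub hEV le_rfl)) inf_le_right
  have hconj : ∀ e ∈ E, ∀ c ∈ C, e * c * e⁻¹ ∈ C := by
    intro e he c hc
    refine ⟨E.mul_mem (E.mul_mem he hc.1) (E.inv_mem he), ?_⟩
    show e * c * e⁻¹ ∈ Subgroup.centralizer (N : Set G)
    rw [Subgroup.mem_centralizer_iff]
    intro n hn
    have hn' : e⁻¹ * n * e ∈ N := (Subgroup.mem_normalizer_iff''.mp (hEN he) n).mp hn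
    have hc2 : c ∈ Subgroup.centralizer (N : Set G) := hc.2
    have h1 := (Subgroup.mem_centralizer_iff.mp hc2) _ hn'
    calc n * (e * c * e⁻¹) = e * ((e⁻¹ * n * e) * c) * e⁻¹ := by group
      _ = e * (c * (e⁻¹ * n * e)) * e⁻¹ := by rw [h1]
      _ = e * c * e⁻¹ * n := by group
  have hnormC : E ≤ Subgroup.normalizer (C : Set G) := by
    intro e he
    rw [Subgroup.mem_normalizer_iff]
    intro c
    constructor
    · exact hconj e he c
    · intro hc
      have := hconj e⁻¹ (E.inv_mem he) _ hc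
      have h2 : e⁻¹ * (e * c * e⁻¹) * e⁻¹⁻¹ = c := by group
      rw [h2] at this
      exact this
  have key : ∀ D : Subgroup G, MinOff p V H D → D ≤ E → D ≤ A ⊔ ffK p H → C ≤ D := by
    intro D hD hDE hDK
    have hDC : IsPGroup p ↥(D ⊔ C) :=
      IsPGroup.to_sup_of_normal_right' hD.isPGroup hCp (hDE.trans hnormC)
    have h1 := hA.card_pgroup_le hDC (sup_le hDK (inf_le_left.trans hEK))
    have h2 : D ⊔ C = D := by
      symm
      apply Subgroup.eq_of_le_of_card_ge le_sup_left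
      rw [hD.card_eq]; exact h1
    rw [← h2]; exact le_sup_right
  have h1 := key A hA le_sup_left le_sup_left
  have h2 := key B hB le_sup_right hBA
  rw [eq_bot_iff, ← inf_eq_bot_of_ne hA hB hne]
  exact le_inf h1 h2

end MinOff

end FF3






end Cfsg.Agent.Lib.Helper5
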