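import Mathlib

set_option autoImplicit false

namespace Cfsg.Agent.Lib.Helper5

set_option maxRecDepth 1000000 in
set_option maxHeartbeats 4000000 in
theorem gen22 : ∀ g h : Matrix.SpecialLinearGroup (Fin 2) (ZMod 2),
    g ^ 2 = 1 → h ^ 2 = 1 → g * h ≠ h * g →
    ∀ y : Matrix.SpecialLinearGroup (Fin 2) (ZMod 2),
      ∃ a b c : Fin 2, y = g ^ a.val * h ^ b.val * g ^ c.val := by decide

set_option maxRecDepth 1000000 in
set_option maxHeartbeats 4000000 in
theorem gen23 : ∀ g h : Matrix.SpecialLinearGroup (Fin 2) (ZMod 3),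
    g ^ 3 = 1 → h ^ 3 = 1 → g * h ≠ h * g →
    ∀ y : Matrix.SpecialLinearGroup (Fin 2) (ZMod 3),
      ∃ a b c d : Fin 3, y = h ^ a.val * g ^ b.val * h ^ c.val * g ^ d.val := by decide

theorem sl2_surj_of_gens {p : ℕ} (hp : p = 2 ∨ p = 3) {Γ : Type*} [Group Γ]
    (φ : Γ →* Matrix.SpecialLinearGroup (Fin 2) (ZMod p)) (x y : Γ)
    (hx : x ^ p = 1) (hy : y ^ p = 1) (hxy : φ x * φ y ≠ φ y * φ x) :
    Function.Surjective φ := by
  rcases hp with rfl | rfl
  · intro z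
    obtain ⟨a, b, c, h⟩ := gen22 (φ x) (φ y) (by rw [← map_pow, hx, map_one])
      (by rw [← map_pow, hy, map_one]) hxy z
    exact ⟨x ^ a.val * y ^ b.val * x ^ c.val, by rw [h]; simp⟩
  · intro z
    obtain ⟨a, b, c, d, h⟩ := gen23 (φ x) (φ y) (by rw [← map_pow, hx, map_one])
      (by rw [← map_pow, hy, map_one]) hxy z
    exact ⟨y ^ a.val * x ^ b.val * y ^ c.val * x ^ d.val, by rw [h]; simp⟩

end Cfsg.Agent.Lib.Helper5
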