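import Mathlib
import Cfsg.Prelude.Def_PLocal
import Cfsg.Agent.S0623
import Cfsg.Agent.Lib.Helper5.QuadAbs
import Cfsg.Agent.Lib.Helper5.ElemAb
import Cfsg.Agent.Lib.Helper1.Frat
import Cfsg.Agent.Lib.Helper1.Cores

set_option autoImplicit false

namespace Cfsg.Agent.Lib.Helper5

open Cfsg
open scoped commutatorElement

universe u

def AbsPStable (p : ℕ) (Γ : Type u) [Group Γ] : Prop :=
  ∀ (E : Type u) [CommGroup E] [Finite E] [Module (ZMod p) (Additive E)] (α : Γ →* MulAut E),
    Function.Injective α → ∀ x : Γ, QuadA α x → x ∈ Cfsg.pCore p Γ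

theorem absPStable_of_sylow_two_comm {p : ℕ} [Fact p.Prime] (hp : p ≠ 2) (Γ : Type u) [Group Γ]
    [Finite Γ] (h : ∀ T : Sylow 2 Γ, IsMulCommutative T) : AbsPStable p Γ := by
  intro E _ _ _ α hα x hx
  by_contra hxO
  exact abs595 hp α hα x hx hxO default (h default)

theorem quadA_conjNormal {G : Type u} [Group G] (V : Subgroup G) [V.Normal] [CommGroup ↥V]
    (hmul : ∀ a b : ↥V, ((a / b : ↥V) : G) = (a : G) / (b : G)) (a : G)
    (hq : ⁅⁅V, Subgroup.zpowers a⁆, Subgroup.zpowers a⁆ = ⊥) (v : ↥V) :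
    ((MulAut.conjNormal a (MulAut.conjNormal a v / v) : ↥V) : G) =
      ((MulAut.conjNormal a v / v : ↥V) : G) := by
  rw [S0623.quad_iff] at hq
  have h1 := hq v v.2 1
  rw [zpow_one] at h1
  rw [MulAut.conjNormal_apply, hmul, MulAut.conjNormal_apply]
  have h2 : a * (v : G) * a⁻¹ / v = ⁅(v : G), a⁆⁻¹ := by
    rw [commutatorElement_def, div_eq_mul_inv]; group
  rw [h2]
  have h3 : Commute (⁅(v : G), a⁆⁻¹) a := h1.inv_left
  rw [← h3.eq]
  group

theorem pstableOn_of {p : ℕ} [Fact p.Prime] {G : Type u} [Group G] [Finite G] (V : Subgroup G)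
    [V.Normal] (hV : Cfsg.IsElementaryAbelian p V)
    (hΓ : AbsPStable p (G ⧸ Subgroup.centralizer (V : Set G))) : Cfsg.IsPStableOn p V := by
  intro a hq
  obtain ⟨hVc, hVp⟩ := hV
  letI : CommGroup ↥V := { (inferInstance : Group ↥V) with
    mul_comm := fun u v => hVc.is_comm.comm u v }
  have hE : ∀ v : V, v ^ p = 1 := by
    intro v
    apply Subtype.ext
    rw [Subgroup.coe_pow, Subgroup.coe_one]
    exact hVp v v.2
  letI : Module (ZMod p) (Additive ↥V) := AddCommGroup.zmodModule (n := p) (by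
    intro v
    show Additive.ofMul (v.toMul ^ p) = 0
    rw [hE]; rfl)
  have hker : Subgroup.centralizer (V : Set G) ≤ (MulAut.conjNormal (H := V)).ker := by
    intro c hc
    rw [MonoidHom.mem_ker]
    ext v
    rw [MulAut.conjNormal_apply, MulAut.one_apply]
    rw [Subgroup.mem_centralizer_iff] at hc
    rw [← hc v v.2]
    group
  have hinj : Function.Injective
      (QuotientGroup.lift (Subgroup.centralizer (V : Set G)) (MulAut.conjNormal (H := V)) hker) := by
    rw [injective_iff_map_eq_one]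
    intro q hq1
    induction q using QuotientGroup.induction_on with
    | H g =>
      rw [QuotientGroup.lift_mk] at hq1
      rw [QuotientGroup.eq_one_iff, Subgroup.mem_centralizer_iff]
      intro v hv
      have h1 := congrArg (fun f : MulAut ↥V => ((f ⟨v, hv⟩ : V) : G)) hq1
      simp only [MulAut.conjNormal_apply, MulAut.one_apply] at h1
      calc v * g = (g * v * g⁻¹) * g := by rw [h1]
        _ = g * v := by group
  apply hΓ ↥V (QuotientGroup.lift (Subgroup.centralizer (V : Set G)) (MulAut.conjNormal (H := V)) hker)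
    hinj
  intro v
  show QuotientGroup.lift _ _ hker (QuotientGroup.mk a)
    (QuotientGroup.lift _ _ hker (QuotientGroup.mk a) v / v) =
      QuotientGroup.lift _ _ hker (QuotientGroup.mk a) v / v
  rw [QuotientGroup.lift_mk]
  apply Subtype.ext
  exact quadA_conjNormal V (fun a b => rfl) a hq v


theorem relIndex_comap_mk {G : Type u} [Group G] (C : Subgroup G) [C.Normal]
    (Q : Subgroup (G ⧸ C)) : C.relIndex (Q.comap (QuotientGroup.mk' C)) = Nat.card Q := by
  have h := Subgroup.relIndex_comap (⊥ : Subgroup (G ⧸ C)) (QuotientGroup.mk' C)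
    (Q.comap (QuotientGroup.mk' C))
  rw [MonoidHom.comap_bot, QuotientGroup.ker_mk', Subgroup.map_comap_eq_self_of_surjective
      (QuotientGroup.mk'_surjective _), Subgroup.relIndex_bot_left] at h
  exact h

theorem sectionKernel_normal {G : Type u} [Group G] (K N : Subgroup G) [K.Normal] [N.Normal] :
    (Cfsg.sectionKernel K N).Normal := by
  unfold Cfsg.sectionKernel
  haveI : (K.map (QuotientGroup.mk' N)).Normal :=
    Subgroup.Normal.map inferInstance _ (QuotientGroup.mk'_surjective N)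
  infer_instance

theorem pstableOnSection_of {p : ℕ} [Fact p.Prime] {G : Type u} [Group G] [Finite G]
    (K N : Subgroup G) [K.Normal] [N.Normal] [hCn : (Cfsg.sectionKernel K N).Normal]
    (hcomm : ⁅K, K⁆ ≤ N) (hpow : ∀ k ∈ K, k ^ p ∈ N)
    (hΓ : AbsPStable p (G ⧸ Cfsg.sectionKernel K N)) : Cfsg.IsPStableOnSection p K N := by
  intro a hq
  haveI hKbn : (K.map (QuotientGroup.mk' N)).Normal :=
    Subgroup.Normal.map inferInstance _ (QuotientGroup.mk'_surjective N)
  have hKbc : ∀ u v : ↥(K.map (QuotientGroup.mk' N)), u * v = v * u := by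
    rintro ⟨_, ⟨k₁, hk₁, rfl⟩⟩ ⟨_, ⟨k₂, hk₂, rfl⟩⟩
    apply Subtype.ext
    show QuotientGroup.mk' N k₁ * QuotientGroup.mk' N k₂ = QuotientGroup.mk' N k₂ * QuotientGroup.mk' N k₁
    rw [← map_mul, ← map_mul]
    have h1 : ⁅k₁, k₂⁆ ∈ N := hcomm (Subgroup.commutator_mem_commutator hk₁ hk₂)
    have h2 : k₁ * k₂ = ⁅k₁, k₂⁆ * (k₂ * k₁) := by rw [commutatorElement_def]; group
    rw [h2, map_mul]
    have h3 : QuotientGroup.mk' N ⁅k₁, k₂⁆ = 1 := (QuotientGroup.eq_one_iff _).mpr h1
    rw [h3, one_mul]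
  letI : CommGroup ↥(K.map (QuotientGroup.mk' N)) :=
    { (inferInstance : Group ↥(K.map (QuotientGroup.mk' N))) with mul_comm := hKbc }
  have hE : ∀ v : ↥(K.map (QuotientGroup.mk' N)), v ^ p = 1 := by
    rintro ⟨_, ⟨k, hk, rfl⟩⟩
    apply Subtype.ext
    rw [Subgroup.coe_pow, Subgroup.coe_one]
    show (QuotientGroup.mk' N k) ^ p = 1
    rw [← map_pow]
    exact (QuotientGroup.eq_one_iff _).mpr (hpow k hk)
  letI : Module (ZMod p) (Additive ↥(K.map (QuotientGroup.mk' N))) :=
    AddCommGroup.zmodModule (n := p) (by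
      intro v
      show Additive.ofMul (v.toMul ^ p) = 0
      rw [hE]; rfl)
  have hker : Cfsg.sectionKernel K N ≤
      ((MulAut.conjNormal (H := K.map (QuotientGroup.mk' N))).comp (QuotientGroup.mk' N)).ker := by
    intro c hc
    rw [MonoidHom.mem_ker]
    ext v
    rw [MonoidHom.comp_apply, MulAut.conjNormal_apply, MulAut.one_apply]
    have hc' : QuotientGroup.mk' N c ∈
        Subgroup.centralizer ((K.map (QuotientGroup.mk' N) : Subgroup (G ⧸ N)) : Set (G ⧸ N)) := hc
    rw [Subgroup.mem_centralizer_iff] at hc'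
    rw [← hc' v v.2]
    group
  have hinj : Function.Injective (QuotientGroup.lift (Cfsg.sectionKernel K N)
      ((MulAut.conjNormal (H := K.map (QuotientGroup.mk' N))).comp (QuotientGroup.mk' N)) hker) := by
    rw [injective_iff_map_eq_one]
    intro q hq1
    induction q using QuotientGroup.induction_on with
    | H g =>
      rw [QuotientGroup.lift_mk] at hq1
      rw [QuotientGroup.eq_one_iff]
      show QuotientGroup.mk' N g ∈
        Subgroup.centralizer ((K.map (QuotientGroup.mk' N) : Subgroup (G ⧸ N)) : Set (G ⧸ N))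
      rw [Subgroup.mem_centralizer_iff]
      intro v hv
      have h1 := congrArg (fun f : MulAut ↥(K.map (QuotientGroup.mk' N)) =>
        ((f ⟨v, hv⟩ : ↥(K.map (QuotientGroup.mk' N))) : G ⧸ N)) hq1
      simp only [MonoidHom.comp_apply, MulAut.conjNormal_apply, MulAut.one_apply] at h1
      calc v * QuotientGroup.mk' N g
          = (QuotientGroup.mk' N g * v * (QuotientGroup.mk' N g)⁻¹) * QuotientGroup.mk' N g := by
            rw [h1]
        _ = QuotientGroup.mk' N g * v := by group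
  have hq' : ⁅⁅K.map (QuotientGroup.mk' N), Subgroup.zpowers (QuotientGroup.mk' N a)⁆,
      Subgroup.zpowers (QuotientGroup.mk' N a)⁆ = ⊥ := by
    rw [← MonoidHom.map_zpowers, ← Subgroup.map_commutator, ← Subgroup.map_commutator, eq_bot_iff]
    rintro _ ⟨y, hy, rfl⟩
    rw [Subgroup.mem_bot]
    exact (QuotientGroup.eq_one_iff _).mpr (hq hy)
  have hmem : (QuotientGroup.mk a : G ⧸ Cfsg.sectionKernel K N) ∈
      Cfsg.pCore p (G ⧸ Cfsg.sectionKernel K N) := by
    apply hΓ ↥(K.map (QuotientGroup.mk' N)) (QuotientGroup.lift (Cfsg.sectionKernel K N)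
      ((MulAut.conjNormal (H := K.map (QuotientGroup.mk' N))).comp (QuotientGroup.mk' N)) hker) hinj
    intro v
    show QuotientGroup.lift _ _ hker (QuotientGroup.mk a)
      (QuotientGroup.lift _ _ hker (QuotientGroup.mk a) v / v) =
        QuotientGroup.lift _ _ hker (QuotientGroup.mk a) v / v
    rw [QuotientGroup.lift_mk, MonoidHom.comp_apply]
    apply Subtype.ext
    exact quadA_conjNormal (K.map (QuotientGroup.mk' N)) (fun a b => rfl) _ hq' v
  haveI : (Cfsg.pCore p (G ⧸ Cfsg.sectionKernel K N)).Normal :=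
    Cfsg.Agent.Lib.Helper1.pCore_normal p
  refine ⟨(Cfsg.pCore p (G ⧸ Cfsg.sectionKernel K N)).comap
    (QuotientGroup.mk' (Cfsg.sectionKernel K N)), inferInstance, ?_, ?_, hmem⟩
  · intro c hc
    rw [Subgroup.mem_comap]
    have : QuotientGroup.mk' (Cfsg.sectionKernel K N) c = 1 := (QuotientGroup.eq_one_iff _).mpr hc
    rw [this]
    exact Subgroup.one_mem _
  · have hPp : IsPGroup p ↥(Cfsg.pCore p (G ⧸ Cfsg.sectionKernel K N)) :=
      Cfsg.Agent.Lib.Helper1.pCore_isPGroup p
    obtain ⟨k, hk⟩ := hPp.exists_card_eq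
    refine ⟨k, ?_⟩
    rw [relIndex_comap_mk, hk]


theorem isMulCommutative_of_forall {Γ : Type*} [Group Γ] (R : Subgroup Γ)
    (h : ∀ x ∈ R, ∀ y ∈ R, x * y = y * x) : IsMulCommutative R :=
  ⟨⟨fun x y => Subtype.ext (h x x.2 y y.2)⟩⟩

theorem syl2comm_of_surjective {G Q : Type*} [Group G] [Finite G] [Group Q] (f : G →* Q)
    (hf : Function.Surjective f) (h : ∀ T : Sylow 2 G, IsMulCommutative T) :
    ∀ T : Sylow 2 Q, IsMulCommutative T := by
  haveI : Finite Q := Finite.of_surjective f hf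
  intro T
  have h0 : IsMulCommutative ((default : Sylow 2 G).mapSurjective hf : Sylow 2 Q) := by
    apply isMulCommutative_of_forall
    intro x hx y hy
    rw [Sylow.coe_mapSurjective] at hx hy
    obtain ⟨s, hs, rfl⟩ := hx
    obtain ⟨t, ht, rfl⟩ := hy
    have := (h default).is_comm.comm ⟨s, hs⟩ ⟨t, ht⟩
    have h1 : s * t = t * s := congrArg Subtype.val this
    rw [← map_mul, ← map_mul, h1]
  apply isMulCommutative_of_forall
  exact Cfsg.Agent.S0595.commutative_of_sylow_commutative _ h0 _ T.isPGroup'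

theorem syl2comm_subgroup {G : Type*} [Group G] [Finite G] (M : Subgroup G)
    (h : ∀ T : Sylow 2 G, IsMulCommutative T) : ∀ T : Sylow 2 M, IsMulCommutative T := by
  intro T
  by_contra hT
  exact sylow_two_noncomm_of_subgroup M T hT default (h default)

theorem elemAb_omegaOne_of_comm {P : Type*} [Group P] (p : ℕ) (H : Subgroup P)
    (hH : ∀ x ∈ H, ∀ y ∈ H, x * y = y * x) : Cfsg.IsElementaryAbelian p (Cfsg.omegaOne p H) := by
  unfold Cfsg.omegaOne
  apply elemAb_closure
  · intro x hx y hy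
    exact hH x hx.1 y hy.1
  · intro x hx
    exact hx.2

theorem elemAb_omegaCenterThompson (p : ℕ) (P : Type*) [Group P] :
    Cfsg.IsElementaryAbelian p (Cfsg.omegaCenterThompson p P) := by
  unfold Cfsg.omegaCenterThompson
  apply elemAb_omegaOne_of_comm
  intro x hx y hy
  have h1 : x ∈ Subgroup.centralizer (Cfsg.thompsonSubgroup p P : Set P) := hx.2
  rw [Subgroup.mem_centralizer_iff] at h1
  exact (h1 y hy.1).symm

theorem elemAb_of_map_le {G : Type*} [Group G] {p : ℕ} (M : Subgroup G) (V : Subgroup M)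
    (A : Subgroup G) (hA : Cfsg.IsElementaryAbelian p A) (h : V.map M.subtype ≤ A) :
    Cfsg.IsElementaryAbelian p V := by
  obtain ⟨hc, hpw⟩ := hA
  refine ⟨isMulCommutative_of_forall V ?_, ?_⟩
  · intro x hx y hy
    have hx' : (x : G) ∈ A := h ⟨x, hx, rfl⟩
    have hy' : (y : G) ∈ A := h ⟨y, hy, rfl⟩
    have := hc.is_comm.comm ⟨_, hx'⟩ ⟨_, hy'⟩
    apply Subtype.ext
    have h2 : (x : G) * (y : G) = (y : G) * (x : G) := congrArg Subtype.val this
    exact h2
  · intro x hx
    have hx' : (x : G) ∈ A := h ⟨x, hx, rfl⟩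
    apply Subtype.ext
    rw [Subgroup.coe_pow, Subgroup.coe_one]
    exact hpw _ hx'

theorem actionPStable_of {p : ℕ} [Fact p.Prime] {G : Type u} [Group G] [Finite G]
    (hG : ∀ (C : Subgroup G) [C.Normal], AbsPStable p (G ⧸ C))
    (hM : ∀ (M : Subgroup G) (C : Subgroup M) [C.Normal], AbsPStable p (M ⧸ C)) :
    Cfsg.IsActionPStable p G := by
  refine ⟨?_, ?_, ?_⟩
  · intro V _ hV
    exact pstableOn_of V hV (hG _)
  · haveI := sectionKernel_normal (Cfsg.pCore p G)
      ((frattini ↥(Cfsg.pCore p G)).map (Cfsg.pCore p G).subtype)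
    have hKp : IsPGroup p ↥(Cfsg.pCore p G) := Cfsg.Agent.Lib.Helper1.pCore_isPGroup p
    apply pstableOnSection_of _ _ _ _ (hG _)
    · rw [Subgroup.commutator_le]
      intro k₁ hk₁ k₂ hk₂
      have h1 := Cfsg.Agent.Lib.Helper1.pgroup_commutator_le_frattini hKp
      have h2 : ⁅(⟨k₁, hk₁⟩ : ↥(Cfsg.pCore p G)), ⟨k₂, hk₂⟩⁆ ∈ commutator ↥(Cfsg.pCore p G) :=
        Subgroup.commutator_mem_commutator (Subgroup.mem_top _) (Subgroup.mem_top _)
      exact ⟨_, h1 h2, rfl⟩
    · intro k hk
      have h1 := Cfsg.Agent.Lib.Helper1.pgroup_pow_mem_frattini hKp ⟨k, hk⟩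
      exact ⟨_, h1, rfl⟩
  · intro S V _ hV
    have hEA : Cfsg.IsElementaryAbelian p V := by
      apply elemAb_of_map_le _ V _ _ hV
      exact elemAb_map _ (elemAb_omegaCenterThompson p _)
    exact pstableOn_of V hEA (hM _ _)

end Cfsg.Agent.Lib.Helper5
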