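import Mathlib
import Cfsg.Agent.S1902
import Cfsg.Agent.S4034
import Cfsg.Agent.Lib.Helper5.QuadSec
import Cfsg.Agent.Lib.Helper5.PConstrDual
import Cfsg.Agent.Lib.Helper5.PStableAct

set_option autoImplicit false

namespace Cfsg.Agent.Lib.Helper5

open Cfsg

section
universe v
variable {p : ℕ} [Fact p.Prime]

theorem two_gen_sep {Γ₀ : Type v} [Group Γ₀] [Finite Γ₀] (hsep : Cfsg.IsPSolvable p Γ₀)
    (x₀ y₀ : Γ₀) (hgen : Subgroup.closure {x₀, y₀} = (⊤ : Subgroup Γ₀)) (hxp : x₀ ^ p = 1)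
    (hyp : y₀ ^ p = 1) (hnp : ¬ IsPGroup p Γ₀) :
    ¬ IsPGroup p (⁅(Cfsg.pPrimeCore p (Γ₀ ⧸ Cfsg.pCore p Γ₀)).comap
        (QuotientGroup.mk' (Cfsg.pCore p Γ₀)), Subgroup.zpowers x₀⁆ : Subgroup Γ₀) ∨
    ¬ IsPGroup p (⁅(Cfsg.pPrimeCore p (Γ₀ ⧸ Cfsg.pCore p Γ₀)).comap
        (QuotientGroup.mk' (Cfsg.pCore p Γ₀)), Subgroup.zpowers y₀⁆ : Subgroup Γ₀) := by
  have hpp : p.Prime := Fact.out
  by_contra hcon
  push Not at hcon
  obtain ⟨hDx, hDy⟩ := hcon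
  have hsurj := QuotientGroup.mk'_surjective (Cfsg.pCore p Γ₀)
  have hNcop : (Nat.card (Cfsg.pPrimeCore p (Γ₀ ⧸ Cfsg.pCore p Γ₀))).Coprime p :=
    Cfsg.Agent.Lib.Helper1.pPrimeCore_card_coprime p
  have hmapN : ((Cfsg.pPrimeCore p (Γ₀ ⧸ Cfsg.pCore p Γ₀)).comap
      (QuotientGroup.mk' (Cfsg.pCore p Γ₀))).map (QuotientGroup.mk' (Cfsg.pCore p Γ₀)) =
      Cfsg.pPrimeCore p (Γ₀ ⧸ Cfsg.pCore p Γ₀) :=
    Subgroup.map_comap_eq_self_of_surjective hsurj _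
  have hcent : ∀ z : Γ₀, IsPGroup p (⁅(Cfsg.pPrimeCore p (Γ₀ ⧸ Cfsg.pCore p Γ₀)).comap
        (QuotientGroup.mk' (Cfsg.pCore p Γ₀)), Subgroup.zpowers z⁆ : Subgroup Γ₀) →
      QuotientGroup.mk' (Cfsg.pCore p Γ₀) z ∈ Subgroup.centralizer
        ((Cfsg.pPrimeCore p (Γ₀ ⧸ Cfsg.pCore p Γ₀) : Subgroup _) : Set (Γ₀ ⧸ Cfsg.pCore p Γ₀)) := by
    intro z hDz
    have h1 := hDz.map (QuotientGroup.mk' (Cfsg.pCore p Γ₀))
    rw [Subgroup.map_commutator, hmapN, MonoidHom.map_zpowers] at h1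
    have hle : ⁅Cfsg.pPrimeCore p (Γ₀ ⧸ Cfsg.pCore p Γ₀),
        Subgroup.zpowers (QuotientGroup.mk' (Cfsg.pCore p Γ₀) z)⁆ ≤
        Cfsg.pPrimeCore p (Γ₀ ⧸ Cfsg.pCore p Γ₀) := Subgroup.commutator_le_left _ _
    obtain ⟨j, hj⟩ := h1.exists_card_eq
    have hdvd := Subgroup.card_dvd_of_le hle
    rw [hj] at hdvd
    have h2 : p ^ j = 1 := Nat.Coprime.eq_one_of_dvd (Nat.Coprime.pow_left j hNcop.symm) hdvd
    rw [h2] at hj
    have hbot := Subgroup.card_eq_one.mp hj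
    rw [Subgroup.commutator_eq_bot_iff_le_centralizer] at hbot
    rw [Subgroup.mem_centralizer_iff]
    intro n hn
    have h3 := hbot hn
    rw [Subgroup.mem_centralizer_iff] at h3
    exact (h3 _ (Subgroup.mem_zpowers _)).symm
  have hx' := hcent x₀ hDx
  have hy' := hcent y₀ hDy
  have htop : Subgroup.centralizer
      ((Cfsg.pPrimeCore p (Γ₀ ⧸ Cfsg.pCore p Γ₀) : Subgroup _) : Set (Γ₀ ⧸ Cfsg.pCore p Γ₀)) = ⊤ := by
    rw [eq_top_iff, ← Subgroup.map_top_of_surjective _ hsurj, ← hgen, MonoidHom.map_closure,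
      Subgroup.closure_le]
    rintro _ ⟨z, hz, rfl⟩
    rcases hz with rfl | hz
    · exact hx'
    · rw [Set.mem_singleton_iff] at hz
      subst hz
      exact hy'
  have hO : Cfsg.pCore p (Γ₀ ⧸ Cfsg.pCore p Γ₀) = ⊥ :=
    Cfsg.Agent.S4034.pCore_quotient_pCore p (Cfsg.pCore p Γ₀) rfl
  have hsepq : Cfsg.IsPSolvable p (Γ₀ ⧸ Cfsg.pCore p Γ₀) :=
    h5_isPSolvable_of_surjective _ hsurj hsep
  have hHH := h5_centralizer_pPrimeCore_le hsepq hO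
  rw [htop] at hHH
  have hNtop : Cfsg.pPrimeCore p (Γ₀ ⧸ Cfsg.pCore p Γ₀) = ⊤ := eq_top_iff.mpr hHH
  have hqcop : (Nat.card (Γ₀ ⧸ Cfsg.pCore p Γ₀)).Coprime p := by
    rw [← Subgroup.card_top (G := Γ₀ ⧸ Cfsg.pCore p Γ₀), ← hNtop]
    exact hNcop
  have hmem : ∀ z : Γ₀, z ^ p = 1 → z ∈ Cfsg.pCore p Γ₀ := by
    intro z hz
    rw [← QuotientGroup.eq_one_iff]
    have h1 : ((z : Γ₀) : Γ₀ ⧸ Cfsg.pCore p Γ₀) ^ p = 1 := by
      rw [← QuotientGroup.mk_pow, hz]; rfl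
    have h2 : ((z : Γ₀) : Γ₀ ⧸ Cfsg.pCore p Γ₀) ^ Nat.card (Γ₀ ⧸ Cfsg.pCore p Γ₀) = 1 :=
      pow_card_eq_one'
    exact (pow_eq_one_iff_of_coprime hqcop.symm).mp ⟨h1, h2⟩
  have hPtop : (⊤ : Subgroup Γ₀) ≤ Cfsg.pCore p Γ₀ := by
    rw [← hgen, Subgroup.closure_le]
    intro z hz
    rcases hz with rfl | hz
    · exact hmem _ hxp
    · rw [Set.mem_singleton_iff] at hz
      subst hz
      exact hmem _ hyp
  apply hnp
  intro g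
  have hPp : IsPGroup p ↥(Cfsg.pCore p Γ₀) := Cfsg.Agent.Lib.Helper1.pCore_isPGroup p
  obtain ⟨j, hj⟩ := hPp ⟨g, hPtop (Subgroup.mem_top g)⟩
  exact ⟨j, congrArg Subtype.val hj⟩

theorem abs596 (hp : p ≠ 2) {Γ : Type v} [Group Γ] [Finite Γ] {E : Type*} [CommGroup E]
    [Finite E] [Module (ZMod p) (Additive E)] (α : Γ →* MulAut E) (hα : Function.Injective α)
    (hsep : Cfsg.IsPSolvable p Γ) (x : Γ) (hx : QuadA α x) (hxO : x ∉ Cfsg.pCore p Γ) :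
    p = 3 ∧ ∃ (Y : Subgroup Γ) (f : Y →* Matrix.SpecialLinearGroup (Fin 2) (ZMod 3)),
      Function.Surjective f := by
  have hxp : x ^ p = 1 := quadA_pow_p (p := p) α hα x hx
  obtain ⟨g, hg⟩ := Cfsg.Agent.S0595.exists_conj_not_pgroup x hxp hxO
  set Γ₀ := Subgroup.closure ({x, g * x * g⁻¹} : Set Γ) with hΓ₀
  have hxm : x ∈ Γ₀ := Subgroup.subset_closure (by simp)
  have hym : g * x * g⁻¹ ∈ Γ₀ := Subgroup.subset_closure (by simp)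
  have hgen : Subgroup.closure ({⟨x, hxm⟩, ⟨g * x * g⁻¹, hym⟩} : Set Γ₀) = ⊤ := by
    apply Subgroup.map_injective Γ₀.subtype_injective
    rw [MonoidHom.map_closure, ← MonoidHom.range_eq_map, Subgroup.range_subtype, Set.image_pair]
    rfl
  have hgen' : Subgroup.closure ({⟨g * x * g⁻¹, hym⟩, ⟨x, hxm⟩} : Set Γ₀) = ⊤ := by
    rw [Set.pair_comm]; exact hgen
  have hinj : Function.Injective (α.comp Γ₀.subtype) := hα.comp Γ₀.subtype_injective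
  have hqx : QuadA (α.comp Γ₀.subtype) ⟨x, hxm⟩ := fun v => hx v
  have hqy : QuadA (α.comp Γ₀.subtype) ⟨g * x * g⁻¹, hym⟩ := fun v => quadA_conj α x g hx v
  have hsep₀ : Cfsg.IsPSolvable p Γ₀ := Cfsg.Agent.S1902.isPSolvable_subgroup hsep Γ₀
  have hx₀p : (⟨x, hxm⟩ : Γ₀) ^ p = 1 := quadA_pow_p (p := p) _ hinj _ hqx
  have hy₀p : (⟨g * x * g⁻¹, hym⟩ : Γ₀) ^ p = 1 := quadA_pow_p (p := p) _ hinj _ hqy
  have hPp : IsPGroup p ↥(Cfsg.pCore p Γ₀) := Cfsg.Agent.Lib.Helper1.pCore_isPGroup p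
  have hidx : ((Cfsg.pCore p Γ₀).relIndex ((Cfsg.pPrimeCore p (Γ₀ ⧸ Cfsg.pCore p Γ₀)).comap
      (QuotientGroup.mk' (Cfsg.pCore p Γ₀)))).Coprime p := by
    rw [relIndex_comap_mk]
    exact Cfsg.Agent.Lib.Helper1.pPrimeCore_card_coprime p
  have key : p = 3 ∧ ∃ (Y : Subgroup Γ₀) (f : Y →* Matrix.SpecialLinearGroup (Fin 2) (ZMod 3)),
      Function.Surjective f := by
    rcases two_gen_sep hsep₀ _ _ hgen hx₀p hy₀p hg with hD | hD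
    · exact quad_section_abs hp _ hinj _ _ hgen hqx hqy _ _ hPp hidx hD
    · exact quad_section_abs hp _ hinj _ _ hgen' hqy hqx _ _ hPp hidx hD
  obtain ⟨h3, Y, f, hf⟩ := key
  refine ⟨h3, Y.map Γ₀.subtype,
    f.comp (Y.equivMapOfInjective Γ₀.subtype Γ₀.subtype_injective).symm.toMonoidHom, ?_⟩
  intro z
  obtain ⟨y, rfl⟩ := hf z
  refine ⟨(Y.equivMapOfInjective Γ₀.subtype Γ₀.subtype_injective) y, ?_⟩
  simp

theorem absPStable_of_psolvable (hp5 : 5 ≤ p) (Γ : Type v) [Group Γ] [Finite Γ]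
    (hsep : Cfsg.IsPSolvable p Γ) : AbsPStable p Γ := by
  intro E _ _ _ α hα x hx
  by_contra hxO
  have hp2 : p ≠ 2 := by omega
  obtain ⟨h3, -⟩ := abs596 hp2 α hα hsep x hx hxO
  omega

end

end Cfsg.Agent.Lib.Helper5
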