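import Mathlib
import Cfsg.Agent.Lib.Helper5.FF3
import Cfsg.Agent.Lib.Helper5.FFGen
import Cfsg.Agent.Lib.Helper5.QuadSub
import Cfsg.Agent.Lib.Helper5.SolvPSolv
import Cfsg.Agent.S0593
import Cfsg.Agent.S0596

set_option autoImplicit false

namespace Cfsg.Agent.Lib.Helper5

open scoped commutatorElement Pointwise

section FF4

theorem lemC {p : ℕ} [Fact p.Prime] {Γ : Type*} [Group Γ] [Finite Γ] {E : Type*} [CommGroup E]
    [Finite E] [Module (ZMod p) (Additive E)] (hcard : Nat.card E = p ^ 2)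
    (α : Γ →* MulAut E) (hα : Function.Injective α) (x y : Γ)
    (hgen : Subgroup.closure {x, y} = (⊤ : Subgroup Γ))
    (hx : ∀ v : E, α x (α x v / v) = α x v / v) (hy : ∀ v : E, α y (α y v / v) = α y v / v) :
    ∃ φ : Γ →* Matrix.SpecialLinearGroup (Fin 2) (ZMod p), Function.Injective φ := by
  have hp : p.Prime := Fact.out
  have key : ∀ (g : Γ) (v : Additive E),
      (AddMonoidHom.toZModLinearMap p (MonoidHom.toAdditive (α g).toMonoidHom) :
        Additive E →ₗ[ZMod p] Additive E) v =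
        Additive.ofMul (α g (Additive.toMul v)) := fun g v => rfl
  let ρ₀ : Γ →* Module.End (ZMod p) (Additive E) :=
    { toFun := fun g => (MonoidHom.toAdditive (α g).toMonoidHom).toZModLinearMap p
      map_one' := by
        apply LinearMap.ext
        intro v
        rw [key, Module.End.one_apply, map_one]
        rfl
      map_mul' := by
        intro g h
        apply LinearMap.ext
        intro v
        rw [Module.End.mul_apply, key, key, key, map_mul]
        rfl }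
  have hρ₀ : ∀ g v, ρ₀ g v = Additive.ofMul (α g v.toMul) := fun g v => rfl
  have hinj : Function.Injective ρ₀ := by
    intro g h hgh
    apply hα
    ext v
    have := congrArg (fun f : Module.End (ZMod p) (Additive E) => (f (Additive.ofMul v)).toMul) hgh
    exact this
  have hfr : Module.finrank (ZMod p) (Additive E) = 2 := by
    have h1 := Module.natCard_eq_pow_finrank (K := ZMod p) (V := Additive E)
    have h2 : Nat.card (Additive E) = p ^ 2 := hcard
    rw [h2, Nat.card_zmod] at h1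
    exact (Nat.pow_right_injective hp.two_le h1).symm
  haveI : Finite (Additive E) := (inferInstance : Finite E)
  haveI : FiniteDimensional (ZMod p) (Additive E) := inferInstance
  obtain ⟨φ, hφ⟩ := exists_hom_of_finrank_two' hfr ρ₀ x y hgen
    (fun w => by
      show Additive.ofMul (α x (α x w.toMul / w.toMul)) = Additive.ofMul (α x w.toMul / w.toMul)
      rw [hx])
    (fun w => by
      show Additive.ofMul (α y (α y w.toMul / w.toMul)) = Additive.ofMul (α y w.toMul / w.toMul)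
      rw [hy])
  refine ⟨φ, ?_⟩
  rw [injective_iff_map_eq_one]
  intro g hg
  have := hφ g hg
  rw [← map_one ρ₀] at this
  exact hinj this

theorem isPSolvable_of_card_pow {X : Type*} [Group X] {p : ℕ}
    (h : ∃ m : ℕ, Nat.card X = p ^ m) : Cfsg.IsPSolvable p X := by
  refine ⟨1, ![⊥, ⊤], rfl, rfl, ?_, ?_, ?_⟩
  · intro i j hij
    fin_cases i <;> fin_cases j
    · exact le_rfl
    · exact bot_le
    · exact absurd hij (by decide)
    · exact le_rfl
  · intro i
    fin_cases i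
    · show (⊥ : Subgroup X).Normal
      infer_instance
    · show (⊤ : Subgroup X).Normal
      infer_instance
  · intro i
    fin_cases i
    left
    obtain ⟨m, hm⟩ := h
    refine ⟨m, ?_⟩
    show (⊥ : Subgroup X).relIndex ⊤ = p ^ m
    rw [Subgroup.relIndex_bot_left, Subgroup.card_top, hm]

namespace MinOff

variable {G : Type*} [Group G] [Finite G] {p : ℕ} [Fact p.Prime] {V H A B : Subgroup G}

theorem card_sup_pair (hA : MinOff p V H A) (hB : MinOff p V H B) (hBA : B ≤ A ⊔ ffK p H) :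
    Nat.card ↥(A ⊔ B) = p * Nat.card ↥((A ⊔ B) ⊓ ffK p H) := by
  have hEH : A ⊔ B ≤ H := sup_le hA.hAH hB.hAH
  have h1 := card_sup_of_le_normalizer (A ⊔ B) (ffK p H) (hEH.trans (ffK_normalized H))
  have h2 : (A ⊔ B) ⊔ ffK p H = A ⊔ ffK p H := by
    apply le_antisymm
    · exact sup_le (sup_le le_sup_left hBA) le_sup_right
    · exact sup_le (le_sup_left.trans le_sup_left) le_sup_right
  rw [h2, hA.card_sup_ffK] at h1
  have hpos : 0 < Nat.card ↥(ffK p H) := Nat.card_pos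
  have h3 : Nat.card ↥(ffK p H) * (p * Nat.card ↥((A ⊔ B) ⊓ ffK p H)) =
      Nat.card ↥(ffK p H) * Nat.card ↥(A ⊔ B) := by
    rw [mul_comm (Nat.card ↥(ffK p H)) (Nat.card ↥(A ⊔ B)), ← h1]
    ring
  exact (Nat.eq_of_mul_eq_mul_left hpos h3).symm

theorem isPSolvable_sup (hA : MinOff p V H A) (hB : MinOff p V H B) (hBA : B ≤ A ⊔ ffK p H) :
    Cfsg.IsPSolvable p ↥(A ⊔ B) := by
  have hp : p.Prime := Fact.out
  have hEH : A ⊔ B ≤ H := sup_le hA.hAH hB.hAH
  haveI hn : ((ffK p H).subgroupOf (A ⊔ B)).Normal :=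
    Subgroup.normal_subgroupOf_of_le_normalizer (hEH.trans (ffK_normalized H))
  have hc1 : Nat.card ↥((ffK p H).subgroupOf (A ⊔ B)) = Nat.card ↥((A ⊔ B) ⊓ ffK p H) := by
    rw [inf_comm, ← Subgroup.inf_subgroupOf_right]
    exact Nat.card_congr (Subgroup.subgroupOfEquivOfLe inf_le_right).toEquiv
  apply isPSolvable_of_quotient ((ffK p H).subgroupOf (A ⊔ B))
  · right
    rw [hc1]
    exact Nat.Coprime.coprime_dvd_left (Subgroup.card_dvd_of_le inf_le_right) (ffK_coprime H)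
  · apply isPSolvable_of_card_pow
    refine ⟨1, ?_⟩
    have h1 := Subgroup.card_eq_card_quotient_mul_card_subgroup ((ffK p H).subgroupOf (A ⊔ B))
    rw [hc1, card_sup_pair hA hB hBA] at h1
    have hpos : 0 < Nat.card ↥((A ⊔ B) ⊓ ffK p H) := Nat.card_pos
    rw [pow_one]
    exact (Nat.eq_of_mul_eq_mul_right hpos h1).symm

theorem quad_gen (hA : MinOff p V H A) {a : G} (ha : Subgroup.zpowers a = A) :
    ⁅⁅V, Subgroup.zpowers a⁆, Subgroup.zpowers a⁆ = ⊥ := by
  rw [ha, Subgroup.commutator_eq_bot_iff_le_centralizer]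
  exact Subgroup.le_centralizer_iff.mp hA.quad

theorem prime_two_or_three (hA : MinOff p V H A) (hB : MinOff p V H B)
    (hBA : B ≤ A ⊔ ffK p H) (hne : B ≠ A) : p = 2 ∨ p = 3 := by
  by_cases hp2 : p = 2
  · left; exact hp2
  · right
    obtain ⟨a, haA, ha1, haz⟩ := hA.exists_gen
    have hEH : A ⊔ B ≤ H := sup_le hA.hAH hB.hAH
    have hfE : (A ⊔ B) ⊓ Subgroup.centralizer (V : Set G) = ⊥ := by
      rw [eq_bot_iff, ← hA.hf]; exact inf_le_inf_right _ hEH
    have hna : a ∉ (Cfsg.pCore p ↥(A ⊔ B)).map (A ⊔ B).subtype := by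
      intro hmem
      have hPp : IsPGroup p ↥((Cfsg.pCore p ↥(A ⊔ B)).map (A ⊔ B).subtype) :=
        (Cfsg.Agent.Lib.Helper1.pCore_isPGroup p).map _
      have hPE : (Cfsg.pCore p ↥(A ⊔ B)).map (A ⊔ B).subtype ≤ A ⊔ B := Subgroup.map_subtype_le _
      have hAP : A ≤ (Cfsg.pCore p ↥(A ⊔ B)).map (A ⊔ B).subtype := by
        intro g hg
        rw [← haz] at hg
        exact (Subgroup.zpowers_le.mpr hmem) hg
      have hPc := hA.card_pgroup_le hPp (hPE.trans (sup_le le_sup_left hBA))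
      have hPA : A = (Cfsg.pCore p ↥(A ⊔ B)).map (A ⊔ B).subtype :=
        Subgroup.eq_of_le_of_card_ge hAP (by rw [hA.card_eq]; exact hPc)
      have hEP : A ⊔ B ≤ Subgroup.normalizer (A : Set G) := by
        have h1 := Subgroup.le_normalizer_map (A ⊔ B).subtype (H := Cfsg.pCore p ↥(A ⊔ B))
        haveI := Cfsg.Agent.Lib.Helper1.pCore_normal (G := ↥(A ⊔ B)) p
        rw [Subgroup.normalizer_eq_top, ← MonoidHom.range_eq_map, Subgroup.range_subtype,
          ← hPA] at h1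
        exact h1
      apply hA.not_isPGroup_sup hB hBA hne
      exact IsPGroup.to_sup_of_normal_left' hA.isPGroup hB.isPGroup (le_sup_right.trans hEP)
    exact (Cfsg.Agent.S0596.result hp2 V (A ⊔ B) hA.hV (hEH.trans hA.hHV) hfE
      (isPSolvable_sup hA hB hBA) a (le_sup_left (a := A) (b := B) haA) (hA.quad_gen haz) hna).1

end MinOff

theorem conjAut_injective {G : Type*} [Group G] (N E : Subgroup G)
    (hEN : E ≤ Subgroup.normalizer (N : Set G))
    (hf : E ⊓ Subgroup.centralizer (N : Set G) = ⊥) :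
    Function.Injective (Cfsg.Agent.S0593.conjAut N E hEN) := by
  rw [injective_iff_map_eq_one]
  intro g hg
  have hgc : (g : G) ∈ E ⊓ Subgroup.centralizer (N : Set G) := by
    refine ⟨g.2, (?_ : (g : G) ∈ Subgroup.centralizer (N : Set G))⟩
    rw [Subgroup.mem_centralizer_iff]
    intro v hv
    have h1 := congrArg (fun f : MulAut ↥N => ((f ⟨v, hv⟩ : N) : G)) hg
    simp only [Cfsg.Agent.S0593.conjAut_apply, MulAut.one_apply] at h1
    calc v * (g : G) = ((g : G) * v * (g : G)⁻¹) * (g : G) := by rw [h1]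
      _ = (g : G) * v := by group
  rw [hf, Subgroup.mem_bot] at hgc
  exact Subtype.ext hgc

theorem conjAut_quad {G : Type*} [Group G] (V N E : Subgroup G) (hNV : N ≤ V)
    (hEN : E ≤ Subgroup.normalizer (N : Set G)) (c : G) (hc : c ∈ E)
    (hq : ⁅⁅V, Subgroup.zpowers c⁆, Subgroup.zpowers c⁆ = ⊥) (v : N) :
    Cfsg.Agent.S0593.conjAut N E hEN ⟨c, hc⟩ (Cfsg.Agent.S0593.conjAut N E hEN ⟨c, hc⟩ v / v) =
      Cfsg.Agent.S0593.conjAut N E hEN ⟨c, hc⟩ v / v := by
  rw [Cfsg.Agent.S0623.quad_iff] at hq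
  have h1 := hq v (hNV v.2) 1
  rw [zpow_one] at h1
  apply Subtype.ext
  rw [Cfsg.Agent.S0593.conjAut_apply, Subgroup.coe_div, Cfsg.Agent.S0593.conjAut_apply]
  show c * (c * v * c⁻¹ / v) * c⁻¹ = c * v * c⁻¹ / v
  have h2 : c * (v : G) * c⁻¹ / v = ⁅(v : G), c⁆⁻¹ := by
    rw [commutatorElement_def, div_eq_mul_inv]; group
  rw [h2]
  have h3 : Commute (⁅(v : G), c⁆⁻¹) c := h1.inv_left
  rw [← h3.eq]
  group

theorem iso_of_action {p : ℕ} [Fact p.Prime] (hp23 : p = 2 ∨ p = 3) {Γ : Type*} [Group Γ]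
    [Finite Γ] {E : Type*} [CommGroup E] [Finite E] [Module (ZMod p) (Additive E)]
    (hcard : Nat.card E = p ^ 2) (α : Γ →* MulAut E) (hα : Function.Injective α) (x y : Γ)
    (hgen : Subgroup.closure {x, y} = (⊤ : Subgroup Γ))
    (hx : ∀ v : E, α x (α x v / v) = α x v / v) (hy : ∀ v : E, α y (α y v / v) = α y v / v)
    (hxp : x ^ p = 1) (hyp : y ^ p = 1) (hxy : x * y ≠ y * x) :
    Nonempty (Γ ≃* Matrix.SpecialLinearGroup (Fin 2) (ZMod p)) := by
  obtain ⟨φ, hφ⟩ := lemC hcard α hα x y hgen hx hy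
  have hs := sl2_surj_of_gens hp23 φ x y hxp hyp
    (fun h => hxy (hφ (by rw [map_mul, map_mul, h])))
  exact ⟨MulEquiv.ofBijective φ ⟨hφ, hs⟩⟩

namespace MinOff

variable {G : Type*} [Group G] [Finite G] {p : ℕ} [Fact p.Prime] {V H A B : Subgroup G}

theorem pair_iso (hA : MinOff p V H A) (hB : MinOff p V H B)
    (hBA : B ≤ A ⊔ ffK p H) (hne : B ≠ A) :
    Nonempty (↥(A ⊔ B) ≃* Matrix.SpecialLinearGroup (Fin 2) (ZMod p)) := by
  have hp23 := prime_two_or_three hA hB hBA hne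
  obtain ⟨a, haA, ha1, haz⟩ := hA.exists_gen
  obtain ⟨b, hbB, hb1, hbz⟩ := hB.exists_gen
  have hEH : A ⊔ B ≤ H := sup_le hA.hAH hB.hAH
  have hEV : A ⊔ B ≤ Subgroup.normalizer (V : Set G) := hEH.trans hA.hHV
  have hNV : ⁅V, A ⊔ B⁆ ≤ V :=
    Cfsg.Agent.Lib.Lead.commutator_le_left_of_le_normalizer V _ hEV
  have hEN : A ⊔ B ≤ Subgroup.normalizer ((⁅V, A ⊔ B⁆ : Subgroup G) : Set G) :=
    Cfsg.Agent.Lib.Lead.right_le_normalizer_commutator V _ hEV
  have haE : a ∈ A ⊔ B := le_sup_left (a := A) (b := B) haA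
  have hbE : b ∈ A ⊔ B := le_sup_right (a := A) (b := B) hbB
  have hgen : Subgroup.closure ({⟨a, haE⟩, ⟨b, hbE⟩} : Set ↥(A ⊔ B)) = ⊤ := by
    apply Subgroup.map_injective (A ⊔ B).subtype_injective
    rw [MonoidHom.map_closure, ← MonoidHom.range_eq_map, Subgroup.range_subtype, Set.image_pair]
    show Subgroup.closure {a, b} = A ⊔ B
    rw [← haz, ← hbz, Subgroup.zpowers_eq_closure, Subgroup.zpowers_eq_closure,
      ← Subgroup.closure_union, Set.singleton_union]
  have hxp : (⟨a, haE⟩ : ↥(A ⊔ B)) ^ p = 1 := by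
    apply Subtype.ext
    rw [Subgroup.coe_pow, Subgroup.coe_one]
    exact hA.elemAb.2 a haA
  have hyp : (⟨b, hbE⟩ : ↥(A ⊔ B)) ^ p = 1 := by
    apply Subtype.ext
    rw [Subgroup.coe_pow, Subgroup.coe_one]
    exact hB.elemAb.2 b hbB
  have hxy : (⟨a, haE⟩ : ↥(A ⊔ B)) * ⟨b, hbE⟩ ≠ ⟨b, hbE⟩ * ⟨a, haE⟩ := by
    intro h
    have hab : Commute a b := congrArg Subtype.val h
    have hBc : B ≤ Subgroup.centralizer (A : Set G) := by
      rw [← hbz, Subgroup.zpowers_le, ← haz, Subgroup.mem_centralizer_iff]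
      intro g hg
      obtain ⟨k, rfl⟩ := Subgroup.mem_zpowers_iff.mp hg
      exact (Commute.zpow_left hab k).eq
    apply hA.not_isPGroup_sup hB hBA hne
    exact IsPGroup.to_sup_of_normal_left' hA.isPGroup hB.isPGroup
      (hBc.trans (Subgroup.centralizer_le_normalizer _))
  have hcard := card_comm_sup hA hB hBA hne
  have hinj := conjAut_injective _ _ hEN (faithful_on_comm hA hB hBA hne)
  have hqa := conjAut_quad V _ _ hNV hEN a haE (hA.quad_gen haz)
  have hqb := conjAut_quad V _ _ hNV hEN b hbE (hB.quad_gen hbz)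
  have hE : ∀ v : ↥(⁅V, A ⊔ B⁆), v ^ p = 1 := by
    intro v
    apply Subtype.ext
    rw [Subgroup.coe_pow, Subgroup.coe_one]
    exact hA.hV.2 v (hNV v.2)
  letI : CommGroup ↥(⁅V, A ⊔ B⁆) := { (inferInstance : Group ↥(⁅V, A ⊔ B⁆)) with
    mul_comm := fun u v => Subtype.ext
      (congrArg Subtype.val (hA.hV.1.is_comm.comm (⟨u, hNV u.2⟩ : ↥V) ⟨v, hNV v.2⟩) :) }
  letI : Module (ZMod p) (Additive ↥(⁅V, A ⊔ B⁆)) := AddCommGroup.zmodModule (n := p) (by
    intro v
    show Additive.ofMul (v.toMul ^ p) = 0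
    rw [hE]; rfl)
  exact iso_of_action hp23 hcard (Cfsg.Agent.S0593.conjAut _ _ hEN) hinj ⟨a, haE⟩ ⟨b, hbE⟩ hgen
    hqa hqb hxp hyp hxy

end MinOff

end FF4

end Cfsg.Agent.Lib.Helper5
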