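import Mathlib
import Cfsg.Agent.Lib.Helper5.FF4

set_option autoImplicit false

namespace Cfsg.Agent.Lib.Helper5

open scoped commutatorElement Pointwise

section FF5

variable {G : Type*} [Group G]

theorem eq_bot_or_eq_of_le_card_prime [Finite G] {p : ℕ} [Fact p.Prime] {S T : Subgroup G}
    (hS : Nat.card S = p) (hTS : T ≤ S) : T = ⊥ ∨ T = S := by
  have hp : p.Prime := Fact.out
  have hdvd : Nat.card T ∣ p := by
    rw [← hS]; exact Subgroup.card_dvd_of_le hTS
  rcases (Nat.dvd_prime hp).mp hdvd with h' | h'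
  · left; exact Subgroup.card_eq_one.mp h'
  · right; exact Subgroup.eq_of_le_of_card_ge hTS (by rw [hS, h'])

theorem zpowers_eq_of_card_prime [Finite G] {p : ℕ} [Fact p.Prime] {S : Subgroup G}
    (hS : Nat.card S = p) {w : G} (hw : w ∈ S) (hw1 : w ≠ 1) : Subgroup.zpowers w = S := by
  rcases eq_bot_or_eq_of_le_card_prime hS (Subgroup.zpowers_le.mpr hw) with h | h
  · exfalso
    apply hw1
    have : w ∈ Subgroup.zpowers w := Subgroup.mem_zpowers w
    rw [h, Subgroup.mem_bot] at this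
    exact this
  · exact h

namespace MinOff

variable [Finite G] {p : ℕ} [Fact p.Prime] {V H A B D : Subgroup G}

theorem sup_ffK_eq (hA : MinOff p V H A) (hB : MinOff p V H B) (hBA : B ≤ A ⊔ ffK p H) :
    B ⊔ ffK p H = A ⊔ ffK p H := by
  apply Subgroup.eq_of_le_of_card_ge (sup_le hBA le_sup_right)
  rw [hA.card_sup_ffK, hB.card_sup_ffK]

theorem le_sup_symm (hA : MinOff p V H A) (hB : MinOff p V H B) (hBA : B ≤ A ⊔ ffK p H) :
    A ≤ B ⊔ ffK p H := by
  rw [sup_ffK_eq hA hB hBA]; exact le_sup_left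

theorem not_comm_le_cent (hA : MinOff p V H A) (hB : MinOff p V H B)
    (hBA : B ≤ A ⊔ ffK p H) (hne : B ≠ A) :
    ¬ ⁅V, B⁆ ≤ Subgroup.centralizer (A : Set G) := by
  intro h
  have h1 : A ≤ (A ⊔ B) ⊓ Subgroup.centralizer ((⁅V, A ⊔ B⁆ : Subgroup G) : Set G) := by
    refine le_inf le_sup_left ?_
    rw [comm_sup_eq hA hB, Subgroup.le_centralizer_iff]
    exact sup_le (Subgroup.le_centralizer_iff.mp hA.quad) h
  rw [faithful_on_comm hA hB hBA hne] at h1
  exact hA.ne_bot (le_bot_iff.mp h1)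

theorem hVc (hA : MinOff p V H A) : ∀ x ∈ V, ∀ y ∈ V, x * y = y * x := fun x hx y hy =>
  congrArg Subtype.val (hA.hV.1.is_comm.comm ⟨x, hx⟩ ⟨y, hy⟩)

theorem cent_sup_comm (hA : MinOff p V H A) (hB : MinOff p V H B)
    (hBA : B ≤ A ⊔ ffK p H) (hne : B ≠ A) :
    (V ⊓ Subgroup.centralizer (B : Set G)) ⊔ ⁅V, A⁆ = V := by
  have hp : p.Prime := Fact.out
  have hle : (V ⊓ Subgroup.centralizer (B : Set G)) ⊔ ⁅V, A⁆ ≤ V := sup_le inf_le_left hA.comm_le
  apply Subgroup.eq_of_le_of_card_ge hle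
  have hnorm : (V ⊓ Subgroup.centralizer (B : Set G)) ≤
      Subgroup.normalizer ((⁅V, A⁆ : Subgroup G) : Set G) := by
    intro u hu
    have h1 : u ∈ Subgroup.centralizer ((⁅V, A⁆ : Subgroup G) : Set G) := by
      rw [Subgroup.mem_centralizer_iff]
      intro w hw
      exact hA.hVc w (hA.comm_le hw) u hu.1
    exact Subgroup.centralizer_le_normalizer _ h1
  have h1 := card_sup_of_le_normalizer _ _ hnorm
  have hinf : (V ⊓ Subgroup.centralizer (B : Set G)) ⊓ ⁅V, A⁆ = ⊥ := by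
    rcases eq_bot_or_eq_of_le_card_prime hA.card_comm
      (inf_le_right : (V ⊓ Subgroup.centralizer (B : Set G)) ⊓ ⁅V, A⁆ ≤ ⁅V, A⁆) with h | h
    · exact h
    · exfalso
      apply not_comm_le_cent hB hA (le_sup_symm hA hB hBA) hne.symm
      rw [← h]
      exact inf_le_left.trans inf_le_right
  rw [hinf, Subgroup.card_bot, mul_one, hA.card_comm] at h1
  rw [h1, mul_comm, hB.card_cent]

theorem conj_le_pair (hA : MinOff p V H A) (hB : MinOff p V H B)
    (hBA : B ≤ A ⊔ ffK p H) (hne : B ≠ A) (hD : MinOff p V H D) (hDA : D ≤ A ⊔ ffK p H) :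
    D ≤ A ⊔ B := by
  by_cases hDne : D = A
  · rw [hDne]; exact le_sup_left
  obtain ⟨a, haA, ha1, haz⟩ := hA.exists_gen
  obtain ⟨⟨w, hwD⟩, hw1'⟩ := Subgroup.ne_bot_iff_exists_ne_one.mp hD.hAV
  have hw1 : w ≠ 1 := fun h' => hw1' (Subtype.ext h')
  have hwz : Subgroup.zpowers w = ⁅V, D⁆ := zpowers_eq_of_card_prime hD.card_comm hwD hw1
  have hwV : w ∈ V := hD.comm_le hwD
  have haH : a ∈ H := hA.hAH haA
  have haV : a ∈ Subgroup.normalizer (V : Set G) := hA.hHV haH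
  have hcA : ⁅w, a⁆ ∈ ⁅V, A⁆ := Subgroup.commutator_mem_commutator hwV haA
  have hc1 : ⁅w, a⁆ ≠ 1 := by
    intro hc
    apply not_comm_le_cent hA hD hDA hDne
    rw [← hwz, Subgroup.zpowers_le, ← haz, Subgroup.mem_centralizer_iff]
    intro g hg
    obtain ⟨k, rfl⟩ := Subgroup.mem_zpowers_iff.mp hg
    have hcomm : Commute w a := (commutatorElement_eq_one_iff_commute.mp hc)
    exact ((hcomm.zpow_right k).eq).symm
  set c := (⁅w, a⁆)⁻¹ with hc
  have hcA' : c ∈ ⁅V, A⁆ := inv_mem hcA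
  have hc1' : c ≠ 1 := by
    intro h; apply hc1; rw [← inv_inv ⁅w, a⁆, ← hc, h, inv_one]
  have hcz : Subgroup.zpowers c = ⁅V, A⁆ := zpowers_eq_of_card_prime hA.card_comm hcA' hc1'
  have hcV : c ∈ V := hA.comm_le hcA'
  have hac : a * c = c * a := by
    have := hA.quad haA
    rw [Subgroup.mem_centralizer_iff] at this
    exact (this c hcA').symm
  have hawa : a * w * a⁻¹ = w * c := by
    have h1 : a * w * a⁻¹ = c * w := by
      rw [hc, commutatorElement_def]; group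
    rw [h1]
    exact hA.hVc c hcV w hwV
  have hwsup : w ∈ (V ⊓ Subgroup.centralizer (B : Set G)) ⊔ ⁅V, A⁆ := by
    rw [cent_sup_comm hA hB hBA hne]; exact hwV
  obtain ⟨u, hu, z, hz, hwuz⟩ := mem_sup_of_commute
    (fun d hd m hm => hA.hVc d (Subgroup.mem_inf.mp hd).1 m (hA.comm_le hm)) hwsup
  have hzinv : z⁻¹ ∈ Subgroup.zpowers c := by rw [hcz]; exact inv_mem hz
  rw [← mem_powers_iff_mem_zpowers] at hzinv
  obtain ⟨k, hk⟩ := hzinv
  have hk : c ^ k = z⁻¹ := hk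
  have hconj := conj_pow_of_comm hawa hac k
  have hu' : a ^ k * w * (a ^ k)⁻¹ = u := by
    rw [hconj, hwuz, hk]; group
  have hakH : a ^ k ∈ H := H.pow_mem haH k
  have hD' := hD.conj hakH
  have hu1 : u ≠ 1 := by
    intro h
    rw [h] at hu'
    apply hw1
    have : w = (a ^ k)⁻¹ * (a ^ k * w * (a ^ k)⁻¹) * (a ^ k) := by group
    rw [this, hu']; group
  have huD' : u ∈ ⁅V, D.map (MulAut.conj (a ^ k)).toMonoidHom⁆ := by
    rw [commutator_map_conj (hA.hHV hakH)]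
    exact ⟨w, hwD, hu'⟩
  have huz : Subgroup.zpowers u = ⁅V, D.map (MulAut.conj (a ^ k)).toMonoidHom⁆ :=
    zpowers_eq_of_card_prime hD'.card_comm huD' hu1
  have hAK : A ⊔ ffK p H ≤ H := sup_le hA.hAH (ffK_le H)
  have hD'B : D.map (MulAut.conj (a ^ k)).toMonoidHom ≤ B ⊔ ffK p H := by
    rw [sup_ffK_eq hA hB hBA]
    rintro _ ⟨d, hd, rfl⟩
    have hak : a ^ k ∈ A ⊔ ffK p H := Subgroup.pow_mem _ (le_sup_left (a := A) haA) k
    exact mul_mem (mul_mem hak (hDA hd)) (inv_mem hak)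
  have hD'eq : D.map (MulAut.conj (a ^ k)).toMonoidHom = B := by
    by_contra hne'
    apply not_comm_le_cent hB hD' hD'B hne'
    rw [← huz, Subgroup.zpowers_le]
    exact hu.2
  have hDeq : D = B.map (MulAut.conj (a ^ k)⁻¹).toMonoidHom := by
    rw [← hD'eq, map_conj_inv_map_conj]
  rw [hDeq]
  apply map_conj_le_of_mem le_sup_right
  exact inv_mem (Subgroup.pow_mem _ (le_sup_left (a := A) haA) k)

theorem exists_not_cent (hA : MinOff p V H A) :
    ∃ x ∈ ffK p H, x ∉ Subgroup.centralizer (A : Set G) := by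
  by_contra h
  push_neg at h
  have h1 : A ≤ Subgroup.centralizer (ffK p H : Set G) := by
    rw [Subgroup.le_centralizer_iff]
    exact h
  have h2 : A ≤ A ⊓ ffK p H := by
    intro a ha
    exact ⟨ha, ffK_self_cent H hA.hS1 (hA.hAH ha) (h1 ha)⟩
  rw [inf_ffK_eq_bot hA.isPGroup] at h2
  exact hA.ne_bot (le_bot_iff.mp h2)

theorem comm_ffK_le (hA : MinOff p V H A) : ⁅ffK p H, A⁆ ≤ ffK p H :=
  Cfsg.Agent.Lib.Lead.commutator_le_left_of_le_normalizer _ _ (hA.hAH.trans (ffK_normalized H))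

theorem ffE_eq (hA : MinOff p V H A) {x : G} (hx : x ∈ ffK p H)
    (hxA : x ∉ Subgroup.centralizer (A : Set G)) :
    ⁅ffK p H, A⁆ ⊔ A = A ⊔ A.map (MulAut.conj x).toMonoidHom := by
  have hB := hA.conj (ffK_le H hx)
  have hBA := hA.conj_le_sup hx
  have hne := hA.conj_ne hx hxA
  apply le_antisymm
  · apply sup_le _ le_sup_left
    rw [Subgroup.commutator_le]
    intro k hk a ha
    have h1 : k * a * k⁻¹ ∈ A ⊔ A.map (MulAut.conj x).toMonoidHom :=
      conj_le_pair hA hB hBA hne (hA.conj (ffK_le H hk)) (hA.conj_le_sup hk) ⟨a, ha, rfl⟩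
    rw [commutatorElement_def]
    exact mul_mem h1 (inv_mem (le_sup_left (a := A) ha))
  · apply sup_le le_sup_right
    rintro _ ⟨a, ha, rfl⟩
    show x * a * x⁻¹ ∈ ⁅ffK p H, A⁆ ⊔ A
    have h1 : x * a * x⁻¹ = ⁅x, a⁆ * a := by rw [commutatorElement_def]; group
    rw [h1]
    exact Subgroup.mul_mem_sup (Subgroup.commutator_mem_commutator hx ha) ha

theorem comm_ffK_eq (hA : MinOff p V H A) {x : G} (hx : x ∈ ffK p H)
    (hxA : x ∉ Subgroup.centralizer (A : Set G)) :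
    ⁅ffK p H, A⁆ = (A ⊔ A.map (MulAut.conj x).toMonoidHom) ⊓ ffK p H := by
  have hp : p.Prime := Fact.out
  have hB := hA.conj (ffK_le H hx)
  have hBA := hA.conj_le_sup hx
  have hle : ⁅ffK p H, A⁆ ≤ (A ⊔ A.map (MulAut.conj x).toMonoidHom) ⊓ ffK p H := by
    refine le_inf ?_ hA.comm_ffK_le
    rw [← ffE_eq hA hx hxA]; exact le_sup_left
  apply Subgroup.eq_of_le_of_card_ge hle
  have hnorm : A ≤ Subgroup.normalizer ((⁅ffK p H, A⁆ : Subgroup G) : Set G) :=
    Cfsg.Agent.Lib.Lead.right_le_normalizer_commutator _ _ (hA.hAH.trans (ffK_normalized H))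
  have h1 := card_sup_of_le_normalizer A ⁅ffK p H, A⁆ hnorm
  have hinf : A ⊓ ⁅ffK p H, A⁆ = ⊥ := by
    rw [eq_bot_iff, ← inf_ffK_eq_bot (H := H) hA.isPGroup]
    exact inf_le_inf_left _ hA.comm_ffK_le
  rw [hinf, Subgroup.card_bot, mul_one, sup_comm, ffE_eq hA hx hxA, card_sup_pair hA hB hBA,
    hA.card_eq] at h1
  exact (Nat.eq_of_mul_eq_mul_left hp.pos h1).le

theorem sup_eq_closure_pair {a b : G} (haz : Subgroup.zpowers a = A)
    (hbz : Subgroup.zpowers b = B) : A ⊔ B = Subgroup.closure {a, b} := by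
  rw [← haz, ← hbz, Subgroup.zpowers_eq_closure, Subgroup.zpowers_eq_closure,
    ← Subgroup.closure_union, Set.singleton_union]

theorem card_pair (hA : MinOff p V H A) (hB : MinOff p V H B)
    (hBA : B ≤ A ⊔ ffK p H) (hne : B ≠ A) :
    Nat.card ↥(A ⊔ B) = Nat.card (Matrix.SpecialLinearGroup (Fin 2) (ZMod p)) := by
  obtain ⟨iso⟩ := pair_iso hA hB hBA hne
  exact Nat.card_congr iso.toEquiv

end MinOff

theorem card_sl22 : Nat.card (Matrix.SpecialLinearGroup (Fin 2) (ZMod 2)) = 6 := by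
  rw [Nat.card_eq_fintype_card]; decide

theorem card_sl23 : Nat.card (Matrix.SpecialLinearGroup (Fin 2) (ZMod 3)) = 24 := by
  rw [Nat.card_eq_fintype_card]; decide

theorem factorization_24_2 : (24 : ℕ).factorization 2 = 3 := by
  have h : (24 : ℕ) = 2 ^ 3 * 3 := by norm_num
  rw [h, Nat.factorization_mul (by norm_num) (by norm_num),
    Nat.Prime.factorization_pow Nat.prime_two]
  simp
  rw [Nat.factorization_eq_zero_of_not_dvd (by norm_num)]

end FF5

end Cfsg.Agent.Lib.Helper5
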