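import Mathlib
import Cfsg.Agent.Lib.Helper5.FF5
import Cfsg.Agent.S0614

set_option autoImplicit false

namespace Cfsg.Agent.Lib.Helper5

open scoped commutatorElement Pointwise

section FF6

variable {G : Type*} [Group G]

theorem centralizer_sup_eq (A B : Subgroup G) :
    Subgroup.centralizer ((A ⊔ B : Subgroup G) : Set G) =
      Subgroup.centralizer (A : Set G) ⊓ Subgroup.centralizer (B : Set G) := by
  apply le_antisymm
  · exact le_inf (Subgroup.centralizer_le (SetLike.coe_subset_coe.mpr le_sup_left))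
      (Subgroup.centralizer_le (SetLike.coe_subset_coe.mpr le_sup_right))
  · intro g hg
    have h1 : Subgroup.zpowers g ≤ Subgroup.centralizer (A : Set G) :=
      Subgroup.zpowers_le.mpr hg.1
    have h2 : Subgroup.zpowers g ≤ Subgroup.centralizer (B : Set G) :=
      Subgroup.zpowers_le.mpr hg.2
    rw [Subgroup.le_centralizer_iff] at h1 h2
    have h3 : A ⊔ B ≤ Subgroup.centralizer (Subgroup.zpowers g : Set G) := sup_le h1 h2
    rw [Subgroup.le_centralizer_iff] at h3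
    exact h3 (Subgroup.mem_zpowers g)

theorem card_sup_mul_inf_abelian [Finite G] {V X Y : Subgroup G}
    (hVc : ∀ x ∈ V, ∀ y ∈ V, x * y = y * x) (hX : X ≤ V) (hY : Y ≤ V) :
    Nat.card ↥(X ⊔ Y) * Nat.card ↥(X ⊓ Y) = Nat.card X * Nat.card Y := by
  apply card_sup_of_le_normalizer
  intro u hu
  have h1 : u ∈ Subgroup.centralizer (Y : Set G) := by
    rw [Subgroup.mem_centralizer_iff]
    intro w hw
    exact hVc w (hY hw) u (hX hu)
  exact Subgroup.centralizer_le_normalizer _ h1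

structure Pair (p : ℕ) (V H A B : Subgroup G) : Prop where
  hA : MinOff p V H A
  hB : MinOff p V H B
  hBA : B ≤ A ⊔ ffK p H
  hne : B ≠ A
  hE : ⁅ffK p H, A⁆ ⊔ A = A ⊔ B
  hQ : ⁅ffK p H, A⁆ = (A ⊔ B) ⊓ ffK p H

theorem MinOff.exists_pair [Finite G] {p : ℕ} [Fact p.Prime] {V H A : Subgroup G}
    (hA : MinOff p V H A) : ∃ B, Pair p V H A B := by
  obtain ⟨x, hxK, hxA⟩ := hA.exists_not_cent
  exact ⟨_, hA, hA.conj (ffK_le H hxK), hA.conj_le_sup hxK, hA.conj_ne hxK hxA,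
    hA.ffE_eq hxK hxA, hA.comm_ffK_eq hxK hxA⟩

namespace Pair

variable [Finite G] {p : ℕ} [Fact p.Prime] {V H A B : Subgroup G}

theorem hEH (h : Pair p V H A B) : A ⊔ B ≤ H := sup_le h.hA.hAH h.hB.hAH

theorem hEV (h : Pair p V H A B) : A ⊔ B ≤ Subgroup.normalizer (V : Set G) :=
  h.hEH.trans h.hA.hHV

theorem hNV (h : Pair p V H A B) : ⁅V, A ⊔ B⁆ ≤ V :=
  Cfsg.Agent.Lib.Lead.commutator_le_left_of_le_normalizer V _ h.hEV

theorem hEN (h : Pair p V H A B) :
    A ⊔ B ≤ Subgroup.normalizer ((⁅V, A ⊔ B⁆ : Subgroup G) : Set G) :=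
  Cfsg.Agent.Lib.Lead.right_le_normalizer_commutator V _ h.hEV

theorem cardN (h : Pair p V H A B) : Nat.card ↥(⁅V, A ⊔ B⁆) = p ^ 2 :=
  MinOff.card_comm_sup h.hA h.hB h.hBA h.hne

theorem faithful (h : Pair p V H A B) :
    (A ⊔ B) ⊓ Subgroup.centralizer ((⁅V, A ⊔ B⁆ : Subgroup G) : Set G) = ⊥ :=
  MinOff.faithful_on_comm h.hA h.hB h.hBA h.hne

theorem N_inf_C (h : Pair p V H A B) :
    ⁅V, A ⊔ B⁆ ⊓ (V ⊓ Subgroup.centralizer ((A ⊔ B : Subgroup G) : Set G)) = ⊥ := by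
  rw [eq_bot_iff]
  intro v hv
  obtain ⟨hvN, hvV, hvC⟩ := hv
  rw [MinOff.comm_sup_eq h.hA h.hB] at hvN
  rw [centralizer_sup_eq] at hvC
  obtain ⟨wa, hwa, wb, hwb, rfl⟩ := mem_sup_of_commute
    (fun d hd m hm => h.hA.hVc d (h.hA.comm_le hd) m (h.hB.comm_le hm)) hvN
  have hwaA : wa ∈ Subgroup.centralizer (A : Set G) := Subgroup.le_centralizer_iff.mp h.hA.quad hwa
  have hwbB : wb ∈ Subgroup.centralizer (B : Set G) := Subgroup.le_centralizer_iff.mp h.hB.quad hwb
  have hwbA : wb ∈ Subgroup.centralizer (A : Set G) := by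
    have : wb = wa⁻¹ * (wa * wb) := by group
    rw [this]
    exact mul_mem (inv_mem hwaA) hvC.1
  have hwaB : wa ∈ Subgroup.centralizer (B : Set G) := by
    have : wa = (wa * wb) * wb⁻¹ := by group
    rw [this]
    exact mul_mem hvC.2 (inv_mem hwbB)
  have hwb1 : wb = 1 := by
    by_contra hne1
    apply MinOff.not_comm_le_cent h.hA h.hB h.hBA h.hne
    rw [← zpowers_eq_of_card_prime h.hB.card_comm hwb hne1, Subgroup.zpowers_le]
    exact hwbA
  have hwa1 : wa = 1 := by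
    by_contra hne1
    apply MinOff.not_comm_le_cent h.hB h.hA (MinOff.le_sup_symm h.hA h.hB h.hBA) h.hne.symm
    rw [← zpowers_eq_of_card_prime h.hA.card_comm hwa hne1, Subgroup.zpowers_le]
    exact hwaB
  rw [hwa1, hwb1, mul_one, Subgroup.mem_bot]

theorem N_sup_C (h : Pair p V H A B) :
    ⁅V, A ⊔ B⁆ ⊔ (V ⊓ Subgroup.centralizer ((A ⊔ B : Subgroup G) : Set G)) = V := by
  have hp : p.Prime := Fact.out
  have hle : ⁅V, A ⊔ B⁆ ⊔ (V ⊓ Subgroup.centralizer ((A ⊔ B : Subgroup G) : Set G)) ≤ V :=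
    sup_le h.hNV inf_le_left
  apply Subgroup.eq_of_le_of_card_ge hle
  have h1 := card_sup_mul_inf_abelian h.hA.hVc h.hNV
    (inf_le_left : V ⊓ Subgroup.centralizer ((A ⊔ B : Subgroup G) : Set G) ≤ V)
  rw [h.N_inf_C, Subgroup.card_bot, mul_one, h.cardN] at h1
  rw [h1]
  have h2 := card_sup_mul_inf_abelian h.hA.hVc
    (inf_le_left : V ⊓ Subgroup.centralizer (A : Set G) ≤ V)
    (inf_le_left : V ⊓ Subgroup.centralizer (B : Set G) ≤ V)
  have h3 : (V ⊓ Subgroup.centralizer (A : Set G)) ⊓ (V ⊓ Subgroup.centralizer (B : Set G)) =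
      V ⊓ Subgroup.centralizer ((A ⊔ B : Subgroup G) : Set G) := by
    rw [centralizer_sup_eq]
    exact (inf_inf_distrib_left _ _ _).symm
  rw [h3] at h2
  have h4 : Nat.card ↥((V ⊓ Subgroup.centralizer (A : Set G)) ⊔
      (V ⊓ Subgroup.centralizer (B : Set G))) ≤ Nat.card V :=
    Subgroup.card_le_of_le (sup_le inf_le_left inf_le_left)
  have h5 := h.hA.card_cent
  have h6 := h.hB.card_cent
  have hVpos : 0 < Nat.card V := Nat.card_pos
  set cA := Nat.card ↥(V ⊓ Subgroup.centralizer (A : Set G))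
  set cB := Nat.card ↥(V ⊓ Subgroup.centralizer (B : Set G))
  set cC := Nat.card ↥(V ⊓ Subgroup.centralizer ((A ⊔ B : Subgroup G) : Set G))
  set cS := Nat.card ↥((V ⊓ Subgroup.centralizer (A : Set G)) ⊔
      (V ⊓ Subgroup.centralizer (B : Set G)))
  have h7 : Nat.card V * Nat.card V = p ^ 2 * (cS * cC) := by
    rw [h2, ← h5]
    nth_rewrite 2 [h5]
    rw [← h6]; ring
  have h8 : Nat.card V * Nat.card V ≤ Nat.card V * (p ^ 2 * cC) := by
    rw [h7]
    calc p ^ 2 * (cS * cC) = cS * (p ^ 2 * cC) := by ring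
      _ ≤ Nat.card V * (p ^ 2 * cC) := Nat.mul_le_mul_right _ h4
  exact Nat.le_of_mul_le_mul_left h8 hVpos

end Pair

theorem le_normalizer_centralizer_of_le {X Q : Subgroup G}
    (h : X ≤ Subgroup.normalizer (Q : Set G)) :
    X ≤ Subgroup.normalizer ((Subgroup.centralizer (Q : Set G) : Subgroup G) : Set G) := by
  rw [Subgroup.le_normalizer_iff]
  intro x hx c hc
  rw [Subgroup.mem_centralizer_iff] at hc ⊢
  intro q hq
  have hq' : x⁻¹ * q * x ∈ Q := (Subgroup.mem_normalizer_iff''.mp (h hx) q).mp hq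
  have h1 := hc _ hq'
  calc q * (x * c * x⁻¹) = x * ((x⁻¹ * q * x) * c) * x⁻¹ := by group
    _ = x * (c * (x⁻¹ * q * x)) * x⁻¹ := by rw [h1]
    _ = x * c * x⁻¹ * q := by group

theorem le_normalizer_inf_of_le {X P Q : Subgroup G}
    (h1 : X ≤ Subgroup.normalizer (P : Set G)) (h2 : X ≤ Subgroup.normalizer (Q : Set G)) :
    X ≤ Subgroup.normalizer ((P ⊓ Q : Subgroup G) : Set G) :=
  (le_inf h1 h2).trans Subgroup.inf_normalizer_le_normalizer_inf

theorem MinOff.cent_of_normalizes_card_p [Finite G] {p : ℕ} [Fact p.Prime] {V H A Z : Subgroup G}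
    (hA : MinOff p V H A) (hZV : Z ≤ V) (hcard : Nat.card Z = p)
    (hAZ : A ≤ Subgroup.normalizer (Z : Set G)) : Z ≤ Subgroup.centralizer (A : Set G) := by
  rcases eq_bot_or_eq_of_le_card_prime hA.card_comm
    (inf_le_right : Z ⊓ ⁅V, A⁆ ≤ ⁅V, A⁆) with h | h
  · have h1 : ⁅Z, A⁆ ≤ Z ⊓ ⁅V, A⁆ :=
      le_inf (Cfsg.Agent.Lib.Lead.commutator_le_left_of_le_normalizer Z A hAZ)
        (Subgroup.commutator_mono hZV le_rfl)
    rw [h, le_bot_iff, Subgroup.commutator_eq_bot_iff_le_centralizer] at h1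
    exact h1
  · have h1 : ⁅V, A⁆ ≤ Z := by rw [← h]; exact inf_le_left
    have hZeq : ⁅V, A⁆ = Z := Subgroup.eq_of_le_of_card_ge h1 (by rw [hcard, hA.card_comm])
    rw [← hZeq]
    exact Subgroup.le_centralizer_iff.mp hA.quad

namespace Pair

variable [Finite G] {p : ℕ} [Fact p.Prime] {V H A B : Subgroup G}

theorem irred (h : Pair p V H A B) {Z : Subgroup G} (hZN : Z ≤ ⁅V, A ⊔ B⁆)
    (hZ : A ⊔ B ≤ Subgroup.normalizer (Z : Set G)) : Z = ⊥ ∨ Z = ⁅V, A ⊔ B⁆ := by
  have hp : p.Prime := Fact.out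
  have hdvd : Nat.card Z ∣ p ^ 2 := by
    rw [← h.cardN]; exact Subgroup.card_dvd_of_le hZN
  obtain ⟨k, hk2, hk⟩ := (Nat.dvd_prime_pow hp).mp hdvd
  interval_cases k
  · left
    rw [pow_zero] at hk
    exact Subgroup.card_eq_one.mp hk
  · exfalso
    rw [pow_one] at hk
    have hZV : Z ≤ V := hZN.trans h.hNV
    have h1 := h.hA.cent_of_normalizes_card_p hZV hk (le_sup_left.trans hZ)
    have h2 := h.hB.cent_of_normalizes_card_p hZV hk (le_sup_right.trans hZ)
    have h3 : Z ≤ ⁅V, A ⊔ B⁆ ⊓ (V ⊓ Subgroup.centralizer ((A ⊔ B : Subgroup G) : Set G)) := by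
      refine le_inf hZN (le_inf hZV ?_)
      rw [centralizer_sup_eq]
      exact le_inf h1 h2
    rw [h.N_inf_C, le_bot_iff] at h3
    rw [h3, Subgroup.card_bot] at hk
    exact hp.one_lt.ne hk
  · right
    exact Subgroup.eq_of_le_of_card_ge hZN (by rw [hk, h.cardN])

theorem Q_ne_bot (h : Pair p V H A B) : ⁅ffK p H, A⁆ ≠ ⊥ := by
  intro hb
  have h1 := h.hE
  rw [hb, bot_sup_eq] at h1
  have h2 : B ≤ A := by rw [h1]; exact le_sup_right
  exact h.hne (h.hA.eq_of_le_of_ne_bot h2 h.hB.ne_bot)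

theorem hQE (h : Pair p V H A B) : ⁅ffK p H, A⁆ ≤ A ⊔ B := by
  rw [h.hQ]; exact inf_le_left

theorem hQnorm (h : Pair p V H A B) :
    A ⊔ B ≤ Subgroup.normalizer ((⁅ffK p H, A⁆ : Subgroup G) : Set G) := by
  rw [h.hQ]
  exact le_normalizer_inf_of_le Subgroup.le_normalizer (h.hEH.trans (ffK_normalized H))

theorem N_inf_centQ (h : Pair p V H A B) :
    ⁅V, A ⊔ B⁆ ⊓ Subgroup.centralizer ((⁅ffK p H, A⁆ : Subgroup G) : Set G) = ⊥ := by
  rcases h.irred (inf_le_left : ⁅V, A ⊔ B⁆ ⊓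
      Subgroup.centralizer ((⁅ffK p H, A⁆ : Subgroup G) : Set G) ≤ ⁅V, A ⊔ B⁆)
    (le_normalizer_inf_of_le h.hEN (le_normalizer_centralizer_of_le h.hQnorm)) with h1 | h1
  · exact h1
  · exfalso
    apply h.Q_ne_bot
    have h2 : ⁅V, A ⊔ B⁆ ≤ Subgroup.centralizer ((⁅ffK p H, A⁆ : Subgroup G) : Set G) := by
      rw [← h1]; exact inf_le_right
    rw [Subgroup.le_centralizer_iff] at h2
    rw [eq_bot_iff, ← h.faithful]
    exact le_inf h.hQE h2

theorem centQ_eq (h : Pair p V H A B) :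
    V ⊓ Subgroup.centralizer ((⁅ffK p H, A⁆ : Subgroup G) : Set G) =
      V ⊓ Subgroup.centralizer ((A ⊔ B : Subgroup G) : Set G) := by
  apply le_antisymm
  · intro v hv
    have hvV : v ∈ ⁅V, A ⊔ B⁆ ⊔ (V ⊓ Subgroup.centralizer ((A ⊔ B : Subgroup G) : Set G)) := by
      rw [h.N_sup_C]; exact hv.1
    obtain ⟨n, hn, c, hc, rfl⟩ := mem_sup_of_commute
      (fun d hd m hm => h.hA.hVc d (h.hNV hd) m (Subgroup.mem_inf.mp hm).1) hvV
    have hcQ : c ∈ Subgroup.centralizer ((⁅ffK p H, A⁆ : Subgroup G) : Set G) :=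
      Subgroup.centralizer_le (SetLike.coe_subset_coe.mpr h.hQE) (Subgroup.mem_inf.mp hc).2
    have hnQ : n ∈ ⁅V, A ⊔ B⁆ ⊓ Subgroup.centralizer ((⁅ffK p H, A⁆ : Subgroup G) : Set G) := by
      refine Subgroup.mem_inf.mpr ⟨hn, ?_⟩
      have : n = (n * c) * c⁻¹ := by group
      rw [this]
      exact mul_mem (Subgroup.mem_inf.mp hv).2 (inv_mem hcQ)
    rw [h.N_inf_centQ, Subgroup.mem_bot] at hnQ
    rw [hnQ, one_mul]
    exact hc
  · exact inf_le_inf_left _ (Subgroup.centralizer_le (SetLike.coe_subset_coe.mpr h.hQE))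

end Pair

theorem mem_centralizer_of_conjAut_eq_one {Z : Subgroup G} (g : ↥(Subgroup.normalizer (Z : Set G)))
    (hg : Cfsg.Agent.S0593.conjAut Z (Subgroup.normalizer (Z : Set G)) le_rfl g = 1) :
    (g : G) ∈ Subgroup.centralizer (Z : Set G) := by
  rw [Subgroup.mem_centralizer_iff]
  intro z hz
  have h1 := congrArg (fun f : MulAut ↥Z => ((f ⟨z, hz⟩ : Z) : G)) hg
  simp only [Cfsg.Agent.S0593.conjAut_apply, MulAut.one_apply] at h1
  calc z * (g : G) = ((g : G) * z * (g : G)⁻¹) * (g : G) := by rw [h1]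
    _ = (g : G) * z := by group

theorem comm_cent_of_normalizes_prime [Finite G] {p : ℕ} [Fact p.Prime] {Z : Subgroup G}
    (hcard : Nat.card Z = p) {q₁ q₂ : G} (h1 : q₁ ∈ Subgroup.normalizer (Z : Set G))
    (h2 : q₂ ∈ Subgroup.normalizer (Z : Set G)) :
    ⁅q₁, q₂⁆ ∈ Subgroup.centralizer (Z : Set G) := by
  haveI : IsCyclic ↥Z := isCyclic_of_prime_card hcard
  have hcomm : ∀ α β : MulAut ↥Z, α * β = β * α := by
    intro α β
    apply (IsCyclic.mulAutMulEquiv ↥Z).injective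
    rw [map_mul, map_mul, mul_comm]
  have h3 : Cfsg.Agent.S0593.conjAut Z (Subgroup.normalizer (Z : Set G)) le_rfl
      ⁅(⟨q₁, h1⟩ : ↥(Subgroup.normalizer (Z : Set G))), ⟨q₂, h2⟩⁆ = 1 := by
    rw [map_commutatorElement, commutatorElement_eq_one_iff_mul_comm]
    exact hcomm _ _
  exact mem_centralizer_of_conjAut_eq_one _ h3

theorem cent_of_normalizes_card_two [Finite G] {Z : Subgroup G}
    (hcard : Nat.card Z = 2) {q : G} (hq : q ∈ Subgroup.normalizer (Z : Set G)) :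
    q ∈ Subgroup.centralizer (Z : Set G) := by
  haveI : Fact (Nat.Prime 2) := ⟨Nat.prime_two⟩
  haveI : IsCyclic ↥Z := isCyclic_of_prime_card hcard
  have h1 : Nat.card (MulAut ↥Z) = 1 := by
    rw [IsCyclic.card_mulAut, hcard, Nat.totient_two]
  haveI : Subsingleton (MulAut ↥Z) := (Nat.card_eq_one_iff_unique.mp h1).1
  exact mem_centralizer_of_conjAut_eq_one ⟨q, hq⟩ (Subsingleton.elim _ _)

namespace Pair

variable [Finite G] {p : ℕ} [Fact p.Prime] {V H A B : Subgroup G}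

theorem irredQ (h : Pair p V H A B) {Z : Subgroup G} (hZN : Z ≤ ⁅V, A ⊔ B⁆)
    (hZ : ⁅ffK p H, A⁆ ≤ Subgroup.normalizer (Z : Set G)) : Z = ⊥ ∨ Z = ⁅V, A ⊔ B⁆ := by
  have hp : p.Prime := Fact.out
  have hdvd : Nat.card Z ∣ p ^ 2 := by
    rw [← h.cardN]; exact Subgroup.card_dvd_of_le hZN
  obtain ⟨k, hk2, hk⟩ := (Nat.dvd_prime_pow hp).mp hdvd
  interval_cases k
  · left
    rw [pow_zero] at hk
    exact Subgroup.card_eq_one.mp hk
  · exfalso
    rw [pow_one] at hk
    have hZne : Z ≠ ⊥ := by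
      intro hb
      rw [hb, Subgroup.card_bot] at hk
      exact hp.one_lt.ne hk
    have hZneN : Z ≠ ⁅V, A ⊔ B⁆ := by
      intro hb
      rw [hb, h.cardN] at hk
      have : p ^ 2 = p ^ 1 := by rw [pow_one]; exact hk
      exact absurd (Nat.pow_right_injective hp.two_le this) (by norm_num)
    by_cases hAZ : A ≤ Subgroup.normalizer (Z : Set G)
    · have h1 : A ⊔ B ≤ Subgroup.normalizer (Z : Set G) := by
        rw [← h.hE]; exact sup_le hZ hAZ
      rcases h.irred hZN h1 with h2 | h2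
      · exact hZne h2
      · exact hZneN h2
    · obtain ⟨a, haA, haZ⟩ := SetLike.not_le_iff_exists.mp hAZ
      have haE : a ∈ A ⊔ B := le_sup_left (a := A) haA
      have hZ'N : Z.map (MulAut.conj a).toMonoidHom ≤ ⁅V, A ⊔ B⁆ := by
        rintro _ ⟨z, hz, rfl⟩
        exact (Subgroup.le_normalizer_iff.mp h.hEN) a haE z (hZN hz)
      have hZ'Q : ⁅ffK p H, A⁆ ≤
          Subgroup.normalizer ((Z.map (MulAut.conj a).toMonoidHom : Subgroup G) : Set G) := by
        rw [Subgroup.le_normalizer_iff]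
        rintro q hq _ ⟨z, hz, rfl⟩
        have hq' : a⁻¹ * q * a ∈ ⁅ffK p H, A⁆ :=
          (Subgroup.mem_normalizer_iff''.mp (h.hQnorm haE) q).mp hq
        have h1 : (a⁻¹ * q * a) * z * (a⁻¹ * q * a)⁻¹ ∈ Z :=
          (Subgroup.le_normalizer_iff.mp hZ) _ hq' z hz
        refine ⟨_, h1, ?_⟩
        show a * ((a⁻¹ * q * a) * z * (a⁻¹ * q * a)⁻¹) * a⁻¹ = q * (a * z * a⁻¹) * q⁻¹
        group
      have hZ'ne : Z.map (MulAut.conj a).toMonoidHom ≠ Z := by
        intro heq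
        apply haZ
        rw [Subgroup.mem_normalizer_iff_map_conj_eq]
        exact heq
      have hZ'card : Nat.card ↥(Z.map (MulAut.conj a).toMonoidHom) = p := by
        rw [card_map_conj, hk]
      have hinf : Z ⊓ Z.map (MulAut.conj a).toMonoidHom = ⊥ := by
        rcases eq_bot_or_eq_of_le_card_prime hk
          (inf_le_left : Z ⊓ Z.map (MulAut.conj a).toMonoidHom ≤ Z) with h1 | h1
        · exact h1
        · exfalso
          apply hZ'ne
          symm
          apply Subgroup.eq_of_le_of_card_ge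
          · have h2 : Z ⊓ Z.map (MulAut.conj a).toMonoidHom ≤
                Z.map (MulAut.conj a).toMonoidHom := inf_le_right
            rwa [h1] at h2
          · rw [hZ'card, hk]
      have hsup : Z ⊔ Z.map (MulAut.conj a).toMonoidHom = ⁅V, A ⊔ B⁆ := by
        apply Subgroup.eq_of_le_of_card_ge (sup_le hZN hZ'N)
        have h1 := card_sup_mul_inf_abelian h.hA.hVc (hZN.trans h.hNV) (hZ'N.trans h.hNV)
        rw [hinf, Subgroup.card_bot, mul_one, hk, hZ'card] at h1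
        rw [h1, h.cardN, pow_two]
      have key : ∀ g ∈ A ⊔ B, g ∈ Subgroup.centralizer (Z : Set G) →
          g ∈ Subgroup.centralizer ((Z.map (MulAut.conj a).toMonoidHom : Subgroup G) : Set G) →
          g = 1 := by
        intro g hgE h1 h2
        have h3 : g ∈ (A ⊔ B) ⊓ Subgroup.centralizer ((⁅V, A ⊔ B⁆ : Subgroup G) : Set G) := by
          refine Subgroup.mem_inf.mpr ⟨hgE, ?_⟩
          rw [← hsup, centralizer_sup_eq]
          exact ⟨h1, h2⟩
        rw [h.faithful, Subgroup.mem_bot] at h3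
        exact h3
      rcases MinOff.prime_two_or_three h.hA h.hB h.hBA h.hne with h23 | h23
      · subst h23
        apply h.Q_ne_bot
        rw [eq_bot_iff]
        intro q hq
        rw [Subgroup.mem_bot]
        exact key q (h.hQE hq) (cent_of_normalizes_card_two hk (hZ hq))
          (cent_of_normalizes_card_two hZ'card (hZ'Q hq))
      · subst h23
        apply (Cfsg.Agent.S0614.nonabelian_aux h.hA).2
        refine ⟨⟨fun u v => ?_⟩⟩
        have huv : ⁅(u : G), (v : G)⁆ ∈ ⁅ffK 3 H, A⁆ := by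
          rw [commutatorElement_def]
          exact mul_mem (mul_mem (mul_mem u.2 v.2) (inv_mem u.2)) (inv_mem v.2)
        have h1 := key ⁅(u : G), (v : G)⁆ (h.hQE huv)
          (comm_cent_of_normalizes_prime hk (hZ u.2) (hZ v.2))
          (comm_cent_of_normalizes_prime hZ'card (hZ'Q u.2) (hZ'Q v.2))
        rw [commutatorElement_eq_one_iff_mul_comm] at h1
        exact Subtype.ext h1
  · right
    exact Subgroup.eq_of_le_of_card_ge hZN (by rw [hk, h.cardN])

end Pair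

end FF6

end Cfsg.Agent.Lib.Helper5
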