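import Mathlib
import Cfsg.Agent.Lib.Helper5.FF6

set_option autoImplicit false

namespace Cfsg.Agent.Lib.Helper5

open scoped commutatorElement Pointwise
open Cfsg.Agent.S0592

section FF7a

theorem exists_hom_of_finrank_two_set {K : Type*} [Field K] {Γ : Type*} [Group Γ] {V : Type*}
    [AddCommGroup V] [Module K V] [FiniteDimensional K V]
    (h2 : Module.finrank K V = 2) (ρ : Γ →* (V →ₗ[K] V)) (S : Set Γ)
    (hgen : Subgroup.closure S = (⊤ : Subgroup Γ))
    (hS : ∀ z ∈ S, ∀ w, ρ z (ρ z w - w) = ρ z w - w) :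
    ∃ φ : Γ →* Matrix.SpecialLinearGroup (Fin 2) K, ∀ g : Γ, φ g = 1 → ρ g = 1 := by
  classical
  let b : Module.Basis (Fin 2) K V := Module.finBasisOfFinrankEq K V h2
  let M : Γ →* Matrix (Fin 2) (Fin 2) K :=
    ((LinearMap.toMatrixAlgEquiv b : (V →ₗ[K] V) ≃ₐ[K] Matrix (Fin 2) (Fin 2) K) :
      (V →ₗ[K] V) →* Matrix (Fin 2) (Fin 2) K).comp ρ
  have hMapp : ∀ g, M g = LinearMap.toMatrixAlgEquiv b (ρ g) := fun g => rfl
  have hquad : ∀ z : Γ, (∀ w, ρ z (ρ z w - w) = ρ z w - w) → (M z).det = 1 := by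
    intro z hz
    have hN : (ρ z - 1) * (ρ z - 1) = 0 := by
      ext w
      simp only [Module.End.mul_apply, LinearMap.sub_apply, Module.End.one_apply,
        LinearMap.zero_apply]
      rw [hz w, sub_self]
    have hN' : (M z - 1) * (M z - 1) = 0 := by
      have := congrArg (LinearMap.toMatrixAlgEquiv b) hN
      rw [map_mul, map_sub, map_one, map_zero] at this
      exact this
    have := det_one_add_of_sq_zero _ hN'
    rwa [add_sub_cancel] at this
  have hdet : ∀ g : Γ, (M g).det = 1 := by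
    have hd : (Matrix.detMonoidHom.comp M : Γ →* K) = 1 := by
      apply MonoidHom.eq_of_eqOn_dense hgen
      intro z hz
      exact hquad _ (hS z hz)
    intro g
    have := congrArg (fun f : Γ →* K => f g) hd
    exact this
  let φ : Γ →* Matrix.SpecialLinearGroup (Fin 2) K :=
    { toFun := fun g => ⟨M g, hdet g⟩
      map_one' := Subtype.ext (map_one M)
      map_mul' := fun g h => Subtype.ext (map_mul M g h) }
  refine ⟨φ, fun g hg => ?_⟩
  have h1 : M g = 1 := congrArg Subtype.val hg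
  rw [hMapp] at h1
  have h3 : LinearMap.toMatrixAlgEquiv b (ρ g) = LinearMap.toMatrixAlgEquiv b 1 := by
    rw [h1, map_one]
  exact (LinearMap.toMatrixAlgEquiv b).injective h3

theorem lemC_set {p : ℕ} [Fact p.Prime] {Γ : Type*} [Group Γ] [Finite Γ] {E : Type*} [CommGroup E]
    [Finite E] [Module (ZMod p) (Additive E)] (hcard : Nat.card E = p ^ 2)
    (α : Γ →* MulAut E) (hα : Function.Injective α) (S : Set Γ)
    (hgen : Subgroup.closure S = (⊤ : Subgroup Γ))
    (hS : ∀ x ∈ S, ∀ v : E, α x (α x v / v) = α x v / v) :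
    ∃ φ : Γ →* Matrix.SpecialLinearGroup (Fin 2) (ZMod p), Function.Injective φ := by
  have hp : p.Prime := Fact.out
  have key : ∀ (g : Γ) (v : Additive E),
      (AddMonoidHom.toZModLinearMap p (MonoidHom.toAdditive (α g).toMonoidHom) :
        Additive E →ₗ[ZMod p] Additive E) v =
        Additive.ofMul (α g (Additive.toMul v)) := fun g v => rfl
  let ρ₀ : Γ →* Module.End (ZMod p) (Additive E) :=
    { toFun := fun g => (MonoidHom.toAdditive (α g).toMonoidHom).toZModLinearMap p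
      map_one' := by
        apply LinearMap.ext
        intro v
        rw [key, Module.End.one_apply, map_one]
        rfl
      map_mul' := by
        intro g h
        apply LinearMap.ext
        intro v
        rw [Module.End.mul_apply, key, key, key, map_mul]
        rfl }
  have hρ₀ : ∀ g v, ρ₀ g v = Additive.ofMul (α g v.toMul) := fun g v => rfl
  have hinj : Function.Injective ρ₀ := by
    intro g h hgh
    apply hα
    ext v
    have := congrArg (fun f : Module.End (ZMod p) (Additive E) => (f (Additive.ofMul v)).toMul) hgh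
    exact this
  have hfr : Module.finrank (ZMod p) (Additive E) = 2 := by
    have h1 := Module.natCard_eq_pow_finrank (K := ZMod p) (V := Additive E)
    have h2 : Nat.card (Additive E) = p ^ 2 := hcard
    rw [h2, Nat.card_zmod] at h1
    exact (Nat.pow_right_injective hp.two_le h1).symm
  haveI : Finite (Additive E) := (inferInstance : Finite E)
  haveI : FiniteDimensional (ZMod p) (Additive E) := inferInstance
  obtain ⟨φ, hφ⟩ := exists_hom_of_finrank_two_set hfr ρ₀ S hgen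
    (fun x hx w => by
      show Additive.ofMul (α x (α x w.toMul / w.toMul)) = Additive.ofMul (α x w.toMul / w.toMul)
      rw [hS x hx])
  refine ⟨φ, ?_⟩
  rw [injective_iff_map_eq_one]
  intro g hg
  have := hφ g hg
  rw [← map_one ρ₀] at this
  exact hinj this

theorem card_le_sl2_abs {p : ℕ} [Fact p.Prime] {Γ : Type*} [Group Γ] [Finite Γ] {E : Type*}
    [CommGroup E] [Finite E] [Module (ZMod p) (Additive E)] (hcard : Nat.card E = p ^ 2)
    (α : Γ →* MulAut E) (hα : Function.Injective α) (S : Set Γ)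
    (hgen : Subgroup.closure S = (⊤ : Subgroup Γ))
    (hS : ∀ x ∈ S, ∀ v : E, α x (α x v / v) = α x v / v) :
    Nat.card Γ ≤ Nat.card (Matrix.SpecialLinearGroup (Fin 2) (ZMod p)) := by
  obtain ⟨φ, hφ⟩ := lemC_set hcard α hα S hgen hS
  exact Nat.card_le_card_of_injective φ hφ

theorem card_le_sl2_of_quad_gen {G : Type*} [Group G] [Finite G] {p : ℕ} [Fact p.Prime]
    {V : Subgroup G} (hV : Cfsg.IsElementaryAbelian p V) (L N : Subgroup G) (hNV : N ≤ V)
    (hLN : L ≤ Subgroup.normalizer (N : Set G)) (hcard : Nat.card N = p ^ 2)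
    (hfaith : L ⊓ Subgroup.centralizer (N : Set G) = ⊥)
    (hgen : L ≤ Subgroup.closure
      {g | g ∈ L ∧ ⁅⁅V, Subgroup.zpowers g⁆, Subgroup.zpowers g⁆ = ⊥}) :
    Nat.card L ≤ Nat.card (Matrix.SpecialLinearGroup (Fin 2) (ZMod p)) := by
  have hinj := conjAut_injective N L hLN hfaith
  have hgen' : Subgroup.closure
      {g : ↥L | ⁅⁅V, Subgroup.zpowers (g : G)⁆, Subgroup.zpowers (g : G)⁆ = ⊥} = ⊤ := by
    apply Subgroup.map_injective L.subtype_injective
    rw [MonoidHom.map_closure, ← MonoidHom.range_eq_map, Subgroup.range_subtype]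
    apply le_antisymm
    · rw [Subgroup.closure_le]
      rintro _ ⟨g, -, rfl⟩
      exact g.2
    · refine hgen.trans (Subgroup.closure_mono ?_)
      rintro g ⟨hgL, hgq⟩
      exact ⟨⟨g, hgL⟩, hgq, rfl⟩
  have hq : ∀ x ∈ {g : ↥L | ⁅⁅V, Subgroup.zpowers (g : G)⁆, Subgroup.zpowers (g : G)⁆ = ⊥},
      ∀ v : ↥N, Cfsg.Agent.S0593.conjAut N L hLN x (Cfsg.Agent.S0593.conjAut N L hLN x v / v) =
        Cfsg.Agent.S0593.conjAut N L hLN x v / v := by
    intro x hx v
    exact conjAut_quad V N L hNV hLN (x : G) x.2 hx v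
  have hE : ∀ v : ↥N, v ^ p = 1 := by
    intro v
    apply Subtype.ext
    rw [Subgroup.coe_pow, Subgroup.coe_one]
    exact hV.2 v (hNV v.2)
  letI : CommGroup ↥N := { (inferInstance : Group ↥N) with
    mul_comm := fun u v => Subtype.ext
      (congrArg Subtype.val (hV.1.is_comm.comm (⟨u, hNV u.2⟩ : ↥V) ⟨v, hNV v.2⟩) :) }
  letI : Module (ZMod p) (Additive ↥N) := AddCommGroup.zmodModule (n := p) (by
    intro v
    show Additive.ofMul (v.toMul ^ p) = 0
    rw [hE]; rfl)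
  exact card_le_sl2_abs hcard (Cfsg.Agent.S0593.conjAut N L hLN) hinj _ hgen' hq

end FF7a

section FF7b

variable {G : Type*} [Group G]

abbrev ffE (p : ℕ) (H A : Subgroup G) : Subgroup G := ⁅ffK p H, A⁆ ⊔ A

abbrev ffN (p : ℕ) (V H A : Subgroup G) : Subgroup G := ⁅V, ffE p H A⁆

abbrev ffC (p : ℕ) (V H A : Subgroup G) : Subgroup G :=
  V ⊓ Subgroup.centralizer ((ffE p H A : Subgroup G) : Set G)

namespace MinOff

variable [Finite G] {p : ℕ} [Fact p.Prime] {V H A D : Subgroup G}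

theorem E_le (hA : MinOff p V H A) : ffE p H A ≤ H :=
  sup_le (hA.comm_ffK_le.trans (ffK_le H)) hA.hAH

theorem N_le (hA : MinOff p V H A) : ffN p V H A ≤ V :=
  Cfsg.Agent.Lib.Lead.commutator_le_left_of_le_normalizer V _ (hA.E_le.trans hA.hHV)

theorem E_norm_N (hA : MinOff p V H A) :
    ffE p H A ≤ Subgroup.normalizer ((ffN p V H A : Subgroup G) : Set G) :=
  Cfsg.Agent.Lib.Lead.right_le_normalizer_commutator V _ (hA.E_le.trans hA.hHV)

theorem cardN (hA : MinOff p V H A) : Nat.card ↥(ffN p V H A) = p ^ 2 := by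
  obtain ⟨B, hP⟩ := hA.exists_pair
  show Nat.card ↥(⁅V, ⁅ffK p H, A⁆ ⊔ A⁆) = p ^ 2
  rw [hP.hE]; exact hP.cardN

theorem faithfulE (hA : MinOff p V H A) :
    ffE p H A ⊓ Subgroup.centralizer ((ffN p V H A : Subgroup G) : Set G) = ⊥ := by
  obtain ⟨B, hP⟩ := hA.exists_pair
  show (⁅ffK p H, A⁆ ⊔ A) ⊓ Subgroup.centralizer ((⁅V, ⁅ffK p H, A⁆ ⊔ A⁆ : Subgroup G) : Set G) = ⊥
  rw [hP.hE]; exact hP.faithful

theorem N_inf_C (hA : MinOff p V H A) : ffN p V H A ⊓ ffC p V H A = ⊥ := by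
  obtain ⟨B, hP⟩ := hA.exists_pair
  show ⁅V, ⁅ffK p H, A⁆ ⊔ A⁆ ⊓
    (V ⊓ Subgroup.centralizer ((⁅ffK p H, A⁆ ⊔ A : Subgroup G) : Set G)) = ⊥
  rw [hP.hE]; exact hP.N_inf_C

theorem N_sup_C (hA : MinOff p V H A) : ffN p V H A ⊔ ffC p V H A = V := by
  obtain ⟨B, hP⟩ := hA.exists_pair
  show ⁅V, ⁅ffK p H, A⁆ ⊔ A⁆ ⊔
    (V ⊓ Subgroup.centralizer ((⁅ffK p H, A⁆ ⊔ A : Subgroup G) : Set G)) = V
  rw [hP.hE]; exact hP.N_sup_C

theorem irredQ (hA : MinOff p V H A) {Z : Subgroup G} (hZN : Z ≤ ffN p V H A)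
    (hZ : ⁅ffK p H, A⁆ ≤ Subgroup.normalizer (Z : Set G)) : Z = ⊥ ∨ Z = ffN p V H A := by
  obtain ⟨B, hP⟩ := hA.exists_pair
  have hZN' : Z ≤ ⁅V, ⁅ffK p H, A⁆ ⊔ A⁆ := hZN
  show Z = ⊥ ∨ Z = ⁅V, ⁅ffK p H, A⁆ ⊔ A⁆
  rw [hP.hE] at hZN' ⊢
  exact hP.irredQ hZN' hZ

theorem centQ_eq (hA : MinOff p V H A) :
    V ⊓ Subgroup.centralizer ((⁅ffK p H, A⁆ : Subgroup G) : Set G) = ffC p V H A := by
  obtain ⟨B, hP⟩ := hA.exists_pair
  show V ⊓ Subgroup.centralizer ((⁅ffK p H, A⁆ : Subgroup G) : Set G) =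
    V ⊓ Subgroup.centralizer ((⁅ffK p H, A⁆ ⊔ A : Subgroup G) : Set G)
  rw [hP.hE]; exact hP.centQ_eq

theorem isoE (hA : MinOff p V H A) :
    Nonempty (↥(ffE p H A) ≃* Matrix.SpecialLinearGroup (Fin 2) (ZMod p)) := by
  obtain ⟨B, hP⟩ := hA.exists_pair
  show Nonempty (↥(⁅ffK p H, A⁆ ⊔ A) ≃* Matrix.SpecialLinearGroup (Fin 2) (ZMod p))
  rw [hP.hE]; exact MinOff.pair_iso hP.hA hP.hB hP.hBA hP.hne

theorem p23 (hA : MinOff p V H A) : p = 2 ∨ p = 3 := by
  obtain ⟨B, hP⟩ := hA.exists_pair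
  exact MinOff.prime_two_or_three hP.hA hP.hB hP.hBA hP.hne

theorem cardE (hA : MinOff p V H A) :
    Nat.card ↥(ffE p H A) = Nat.card (Matrix.SpecialLinearGroup (Fin 2) (ZMod p)) := by
  obtain ⟨iso⟩ := hA.isoE
  exact Nat.card_congr iso.toEquiv

theorem quad_of_mem (hA : MinOff p V H A) {g : G} (hg : g ∈ A) :
    ⁅⁅V, Subgroup.zpowers g⁆, Subgroup.zpowers g⁆ = ⊥ := by
  have h1 : ⁅⁅V, A⁆, A⁆ = ⊥ := by
    rw [Subgroup.commutator_eq_bot_iff_le_centralizer]
    exact Subgroup.le_centralizer_iff.mp hA.quad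
  rw [eq_bot_iff, ← h1]
  have hz : Subgroup.zpowers g ≤ A := Subgroup.zpowers_le.mpr hg
  exact Subgroup.commutator_mono (Subgroup.commutator_mono le_rfl hz) hz

theorem E_quad_gen (hA : MinOff p V H A) :
    ffE p H A ≤ Subgroup.closure
      {g | g ∈ ffE p H A ∧ ⁅⁅V, Subgroup.zpowers g⁆, Subgroup.zpowers g⁆ = ⊥} := by
  obtain ⟨B, hP⟩ := hA.exists_pair
  show ⁅ffK p H, A⁆ ⊔ A ≤ Subgroup.closure
      {g | g ∈ ⁅ffK p H, A⁆ ⊔ A ∧ ⁅⁅V, Subgroup.zpowers g⁆, Subgroup.zpowers g⁆ = ⊥}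
  rw [hP.hE]
  apply sup_le
  · intro g hg
    exact Subgroup.subset_closure ⟨le_sup_left (a := A) hg, hP.hA.quad_of_mem hg⟩
  · intro g hg
    exact Subgroup.subset_closure ⟨le_sup_right (a := A) hg, hP.hB.quad_of_mem hg⟩

theorem K_norm_Q (hA : MinOff p V H A) :
    ffK p H ≤ Subgroup.normalizer ((⁅ffK p H, A⁆ : Subgroup G) : Set G) :=
  Cfsg.Agent.Lib.Lead.left_le_normalizer_commutator _ _

theorem K_norm_E (hA : MinOff p V H A) :
    ffK p H ≤ Subgroup.normalizer ((ffE p H A : Subgroup G) : Set G) := by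
  rw [Subgroup.le_normalizer_iff]
  intro k hk e he
  have h1 : (ffE p H A).map (MulAut.conj k).toMonoidHom ≤ ffE p H A := by
    show (⁅ffK p H, A⁆ ⊔ A).map (MulAut.conj k).toMonoidHom ≤ ffE p H A
    rw [Subgroup.map_sup, map_conj_self_of_mem_normalizer (hA.K_norm_Q hk)]
    apply sup_le le_sup_left
    rintro _ ⟨a, ha, rfl⟩
    show k * a * k⁻¹ ∈ ⁅ffK p H, A⁆ ⊔ A
    have h1 : k * a * k⁻¹ = ⁅k, a⁆ * a := by rw [commutatorElement_def]; group
    rw [h1]
    exact Subgroup.mul_mem_sup (Subgroup.commutator_mem_commutator hk ha) ha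
  exact h1 ⟨e, he, rfl⟩

theorem K_norm_N (hA : MinOff p V H A) :
    ffK p H ≤ Subgroup.normalizer ((ffN p V H A : Subgroup G) : Set G) :=
  Cfsg.Agent.Lib.Lead.le_normalizer_commutator _ _ _ ((ffK_le H).trans hA.hHV) hA.K_norm_E

theorem K_norm_C (hA : MinOff p V H A) :
    ffK p H ≤ Subgroup.normalizer ((ffC p V H A : Subgroup G) : Set G) :=
  le_normalizer_inf_of_le ((ffK_le H).trans hA.hHV) (le_normalizer_centralizer_of_le hA.K_norm_E)

theorem Q_le_E (hA : MinOff p V H A) : ⁅ffK p H, A⁆ ≤ ffE p H A := le_sup_left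

theorem A_le_E (hA : MinOff p V H A) : A ≤ ffE p H A := le_sup_right

theorem E_le_cent_C (hA : MinOff p V H A) :
    ffE p H A ≤ Subgroup.centralizer ((ffC p V H A : Subgroup G) : Set G) := by
  rw [Subgroup.le_centralizer_iff]
  exact inf_le_right

theorem dich (hA : MinOff p V H A) (hD : MinOff p V H D) :
    ffE p H A = ffE p H D ∨
      (ffN p V H A ⊓ ffN p V H D = ⊥ ∧
        ⁅ffK p H, D⁆ ≤ Subgroup.centralizer ((ffN p V H A : Subgroup G) : Set G) ∧
        ⁅ffK p H, A⁆ ≤ Subgroup.centralizer ((ffN p V H D : Subgroup G) : Set G)) := by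
  have hQA_K : ⁅ffK p H, A⁆ ≤ ffK p H := hA.comm_ffK_le
  have hQD_K : ⁅ffK p H, D⁆ ≤ ffK p H := hD.comm_ffK_le
  have hI : ⁅ffK p H, A⁆ ≤ Subgroup.normalizer ((ffN p V H A ⊓ ffN p V H D : Subgroup G) : Set G) :=
    le_normalizer_inf_of_le (hQA_K.trans hA.K_norm_N) (hQA_K.trans hD.K_norm_N)
  rcases hA.irredQ inf_le_left hI with h0 | h0
  · right
    refine ⟨h0, ?_, ?_⟩
    · have h1 : ⁅ffN p V H A, ⁅ffK p H, D⁆⁆ ≤ ffN p V H A ⊓ ffN p V H D :=
        le_inf (Cfsg.Agent.Lib.Lead.commutator_le_left_of_le_normalizer _ _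
          (hQD_K.trans hA.K_norm_N)) (Subgroup.commutator_mono hA.N_le hD.Q_le_E)
      rw [h0, le_bot_iff, Subgroup.commutator_eq_bot_iff_le_centralizer] at h1
      exact Subgroup.le_centralizer_iff.mp h1
    · have h1 : ⁅ffN p V H D, ⁅ffK p H, A⁆⁆ ≤ ffN p V H A ⊓ ffN p V H D :=
        le_inf (Subgroup.commutator_mono hD.N_le hA.Q_le_E)
          (Cfsg.Agent.Lib.Lead.commutator_le_left_of_le_normalizer _ _
          (hQA_K.trans hD.K_norm_N))
      rw [h0, le_bot_iff, Subgroup.commutator_eq_bot_iff_le_centralizer] at h1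
      exact Subgroup.le_centralizer_iff.mp h1
  · left
    have hNle : ffN p V H A ≤ ffN p V H D := by
      have : ffN p V H A ⊓ ffN p V H D ≤ ffN p V H D := inf_le_right
      rwa [h0] at this
    have hNeq : ffN p V H A = ffN p V H D :=
      Subgroup.eq_of_le_of_card_ge hNle (by rw [hA.cardN, hD.cardN])
    have hCAD : ffC p V H A ≤ ffC p V H D := by
      have h1 : ⁅ffC p V H A, ⁅ffK p H, D⁆⁆ ≤ ffN p V H A ⊓ ffC p V H A := by
        refine le_inf ?_ (Cfsg.Agent.Lib.Lead.commutator_le_left_of_le_normalizer _ _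
          (hQD_K.trans hA.K_norm_C))
        rw [hNeq]
        exact Subgroup.commutator_mono inf_le_left hD.Q_le_E
      rw [hA.N_inf_C, le_bot_iff, Subgroup.commutator_eq_bot_iff_le_centralizer] at h1
      rw [← hD.centQ_eq]
      exact le_inf inf_le_left h1
    have hCDA : ffC p V H D ≤ ffC p V H A := by
      have h1 : ⁅ffC p V H D, ⁅ffK p H, A⁆⁆ ≤ ffN p V H D ⊓ ffC p V H D := by
        refine le_inf ?_ (Cfsg.Agent.Lib.Lead.commutator_le_left_of_le_normalizer _ _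
          (hQA_K.trans hD.K_norm_C))
        rw [← hNeq]
        exact Subgroup.commutator_mono inf_le_left hA.Q_le_E
      rw [hD.N_inf_C, le_bot_iff, Subgroup.commutator_eq_bot_iff_le_centralizer] at h1
      rw [← hA.centQ_eq]
      exact le_inf inf_le_left h1
    have hCeq : ffC p V H A = ffC p V H D := le_antisymm hCAD hCDA
    have hLN : ffE p H A ⊔ ffE p H D ≤
        Subgroup.normalizer ((ffN p V H A : Subgroup G) : Set G) := by
      apply sup_le hA.E_norm_N
      rw [hNeq]; exact hD.E_norm_N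
    have hLC : ffE p H A ⊔ ffE p H D ≤
        Subgroup.centralizer ((ffC p V H A : Subgroup G) : Set G) := by
      apply sup_le hA.E_le_cent_C
      rw [hCeq]; exact hD.E_le_cent_C
    have hLH : ffE p H A ⊔ ffE p H D ≤ H := sup_le hA.E_le hD.E_le
    have hfaith : (ffE p H A ⊔ ffE p H D) ⊓
        Subgroup.centralizer ((ffN p V H A : Subgroup G) : Set G) = ⊥ := by
      rw [eq_bot_iff, ← hA.hf]
      intro g hg
      refine Subgroup.mem_inf.mpr ⟨hLH hg.1, ?_⟩
      rw [← hA.N_sup_C, centralizer_sup_eq]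
      exact ⟨hg.2, hLC hg.1⟩
    have hgen : ffE p H A ⊔ ffE p H D ≤ Subgroup.closure
        {g | g ∈ ffE p H A ⊔ ffE p H D ∧ ⁅⁅V, Subgroup.zpowers g⁆, Subgroup.zpowers g⁆ = ⊥} := by
      apply sup_le
      · refine hA.E_quad_gen.trans (Subgroup.closure_mono ?_)
        rintro g ⟨hg1, hg2⟩
        exact ⟨le_sup_left (a := ffE p H A) hg1, hg2⟩
      · refine hD.E_quad_gen.trans (Subgroup.closure_mono ?_)
        rintro g ⟨hg1, hg2⟩
        exact ⟨le_sup_right (a := ffE p H A) hg1, hg2⟩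
    have hcard := card_le_sl2_of_quad_gen hA.hV _ _ hA.N_le hLN hA.cardN hfaith hgen
    have e1 : ffE p H A = ffE p H A ⊔ ffE p H D :=
      Subgroup.eq_of_le_of_card_ge le_sup_left (by rw [hA.cardE]; exact hcard)
    have e2 : ffE p H D = ffE p H A ⊔ ffE p H D :=
      Subgroup.eq_of_le_of_card_ge le_sup_right (by rw [hD.cardE]; exact hcard)
    exact e1.trans e2.symm

end MinOff

structure FFSetup (p : ℕ) (V H : Subgroup G) : Prop where
  hgen : ∀ X : Subgroup G, (∀ D, MinOff p V H D → D ≤ X) → H ≤ X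

theorem FFSetup.of_hyp [Finite G] {p : ℕ} [Fact p.Prime] {V H : Subgroup G}
    (hV : Cfsg.IsElementaryAbelian p V) (hHV : H ≤ Subgroup.normalizer (V : Set G))
    (hf : H ⊓ Subgroup.centralizer (V : Set G) = ⊥)
    (hS1 : Subgroup.centralizer (Cfsg.pPrimeCore p ↥H : Set ↥H) ≤ Cfsg.pPrimeCore p ↥H)
    (hS3 : H = ⨆ A : {A : Subgroup G // A ≤ H ∧ Cfsg.IsBestOffenderOn p V A}, (A : Subgroup G)) :
    FFSetup p V H := by
  refine ⟨fun X hX => hS3.le.trans (iSup_le ?_)⟩
  rintro ⟨A, hAH, hA⟩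
  obtain ⟨k, B, hB, -, hsup⟩ := exists_decomp hV hHV hf hS1 (Nat.card A) A rfl hAH hA
  show A ≤ X
  rw [← hsup]
  apply iSup_le
  intro i
  exact hX (B i) ⟨hV, hHV, hf, hS1, (hB i).1.trans hAH, (hB i).2.1, (hB i).2.2.1, (hB i).2.2.2⟩

namespace MinOff

variable [Finite G] {p : ℕ} [Fact p.Prime] {V H A D : Subgroup G}

theorem H_norm_E (hS : FFSetup p V H) (hA : MinOff p V H A) :
    H ≤ Subgroup.normalizer ((ffE p H A : Subgroup G) : Set G) := by
  have hp : p.Prime := Fact.out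
  apply hS.hgen
  intro D hD d hd
  have hdH : d ∈ H := hD.hAH hd
  have hA' := hA.conj hdH
  have hE' : ffE p H (A.map (MulAut.conj d).toMonoidHom) =
      (ffE p H A).map (MulAut.conj d).toMonoidHom := by
    show ⁅ffK p H, A.map (MulAut.conj d).toMonoidHom⁆ ⊔ A.map (MulAut.conj d).toMonoidHom =
      (⁅ffK p H, A⁆ ⊔ A).map (MulAut.conj d).toMonoidHom
    rw [Subgroup.map_sup, Subgroup.map_commutator,
      map_conj_self_of_mem_normalizer (ffK_normalized H hdH)]
  have hN' : ffN p V H (A.map (MulAut.conj d).toMonoidHom) =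
      (ffN p V H A).map (MulAut.conj d).toMonoidHom := by
    show ⁅V, ffE p H (A.map (MulAut.conj d).toMonoidHom)⁆ = _
    rw [hE', commutator_map_conj (hA.hHV hdH)]
  rcases dich hA hA' with h | ⟨h0, -, -⟩
  · rw [Subgroup.mem_normalizer_iff_map_conj_eq]
    rw [hE'] at h
    exact h.symm
  · exfalso
    rw [hN'] at h0
    have h1 : ffN p V H A ⊓ (V ⊓ Subgroup.centralizer (D : Set G)) = ⊥ := by
      rw [eq_bot_iff, ← h0]
      intro n hn
      obtain ⟨hn1, hn2, hn3⟩ := hn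
      refine Subgroup.mem_inf.mpr ⟨hn1, n, hn1, ?_⟩
      show d * n * d⁻¹ = n
      have := (Subgroup.mem_centralizer_iff.mp hn3) d hd
      rw [this]; group
    have h2 := card_sup_mul_inf_abelian hA.hVc hA.N_le
      (inf_le_left : V ⊓ Subgroup.centralizer (D : Set G) ≤ V)
    rw [h1, Subgroup.card_bot, mul_one, hA.cardN] at h2
    have h3 : Nat.card ↥(ffN p V H A ⊔ (V ⊓ Subgroup.centralizer (D : Set G))) ≤ Nat.card V :=
      Subgroup.card_le_of_le (sup_le hA.N_le inf_le_left)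
    rw [h2, ← hD.card_cent] at h3
    have hc : 0 < Nat.card ↥(V ⊓ Subgroup.centralizer (D : Set G)) := Nat.card_pos
    have h4 : p ^ 2 ≤ p := Nat.le_of_mul_le_mul_right h3 hc
    nlinarith [hp.two_le]

theorem H_norm_N (hS : FFSetup p V H) (hA : MinOff p V H A) :
    H ≤ Subgroup.normalizer ((ffN p V H A : Subgroup G) : Set G) :=
  Cfsg.Agent.Lib.Lead.le_normalizer_commutator _ _ _ hA.hHV (hA.H_norm_E hS)

theorem H_norm_C (hS : FFSetup p V H) (hA : MinOff p V H A) :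
    H ≤ Subgroup.normalizer ((ffC p V H A : Subgroup G) : Set G) :=
  le_normalizer_inf_of_le hA.hHV (le_normalizer_centralizer_of_le (hA.H_norm_E hS))

theorem E_le_cent_N (hS : FFSetup p V H) (hA : MinOff p V H A) (hD : MinOff p V H D)
    (hne : ffE p H A ≠ ffE p H D) :
    ffE p H D ≤ Subgroup.centralizer ((ffN p V H A : Subgroup G) : Set G) := by
  rcases dich hA hD with h | ⟨h0, h1, -⟩
  · exact absurd h hne
  · apply sup_le h1
    have h2 : ⁅ffN p V H A, D⁆ ≤ ffN p V H A ⊓ ffN p V H D :=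
      le_inf (Cfsg.Agent.Lib.Lead.commutator_le_left_of_le_normalizer _ _
        (hD.hAH.trans (hA.H_norm_N hS))) (Subgroup.commutator_mono hA.N_le hD.A_le_E)
    rw [h0, le_bot_iff, Subgroup.commutator_eq_bot_iff_le_centralizer] at h2
    exact Subgroup.le_centralizer_iff.mp h2

theorem H_norm_F (hS : FFSetup p V H) (hA : MinOff p V H A) :
    H ≤ Subgroup.normalizer
      ((H ⊓ Subgroup.centralizer ((ffN p V H A : Subgroup G) : Set G) : Subgroup G) : Set G) :=
  le_normalizer_inf_of_le Subgroup.le_normalizer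
    (le_normalizer_centralizer_of_le (hA.H_norm_N hS))

theorem E_inf_F (hA : MinOff p V H A) :
    ffE p H A ⊓ (H ⊓ Subgroup.centralizer ((ffN p V H A : Subgroup G) : Set G)) = ⊥ := by
  rw [eq_bot_iff, ← hA.faithfulE]
  exact inf_le_inf_left _ inf_le_right

theorem comm_E_F (hS : FFSetup p V H) (hA : MinOff p V H A) :
    ⁅ffE p H A, H ⊓ Subgroup.centralizer ((ffN p V H A : Subgroup G) : Set G)⁆ = ⊥ := by
  rw [eq_bot_iff, ← hA.E_inf_F]
  apply le_inf
  · exact Cfsg.Agent.Lib.Lead.commutator_le_left_of_le_normalizer _ _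
      (inf_le_left.trans (hA.H_norm_E hS))
  · rw [Subgroup.commutator_comm]
    exact Cfsg.Agent.Lib.Lead.commutator_le_left_of_le_normalizer _ _
      (hA.E_le.trans (hA.H_norm_F hS))

theorem E_sup_F (hS : FFSetup p V H) (hA : MinOff p V H A) :
    ffE p H A ⊔ (H ⊓ Subgroup.centralizer ((ffN p V H A : Subgroup G) : Set G)) = H := by
  apply le_antisymm (sup_le hA.E_le inf_le_left)
  apply hS.hgen
  intro D hD
  by_cases h : ffE p H A = ffE p H D
  · rw [h]; exact hD.A_le_E.trans le_sup_left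
  · exact (le_inf hD.hAH (hD.A_le_E.trans (hA.E_le_cent_N hS hD h))).trans le_sup_right

theorem comm_fixed_of_commute {N : Subgroup G} {e v f : G}
    (hef : e * f = f * e) (hn : ∀ n ∈ N, n * f = f * n) (hv : ⁅v⁻¹, e⁆ ∈ N) :
    e * ⁅v, f⁆ = ⁅v, f⁆ * e := by
  have hn' : e * v * e⁻¹ = v * ⁅v⁻¹, e⁆ := by rw [commutatorElement_def]; group
  have hnf := hn _ hv
  have key : e * ⁅v, f⁆ * e⁻¹ = ⁅v, f⁆ := by
    have h1 : e * ⁅v, f⁆ * e⁻¹ =
        (e * v * e⁻¹) * (e * f * e⁻¹) * (e * v * e⁻¹)⁻¹ * (e * f * e⁻¹)⁻¹ := by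
      rw [commutatorElement_def]; group
    have h2 : e * f * e⁻¹ = f := by rw [hef]; group
    rw [h1, h2, hn']
    have h3 : v * ⁅v⁻¹, e⁆ * f * (v * ⁅v⁻¹, e⁆)⁻¹ * f⁻¹ =
        v * (⁅v⁻¹, e⁆ * f * ⁅v⁻¹, e⁆⁻¹) * v⁻¹ * f⁻¹ := by group
    rw [h3, hnf, commutatorElement_def v f]; group
  calc e * ⁅v, f⁆ = (e * ⁅v, f⁆ * e⁻¹) * e := by group
    _ = ⁅v, f⁆ * e := by rw [key]

theorem comm_V_F_le (hS : FFSetup p V H) (hA : MinOff p V H A) :
    ⁅V, H ⊓ Subgroup.centralizer ((ffN p V H A : Subgroup G) : Set G)⁆ ≤ ffC p V H A := by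
  apply le_inf
  · exact Cfsg.Agent.Lib.Lead.commutator_le_left_of_le_normalizer _ _ (inf_le_left.trans hA.hHV)
  · rw [Subgroup.commutator_le]
    intro v hv f hf
    rw [Subgroup.mem_centralizer_iff]
    intro e he
    have hEF := hA.comm_E_F hS
    rw [Subgroup.commutator_eq_bot_iff_le_centralizer] at hEF
    have hef : e * f = f * e := ((Subgroup.mem_centralizer_iff.mp (hEF he)) f hf).symm
    have hfN : f ∈ Subgroup.centralizer ((ffN p V H A : Subgroup G) : Set G) :=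
      (Subgroup.mem_inf.mp hf).2
    exact comm_fixed_of_commute (N := ffN p V H A) hef
      (fun n hn => (Subgroup.mem_centralizer_iff.mp hfN) n hn)
      (Subgroup.commutator_mem_commutator (inv_mem hv) he)

end MinOff

end FF7b

end Cfsg.Agent.Lib.Helper5
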