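import Mathlib
import Cfsg.Agent.Lib.Helper5.FF7

set_option autoImplicit false

namespace Cfsg.Agent.Lib.Helper5

open scoped commutatorElement Pointwise

section FF8

variable {G : Type*} [Group G]

theorem indep_aux {ι : Type*} [DecidableEq ι] (V : Subgroup G)
    (hVc : ∀ x ∈ V, ∀ y ∈ V, x * y = y * x) (N C : ι → Subgroup G) (Z : Subgroup G)
    (hNV : ∀ i, N i ≤ V) (hNC : ∀ i, N i ⊓ C i = ⊥) (hZC : ∀ i, Z ≤ C i)
    (hNN : ∀ i j, i ≠ j → N j ≤ C i) :
    ∀ S : Finset ι, Z ⊓ (⨆ i ∈ S, N i) = ⊥ := by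
  intro S
  induction S using Finset.induction_on with
  | empty => simp
  | insert i₀ S hi₀ ih =>
    rw [Finset.iSup_insert, eq_bot_iff]
    intro v hv
    obtain ⟨hvZ, hvS⟩ := hv
    have hRV : (⨆ i ∈ S, N i) ≤ V := iSup₂_le (fun i _ => hNV i)
    have hRC : (⨆ i ∈ S, N i) ≤ C i₀ := by
      apply iSup₂_le
      intro i hi
      exact hNN i₀ i (fun h => hi₀ (h ▸ hi))
    obtain ⟨n, hn, r, hr, rfl⟩ := mem_sup_of_commute
      (fun d hd m hm => hVc d (hNV i₀ hd) m (hRV hm)) hvS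
    have hnC : n ∈ N i₀ ⊓ C i₀ := by
      refine Subgroup.mem_inf.mpr ⟨hn, ?_⟩
      have : n = (n * r) * r⁻¹ := by group
      rw [this]
      exact mul_mem (hZC i₀ hvZ) (inv_mem (hRC hr))
    rw [hNC, Subgroup.mem_bot] at hnC
    rw [hnC, one_mul] at hvZ ⊢
    rw [← ih]
    exact Subgroup.mem_inf.mpr ⟨hvZ, hr⟩

theorem span_aux {ι : Type*} [DecidableEq ι] (V : Subgroup G)
    (hVc : ∀ x ∈ V, ∀ y ∈ V, x * y = y * x) (N C : ι → Subgroup G)
    (hNV : ∀ i, N i ≤ V) (hsup : ∀ i, N i ⊔ C i = V)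
    (hNN : ∀ i j, i ≠ j → N j ≤ C i) :
    ∀ S : Finset ι, V ≤ (⨆ i ∈ S, N i) ⊔ (V ⊓ ⨅ i ∈ S, C i) := by
  intro S
  induction S using Finset.induction_on with
  | empty => simp
  | insert i₀ S hi₀ ih =>
    intro v hv
    have hRV : (⨆ i ∈ S, N i) ≤ V := iSup₂_le (fun i _ => hNV i)
    obtain ⟨w, hw, c, hc, rfl⟩ := mem_sup_of_commute
      (fun d hd m hm => hVc d (hRV hd) m (Subgroup.mem_inf.mp hm).1) (ih hv)
    obtain ⟨hcV, hcS⟩ := Subgroup.mem_inf.mp hc
    have hcV' : c ∈ N i₀ ⊔ C i₀ := by rw [hsup]; exact hcV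
    have hCV : C i₀ ≤ V := by rw [← hsup i₀]; exact le_sup_right
    obtain ⟨n, hn, c', hc', rfl⟩ := mem_sup_of_commute
      (fun d hd m hm => hVc d (hNV i₀ hd) m (hCV hm)) hcV'
    have hnS : n ∈ ⨅ i ∈ S, C i := by
      simp only [Subgroup.mem_iInf]
      intro i hi
      exact hNN i i₀ (fun h => hi₀ (h ▸ hi)) hn
    have hc'S : c' ∈ ⨅ i ∈ S, C i := by
      have : c' = n⁻¹ * (n * c') := by group
      rw [this]
      exact mul_mem (inv_mem hnS) hcS
    have h1 : w * n ∈ ⨆ i ∈ insert i₀ S, N i := by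
      rw [Finset.iSup_insert, sup_comm]
      exact Subgroup.mul_mem_sup hw hn
    have h2 : c' ∈ V ⊓ ⨅ i ∈ insert i₀ S, C i := by
      refine Subgroup.mem_inf.mpr ⟨hCV hc', ?_⟩
      rw [Finset.iInf_insert]
      exact Subgroup.mem_inf.mpr ⟨hc', hc'S⟩
    have h3 : w * (n * c') = (w * n) * c' := by group
    rw [h3]
    exact Subgroup.mul_mem_sup h1 h2

namespace MinOff

variable [Finite G] {p : ℕ} [Fact p.Prime] {V H A D : Subgroup G}

theorem comm_E_E (hS : FFSetup p V H) (hA : MinOff p V H A) (hD : MinOff p V H D)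
    (hne : ffE p H A ≠ ffE p H D) : ⁅ffE p H A, ffE p H D⁆ = ⊥ := by
  rw [eq_bot_iff, ← hA.comm_E_F hS]
  exact Subgroup.commutator_mono le_rfl (le_inf hD.E_le (hA.E_le_cent_N hS hD hne))

theorem N_le_C_of_ne (hS : FFSetup p V H) (hA : MinOff p V H A) (hD : MinOff p V H D)
    (hne : ffE p H A ≠ ffE p H D) : ffN p V H D ≤ ffC p V H A := by
  apply le_inf hD.N_le
  rw [Subgroup.commutator_le]
  intro v hv f hf
  rw [Subgroup.mem_centralizer_iff]
  intro e he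
  have hEE := hA.comm_E_E hS hD hne
  rw [Subgroup.commutator_eq_bot_iff_le_centralizer] at hEE
  have hef : e * f = f * e := ((Subgroup.mem_centralizer_iff.mp (hEE he)) f hf).symm
  have hfN := hA.E_le_cent_N hS hD hne hf
  exact comm_fixed_of_commute (N := ffN p V H A) hef
    (fun n hn => (Subgroup.mem_centralizer_iff.mp hfN) n hn)
    (Subgroup.commutator_mem_commutator (inv_mem hv) he)

end MinOff

end FF8

end Cfsg.Agent.Lib.Helper5
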