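import Mathlib
import Cfsg.Agent.Lib.Helper5.FF8
import Cfsg.Agent.Lib.Helper5.Diag
import Cfsg.Agent.S0027
import Cfsg.Agent.S0593

set_option autoImplicit false

namespace Cfsg.Agent.Lib.Helper5

open scoped commutatorElement Pointwise

section FFOp

variable {G : Type*} [Group G]

theorem smul_eq_map_conj (y : G) (A : Subgroup G) :
    MulAut.conj y • A = A.map (MulAut.conj y).toMonoidHom := rfl

theorem ffop_pPrimeCore_char {X : Type*} [Group X] (p : ℕ) :
    (Cfsg.pPrimeCore p X).Characteristic := by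
  rw [Subgroup.characteristic_iff_map_le]
  intro φ
  rw [Subgroup.map_le_iff_le_comap]
  apply sSup_le
  rintro K ⟨hKn, hKc⟩
  rw [← Subgroup.map_le_iff_le_comap]
  apply le_sSup
  refine ⟨hKn.map φ.toMonoidHom φ.surjective, ?_⟩
  rw [Subgroup.card_map_of_injective φ.injective]
  exact hKc

theorem ffK_map_conj {p : ℕ} {H : Subgroup G} {y : G}
    (hy : y ∈ Subgroup.normalizer (H : Set G)) :
    (ffK p H).map (MulAut.conj y).toMonoidHom = ffK p H := by
  haveI := ffop_pPrimeCore_char (X := ↥H) p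
  have h1 := Cfsg.Agent.Lib.Lead.le_normalizer_map_characteristic H
    (Subgroup.normalizer (H : Set G)) le_rfl (Cfsg.pPrimeCore p ↥H)
  exact map_conj_self_of_mem_normalizer (h1 hy)

theorem map_conj_le_of_mem_normalizer {H A : Subgroup G} (hAH : A ≤ H) {y : G}
    (hy : y ∈ Subgroup.normalizer (H : Set G)) :
    A.map (MulAut.conj y).toMonoidHom ≤ H := by
  rintro _ ⟨a, ha, rfl⟩
  exact (Subgroup.mem_normalizer_iff.mp hy a).mp (hAH ha)

theorem bestOffender_conj' [Finite G] {p : ℕ} [Fact p.Prime] {V H : Subgroup G}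
    (hV : Cfsg.IsElementaryAbelian p V) (hHV : H ≤ Subgroup.normalizer (V : Set G))
    (hf : H ⊓ Subgroup.centralizer (V : Set G) = ⊥)
    (hS1 : Subgroup.centralizer (Cfsg.pPrimeCore p ↥H : Set ↥H) ≤ Cfsg.pPrimeCore p ↥H)
    {A : Subgroup G} (hAH : A ≤ H) (hA : Cfsg.IsBestOffenderOn p V A) {y : G}
    (hyH : y ∈ Subgroup.normalizer (H : Set G)) (hyV : y ∈ Subgroup.normalizer (V : Set G)) :
    Cfsg.IsBestOffenderOn p V (A.map (MulAut.conj y).toMonoidHom) := by
  obtain ⟨hAe, hcard⟩ := (bestOffender_iff hV hHV hf hS1 A hAH).mp hA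
  have hAyH : A.map (MulAut.conj y).toMonoidHom ≤ H := map_conj_le_of_mem_normalizer hAH hyH
  rw [bestOffender_iff hV hHV hf hS1 _ hAyH]
  refine ⟨elemAb_map _ hAe, ?_⟩
  rw [← map_conj_cent hyV, card_map_conj, card_map_conj]
  exact hcard

namespace MinOff

variable [Finite G] {p : ℕ} [Fact p.Prime] {V H A : Subgroup G}

theorem conj' (h : MinOff p V H A) {y : G} (hyH : y ∈ Subgroup.normalizer (H : Set G))
    (hyV : y ∈ Subgroup.normalizer (V : Set G)) :
    MinOff p V H (A.map (MulAut.conj y).toMonoidHom) where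
  hV := h.hV
  hHV := h.hHV
  hf := h.hf
  hS1 := h.hS1
  hAH := map_conj_le_of_mem_normalizer h.hAH hyH
  hA := bestOffender_conj' h.hV h.hHV h.hf h.hS1 h.hAH h.hA hyH hyV
  hAV := by
    rw [commutator_map_conj hyV]
    intro hb
    rw [Subgroup.map_eq_bot_iff_of_injective _ (MulAut.conj y).injective] at hb
    exact h.hAV hb
  hmin := by
    intro B hBA hB hBV
    have hBH : B ≤ H := hBA.trans (map_conj_le_of_mem_normalizer h.hAH hyH)
    have hyinvH : y⁻¹ ∈ Subgroup.normalizer (H : Set G) := inv_mem hyH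
    have hyinvV : y⁻¹ ∈ Subgroup.normalizer (V : Set G) := inv_mem hyV
    have h1 : B.map (MulAut.conj y⁻¹).toMonoidHom ≤ A := by
      have := Subgroup.map_mono (f := (MulAut.conj y⁻¹).toMonoidHom) hBA
      rwa [map_conj_inv_map_conj] at this
    have h2 := bestOffender_conj' h.hV h.hHV h.hf h.hS1 hBH hB hyinvH hyinvV
    have h3 : ⁅V, B.map (MulAut.conj y⁻¹).toMonoidHom⁆ ≠ ⊥ := by
      rw [commutator_map_conj hyinvV]
      intro hb
      rw [Subgroup.map_eq_bot_iff_of_injective _ (MulAut.conj y⁻¹).injective] at hb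
      exact hBV hb
    have h4 := h.hmin _ h1 h2 h3
    have h5 := congrArg (Subgroup.map (MulAut.conj y).toMonoidHom) h4
    have h6 := map_conj_inv_map_conj y⁻¹ B
    rw [inv_inv] at h6
    rw [h6] at h5
    exact h5

theorem ffE_conj' (h : MinOff p V H A) {y : G} (hyH : y ∈ Subgroup.normalizer (H : Set G)) :
    ffE p H (A.map (MulAut.conj y).toMonoidHom) = (ffE p H A).map (MulAut.conj y).toMonoidHom := by
  show ⁅ffK p H, A.map (MulAut.conj y).toMonoidHom⁆ ⊔ A.map (MulAut.conj y).toMonoidHom =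
    (⁅ffK p H, A⁆ ⊔ A).map (MulAut.conj y).toMonoidHom
  rw [Subgroup.map_sup, Subgroup.map_commutator, ffK_map_conj hyH]

theorem ffN_conj' (h : MinOff p V H A) {y : G} (hyH : y ∈ Subgroup.normalizer (H : Set G))
    (hyV : y ∈ Subgroup.normalizer (V : Set G)) :
    ffN p V H (A.map (MulAut.conj y).toMonoidHom) =
      (ffN p V H A).map (MulAut.conj y).toMonoidHom := by
  show ⁅V, ffE p H (A.map (MulAut.conj y).toMonoidHom)⁆ = (⁅V, ffE p H A⁆).map _
  rw [h.ffE_conj' hyH, commutator_map_conj hyV]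

end MinOff

theorem ffop_num {q : ℕ} (hq : q.Prime) (hq2 : q ≠ 2) (hq3 : q ≠ 3) :
    ¬ q ∣ 3 ∧ ¬ q ∣ 2 ∧ ¬ q ∣ 8 ∧ ¬ q ∣ 6 := by
  refine ⟨?_, ?_, ?_, ?_⟩
  · intro h
    exact hq3 ((Nat.prime_dvd_prime_iff_eq hq Nat.prime_three).mp h)
  · intro h
    exact hq2 ((Nat.prime_dvd_prime_iff_eq hq Nat.prime_two).mp h)
  · intro h
    have h8 : (8 : ℕ) = 2 ^ 3 := by norm_num
    rw [h8] at h
    exact hq2 ((Nat.prime_dvd_prime_iff_eq hq Nat.prime_two).mp (hq.dvd_of_dvd_pow h))
  · intro h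
    have h6 : (6 : ℕ) = 2 * 3 := by norm_num
    rw [h6] at h
    rcases (hq.dvd_mul).mp h with h | h
    · exact hq2 ((Nat.prime_dvd_prime_iff_eq hq Nat.prime_two).mp h)
    · exact hq3 ((Nat.prime_dvd_prime_iff_eq hq Nat.prime_three).mp h)

theorem cent_of_qgroup_normalizes_psq [Finite G] {p q : ℕ} [Fact p.Prime]
    [Fact q.Prime]
    (hp : p = 2 ∨ p = 3) (hq2 : q ≠ 2) (hq3 : q ≠ 3) {W Y : Subgroup G}
    (hW : Nat.card W = p ^ 2) (hYW : Y ≤ Subgroup.normalizer (W : Set G)) (hY : IsPGroup q Y) :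
    Y ≤ Subgroup.centralizer (W : Set G) := by
  have hqp : q.Prime := Fact.out
  have hpp : p.Prime := Fact.out
  obtain ⟨n3, n2, n8, n6⟩ := ffop_num hqp hq2 hq3
  letI : MulAction Y W := MulAction.compHom W (Cfsg.Agent.S0593.conjAut W Y hYW)
  have h1 := hY.card_modEq_card_fixedPoints W
  have hset : (MulAction.fixedPoints Y W : Set W) =
      (((Subgroup.centralizer (Y : Set G)).subgroupOf W : Subgroup W) : Set W) := by
    ext w
    rw [MulAction.mem_fixedPoints, SetLike.mem_coe, Subgroup.mem_subgroupOf,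
      Subgroup.mem_centralizer_iff]
    constructor
    · intro h y hy
      have h2 := congrArg (fun v : W => (v : G)) (h ⟨y, hy⟩)
      have h3 : y * (w : G) * y⁻¹ = w := h2
      calc y * (w : G) = (y * w * y⁻¹) * y := by group
        _ = w * y := by rw [h3]
    · intro h y
      apply Subtype.ext
      show (y : G) * w * (y : G)⁻¹ = w
      rw [h y y.2]; group
  have h2 : Nat.card (MulAction.fixedPoints Y W) =
      Nat.card ((Subgroup.centralizer (Y : Set G)).subgroupOf W) := by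
    rw [hset]; rfl
  rw [h2, hW] at h1
  have h3 : Nat.card ((Subgroup.centralizer (Y : Set G)).subgroupOf W) ∣ p ^ 2 := by
    rw [← hW]; exact Subgroup.card_subgroup_dvd_card _
  obtain ⟨k, hk, hk2⟩ := (Nat.dvd_prime_pow hpp).mp h3
  rw [hk2] at h1
  have hk' : k = 2 := by
    interval_cases k
    · exfalso
      rcases hp with rfl | rfl
      · exact n3 ((Nat.modEq_iff_dvd' (by norm_num)).mp h1.symm)
      · exact n8 ((Nat.modEq_iff_dvd' (by norm_num)).mp h1.symm)
    · exfalso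
      rcases hp with rfl | rfl
      · exact n2 ((Nat.modEq_iff_dvd' (by norm_num)).mp h1.symm)
      · exact n6 ((Nat.modEq_iff_dvd' (by norm_num)).mp h1.symm)
    · rfl
  rw [hk'] at hk2
  have h4 : (Subgroup.centralizer (Y : Set G)).subgroupOf W = ⊤ :=
    Subgroup.eq_top_of_card_eq _ (hk2.trans hW.symm)
  rw [Subgroup.subgroupOf_eq_top] at h4
  exact Subgroup.le_centralizer_iff.mp h4


theorem sylow_conj_into [Finite G] {p : ℕ} [Fact p.Prime] {H : Subgroup G} (P : Sylow p ↥H)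
    (A : Subgroup G) (hAH : A ≤ H) (hA : IsPGroup p A) :
    ∃ h ∈ H, A.map (MulAut.conj h).toMonoidHom ≤ (P : Subgroup ↥H).map H.subtype := by
  have hA' : IsPGroup p (A.subgroupOf H) := hA.comap_subtype
  obtain ⟨Q, hQ⟩ := hA'.exists_le_sylow
  obtain ⟨g, hg⟩ := MulAction.exists_smul_eq ↥H Q P
  refine ⟨g, g.2, ?_⟩
  rintro _ ⟨a, ha, rfl⟩
  have h1 : (⟨a, hAH ha⟩ : H) ∈ (Q : Subgroup ↥H) := hQ (Subgroup.mem_subgroupOf.mpr ha)
  have h2 : MulAut.conj g • (⟨a, hAH ha⟩ : H) ∈ MulAut.conj g • (Q : Subgroup ↥H) :=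
    Subgroup.smul_mem_pointwise_smul _ _ _ h1
  have h3 : ((g • Q : Sylow p ↥H) : Subgroup ↥H) = MulAut.conj g • (Q : Subgroup ↥H) :=
    Sylow.pointwise_smul_def
  rw [← h3, hg] at h2
  exact ⟨_, h2, rfl⟩

theorem gen_by_sylow_cent [Finite G] {p q : ℕ} [Fact p.Prime] [Fact q.Prime] {V H : Subgroup G}
    (hS : FFSetup p V H) (X' T' : Subgroup G)
    (hXH : X' ≤ Subgroup.normalizer (H : Set G)) (hXV : X' ≤ Subgroup.normalizer (V : Set G))
    (hXq : IsPGroup q X') (hq : ¬ q ∣ Nat.card H)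
    (hT : ∀ A : Subgroup G, A ≤ H → IsPGroup p A →
      ∃ h ∈ H, A.map (MulAut.conj h).toMonoidHom ≤ T') :
    H ≤ T' ⊔ (H ⊓ Subgroup.centralizer (X' : Set G)) := by
  apply hS.hgen
  intro D hD
  obtain ⟨h, hh, hDT⟩ := hT D hD.hAH hD.isPGroup
  have hA2 := hD.conj hh
  have hE2 : ffE p H (D.map (MulAut.conj h).toMonoidHom) = ffE p H D := by
    rw [hD.ffE_conj' (Subgroup.le_normalizer hh)]
    exact map_conj_self_of_mem_normalizer (hD.H_norm_E hS hh)
  have hp23 := hA2.p23
  have hcardE := hA2.cardE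
  have hdvdE : Nat.card (ffE p H (D.map (MulAut.conj h).toMonoidHom)) ∣ Nat.card H :=
    Subgroup.card_dvd_of_le hA2.E_le
  have h6 : 6 ∣ Nat.card (ffE p H (D.map (MulAut.conj h).toMonoidHom)) := by
    rw [hcardE]
    rcases hp23 with rfl | rfl
    · rw [card_sl22]
    · rw [card_sl23]; norm_num
  have hq2 : q ≠ 2 := by
    rintro rfl
    exact hq (Dvd.dvd.trans (by norm_num) (h6.trans hdvdE))
  have hq3 : q ≠ 3 := by
    rintro rfl
    exact hq (Dvd.dvd.trans (by norm_num) (h6.trans hdvdE))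
  have ha : ∀ x ∈ X', x ∈ Subgroup.normalizer
      ((ffE p H (D.map (MulAut.conj h).toMonoidHom) : Subgroup G) : Set G) →
      x ∈ Subgroup.centralizer
        ((ffE p H (D.map (MulAut.conj h).toMonoidHom) : Subgroup G) : Set G) := by
    intro x hx hxE
    have hxV := hXV hx
    have hxW : x ∈ Subgroup.normalizer
        ((ffN p V H (D.map (MulAut.conj h).toMonoidHom) : Subgroup G) : Set G) :=
      Cfsg.Agent.Lib.Lead.le_normalizer_commutator
        (Subgroup.normalizer (V : Set G) ⊓ Subgroup.normalizer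
          ((ffE p H (D.map (MulAut.conj h).toMonoidHom) : Subgroup G) : Set G)) V _
        inf_le_left inf_le_right ⟨hxV, hxE⟩
    have hY : Subgroup.zpowers x ≤ Subgroup.normalizer
        ((ffN p V H (D.map (MulAut.conj h).toMonoidHom) : Subgroup G) : Set G) :=
      Subgroup.zpowers_le.mpr hxW
    have hYq : IsPGroup q (Subgroup.zpowers x) := hXq.to_le (Subgroup.zpowers_le.mpr hx)
    have hcW := cent_of_qgroup_normalizes_psq hp23 hq2 hq3 hA2.cardN hY hYq
    have hxcW : x ∈ Subgroup.centralizer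
        ((ffN p V H (D.map (MulAut.conj h).toMonoidHom) : Subgroup G) : Set G) :=
      hcW (Subgroup.mem_zpowers x)
    rw [Subgroup.mem_centralizer_iff]
    intro e he
    have heCW := le_normalizer_centralizer_of_le hA2.E_norm_N he
    have h1 : x * e * x⁻¹ * e⁻¹ ∈ ffE p H (D.map (MulAut.conj h).toMonoidHom) ⊓
        Subgroup.centralizer
          ((ffN p V H (D.map (MulAut.conj h).toMonoidHom) : Subgroup G) : Set G) := by
      refine Subgroup.mem_inf.mpr
        ⟨mul_mem ((Subgroup.mem_normalizer_iff.mp hxE e).mp he) (inv_mem he), ?_⟩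
      have h2 : e * x⁻¹ * e⁻¹ ∈ Subgroup.centralizer
          ((ffN p V H (D.map (MulAut.conj h).toMonoidHom) : Subgroup G) : Set G) :=
        (Subgroup.mem_normalizer_iff.mp heCW x⁻¹).mp (inv_mem hxcW)
      have h3 : x * e * x⁻¹ * e⁻¹ = x * (e * x⁻¹ * e⁻¹) := by group
      rw [h3]
      exact mul_mem hxcW h2
    rw [hA2.faithfulE, Subgroup.mem_bot] at h1
    calc e * x = (x * e * x⁻¹ * e⁻¹)⁻¹ * (x * e) := by group
      _ = x * e := by rw [h1, inv_one, one_mul]
  have hb : ∀ x ∈ X', x ∉ Subgroup.normalizer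
      ((ffE p H (D.map (MulAut.conj h).toMonoidHom) : Subgroup G) : Set G) →
      MulAut.conj x • ffE p H (D.map (MulAut.conj h).toMonoidHom) ≤ Subgroup.centralizer
        ((ffE p H (D.map (MulAut.conj h).toMonoidHom) : Subgroup G) : Set G) := by
    intro x hx hxE
    have hA3 := hA2.conj' (hXH hx) (hXV hx)
    have hE3 := hA2.ffE_conj' (y := x) (hXH hx)
    have hne : ffE p H (D.map (MulAut.conj h).toMonoidHom) ≠
        ffE p H ((D.map (MulAut.conj h).toMonoidHom).map (MulAut.conj x).toMonoidHom) := by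
      intro hcon
      apply hxE
      rw [hE3] at hcon
      exact (dg_eq_self_iff x _).mp hcon.symm
    have h2 := hA2.comm_E_E hS hA3 hne
    rw [Subgroup.commutator_comm, Subgroup.commutator_eq_bot_iff_le_centralizer, hE3] at h2
    exact h2
  have hM : ∀ x ∈ X', MulAut.conj x • ffE p H (D.map (MulAut.conj h).toMonoidHom) ≤ H := by
    intro x hx
    exact map_conj_le_of_mem_normalizer hA2.E_le (hXH hx)
  have hcomm : ⁅ffE p H (D.map (MulAut.conj h).toMonoidHom),
      D.map (MulAut.conj h).toMonoidHom⁆ ≤ T' ⊔ (H ⊓ Subgroup.centralizer (X' : Set G)) := by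
    rw [Subgroup.commutator_le]
    intro e he a ha'
    obtain ⟨c, f, hcX, hcH, hfE, hcef⟩ := diag_exists X' _ H ha hb hM e he
    have hcL : c ∈ T' ⊔ (H ⊓ Subgroup.centralizer (X' : Set G)) :=
      Subgroup.mem_sup_right ⟨hcH, hcX⟩
    have haL : a ∈ T' ⊔ (H ⊓ Subgroup.centralizer (X' : Set G)) :=
      Subgroup.mem_sup_left (hDT ha')
    have hfa : f * a = a * f :=
      ((Subgroup.mem_centralizer_iff.mp hfE) a (hA2.A_le_E ha')).symm
    have h1 : ⁅e, a⁆ = c * a * c⁻¹ * a⁻¹ := by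
      rw [commutatorElement_def, hcef]
      have h2 : e * f * a * (e * f)⁻¹ = e * (f * a) * f⁻¹ * e⁻¹ := by group
      rw [h2, hfa]; group
    rw [h1]
    exact mul_mem (mul_mem (mul_mem hcL haL) (inv_mem hcL)) (inv_mem haL)
  have hcop : (Nat.card (D.map (MulAut.conj h).toMonoidHom)).Coprime (Nat.card (ffK p H)) := by
    rw [hA2.card_eq]
    exact (ffK_coprime H).symm
  have hsolv : Group.IsSolvable ↥(D.map (MulAut.conj h).toMonoidHom) := by
    haveI := hA2.elemAb.1
    exact isSolvable_of_comm (fun a b => mul_comm' a b)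
  have hQ : ⁅ffK p H, D.map (MulAut.conj h).toMonoidHom⁆ ≤
      T' ⊔ (H ⊓ Subgroup.centralizer (X' : Set G)) := by
    have h27 := Cfsg.Agent.S0027.result (D.map (MulAut.conj h).toMonoidHom) (ffK p H)
      (hA2.hAH.trans (ffK_normalized H)) hcop (Or.inl hsolv)
    rw [← h27]
    exact (Subgroup.commutator_mono hA2.Q_le_E le_rfl).trans hcomm
  calc D ≤ ffE p H D := hD.A_le_E
    _ = ffE p H (D.map (MulAut.conj h).toMonoidHom) := hE2.symm
    _ ≤ _ := sup_le hQ (hDT.trans le_sup_left)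

end FFOp

end Cfsg.Agent.Lib.Helper5
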