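import Mathlib

set_option autoImplicit false

namespace Cfsg.Agent.Lib.Helper5

section Trace

variable {A Ξ : Type*} [CommGroup A] [Group Ξ] [Fintype Ξ] (φ : Ξ →* MulAut A)

noncomputable def trAut : A →* A := ∏ x : Ξ, (φ x).toMonoidHom

theorem trAut_apply (a : A) : trAut φ a = ∏ x : Ξ, φ x a := by
  unfold trAut
  rw [MonoidHom.finset_prod_apply]
  rfl

theorem trAut_fixed (y : Ξ) (a : A) : φ y (trAut φ a) = trAut φ a := by
  rw [trAut_apply, map_prod]
  apply Fintype.prod_equiv (Equiv.mulLeft y)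
  intro x
  rw [Equiv.coe_mulLeft, map_mul, MulAut.mul_apply]

theorem trAut_equivariant (ρ : MulAut A) (hρ : ∀ x : Ξ, ∀ a : A, ρ (φ x a) = φ x (ρ a)) (a : A) :
    ρ (trAut φ a) = trAut φ (ρ a) := by
  rw [trAut_apply, trAut_apply, map_prod]
  apply Finset.prod_congr rfl
  intro x _
  exact hρ x a

theorem trAut_split (Ξ₀ : Subgroup Ξ) (B : Subgroup A) (a : A) (h0 : ∀ x ∈ Ξ₀, φ x a = a)
    (h1 : ∀ x, x ∉ Ξ₀ → φ x a ∈ B) : ∃ b ∈ B, trAut φ a = a ^ Nat.card Ξ₀ * b := by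
  classical
  refine ⟨∏ x ∈ Finset.univ.filter (fun x : Ξ => ¬ x ∈ Ξ₀), φ x a, ?_, ?_⟩
  · apply Subgroup.prod_mem
    intro x hx
    exact h1 x (Finset.mem_filter.mp hx).2
  · rw [trAut_apply, ← Finset.prod_filter_mul_prod_filter_not Finset.univ (fun x : Ξ => x ∈ Ξ₀)]
    congr 1
    rw [Finset.prod_congr rfl (fun x hx => h0 x (Finset.mem_filter.mp hx).2), Finset.prod_const]
    congr 1
    rw [Nat.card_eq_fintype_card, Fintype.card_subtype]

end Trace

end Cfsg.Agent.Lib.Helper5
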