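import Mathlib
import Cfsg.Agent.Lib.Helper5.FFOp
import Cfsg.Agent.Lib.Helper5.Diag2
import Cfsg.Agent.Lib.Helper5.Trace
import Cfsg.Agent.Lib.Helper5.Glauberman

set_option autoImplicit false

namespace Cfsg.Agent.Lib.Helper5

open scoped commutatorElement Pointwise IsMulCommutative

section FFPlane

variable {G : Type*} [Group G] [Finite G] {p q : ℕ} [Fact p.Prime] [Fact q.Prime]
  {V H A : Subgroup G}

theorem q_ne_of_minOff (hA : MinOff p V H A) (hq : ¬ q ∣ Nat.card H) : q ≠ 2 ∧ q ≠ 3 := by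
  have hp23 := hA.p23
  have hcardE := hA.cardE
  have hdvdE : Nat.card (ffE p H A) ∣ Nat.card H := Subgroup.card_dvd_of_le hA.E_le
  have h6 : 6 ∣ Nat.card (ffE p H A) := by
    rw [hcardE]
    rcases hp23 with rfl | rfl
    · rw [card_sl22]
    · rw [card_sl23]; norm_num
  constructor
  · rintro rfl
    exact hq (Dvd.dvd.trans (by norm_num) (h6.trans hdvdE))
  · rintro rfl
    exact hq (Dvd.dvd.trans (by norm_num) (h6.trans hdvdE))

theorem minOff_op_cent_N (hA : MinOff p V H A) {X' : Subgroup G}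
    (hXV : X' ≤ Subgroup.normalizer (V : Set G)) (hXq : IsPGroup q X')
    (hq : ¬ q ∣ Nat.card H) {x : G} (hx : x ∈ X')
    (hxE : x ∈ Subgroup.normalizer ((ffE p H A : Subgroup G) : Set G)) :
    x ∈ Subgroup.centralizer ((ffN p V H A : Subgroup G) : Set G) := by
  obtain ⟨hq2, hq3⟩ := q_ne_of_minOff hA hq
  have hxW : x ∈ Subgroup.normalizer ((ffN p V H A : Subgroup G) : Set G) :=
    Cfsg.Agent.Lib.Lead.le_normalizer_commutator
      (Subgroup.normalizer (V : Set G) ⊓ Subgroup.normalizer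
        ((ffE p H A : Subgroup G) : Set G)) V _ inf_le_left inf_le_right ⟨hXV hx, hxE⟩
  have hY : Subgroup.zpowers x ≤ Subgroup.normalizer ((ffN p V H A : Subgroup G) : Set G) :=
    Subgroup.zpowers_le.mpr hxW
  have hYq : IsPGroup q (Subgroup.zpowers x) := hXq.to_le (Subgroup.zpowers_le.mpr hx)
  exact cent_of_qgroup_normalizes_psq hA.p23 hq2 hq3 hA.cardN hY hYq (Subgroup.mem_zpowers x)

theorem minOff_op_moved (hS : FFSetup p V H) (hA : MinOff p V H A) {X' : Subgroup G}
    (hXH : X' ≤ Subgroup.normalizer (H : Set G))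
    (hXV : X' ≤ Subgroup.normalizer (V : Set G)) {x : G} (hx : x ∈ X')
    (hxE : x ∉ Subgroup.normalizer ((ffE p H A : Subgroup G) : Set G)) :
    (ffN p V H A).map (MulAut.conj x).toMonoidHom ≤ ffC p V H A ∧
      (ffE p H A).map (MulAut.conj x).toMonoidHom ≤
        H ⊓ Subgroup.centralizer ((ffN p V H A : Subgroup G) : Set G) := by
  have hA3 := hA.conj' (hXH hx) (hXV hx)
  have hE3 := hA.ffE_conj' (y := x) (hXH hx)
  have hN3 := hA.ffN_conj' (y := x) (hXH hx) (hXV hx)
  have hne : ffE p H A ≠ ffE p H (A.map (MulAut.conj x).toMonoidHom) := by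
    intro hcon
    apply hxE
    rw [hE3] at hcon
    exact (dg_eq_self_iff x _).mp hcon.symm
  constructor
  · rw [← hN3]
    exact hA.N_le_C_of_ne hS hA3 hne
  · rw [← hE3]
    exact le_inf hA3.E_le (hA.E_le_cent_N hS hA3 hne)

theorem trace_plane (hS : FFSetup p V H) (hA : MinOff p V H A) (X' : Subgroup G)
    (hXH : X' ≤ Subgroup.normalizer (H : Set G))
    (hXV : X' ≤ Subgroup.normalizer (V : Set G)) (hXq : IsPGroup q X')
    (hq : ¬ q ∣ Nat.card H) :
    ∃ W' : Subgroup G, W' ≤ V ⊓ Subgroup.centralizer (X' : Set G) ∧ Nat.card W' = p ^ 2 ∧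
      ∀ r ∈ H ⊓ Subgroup.centralizer (X' : Set G),
        r ∈ Subgroup.normalizer (W' : Set G) ∧
        (r ∈ Subgroup.centralizer (W' : Set G) ↔
          r ∈ Subgroup.centralizer ((ffN p V H A : Subgroup G) : Set G)) := by
  classical
  have hpp : p.Prime := Fact.out
  have hqp : q.Prime := Fact.out
  obtain ⟨hq2, hq3⟩ := q_ne_of_minOff hA hq
  have hp23 := hA.p23
  have hqp' : Nat.Coprime q p := by
    rw [Nat.coprime_primes hqp hpp]
    rcases hp23 with rfl | rfl
    · exact hq2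
    · exact hq3
  haveI : IsMulCommutative ↥V := hA.hV.1
  haveI : Fintype ↥X' := Fintype.ofFinite _
  have hsplit : ∀ u : ↥V, (u : G) ∈ ffN p V H A → ∃ b : ↥V, (b : G) ∈ ffC p V H A ∧
      trAut (Cfsg.Agent.S0593.conjAut V X' hXV) u =
        u ^ Nat.card ((Subgroup.normalizer ((ffE p H A : Subgroup G) : Set G)).subgroupOf X') * b := by
    intro u hu
    obtain ⟨b, hb, hT⟩ := trAut_split (Cfsg.Agent.S0593.conjAut V X' hXV)
      ((Subgroup.normalizer ((ffE p H A : Subgroup G) : Set G)).subgroupOf X')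
      ((ffC p V H A).subgroupOf V) u
      (by
        intro x hx
        have h1 := minOff_op_cent_N hA hXV hXq hq x.2 (Subgroup.mem_subgroupOf.mp hx)
        apply Subtype.ext
        show (x : G) * u * (x : G)⁻¹ = u
        have h := Subgroup.mem_centralizer_iff.mp h1 u hu
        rw [← h]; group)
      (by
        intro x hx
        have hx' : (x : G) ∉ Subgroup.normalizer ((ffE p H A : Subgroup G) : Set G) :=
          fun h => hx (Subgroup.mem_subgroupOf.mpr h)
        have h1 := (minOff_op_moved hS hA hXH hXV x.2 hx').1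
        rw [Subgroup.mem_subgroupOf]
        exact h1 ⟨u, hu, rfl⟩)
    exact ⟨b, Subgroup.mem_subgroupOf.mp hb, hT⟩
  have hinj : ∀ u : ↥V, (u : G) ∈ ffN p V H A →
      trAut (Cfsg.Agent.S0593.conjAut V X' hXV) u = 1 → u = 1 := by
    intro u hu hT
    obtain ⟨b, hb, hT'⟩ := hsplit u hu
    rw [hT] at hT'
    have h0 : u ^ Nat.card ((Subgroup.normalizer
        ((ffE p H A : Subgroup G) : Set G)).subgroupOf X') = b⁻¹ :=
      eq_inv_of_mul_eq_one_left hT'.symm
    have h1 : ((u ^ Nat.card ((Subgroup.normalizer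
        ((ffE p H A : Subgroup G) : Set G)).subgroupOf X') : ↥V) : G) ∈
        ffN p V H A ⊓ ffC p V H A := by
      refine Subgroup.mem_inf.mpr ⟨?_, ?_⟩
      · rw [Subgroup.coe_pow]; exact pow_mem hu _
      · rw [h0, Subgroup.coe_inv]; exact inv_mem hb
    rw [hA.N_inf_C, Subgroup.mem_bot] at h1
    have h2 : u ^ Nat.card ((Subgroup.normalizer
        ((ffE p H A : Subgroup G) : Set G)).subgroupOf X') = 1 := Subtype.ext h1
    have h3 : u ^ p = 1 := by
      apply Subtype.ext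
      rw [Subgroup.coe_pow]
      exact hA.hV.2 u u.2
    have hX'p : IsPGroup q ↥X' := hXq
    obtain ⟨k, hk⟩ := (hX'p.to_subgroup ((Subgroup.normalizer
        ((ffE p H A : Subgroup G) : Set G)).subgroupOf X')).exists_card_eq
    rw [hk] at h2
    have h4 : orderOf u ∣ Nat.gcd (q ^ k) p :=
      Nat.dvd_gcd (orderOf_dvd_of_pow_eq_one h2) (orderOf_dvd_of_pow_eq_one h3)
    have h5 : Nat.gcd (q ^ k) p = 1 := Nat.Coprime.pow_left k hqp'
    rw [h5] at h4
    exact orderOf_eq_one_iff.mp (Nat.dvd_one.mp h4)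
  have hinj2 : ∀ u₁ u₂ : ↥V, (u₁ : G) ∈ ffN p V H A → (u₂ : G) ∈ ffN p V H A →
      trAut (Cfsg.Agent.S0593.conjAut V X' hXV) u₁ =
        trAut (Cfsg.Agent.S0593.conjAut V X' hXV) u₂ → u₁ = u₂ := by
    intro u₁ u₂ h1 h2 h
    have h3 : (((u₁ * u₂⁻¹ : ↥V)) : G) ∈ ffN p V H A := by
      rw [Subgroup.coe_mul, Subgroup.coe_inv]
      exact mul_mem h1 (inv_mem h2)
    have h4 := hinj _ h3 (by rw [map_mul, map_inv, h, mul_inv_cancel])
    exact mul_inv_eq_one.mp h4
  refine ⟨(((ffN p V H A).subgroupOf V).map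
    (trAut (Cfsg.Agent.S0593.conjAut V X' hXV))).map V.subtype, ?_, ?_, ?_⟩
  · rintro _ ⟨_, ⟨u, hu, rfl⟩, rfl⟩
    refine Subgroup.mem_inf.mpr ⟨(trAut (Cfsg.Agent.S0593.conjAut V X' hXV) u).2, ?_⟩
    rw [Subgroup.mem_centralizer_iff]
    intro x hx
    have h1 := trAut_fixed (Cfsg.Agent.S0593.conjAut V X' hXV) ⟨x, hx⟩ u
    have h2 := congrArg (fun v : ↥V => (v : G)) h1
    have h3 : x * (trAut (Cfsg.Agent.S0593.conjAut V X' hXV) u : G) * x⁻¹ =
        (trAut (Cfsg.Agent.S0593.conjAut V X' hXV) u : G) := h2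
    show x * (trAut (Cfsg.Agent.S0593.conjAut V X' hXV) u : G) =
      (trAut (Cfsg.Agent.S0593.conjAut V X' hXV) u : G) * x
    calc x * (trAut (Cfsg.Agent.S0593.conjAut V X' hXV) u : G)
        = (x * (trAut (Cfsg.Agent.S0593.conjAut V X' hXV) u : G) * x⁻¹) * x := by group
      _ = (trAut (Cfsg.Agent.S0593.conjAut V X' hXV) u : G) * x := by rw [h3]
  · rw [Subgroup.card_map_of_injective V.subtype_injective]
    have hfi : Function.Injective ((trAut (Cfsg.Agent.S0593.conjAut V X' hXV)).comp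
        ((ffN p V H A).subgroupOf V).subtype) := by
      intro a b hab
      exact Subtype.ext (hinj2 a b (Subgroup.mem_subgroupOf.mp a.2)
        (Subgroup.mem_subgroupOf.mp b.2) hab)
    have hr : ((ffN p V H A).subgroupOf V).map (trAut (Cfsg.Agent.S0593.conjAut V X' hXV)) =
        ((trAut (Cfsg.Agent.S0593.conjAut V X' hXV)).comp
          ((ffN p V H A).subgroupOf V).subtype).range := by
      rw [MonoidHom.range_comp, Subgroup.range_subtype]
    rw [hr, ← Nat.card_congr (MonoidHom.ofInjective hfi).toEquiv,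
      card_subgroupOf_of_le hA.N_le, hA.cardN]
  · intro r hr
    obtain ⟨hrH, hrX⟩ := Subgroup.mem_inf.mp hr
    have hrX' := Subgroup.mem_centralizer_iff.mp hrX
    have hequi : ∀ u : ↥V, Cfsg.Agent.S0593.conjAut V H hA.hHV ⟨r, hrH⟩
        (trAut (Cfsg.Agent.S0593.conjAut V X' hXV) u) =
        trAut (Cfsg.Agent.S0593.conjAut V X' hXV)
          (Cfsg.Agent.S0593.conjAut V H hA.hHV ⟨r, hrH⟩ u) := by
      intro u
      apply trAut_equivariant
      intro x a
      apply Subtype.ext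
      show r * ((x : G) * a * (x : G)⁻¹) * r⁻¹ = (x : G) * (r * a * r⁻¹) * (x : G)⁻¹
      have h1 := hrX' x x.2
      calc r * ((x : G) * a * (x : G)⁻¹) * r⁻¹
          = (r * (x : G)) * a * (x : G)⁻¹ * r⁻¹ := by group
        _ = ((x : G) * r) * a * (x : G)⁻¹ * r⁻¹ := by rw [h1]
        _ = (x : G) * (r * a) * ((x : G)⁻¹ * r⁻¹) := by group
        _ = (x : G) * (r * a) * (r * (x : G))⁻¹ := by group
        _ = (x : G) * (r * a) * ((x : G) * r)⁻¹ := by rw [h1]
        _ = (x : G) * (r * a * r⁻¹) * (x : G)⁻¹ := by group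
    have hrN : ∀ u : ↥V, (u : G) ∈ ffN p V H A →
        ((Cfsg.Agent.S0593.conjAut V H hA.hHV ⟨r, hrH⟩ u : ↥V) : G) ∈ ffN p V H A := by
      intro u hu
      exact (Subgroup.mem_normalizer_iff.mp (hA.H_norm_N hS hrH) u).mp hu
    constructor
    · apply h5g_mem_normalizer_of_conj_le
      rintro _ ⟨_, ⟨u, hu, rfl⟩, rfl⟩
      have h1 := congrArg (fun v : ↥V => (v : G)) (hequi u)
      have h2 : r * (trAut (Cfsg.Agent.S0593.conjAut V X' hXV) u : G) * r⁻¹ =
          (trAut (Cfsg.Agent.S0593.conjAut V X' hXV)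
            (Cfsg.Agent.S0593.conjAut V H hA.hHV ⟨r, hrH⟩ u) : G) := h1
      show r * (trAut (Cfsg.Agent.S0593.conjAut V X' hXV) u : G) * r⁻¹ ∈ _
      rw [h2]
      exact ⟨_, ⟨_, Subgroup.mem_subgroupOf.mpr (hrN u (Subgroup.mem_subgroupOf.mp hu)), rfl⟩, rfl⟩
    · constructor
      · intro hc
        rw [Subgroup.mem_centralizer_iff] at hc ⊢
        intro n hn
        have h1 := hc (trAut (Cfsg.Agent.S0593.conjAut V X' hXV) ⟨n, hA.N_le hn⟩ : G)
          ⟨_, ⟨⟨n, hA.N_le hn⟩, Subgroup.mem_subgroupOf.mpr hn, rfl⟩, rfl⟩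
        have h2 : Cfsg.Agent.S0593.conjAut V H hA.hHV ⟨r, hrH⟩
            (trAut (Cfsg.Agent.S0593.conjAut V X' hXV) ⟨n, hA.N_le hn⟩) =
            trAut (Cfsg.Agent.S0593.conjAut V X' hXV) ⟨n, hA.N_le hn⟩ := by
          apply Subtype.ext
          show r * (trAut (Cfsg.Agent.S0593.conjAut V X' hXV) ⟨n, hA.N_le hn⟩ : G) * r⁻¹ = _
          rw [← h1]; group
        rw [hequi] at h2
        have h3 := hinj2 _ _ (hrN ⟨n, hA.N_le hn⟩ hn) hn h2
        have h4 := congrArg (fun v : ↥V => (v : G)) h3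
        have h5 : r * n * r⁻¹ = n := h4
        calc n * r = (r * n * r⁻¹) * r := by rw [h5]
          _ = r * n := by group
      · intro hc
        rw [Subgroup.mem_centralizer_iff] at hc ⊢
        rintro _ ⟨_, ⟨u, hu, rfl⟩, rfl⟩
        have h1 : Cfsg.Agent.S0593.conjAut V H hA.hHV ⟨r, hrH⟩ u = u := by
          apply Subtype.ext
          show r * (u : G) * r⁻¹ = u
          rw [← hc u (Subgroup.mem_subgroupOf.mp hu)]; group
        have h2 := hequi u
        rw [h1] at h2
        have h3 := congrArg (fun v : ↥V => (v : G)) h2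
        have h4 : r * (trAut (Cfsg.Agent.S0593.conjAut V X' hXV) u : G) * r⁻¹ =
            (trAut (Cfsg.Agent.S0593.conjAut V X' hXV) u : G) := h3
        show (trAut (Cfsg.Agent.S0593.conjAut V X' hXV) u : G) * r =
          r * (trAut (Cfsg.Agent.S0593.conjAut V X' hXV) u : G)
        calc (trAut (Cfsg.Agent.S0593.conjAut V X' hXV) u : G) * r
            = (r * (trAut (Cfsg.Agent.S0593.conjAut V X' hXV) u : G) * r⁻¹) * r := by rw [h4]
          _ = r * (trAut (Cfsg.Agent.S0593.conjAut V X' hXV) u : G) := by group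

theorem minOff_op_cent_E (hA : MinOff p V H A) {X' : Subgroup G}
    (hXV : X' ≤ Subgroup.normalizer (V : Set G)) (hXq : IsPGroup q X')
    (hq : ¬ q ∣ Nat.card H) {x : G} (hx : x ∈ X')
    (hxE : x ∈ Subgroup.normalizer ((ffE p H A : Subgroup G) : Set G)) :
    x ∈ Subgroup.centralizer ((ffE p H A : Subgroup G) : Set G) := by
  have hxcW := minOff_op_cent_N hA hXV hXq hq hx hxE
  rw [Subgroup.mem_centralizer_iff]
  intro e he
  have heCW := le_normalizer_centralizer_of_le hA.E_norm_N he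
  have h1 : x * e * x⁻¹ * e⁻¹ ∈ ffE p H A ⊓
      Subgroup.centralizer ((ffN p V H A : Subgroup G) : Set G) := by
    refine Subgroup.mem_inf.mpr
      ⟨mul_mem ((Subgroup.mem_normalizer_iff.mp hxE e).mp he) (inv_mem he), ?_⟩
    have h2 : e * x⁻¹ * e⁻¹ ∈ Subgroup.centralizer ((ffN p V H A : Subgroup G) : Set G) :=
      (Subgroup.mem_normalizer_iff.mp heCW x⁻¹).mp (inv_mem hxcW)
    have h3 : x * e * x⁻¹ * e⁻¹ = x * (e * x⁻¹ * e⁻¹) := by group
    rw [h3]
    exact mul_mem hxcW h2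
  rw [hA.faithfulE, Subgroup.mem_bot] at h1
  calc e * x = (x * e * x⁻¹ * e⁻¹)⁻¹ * (x * e) := by group
    _ = x * e := by rw [h1, inv_one, one_mul]

theorem exists_minOff (hS : FFSetup p V H) (hH : H ≠ ⊥) : ∃ A, MinOff p V H A := by
  by_contra hcon
  apply hH
  rw [eq_bot_iff]
  apply hS.hgen
  intro D hD
  exact absurd ⟨D, hD⟩ hcon

theorem ffop_plane (hS : FFSetup p V H) (hH : H ≠ ⊥) (X' : Subgroup G)
    (hXH : X' ≤ Subgroup.normalizer (H : Set G))
    (hXV : X' ≤ Subgroup.normalizer (V : Set G)) (hXq : IsPGroup q X')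
    (hq : ¬ q ∣ Nat.card H) :
    (p = 2 ∨ p = 3) ∧ ∃ W' : Subgroup G, W' ≤ V ⊓ Subgroup.centralizer (X' : Set G) ∧
      Nat.card W' = p ^ 2 ∧
      H ⊓ Subgroup.centralizer (X' : Set G) ≤ Subgroup.normalizer (W' : Set G) ∧
      ∃ hn : ((Subgroup.centralizer (W' : Set G)).subgroupOf
          (H ⊓ Subgroup.centralizer (X' : Set G))).Normal,
        Nonempty ((↥(H ⊓ Subgroup.centralizer (X' : Set G)) ⧸
          (Subgroup.centralizer (W' : Set G)).subgroupOf
            (H ⊓ Subgroup.centralizer (X' : Set G))) ≃*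
          Matrix.SpecialLinearGroup (Fin 2) (ZMod p)) := by
  obtain ⟨A, hA⟩ := exists_minOff hS hH
  obtain ⟨W', hW1, hW2, hW3⟩ := trace_plane hS hA X' hXH hXV hXq hq
  refine ⟨hA.p23, W', hW1, hW2, fun r hr => (hW3 r hr).1, ?_⟩
  have hRN : H ⊓ Subgroup.centralizer (X' : Set G) ≤
      Subgroup.normalizer ((ffN p V H A : Subgroup G) : Set G) :=
    inf_le_left.trans (hA.H_norm_N hS)
  have hEF := hA.comm_E_F hS
  rw [Subgroup.commutator_eq_bot_iff_le_centralizer] at hEF
  have hcEF : ∀ e ∈ ffE p H A,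
      ∀ f ∈ H ⊓ Subgroup.centralizer ((ffN p V H A : Subgroup G) : Set G), e * f = f * e := by
    intro e he f hf
    exact ((Subgroup.mem_centralizer_iff.mp (hEF he)) f hf).symm
  have hact : ∀ (e f n : G), f ∈ Subgroup.centralizer ((ffN p V H A : Subgroup G) : Set G) →
      n ∈ ffN p V H A → (e * f) * n * (e * f)⁻¹ = e * n * e⁻¹ := by
    intro e f n hf hn
    have h1 := Subgroup.mem_centralizer_iff.mp hf n hn
    calc (e * f) * n * (e * f)⁻¹ = e * (f * n) * f⁻¹ * e⁻¹ := by group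
      _ = e * (n * f) * f⁻¹ * e⁻¹ := by rw [h1]
      _ = e * n * e⁻¹ := by group
  have hker : (Subgroup.centralizer (W' : Set G)).subgroupOf
      (H ⊓ Subgroup.centralizer (X' : Set G)) =
      (Cfsg.Agent.S0593.conjAut (ffN p V H A) (H ⊓ Subgroup.centralizer (X' : Set G)) hRN).ker := by
    ext r
    rw [Subgroup.mem_subgroupOf, (hW3 r r.2).2, MonoidHom.mem_ker, Subgroup.mem_centralizer_iff]
    constructor
    · intro h
      ext n
      show (r : G) * n * (r : G)⁻¹ = n
      rw [← h n n.2]; group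
    · intro h n hn
      have h1 := congrArg (fun f : MulAut ↥(ffN p V H A) => ((f ⟨n, hn⟩ : ↥(ffN p V H A)) : G)) h
      have h2 : (r : G) * n * (r : G)⁻¹ = n := h1
      calc n * (r : G) = ((r : G) * n * (r : G)⁻¹) * (r : G) := by rw [h2]
        _ = (r : G) * n := by group
  have hrange : (Cfsg.Agent.S0593.conjAut (ffN p V H A)
      (H ⊓ Subgroup.centralizer (X' : Set G)) hRN).range =
      (Cfsg.Agent.S0593.conjAut (ffN p V H A) (ffE p H A) hA.E_norm_N).range := by
    apply le_antisymm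
    · rintro _ ⟨r, rfl⟩
      have hrH : (r : G) ∈ ffE p H A ⊔
          (H ⊓ Subgroup.centralizer ((ffN p V H A : Subgroup G) : Set G)) := by
        rw [hA.E_sup_F hS]; exact r.2.1
      obtain ⟨e, he, f, hf, hr⟩ := mem_sup_of_commute hcEF hrH
      refine ⟨⟨e, he⟩, ?_⟩
      ext n
      show e * (n : G) * e⁻¹ = (r : G) * n * (r : G)⁻¹
      rw [hr, hact e f n hf.2 n.2]
    · rintro _ ⟨e, rfl⟩
      obtain ⟨c, f, hcX, hcH, -, hfF, hcef⟩ := diag_exists2 X' (ffE p H A) H
        (H ⊓ Subgroup.centralizer ((ffN p V H A : Subgroup G) : Set G))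
        (fun x hx hxE => minOff_op_cent_E hA hXV hXq hq hx hxE)
        (fun x hx hxE => by
          have h1 := (minOff_op_moved hS hA hXH hXV hx hxE).2
          intro y hy
          have h2 := h1 hy
          rw [Subgroup.mem_centralizer_iff]
          intro e' he'
          exact hcEF e' he' y h2)
        (fun x hx => map_conj_le_of_mem_normalizer hA.E_le (hXH hx))
        (fun x hx hxE => (minOff_op_moved hS hA hXH hXV hx hxE).2) e e.2
      refine ⟨⟨c, Subgroup.mem_inf.mpr ⟨hcH, hcX⟩⟩, ?_⟩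
      ext n
      show c * (n : G) * c⁻¹ = (e : G) * n * (e : G)⁻¹
      rw [hcef, hact (e : G) f n hfF.2 n.2]
  have hinjE := conjAut_injective (ffN p V H A) (ffE p H A) hA.E_norm_N hA.faithfulE
  have hn : ((Subgroup.centralizer (W' : Set G)).subgroupOf
      (H ⊓ Subgroup.centralizer (X' : Set G))).Normal := by
    rw [hker]; infer_instance
  obtain ⟨iso⟩ := hA.isoE
  exact ⟨hn, ⟨(QuotientGroup.quotientMulEquivOfEq hker).trans
    ((QuotientGroup.quotientKerEquivRange _).trans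
      ((MulEquiv.subgroupCongr hrange).trans
        ((MonoidHom.ofInjective hinjE).symm.trans iso)))⟩⟩

end FFPlane

end Cfsg.Agent.Lib.Helper5
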