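import Mathlib
import Cfsg.Agent.Lib.Helper5.FF8
import Cfsg.Agent.Lib.Helper5.PConstrDual

set_option autoImplicit false

namespace Cfsg.Agent.Lib.Helper5

open scoped commutatorElement Pointwise

section Hol

variable {G : Type*} [Group G] (V : Subgroup G) [V.Normal]

abbrev HolG := SemidirectProduct ↥V (MulAut ↥V) (MonoidHom.id (MulAut ↥V))

noncomputable def holPsi : G →* HolG V := SemidirectProduct.inr.comp MulAut.conjNormal

def holV : Subgroup (HolG V) := (SemidirectProduct.inl : ↥V →* HolG V).range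

instance holG_finite [Finite G] : Finite (HolG V) :=
  Finite.of_equiv _ SemidirectProduct.equivProd.symm

theorem holPsi_conj (g : G) (v : V) :
    holPsi V g * SemidirectProduct.inl v * (holPsi V g)⁻¹ =
      SemidirectProduct.inl (MulAut.conjNormal g v) := by
  unfold holPsi
  rw [MonoidHom.comp_apply, ← map_inv, ← SemidirectProduct.inl_aut]
  rfl

theorem holPsi_ker : (holPsi V).ker = Subgroup.centralizer (V : Set G) := by
  ext g
  rw [MonoidHom.mem_ker, Subgroup.mem_centralizer_iff]
  unfold holPsi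
  rw [MonoidHom.comp_apply]
  constructor
  · intro h v hv
    have h1 : (MulAut.conjNormal g : MulAut ↥V) = 1 := by
      apply SemidirectProduct.inr_injective (φ := MonoidHom.id (MulAut ↥V)) (N := ↥V)
      rw [h, map_one]
    have h2 := congrArg (fun f : MulAut ↥V => ((f ⟨v, hv⟩ : V) : G)) h1
    simp only [MulAut.conjNormal_apply, MulAut.one_apply] at h2
    calc v * g = (g * v * g⁻¹) * g := by rw [h2]
      _ = g * v := by group
  · intro h
    have h1 : (MulAut.conjNormal g : MulAut ↥V) = 1 := by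
      ext v
      rw [MulAut.conjNormal_apply, MulAut.one_apply, ← h v v.2]
      group
    rw [h1, map_one]

theorem holV_normal : (holV V).Normal := by
  unfold holV
  rw [SemidirectProduct.range_inl_eq_ker_rightHom]
  infer_instance

theorem holV_elemAb {p : ℕ} (hV : Cfsg.IsElementaryAbelian p V) :
    Cfsg.IsElementaryAbelian p (holV V) := by
  constructor
  · refine ⟨⟨fun a b => ?_⟩⟩
    obtain ⟨a, ⟨u, rfl⟩⟩ := a
    obtain ⟨b, ⟨v, rfl⟩⟩ := b
    apply Subtype.ext
    show SemidirectProduct.inl u * SemidirectProduct.inl v =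
      SemidirectProduct.inl v * SemidirectProduct.inl u
    rw [← map_mul, ← map_mul, hV.1.is_comm.comm u v]
  · rintro _ ⟨u, rfl⟩
    rw [← map_pow]
    have : u ^ p = 1 := by
      apply Subtype.ext
      rw [Subgroup.coe_pow, Subgroup.coe_one]
      exact hV.2 u u.2
    rw [this, map_one]

theorem hol_faithful :
    (holPsi V).range ⊓ Subgroup.centralizer ((holV V : Subgroup (HolG V)) : Set (HolG V)) = ⊥ := by
  rw [eq_bot_iff]
  rintro _ ⟨⟨g, rfl⟩, hg⟩
  rw [Subgroup.mem_bot, ← MonoidHom.mem_ker, holPsi_ker, Subgroup.mem_centralizer_iff]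
  intro v hv
  have hg' : holPsi V g ∈ Subgroup.centralizer ((holV V : Subgroup (HolG V)) : Set (HolG V)) := hg
  rw [Subgroup.mem_centralizer_iff] at hg'
  have h1 := hg' (SemidirectProduct.inl (⟨v, hv⟩ : V)) ⟨_, rfl⟩
  have h2 := holPsi_conj V g ⟨v, hv⟩
  have h3 : holPsi V g * SemidirectProduct.inl (⟨v, hv⟩ : V) * (holPsi V g)⁻¹ =
      SemidirectProduct.inl (⟨v, hv⟩ : V) := by
    rw [← h1]; group
  rw [h3] at h2
  have h4 := SemidirectProduct.inl_injective h2
  have h5 := congrArg (fun w : V => (w : G)) h4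
  simp only [MulAut.conjNormal_apply] at h5
  calc v * g = (g * v * g⁻¹) * g := by rw [← h5]
    _ = g * v := by group

def holSub (S : Subgroup G) : Subgroup (HolG V) :=
  (S.subgroupOf V).map (SemidirectProduct.inl : ↥V →* HolG V)

theorem card_holSub [Finite G] {S : Subgroup G} (hS : S ≤ V) :
    Nat.card (holSub V S) = Nat.card S := by
  unfold holSub
  rw [Subgroup.card_map_of_injective SemidirectProduct.inl_injective]
  exact Nat.card_congr (Subgroup.subgroupOfEquivOfLe hS).toEquiv

theorem holV_eq : holV V = holSub V V := by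
  unfold holV holSub
  rw [Subgroup.subgroupOf_self, MonoidHom.range_eq_map]

theorem mem_holSub {S : Subgroup G} {x : HolG V} :
    x ∈ holSub V S ↔ ∃ v : V, (v : G) ∈ S ∧ SemidirectProduct.inl v = x := by
  unfold holSub
  rw [Subgroup.mem_map]
  constructor
  · rintro ⟨v, hv, rfl⟩
    exact ⟨v, Subgroup.mem_subgroupOf.mp hv, rfl⟩
  · rintro ⟨v, hv, rfl⟩
    exact ⟨v, Subgroup.mem_subgroupOf.mpr hv, rfl⟩

theorem hol_cent (X : Subgroup G) :
    holV V ⊓ Subgroup.centralizer ((X.map (holPsi V) : Subgroup (HolG V)) : Set (HolG V)) =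
      holSub V (V ⊓ Subgroup.centralizer (X : Set G)) := by
  ext x
  rw [Subgroup.mem_inf, mem_holSub]
  constructor
  · rintro ⟨⟨v, rfl⟩, hc⟩
    refine ⟨v, Subgroup.mem_inf.mpr ⟨v.2, ?_⟩, rfl⟩
    rw [Subgroup.mem_centralizer_iff] at hc ⊢
    intro g hg
    have h1 := hc (holPsi V g) ⟨g, hg, rfl⟩
    have h2 := holPsi_conj V g v
    have h3 : holPsi V g * SemidirectProduct.inl v * (holPsi V g)⁻¹ =
        SemidirectProduct.inl v := by
      rw [h1]; group
    rw [h3] at h2
    have h4 := SemidirectProduct.inl_injective h2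
    have h5 := congrArg (fun w : V => (w : G)) h4
    simp only [MulAut.conjNormal_apply] at h5
    calc g * v = (g * v * g⁻¹) * g := by group
      _ = v * g := by rw [← h5]
  · rintro ⟨v, hv, rfl⟩
    refine ⟨⟨v, rfl⟩, ?_⟩
    rw [Subgroup.mem_centralizer_iff]
    rintro _ ⟨g, hg, rfl⟩
    have hvc := (Subgroup.mem_inf.mp hv).2
    rw [Subgroup.mem_centralizer_iff] at hvc
    have h1 := hvc g hg
    have h2 := holPsi_conj V g v
    have h3 : (MulAut.conjNormal g v : V) = v := by
      apply Subtype.ext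
      rw [MulAut.conjNormal_apply, h1]; group
    rw [h3] at h2
    calc holPsi V g * SemidirectProduct.inl v =
        (holPsi V g * SemidirectProduct.inl v * (holPsi V g)⁻¹) * holPsi V g := by group
      _ = SemidirectProduct.inl v * holPsi V g := by rw [h2]

theorem card_map_psi [Finite G] (A : Subgroup G) :
    Nat.card (A.map (holPsi V)) * Nat.card ↥(A ⊓ Subgroup.centralizer (V : Set G)) =
      Nat.card A := by
  have h1 := Subgroup.card_eq_card_quotient_mul_card_subgroup ((holPsi V).comp A.subtype).ker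
  have h2 : Nat.card (↥A ⧸ ((holPsi V).comp A.subtype).ker) = Nat.card (A.map (holPsi V)) := by
    have e : ((holPsi V).comp A.subtype).range = A.map (holPsi V) := by
      rw [MonoidHom.range_comp, Subgroup.range_subtype]
    rw [← e]
    exact Nat.card_congr (QuotientGroup.quotientKerEquivRange ((holPsi V).comp A.subtype)).toEquiv
  have h3 : Nat.card ↥((holPsi V).comp A.subtype).ker =
      Nat.card ↥(A ⊓ Subgroup.centralizer (V : Set G)) := by
    rw [← MonoidHom.comap_ker, holPsi_ker]
    show Nat.card ↥((Subgroup.centralizer (V : Set G)).subgroupOf A) = _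
    rw [inf_comm, ← Subgroup.inf_subgroupOf_right]
    exact Nat.card_congr (Subgroup.subgroupOfEquivOfLe inf_le_right).toEquiv
  rw [h2, h3] at h1
  exact h1.symm

theorem pCore_eq_bot_of_mulEquiv {X Y : Type*} [Group X] [Group Y] {p : ℕ} [Fact p.Prime]
    (e : X ≃* Y) (h : Cfsg.pCore p X = ⊥) : Cfsg.pCore p Y = ⊥ := by
  have hn : ((Cfsg.pCore p Y).map e.symm.toMonoidHom).Normal :=
    (Cfsg.Agent.Lib.Helper1.pCore_normal p).map _ e.symm.surjective
  have hp : IsPGroup p ↥((Cfsg.pCore p Y).map e.symm.toMonoidHom) :=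
    (Cfsg.Agent.Lib.Helper1.pCore_isPGroup p).map _
  have h1 := Cfsg.Agent.Lib.Helper1.le_pCore hn hp
  rw [h, le_bot_iff] at h1
  exact (Subgroup.map_eq_bot_iff_of_injective _ e.symm.injective).mp h1

theorem hol_range_hS1 [Finite G] {p : ℕ} [Fact p.Prime] (hsep : Cfsg.IsPSolvable p G)
    (hO : Cfsg.pCore p (G ⧸ Subgroup.centralizer (V : Set G)) = ⊥) :
    Subgroup.centralizer (Cfsg.pPrimeCore p ↥(holPsi V).range : Set ↥(holPsi V).range) ≤
      Cfsg.pPrimeCore p ↥(holPsi V).range := by
  apply h5_centralizer_pPrimeCore_le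
  · exact h5_isPSolvable_of_surjective (holPsi V).rangeRestrict
      (holPsi V).rangeRestrict_surjective hsep
  · exact pCore_eq_bot_of_mulEquiv
      ((QuotientGroup.quotientMulEquivOfEq (holPsi_ker V).symm).trans
        (QuotientGroup.quotientKerEquivRange (holPsi V))) hO

theorem hol_no_over [Finite G] {p : ℕ} [Fact p.Prime] (hsep : Cfsg.IsPSolvable p G)
    (hV : Cfsg.IsElementaryAbelian p V)
    (hO : Cfsg.pCore p (G ⧸ Subgroup.centralizer (V : Set G)) = ⊥)
    (A : Subgroup G) (hA : Cfsg.IsElementaryAbelian p A) :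
    Nat.card A * Nat.card ↥(V ⊓ Subgroup.centralizer (A : Set G)) ≤
      Nat.card V * Nat.card ↥(A ⊓ Subgroup.centralizer (V : Set G)) := by
  haveI := holV_normal V
  have h1 := no_over_offender (holV_elemAb V hV)
    (Subgroup.le_normalizer_of_normal : (holPsi V).range ≤ _) (hol_faithful V)
    (hol_range_hS1 V hsep hO) _ (A.map (holPsi V)) rfl
    (by rw [MonoidHom.range_eq_map]; exact Subgroup.map_mono le_top) (elemAb_map _ hA)
  rw [hol_cent, card_holSub V inf_le_left, holV_eq, card_holSub V le_rfl] at h1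
  rw [← card_map_psi V A]
  calc Nat.card ↥(A.map (holPsi V)) * Nat.card ↥(A ⊓ Subgroup.centralizer (V : Set G)) *
        Nat.card ↥(V ⊓ Subgroup.centralizer (A : Set G)) =
      (Nat.card ↥(A.map (holPsi V)) * Nat.card ↥(V ⊓ Subgroup.centralizer (A : Set G))) *
        Nat.card ↥(A ⊓ Subgroup.centralizer (V : Set G)) := by ring
    _ ≤ Nat.card V * Nat.card ↥(A ⊓ Subgroup.centralizer (V : Set G)) :=
      Nat.mul_le_mul_right _ h1

end Hol

end Cfsg.Agent.Lib.Helper5
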