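import Mathlib
import Cfsg.Agent.Lib.Helper5.Hol
import Cfsg.Agent.Lib.Helper18.PCore

set_option autoImplicit false

namespace Cfsg.Agent.Lib.Helper5

open scoped commutatorElement Pointwise

section Hol2

theorem relIndex_dvd_of_le_of_normal {Y : Type*} [Group Y] {A M B : Subgroup Y} [A.Normal]
    (hAB : A ≤ B) (hMB : M ≤ B) : A.relIndex M ∣ A.relIndex B := by
  rw [← Subgroup.relIndex_sup_right (H := M) (K := A)]
  have h1 := Subgroup.relIndex_mul_relIndex A (M ⊔ A) B le_sup_right (sup_le hMB hAB)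
  exact Dvd.intro _ h1

theorem isPSolvable_of_injective {X Y : Type*} [Group X] [Group Y] {p : ℕ} [Fact p.Prime]
    (f : X →* Y) (hf : Function.Injective f) (h : Cfsg.IsPSolvable p Y) :
    Cfsg.IsPSolvable p X := by
  have hp : p.Prime := Fact.out
  obtain ⟨n, H, h0, hlast, hmono, hnorm, hfac⟩ := h
  refine ⟨n, fun i => (H i).comap f, ?_, ?_, ?_, ?_, ?_⟩
  · show (H 0).comap f = ⊥
    rw [h0, MonoidHom.comap_bot, (MonoidHom.ker_eq_bot_iff f).mpr hf]
  · show (H (Fin.last n)).comap f = ⊤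
    rw [hlast, Subgroup.comap_top]
  · intro i j hij
    exact Subgroup.comap_mono (hmono hij)
  · intro i
    have := hnorm i
    infer_instance
  · intro i
    haveI := hnorm i.castSucc
    have hdvd : ((H i.castSucc).comap f).relIndex ((H i.succ).comap f) ∣
        (H i.castSucc).relIndex (H i.succ) := by
      rw [Subgroup.relIndex_comap]
      apply relIndex_dvd_of_le_of_normal (hmono (Fin.castSucc_le_succ i))
      rw [Subgroup.map_comap_eq]
      exact inf_le_right
    rcases hfac i with ⟨m, hm⟩ | hc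
    · left
      rw [hm] at hdvd
      obtain ⟨k, -, hk⟩ := (Nat.dvd_prime_pow hp).mp hdvd
      exact ⟨k, hk⟩
    · right
      exact Nat.Coprime.coprime_dvd_left hdvd hc

variable {G : Type*} [Group G] (V : Subgroup G) [V.Normal]

theorem hol_pCore_map_eq_bot [Finite G] {p : ℕ} [Fact p.Prime]
    (hO : Cfsg.pCore p (G ⧸ Subgroup.centralizer (V : Set G)) = ⊥) (J : Subgroup G) [J.Normal] :
    Cfsg.pCore p ↥(J.map (holPsi V)) = ⊥ := by
  have hRH : (holPsi V).range ≤
      Subgroup.normalizer ((J.map (holPsi V) : Subgroup (HolG V)) : Set (HolG V)) := by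
    have h1 := Subgroup.le_normalizer_map (holPsi V) (H := J)
    rw [Subgroup.normalizer_eq_top, ← MonoidHom.range_eq_map] at h1
    exact h1
  haveI := Cfsg.Agent.Lib.Helper18.pCore_characteristic p ↥(J.map (holPsi V))
  have hRP := Cfsg.Agent.Lib.Lead.le_normalizer_map_characteristic (J.map (holPsi V))
    (holPsi V).range hRH (Cfsg.pCore p ↥(J.map (holPsi V)))
  set P₁ := (Cfsg.pCore p ↥(J.map (holPsi V))).map (J.map (holPsi V)).subtype with hP₁
  have hP₁p : IsPGroup p ↥P₁ := (Cfsg.Agent.Lib.Helper1.pCore_isPGroup p).map _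
  have hQn : (P₁.comap (holPsi V)).Normal := by
    constructor
    intro q hq g
    rw [Subgroup.mem_comap] at hq ⊢
    rw [map_mul, map_mul, map_inv]
    exact (Subgroup.le_normalizer_iff.mp hRP) (holPsi V g) ⟨g, rfl⟩ _ hq
  have hQmn : ((P₁.comap (holPsi V)).map
      (QuotientGroup.mk' (Subgroup.centralizer (V : Set G)))).Normal :=
    hQn.map _ (QuotientGroup.mk'_surjective _)
  have hQmp : IsPGroup p ↥((P₁.comap (holPsi V)).map
      (QuotientGroup.mk' (Subgroup.centralizer (V : Set G)))) := by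
    rintro ⟨_, ⟨q, hq, rfl⟩⟩
    rw [SetLike.mem_coe, Subgroup.mem_comap] at hq
    obtain ⟨k, hk⟩ := hP₁p ⟨holPsi V q, hq⟩
    refine ⟨k, ?_⟩
    apply Subtype.ext
    rw [Subgroup.coe_pow, Subgroup.coe_one]
    show (QuotientGroup.mk' (Subgroup.centralizer (V : Set G)) q) ^ p ^ k = 1
    rw [← map_pow, QuotientGroup.mk'_apply, QuotientGroup.eq_one_iff, ← holPsi_ker V,
      MonoidHom.mem_ker, map_pow]
    have := congrArg Subtype.val hk
    rw [Subgroup.coe_pow, Subgroup.coe_one] at this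
    exact this
  have hQC := Cfsg.Agent.Lib.Helper1.le_pCore hQmn hQmp
  rw [hO, le_bot_iff, Subgroup.map_eq_bot_iff, QuotientGroup.ker_mk'] at hQC
  have hP₁bot : P₁ = ⊥ := by
    rw [eq_bot_iff]
    intro x hx
    have hxH : x ∈ J.map (holPsi V) := by
      obtain ⟨y, -, rfl⟩ := hx
      exact y.2
    obtain ⟨j, -, rfl⟩ := hxH
    have hjC := hQC (Subgroup.mem_comap.mpr hx)
    rw [← holPsi_ker V, MonoidHom.mem_ker] at hjC
    rw [Subgroup.mem_bot]
    exact hjC
  exact (Subgroup.map_eq_bot_iff_of_injective _ (J.map (holPsi V)).subtype_injective).mp hP₁bot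

theorem hol_map_hS1 [Finite G] {p : ℕ} [Fact p.Prime] (hsep : Cfsg.IsPSolvable p G)
    (hO : Cfsg.pCore p (G ⧸ Subgroup.centralizer (V : Set G)) = ⊥) (J : Subgroup G) [J.Normal] :
    Subgroup.centralizer (Cfsg.pPrimeCore p ↥(J.map (holPsi V)) : Set ↥(J.map (holPsi V))) ≤
      Cfsg.pPrimeCore p ↥(J.map (holPsi V)) := by
  apply h5_centralizer_pPrimeCore_le _ (hol_pCore_map_eq_bot V hO J)
  have h1 : Cfsg.IsPSolvable p ↥J := isPSolvable_of_injective J.subtype J.subtype_injective hsep
  exact h5_isPSolvable_of_surjective ((holPsi V).subgroupMap J)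
    ((holPsi V).subgroupMap_surjective J) h1

theorem hol_bestOffender [Finite G] {p : ℕ} [Fact p.Prime] (A : Subgroup G)
    (hA : Cfsg.IsBestOffenderOn p V A) :
    Cfsg.IsBestOffenderOn p (holV V) (A.map (holPsi V)) := by
  refine ⟨?_, ?_, ?_⟩
  · intro B' hB'
    have hBmap : (A ⊓ B'.comap (holPsi V)).map (holPsi V) = B' := by
      apply le_antisymm
      · rintro _ ⟨b, hb, rfl⟩
        exact hb.2
      · intro b' hb'
        obtain ⟨a, ha, rfl⟩ := hB' hb'
        exact ⟨a, ⟨ha, hb'⟩, rfl⟩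
    have hBC : (A ⊓ B'.comap (holPsi V)) ⊓ Subgroup.centralizer (V : Set G) =
        A ⊓ Subgroup.centralizer (V : Set G) := by
      apply le_antisymm (inf_le_inf_right _ inf_le_left)
      intro x hx
      refine ⟨⟨hx.1, ?_⟩, hx.2⟩
      have hx2 : x ∈ Subgroup.centralizer (V : Set G) := hx.2
      rw [← holPsi_ker V, MonoidHom.mem_ker] at hx2
      show holPsi V x ∈ B'
      rw [hx2]; exact one_mem _
    have h1 := hA.1 (A ⊓ B'.comap (holPsi V)) inf_le_left
    have h2 := card_map_psi V (A ⊓ B'.comap (holPsi V))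
    have h3 := card_map_psi V A
    rw [hBmap, hBC] at h2
    rw [← hBmap, hol_cent, hol_cent, card_holSub V inf_le_left, card_holSub V inf_le_left, hBmap]
    have hk : 0 < Nat.card ↥(A ⊓ Subgroup.centralizer (V : Set G)) := Nat.card_pos
    apply Nat.le_of_mul_le_mul_right _ hk
    calc Nat.card ↥B' * Nat.card ↥(V ⊓ Subgroup.centralizer
          ((A ⊓ B'.comap (holPsi V) : Subgroup G) : Set G)) *
          Nat.card ↥(A ⊓ Subgroup.centralizer (V : Set G))
        = (Nat.card ↥B' * Nat.card ↥(A ⊓ Subgroup.centralizer (V : Set G))) *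
          Nat.card ↥(V ⊓ Subgroup.centralizer
          ((A ⊓ B'.comap (holPsi V) : Subgroup G) : Set G)) := by ring
      _ = Nat.card ↥(A ⊓ B'.comap (holPsi V)) * Nat.card ↥(V ⊓ Subgroup.centralizer
          ((A ⊓ B'.comap (holPsi V) : Subgroup G) : Set G)) := by rw [h2]
      _ ≤ Nat.card A * Nat.card ↥(V ⊓ Subgroup.centralizer (A : Set G)) := h1
      _ = (Nat.card ↥(A.map (holPsi V)) * Nat.card ↥(A ⊓ Subgroup.centralizer (V : Set G))) *
          Nat.card ↥(V ⊓ Subgroup.centralizer (A : Set G)) := by rw [h3]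
      _ = Nat.card ↥(A.map (holPsi V)) * Nat.card ↥(V ⊓ Subgroup.centralizer (A : Set G)) *
          Nat.card ↥(A ⊓ Subgroup.centralizer (V : Set G)) := by ring
  · rw [← Subgroup.map_commutator]
    have h1 : (⁅A, A⁆).map (holPsi V) = ⊥ := by
      rw [Subgroup.map_eq_bot_iff, holPsi_ker]
      exact hA.2.1
    rw [h1]; exact bot_le
  · rintro _ ⟨a, ha, rfl⟩
    have h1 := hA.2.2 a ha
    rw [← holPsi_ker V, MonoidHom.mem_ker, map_pow] at h1
    rw [h1]; exact one_mem _

theorem hol_pullback (E' : Subgroup (HolG V)) (hE' : E' ≤ (holPsi V).range) :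
    ∃ hn : ((Subgroup.centralizer (V : Set G)).subgroupOf (E'.comap (holPsi V))).Normal,
      Nonempty ((↥(E'.comap (holPsi V)) ⧸
        (Subgroup.centralizer (V : Set G)).subgroupOf (E'.comap (holPsi V))) ≃* ↥E') := by
  let φ : ↥(E'.comap (holPsi V)) →* ↥E' :=
    ((holPsi V).comp (E'.comap (holPsi V)).subtype).codRestrict E' (fun e => e.2)
  have hsurj : Function.Surjective φ := by
    rintro ⟨y, hy⟩
    obtain ⟨g, rfl⟩ := hE' hy
    exact ⟨⟨g, hy⟩, rfl⟩
  have hker : (Subgroup.centralizer (V : Set G)).subgroupOf (E'.comap (holPsi V)) = φ.ker := by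
    ext x
    rw [Subgroup.mem_subgroupOf, MonoidHom.mem_ker, ← holPsi_ker V, MonoidHom.mem_ker]
    constructor
    · intro h
      apply Subtype.ext
      exact h
    · intro h
      exact congrArg Subtype.val h
  have hn : ((Subgroup.centralizer (V : Set G)).subgroupOf (E'.comap (holPsi V))).Normal := by
    rw [hker]; infer_instance
  exact ⟨hn, ⟨(QuotientGroup.quotientMulEquivOfEq hker).trans
    (QuotientGroup.quotientKerEquivOfSurjective φ hsurj)⟩⟩

end Hol2

end Cfsg.Agent.Lib.Helper5
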