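import Mathlib
import Cfsg.Agent.Lib.Helper19.G2V.Defs
import Cfsg.Agent.S1048

/-!
# Project G2V (S2461), rows M2 (`X_mem_Qp`, `X_mem_Lv`, `Qp_le_Pp`, `Lv_le_Pp`) and M3 (`Pp_le_Gp`), verbatim.
-/

set_option autoImplicit false

namespace Cfsg.Agent.Lib.Helper19.G2V

open Cfsg.Lie Cfsg.Lie.ChevalleyDatum Matrix
open Cfsg.Agent.Lib.helper8
open Cfsg.Agent.Lib.helper23.P4V

universe u

variable {F : Type u} [Field F]

/-- **M2**, part 1. -/
theorem X_mem_Qp (r : ℕ) (hr : r ∈ [6, 8, 9, 10, 11]) (t : F) : X r t ∈ Qp F := by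
  unfold Qp ChevalleyDatum.unipotentRadical
  apply Subgroup.subset_closure
  refine ⟨r, t, ?_, ?_, rfl⟩
  · simp only [List.mem_cons, List.mem_nil_iff, or_false] at hr
    rcases hr with rfl | rfl | rfl | rfl | rfl <;> decide
  · simp only [List.mem_cons, List.mem_nil_iff, or_false] at hr
    unfold ChevalleyDatum.InRootSub
    rcases hr with rfl | rfl | rfl | rfl | rfl
    all_goals
      intro h
      have := h.2 1 (by decide) (by simp)
      revert this
      decide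

/-- the two roots of the Levi subgroup lie in the root subsystem of `{0}` -/
theorem g2vm2_inRootSub (r : ℕ) (hr : r ∈ [7, 4]) : chevG2.InRootSub ({0} : Set ℕ) r := by
  simp only [List.mem_cons, List.mem_nil_iff, or_false] at hr
  unfold ChevalleyDatum.InRootSub
  rcases hr with rfl | rfl
  all_goals
    refine ⟨by decide, ?_⟩
    intro i hi hiJ
    have hi2 : i < 2 := hi
    have hi0 : i ≠ 0 := by
      intro h0
      apply hiJ
      rw [h0]
      exact Set.mem_singleton _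
    have hi1 : i = 1 := by omega
    subst hi1
    decide

/-- **M2**, part 2. -/
theorem X_mem_Lv (r : ℕ) (hr : r ∈ [7, 4]) (t : F) : X r t ∈ Lv F := by
  unfold Lv ChevalleyDatum.leviSubgroup
  apply Subgroup.mem_sup_right
  apply Subgroup.subset_closure
  exact ⟨r, t, g2vm2_inRootSub r hr, rfl⟩

/-- **M2**, part 3. -/
theorem Qp_le_Pp : Qp F ≤ Pp F := by
  have h := (Cfsg.Agent.S1048.result (F := F) chevG2 (by simp) ({0} : Set ℕ)).2.1
  unfold Qp Pp
  rw [← h]
  exact le_sup_left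

/-- **M2**, part 4. -/
theorem Lv_le_Pp : Lv F ≤ Pp F := by
  have h := (Cfsg.Agent.S1048.result (F := F) chevG2 (by simp) ({0} : Set ℕ)).2.1
  unfold Lv Pp
  rw [← h]
  exact le_sup_right

/-- `Pp` normalises `Qp` (S1048, part 1) -/
theorem g2vm2_Pp_norm (g : GG F) (hg : g ∈ Pp F) (u : GG F) : u ∈ Qp F ↔ g * u * g⁻¹ ∈ Qp F := by
  have h := (Cfsg.Agent.S1048.result (F := F) chevG2 (by simp) ({0} : Set ℕ)).1 hg
  rw [Subgroup.mem_normalizer_iff] at h
  exact h u

/-- `Qp ⊔ Lv = Pp` (S1048, part 2) -/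
theorem g2vm2_sup : Qp F ⊔ Lv F = Pp F :=
  (Cfsg.Agent.S1048.result (F := F) chevG2 (by simp) ({0} : Set ℕ)).2.1

/-- `Qp ⊓ Lv = ⊥` (S1048, part 3) -/
theorem g2vm2_inf : Qp F ⊓ Lv F = ⊥ :=
  (Cfsg.Agent.S1048.result (F := F) chevG2 (by simp) ({0} : Set ℕ)).2.2

/-- the diagonal subgroup lies in `Lv` -/
theorem g2vm2_H_le_Lv : chevG2.diagonalSubgroup F ≤ Lv F := by
  unfold Lv ChevalleyDatum.leviSubgroup
  exact le_sup_left

/-- **M3**. -/
theorem Pp_le_Gp : Pp F ≤ Gp F := by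
  unfold Pp ChevalleyDatum.parabolicSubgroup
  apply sup_le (h8_B_le_group chevG2 hB)
  rw [Subgroup.closure_le]
  rintro g ⟨j, _, _, hg⟩
  have : g = h8nU chevG2 hB (chevG2.simple j) 1 := by
    apply Units.ext
    rw [hg, h8nU_val]
  rw [this]
  exact h8wordU_mem_group chevG2 hB _

end Cfsg.Agent.Lib.Helper19.G2V
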