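import Mathlib
import Cfsg.Agent.Lib.Helper19.G2V.Defs
import Cfsg.Agent.Lib.Helper5.G2VM2
import Cfsg.Agent.Lib.helper15.G2VI4

/-!
# Project G2V (S2461), row Q2 (`iota_norm_Qp`, `iota_norm_Qp'`), verbatim.
-/

set_option autoImplicit false

namespace Cfsg.Agent.Lib.Helper19.G2V

open Cfsg.Lie Cfsg.Lie.ChevalleyDatum Matrix
open Cfsg.Agent.Lib.helper8
open Cfsg.Agent.Lib.helper23.P4V

universe u

variable {F : Type u} [Field F]

/-- `iota A ∈ Pp` -/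
theorem g2vq2_iota_mem_Pp (A : GL (Fin 2) F) : iota A ∈ Pp F := Lv_le_Pp (iota_mem_Lv A)

/-- **Q2**, part 1. -/
theorem iota_norm_Qp (A : GL (Fin 2) F) (u : GG F) (hu : u ∈ Qp F) : iota A * u * (iota A)⁻¹ ∈ Qp F :=
  (g2vm2_Pp_norm (iota A) (g2vq2_iota_mem_Pp A) u).1 hu

/-- **Q2**, part 2. -/
theorem iota_norm_Qp' (A : GL (Fin 2) F) (u : GG F) (hu : u ∈ Qp F) : (iota A)⁻¹ * u * iota A ∈ Qp F := by
  have h := (g2vm2_Pp_norm (iota A)⁻¹ (Subgroup.inv_mem _ (g2vq2_iota_mem_Pp A)) u).1 hu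
  rwa [inv_inv] at h

end Cfsg.Agent.Lib.Helper19.G2V
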