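import Mathlib
import Cfsg.Prelude.Def_LocalEven
import Cfsg.Agent.S5299
import Cfsg.Agent.S3755
import Cfsg.Agent.Lib.Helper1.GNPC2.S4Rec
import Cfsg.Agent.Lib.Helper1.GNPC2.TJA
import Cfsg.Agent.Lib.Helper1.GNPC2.TJFinal4

set_option autoImplicit false

namespace Cfsg.Agent.Lib.Helper5.S4Inv

open Equiv

theorem involves_trans {X Q Y : Type*} [Group X] [Group Q] [Group Y]
    (h1 : Cfsg.Involves X Q) (h2 : Cfsg.Involves Q Y) : Cfsg.Involves X Y := by
  obtain ⟨K₂, R₂, hn₂, ⟨e₂⟩⟩ := h1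
  obtain ⟨K₁, R₁, hn₁, ⟨e₁⟩⟩ := h2
  haveI := hn₁
  haveI := hn₂
  let π₁ : K₁ →* Q := e₁.toMonoidHom.comp (QuotientGroup.mk' (R₁.subgroupOf K₁))
  have hπ₁ : Function.Surjective π₁ := e₁.surjective.comp (QuotientGroup.mk'_surjective _)
  let π₂ : K₂ →* X := e₂.toMonoidHom.comp (QuotientGroup.mk' (R₂.subgroupOf K₂))
  have hπ₂ : Function.Surjective π₂ := e₂.surjective.comp (QuotientGroup.mk'_surjective _)
  let K₃ : Subgroup K₁ := K₂.comap π₁
  let f : K₃ →* K₂ := π₁.subgroupComap K₂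
  have hf : Function.Surjective f := π₁.subgroupComap_surjective_of_surjective K₂ hπ₁
  exact Cfsg.Agent.S5299.involves_of_inj_surj (K₁.subtype.comp K₃.subtype)
    (K₁.subtype_injective.comp K₃.subtype_injective) (π₂.comp f) (hπ₂.comp hf)

def inV4 (σ : Perm (Fin 4)) : Prop :=
  σ = 1 ∨ σ = swap 0 1 * swap 2 3 ∨ σ = swap 0 2 * swap 1 3 ∨ σ = swap 0 3 * swap 1 2

instance : DecidablePred inV4 := fun σ => by unfold inV4; infer_instance

set_option maxRecDepth 100000 in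
theorem v4_mul : ∀ a b : Perm (Fin 4), inV4 a → inV4 b → inV4 (a * b) := by decide

set_option maxRecDepth 100000 in
theorem v4_inv : ∀ a : Perm (Fin 4), inV4 a → inV4 a⁻¹ := by decide

set_option maxRecDepth 100000 in
theorem v4_conj : ∀ g a : Perm (Fin 4), inV4 a → inV4 (g * a * g⁻¹) := by decide

set_option maxRecDepth 100000 in
theorem v4_cent : ∀ g : Perm (Fin 4), (∀ a : Perm (Fin 4), inV4 a → g * a = a * g) → inV4 g := by
  decide

set_option maxRecDepth 100000 in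
theorem v4_sq : ∀ a : Perm (Fin 4), inV4 a → a * a = 1 := by decide

def V4 : Subgroup (Perm (Fin 4)) where
  carrier := {σ | inV4 σ}
  mul_mem' := fun {a b} ha hb => v4_mul a b ha hb
  one_mem' := Or.inl rfl
  inv_mem' := fun {a} ha => v4_inv a ha

instance V4_normal : V4.Normal := ⟨fun a ha g => v4_conj g a ha⟩

theorem V4_pgroup : IsPGroup 2 V4 := by
  intro ⟨a, ha⟩
  refine ⟨1, ?_⟩
  apply Subtype.ext
  show a ^ 2 ^ 1 = 1
  rw [pow_one, pow_two]
  exact v4_sq a ha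

def cyc : Perm (Fin 4) := swap 0 1 * swap 1 2
def tr : Perm (Fin 4) := swap 0 1

theorem tr_sq : tr * tr = 1 := by decide
theorem cyc_cube : cyc * cyc * cyc = 1 := by decide
theorem cyc_not : ¬ inV4 cyc := by decide
theorem tr_cyc : tr * cyc * tr⁻¹ * cyc = 1 := by decide

section recog

variable {Γ : Type*} [Group Γ]

theorem el_inv {E : Subgroup Γ} (hE : ∀ x ∈ E, x * x = 1) {x : Γ} (hx : x ∈ E) : x⁻¹ = x :=
  inv_eq_of_mul_eq_one_left (hE x hx)

theorem el_comm {E : Subgroup Γ} (hE : ∀ x ∈ E, x * x = 1) {x z : Γ} (hx : x ∈ E) (hz : z ∈ E) :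
    x * z = z * x := by
  have h1 := hE (x * z) (E.mul_mem hx hz)
  have h2 : x * z = (x * z)⁻¹ := (el_inv hE (E.mul_mem hx hz)).symm
  rw [h2, mul_inv_rev, el_inv hE hx, el_inv hE hz]

def nu (y x : Γ) : Γ := x * (y * x * y⁻¹) * (y * y * x * (y * y)⁻¹)

theorem nu_mul {E : Subgroup Γ} (hE : ∀ x ∈ E, x * x = 1) {y : Γ}
    (hyE : ∀ x ∈ E, y * x * y⁻¹ ∈ E) {x z : Γ} (hx : x ∈ E) (hz : z ∈ E) :
    nu y (x * z) = nu y x * nu y z := by
  have hx1 := hyE x hx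
  have hz1 := hyE z hz
  have hx2 : y * y * x * (y * y)⁻¹ ∈ E := by
    have := hyE _ hx1
    have e : y * y * x * (y * y)⁻¹ = y * (y * x * y⁻¹) * y⁻¹ := by group
    rw [e]; exact this
  have hz2 : y * y * z * (y * y)⁻¹ ∈ E := by
    have := hyE _ hz1
    have e : y * y * z * (y * y)⁻¹ = y * (y * z * y⁻¹) * y⁻¹ := by group
    rw [e]; exact this
  unfold nu
  have e1 : y * (x * z) * y⁻¹ = (y * x * y⁻¹) * (y * z * y⁻¹) := by group
  have e2 : y * y * (x * z) * (y * y)⁻¹ = (y * y * x * (y * y)⁻¹) * (y * y * z * (y * y)⁻¹) := by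
    group
  rw [e1, e2]
  generalize y * x * y⁻¹ = x1 at *
  generalize y * z * y⁻¹ = z1 at *
  generalize y * y * x * (y * y)⁻¹ = x2 at *
  generalize y * y * z * (y * y)⁻¹ = z2 at *
  calc x * z * (x1 * z1) * (x2 * z2) = x * (z * x1) * z1 * x2 * z2 := by group
    _ = x * (x1 * z) * z1 * x2 * z2 := by rw [el_comm hE hz hx1]
    _ = x * x1 * (z * z1 * x2) * z2 := by group
    _ = x * x1 * (x2 * (z * z1)) * z2 := by rw [el_comm hE (E.mul_mem hz hz1) hx2]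
    _ = x * x1 * x2 * (z * z1 * z2) := by group

theorem nu_mem {E : Subgroup Γ} {y : Γ}
    (hyE : ∀ x ∈ E, y * x * y⁻¹ ∈ E) {x : Γ} (hx : x ∈ E) : nu y x ∈ E := by
  unfold nu
  have hx1 := hyE x hx
  have hx2 : y * y * x * (y * y)⁻¹ ∈ E := by
    have := hyE _ hx1
    have e : y * y * x * (y * y)⁻¹ = y * (y * x * y⁻¹) * y⁻¹ := by group
    rw [e]; exact this
  exact E.mul_mem (E.mul_mem hx hx1) hx2

theorem nu_conj {E : Subgroup Γ} (hE : ∀ x ∈ E, x * x = 1) {y r : Γ} (hy3 : y * y * y = 1)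
    (hyE : ∀ x ∈ E, y * x * y⁻¹ ∈ E)
    (hr : r * y * r⁻¹ = y ∨ r * y * r⁻¹ = y⁻¹) {x : Γ} (hx : x ∈ E) :
    nu y (r * x * r⁻¹) = r * nu y x * r⁻¹ := by
  have hx1 := hyE x hx
  have hx2 : y * y * x * (y * y)⁻¹ ∈ E := by
    have := hyE _ hx1
    have e : y * y * x * (y * y)⁻¹ = y * (y * x * y⁻¹) * y⁻¹ := by group
    rw [e]; exact this
  have hyi : y⁻¹ = y * y := inv_eq_of_mul_eq_one_left hy3
  rcases hr with hr | hr
  · have e : y * r = r * y := by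
      calc y * r = (r * y * r⁻¹) * r := by rw [hr]
        _ = r * y := by group
    unfold nu
    have e1 : y * (r * x * r⁻¹) * y⁻¹ = r * (y * x * y⁻¹) * r⁻¹ := by
      calc y * (r * x * r⁻¹) * y⁻¹ = (y * r) * x * (y * r)⁻¹ := by group
        _ = (r * y) * x * (r * y)⁻¹ := by rw [e]
        _ = r * (y * x * y⁻¹) * r⁻¹ := by group
    have e2 : y * y * (r * x * r⁻¹) * (y * y)⁻¹ = r * (y * y * x * (y * y)⁻¹) * r⁻¹ := by
      calc y * y * (r * x * r⁻¹) * (y * y)⁻¹ = y * ((y * r) * x * (y * r)⁻¹) * y⁻¹ := by group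
        _ = y * ((r * y) * x * (r * y)⁻¹) * y⁻¹ := by rw [e]
        _ = (y * r) * (y * x * y⁻¹) * (y * r)⁻¹ := by group
        _ = (r * y) * (y * x * y⁻¹) * (r * y)⁻¹ := by rw [e]
        _ = r * (y * y * x * (y * y)⁻¹) * r⁻¹ := by group
    rw [e1, e2]
    group
  · have e : y * r = r * y⁻¹ := by
      have h1 : r * y⁻¹ * r⁻¹ = y := by
        have e0 : r * y⁻¹ * r⁻¹ = (r * y * r⁻¹)⁻¹ := by group
        rw [e0, hr, inv_inv]
      calc y * r = (r * y⁻¹ * r⁻¹) * r := by rw [h1]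
        _ = r * y⁻¹ := by group
    have e' : y * r = r * (y * y) := by rw [e, hyi]
    unfold nu
    have e1 : y * (r * x * r⁻¹) * y⁻¹ = r * (y * y * x * (y * y)⁻¹) * r⁻¹ := by
      calc y * (r * x * r⁻¹) * y⁻¹ = (y * r) * x * (y * r)⁻¹ := by group
        _ = (r * (y * y)) * x * (r * (y * y))⁻¹ := by rw [e']
        _ = r * (y * y * x * (y * y)⁻¹) * r⁻¹ := by group
    have y4 : y * y * (y * y) = y := by
      calc y * y * (y * y) = y * y * y * y := by group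
        _ = y := by rw [hy3, one_mul]
    have e2 : y * y * (r * x * r⁻¹) * (y * y)⁻¹ = r * (y * x * y⁻¹) * r⁻¹ := by
      calc y * y * (r * x * r⁻¹) * (y * y)⁻¹ = y * ((y * r) * x * (y * r)⁻¹) * y⁻¹ := by group
        _ = y * ((r * (y * y)) * x * (r * (y * y))⁻¹) * y⁻¹ := by rw [e']
        _ = (y * r) * (y * y * x * (y * y)⁻¹) * (y * r)⁻¹ := by group
        _ = (r * (y * y)) * (y * y * x * (y * y)⁻¹) * (r * (y * y))⁻¹ := by rw [e']
        _ = r * ((y * y * (y * y)) * x * (y * y * (y * y))⁻¹) * r⁻¹ := by group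
        _ = r * (y * x * y⁻¹) * r⁻¹ := by rw [y4]
    rw [e1, e2]
    generalize y * x * y⁻¹ = x1 at *
    generalize y * y * x * (y * y)⁻¹ = x2 at *
    have : x1 * x2 = x2 * x1 := el_comm hE hx1 hx2
    calc r * x * r⁻¹ * (r * x2 * r⁻¹) * (r * x1 * r⁻¹) = r * (x * (x2 * x1)) * r⁻¹ := by group
      _ = r * (x * (x1 * x2)) * r⁻¹ := by rw [this]
      _ = r * (x * x1 * x2) * r⁻¹ := by group


theorem pow_conj_mem {E : Subgroup Γ} {t : Γ} (htE : ∀ x ∈ E, t * x * t⁻¹ ∈ E) (n : ℕ) :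
    ∀ x ∈ E, t ^ n * x * (t ^ n)⁻¹ ∈ E := by
  induction n with
  | zero => intro x hx; simpa using hx
  | succ n ih =>
    intro x hx
    have e : t ^ (n + 1) * x * (t ^ (n + 1))⁻¹ = t * (t ^ n * x * (t ^ n)⁻¹) * t⁻¹ := by
      rw [pow_succ']; group
    rw [e]
    exact htE _ (ih x hx)

theorem pow_conj_y {y t : Γ} (hty : t * y * t⁻¹ = y⁻¹) (n : ℕ) :
    t ^ n * y * (t ^ n)⁻¹ = y ∨ t ^ n * y * (t ^ n)⁻¹ = y⁻¹ := by
  induction n with
  | zero => left; simp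
  | succ n ih =>
    have e : t ^ (n + 1) * y * (t ^ (n + 1))⁻¹ = t * (t ^ n * y * (t ^ n)⁻¹) * t⁻¹ := by
      rw [pow_succ']; group
    rw [e]
    rcases ih with h | h
    · right; rw [h, hty]
    · left
      rw [h]
      have e0 : t * y⁻¹ * t⁻¹ = (t * y * t⁻¹)⁻¹ := by group
      rw [e0, hty, inv_inv]

theorem exists_fixed {E : Subgroup Γ} (hE : ∀ x ∈ E, x * x = 1) {y t : Γ} (hy3 : y * y * y = 1)
    (hyE : ∀ x ∈ E, y * x * y⁻¹ ∈ E) (htE : ∀ x ∈ E, t * x * t⁻¹ ∈ E)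
    (hty : t * y * t⁻¹ = y⁻¹) (a : ℕ) (ht : t ^ 2 ^ a = 1)
    {w : Γ} (hw : w ∈ E) (hw1 : w ≠ 1) (hnw : nu y w = 1) :
    ∃ u ∈ E, u ≠ 1 ∧ nu y u = 1 ∧ t * u * t⁻¹ = u := by
  have key : ∀ k : ℕ, k ≤ a → ∃ u ∈ E, u ≠ 1 ∧ nu y u = 1 ∧
      t ^ 2 ^ (a - k) * u * (t ^ 2 ^ (a - k))⁻¹ = u := by
    intro k
    induction k with
    | zero =>
      intro _
      refine ⟨w, hw, hw1, hnw, ?_⟩
      rw [Nat.sub_zero, ht]; simp
    | succ k ih =>
      intro hk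
      obtain ⟨u, hu, hu1, hnu, hfix⟩ := ih (by omega)
      set r := t ^ 2 ^ (a - (k + 1)) with hr
      have hrr : r * r = t ^ 2 ^ (a - k) := by
        rw [hr, ← pow_add, ← two_mul, ← pow_succ']
        congr 2
        omega
      rw [← hrr] at hfix
      have hrE : ∀ x ∈ E, r * x * r⁻¹ ∈ E := pow_conj_mem htE _
      have hry := pow_conj_y hty (2 ^ (a - (k + 1)))
      rw [← hr] at hry
      by_cases hc : r * u * r⁻¹ = u
      · exact ⟨u, hu, hu1, hnu, hc⟩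
      · have hru := hrE u hu
        refine ⟨u * (r * u * r⁻¹), E.mul_mem hu hru, ?_, ?_, ?_⟩
        · intro h
          apply hc
          have h2 : r * u * r⁻¹ = u⁻¹ := eq_inv_of_mul_eq_one_right h
          rw [h2, el_inv hE hu]
        · rw [nu_mul hE hyE hu hru, nu_conj hE hy3 hyE hry hu, hnu]
          simp
        · have e : r * (u * (r * u * r⁻¹)) * r⁻¹ = (r * u * r⁻¹) * (r * r * u * (r * r)⁻¹) := by
            group
          rw [e, hfix]
          exact el_comm hE hru hu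
  obtain ⟨u, hu, hu1, hnu, hfix⟩ := key a le_rfl
  refine ⟨u, hu, hu1, hnu, ?_⟩
  simpa using hfix

end recog

end Cfsg.Agent.Lib.Helper5.S4Inv
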