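import Mathlib
import Cfsg.Agent.Lib.Helper5.S4Inv1

set_option autoImplicit false

namespace Cfsg.Agent.Lib.Helper5.S4Inv

section klein

variable {Γ : Type*} [Group Γ]

def klein (u u1 : Γ) (huu : u * u = 1) (h11 : u1 * u1 = 1) (hc : u1 * u = u * u1) : Subgroup Γ where
  carrier := {x | x = 1 ∨ x = u ∨ x = u1 ∨ x = u * u1}
  one_mem' := Or.inl rfl
  mul_mem' := by
    have h1 : ∀ x : Γ, u * (u * x) = x := fun x => by rw [← mul_assoc, huu, one_mul]
    have h2 : ∀ x : Γ, u1 * (u1 * x) = x := fun x => by rw [← mul_assoc, h11, one_mul]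
    have h3 : ∀ x : Γ, u1 * (u * x) = u * (u1 * x) := fun x => by
      rw [← mul_assoc, hc, mul_assoc]
    rintro a b (rfl | rfl | rfl | rfl) (rfl | rfl | rfl | rfl) <;>
      simp [mul_assoc, huu, h11, hc, h1, h3]
  inv_mem' := by
    rintro a (rfl | rfl | rfl | rfl)
    · left; simp
    · right; left; exact inv_eq_of_mul_eq_one_left huu
    · right; right; left; exact inv_eq_of_mul_eq_one_left h11
    · right; right; right
      apply inv_eq_of_mul_eq_one_left
      calc u * u1 * (u * u1) = u * (u1 * u) * u1 := by group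
        _ = u * (u * u1) * u1 := by rw [hc]
        _ = (u * u) * (u1 * u1) := by group
        _ = 1 := by rw [huu, h11, one_mul]

theorem mem_klein {u u1 : Γ} {huu : u * u = 1} {h11 : u1 * u1 = 1} {hc : u1 * u = u * u1} {x : Γ} :
    x ∈ klein u u1 huu h11 hc ↔ x = 1 ∨ x = u ∨ x = u1 ∨ x = u * u1 := Iff.rfl

theorem klein_card {u u1 : Γ} (huu : u * u = 1) (h11 : u1 * u1 = 1) (hc : u1 * u = u * u1)
    (hu : u ≠ 1) (hu1 : u1 ≠ 1) (hne : u ≠ u1) : Nat.card (klein u u1 huu h11 hc) = 4 := by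
  show Nat.card ((klein u u1 huu h11 hc : Subgroup Γ) : Set Γ) = 4
  rw [Nat.card_coe_set_eq]
  show ({1, u, u1, u * u1} : Set Γ).ncard = 4
  rw [Set.ncard_insert_of_notMem, Set.ncard_insert_of_notMem, Set.ncard_pair]
  · intro h
    apply hu
    have := mul_left_cancel (a := u1) (b := 1) (c := u) (by rw [mul_one, hc]; exact h)
    exact this.symm
  · intro h
    rcases h with h | h
    · exact hne h
    · have : u * 1 = u * u1 := by rw [mul_one]; exact h
      exact hu1 (mul_left_cancel this).symm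
  · intro h
    rcases h with h | h | h
    · exact hu h.symm
    · exact hu1 h.symm
    · apply hne
      have h' : u * u1 = 1 := h.symm
      calc u = u * (u1 * u1) := by rw [h11, mul_one]
        _ = (u * u1) * u1 := by group
        _ = u1 := by rw [h', one_mul]

end klein

section recog2

variable {Γ : Type*} [Group Γ] [Finite Γ]

theorem s4_of_elem {E : Subgroup Γ} (hE : ∀ x ∈ E, x * x = 1) {y t : Γ}
    (hy3 : y * y * y = 1)
    (hyE : ∀ x ∈ E, y * x * y⁻¹ ∈ E) (htE : ∀ x ∈ E, t * x * t⁻¹ ∈ E)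
    (hty : t * y * t⁻¹ = y⁻¹) (a : ℕ) (ht : t ^ 2 ^ a = 1)
    {v : Γ} (hv : v ∈ E) (hvy : y * v * y⁻¹ ≠ v) : Cfsg.Involves (Equiv.Perm (Fin 4)) Γ := by
  have hyi : y⁻¹ = y * y := inv_eq_of_mul_eq_one_left hy3
  have hv1 := hyE v hv
  have hw : v * (y * v * y⁻¹) ∈ E := E.mul_mem hv hv1
  have hw1 : v * (y * v * y⁻¹) ≠ 1 := by
    intro h
    apply hvy
    have := eq_inv_of_mul_eq_one_right h
    rw [this, el_inv hE hv]
  have hnw : nu y (v * (y * v * y⁻¹)) = 1 := by
    unfold nu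
    have hv2 : y * y * v * (y * y)⁻¹ ∈ E := by
      have := hyE _ hv1
      have e : y * y * v * (y * y)⁻¹ = y * (y * v * y⁻¹) * y⁻¹ := by group
      rw [e]; exact this
    have e1 : y * (v * (y * v * y⁻¹)) * y⁻¹ = (y * v * y⁻¹) * (y * y * v * (y * y)⁻¹) := by group
    have e2 : y * y * (v * (y * v * y⁻¹)) * (y * y)⁻¹ =
        (y * y * v * (y * y)⁻¹) * ((y * y * y) * v * (y * y * y)⁻¹) := by group
    rw [e1, e2, hy3]
    have a1 := hE _ hv1
    have a2 := hE _ hv2
    have a0 := hE _ hv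
    generalize y * v * y⁻¹ = v1 at *
    generalize y * y * v * (y * y)⁻¹ = v2 at *
    calc v * v1 * (v1 * v2) * (v2 * (1 * v * 1⁻¹)) = v * (v1 * v1) * (v2 * v2) * v := by group
      _ = 1 := by rw [a1, a2, mul_one, mul_one, a0]
  obtain ⟨u, hu, hu1, hnu, htu⟩ := exists_fixed hE hy3 hyE htE hty a ht hw hw1 hnw
  have hu1E : y * u * y⁻¹ ∈ E := hyE u hu
  have huu : u * u = 1 := hE u hu
  have h11 : (y * u * y⁻¹) * (y * u * y⁻¹) = 1 := hE _ hu1E
  have hc : (y * u * y⁻¹) * u = u * (y * u * y⁻¹) := el_comm hE hu1E hu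
  have hu2 : y * y * u * (y * y)⁻¹ = u * (y * u * y⁻¹) := by
    unfold nu at hnu
    have h1 : y * y * u * (y * y)⁻¹ = (u * (y * u * y⁻¹))⁻¹ := eq_inv_of_mul_eq_one_right hnu
    rw [h1, el_inv hE (E.mul_mem hu hu1E)]
  have hy1 : y * (y * u * y⁻¹) * y⁻¹ = u * (y * u * y⁻¹) := by
    rw [← hu2]; group
  have hy2 : y * (u * (y * u * y⁻¹)) * y⁻¹ = u := by
    rw [← hu2]
    calc y * (y * y * u * (y * y)⁻¹) * y⁻¹ = (y * y * y) * u * (y * y * y)⁻¹ := by group
      _ = u := by rw [hy3]; group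
  have ht1 : t * (y * u * y⁻¹) * t⁻¹ = u * (y * u * y⁻¹) := by
    calc t * (y * u * y⁻¹) * t⁻¹ = (t * y * t⁻¹) * (t * u * t⁻¹) * (t * y * t⁻¹)⁻¹ := by group
      _ = y * y * u * (y * y)⁻¹ := by rw [hty, htu, hyi]
      _ = u * (y * u * y⁻¹) := hu2
  have ht2 : t * (u * (y * u * y⁻¹)) * t⁻¹ = y * u * y⁻¹ := by
    calc t * (u * (y * u * y⁻¹)) * t⁻¹ = (t * u * t⁻¹) * (t * (y * u * y⁻¹) * t⁻¹) := by group
      _ = u * (u * (y * u * y⁻¹)) := by rw [htu, ht1]
      _ = (u * u) * (y * u * y⁻¹) := by group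
      _ = y * u * y⁻¹ := by rw [huu, one_mul]
  have hu1ne : y * u * y⁻¹ ≠ 1 := by
    intro h
    apply hu1
    have : y * u * y⁻¹ = y * 1 * y⁻¹ := by rw [h]; group
    exact mul_left_cancel (mul_right_cancel this)
  have hne : u ≠ y * u * y⁻¹ := by
    intro h
    have h2 : u * (y * u * y⁻¹) = y * u * y⁻¹ := by
      rw [← hy1, ← h, ← h]
    rw [← h, huu] at h2
    exact hu1 h2.symm
  generalize hy0 : y * u * y⁻¹ = u1 at *
  set U := klein u u1 huu h11 hc with hU
  have hcard : Nat.card U = 4 := klein_card huu h11 hc hu1 hu1ne hne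
  have hyU : y ∈ Subgroup.normalizer (U : Set Γ) := by
    apply Cfsg.Agent.Lib.Helper1.GNPC2.mem_normalizer_of_forall_conj_mem
    intro x hx
    rcases (mem_klein.mp hx) with rfl | rfl | rfl | rfl
    · rw [mem_klein]; left; group
    · rw [mem_klein]; right; right; left; exact hy0
    · rw [mem_klein]; right; right; right; exact hy1
    · rw [mem_klein]; right; left; exact hy2
  have htU : t ∈ Subgroup.normalizer (U : Set Γ) := by
    apply Cfsg.Agent.Lib.Helper1.GNPC2.mem_normalizer_of_forall_conj_mem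
    intro x hx
    rcases (mem_klein.mp hx) with rfl | rfl | rfl | rfl
    · rw [mem_klein]; left; group
    · rw [mem_klein]; right; left; exact htu
    · rw [mem_klein]; right; right; right; exact ht1
    · rw [mem_klein]; right; right; left; exact ht2
  have htz : t ∈ Subgroup.normalizer ((Subgroup.zpowers y : Subgroup Γ) : Set Γ) := by
    apply Cfsg.Agent.Lib.Helper1.GNPC2.mem_normalizer_of_forall_conj_mem
    intro x hx
    obtain ⟨k, rfl⟩ := Subgroup.mem_zpowers_iff.mp hx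
    have e : t * y ^ k * t⁻¹ = (t * y * t⁻¹) ^ k := by
      rw [conj_zpow]
    rw [e, hty]
    exact Subgroup.zpow_mem _ (Subgroup.inv_mem _ (Subgroup.mem_zpowers y)) k
  apply Cfsg.Agent.Lib.Helper1.GNPC2.s4_involved U hcard y t hyU
  · rw [pow_succ, pow_two]; exact hy3
  · intro x hx hfx
    rcases (mem_klein.mp hx) with rfl | rfl | rfl | rfl
    · rfl
    · exact absurd (hfx.symm.trans hy0) hne
    · exfalso
      rw [hy1] at hfx
      have : u * x = 1 * x := by rw [one_mul]; exact hfx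
      exact hu1 (mul_right_cancel this)
    · exfalso
      rw [hy2] at hfx
      have : u * 1 = u * u1 := by rw [mul_one]; exact hfx
      exact hu1ne (mul_left_cancel this).symm
  · exact htU
  · exact htz
  · refine ⟨u1, mem_klein.mpr (Or.inr (Or.inr (Or.inl rfl))), ?_⟩
    rw [ht1]
    intro h
    have : u * u1 = 1 * u1 := by rw [one_mul]; exact h
    exact hu1 (mul_right_cancel this)
  · intro x hx
    have e : t * t * x * (t * t)⁻¹ = t * (t * x * t⁻¹) * t⁻¹ := by group
    rw [e]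
    rcases (mem_klein.mp hx) with rfl | rfl | rfl | rfl
    · group
    · rw [htu, htu]
    · rw [ht1, ht2]
    · rw [ht2, ht1]

end recog2

end Cfsg.Agent.Lib.Helper5.S4Inv
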