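import Mathlib
import Cfsg.Agent.Lib.Helper5.S4Inv2
import Cfsg.Agent.Lib.Helper24.MetaNPC
import Cfsg.Agent.Lib.Helper5.PConstr
import Cfsg.Agent.Lib.Helper5.PGroup

set_option autoImplicit false

namespace Cfsg.Agent.Lib.Helper5.S4Inv

section data

variable {H : Type*} [Group H] [Finite H]

theorem mem_normalizer_sup {A B : Subgroup H} {g : H}
    (hA : g ∈ Subgroup.normalizer (A : Set H)) (hB : g ∈ Subgroup.normalizer (B : Set H)) :
    g ∈ Subgroup.normalizer ((A ⊔ B : Subgroup H) : Set H) := by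
  apply Cfsg.Agent.Lib.Helper1.GNPC2.mem_normalizer_of_forall_conj_mem
  intro q hq
  have h1 : A ⊔ B ≤ (A ⊔ B).comap (MulAut.conj g).toMonoidHom := by
    apply sup_le
    · intro x hx
      rw [Subgroup.mem_comap]
      show g * x * g⁻¹ ∈ A ⊔ B
      exact Subgroup.mem_sup_left ((Subgroup.mem_normalizer_iff.mp hA x).mp hx)
    · intro x hx
      rw [Subgroup.mem_comap]
      show g * x * g⁻¹ ∈ A ⊔ B
      exact Subgroup.mem_sup_right ((Subgroup.mem_normalizer_iff.mp hB x).mp hx)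
  exact h1 hq

theorem s4_of_data (T : Subgroup H) [hTn : T.Normal] (hT : IsPGroup 2 T)
    (D : Subgroup H) (hD3 : IsPGroup 3 D) (hDC : D ≤ Subgroup.centralizer (T : Set H))
    (d s : H) (hdD : d ∈ Subgroup.normalizer (D : Set H))
    (hsD : s ∈ Subgroup.normalizer (D : Set H))
    (hd3 : d * d * d ∈ D) (hsd : s * d * s⁻¹ * d ∈ D) (a : ℕ) (hs : s ^ 2 ^ a = 1)
    (b : ℕ) (hdb : d ^ 3 ^ b = 1)
    (hdC : d ∉ Subgroup.centralizer (T : Set H)) :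
    Cfsg.Involves (Equiv.Perm (Fin 4)) H := by
  haveI : Fact (Nat.Prime 2) := ⟨Nat.prime_two⟩
  obtain ⟨Φ, hΦ⟩ : ∃ Φ : Subgroup H, Φ = (frattini T).map T.subtype := ⟨_, rfl⟩
  have hΦn : Φ.Normal := by
    rw [hΦ]; exact Cfsg.Agent.Lib.Helper5.h5_normal_map_of_characteristic T (frattini T)
  have hΦT : Φ ≤ T := by rw [hΦ]; exact Subgroup.map_subtype_le _
  obtain ⟨M, hM⟩ : ∃ M : Subgroup H, M = Φ ⊔ D := ⟨_, rfl⟩
  obtain ⟨NM, hNM⟩ : ∃ NM : Subgroup H, NM = Subgroup.normalizer (M : Set H) := ⟨_, rfl⟩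
  have hnormΦ : ∀ g : H, g ∈ Subgroup.normalizer (Φ : Set H) := fun g => by
    rw [Subgroup.normalizer_eq_top_iff.mpr hΦn]; trivial
  have hdN : d ∈ NM := by rw [hNM, hM]; exact mem_normalizer_sup (hnormΦ d) hdD
  have hsN : s ∈ NM := by rw [hNM, hM]; exact mem_normalizer_sup (hnormΦ s) hsD
  have hcent : ∀ τ ∈ T, ∀ x ∈ D, τ * x * τ⁻¹ = x := by
    intro τ hτ x hx
    have h1 := Subgroup.mem_centralizer_iff.mp (hDC hx) τ hτ
    rw [h1]; group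
  have hTN : T ≤ NM := by
    intro τ hτ
    rw [hNM, hM]
    apply mem_normalizer_sup (hnormΦ τ)
    apply Cfsg.Agent.Lib.Helper1.GNPC2.mem_normalizer_of_forall_conj_mem
    intro x hx
    rw [hcent τ hτ x hx]; exact hx
  have hMNM : M ≤ NM := by rw [hNM]; exact Subgroup.le_normalizer
  haveI hMn : (M.subgroupOf NM).Normal := by
    rw [hNM]; exact Subgroup.normal_in_normalizer
  have hTM : ∀ g ∈ T, g ∈ M → g ∈ Φ := by
    intro g hgT hgM
    rw [hM] at hgM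
    have h1 : g ∈ ((Φ ⊔ D : Subgroup H) : Set H) := hgM
    rw [Subgroup.normal_mul] at h1
    obtain ⟨f, hf, δ, hδ, rfl⟩ := Set.mem_mul.mp h1
    have hδT : δ ∈ T := by
      have : δ = f⁻¹ * (f * δ) := by group
      rw [this]
      exact T.mul_mem (T.inv_mem (hΦT hf)) hgT
    have hdisj : Disjoint T D := IsPGroup.disjoint_of_ne 2 3 (by norm_num) T D hT hD3
    have hδ1 : δ = 1 := by
      have := Subgroup.disjoint_def.mp hdisj hδT hδ
      exact this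
    rw [hδ1, mul_one]; exact hf
  suffices hΓ : Cfsg.Involves (Equiv.Perm (Fin 4)) (↥NM ⧸ M.subgroupOf NM) by
    have h1 := Cfsg.Agent.Lib.Helper1.GNPC2.involves_of_quotient' (M.subgroupOf NM) hΓ
    exact Cfsg.Agent.Lib.Helper1.GNPC2.involves_of_injective NM.subtype NM.subtype_injective h1
  obtain ⟨mk, hmk⟩ : ∃ mk : ↥NM →* ↥NM ⧸ M.subgroupOf NM, mk = QuotientGroup.mk' (M.subgroupOf NM) :=
    ⟨_, rfl⟩
  have hmk1 : ∀ g : ↥NM, (g : H) ∈ M → mk g = 1 := fun g hg => by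
    rw [hmk]
    exact (QuotientGroup.eq_one_iff g).mpr (Subgroup.mem_subgroupOf.mpr hg)
  have hmk1' : ∀ g : ↥NM, mk g = 1 → (g : H) ∈ M := fun g hg => by
    rw [hmk] at hg
    exact Subgroup.mem_subgroupOf.mp ((QuotientGroup.eq_one_iff g).mp hg)
  obtain ⟨E, hEdef⟩ : ∃ E : Subgroup (↥NM ⧸ M.subgroupOf NM), E = (T.subgroupOf NM).map mk :=
    ⟨_, rfl⟩
  have hΦM : Φ ≤ M := by rw [hM]; exact le_sup_left
  have hDM : D ≤ M := by rw [hM]; exact le_sup_right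
  have hE : ∀ x ∈ E, x * x = 1 := by
    intro x hx
    rw [hEdef] at hx
    obtain ⟨τ, hτ, rfl⟩ := Subgroup.mem_map.mp hx
    rw [← map_mul]
    apply hmk1
    have hτT : (τ : H) ∈ T := Subgroup.mem_subgroupOf.mp hτ
    have h1 := Cfsg.Agent.Lib.Helper5.h5_pgroup_pow_mem_frattini hT ⟨(τ : H), hτT⟩
    apply hΦM
    rw [hΦ]
    refine Subgroup.mem_map.mpr ⟨_, h1, ?_⟩
    simp [pow_two]
  have hconjE : ∀ g : ↥NM, ∀ x ∈ E, mk g * x * (mk g)⁻¹ ∈ E := by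
    intro g x hx
    rw [hEdef] at hx ⊢
    obtain ⟨τ, hτ, rfl⟩ := Subgroup.mem_map.mp hx
    refine Subgroup.mem_map.mpr ⟨g * τ * g⁻¹, ?_, ?_⟩
    · rw [Subgroup.mem_subgroupOf]
      have hτT : (τ : H) ∈ T := Subgroup.mem_subgroupOf.mp hτ
      have := hTn.conj_mem _ hτT (g : H)
      simpa using this
    · rw [map_mul, map_mul, map_inv]
  have hy3 : mk ⟨d, hdN⟩ * mk ⟨d, hdN⟩ * mk ⟨d, hdN⟩ = 1 := by
    rw [← map_mul, ← map_mul]
    apply hmk1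
    exact hDM hd3
  have hty : mk ⟨s, hsN⟩ * mk ⟨d, hdN⟩ * (mk ⟨s, hsN⟩)⁻¹ = (mk ⟨d, hdN⟩)⁻¹ := by
    apply eq_inv_of_mul_eq_one_left
    rw [← map_inv, ← map_mul, ← map_mul, ← map_mul]
    apply hmk1
    exact hDM hsd
  have ht : mk ⟨s, hsN⟩ ^ 2 ^ a = 1 := by
    rw [← map_pow]
    apply hmk1
    rw [Subgroup.coe_pow]
    show s ^ 2 ^ a ∈ M
    rw [hs]; exact M.one_mem
  by_cases hmove : ∃ τ ∈ T, τ⁻¹ * (d * τ * d⁻¹) ∉ Φ
  · obtain ⟨τ, hτ, hnot⟩ := hmove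
    have hvE : mk ⟨τ, hTN hτ⟩ ∈ E := by
      rw [hEdef]
      exact Subgroup.mem_map.mpr ⟨_, Subgroup.mem_subgroupOf.mpr hτ, rfl⟩
    apply s4_of_elem hE hy3 (hconjE _) (hconjE _) hty a ht hvE
    intro heq
    apply hnot
    apply hTM _ (T.mul_mem (T.inv_mem hτ) (hTn.conj_mem τ hτ d))
    have h1 : mk ((⟨τ, hTN hτ⟩ : ↥NM)⁻¹ * (⟨d, hdN⟩ * ⟨τ, hTN hτ⟩ * (⟨d, hdN⟩ : ↥NM)⁻¹)) = 1 := by
      rw [map_mul, map_inv, map_mul, map_mul, map_inv, heq]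
      group
    exact hmk1' _ h1
  · exfalso
    apply hdC
    have hmove' : ∀ τ ∈ T, τ⁻¹ * (d * τ * d⁻¹) ∈ Φ := fun τ hτ => by
      by_contra h
      exact hmove ⟨τ, hτ, h⟩
    have hcop : (orderOf d).Coprime 2 := by
      have h1 : orderOf d ∣ 3 ^ b := orderOf_dvd_of_pow_eq_one hdb
      exact Nat.Coprime.coprime_dvd_left h1 (Nat.Coprime.pow_left b (by norm_num))
    have hdNT : d ∈ Subgroup.normalizer (T : Set H) := by
      rw [Subgroup.normalizer_eq_top_iff.mpr hTn]; trivial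
    exact Cfsg.Agent.Lib.Helper24.mn_burnside T hT d hdNT hcop (by rw [← hΦ]; exact hmove')

end data

end Cfsg.Agent.Lib.Helper5.S4Inv
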