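import Mathlib
import Cfsg.Agent.Lib.Helper5.S4Inv3

set_option autoImplicit false

namespace Cfsg.Agent.Lib.Helper5.S4Inv

section pair

variable {H : Type*} [Group H]

theorem conj_pow_mul_pow_mem {D : Subgroup H} {d s : H}
    (hdD : d ∈ Subgroup.normalizer (D : Set H)) (hsd : s * d * s⁻¹ * d ∈ D) (n : ℕ) :
    s * d ^ n * s⁻¹ * d ^ n ∈ D := by
  induction n with
  | zero => simp
  | succ n ih =>
    have hdn : (d ^ n)⁻¹ ∈ Subgroup.normalizer (D : Set H) :=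
      Subgroup.inv_mem _ (Subgroup.pow_mem _ hdD n)
    have h1 := (Subgroup.mem_normalizer_iff.mp hdn _).mp hsd
    have e : s * d ^ (n + 1) * s⁻¹ * d ^ (n + 1) =
        (s * d ^ n * s⁻¹ * d ^ n) * ((d ^ n)⁻¹ * (s * d * s⁻¹ * d) * (d ^ n)⁻¹⁻¹) := by
      rw [pow_succ]
      have e2 : d ^ n * d = d * d ^ n := by rw [← pow_succ, ← pow_succ']
      calc s * (d ^ n * d) * s⁻¹ * (d ^ n * d) = s * (d ^ n * d) * s⁻¹ * (d * d ^ n) := by rw [e2]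
        _ = _ := by group
    rw [e]
    exact D.mul_mem ih h1

theorem exists_last {Q : ℕ → Prop} (h0 : Q 0) (a : ℕ) (ha : ¬ Q a) : ∃ j, Q j ∧ ¬ Q (j + 1) := by
  classical
  have hex : ∃ j, ¬ Q j := ⟨a, ha⟩
  have hne : Nat.find hex ≠ 0 := by
    intro h
    have := Nat.find_spec hex
    rw [h] at this
    exact this h0
  obtain ⟨j, hj⟩ := Nat.exists_eq_succ_of_ne_zero hne
  refine ⟨j, ?_, ?_⟩
  · by_contra hq
    have := Nat.find_min' hex hq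
    omega
  · have := Nat.find_spec hex
    rw [hj] at this
    exact this

variable [Finite H]

theorem s4_of_pair (T : Subgroup H) [hTn : T.Normal] (hT : IsPGroup 2 T)
    (P : Subgroup H) (hP : IsPGroup 3 P) (s : H)
    (hsP : s ∈ Subgroup.normalizer (P : Set H))
    (a : ℕ) (hs : s ^ 2 ^ a = 1) (x : H) (hx : x ∈ P)
    (hxs : x⁻¹ * (s * x * s⁻¹) ∉ Subgroup.centralizer (T : Set H)) :
    Cfsg.Involves (Equiv.Perm (Fin 4)) H := by
  obtain ⟨C, hC⟩ : ∃ C : Subgroup H, C = Subgroup.centralizer (T : Set H) := ⟨_, rfl⟩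
  have hCn : C.Normal := by rw [hC]; exact Subgroup.normal_centralizer
  rw [← hC] at hxs
  obtain ⟨j, hj1, hj2⟩ := exists_last
    (Q := fun j => ∃ x ∈ P, x⁻¹ * (s ^ 2 ^ j * x * (s ^ 2 ^ j)⁻¹) ∉ C)
    ⟨x, hx, by simpa using hxs⟩ a (by
      rintro ⟨x', _, hx'⟩
      apply hx'
      rw [hs]
      simp [C.one_mem])
  obtain ⟨s', hs'⟩ : ∃ s' : H, s' = s ^ 2 ^ j := ⟨_, rfl⟩
  have hss : s ^ 2 ^ (j + 1) = s' * s' := by
    rw [hs', ← pow_add, pow_succ, mul_two]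
  rw [← hs'] at hj1
  rw [hss] at hj2
  have hs'P : s' ∈ Subgroup.normalizer (P : Set H) := by
    rw [hs']; exact Subgroup.pow_mem _ hsP _
  have hs'a : s' ^ 2 ^ a = 1 := by
    rw [hs', ← pow_mul, mul_comm, pow_mul, hs, one_pow]
  obtain ⟨x', hx'P, hx'⟩ := hj1
  have hz : s' * x' * s'⁻¹ ∈ P := (Subgroup.mem_normalizer_iff.mp hs'P x').mp hx'P
  have hzz : s' * s' * x' * (s' * s')⁻¹ ∈ P := by
    have := (Subgroup.mem_normalizer_iff.mp hs'P _).mp hz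
    have e : s' * s' * x' * (s' * s')⁻¹ = s' * (s' * x' * s'⁻¹) * s'⁻¹ := by group
    rw [e]; exact this
  have hcC : x'⁻¹ * (s' * s' * x' * (s' * s')⁻¹) ∈ C := by
    by_contra h
    exact hj2 ⟨x', hx'P, h⟩
  obtain ⟨d, hd⟩ : ∃ d : H, d = x'⁻¹ * (s' * x' * s'⁻¹) := ⟨_, rfl⟩
  have hdP : d ∈ P := by rw [hd]; exact P.mul_mem (P.inv_mem hx'P) hz
  rw [← hd] at hx'
  have hsdP : s' * d * s'⁻¹ * d ∈ P :=
    P.mul_mem ((Subgroup.mem_normalizer_iff.mp hs'P d).mp hdP) hdP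
  have hsdC : s' * d * s'⁻¹ * d ∈ C := by
    have e : s' * d * s'⁻¹ * d = ((s' * x' * s'⁻¹)⁻¹ * x') *
        (x'⁻¹ * (s' * s' * x' * (s' * s')⁻¹)) * ((s' * x' * s'⁻¹)⁻¹ * x')⁻¹ := by
      rw [hd]; group
    rw [e]
    exact hCn.conj_mem _ hcC _
  obtain ⟨D, hD⟩ : ∃ D : Subgroup H, D = P ⊓ C := ⟨_, rfl⟩
  have hD3 : IsPGroup 3 D := by
    rw [hD]; exact hP.to_le inf_le_left
  have hDC : D ≤ Subgroup.centralizer (T : Set H) := by
    rw [hD, ← hC]; exact inf_le_right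
  have hnormD : ∀ g : H, g ∈ Subgroup.normalizer (P : Set H) →
      g ∈ Subgroup.normalizer (D : Set H) := by
    intro g hg
    apply Cfsg.Agent.Lib.Helper1.GNPC2.mem_normalizer_of_forall_conj_mem
    intro q hq
    rw [hD] at hq ⊢
    exact ⟨(Subgroup.mem_normalizer_iff.mp hg q).mp hq.1, hCn.conj_mem q hq.2 g⟩
  have hdD : d ∈ Subgroup.normalizer (D : Set H) := hnormD d (Subgroup.le_normalizer hdP)
  have hs'D : s' ∈ Subgroup.normalizer (D : Set H) := hnormD s' hs'P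
  have hsdD : s' * d * s'⁻¹ * d ∈ D := by rw [hD]; exact ⟨hsdP, hsdC⟩
  obtain ⟨b, hb⟩ := hP ⟨d, hdP⟩
  have hdb : d ^ 3 ^ b = 1 := by
    have := congrArg Subtype.val hb
    simpa using this
  obtain ⟨i, hi1, hi2⟩ := exists_last (Q := fun i => d ^ 3 ^ i ∉ C)
    (by simpa using hx') b (by
      intro h
      apply h
      rw [hdb]; exact C.one_mem)
  obtain ⟨d₀, hd₀⟩ : ∃ d₀ : H, d₀ = d ^ 3 ^ i := ⟨_, rfl⟩
  have hd₀3 : d₀ * d₀ * d₀ = d ^ 3 ^ (i + 1) := by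
    rw [hd₀, ← pow_add, ← pow_add, pow_succ]
    congr 1
    ring
  have hd₀P : d₀ ∈ P := by rw [hd₀]; exact P.pow_mem hdP _
  have hd₀D : d₀ * d₀ * d₀ ∈ D := by
    rw [hD]
    refine ⟨P.mul_mem (P.mul_mem hd₀P hd₀P) hd₀P, ?_⟩
    rw [hd₀3]
    by_contra h
    exact hi2 h
  have hd₀b : d₀ ^ 3 ^ b = 1 := by
    rw [hd₀, ← pow_mul, mul_comm, pow_mul, hdb, one_pow]
  rw [← hd₀, hC] at hi1
  apply s4_of_data T hT D hD3 hDC d₀ s' (hnormD d₀ (Subgroup.le_normalizer hd₀P)) hs'D hd₀D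
    (by rw [hd₀]; exact conj_pow_mul_pow_mem hdD hsdD _) a hs'a b hd₀b hi1

end pair

end Cfsg.Agent.Lib.Helper5.S4Inv
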