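import Mathlib
import Cfsg.Agent.Lib.Helper5.S4Inv4

set_option autoImplicit false

namespace Cfsg.Agent.Lib.Helper5.S4Inv

open Equiv

section s3

def c3 : Perm (Fin 3) := swap 0 1 * swap 1 2
def t3 : Perm (Fin 3) := swap 0 1

theorem c3_cube : c3 ^ 3 = 1 := by decide
theorem c3_ne : c3 ≠ 1 := by decide
theorem c3_sign : Perm.sign c3 = 1 := by decide
theorem t3_sign : Perm.sign t3 = -1 := by decide
theorem s3_key : ∀ u w : Perm (Fin 3), Perm.sign u = 1 → Perm.sign w = -1 → u ≠ 1 →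
    u⁻¹ * (w * u * w⁻¹) ≠ 1 := by decide

theorem c3_order : orderOf c3 = 3 := by
  haveI : Fact (Nat.Prime 3) := ⟨Nat.prime_three⟩
  exact orderOf_eq_prime c3_cube c3_ne

end s3

section abstract

variable {K : Type*} [Group K] [Finite K]

theorem exists_pair (ρ : K →* Perm (Fin 3)) (hρ : Function.Surjective ρ) :
    ∃ P : Subgroup K, IsPGroup 3 P ∧ ∃ s ∈ Subgroup.normalizer (P : Set K), ∃ a : ℕ,
      s ^ 2 ^ a = 1 ∧ ∃ x ∈ P, ρ (x⁻¹ * (s * x * s⁻¹)) ≠ 1 := by
  haveI : Fact (Nat.Prime 3) := ⟨Nat.prime_three⟩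
  haveI : Fact (Nat.Prime 2) := ⟨Nat.prime_two⟩
  obtain ⟨A, hA⟩ : ∃ A : Subgroup K, A = (alternatingGroup (Fin 3)).comap ρ := ⟨_, rfl⟩
  haveI hAn : A.Normal := by rw [hA]; exact Subgroup.Normal.comap inferInstance ρ
  have hmemA : ∀ g : K, g ∈ A ↔ Perm.sign (ρ g) = 1 := by
    intro g
    rw [hA, Subgroup.mem_comap, Equiv.Perm.mem_alternatingGroup]
  obtain ⟨x₀, hx₀⟩ := hρ c3
  obtain ⟨b, m, hm, hbm⟩ := Nat.exists_eq_pow_mul_and_not_dvd (orderOf_pos x₀).ne' 3 (by norm_num)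
  obtain ⟨x₁, hx₁⟩ : ∃ x₁ : K, x₁ = x₀ ^ m := ⟨_, rfl⟩
  have hx₁b : x₁ ^ 3 ^ b = 1 := by
    rw [hx₁, ← pow_mul, mul_comm, ← hbm, pow_orderOf_eq_one]
  have hρx₁ : ρ x₁ = c3 ^ m := by rw [hx₁, map_pow, hx₀]
  have hρx₁ne : ρ x₁ ≠ 1 := by
    rw [hρx₁]
    intro h
    have := orderOf_dvd_of_pow_eq_one h
    rw [c3_order] at this
    exact hm this
  have hρx₁s : Perm.sign (ρ x₁) = 1 := by
    rw [hρx₁, map_pow, c3_sign, one_pow]
  have hx₁A : x₁ ∈ A := (hmemA x₁).mpr hρx₁s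
  have hZ : IsPGroup 3 (Subgroup.zpowers (⟨x₁, hx₁A⟩ : ↥A)) := by
    rw [IsPGroup.iff_card]
    rw [Nat.card_zpowers]
    have h1 : orderOf (⟨x₁, hx₁A⟩ : ↥A) ∣ 3 ^ b := by
      apply orderOf_dvd_of_pow_eq_one
      apply Subtype.ext
      rw [Subgroup.coe_pow]
      exact hx₁b
    obtain ⟨k, _, hk⟩ := (Nat.dvd_prime_pow Nat.prime_three).mp h1
    exact ⟨k, hk⟩
  obtain ⟨P, hP⟩ := hZ.exists_le_sylow
  have hfrat := Sylow.normalizer_sup_eq_top P
  obtain ⟨s₀, hs₀⟩ := hρ t3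
  have hs₀top : s₀ ∈ (Subgroup.normalizer (((P : Subgroup ↥A).map A.subtype : Subgroup K) : Set K) ⊔ A :
      Subgroup K) := by
    rw [hfrat]; trivial
  have hs₀' : s₀ ∈ ((Subgroup.normalizer (((P : Subgroup ↥A).map A.subtype : Subgroup K) : Set K) ⊔ A :
      Subgroup K) : Set K) := hs₀top
  rw [Subgroup.mul_normal] at hs₀'
  obtain ⟨n, hn, a', ha', hna⟩ := Set.mem_mul.mp hs₀'
  have hρn : Perm.sign (ρ n) = -1 := by
    have h1 : ρ n = ρ s₀ * (ρ a')⁻¹ := by
      rw [← hna, map_mul]; group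
    rw [h1, map_mul, map_inv, (hmemA a').mp ha', hs₀, t3_sign]
    simp
  obtain ⟨e, m', hm', hem'⟩ := Nat.exists_eq_pow_mul_and_not_dvd (orderOf_pos n).ne' 2 (by norm_num)
  obtain ⟨s, hs⟩ : ∃ s : K, s = n ^ m' := ⟨_, rfl⟩
  have hse : s ^ 2 ^ e = 1 := by
    rw [hs, ← pow_mul, mul_comm, ← hem', pow_orderOf_eq_one]
  have hρs : Perm.sign (ρ s) = -1 := by
    rw [hs, map_pow, map_pow, hρn]
    have hodd : Odd m' := Nat.odd_iff.mpr (by omega)
    exact hodd.neg_one_pow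
  refine ⟨(P : Subgroup ↥A).map A.subtype, P.2.map A.subtype, s, ?_, e, hse, x₁, ?_, ?_⟩
  · rw [hs]; exact Subgroup.pow_mem _ hn _
  · refine Subgroup.mem_map.mpr ⟨⟨x₁, hx₁A⟩, hP (Subgroup.mem_zpowers _), rfl⟩
  · rw [map_mul, map_inv, map_mul, map_mul, map_inv]
    exact s3_key _ _ hρx₁s hρs hρx₁ne

end abstract

section inH

variable {H : Type*} [Group H] [Finite H]

theorem s4_of_sub (T : Subgroup H) [hTn : T.Normal] (hT : IsPGroup 2 T) (K : Subgroup H)
    (ρ : ↥K →* Perm (Fin 3)) (hρ : Function.Surjective ρ)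
    (hker : ∀ k : ↥K, (k : H) ∈ Subgroup.centralizer (T : Set H) → ρ k = 1) :
    Cfsg.Involves (Perm (Fin 4)) H := by
  obtain ⟨P, hP, s, hsP, a, hsa, x, hxP, hne⟩ := exists_pair ρ hρ
  apply s4_of_pair T hT (P.map K.subtype) (hP.map K.subtype) (s : H) ?_ a ?_ (x : H) ?_ ?_
  · apply Cfsg.Agent.Lib.Helper1.GNPC2.mem_normalizer_of_forall_conj_mem
    intro q hq
    obtain ⟨q', hq', rfl⟩ := Subgroup.mem_map.mp hq
    refine Subgroup.mem_map.mpr ⟨s * q' * s⁻¹, (Subgroup.mem_normalizer_iff.mp hsP q').mp hq', ?_⟩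
    simp
  · have := congrArg Subtype.val hsa
    simpa using this
  · exact Subgroup.mem_map.mpr ⟨x, hxP, rfl⟩
  · intro hc
    apply hne
    apply hker
    simpa using hc

end inH

section backward

variable {G : Type*} [Group G] [Finite G]

theorem backward (T : Subgroup G) (hT : IsPGroup 2 T)
    (h : Cfsg.Involves (Perm (Fin 3)) (↥(Subgroup.normalizer (T : Set G)) ⧸
      (Subgroup.centralizer (T : Set G)).subgroupOf (Subgroup.normalizer (T : Set G)))) :
    Cfsg.Involves (Perm (Fin 4)) G := by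
  obtain ⟨Kb, Rb, hn, ⟨e⟩⟩ := h
  haveI := hn
  haveI hT'n : (T.subgroupOf (Subgroup.normalizer (T : Set G))).Normal :=
    Subgroup.normal_in_normalizer
  have hT' : IsPGroup 2 (T.subgroupOf (Subgroup.normalizer (T : Set G))) := hT.comap_subtype
  let mkC := QuotientGroup.mk' ((Subgroup.centralizer (T : Set G)).subgroupOf
    (Subgroup.normalizer (T : Set G)))
  let K : Subgroup ↥(Subgroup.normalizer (T : Set G)) := Kb.comap mkC
  let ρ : ↥K →* Perm (Fin 3) :=
    (e.toMonoidHom.comp (QuotientGroup.mk' (Rb.subgroupOf Kb))).comp (mkC.subgroupComap Kb)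
  have hρ : Function.Surjective ρ :=
    (e.surjective.comp (QuotientGroup.mk'_surjective _)).comp
      (mkC.subgroupComap_surjective_of_surjective Kb (QuotientGroup.mk'_surjective _))
  have hker : ∀ k : ↥K, (k : ↥(Subgroup.normalizer (T : Set G))) ∈ Subgroup.centralizer
      ((T.subgroupOf (Subgroup.normalizer (T : Set G)) :
        Subgroup ↥(Subgroup.normalizer (T : Set G))) : Set ↥(Subgroup.normalizer (T : Set G))) →
      ρ k = 1 := by
    intro k hk
    have h1 : (k : ↥(Subgroup.normalizer (T : Set G))) ∈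
        (Subgroup.centralizer (T : Set G)).subgroupOf (Subgroup.normalizer (T : Set G)) := by
      rw [Subgroup.mem_subgroupOf, Subgroup.mem_centralizer_iff]
      intro τ hτ
      have := Subgroup.mem_centralizer_iff.mp hk ⟨τ, Subgroup.le_normalizer hτ⟩
        (Subgroup.mem_subgroupOf.mpr hτ)
      exact congrArg Subtype.val this
    have h2 : mkC.subgroupComap Kb k = 1 := by
      apply Subtype.ext
      show mkC (k : ↥(Subgroup.normalizer (T : Set G))) = 1
      exact (QuotientGroup.eq_one_iff _).mpr h1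
    show e (QuotientGroup.mk' _ (mkC.subgroupComap Kb k)) = 1
    rw [h2, map_one, map_one]
  have := s4_of_sub (T.subgroupOf (Subgroup.normalizer (T : Set G))) hT' K ρ hρ hker
  exact Cfsg.Agent.Lib.Helper1.GNPC2.involves_of_injective (Subgroup.normalizer (T : Set G)).subtype
    (Subgroup.normalizer (T : Set G)).subtype_injective this

end backward

end Cfsg.Agent.Lib.Helper5.S4Inv
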