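import Mathlib
import Cfsg.Agent.Lib.Helper5.S4Inv5

set_option autoImplicit false

namespace Cfsg.Agent.Lib.Helper5.S4Inv

open Equiv

theorem involves_of_ker_le {L Q W : Type*} [Group L] [Group Q] [Group W] (θ : L →* Q) (ψ : L →* W)
    (hψ : Function.Surjective ψ) (hle : θ.ker ≤ ψ.ker) : Cfsg.Involves W Q := by
  apply Cfsg.Agent.S5299.involves_of_surj θ.range
    ((QuotientGroup.lift θ.ker ψ hle).comp (QuotientGroup.quotientKerEquivRange θ).symm.toMonoidHom)
  intro w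
  obtain ⟨l, rfl⟩ := hψ w
  refine ⟨QuotientGroup.quotientKerEquivRange θ (QuotientGroup.mk l), ?_⟩
  simp

theorem s3_in_W : Cfsg.Involves (Perm (Fin 3)) (Perm (Fin 4) ⧸ V4) := by
  have h := Cfsg.Agent.S3755.s3_involved (M := (⊤ : Subgroup (Perm (Fin 4) ⧸ V4)))
    (a := QuotientGroup.mk' V4 tr) (x := QuotientGroup.mk' V4 cyc) trivial trivial
    (by rw [← map_mul, tr_sq, map_one])
    (by
      haveI : Fact (Nat.Prime 3) := ⟨Nat.prime_three⟩
      apply orderOf_eq_prime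
      · rw [← map_pow, pow_succ, pow_two, cyc_cube, map_one]
      · intro h; exact cyc_not ((QuotientGroup.eq_one_iff _).mp h))
    (by
      apply eq_inv_of_mul_eq_one_left
      rw [← map_inv, ← map_mul, ← map_mul, ← map_mul, tr_cyc, map_one])
  exact Cfsg.Agent.Lib.Helper1.GNPC2.involves_of_injective (⊤ : Subgroup (Perm (Fin 4) ⧸ V4)).subtype
    (Subgroup.subtype_injective _) h

section fwd

variable {K : Type*} [Group K] [Finite K]

theorem sylow_onto (π : K →* Perm (Fin 4)) (hπ : Function.Surjective π)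
    (T₀ : Sylow 2 ↥(V4.comap π)) (a : Perm (Fin 4)) (ha : inV4 a) :
    ∃ τ ∈ (T₀ : Subgroup ↥(V4.comap π)).map (V4.comap π).subtype, π τ = a := by
  haveI : Fact (Nat.Prime 2) := ⟨Nat.prime_two⟩
  have hπV : Function.Surjective (π.subgroupComap V4) :=
    π.subgroupComap_surjective_of_surjective V4 hπ
  have h1 : (⊤ : Subgroup ↥V4) = ((T₀.mapSurjective hπV : Sylow 2 ↥V4) : Subgroup ↥V4) :=
    (T₀.mapSurjective hπV).is_maximal' (V4_pgroup.to_subgroup ⊤) le_top
  have h2 : (⟨a, ha⟩ : ↥V4) ∈ ((T₀.mapSurjective hπV : Sylow 2 ↥V4) : Subgroup ↥V4) := by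
    rw [← h1]; trivial
  rw [Sylow.coe_mapSurjective] at h2
  obtain ⟨τ₀, hτ₀, hτ₀a⟩ := Subgroup.mem_map.mp h2
  refine ⟨(τ₀ : K), Subgroup.mem_map.mpr ⟨τ₀, hτ₀, rfl⟩, ?_⟩
  exact congrArg Subtype.val hτ₀a

end fwd

section forward

variable {G : Type*} [Group G] [Finite G]

theorem forward (h : Cfsg.Involves (Perm (Fin 4)) G) :
    ∃ T : Subgroup G, IsPGroup 2 ↥T ∧ Cfsg.Involves (Perm (Fin 3))
      (↥(Subgroup.normalizer (T : Set G)) ⧸
        (Subgroup.centralizer (T : Set G)).subgroupOf (Subgroup.normalizer (T : Set G))) := by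
  haveI : Fact (Nat.Prime 2) := ⟨Nat.prime_two⟩
  obtain ⟨K, R, hn, ⟨e⟩⟩ := h
  haveI := hn
  obtain ⟨π, hπdef⟩ : ∃ π : ↥K →* Perm (Fin 4),
      π = e.toMonoidHom.comp (QuotientGroup.mk' (R.subgroupOf K)) := ⟨_, rfl⟩
  have hπ : Function.Surjective π := by
    rw [hπdef]; exact e.surjective.comp (QuotientGroup.mk'_surjective _)
  haveI hVn : (V4.comap π).Normal := Subgroup.Normal.comap inferInstance π
  have hmemV : ∀ k : ↥K, k ∈ V4.comap π ↔ inV4 (π k) := fun k => Iff.rfl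
  obtain ⟨T₀⟩ : Nonempty (Sylow 2 ↥(V4.comap π)) := inferInstance
  obtain ⟨TK, hTK⟩ : ∃ TK : Subgroup ↥K,
      TK = (T₀ : Subgroup ↥(V4.comap π)).map (V4.comap π).subtype := ⟨_, rfl⟩
  have hTKp : IsPGroup 2 TK := by rw [hTK]; exact T₀.2.map _
  have hsurjT : ∀ a : Perm (Fin 4), inV4 a → ∃ τ ∈ TK, π τ = a := by
    intro a ha
    rw [hTK]
    exact sylow_onto π hπ T₀ a ha
  have hfrat : Subgroup.normalizer (TK : Set ↥K) ⊔ V4.comap π = ⊤ := by
    rw [hTK]; exact Sylow.normalizer_sup_eq_top T₀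
  obtain ⟨NK, hNK⟩ : ∃ NK : Subgroup ↥K, NK = Subgroup.normalizer (TK : Set ↥K) := ⟨_, rfl⟩
  rw [← hNK] at hfrat
  refine ⟨TK.map K.subtype, hTKp.map _, ?_⟩
  have hincl : ∀ n : ↥NK, (K.subtype.comp NK.subtype) n ∈
      Subgroup.normalizer ((TK.map K.subtype : Subgroup G) : Set G) := by
    intro n
    apply Cfsg.Agent.Lib.Helper1.GNPC2.mem_normalizer_of_forall_conj_mem
    intro q hq
    obtain ⟨q', hq', rfl⟩ := Subgroup.mem_map.mp hq
    have hn' : (n : ↥K) ∈ Subgroup.normalizer (TK : Set ↥K) := by rw [← hNK]; exact n.2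
    refine Subgroup.mem_map.mpr ⟨(n : ↥K) * q' * (n : ↥K)⁻¹,
      (Subgroup.mem_normalizer_iff.mp hn' q').mp hq', ?_⟩
    simp
  let incl : ↥NK →* ↥(Subgroup.normalizer ((TK.map K.subtype : Subgroup G) : Set G)) :=
    MonoidHom.codRestrict (K.subtype.comp NK.subtype) _ hincl
  let θ := (QuotientGroup.mk' ((Subgroup.centralizer ((TK.map K.subtype : Subgroup G) : Set G)).subgroupOf
    (Subgroup.normalizer ((TK.map K.subtype : Subgroup G) : Set G)))).comp incl
  let ψ : ↥NK →* Perm (Fin 4) ⧸ V4 := (QuotientGroup.mk' V4).comp (π.comp NK.subtype)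
  have hψ : Function.Surjective ψ := by
    intro w
    obtain ⟨g, rfl⟩ := QuotientGroup.mk'_surjective V4 w
    obtain ⟨k, rfl⟩ := hπ g
    have hk : k ∈ ((NK ⊔ V4.comap π : Subgroup ↥K) : Set ↥K) := by rw [hfrat]; trivial
    rw [Subgroup.mul_normal] at hk
    obtain ⟨n, hn, v, hv, rfl⟩ := Set.mem_mul.mp hk
    refine ⟨⟨n, hn⟩, ?_⟩
    show QuotientGroup.mk' V4 (π n) = QuotientGroup.mk' V4 (π (n * v))
    rw [map_mul, map_mul]
    have : QuotientGroup.mk' V4 (π v) = 1 := (QuotientGroup.eq_one_iff _).mpr ((hmemV v).mp hv)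
    rw [this, mul_one]
  have hle : θ.ker ≤ ψ.ker := by
    intro n hn
    rw [MonoidHom.mem_ker] at hn ⊢
    have h1 : incl n ∈ (Subgroup.centralizer ((TK.map K.subtype : Subgroup G) : Set G)).subgroupOf
        (Subgroup.normalizer ((TK.map K.subtype : Subgroup G) : Set G)) :=
      (QuotientGroup.eq_one_iff _).mp hn
    rw [Subgroup.mem_subgroupOf, Subgroup.mem_centralizer_iff] at h1
    show QuotientGroup.mk' V4 (π n) = 1
    apply (QuotientGroup.eq_one_iff _).mpr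
    show inV4 (π n)
    apply v4_cent
    intro a ha
    obtain ⟨τ, hτ, rfl⟩ := hsurjT a ha
    have h2 := h1 (τ : G) (Subgroup.mem_map.mpr ⟨τ, hτ, rfl⟩)
    have h3 : τ * (n : ↥K) = (n : ↥K) * τ := Subtype.ext h2
    rw [← map_mul, ← map_mul, h3]
  have hWQ := involves_of_ker_le θ ψ hψ hle
  exact involves_trans s3_in_W hWQ

end forward

end Cfsg.Agent.Lib.Helper5.S4Inv
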