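import Cfsg.Agent.Lib.Helper10.SZC.Defs
import Cfsg.Agent.Lib.helper3.SuzukiPartition
import Cfsg.Agent.Lib.helper3.SuzukiSimple
import Cfsg.Agent.Lib.helper3.SuzukiLieIso
import Cfsg.Agent.Lib.helper3.SuzukiLieTrans
import Cfsg.Agent.Lib.helper3.SuzukiCard
import Cfsg.Agent.Lib.helper3.SuzukiSylow
import Cfsg.Agent.Lib.helper3.SuzukiOddSylow

/-!
# Project SZC, row B3 (`sz_cards`), verbatim vs `Helper10/SZC/Skel2.lean.txt`.
-/

set_option autoImplicit false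
open scoped ComplexConjugate

namespace Cfsg.Agent.Lib.Helper10.SZC

open Cfsg Cfsg.Agent.Lib.helper3

section Bridge
variable {F : Type*} [Field F] [Fintype F] {m : ℕ}

/-- B3 -/
theorem sz_cards (hF : Fintype.card F = 2 ^ (2 * m + 1)) (hm : 1 ≤ m) :
    Nat.card (Sz F m) =
      (2 ^ (2 * m + 1)) ^ 2 * (2 ^ (2 * m + 1) - 1) * ((2 ^ (2 * m + 1)) ^ 2 + 1) ∧
    Nat.card (Qs hF) = (2 ^ (2 * m + 1)) ^ 2 ∧
    Nat.card (MulAction.stabilizer (Sz F m) (oInf F m)) =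
      (2 ^ (2 * m + 1)) ^ 2 * (2 ^ (2 * m + 1) - 1) ∧
    Nat.card (gDhom hF : Fˣ →* Sz F m).range = 2 ^ (2 * m + 1) - 1 := by
  refine ⟨?_, card_Qs hF, card_stab_oInf hF hm, card_gDhom_range hF⟩
  rw [card_Sz hm hF]
  ring

end Bridge

end Cfsg.Agent.Lib.Helper10.SZC
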