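import Mathlib
import Cfsg.Agent.Lib.Helper10.TEM.Defs
import Cfsg.Agent.Lib.helper8.ChevTwP4

/-!
# Project TEM = S2191 (designer helper10), row G4 `hh_mem_G1`, `nrho_mem_G1`: the cores (helper5).
`hX` = the STATEMENT of G3 `X_mem_G1` (at `hF`), `hnO` = the statement of G1 `nO_mem_G1` (at `hF`).
-/

set_option autoImplicit false

namespace Cfsg.Agent.Lib.Helper10.TEM

open Cfsg.Lie Cfsg.Lie.ChevalleyDatum Matrix
open Cfsg.Agent.Lib.helper8

universe u

variable {K : Type u} [Field K] {q : ℕ} {f : K ≃+* K} {M H : Subgroup (GG K)}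

/-- core of G4 `hh_mem_G1`: `hX` is the statement of G3 `X_mem_G1` -/
theorem temg4_hh_core (hF : Frob q f)
    (hX : ∀ (r : ℕ), r < 72 → h8sE6 r = r → ∀ t : K, t ^ q = t → X r t ∈ twistedE6 K q)
    (r : ℕ) (hr : r < 72) (hσ : h8sE6 r = r) (c : K) (_hc : c ≠ 0)
    (hcq : c ^ q = c) : hh r c ∈ twistedE6 K q := by
  have hd := root_data r hr
  have hneg : chevE6.negIdx.getD r 0 = 71 - r := hd.2.1
  have hr' : 71 - r < 72 := by omega
  have hσ' : h8sE6 (71 - r) = 71 - r := by rw [hd.2.2.2.2.1, hσ]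
  unfold hh
  refine h8tw_h1_mem chevE6 hB (twistedE6 K q) f r ?_ ?_ c (by rw [hF.pow, hcq])
  · intro t ht
    exact hX r hr hσ t (by rw [← hF.pow, ht])
  · intro t ht
    rw [hneg]
    exact hX (71 - r) hr' hσ' t (by rw [← hF.pow, ht])

theorem temg4_flatO_zero : flatO [0] = [1] := by decide

/-- `nrho = nO lr * nO [0] * (nO lr)⁻¹` -/
theorem temg4_nrho_eq : (nrho : GG K) = nO lr * nO [0] * (nO lr)⁻¹ := by
  have e : (nO [0] : GG K) = h8nU chevE6 hB 46 1 := by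
    unfold nO nW
    rw [temg4_flatO_zero, h8nWU_single, h8twE6_simdata.2.1]
  unfold nrho
  rw [e]

/-- core of G4 `nrho_mem_G1`: `hnO` is the statement of G1 `nO_mem_G1` -/
theorem temg4_nrho_core (hnO : ∀ l : List ℕ, (nO l : GG K) ∈ twistedE6 K q) :
    (nrho : GG K) ∈ twistedE6 K q := by
  rw [temg4_nrho_eq]
  exact Subgroup.mul_mem _ (Subgroup.mul_mem _ (hnO lr) (hnO [0])) (Subgroup.inv_mem _ (hnO lr))

end Cfsg.Agent.Lib.Helper10.TEM
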