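import Mathlib
import Cfsg.Agent.Lib.Helper10.TEM.Defs
import Cfsg.Agent.Lib.Helper5.TEMG4core
import Cfsg.Agent.Lib.Helper12.TEMG1
import Cfsg.Agent.Lib.helper15.TEMG3

/-!
# Project TEM = S2191 (designer helper10), row G4 `hh_mem_G1`, `nrho_mem_G1`, VERBATIM (helper5):
`temg4_hh_core` on G3 `X_mem_G1` (`helper15.TEMG3`), `temg4_nrho_core` on G1 `nO_mem_G1` (`Helper12.TEMG1`).
-/

set_option autoImplicit false

namespace Cfsg.Agent.Lib.Helper10.TEM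

open Cfsg.Lie Cfsg.Lie.ChevalleyDatum Matrix
open Cfsg.Agent.Lib.helper8

universe u

variable {K : Type u} [Field K] {q : ℕ} {f : K ≃+* K} {M H : Subgroup (GG K)}

-- ROW G4  [S]  `h8tw_h1_mem` (ChevTwP4) with G3; `nrho = nO lr * nO [0] * (nO lr)⁻¹` (`h8nWU_single`).
theorem hh_mem_G1 (hF : Frob q f) (r : ℕ) (hr : r < 72) (hσ : h8sE6 r = r) (c : K) (hc : c ≠ 0)
    (hcq : c ^ q = c) : hh r c ∈ twistedE6 K q :=
  temg4_hh_core hF (fun r hr hσ t ht => X_mem_G1 hF r hr hσ t ht) r hr hσ c hc hcq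

theorem nrho_mem_G1 (hF : Frob q f) : (nrho : GG K) ∈ twistedE6 K q :=
  temg4_nrho_core (fun l => nO_mem_G1 hF l)

end Cfsg.Agent.Lib.Helper10.TEM
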