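import Mathlib
import Cfsg.Agent.Lib.helper3.BSZ.Defs

/-!
# Project BSZ, row B01 (`sylCen_iff`), verbatim vs `helper3/BSZ/Skel.lean.txt`.
-/

set_option autoImplicit false

namespace Cfsg.Agent.Lib.helper3.BSZ

open Cfsg Cfsg.Agent.Lib.helper3

/-- membership in the image in `G` of the centre of a subgroup -/
theorem bszb01_mem_center_map {G : Type*} [Group G] (Q : Subgroup G) (x : G) :
    x ∈ (Subgroup.center Q).map Q.subtype ↔ x ∈ Q ∧ ∀ y ∈ Q, y * x = x * y := by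
  constructor
  · rintro ⟨z, hz, rfl⟩
    refine ⟨z.2, ?_⟩
    intro y hy
    have := Subgroup.mem_center_iff.1 hz ⟨y, hy⟩
    exact congrArg Subtype.val this
  · rintro ⟨hx, hc⟩
    have hcen : (⟨x, hx⟩ : Q) ∈ Subgroup.center Q := by
      rw [Subgroup.mem_center_iff]
      intro y
      exact Subtype.ext (hc y.1 y.2)
    exact ⟨⟨x, hx⟩, hcen, rfl⟩

variable {F : Type*} [Field F] [Fintype F] {m : ℕ}

/-- `Zs` is the centre of `Qs` -/
theorem bszb01_Zs (hF : Fintype.card F = 2 ^ (2 * m + 1)) (hm : 1 ≤ m) (z : Sz F m) :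
    z ∈ Zs hF ↔ z ∈ Qs hF ∧ ∀ y ∈ Qs hF, y * z = z * y := by
  constructor
  · intro hz
    obtain ⟨b, rfl⟩ := (mem_Zs hF).1 hz
    have hQ : gT hF 0 b ∈ Qs hF := gT_mem_Qs hF 0 b
    refine ⟨hQ, ?_⟩
    have hc : qT hF 0 b ∈ Subgroup.center (Qs hF) := (center_Qs hF hm (qT hF 0 b)).2 ⟨b, rfl⟩
    intro y hy
    have := Subgroup.mem_center_iff.1 hc ⟨y, hy⟩
    exact congrArg Subtype.val this
  · rintro ⟨hz, hc⟩
    have hcen : (⟨z, hz⟩ : Qs hF) ∈ Subgroup.center (Qs hF) := by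
      rw [Subgroup.mem_center_iff]
      intro y
      exact Subtype.ext (hc y.1 y.2)
    obtain ⟨b, hb⟩ := (center_Qs hF hm ⟨z, hz⟩).1 hcen
    rw [mem_Zs]
    exact ⟨b, congrArg Subtype.val hb⟩

/-- the centre of a Sylow 2-subgroup `P = x Qs x⁻¹` is `x Zs x⁻¹` -/
theorem bszb01_center (hF : Fintype.card F = 2 ^ (2 * m + 1)) (hm : 1 ≤ m) (P : Subgroup (Sz F m))
    (x : Sz F m) (hP : ∀ g : Sz F m, g ∈ P ↔ x⁻¹ * g * x ∈ Qs hF) :
    (Subgroup.center P).map P.subtype = cj (Zs hF) x := by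
  ext h
  rw [bszb01_mem_center_map, mem_map_conj_iff, bszb01_Zs hF hm]
  constructor
  · rintro ⟨hh, hc⟩
    refine ⟨(hP h).1 hh, ?_⟩
    intro y hy
    have hy' : x * y * x⁻¹ ∈ P := by
      rw [hP]
      have : x⁻¹ * (x * y * x⁻¹) * x = y := by group
      rw [this]; exact hy
    have := hc _ hy'
    have e1 : y * (x⁻¹ * h * x) = x⁻¹ * ((x * y * x⁻¹) * h) * x := by group
    have e2 : (x⁻¹ * h * x) * y = x⁻¹ * (h * (x * y * x⁻¹)) * x := by group
    rw [e1, e2, this]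
  · rintro ⟨hh, hc⟩
    refine ⟨(hP h).2 hh, ?_⟩
    intro y hy
    have := hc _ ((hP y).1 hy)
    have e1 : y * h = x * ((x⁻¹ * y * x) * (x⁻¹ * h * x)) * x⁻¹ := by group
    have e2 : h * y = x * ((x⁻¹ * h * x) * (x⁻¹ * y * x)) * x⁻¹ := by group
    rw [e1, e2, this]

/-- B01 [M]: `→`: `sylow_two_conj hF hm P` gives `x` with `g ∈ P ↔ x⁻¹ * g * x ∈ Qs hF`; `center_Qs` (centre of `Qs` = `{qT 0 b}`) transported by conjugation (`mem_map_conj_iff`, `mem_Zs`).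
`←`: `P := x • QsSylow hF hm` (`Sylow.coe_subgroup_smul`, `coe_QsSylow`; cf. the proof of `le_normalizer_sylow_of_fix` in `SuzukiSubFinal.lean`). -/
theorem sylCen_iff (hF : Fintype.card F = 2 ^ (2 * m + 1)) (hm : 1 ≤ m) (H : Subgroup (Sz F m)) :
    IsSylCen H ↔ ∃ x : Sz F m, H = cj (Zs hF) x := by
  have hfin : Finite (Sz F m) := finite_Sz hF hm
  constructor
  · rintro ⟨P, rfl⟩
    obtain ⟨x, hx⟩ := sylow_two_conj hF hm P
    exact ⟨x, bszb01_center hF hm (P : Subgroup (Sz F m)) x hx⟩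
  · rintro ⟨x, rfl⟩
    have hfact : Fact (Nat.Prime 2) := ⟨Nat.prime_two⟩
    refine ⟨x • QsSylow hF hm, ?_⟩
    have hP : ∀ g : Sz F m, g ∈ ((x • QsSylow hF hm : Sylow 2 (Sz F m)) : Subgroup (Sz F m)) ↔
        x⁻¹ * g * x ∈ Qs hF := by
      intro g
      rw [Sylow.coe_subgroup_smul, Subgroup.mem_pointwise_smul_iff_inv_smul_mem, coe_QsSylow,
        MulAut.smul_def, ← map_inv, MulAut.conj_apply, inv_inv]
    exact (bszb01_center hF hm _ x hP).symm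

end Cfsg.Agent.Lib.helper3.BSZ
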