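import Mathlib
import Cfsg.Agent.Lib.helper17.STM.Defs
import Cfsg.Agent.Lib.helper17.STM.Defs2
import Cfsg.Agent.Lib.helper17.STM.Defs3
import Cfsg.Agent.Lib.Helper20.STCR1

/-!
# Project STM (designer helper17; S2099 family), row R3b `SysM.Rep.M_form`: the core (helper5); port of `Helper5.STBR3bcore`.
The STATEMENTS of R0b `TmL_form`, `TmS_form` are hypotheses; the R3 facts are proved here under own names
(`SysM.Rep.stmr3b_M_one`, `stmr3b_M_mul`, `stmr3b_M_x`, `stmr3b_M_xs`).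
-/

set_option autoImplicit false

namespace Cfsg.Agent.Lib.helper17.STM

open Matrix Cfsg.Agent.Lib.helper15.St2 Cfsg.Agent.Lib.helper3.STC Cfsg.Agent.Lib.Lead.STD

universe v w

namespace SysM

namespace Rep

variable {F : Type*} [Field F] {A B : F} [Fact (∀ r : F, r ^ 2 ≠ -B + A * r)] {ι : Type*} {G : Type*} [Group G] {S : SysM F A B ι G}
  {l : Type*} [Fintype l] [DecidableEq l] (R : S.Rep l)

theorem stmr3b_M_one : R.M 1 = 1 := by
  unfold Rep.M
  rw [map_one]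
  rfl

theorem stmr3b_M_mul (g g' : G) : R.M (g * g') = R.M g * R.M g' := by
  unfold Rep.M
  rw [map_mul]
  rfl

theorem stmr3b_M_x {a b : ι ⊕ ι} (hab : a ≠ b) (hab' : a ≠ ng b) (t : F) : R.M (S.x a b t) = TmL (Em R.e a) (Em R.e b) t :=
  R.hφ a b hab hab' t

theorem stmr3b_M_xs (a : ι ⊕ ι) (t : Kq F A B) : R.M (S.xs a t) = TmS (Em R.e a) t :=
  R.hφs a t

/-- core of R3b: `hL`, `hS` are the statements of R0b -/
theorem stmr3b_core
    (hL : ∀ {a b : l ⊕ l}, a ≠ b → a ≠ ng b → ∀ t : F, (TmL a b t)ᵀ * JM A B * TmL a b t = (JM A B : Matrix (Im l) (Im l) F))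
    (hS : ∀ (a : l ⊕ l) (t : Kq F A B), (TmS a t)ᵀ * JM A B * TmS a t = (JM A B : Matrix (Im l) (Im l) F))
    {Q : ι ⊕ ι → ι ⊕ ι → Prop} {Qs : ι ⊕ ι → Prop} :
    ∀ z ∈ S.XQ Q Qs, (R.M z)ᵀ * JM A B * R.M z = (JM A B : Matrix (Im l) (Im l) F) := by
  intro z hz
  unfold SysM.XQ at hz
  induction hz using Subgroup.closure_induction with
  | mem x hx =>
    rcases hx with ⟨a, b, t, hab, hab', -, rfl⟩ | ⟨a, t, -, rfl⟩
    · rw [R.stmr3b_M_x hab hab']
      apply hL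
      · exact fun e => hab (Em_injective R.e e)
      · rw [← Em_ng]
        exact fun e => hab' (Em_injective R.e e)
    · rw [R.stmr3b_M_xs]
      exact hS _ _
  | one =>
    rw [R.stmr3b_M_one, Matrix.transpose_one, Matrix.one_mul, Matrix.mul_one]
  | mul x y _ _ hx hy =>
    rw [R.stmr3b_M_mul, Matrix.transpose_mul]
    calc (R.M y)ᵀ * (R.M x)ᵀ * JM A B * (R.M x * R.M y)
        = (R.M y)ᵀ * ((R.M x)ᵀ * JM A B * R.M x) * R.M y := by simp only [Matrix.mul_assoc]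
      _ = JM A B := by rw [hx, hy]
  | inv x _ hx =>
    have h1 : R.M x * R.M x⁻¹ = 1 := by
      rw [← R.stmr3b_M_mul, mul_inv_cancel, R.stmr3b_M_one]
    calc (R.M x⁻¹)ᵀ * JM A B * R.M x⁻¹
        = (R.M x⁻¹)ᵀ * ((R.M x)ᵀ * JM A B * R.M x) * R.M x⁻¹ := by rw [hx]
      _ = (R.M x * R.M x⁻¹)ᵀ * JM A B * (R.M x * R.M x⁻¹) := by
          rw [Matrix.transpose_mul]; simp only [Matrix.mul_assoc]
      _ = JM A B := by rw [h1, Matrix.transpose_one, Matrix.one_mul, Matrix.mul_one]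

end Rep

end SysM

end Cfsg.Agent.Lib.helper17.STM
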