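import Mathlib
import Cfsg.Agent.Lib.helper17.STM.Defs
import Cfsg.Agent.Lib.helper17.STM.Defs2
import Cfsg.Agent.Lib.helper17.STM.Defs3
import Cfsg.Agent.Lib.helper4.STMX1
import Cfsg.Agent.Lib.Helper21.STMW9
import Cfsg.Agent.Lib.Helper5.STMR3bcore

/-!
# Project STM (designer helper17; S2099 family), row J6 `SysM.Rep.A_fix_eq_one`: the core (helper5).  Port of `Helper5.STBJ6`.
Hypotheses: `hmon` = W13 `isMon_ws o 1 one_ne_zero` (any `d`, `c0`, `ε`), `hws` = R5s `M_ws_nfst R o 1 one_ne_zero`.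
X1 (`helper4.STMX1`), W9 (`Helper21.STMW9`) are on main; `Ag o ≤ Yg (ng o)` (N1c) and the R3 facts are proved here under own names.
-/

set_option autoImplicit false
set_option linter.unusedSectionVars false

namespace Cfsg.Agent.Lib.helper17.STM

open Matrix Cfsg.Agent.Lib.helper15.St2 Cfsg.Agent.Lib.helper3.STC Cfsg.Agent.Lib.Lead.STD

universe v w

namespace SysM

section A
variable {F : Type*} [Field F] {A B : F} [Fact (∀ r : F, r ^ 2 ≠ -B + A * r)] {ι : Type*} {G : Type*} [Group G] (S : SysM F A B ι G) (o : ι ⊕ ι)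

theorem stmj6_ng_ng (a : ι ⊕ ι) : ng (ng a) = a := by cases a <;> rfl

/-- half of N1c: `Ag o ≤ Yg (ng o)` -/
theorem stmj6_Ag_le_Yg_ng : S.Ag o ≤ S.Yg (ng o) := by
  unfold Ag Yg
  refine S.XQ_le ?_ ?_
  · rintro a b t _ _ rfl
    exact S.x_mem_XQ' (Q := fun _ b => b = ng a) (Qs := fun c => c = ng (ng a)) rfl t
  · rintro a t rfl
    exact S.xs_mem_XQ (Q := fun _ b => b = ng a) (Qs := fun c => c = ng (ng a)) (stmj6_ng_ng a).symm t

/-- conjugation by `ws o 1` maps `Ag o` into `Yg o` (`hmon`: W13) -/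
theorem stmj6_cj_mem [DecidableEq ι] {d : ι ⊕ ι → F} {c0 : Kq F A B} {ε : Bool} (hmon : S.IsMon (S.ws o 1) (swb o) d c0 ε) :
    ∀ a ∈ S.Ag o, cj (S.ws o 1) a ∈ S.Yg o := by
  intro a ha
  have ha' := S.stmj6_Ag_le_Yg_ng o ha
  refine SysM.IsMon.cj_mem_XQ S hmon (Q := fun _ b => b = ng o) (Qs := fun a => a = ng (ng o)) (Q' := fun _ b => b = o)
    (Qs' := fun a => a = ng o) ?_ ?_ a ha'
  · intro k l _ _ hl
    show swb o l = o
    rw [hl]
    exact swb_ng_self o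
  · intro k hk
    show swb o k = ng o
    rw [hk, stmj6_ng_ng]
    exact swb_self o

end A

namespace Rep

variable {F : Type*} [Field F] {A B : F} [Fact (∀ r : F, r ^ 2 ≠ -B + A * r)] {ι : Type*} {G : Type*} [Group G] {S : SysM F A B ι G}
  {l : Type*} [Fintype l] [DecidableEq l] (R : S.Rep l)

/-- own-name copy of R3 `M_inv_mulVec` -/
theorem stmj6_M_inv_mulVec {g : G} {v v' : Im l → F} (h : R.M g *ᵥ v = v') : R.M g⁻¹ *ᵥ v' = v := by
  rw [← h, Matrix.mulVec_mulVec, ← R.stmr3b_M_mul, inv_mul_cancel, R.stmr3b_M_one, Matrix.one_mulVec]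

variable (o : ι ⊕ ι)

/-- core of J6 `A_fix_eq_one`: `hmon` = W13 at `(o, 1)`, `hws` = R5s `M_ws_nfst` at `(o, 1)` -/
theorem stmj6_core [DecidableEq ι] {d : ι ⊕ ι → F} {c0 : Kq F A B} {ε : Bool} (hmon : S.IsMon (S.ws o 1) (swb o) d c0 ε)
    (hws : R.M (S.ws o 1) *ᵥ evm (Ebm R.e (ng o)) = (-(nm (1 : Kq F A B))) • evm (Ebm R.e o))
    (hYfix : ∀ y ∈ S.Yg o, R.M y *ᵥ evm (Ebm R.e o) = evm (Ebm R.e o) → y = 1) {a : G} (ha : a ∈ S.Ag o)
    (h : R.M a *ᵥ evm (Ebm R.e (ng o)) = evm (Ebm R.e (ng o))) : a = 1 := by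
  have hw : R.M (S.ws o 1) *ᵥ evm (Ebm R.e (ng o)) = (-1 : F) • evm (Ebm R.e o) := by
    rw [hws, nm_one]
  have hw' : R.M (S.ws o 1) *ᵥ ((-1 : F) • evm (Ebm R.e (ng o))) = evm (Ebm R.e o) := by
    rw [Matrix.mulVec_smul, hw, smul_smul]
    simp
  have hwi : R.M (S.ws o 1)⁻¹ *ᵥ evm (Ebm R.e o) = (-1 : F) • evm (Ebm R.e (ng o)) := R.stmj6_M_inv_mulVec hw'
  have hfix : R.M (cj (S.ws o 1) a) *ᵥ evm (Ebm R.e o) = evm (Ebm R.e o) := by
    unfold cj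
    rw [R.stmr3b_M_mul, R.stmr3b_M_mul, ← Matrix.mulVec_mulVec, ← Matrix.mulVec_mulVec, hwi, Matrix.mulVec_smul, h, hw']
  have h1 := hYfix _ (S.stmj6_cj_mem o hmon a ha) hfix
  unfold cj at h1
  have : a = (S.ws o 1)⁻¹ * (S.ws o 1 * a * (S.ws o 1)⁻¹) * S.ws o 1 := by group
  rw [this, h1]
  group

end Rep

end SysM

end Cfsg.Agent.Lib.helper17.STM
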