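import Mathlib
import Cfsg.Agent.Lib.helper17.STM.Defs
import Cfsg.Agent.Lib.helper17.STM.Defs2
import Cfsg.Agent.Lib.helper17.STM.Defs3
import Cfsg.Agent.Lib.Helper5.STMN4s
import Cfsg.Agent.Lib.Helper5.STMR3bcore

/-!
# Project STM (designer helper17; S2099 family), row J2b `SysM.Rep.Y_fix_eq_one_one`, VERBATIM (helper5).  Port of `Helper5.STBJ2b`.
On N4s (`Helper5.STMN4s`: `Yg_decomp_s`) and own-name R3 facts (`Helper5.STMR3bcore`); the two entries of `TmS` that are needed are computed directly (no R0 / R0c).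
-/

set_option autoImplicit false
set_option linter.unusedSectionVars false

namespace Cfsg.Agent.Lib.helper17.STM

open Matrix Cfsg.Agent.Lib.helper15.St2 Cfsg.Agent.Lib.helper3.STC Cfsg.Agent.Lib.Lead.STD

universe v w

section M
variable {l : Type*} [Fintype l] [DecidableEq l] {F : Type*} [Field F] {A B : F}

/-- the `iz1`-coordinate of `TmS a u *ᵥ e_{-a}` is `u.re` -/
theorem stmj2b_TmS_iz1 (a : l ⊕ l) (u : Kq F A B) : (TmS a u *ᵥ evm (Sum.inl (ng a))) iz1 = u.re := by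
  unfold evm
  rw [Matrix.mulVec_single_one]
  simp [TmS]

/-- the `iz2`-coordinate of `TmS a u *ᵥ e_{-a}` is `u.im` -/
theorem stmj2b_TmS_iz2 (a : l ⊕ l) (u : Kq F A B) : (TmS a u *ᵥ evm (Sum.inl (ng a))) iz2 = u.im := by
  unfold evm
  rw [Matrix.mulVec_single_one]
  simp [TmS]

end M

namespace SysM

section A
variable {F : Type*} [Field F] {A B : F} [Fact (∀ r : F, r ^ 2 ≠ -B + A * r)] {ι : Type*} {G : Type*} [Group G] (S : SysM F A B ι G) (o : ι ⊕ ι)

theorem stmj2b_eq_or (hι : ∀ i : ι, i = ab o) (a b : ι ⊕ ι) : a = b ∨ a = ng b := by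
  have ha := hι (ab a)
  have hb := hι (ab b)
  cases a <;> cases b <;> simp only [ab] at ha hb <;> simp [ng, ha, hb]

/-- rank one: there are no long root elements, `Ys o` is trivial -/
theorem stmj2b_Ys_eq_bot (hι : ∀ i : ι, i = ab o) : S.Ys o = ⊥ := by
  unfold Ys XQ
  rw [Subgroup.closure_eq_bot_iff]
  rintro _ (⟨a, b, t, hab, hab', -, rfl⟩ | ⟨a, t, hF, rfl⟩)
  · rcases stmj2b_eq_or o hι a b with e | e
    · exact absurd e hab
    · exact absurd e hab'
  · exact hF.elim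

end A

namespace Rep

variable {F : Type*} [Field F] {A B : F} [Fact (∀ r : F, r ^ 2 ≠ -B + A * r)] {ι : Type*} {G : Type*} [Group G] {S : SysM F A B ι G}
  {l : Type*} [Fintype l] [DecidableEq l] (R : S.Rep l)

variable (o : ι ⊕ ι)

/-- J2b [S-M]  rank one: an element of `Yg o` fixing `e_o` is trivial. -/
theorem Y_fix_eq_one_one (hι : ∀ i : ι, i = ab o) {y : G} (hy : y ∈ S.Yg o) (h : R.M y *ᵥ evm (Ebm R.e o) = evm (Ebm R.e o)) : y = 1 := by
  obtain ⟨u, y', hy', rfl⟩ := S.Yg_decomp_s o y hy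
  rw [S.stmj2b_Ys_eq_bot o hι, Subgroup.mem_bot] at hy'
  subst hy'
  rw [mul_one] at h ⊢
  rw [R.stmr3b_M_xs] at h
  have hEm : Em R.e (ng o) = ng (Em R.e o) := by cases o <;> rfl
  have hnn : Em R.e o = ng (ng (Em R.e o)) := by cases (Em R.e o) <;> rfl
  have hE : Ebm R.e o = Sum.inl (ng (ng (Em R.e o))) := by
    show (Sum.inl (Em R.e o) : Im l) = _
    rw [← hnn]
  rw [hEm, hE] at h
  have h1 := congrFun h iz1
  have h2 := congrFun h iz2
  rw [stmj2b_TmS_iz1] at h1
  rw [stmj2b_TmS_iz2] at h2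
  have e1 : u.re = 0 := by rw [h1]; simp [evm]
  have e2 : u.im = 0 := by rw [h2]; simp [evm]
  have hu : u = 0 := by
    ext
    · exact e1
    · exact e2
  rw [hu]
  exact S.stmn4s_xs_zero _

end Rep

end SysM

end Cfsg.Agent.Lib.helper17.STM
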