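import Mathlib
import Cfsg.Prelude.Def_ChevStructure
import Cfsg.Prelude.Def_ChevG2
import Cfsg.Agent.Lib.helper14.G2T.Basic
import Cfsg.Agent.Lib.helper14.G2T.Long
import Cfsg.Agent.Lib.helper8.ChevFix1
import Cfsg.Agent.Lib.helper8.ChevSimple
import Cfsg.Agent.Lib.helper8.ChevTabHG2
import Cfsg.Agent.Lib.helper8.ChevTabSimRG2

/-!
# Project G2T, row B1 (`hh_diag`), verbatim vs `helper14/G2T/Skel.lean.txt`.
-/

set_option autoImplicit false

namespace Cfsg.Agent.Lib.helper14.G2T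

open Cfsg.Lie Cfsg.Lie.ChevalleyDatum Cfsg.Agent.Lib.helper8 Matrix

universe u v

section B

variable {E : Type u} [Field E]

/-- `h_p(c)` for the two fundamental roots of `G₂` (the `G₂` case of the landed S1033) -/
theorem g2tb1_hMat (i : ℕ) (hi : i < chevG2.rank) (c : E) (hc : c ≠ 0) :
    chevG2.hMat E (chevG2.simple i) c =
      Matrix.diagonal (Sum.elim (fun _ => (1 : E))
        (fun s : Fin chevG2.nroots => c ^ (chevG2.cartan i s))) :=
  h8hMat_simple_refl _ h8hDiagChk_G2 h8simpleChkRefl_G2 i hi c hc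

/-- B1 [S]. `h_a(c₀) h_b(c₁)` is diagonal with the character `chi`: `Cfsg.Agent.S1033.result` for `i = 0, 1`
(`chevG2.simple 0 = 7`, `chevG2.simple 1 = 6` by `rfl` / `decide`), `Matrix.diagonal_mul_diagonal`. -/
theorem hh_diag (c0 c1 : E) (hc0 : c0 ≠ 0) (hc1 : c1 ≠ 0) :
    hh c0 c1 = Matrix.diagonal (Sum.elim (fun _ => (1 : E)) (fun s : Fin chevG2.nroots => chi c0 c1 s.val)) := by
  have h0 : chevG2.simple 0 = 7 := by decide
  have h1 : chevG2.simple 1 = 6 := by decide
  have e0 := g2tb1_hMat (E := E) 0 (by decide) c0 hc0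
  have e1 := g2tb1_hMat (E := E) 1 (by decide) c1 hc1
  rw [h0] at e0
  rw [h1] at e1
  unfold hh
  rw [e0, e1, Matrix.diagonal_mul_diagonal]
  congr 1
  funext x
  rcases x with a | s
  · simp
  · simp [chi]

end B

end Cfsg.Agent.Lib.helper14.G2T
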