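import Mathlib
import Cfsg.Agent.Lib.helper23.P4S.Defs

set_option autoImplicit false

/-!
# Project P4S, shared lemmas for rows U4A / U4B: the Frobenius on `l + l⁻¹`.
-/

namespace Cfsg.Agent.Lib.helper23.P4S

variable {K : Type*} [Field K]

/-- `(l + l⁻¹)^(p^k) = l^(p^k) + (l^(p^k))⁻¹` in characteristic `p` -/
theorem p4su4_frob_inv (p : ℕ) [Fact p.Prime] [CharP K p] (k : ℕ) (l : K) :
    (l + l⁻¹) ^ p ^ k = l ^ p ^ k + (l ^ p ^ k)⁻¹ := by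
  rw [add_pow_char_pow, inv_pow]

/-- `a + a⁻¹ = b + b⁻¹` forces `a = b` or `a = b⁻¹` -/
theorem p4su4_eq_or_inv (a b : K) (ha : a ≠ 0) (hb : b ≠ 0) (h : a + a⁻¹ = b + b⁻¹) : a = b ∨ a = b⁻¹ := by
  have h1 : (a - b) * (a * b - 1) = 0 := by
    have h2 : (a + a⁻¹) * (a * b) = (b + b⁻¹) * (a * b) := by rw [h]
    have h3 : (a + a⁻¹) * (a * b) = a * a * b + b := by field_simp
    have h4 : (b + b⁻¹) * (a * b) = a * b * b + a := by field_simp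
    rw [h3, h4] at h2
    linear_combination h2
  rcases mul_eq_zero.mp h1 with h2 | h2
  · left; exact sub_eq_zero.mp h2
  · right
    have : a * b = 1 := sub_eq_zero.mp h2
    exact eq_inv_of_mul_eq_one_left this

/-- `±1` is fixed by the Frobenius -/
theorem p4su4_pm_one_pow (p : ℕ) [Fact p.Prime] [CharP K p] (k : ℕ) (c : K) (hc : c = 1 ∨ c = -1) :
    c ^ p ^ k = c := by
  rcases hc with rfl | rfl
  · exact one_pow _
  · exact neg_one_pow_char_pow K p k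

/-- `l^2 = 1` implies `l = ±1` -/
theorem p4su4_pm_one_of_inv (l : K) (hl : l ≠ 0) (h : l = l⁻¹) : l = 1 ∨ l = -1 := by
  apply mul_self_eq_one_iff.mp
  nth_rewrite 2 [h]
  exact mul_inv_cancel₀ hl

/-- the inverse of `±1` -/
theorem p4su4_pm_one_inv (c : K) (hc : c = 1 ∨ c = -1) : c⁻¹ = c := by
  rcases hc with rfl | rfl
  · exact inv_one
  · rw [inv_neg, inv_one]

/-- `d = gcd 2 (q - 1)` divides `q² + 1`, `q² - 1`, `q + 1`, `q - 1`, and is `1` or `2` -/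
theorem p4su4_gcd_facts (q : ℕ) (hq : 2 ≤ q) :
    (Nat.gcd 2 (q - 1) = 1 ∨ Nat.gcd 2 (q - 1) = 2) ∧ Nat.gcd 2 (q - 1) ∣ q ^ 2 + 1 ∧
      Nat.gcd 2 (q - 1) ∣ q ^ 2 - 1 ∧ Nat.gcd 2 (q - 1) ∣ q + 1 ∧ Nat.gcd 2 (q - 1) ∣ q - 1 := by
  have h2 : Nat.gcd 2 (q - 1) ∣ 2 := Nat.gcd_dvd_left 2 (q - 1)
  have h1 : Nat.gcd 2 (q - 1) ∣ q - 1 := Nat.gcd_dvd_right 2 (q - 1)
  have hcases : Nat.gcd 2 (q - 1) = 1 ∨ Nat.gcd 2 (q - 1) = 2 := by
    have := (Nat.dvd_prime Nat.prime_two).mp h2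
    exact this
  have e1 : q ^ 2 - 1 = (q - 1) * (q + 1) := by
    obtain ⟨r, rfl⟩ : ∃ r, q = r + 1 := ⟨q - 1, by omega⟩
    simp only [Nat.add_sub_cancel]
    have : (r + 1) ^ 2 = r * (r + 1 + 1) + 1 := by ring
    rw [this, Nat.add_sub_cancel]
  have e2 : q ^ 2 + 1 = (q - 1) * (q + 1) + 2 := by
    have : 1 ≤ q ^ 2 := Nat.one_le_pow _ _ (by omega)
    rw [← e1]; omega
  have e3 : q + 1 = (q - 1) + 2 := by omega
  refine ⟨hcases, ?_, ?_, ?_, h1⟩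
  · rw [e2]; exact Dvd.dvd.add (Dvd.dvd.mul_right h1 _) h2
  · rw [e1]; exact Dvd.dvd.mul_right h1 _
  · rw [e3]; exact Dvd.dvd.add h1 h2

end Cfsg.Agent.Lib.helper23.P4S
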