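import Mathlib
import Cfsg.Agent.Lib.helper23.P4S.Defs
import Cfsg.Agent.Lib.Helper5.P4SU4core

set_option autoImplicit false

/-!
# Project P4S, row U4A (`data_swap`): the four eigenvalues `l₁^(±1), l₂^(±1)` when the Frobenius swaps `l₁ + l₁⁻¹` and `l₂ + l₂⁻¹`.
-/

namespace Cfsg.Agent.Lib.helper23.P4S

open Matrix Polynomial

variable {K : Type*} [Field K]

/-- the power statement of U4A: `l₁^M = 1`, `M = N d`, `d ∈ {1, 2}`, `l₂ = l₁^(±q)` -/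
theorem p4su4a_pow (p : ℕ) [Fact p.Prime] [CharP K p] (f : ℕ) (l1 l2 : K)
    (h2 : l2 = l1 ^ p ^ f ∨ l2 = (l1 ^ p ^ f)⁻¹) (N d : ℕ) (hd : d = 1 ∨ d = 2) (hM : l1 ^ (N * d) = 1) :
    ∃ c : K, (c = 1 ∨ c = -1) ∧ l1 ^ N = c ∧ l1⁻¹ ^ N = c ∧ l2 ^ N = c ∧ l2⁻¹ ^ N = c := by
  have hc : l1 ^ N = 1 ∨ l1 ^ N = -1 := by
    rcases hd with rfl | rfl
    · left; simpa using hM
    · apply mul_self_eq_one_iff.mp
      rw [← pow_two, ← pow_mul]; exact hM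
  have hcinv := p4su4_pm_one_inv (l1 ^ N) hc
  have hcq := p4su4_pm_one_pow p f (l1 ^ N) hc
  refine ⟨l1 ^ N, hc, rfl, ?_, ?_, ?_⟩
  · rw [inv_pow, hcinv]
  · rcases h2 with rfl | rfl
    · rw [← pow_mul, mul_comm, pow_mul, hcq]
    · rw [inv_pow, ← pow_mul, mul_comm, pow_mul, hcq, hcinv]
  · rcases h2 with rfl | rfl
    · rw [inv_pow, ← pow_mul, mul_comm, pow_mul, hcq, hcinv]
    · rw [inv_inv, ← pow_mul, mul_comm, pow_mul, hcq]

/-- U4A -/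
theorem data_swap [DecidableEq K] (p : ℕ) [Fact p.Prime] [CharP K p] (f : ℕ) (hf : 1 ≤ f)
    (l1 l2 : K) (hl1 : l1 ≠ 0) (hl2 : l2 ≠ 0) (hne : l1 + l1⁻¹ ≠ l2 + l2⁻¹)
    (h12 : (l1 + l1⁻¹) ^ p ^ f = l2 + l2⁻¹) (h21 : (l2 + l2⁻¹) ^ p ^ f = l1 + l1⁻¹) :
    ∃ (N : ℕ) (c : K), 0 < N ∧ (c = 1 ∨ c = -1) ∧
      (∀ ν ∈ ({l1, l1⁻¹, l2, l2⁻¹} : Multiset K), ν ^ N = c) ∧
      ({l1, l1⁻¹, l2, l2⁻¹} : Multiset K).Nodup ∧
      (N = ((p ^ f) ^ 2 + 1) / Nat.gcd 2 (p ^ f - 1) ∨ N = ((p ^ f) ^ 2 - 1) / Nat.gcd 2 (p ^ f - 1)) := by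
  have hp2 : 2 ≤ p := (Fact.out : p.Prime).two_le
  have hq2 : 2 ≤ p ^ f := by
    calc 2 ≤ p := hp2
      _ = p ^ 1 := (pow_one p).symm
      _ ≤ p ^ f := Nat.pow_le_pow_right (by omega) hf
  obtain ⟨hd, hd1, hd2, -, -⟩ := p4su4_gcd_facts (p ^ f) hq2
  -- the Frobenius on l1, l2
  have e1 : l1 ^ p ^ f + (l1 ^ p ^ f)⁻¹ = l2 + l2⁻¹ := by rw [← p4su4_frob_inv]; exact h12
  have e2 : l2 ^ p ^ f + (l2 ^ p ^ f)⁻¹ = l1 + l1⁻¹ := by rw [← p4su4_frob_inv]; exact h21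
  have a1 := p4su4_eq_or_inv (l1 ^ p ^ f) l2 (pow_ne_zero _ hl1) hl2 e1
  have a2 := p4su4_eq_or_inv (l2 ^ p ^ f) l1 (pow_ne_zero _ hl2) hl1 e2
  have h2 : l2 = l1 ^ p ^ f ∨ l2 = (l1 ^ p ^ f)⁻¹ := by
    rcases a1 with h | h
    · left; exact h.symm
    · right; rw [h, inv_inv]
  have hsq : l1 ^ (p ^ f) ^ 2 = l1 ∨ l1 ^ (p ^ f) ^ 2 = l1⁻¹ := by
    rw [pow_two, pow_mul]
    rcases a1 with h | h <;> rcases a2 with h' | h'
    · left; rw [h, h']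
    · right; rw [h, h']
    · right; rw [h, inv_pow, h']
    · left; rw [h, inv_pow, h', inv_inv]
  -- Nodup
  have hfix : ∀ l : K, l ≠ 0 → l = l⁻¹ → (l + l⁻¹) ^ p ^ f = l + l⁻¹ := by
    intro l hl h
    have hpm := p4su4_pm_one_of_inv l hl h
    rw [p4su4_frob_inv, p4su4_pm_one_pow p f l hpm]
  have n1 : l1 ≠ l1⁻¹ := by
    intro h
    apply hne
    rw [← h12, hfix l1 hl1 h]
  have n2 : l2 ≠ l2⁻¹ := by
    intro h
    apply hne
    rw [← h21, hfix l2 hl2 h]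
  have n3 : l1 ≠ l2 := by
    intro h; apply hne; rw [h]
  have n4 : l1 ≠ l2⁻¹ := by
    intro h; apply hne; rw [h, inv_inv, add_comm]
  have n5 : l1⁻¹ ≠ l2 := by
    intro h; apply hne; rw [← h, inv_inv, add_comm]
  have n6 : l1⁻¹ ≠ l2⁻¹ := by
    intro h; apply n3; exact inv_injective h
  have hnodup : ({l1, l1⁻¹, l2, l2⁻¹} : Multiset K).Nodup := by
    simp only [Multiset.insert_eq_cons, Multiset.nodup_cons, Multiset.mem_cons, Multiset.mem_singleton,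
      Multiset.nodup_singleton, not_or]
    exact ⟨⟨n1, n3, n4⟩, ⟨n5, n6⟩, n2, trivial⟩
  have hq1 : 1 ≤ (p ^ f) ^ 2 := Nat.one_le_pow _ _ (by omega)
  have hq4 : 4 ≤ (p ^ f) ^ 2 := by nlinarith
  rcases hsq with hs | hs
  · -- l1^(q^2 - 1) = 1
    set N := ((p ^ f) ^ 2 - 1) / Nat.gcd 2 (p ^ f - 1) with hN
    have hNd : N * Nat.gcd 2 (p ^ f - 1) = (p ^ f) ^ 2 - 1 := Nat.div_mul_cancel hd2
    have hM : l1 ^ (N * Nat.gcd 2 (p ^ f - 1)) = 1 := by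
      rw [hNd]
      have : l1 ^ ((p ^ f) ^ 2 - 1) * l1 = l1 := by
        rw [← pow_succ, Nat.sub_add_cancel hq1]; exact hs
      exact mul_right_cancel₀ hl1 (by rw [this, one_mul])
    obtain ⟨c, hc, c1, c2, c3, c4⟩ := p4su4a_pow p f l1 l2 h2 N _ hd hM
    refine ⟨N, c, ?_, hc, ?_, hnodup, Or.inr rfl⟩
    · rcases hd with h | h
      · rw [hN, h, Nat.div_one]; omega
      · rw [hN, h]; omega
    · intro ν hν
      simp only [Multiset.insert_eq_cons, Multiset.mem_cons, Multiset.mem_singleton] at hν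
      rcases hν with rfl | rfl | rfl | rfl
      · exact c1
      · exact c2
      · exact c3
      · exact c4
  · -- l1^(q^2 + 1) = 1
    set N := ((p ^ f) ^ 2 + 1) / Nat.gcd 2 (p ^ f - 1) with hN
    have hNd : N * Nat.gcd 2 (p ^ f - 1) = (p ^ f) ^ 2 + 1 := Nat.div_mul_cancel hd1
    have hM : l1 ^ (N * Nat.gcd 2 (p ^ f - 1)) = 1 := by
      rw [hNd, pow_succ, hs]
      exact inv_mul_cancel₀ hl1
    obtain ⟨c, hc, c1, c2, c3, c4⟩ := p4su4a_pow p f l1 l2 h2 N _ hd hM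
    refine ⟨N, c, ?_, hc, ?_, hnodup, Or.inl rfl⟩
    · rcases hd with h | h
      · rw [hN, h, Nat.div_one]; omega
      · rw [hN, h]; omega
    · intro ν hν
      simp only [Multiset.insert_eq_cons, Multiset.mem_cons, Multiset.mem_singleton] at hν
      rcases hν with rfl | rfl | rfl | rfl
      · exact c1
      · exact c2
      · exact c3
      · exact c4

end Cfsg.Agent.Lib.helper23.P4S
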