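import Mathlib
import Cfsg.Agent.Lib.helper23.P4S.Defs
import Cfsg.Agent.Lib.Helper5.P4SU4core

set_option autoImplicit false

/-!
# Project P4S, row U4B (`data_fix`): the four eigenvalues `l₁^(±1), l₂^(±1)` when the Frobenius fixes `l₁ + l₁⁻¹` and `l₂ + l₂⁻¹`.
-/

namespace Cfsg.Agent.Lib.helper23.P4S

open Matrix Polynomial

variable {K : Type*} [Field K]

/-- three indicator functions sum to at most 2 unless all three hold -/
theorem p4su4b_ite3 (P Q R : Prop) [Decidable P] [Decidable Q] [Decidable R] (h : ¬ (P ∧ Q ∧ R)) :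
    (if P then 1 else 0) + (if Q then 1 else 0) + (if R then 1 else 0) ≤ 2 := by
  by_cases hP : P <;> by_cases hQ : Q <;> by_cases hR : R <;> simp [hP, hQ, hR] at h ⊢

/-- unless all four members are equal, every member of `{l₁, l₁⁻¹, l₂, l₂⁻¹}` has multiplicity at most 2 -/
theorem p4su4b_count_two [DecidableEq K] (l1 l2 : K) (h : ¬ (l1 = l1⁻¹ ∧ l2 = l1)) (ν : K) :
    ({l1, l1⁻¹, l2, l2⁻¹} : Multiset K).count ν ≤ 2 := by
  simp only [Multiset.insert_eq_cons, Multiset.count_cons, Multiset.count_singleton]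
  have t1 : ¬ (ν = l1 ∧ ν = l1⁻¹ ∧ ν = l2) := by
    rintro ⟨a, b, c⟩
    exact h ⟨a.symm.trans b, c.symm.trans a⟩
  have t2 : ¬ (ν = l1 ∧ ν = l1⁻¹ ∧ ν = l2⁻¹) := by
    rintro ⟨a, b, c⟩
    have e1 : l1 = l1⁻¹ := a.symm.trans b
    refine h ⟨e1, ?_⟩
    have : l2⁻¹ = l1⁻¹ := c.symm.trans b
    exact inv_injective this
  have t3 : ¬ (ν = l1 ∧ ν = l2 ∧ ν = l2⁻¹) := by
    rintro ⟨a, b, c⟩
    have e2 : l2 = l1 := b.symm.trans a
    refine h ⟨?_, e2⟩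
    rw [← e2]; exact b.symm.trans c
  have t4 : ¬ (ν = l1⁻¹ ∧ ν = l2 ∧ ν = l2⁻¹) := by
    rintro ⟨a, b, c⟩
    have e2 : l2 = l1 := inv_injective (c.symm.trans a)
    refine h ⟨?_, e2⟩
    rw [← e2]; exact b.symm.trans c
  have s1 := p4su4b_ite3 _ _ _ t1
  have s2 := p4su4b_ite3 _ _ _ t2
  have s3 := p4su4b_ite3 _ _ _ t3
  have s4 := p4su4b_ite3 _ _ _ t4
  omega

/-- the mixed case: `l₁^q = l₁`, `l₂^q = l₂⁻¹ ≠ l₂` -/
theorem p4su4b_mixed [DecidableEq K] (q : ℕ) (hq2 : 2 ≤ q) (l1 l2 : K) (hl1 : l1 ≠ 0) (hl2 : l2 ≠ 0)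
    (b1 : l1 ^ q = l1) (b2 : l2 ^ q = l2⁻¹) (n2 : l2 ≠ l2⁻¹) :
    0 < (q ^ 2 - 1) / Nat.gcd 2 (q - 1) ∧
      l1 ^ ((q ^ 2 - 1) / Nat.gcd 2 (q - 1)) = 1 ∧ l2 ^ ((q ^ 2 - 1) / Nat.gcd 2 (q - 1)) = 1 ∧
      l1 ≠ l2 ∧ l1 ≠ l2⁻¹ := by
  obtain ⟨hd, -, hd2, hdp, hdm⟩ := p4su4_gcd_facts q hq2
  have e1 : q ^ 2 - 1 = (q - 1) * (q + 1) := by
    obtain ⟨r, rfl⟩ : ∃ r, q = r + 1 := ⟨q - 1, by omega⟩
    simp only [Nat.add_sub_cancel]
    have : (r + 1) ^ 2 = r * (r + 1 + 1) + 1 := by ring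
    rw [this, Nat.add_sub_cancel]
  have hq4 : 4 ≤ q ^ 2 := by nlinarith
  have hm : l1 ^ (q - 1) = 1 := by
    have : l1 ^ (q - 1) * l1 = l1 := by
      rw [← pow_succ, Nat.sub_add_cancel (by omega)]; exact b1
    exact mul_right_cancel₀ hl1 (by rw [this, one_mul])
  have hp : l2 ^ (q + 1) = 1 := by
    rw [pow_succ, b2]; exact inv_mul_cancel₀ hl2
  refine ⟨?_, ?_, ?_, ?_, ?_⟩
  · rcases hd with h | h
    · rw [h, Nat.div_one]; omega
    · rw [h]; omega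
  · have : (q ^ 2 - 1) / Nat.gcd 2 (q - 1) = (q - 1) * ((q + 1) / Nat.gcd 2 (q - 1)) := by
      rw [e1, Nat.mul_div_assoc _ hdp]
    rw [this, pow_mul, hm, one_pow]
  · have : (q ^ 2 - 1) / Nat.gcd 2 (q - 1) = (q + 1) * ((q - 1) / Nat.gcd 2 (q - 1)) := by
      rw [e1, mul_comm, Nat.mul_div_assoc _ hdm]
    rw [this, pow_mul, hp, one_pow]
  · intro h
    apply n2
    rw [← b2, ← h, b1]
  · intro h
    apply n2
    have h' : l2 = l1⁻¹ := by rw [h, inv_inv]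
    have : l2 ^ q = l2 := by rw [h', inv_pow, b1]
    rw [← b2, this]

/-- U4B -/
theorem data_fix [DecidableEq K] (p : ℕ) [Fact p.Prime] [CharP K p] (f : ℕ) (hf : 1 ≤ f)
    (l1 l2 : K) (hl1 : l1 ≠ 0) (hl2 : l2 ≠ 0)
    (h11 : (l1 + l1⁻¹) ^ p ^ f = l1 + l1⁻¹) (h22 : (l2 + l2⁻¹) ^ p ^ f = l2 + l2⁻¹) :
    ∃ (N e : ℕ) (c : K), 0 < N ∧ (c = 1 ∨ c = -1) ∧
      (∀ ν ∈ ({l1, l1⁻¹, l2, l2⁻¹} : Multiset K), ν ^ N = c) ∧
      (∀ ν : K, ({l1, l1⁻¹, l2, l2⁻¹} : Multiset K).count ν ≤ p ^ e) ∧ InT4 p (p ^ f) (N * p ^ e) := by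
  have hpp : p.Prime := Fact.out
  have hp2 : 2 ≤ p := hpp.two_le
  have hq2 : 2 ≤ p ^ f := by
    calc 2 ≤ p := hp2
      _ = p ^ 1 := (pow_one p).symm
      _ ≤ p ^ f := Nat.pow_le_pow_right (by omega) hf
  have e1 : l1 ^ p ^ f + (l1 ^ p ^ f)⁻¹ = l1 + l1⁻¹ := by rw [← p4su4_frob_inv]; exact h11
  have e2 : l2 ^ p ^ f + (l2 ^ p ^ f)⁻¹ = l2 + l2⁻¹ := by rw [← p4su4_frob_inv]; exact h22
  have b1 := p4su4_eq_or_inv (l1 ^ p ^ f) l1 (pow_ne_zero _ hl1) hl1 e1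
  have b2 := p4su4_eq_or_inv (l2 ^ p ^ f) l2 (pow_ne_zero _ hl2) hl2 e2
  have hcard : ∀ ν : K, ({l1, l1⁻¹, l2, l2⁻¹} : Multiset K).count ν ≤ 4 := by
    intro ν
    have := Multiset.count_le_card ν ({l1, l1⁻¹, l2, l2⁻¹} : Multiset K)
    simpa using this
  -- the case of four equal members in characteristic 2 or 3
  by_cases hall : (l1 = l1⁻¹ ∧ l2 = l1) ∧ (p = 2 ∨ p = 3)
  · obtain ⟨⟨ha, hb⟩, hp23⟩ := hall
    refine ⟨1, 2, l1, by norm_num, p4su4_pm_one_of_inv l1 hl1 ha, ?_, ?_, ?_⟩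
    · intro ν hν
      simp only [Multiset.insert_eq_cons, Multiset.mem_cons, Multiset.mem_singleton] at hν
      rw [pow_one]
      rcases hν with rfl | rfl | rfl | rfl
      · rfl
      · exact ha.symm
      · exact hb
      · rw [hb]; exact ha.symm
    · intro ν
      have h4 : 4 ≤ p ^ 2 := by nlinarith
      exact le_trans (hcard ν) h4
    · unfold InT4
      rcases hp23 with rfl | rfl
      · right; right; right; right; left
        exact ⟨rfl, by norm_num⟩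
      · right; right; right; right; right
        exact ⟨rfl, by norm_num⟩
  -- otherwise every multiplicity is at most p
  have hcount : ∀ ν : K, ({l1, l1⁻¹, l2, l2⁻¹} : Multiset K).count ν ≤ p ^ 1 := by
    intro ν
    rw [pow_one]
    by_cases hall' : l1 = l1⁻¹ ∧ l2 = l1
    · have hp5 : 4 ≤ p := by
        by_contra hlt
        push Not at hlt
        have : p = 2 ∨ p = 3 := by
          interval_cases p
          · left; rfl
          · right; rfl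
        exact hall ⟨hall', this⟩
      exact le_trans (hcard ν) hp5
    · exact le_trans (p4su4b_count_two l1 l2 hall' ν) hp2
  -- powers
  have hminus : ∀ l : K, l ≠ 0 → l ^ p ^ f = l → l ^ (p ^ f - 1) = 1 := by
    intro l hl h
    have : l ^ (p ^ f - 1) * l = l := by
      rw [← pow_succ, Nat.sub_add_cancel (by omega)]; exact h
    exact mul_right_cancel₀ hl (by rw [this, one_mul])
  have hplus : ∀ l : K, l ≠ 0 → l ^ p ^ f = l⁻¹ → l ^ (p ^ f + 1) = 1 := by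
    intro l hl h
    rw [pow_succ, h]; exact inv_mul_cancel₀ hl
  have hmem : ∀ (N : ℕ), l1 ^ N = 1 → l2 ^ N = 1 →
      ∀ ν ∈ ({l1, l1⁻¹, l2, l2⁻¹} : Multiset K), ν ^ N = 1 := by
    intro N h1 h2 ν hν
    simp only [Multiset.insert_eq_cons, Multiset.mem_cons, Multiset.mem_singleton] at hν
    rcases hν with rfl | rfl | rfl | rfl
    · exact h1
    · rw [inv_pow, h1, inv_one]
    · exact h2
    · rw [inv_pow, h2, inv_one]
  -- the pure cases
  have pure_minus : l1 ^ p ^ f = l1 → l2 ^ p ^ f = l2 →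
      ∃ (N e : ℕ) (c : K), 0 < N ∧ (c = 1 ∨ c = -1) ∧
      (∀ ν ∈ ({l1, l1⁻¹, l2, l2⁻¹} : Multiset K), ν ^ N = c) ∧
      (∀ ν : K, ({l1, l1⁻¹, l2, l2⁻¹} : Multiset K).count ν ≤ p ^ e) ∧ InT4 p (p ^ f) (N * p ^ e) := by
    intro c1 c2
    refine ⟨p ^ f - 1, 1, 1, by omega, Or.inl rfl, hmem _ (hminus l1 hl1 c1) (hminus l2 hl2 c2), hcount, ?_⟩
    unfold InT4
    right; right; right; left
    rw [pow_one, mul_comm]
  have pure_plus : l1 ^ p ^ f = l1⁻¹ → l2 ^ p ^ f = l2⁻¹ →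
      ∃ (N e : ℕ) (c : K), 0 < N ∧ (c = 1 ∨ c = -1) ∧
      (∀ ν ∈ ({l1, l1⁻¹, l2, l2⁻¹} : Multiset K), ν ^ N = c) ∧
      (∀ ν : K, ({l1, l1⁻¹, l2, l2⁻¹} : Multiset K).count ν ≤ p ^ e) ∧ InT4 p (p ^ f) (N * p ^ e) := by
    intro c1 c2
    refine ⟨p ^ f + 1, 1, 1, by omega, Or.inl rfl, hmem _ (hplus l1 hl1 c1) (hplus l2 hl2 c2), hcount, ?_⟩
    unfold InT4
    right; right; left
    rw [pow_one, mul_comm]
  rcases b1 with c1 | c1 <;> rcases b2 with c2 | c2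
  · exact pure_minus c1 c2
  · -- l1 of minus type, l2 of plus type
    by_cases n2 : l2 = l2⁻¹
    · exact pure_minus c1 (by rw [c2, ← n2])
    by_cases n1 : l1 = l1⁻¹
    · exact pure_plus (by rw [c1, ← n1]) c2
    obtain ⟨hN, p1, p2, d1, d2⟩ := p4su4b_mixed (p ^ f) hq2 l1 l2 hl1 hl2 c1 c2 n2
    refine ⟨((p ^ f) ^ 2 - 1) / Nat.gcd 2 (p ^ f - 1), 0, 1, hN, Or.inl rfl, hmem _ p1 p2, ?_, ?_⟩
    · have hnodup : ({l1, l1⁻¹, l2, l2⁻¹} : Multiset K).Nodup := by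
        simp only [Multiset.insert_eq_cons, Multiset.nodup_cons, Multiset.mem_cons, Multiset.mem_singleton,
          Multiset.nodup_singleton, not_or]
        refine ⟨⟨n1, d1, d2⟩, ⟨?_, ?_⟩, n2, trivial⟩
        · intro h; apply d2; rw [← h, inv_inv]
        · intro h; apply d1; exact inv_injective h
      intro ν
      rw [pow_zero]
      exact Multiset.nodup_iff_count_le_one.mp hnodup ν
    · unfold InT4
      right; left
      rw [pow_zero, mul_one]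
  · -- l1 of plus type, l2 of minus type
    by_cases n1 : l1 = l1⁻¹
    · exact pure_minus (by rw [c1, ← n1]) c2
    by_cases n2 : l2 = l2⁻¹
    · exact pure_plus c1 (by rw [c2, ← n2])
    obtain ⟨hN, p2, p1, d1, d2⟩ := p4su4b_mixed (p ^ f) hq2 l2 l1 hl2 hl1 c2 c1 n1
    refine ⟨((p ^ f) ^ 2 - 1) / Nat.gcd 2 (p ^ f - 1), 0, 1, hN, Or.inl rfl, hmem _ p1 p2, ?_, ?_⟩
    · have hnodup : ({l1, l1⁻¹, l2, l2⁻¹} : Multiset K).Nodup := by
        simp only [Multiset.insert_eq_cons, Multiset.nodup_cons, Multiset.mem_cons, Multiset.mem_singleton,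
          Multiset.nodup_singleton, not_or]
        refine ⟨⟨n1, ?_, ?_⟩, ⟨?_, ?_⟩, n2, trivial⟩
        · intro h; exact d1 h.symm
        · intro h; apply d2; rw [h, inv_inv]
        · intro h; exact d2 h.symm
        · intro h; apply d1; exact (inv_injective h).symm
      intro ν
      rw [pow_zero]
      exact Multiset.nodup_iff_count_le_one.mp hnodup ν
    · unfold InT4
      right; left
      rw [pow_zero, mul_one]
  · exact pure_plus c1 c2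

end Cfsg.Agent.Lib.helper23.P4S
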