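import Mathlib
import Cfsg.Agent.Lib.Helper19.S5954.Defs

set_option autoImplicit false
set_option linter.unusedVariables false
set_option linter.unusedSectionVars false

/-!
# S5954 row TQODD (helper5): `card F = q ^ 2`, `2 ≠ 0` gives `Odd q`.
-/

namespace Cfsg.Agent.Lib.Helper19.S5954

open Polynomial Module Cfsg.Agent.Lib.Helper13.S5955

variable {F : Type*} [Field F] {V : Type*} [AddCommGroup V] [Module F V]

/-- TQODD [S] (`q` even ⇒ `2 ∣ card F` ⇒ characteristic 2). -/
theorem t_q_odd [Fintype F] {q : ℕ} (hq : Fintype.card F = q ^ 2) (h2 : (2 : F) ≠ 0) : Odd q := by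
  by_contra hodd
  have hev : Even q := Nat.not_odd_iff_even.mp hodd
  obtain ⟨p, hp⟩ := CharP.exists F
  haveI := hp
  obtain ⟨n, hpp, hn⟩ := FiniteField.card F p
  have h2q : 2 ∣ q ^ 2 := dvd_pow hev.two_dvd (by norm_num)
  rw [← hq, hn] at h2q
  have h2p : 2 ∣ p := Nat.Prime.dvd_of_dvd_pow Nat.prime_two h2q
  have hp2 : 2 = p := (Nat.prime_dvd_prime_iff_eq Nat.prime_two hpp).mp h2p
  subst hp2
  apply h2
  have := CharP.cast_eq_zero F 2
  exact_mod_cast this

end Cfsg.Agent.Lib.Helper19.S5954
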