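import Mathlib
import Cfsg.Agent.Lib.Helper19.S5954.Defs
import Cfsg.Agent.Lib.Helper5.S5954TQODD

set_option autoImplicit false
set_option linter.unusedVariables false
set_option linter.unusedSectionVars false

/-!
# S5954 row TWOARITH (helper5): a non-square `z` of `N1` with `(-z)^(n/2) = 1` forces `q % 4 = 1` or `v₂(q+1) < v₂(n)`.
-/

namespace Cfsg.Agent.Lib.Helper19.S5954

open Polynomial Module Cfsg.Agent.Lib.Helper13.S5955

variable {F : Type*} [Field F] {V : Type*} [AddCommGroup V] [Module F V]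

/-- extra: a non-square of `N1` has `z ^ ((q + 1) / 2) = -1` -/
theorem s5954twoarith_nonsq [Fintype F] {q : ℕ} (hq : Fintype.card F = q ^ 2) (h2 : (2 : F) ≠ 0) (z : F)
    (hz : z ^ (q + 1) = 1) (hns : ∀ w : F, w ^ (q + 1) = 1 → w * w ≠ z) :
    z ^ ((q + 1) / 2) = -1 := by
  have hqodd : Odd q := t_q_odd hq h2
  have hchar : ringChar F ≠ 2 := by
    intro hc
    have hcp : CharP F 2 := by
      rw [← hc]; exact ringChar.charP F
    apply h2
    have := CharP.cast_eq_zero F 2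
    exact_mod_cast this
  have hz0 : z ≠ 0 := by
    rintro rfl
    rw [zero_pow (by omega)] at hz
    exact zero_ne_one hz
  have hsqr : IsSquare z := by
    rw [FiniteField.isSquare_iff hchar hz0, hq]
    have hdiv : q ^ 2 / 2 = (q + 1) * ((q - 1) / 2) := by
      obtain ⟨k, hk⟩ := hqodd
      subst hk
      have e1 : (2 * k + 1) ^ 2 = 2 * ((2 * k + 1 + 1) * k) + 1 := by ring
      have e2 : (2 * k + 1 - 1) / 2 = k := by omega
      rw [e1, e2]
      omega
    rw [hdiv, pow_mul, hz, one_pow]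
  obtain ⟨μ, hμ⟩ := hsqr
  have hM2 : q + 1 = 2 * ((q + 1) / 2) := by
    obtain ⟨k, hk⟩ := hqodd
    omega
  have hs : (μ ^ (q + 1)) * (μ ^ (q + 1)) = 1 := by
    rw [← mul_pow, ← hμ, hz]
  have hμm : μ ^ (q + 1) = -1 := by
    rcases mul_self_eq_one_iff.mp hs with h1 | h1
    · exact absurd hμ.symm (hns μ h1)
    · exact h1
  rw [hμ, ← pow_two, ← pow_mul, ← hM2, hμm]

/-- TWOARITH [M] (`N1` is cyclic of order `q + 1 = 2^a o`, `o` odd: `hns` ⇒ `z ^ ((q + 1) / 2) = -1`; if `q % 4 = 3` and `v₂ n ≤ a`, `n = 2^e n'`, `1 ≤ e ≤ a`: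
raise `(-z)^(n/2) = 1` to the power `2^(a-e) o`: `(-z)^(n' (q+1)/2) = 1`, `(q+1)/2` even, so `(z^((q+1)/2))^n' = (-1)^n' = -1 = 1`, contradiction). -/
theorem two_arith [Fintype F] {q : ℕ} (hq : Fintype.card F = q ^ 2) (h2 : (2 : F) ≠ 0) (z : F) (hz : z ^ (q + 1) = 1)
    (hns : ∀ w : F, w ^ (q + 1) = 1 → w * w ≠ z) (n : ℕ) (hn0 : 0 < n) (hn : Even n) (hdet : (-z) ^ (n / 2) = 1) :
    q % 4 = 1 ∨ padicValNat 2 (q + 1) < padicValNat 2 n := by
  have hqodd : Odd q := t_q_odd hq h2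
  by_contra hcon
  push Not at hcon
  obtain ⟨hq1, hle⟩ := hcon
  have hq3 : q % 4 = 3 := by
    obtain ⟨k, hk⟩ := hqodd
    omega
  have hzM : z ^ ((q + 1) / 2) = -1 := s5954twoarith_nonsq hq h2 z hz hns
  have hM2 : q + 1 = 2 * ((q + 1) / 2) := by omega
  have hMeven : Even ((q + 1) / 2) := by
    rw [Nat.even_iff]; omega
  have hnegz : (-z) ^ ((q + 1) / 2) = -1 := by rw [Even.neg_pow hMeven, hzM]
  have hn2 : n = 2 * (n / 2) := by
    obtain ⟨c, hc⟩ := hn
    omega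
  obtain ⟨s, N', hN'odd, hN⟩ := Nat.exists_eq_two_pow_mul_odd (n := n / 2) (by omega)
  have hs1 : 2 ^ (s + 1) ∣ n := by
    rw [hn2, hN, pow_succ]
    exact ⟨N', by ring⟩
  have hs2 : s + 1 ≤ padicValNat 2 n := (padicValNat_dvd_iff_le (by omega)).mp hs1
  have hs3 : 2 ^ (s + 1) ∣ q + 1 := (padicValNat_dvd_iff_le (by omega)).mpr (by omega)
  have hs4 : 2 ^ s ∣ (q + 1) / 2 := by
    rw [hM2, pow_succ, mul_comm] at hs3
    exact Nat.dvd_of_mul_dvd_mul_left two_pos hs3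
  obtain ⟨M'', hM''⟩ := hs4
  have h1 : (-z) ^ (((q + 1) / 2) * N') = 1 := by
    have e : ((q + 1) / 2) * N' = (n / 2) * M'' := by
      rw [hM'', hN]; ring
    rw [e, pow_mul, hdet, one_pow]
  rw [pow_mul, hnegz, Odd.neg_one_pow hN'odd] at h1
  apply h2
  linear_combination (-1 : F) * h1

end Cfsg.Agent.Lib.Helper19.S5954
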