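import Mathlib
import Cfsg.Agent.Lib.Helper19.S5954.Defs

set_option autoImplicit false
set_option linter.unusedVariables false
set_option linter.unusedSectionVars false

/-!
# S5954 row TZ (helper5): `x * x = z • 1` for an isometry gives `σ z * z = 1`.
-/

namespace Cfsg.Agent.Lib.Helper19.S5954

open Polynomial Module Cfsg.Agent.Lib.Helper13.S5955

variable {F : Type*} [Field F] {V : Type*} [AddCommGroup V] [Module F V]

/-- TZ [S] (`B (x (x u)) (x (x v)) = B u v`, `x (x u) = z • u`, so `(σ z * z - 1) * B u v = 0`; `h.nd` + `Nontrivial V` give `B u v ≠ 0`). -/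
theorem t_z_norm [Nontrivial V] {R : ℕ} {σ : F →+* F} {B : V →ₛₗ[σ] V →ₗ[F] F} {x : Module.End F V}
    (h : HCtx R σ B x) (z : F) (hsq : x * x = z • 1) : σ z * z = 1 := by
  obtain ⟨u, hu⟩ := exists_ne (0 : V)
  have hex : ∃ v, B u v ≠ 0 := by
    by_contra hcon
    push Not at hcon
    exact hu (h.nd u hcon)
  obtain ⟨v, hv⟩ := hex
  have hxx : ∀ w : V, x (x w) = z • w := by
    intro w
    have := congrArg (fun f : Module.End F V => f w) hsq
    simpa using this
  have h1 : B (x (x u)) (x (x v)) = B u v := by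
    rw [h.pres, h.pres]
  rw [hxx, hxx] at h1
  have h2 : B (z • u) (z • v) = σ z * (z * B u v) := by
    rw [map_smul, LinearMap.map_smulₛₗ₂, smul_eq_mul, smul_eq_mul, mul_left_comm]
  rw [h2, ← mul_assoc] at h1
  have h3 : (σ z * z - 1) * B u v = 0 := by
    rw [sub_mul, one_mul, h1, sub_self]
  rcases mul_eq_zero.mp h3 with h4 | h4
  · exact sub_eq_zero.mp h4
  · exact absurd h4 hv

end Cfsg.Agent.Lib.Helper19.S5954
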