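import Mathlib
import Cfsg.Agent.Lib.Helper18.SDM.Defs
import Cfsg.Agent.Lib.Helper18.SDM.Defs2
import Cfsg.Agent.Lib.Helper20.SDMB0
import Cfsg.Agent.Lib.Helper20.SDMB1
import Cfsg.Agent.Lib.Helper10.SDMB3
import Cfsg.Agent.Lib.Helper10.SDMR0c

/-!
# Project SDM (designer helper18), row R1b: `root_split_last` (helper5).
`B = (B ∩ s⁻¹ B s) U_k` for the last node `k` (`pc k = rv (pa k)`).
-/

set_option autoImplicit false
set_option linter.unusedSectionVars false
set_option linter.unusedVariables false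

namespace Cfsg.Agent.Lib.Helper18.QBN

open Cfsg.Agent.Lib.helper14.UBN QuadraticMap

universe u v

variable {F : Type u} [Field F] {W : Type v} [AddCommGroup W] [Module F W] {n : ℕ}

/-- `B` stabilises the orthogonal complements `V_j^⊥` (local copy of the statement of row B4) -/
theorem sdmr1b_perp (hn : Even n) {Q₀ : QuadraticForm F W} (b : GQ n Q₀) (hb : b ∈ BQ n Q₀) (j : ℕ)
    (hj : j ≤ n / 2) (v : QV F n W) (hv : ∀ i : Fin n, rk (rv i) < j → v.1 i = 0) :
    ∀ i : Fin n, rk (rv i) < j → (le b v).1 i = 0 := by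
  intro i hi
  have h1 : (le b v).1 i = polar (frQ n Q₀) (le b v) (xv W (rv i)) := by
    rw [polar_xv hn, rv_rv]
  have h2 : polar (frQ n Q₀) (le b v) (xv W (rv i)) =
      polar (frQ n Q₀) v (le b⁻¹ (xv W (rv i))) := by
    have h := le_polar b v (le b⁻¹ (xv W (rv i)))
    rw [le_inv_apply] at h
    exact h
  have h3 : le b⁻¹ (xv W (rv i)) ∈ Vfl F n W j := hb.2 j hj _ (xv_mem_Vfl _ _ hi)
  rw [h1, h2, frQ_polar hn, ((mem_Vfl j _).mp h3).1, polar_zero_right, add_zero]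
  apply Finset.sum_eq_zero
  intro l _
  by_cases hl : rk (rv l) < j
  · rw [hv l hl, zero_mul]
  · rw [((mem_Vfl j _).mp h3).2 (rv l) (not_lt.mp hl), mul_zero]

/-- the map induced by `b ∈ B` on `W` is onto -/
theorem sdmr1b_W_surj (hn : Even n) {Q₀ : QuadraticForm F W} (b : GQ n Q₀) (hb : b ∈ BQ n Q₀)
    (w : W) : ∃ w' : W, (le b (wv F n w')).2 = w := by
  have hb' : b⁻¹ ∈ BQ n Q₀ := (BQ n Q₀).inv_mem hb
  have h1 : ∀ i : Fin n, rk (rv i) < n / 2 → (le b⁻¹ (wv F n w)).1 i = 0 :=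
    sdmr1b_perp hn b⁻¹ hb' (n / 2) le_rfl (wv F n w) (fun i _ => rfl)
  refine ⟨(le b⁻¹ (wv F n w)).2, ?_⟩
  have hz : le b⁻¹ (wv F n w) - wv F n (le b⁻¹ (wv F n w)).2 ∈ Vfl F n W (n / 2) := by
    rw [mem_Vfl]
    refine ⟨by rw [Prod.snd_sub, wv_snd, sub_self], fun i hi => ?_⟩
    rw [Prod.fst_sub, Pi.sub_apply, wv_fst, sub_zero]
    apply h1
    have h2 := rk_add_rv i
    have hi' : n / 2 ≤ rk i := hi
    have hlt := rk_lt i
    have hm : n = n / 2 + n / 2 := by
      obtain ⟨m, hm⟩ := hn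
      omega
    omega
  have h2 : le b (le b⁻¹ (wv F n w) - wv F n (le b⁻¹ (wv F n w)).2) ∈ Vfl F n W (n / 2) :=
    hb.1 _ le_rfl _ hz
  have h3 := ((mem_Vfl _ _).mp h2).1
  rw [map_sub, le_inv_apply, Prod.snd_sub, wv_snd, sub_eq_zero] at h3
  exact h3.symm

theorem root_split_last (hn : Even n) (Q₀ : QuadraticForm F W) (hQ₀ : ∀ w : W, Q₀ w = 0 → w = 0)
    (k : Fin (n / 2)) (hk : pc k = rv (pa k)) (b : GQ n Q₀) (hb : b ∈ BQ n Q₀) :
    ∃ u ∈ Uk hn Q₀ k, sQ hn Q₀ k * (b * u⁻¹) * (sQ hn Q₀ k)⁻¹ ∈ BQ n Q₀ := by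
  classical
  -- numerics: `k` is the last node
  have hkm : k.val + 1 = n / 2 := by
    by_contra h
    have hlt : k.val + 1 < n / 2 := by
      have := k.2
      omega
    have h1 := pc_of_lt k hlt
    rw [hk] at h1
    have h2 := rk_add_rv (pa k)
    rw [rk_pa] at h2
    obtain ⟨m, hm⟩ := hn
    omega
  have hra : rk (pa k) = k.val := rk_pa k
  have hrra : rk (rv (pa k)) = n / 2 := by
    have h2 := rk_add_rv (pa k)
    obtain ⟨m, hm⟩ := hn
    omega
  have halt : rk (pa k) < rk (rv (pa k)) := by omega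
  -- the permutation
  have htau_a : tauS k (pa k) = rv (pa k) := by rw [tauS_pa, hk]
  have htau_ra : tauS k (rv (pa k)) = pa k := by rw [← hk, tauS_pc]
  have htau_ne : ∀ l : Fin n, l ≠ pa k → l ≠ rv (pa k) → tauS k l = l := by
    intro l h1 h2
    rw [tauS_apply, tauF_of_ne h1 (by rw [hk]; exact h2) h2 (by rw [hk, rv_rv]; exact h1)]
  -- the choice of `w0`
  obtain ⟨w0, hw0⟩ := sdmr1b_W_surj hn b hb (-(le b (xv W (rv (pa k)))).2)
  have hyk : wv F n w0 ∈ Yk F W k := ⟨fun h => absurd hk h, fun _ => ⟨w0, rfl⟩⟩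
  have hu : sgX hn Q₀ (pa k) (wv F n w0) (Yk_perp hn k hyk) ∈ Uk hn Q₀ k := ⟨wv F n w0, hyk, rfl⟩
  refine ⟨_, hu, ?_⟩
  have huB : sgX hn Q₀ (pa k) (wv F n w0) (Yk_perp hn k hyk) ∈ BQ n Q₀ :=
    sgX_mem_BQ hn Q₀ (pa k) (wv F n w0) _ halt (fun _ _ => rfl)
  have hneg : (-(wv F n w0 : QV F n W)).1 (rv (pa k)) = 0 := by
    rw [Prod.fst_neg, Pi.neg_apply, wv_fst, neg_zero]
  have hinv := sdmr0c_sgX_inv hn Q₀ (pa k) (wv F n w0) (Yk_perp hn k hyk) hneg
  have hb' : b * (sgX hn Q₀ (pa k) (wv F n w0) (Yk_perp hn k hyk))⁻¹ ∈ BQ n Q₀ :=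
    (BQ n Q₀).mul_mem hb ((BQ n Q₀).inv_mem huB)
  obtain ⟨b', hb'def⟩ : ∃ b' : GQ n Q₀,
      b' = b * (sgX hn Q₀ (pa k) (wv F n w0) (Yk_perp hn k hyk))⁻¹ := ⟨_, rfl⟩
  rw [← hb'def] at hb' ⊢
  -- the vector `v = b' x_{rv a}`
  have hq : frQ n Q₀ (-(wv F n w0 : QV F n W)) = Q₀ w0 := by
    rw [QuadraticMap.map_neg, frQ_wv]
  have hv_eq : le b' (xv W (rv (pa k))) =
      le b (xv W (rv (pa k))) + le b (wv F n w0) - Q₀ w0 • le b (xv W (pa k)) := by
    rw [hb'def, le_mul, hinv, sgX_apply, polar_comm, polar_neg_left, polar_xv hn, rv_rv,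
      wv_fst, neg_zero, zero_smul, add_zero, xv_fst, if_pos rfl, one_smul, hq,
      ← map_smul, ← map_add, ← map_sub]
    congr 1
    abel
  have hbxa : le b (xv W (pa k)) ∈ Vfl F n W (n / 2) := by
    have h := (isUpQ_iff b).mp hb.1 (pa k) (by omega)
    rw [hra, hkm] at h
    exact h
  have hv2 : (le b' (xv W (rv (pa k)))).2 = 0 := by
    rw [hv_eq, Prod.snd_sub, Prod.snd_add, hw0, Prod.smul_snd, ((mem_Vfl _ _).mp hbxa).1, smul_zero,
      sub_zero, add_neg_cancel]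
  have hv_hi : ∀ l : Fin n, n / 2 < rk l → (le b' (xv W (rv (pa k)))).1 l = 0 := by
    intro l hl
    have h := sdmr1b_perp hn b' hb' (n / 2 - 1) (Nat.sub_le _ _) (xv W (rv (pa k))) (by
      intro i hi
      rw [xv_fst, if_neg]
      intro e
      rw [e, rv_rv] at hi
      omega) l (by
      have h2 := rk_add_rv l
      obtain ⟨m, hm⟩ := hn
      omega)
    exact h
  -- `b' x_a`
  have hb'xa : le b' (xv W (pa k)) ∈ Vfl F n W (n / 2) := by
    have h := (isUpQ_iff b').mp hb'.1 (pa k) (by omega)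
    rw [hra, hkm] at h
    exact h
  -- `v.1 (rv a) ≠ 0`
  have hv_ra : (le b' (xv W (rv (pa k)))).1 (rv (pa k)) ≠ 0 := by
    intro h0
    have h1 : polar (frQ n Q₀) (le b' (xv W (rv (pa k)))) (le b' (xv W (pa k))) = 1 := by
      rw [le_polar, polar_xv hn, xv_fst, if_pos rfl]
    rw [frQ_polar hn, ((mem_Vfl _ _).mp hb'xa).1, polar_zero_right, add_zero] at h1
    rw [Finset.sum_eq_zero] at h1
    · exact zero_ne_one h1
    · intro l _
      by_cases hl : n / 2 < rk l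
      · rw [hv_hi l hl, zero_mul]
      · by_cases hl2 : l = rv (pa k)
        · rw [hl2, h0, zero_mul]
        · rw [((mem_Vfl _ _).mp hb'xa).2 (rv l) (by
            have h2 := rk_add_rv l
            have h3 : rk l ≠ n / 2 := fun e => hl2 (rk_injective (by rw [e, hrra]))
            obtain ⟨m, hm⟩ := hn
            omega), mul_zero]
  -- `v.1 a = 0` by singularity
  have hv_a : (le b' (xv W (rv (pa k)))).1 (pa k) = 0 := by
    have hQ : frQ n Q₀ (le b' (xv W (rv (pa k)))) = 0 := by rw [le_Q, frQ_xv Q₀ hn]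
    rw [frQ_apply, hv2, map_zero, add_zero, Finset.sum_eq_single (pa k)] at hQ
    · rcases mul_eq_zero.mp hQ with h | h
      · exact h
      · exact absurd h hv_ra
    · intro l hl hla
      rw [mem_half] at hl
      have h2 := rk_add_rv l
      have h3 : rk l ≠ k.val := fun e => hla (rk_injective (by rw [e, hra]))
      rw [hv_hi (rv l) (by
        obtain ⟨m, hm⟩ := hn
        omega), mul_zero]
    · intro h
      exfalso
      apply h
      rw [mem_half]
      exact halt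
  -- `s` fixes `V_{m-1}` pointwise
  have hs_fix : ∀ z : QV F n W, z ∈ Vfl F n W (n / 2 - 1) → le (sQ hn Q₀ k) z = z := by
    intro z hz
    rw [mem_Vfl] at hz
    apply Prod.ext
    · funext l
      show (le (permG hn Q₀ (tauS k) (RvC_tauS k)) z).1 l = z.1 l
      rw [permG_fst, tauS_symm]
      by_cases h1 : l = pa k
      · rw [h1, htau_a, hz.2 (pa k) (by omega), hz.2 (rv (pa k)) (by omega)]
      · by_cases h2 : l = rv (pa k)
        · rw [h2, htau_ra, hz.2 (pa k) (by omega), hz.2 (rv (pa k)) (by omega)]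
        · rw [htau_ne l h1 h2]
    · rfl
  -- the conclusion
  rw [mem_BQ_iff, isUpQ_iff]
  intro i hi
  rw [le_mul, le_mul, sQ_inv]
  by_cases hia : i = pa k
  · rw [hia]
    have h1 : le (sQ hn Q₀ k) (xv W (pa k)) = xv W (rv (pa k)) := by
      show le (permG hn Q₀ (tauS k) (RvC_tauS k)) (xv W (pa k)) = _
      rw [permG_xv, htau_a]
    rw [h1, mem_Vfl]
    constructor
    · show (le (permG hn Q₀ (tauS k) (RvC_tauS k)) _).2 = 0
      rw [permG_snd, hv2]
    · intro l hl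
      show (le (permG hn Q₀ (tauS k) (RvC_tauS k)) _).1 l = 0
      rw [permG_fst, tauS_symm]
      have hla : l ≠ pa k := by
        intro e
        rw [e] at hl
        omega
      by_cases h2 : l = rv (pa k)
      · rw [h2, htau_ra]
        exact hv_a
      · rw [htau_ne l hla h2]
        apply hv_hi
        have h3 : rk l ≠ n / 2 := fun e => h2 (rk_injective (by rw [e, hrra]))
        omega
  · have hik : rk i ≠ k.val := fun e => hia (rk_injective (by rw [e, hra]))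
    have hira : i ≠ rv (pa k) := by
      intro e
      rw [e] at hi
      omega
    have h1 : le (sQ hn Q₀ k) (xv W i) = xv W i := by
      show le (permG hn Q₀ (tauS k) (RvC_tauS k)) (xv W i) = _
      rw [permG_xv, htau_ne i hia hira]
    rw [h1]
    have h2 : le b' (xv W i) ∈ Vfl F n W (rk i + 1) := (isUpQ_iff b').mp hb'.1 i hi
    have h3 : le b' (xv W i) ∈ Vfl F n W (n / 2 - 1) := Vfl_mono (by omega) h2
    rw [hs_fix _ h3]
    exact h2

end Cfsg.Agent.Lib.Helper18.QBN
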