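import Mathlib
import Cfsg.Agent.Lib.helper17.SLP.Defs
import Cfsg.Agent.Lib.helper3.SP4.Defs
import Cfsg.Agent.Lib.Helper21.SP4C3
import Cfsg.Agent.Lib.Helper29.SP4C5
import Cfsg.Agent.Lib.Helper29.SP4C6
import Cfsg.Agent.Lib.helper17.SP4C7

/-!
# SP4 row C8 (helper5): `comm4` (verbatim from `helper3/SP4/Skel.lean.txt`).
-/

set_option autoImplicit false

namespace Cfsg.Agent.Lib.helper3.SP4

open Cfsg.Agent.Lib.helper17.SLP
open Polynomial

universe u v

section C

variable {F : Type u} [Field F] [Fintype F] {G : Type v} [Group G]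

/-- C8 [S] -/
theorem comm4 (ζ : Fˣ) (φa φb : Matrix.SpecialLinearGroup (Fin 2) F →* G) (H : Hyp ζ φa φb)
    (R : Tor4 φa φb) (W : Wact4 φa φb) : Comm4 φa φb := by
  have had := comm_ad ζ φa φb H R
  have hbd := comm_bd ζ φa φb H R
  obtain ⟨hcd, hbc⟩ := comm_cd_bc φa φb W had
  exact
    { ad := had
      bd := hbd
      cd := hcd
      bc := hbc
      ac := cm_ac ζ φa φb H R hcd
      ab := cm_ab ζ φa φb H R hbd hcd hbc }

end C

end Cfsg.Agent.Lib.helper3.SP4
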