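import Mathlib
import Cfsg.Agent.Lib.helper17.SLP.Defs
import Cfsg.Agent.Lib.helper3.SP4.Defs
import Cfsg.Agent.Lib.helper6.SLPM4
import Cfsg.Agent.Lib.Helper5.SP4D4

/-!
# SP4 row D7 (helper5): `rd_braid_gen` (verbatim from `helper3/SP4/Skel.lean.txt`).
-/

set_option autoImplicit false

namespace Cfsg.Agent.Lib.helper3.SP4

open Cfsg.Agent.Lib.helper17.SLP
open Polynomial

universe u v

section D

variable {F : Type u} [Field F] [Fintype F] {G : Type v} [Group G]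

/-- the range of `φ` lies in any subgroup containing `φ (xM 1)`, `φ (hM ζ)`, `φ wM` -/
theorem sp4d7_range_le (ζ : Fˣ) (hζ : ∀ y : Fˣ, y ∈ Subgroup.zpowers ζ)
    (φ : Matrix.SpecialLinearGroup (Fin 2) F →* G) (K : Subgroup G)
    (hx : rx φ 1 ∈ K) (hh : rh φ ζ ∈ K) (hn : rn φ ∈ K) : Set.range φ ⊆ (K : Set G) := by
  have hcl : (⊤ : Subgroup (Matrix.SpecialLinearGroup (Fin 2) F)) ≤ K.comap φ := by
    rw [← closure_M ζ hζ, Subgroup.closure_le]
    rintro m (rfl | rfl | rfl)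
    · exact hx
    · exact hh
    · exact hn
  rintro g ⟨m, rfl⟩
  exact hcl (Subgroup.mem_top m)

/-- D7 [M] -/
theorem rd_braid_gen (ζ : Fˣ) (hζ : ∀ y : Fˣ, y ∈ Subgroup.zpowers ζ)
    (φa φb : Matrix.SpecialLinearGroup (Fin 2) F →* G) (H : Hyp ζ φa φb)
    (hgen : Subgroup.closure (Set.range φa ∪ Set.range φb) = ⊤) :
    (∃ τ ∈ TT φa φb, rn φb * rn φa * rn φb * rn φa = τ * (rn φa * rn φb * rn φa * rn φb)) ∧
      Subgroup.closure (((TT φa φb : Subgroup G) : Set G) ∪ (RG (rx φa) : Set G) ∪ (RG (rx φb) : Set G) ∪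
        {rn φa, rn φb}) = ⊤ := by
  constructor
  · exact ⟨1, Subgroup.one_mem _, by rw [one_mul]; exact H.N6.symm⟩
  · set K : Subgroup G := Subgroup.closure (((TT φa φb : Subgroup G) : Set G) ∪ (RG (rx φa) : Set G) ∪
      (RG (rx φb) : Set G) ∪ {rn φa, rn φb}) with hK
    rw [eq_top_iff, ← hgen, Subgroup.closure_le]
    have hTT : ∀ g ∈ TT φa φb, g ∈ K := fun g hg =>
      Subgroup.subset_closure (Or.inl (Or.inl (Or.inl hg)))
    have hA : ∀ g ∈ RG (rx φa), g ∈ K := fun g hg =>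
      Subgroup.subset_closure (Or.inl (Or.inl (Or.inr hg)))
    have hB' : ∀ g ∈ RG (rx φb), g ∈ K := fun g hg =>
      Subgroup.subset_closure (Or.inl (Or.inr hg))
    have hna : rn φa ∈ K := Subgroup.subset_closure (Or.inr (Or.inl rfl))
    have hnb : rn φb ∈ K := Subgroup.subset_closure (Or.inr (Or.inr rfl))
    apply Set.union_subset
    · exact sp4d7_range_le ζ hζ φa K (hA _ (sp4d6_rx_mem φa 1)) (hTT _ (sp4d4_ha_mem φa φb ζ)) hna
    · exact sp4d7_range_le ζ hζ φb K (hB' _ (sp4d6_rx_mem φb 1)) (hTT _ (sp4d4_hb_mem φa φb ζ)) hnb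

end D

end Cfsg.Agent.Lib.helper3.SP4
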