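import Mathlib
import Cfsg.Agent.Lib.helper17.SLP.Defs
import Cfsg.Agent.Lib.helper3.SP4.Defs
import Cfsg.Agent.Lib.helper17.SP4Kit
import Cfsg.Agent.Lib.helper17.SP4T5
import Cfsg.Agent.Lib.helper17.SP4T7

/-!
# SP4 row T8 (helper5): `tor4` (verbatim from `helper3/SP4/Skel.lean.txt`); on helper17's `SP4Kit` (own copies of T1 T2 R3), `SP4T5`, `SP4T7`.
-/

set_option autoImplicit false

namespace Cfsg.Agent.Lib.helper3.SP4

open Cfsg.Agent.Lib.helper17.SLP
open Polynomial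

universe u v

section T

variable {F : Type u} [Field F] [Fintype F] {G : Type v} [Group G]

/-- T8 [S] -/
theorem tor4 (ζ : Fˣ) (hζ : ∀ y : Fˣ, y ∈ Subgroup.zpowers ζ)
    (φa φb : Matrix.SpecialLinearGroup (Fin 2) F →* G) (H : Hyp ζ φa φb) : Tor4 φa φb := by
  obtain ⟨w1, w2, w3, w4⟩ := sp4kit_tor_weyl ζ hζ φa φb H
  obtain ⟨c1, c2, c3, c4⟩ := act_cd ζ hζ φa φb H
  exact
    { comm := sp4kit_tor_comm ζ hζ φa φb H
      wa_hb := w1
      wb_ha := w2
      wa_hb' := w3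
      wb_ha' := w4
      aa := sp4kit_rh_act φa
      ab := act_ab ζ hζ φa φb H
      ba := act_ba ζ hζ φa φb H
      bb := sp4kit_rh_act φb
      ca := c1
      cb := c2
      da := c3
      db := c4 }

end T

end Cfsg.Agent.Lib.helper3.SP4
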