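import Mathlib
import Cfsg.Agent.Lib.helper17.SLP.Defs
import Cfsg.Agent.Lib.helper3.SP4.Defs
import Cfsg.Agent.Lib.Helper28.SP4R3

/-!
# SP4 row W1 (helper5): `wact_easy` (verbatim from `helper3/SP4/Skel.lean.txt`).
-/

set_option autoImplicit false

namespace Cfsg.Agent.Lib.helper3.SP4

open Cfsg.Agent.Lib.helper17.SLP
open Polynomial

universe u v

section W

variable {F : Type u} [Field F] [Fintype F] {G : Type v} [Group G]

/-- conjugating by `n` is conjugating `n⁻¹ x n` by `n ^ 2` -/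
theorem sp4w1_sq {G : Type v} [Group G] (n x : G) :
    n * x * n⁻¹ = n ^ 2 * (n⁻¹ * x * n) * (n ^ 2)⁻¹ := by
  group

/-- W1 [S-M] -/
theorem wact_easy (φa φb : Matrix.SpecialLinearGroup (Fin 2) F →* G) (R : Tor4 φa φb) :
    (∀ t, rn φa * rx φb t * (rn φa)⁻¹ = xd φa φb t) ∧ (∀ t, rn φa * xd φa φb t * (rn φa)⁻¹ = rx φb t) ∧
      (∀ t, rn φb * rx φa t * (rn φb)⁻¹ = xc φa φb (-t)) ∧
      (∀ t, rn φb * xc φa φb t * (rn φb)⁻¹ = rx φa t) := by
  refine ⟨?_, ?_, ?_, ?_⟩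
  · intro t
    have h := R.da (-1) t
    rw [sp4w1_sq, (r_basic φa).2.2.2.2.2.2.2.2.2]
    show rh φa (-1) * xd φa φb t * (rh φa (-1))⁻¹ = xd φa φb t
    rw [h]
    congr 1
    simp
  · intro t
    unfold xd
    group
  · intro t
    have h := R.cb (-1) t
    rw [sp4w1_sq, (r_basic φb).2.2.2.2.2.2.2.2.2]
    show rh φb (-1) * xc φa φb t * (rh φb (-1))⁻¹ = xc φa φb (-t)
    rw [h]
    congr 1
    simp
  · intro t
    unfold xc
    group

end W

end Cfsg.Agent.Lib.helper3.SP4
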