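import Mathlib
import Cfsg.Agent.Lib.helper17.SLP.Defs
import Cfsg.Agent.Lib.helper3.SP4.Defs
import Cfsg.Agent.Lib.Helper5.SP4W1
import Cfsg.Agent.Lib.helper17.SP4W2

/-!
# SP4 row W4 (helper5): `wact4` (verbatim from `helper3/SP4/Skel.lean.txt`).
-/

set_option autoImplicit false

namespace Cfsg.Agent.Lib.helper3.SP4

open Cfsg.Agent.Lib.helper17.SLP
open Polynomial

universe u v

section W

variable {F : Type u} [Field F] [Fintype F] {G : Type v} [Group G]

/-- W4 [S] -/
theorem wact4 (ζ : Fˣ) (φa φb : Matrix.SpecialLinearGroup (Fin 2) F →* G) (H : Hyp ζ φa φb)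
    (R : Tor4 φa φb) : Wact4 φa φb := by
  obtain ⟨h1, h2, h3, h4⟩ := wact_easy φa φb R
  exact
    { a_b := h1
      a_d := h2
      a_c := wact_ac ζ φa φb H R
      b_a := h3
      b_c := h4
      b_d := wact_bd ζ φa φb H R }

end W

end Cfsg.Agent.Lib.helper3.SP4
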