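import Mathlib
import Cfsg.Agent.Lib.helper17.SLP.Defs
import Cfsg.Agent.Lib.helper3.SP4.Defs
import Cfsg.Agent.Lib.Helper22.SU4.Defs
import Cfsg.Prelude.Def_Classical
import Cfsg.Agent.Lib.helper17.SP4Kit

/-!
# Project SU4 (designer helper22), rows T9 `xcd_addT` and W1 `wact_easyT` (helper5), verbatim.
On helper17's `SP4Kit` (generic in the field).  Extras `su4t9_*`, `su4w1_*`.
-/

set_option autoImplicit false

namespace Cfsg.Agent.Lib.Helper22.SU4

open Cfsg.Agent.Lib.helper17.SLP Cfsg.Agent.Lib.helper3.SP4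

universe u v

section T

variable {F : Type u} {K : Type u} [Field F] [Field K] [Fintype F] [Fintype K] {G : Type v} [Group G]

/-- T9 [S]  conjugates of additive maps are additive (`r_basic` for `rx`).  Model SP4 T9 `xcd_add` (`Helper29.SP4T9`). -/
theorem xcd_addT (φa : Matrix.SpecialLinearGroup (Fin 2) F →* G) (φb : Matrix.SpecialLinearGroup (Fin 2) K →* G) :
    (∀ s t, xcT φa φb (s + t) = xcT φa φb s * xcT φa φb t) ∧
      (∀ s t, xdT φa φb (s + t) = xdT φa φb s * xdT φa φb t) ∧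
      xcT φa φb 0 = 1 ∧ xdT φa φb 0 = 1 ∧ (∀ t, xcT φa φb (-t) = (xcT φa φb t)⁻¹) ∧
      (∀ t, xdT φa φb (-t) = (xdT φa φb t)⁻¹) := by
  have hc : ∀ s t, xcT φa φb (s + t) = xcT φa φb s * xcT φa φb t := by
    intro s t
    unfold xcT
    rw [sp4kit_rx_add]
    group
  have hd : ∀ s t, xdT φa φb (s + t) = xdT φa φb s * xdT φa φb t := by
    intro s t
    unfold xdT
    rw [sp4kit_rx_add]
    group
  exact ⟨hc, hd, sp4kit_add_zero _ hc, sp4kit_add_zero _ hd, sp4kit_add_neg _ hc, sp4kit_add_neg _ hd⟩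

end T

section W

variable {F : Type u} {K : Type u} [Field F] [Field K] [Fintype F] [Fintype K] {G : Type v} [Group G]

/-- conjugating by `n` is conjugating `n⁻¹ x n` by `n ^ 2` -/
theorem su4w1_sq {G : Type v} [Group G] (n x : G) :
    n * x * n⁻¹ = n ^ 2 * (n⁻¹ * x * n) * (n ^ 2)⁻¹ := by
  group

omit [Fintype F] [Fintype K] in
/-- `N(-1) = 1` -/
theorem su4w1_nm_neg_one (D : Tw F K) : D.nm (-1) = 1 := by
  apply D.ι_injective
  rw [D.hnm, map_neg, map_one, map_one]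
  ring

/-- W1 [S-M]  deps F0 + `r_basic`.  Model SP4 W1 `wact_easy` (`Helper5.SP4W1`).  `a_d`, `b_c`: the definitions.  `a_b`: `w_a x_b(u) w_a⁻¹ = w_a² x_d(u) w_a⁻²`, `w_a² = h_a(-1)` acts on `x_d` through `nm (-1) = 1` (`R.da`).
`b_a`: `w_b x_a(t) w_b⁻¹ = w_b² x_c(t) w_b⁻²`, `w_b² = h_b(-1)` acts on `x_c` through `ι (-1) = -1` (`R.cb`). -/
theorem wact_easyT (D : Tw F K) (φa : Matrix.SpecialLinearGroup (Fin 2) F →* G)
    (φb : Matrix.SpecialLinearGroup (Fin 2) K →* G) (R : Tor4T D φa φb) :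
    (∀ u, rn φa * rx φb u * (rn φa)⁻¹ = xdT φa φb u) ∧ (∀ u, rn φa * xdT φa φb u * (rn φa)⁻¹ = rx φb u) ∧
      (∀ t, rn φb * rx φa t * (rn φb)⁻¹ = xcT φa φb (-t)) ∧
      (∀ t, rn φb * xcT φa φb t * (rn φb)⁻¹ = rx φa t) := by
  refine ⟨?_, ?_, ?_, ?_⟩
  · intro u
    have h := R.da (-1) u
    rw [su4w1_sq, sp4kit_rn_sq φa]
    show rh φa (-1) * xdT φa φb u * (rh φa (-1))⁻¹ = xdT φa φb u
    rw [h]
    congr 1
    rw [Units.val_neg, Units.val_one, su4w1_nm_neg_one, one_mul]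
  · intro u
    unfold xdT
    group
  · intro t
    have h := R.cb (-1) t
    rw [su4w1_sq, sp4kit_rn_sq φb]
    show rh φb (-1) * xcT φa φb t * (rh φb (-1))⁻¹ = xcT φa φb (-t)
    rw [h]
    congr 1
    rw [Units.val_neg, Units.val_one, map_neg, map_one, neg_one_mul]
  · intro t
    unfold xcT
    group

end W

end Cfsg.Agent.Lib.Helper22.SU4
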