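import Mathlib
import Cfsg.Agent.Lib.helper23.TD4V.Defs
import Cfsg.Agent.Lib.Helper5.TD4VN2
import Cfsg.Agent.Lib.Helper5.TD4VN3

/-!
# Project TD4V (S2462), rows N6 (`Tr3_surj`) and N7 (`Tr3_ker`), verbatim.
-/

set_option autoImplicit false

namespace Cfsg.Agent.Lib.helper23.TD4V

open Cfsg.Lie Cfsg.Lie.ChevalleyDatum Matrix
open Cfsg.Agent.Lib.helper8 Cfsg.Agent.Lib.helper8.TD4
open Cfsg.Agent.Lib.helper23.P4V

universe u v

section N

variable {F K : Type u} [Field F] [Field K] [Fintype F] [Fintype K] (j : F →+* K) (q : ℕ)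

/-- the trace is not identically zero -/
theorem td4vn6_Tr3_ne_zero (hq : 2 ≤ q) (hK : Fintype.card K = q ^ 3) : ∃ x : K, Tr3 q x ≠ 0 := by
  classical
  by_contra hall
  rw [not_exists] at hall
  have hall' : ∀ x : K, Tr3 q x = 0 := fun x => not_not.1 (hall x)
  let P : Polynomial K := Polynomial.X ^ (q ^ 2) + (Polynomial.X ^ q + Polynomial.X)
  have hqq : q < q ^ 2 := by nlinarith
  have hdeg2 : (Polynomial.X ^ q + Polynomial.X : Polynomial K).natDegree ≤ q := by
    apply (Polynomial.natDegree_add_le _ _).trans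
    rw [Polynomial.natDegree_X_pow, Polynomial.natDegree_X]
    exact max_le le_rfl (by omega)
  have hdeg : P.natDegree = q ^ 2 := by
    have h := Polynomial.natDegree_add_eq_left_of_natDegree_lt
      (p := (Polynomial.X ^ (q ^ 2) : Polynomial K)) (q := Polynomial.X ^ q + Polynomial.X)
      (by rw [Polynomial.natDegree_X_pow]; exact lt_of_le_of_lt hdeg2 hqq)
    rw [Polynomial.natDegree_X_pow] at h
    exact h
  have hP0 : P ≠ 0 := by
    intro h0
    rw [h0, Polynomial.natDegree_zero] at hdeg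
    have : 0 < q ^ 2 := by positivity
    omega
  have hsub : (Finset.univ : Finset K) ⊆ P.roots.toFinset := by
    intro x _
    rw [Multiset.mem_toFinset, Polynomial.mem_roots hP0, Polynomial.IsRoot.def]
    have hx := hall' x
    unfold Tr3 at hx
    simp only [P, Polynomial.eval_add, Polynomial.eval_pow, Polynomial.eval_X]
    rw [← hx]
    ring
  have h1 : Fintype.card K ≤ q ^ 2 := by
    calc Fintype.card K = (Finset.univ : Finset K).card := Finset.card_univ.symm
      _ ≤ P.roots.toFinset.card := Finset.card_le_card hsub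
      _ ≤ Multiset.card P.roots := Multiset.toFinset_card_le _
      _ ≤ P.natDegree := Polynomial.card_roots' _
      _ = q ^ 2 := hdeg
  rw [hK] at h1
  have : q ^ 2 < q ^ 3 := by
    have : q ^ 3 = q ^ 2 * q := by ring
    nlinarith [Nat.pos_of_ne_zero (by omega : q ^ 2 ≠ 0)]
  omega

/-- **N6**. -/
theorem Tr3_surj (hq : IsPrimePow q) (hF : Fintype.card F = q) (hK : Fintype.card K = q ^ 3) (r : K)
    (hr : r ≠ 0) (c : F) : ∃ s : K, Tr3 q (s * r) = j c := by
  obtain ⟨x0, hx0⟩ := td4vn6_Tr3_ne_zero q hq.two_le hK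
  obtain ⟨b, hb⟩ := exists_pre j q hq hF (Tr3 q x0) (Tr3_pow q hq hK x0)
  have hb0 : b ≠ 0 := by
    rintro rfl
    rw [map_zero] at hb
    exact hx0 hb.symm
  refine ⟨j (c / b) * x0 / r, ?_⟩
  rw [div_mul_cancel₀ _ hr, td4vn2_Tr3_smul j q hF, ← hb, ← map_mul, div_mul_cancel₀ _ hb0]

/-- **N7**. -/
theorem Tr3_ker (hq : IsPrimePow q) (hF : Fintype.card F = q) (hK : Fintype.card K = q ^ 3) (r : K) :
    ∃ s : K, s ≠ 0 ∧ Tr3 q (s * r) = 0 := by
  classical
  have hq2 : 2 ≤ q := hq.two_le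
  have hq1 : 1 < q := hq2
  let P : Polynomial K := Polynomial.X ^ q - Polynomial.X
  have hP0 : P ≠ 0 := FiniteField.X_pow_card_sub_X_ne_zero K hq1
  have hmaps : ∀ s ∈ (Finset.univ : Finset K), Tr3 q (s * r) ∈ P.roots.toFinset := by
    intro s _
    rw [Multiset.mem_toFinset, Polynomial.mem_roots hP0, Polynomial.IsRoot.def]
    simp only [P, Polynomial.eval_sub, Polynomial.eval_pow, Polynomial.eval_X]
    rw [Tr3_pow q hq hK, sub_self]
  have hcard : P.roots.toFinset.card < (Finset.univ : Finset K).card := by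
    rw [Finset.card_univ, hK]
    calc P.roots.toFinset.card ≤ Multiset.card P.roots := Multiset.toFinset_card_le _
      _ ≤ P.natDegree := Polynomial.card_roots' _
      _ = q := FiniteField.X_pow_card_sub_X_natDegree_eq K hq1
      _ = q ^ 1 := (pow_one q).symm
      _ < q ^ 3 := Nat.pow_lt_pow_right (by omega) (by norm_num)
  obtain ⟨s1, _, s2, _, hne, heq⟩ :=
    Finset.exists_ne_map_eq_of_card_lt_of_maps_to hcard hmaps
  refine ⟨s1 - s2, sub_ne_zero.2 hne, ?_⟩
  rw [sub_mul, td4vn2_Tr3_sub q hK, heq, sub_self]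

end N

end Cfsg.Agent.Lib.helper23.TD4V
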