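import Mathlib
import Cfsg.Agent.Lib.Helper19.U3P.Defs
import Cfsg.Agent.Lib.Helper19.U3PX1

/-!
# U3P X13 (core): every unitriangular element of `SU₃(q)` lies in `closure {a, b}`.
`u3px13_core`: X13 with X1 X3 X4 X5 X6 cited (`Helper19.U3PX1`) and the statements of F7 (parts 1, 5),
X7 (`phi_x`), X11 (`→`) and F11 as hypotheses.
-/

set_option autoImplicit false

namespace Cfsg.Agent.Lib.Helper19.U3P

open Cfsg.Agent.Lib.helper17.SLP Cfsg.Agent.Lib.helper14.SU3J Cfsg.Agent.Lib.Helper25.SU3P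
open Polynomial Matrix

universe u v

section X

variable {F : Type u} [Field F] [Fintype F] {K : Type u} [Field K] [Fintype K] {q : ℕ}
variable {D : Par F K q} {a b c : ↥(Cfsg.SU 3 F q)} {ρ : SL2 K →* ↥(Cfsg.SU 3 F q)}

/-- `cj h u i` lies in any subgroup containing `h` and `u`. -/
theorem u3px13_cj_mem {G : Type*} [Group G] (H : Subgroup G) (h u : G) (hh : h ∈ H) (hu : u ∈ H) (i : ℤ) :
    cj h u i ∈ H := by
  unfold cj
  exact H.mul_mem (H.mul_mem (H.zpow_mem hh i) hu) (H.zpow_mem hh _)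

/-- `pw p h u l f` lies in any subgroup containing `h` and `u`. -/
theorem u3px13_pw_mem {G : Type*} [Group G] (H : Subgroup G) (h u : G) (hh : h ∈ H) (hu : u ∈ H)
    (p : ℕ) (l : ℤ) (f : (ZMod p)[X]) : pw p h u l f ∈ H := by
  unfold pw
  apply Subgroup.list_prod_mem
  intro x hx
  obtain ⟨j, _, rfl⟩ := List.mem_map.mp hx
  exact H.pow_mem (u3px13_cj_mem H h u hh hu _) _

/-- the long root group lies in `closure {a, b}` -/
theorem u3px13_Z_le (hG : Gens D a b c ρ) (hσσ : ∀ x, D.σ (D.σ x) = x)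
    (hphi : ρ (xM 1) = z0 q a b) (t : K) :
    ρ (xM t) ∈ Subgroup.closure ({a, b} : Set ↥(Cfsg.SU 3 F q)) := by
  set H := Subgroup.closure ({a, b} : Set ↥(Cfsg.SU 3 F q)) with hH
  have ha : a ∈ H := Subgroup.subset_closure (by simp)
  have hb : b ∈ H := Subgroup.subset_closure (by simp)
  have h1 : ρ (xM 1) ∈ H := by
    rw [hphi]
    unfold z0 cm
    have := u3px13_cj_mem H b a hb ha ((q : ℤ) - 1)
    exact H.mul_mem (H.mul_mem (H.mul_mem ha this) (H.inv_mem ha)) (H.inv_mem this)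
  by_cases ht : t = 0
  · rw [ht]
    have : ρ (xM (0 : K)) = 1 := by
      apply D.c.cj_inj
      rw [rho_x hG, D.c.cj_one, map_zero, mul_zero, u3px1_uu_zero]
    rw [this]
    exact H.one_mem
  · obtain ⟨i, hi⟩ := Subgroup.mem_zpowers_iff.mp (D.hbKgen (Units.mk0 t ht))
    have : ρ (xM t) = cj b (ρ (xM 1)) i := by
      apply D.c.cj_inj
      rw [cj_b_U hG hσσ _ _ _ (rho_x hG 1) i, rho_x hG, mul_zero]
      congr 1
      have ht' : t = ((D.bK ^ i : Kˣ) : K) := by rw [hi]; rfl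
      rw [ht', Units.val_zpow_eq_zpow_val, map_zpow₀, D.hbK, map_one, mul_one]
      unfold Par.bl
      ring
    rw [this]
    exact u3px13_cj_mem H b _ hb h1 i

/-- X13, core: with the char `p` and `al_surj` given -/
theorem u3px13_core_p (hG : Gens D a b c ρ) (hσσ : ∀ x, D.σ (D.σ x) = x) (hγσ : D.σ D.γ0 = -D.γ0)
    (hγ : D.γ0 ≠ 0) (hphi : ρ (xM 1) = z0 q a b)
    (p : ℕ) [Fact p.Prime] [Algebra (ZMod p) F]
    (hsurj : Function.Surjective (fun f : (ZMod p)[X] => aeval D.al f))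
    (X : ↥(Cfsg.SU 3 F q)) (α β : F) (hX : D.c.cj X = uu D.σ α β) :
    X ∈ Subgroup.closure ({a, b} : Set ↥(Cfsg.SU 3 F q)) := by
  set H := Subgroup.closure ({a, b} : Set ↥(Cfsg.SU 3 F q)) with hH
  have ha : a ∈ H := Subgroup.subset_closure (by simp)
  have hb : b ∈ H := Subgroup.subset_closure (by simp)
  obtain ⟨f, hf⟩ := hsurj α
  simp only at hf
  obtain ⟨β', hβ'⟩ := pw_U hG hσσ p 1 f
  rw [zpow_one, hf] at hβ'
  set X' := pw p b a 1 f with hX'
  have hX'H : X' ∈ H := u3px13_pw_mem H b a hb ha p 1 f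
  -- the quotient
  have hM : D.c.cj (X'⁻¹ * X) = uu D.σ 0 (β - β') := by
    have h1 : D.c.cj X' * D.c.cj (X'⁻¹ * X) = uu D.σ α β := by
      rw [← D.c.cj_mul, mul_inv_cancel_left, hX]
    rw [hβ'] at h1
    have h2 : uu D.σ (-α) (-β' - α * D.σ α) * uu D.σ α β' = 1 := by
      rw [uu_mul, ← u3px1_uu_zero D.σ]
      congr 1
      · ring
      · ring
    calc D.c.cj (X'⁻¹ * X) = (uu D.σ (-α) (-β' - α * D.σ α) * uu D.σ α β') * D.c.cj (X'⁻¹ * X) := by
          rw [h2, one_mul]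
      _ = uu D.σ (-α) (-β' - α * D.σ α) * uu D.σ α β := by rw [mul_assoc, h1]
      _ = uu D.σ 0 (β - β') := by
          rw [uu_mul]
          congr 1
          · ring
          · ring
  obtain ⟨t, ht⟩ := Z_of_alpha_zero hG hγ hγσ _ _ hM
  have : X = X' * (X'⁻¹ * X) := by rw [mul_inv_cancel_left]
  rw [this, ht]
  exact H.mul_mem hX'H (u3px13_Z_le hG hσσ hphi t)

/-- X13, core: `X1 X3 X4 X5 X6` cited; hypotheses = F7 (parts 1, 5), X7 (`phi_x`), X11 (`→`), F11. -/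
theorem u3px13_core (hG : Gens D a b c ρ) (hσσ : ∀ x, D.σ (D.σ x) = x) (hγσ : D.σ D.γ0 = -D.γ0)
    (hγ : D.γ0 ≠ 0) (hphi : ρ (xM 1) = z0 q a b)
    (hsurj : ∀ (p : ℕ) [Fact p.Prime] [Algebra (ZMod p) F],
      Function.Surjective (fun f : (ZMod p)[X] => aeval D.al f))
    (X : ↥(Cfsg.SU 3 F q)) (hX : ∃ α β : F, D.c.cj X = uu D.σ α β) :
    X ∈ Subgroup.closure ({a, b} : Set ↥(Cfsg.SU 3 F q)) := by
  obtain ⟨α, β, hαβ⟩ := hX
  obtain ⟨p, hp⟩ := CharP.exists F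
  have : Fact p.Prime := ⟨CharP.char_is_prime F p⟩
  let _ : Algebra (ZMod p) F := ZMod.algebra F p
  exact u3px13_core_p hG hσσ hγσ hγ hphi p (hsurj p) X α β hαβ

end X

end Cfsg.Agent.Lib.Helper19.U3P
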