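import Mathlib
import Cfsg.Agent.Lib.Helper19.U3P.Defs
import Cfsg.Agent.Lib.Helper5.U3PX13core
import Cfsg.Agent.Lib.helper7.U3PF7
import Cfsg.Agent.Lib.helper7.U3PF11
import Cfsg.Agent.Lib.Helper19.U3PX7
import Cfsg.Agent.Lib.helper14.U3PX11

/-!
# U3P row X13 (`gen_U`), verbatim (helper5).
-/

set_option autoImplicit false

namespace Cfsg.Agent.Lib.Helper19.U3P

open Cfsg.Agent.Lib.helper17.SLP Cfsg.Agent.Lib.helper14.SU3J Cfsg.Agent.Lib.Helper25.SU3P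
open Polynomial Matrix

universe u v

section X

variable {F : Type u} [Field F] [Fintype F] {K : Type u} [Field K] [Fintype K] {q : ℕ}

variable {D : Par F K q} {a b c : ↥(Cfsg.SU 3 F q)} {ρ : SL2 K →* ↥(Cfsg.SU 3 F q)}

/-- X13 -/
theorem gen_U (hG : Gens D a b c ρ) (hF : Fintype.card F = q ^ 2) (hK : Fintype.card K = q) (hq : 4 ≤ q)
    (hγ : D.γ0 ≠ 0) (X : ↥(Cfsg.SU 3 F q)) (hX : IsUT (D.c.cj X)) :
    X ∈ Subgroup.closure ({a, b} : Set ↥(Cfsg.SU 3 F q)) :=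
  u3px13_core hG (par_basic D hF hK hq).1 (par_basic D hF hK hq).2.2.2.2.1 hγ
    (relM_S hG hF hK (by omega) hγ).phi_x (fun p _ _ => al_surj D hF hK hq p) X
    (let ⟨α, β, _, h⟩ := (isUT_iff D (par_basic D hF hK hq).1 X).mp hX; ⟨α, β, h⟩)

end X

end Cfsg.Agent.Lib.Helper19.U3P
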