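import Mathlib
import Cfsg.Agent.Lib.Helper5.UNI.Defs

/-!
UNI row A5b: `relFix X Y` is a class function of `X`.
-/

set_option autoImplicit false

namespace Cfsg.Agent.Lib.Helper5.UNI

variable {G : Type*} [Group G]

/-- A5b: `relFix X Y` is invariant under conjugation by `X` -/
theorem relFix_conj (X Y : Subgroup G) (x g : G) (hx : x ∈ X) :
    relFix X Y (x * g * x⁻¹) = relFix X Y g := by
  unfold relFix
  symm
  apply Nat.card_congr
  refine
    { toFun := fun c => ⟨x • c.1, ?_, ?_⟩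
      invFun := fun c => ⟨x⁻¹ • c.1, ?_, ?_⟩
      left_inv := fun c => by
        apply Subtype.ext
        show x⁻¹ • x • c.1 = c.1
        rw [inv_smul_smul]
      right_inv := fun c => by
        apply Subtype.ext
        show x • x⁻¹ • c.1 = c.1
        rw [smul_inv_smul] }
  · obtain ⟨c, hc, _⟩ := c
    show (x * g * x⁻¹) • x • c = x • c
    rw [mul_smul, mul_smul, inv_smul_smul, hc]
  · obtain ⟨c, _, y, hy, rfl⟩ := c
    exact ⟨x * y, X.mul_mem hx hy, rfl⟩
  · obtain ⟨c, hc, _⟩ := c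
    show g • x⁻¹ • c = x⁻¹ • c
    have h2 : (x * g * x⁻¹) • c = c := hc
    rw [mul_smul, mul_smul] at h2
    have h3 : x⁻¹ • x • g • x⁻¹ • c = x⁻¹ • c := by rw [h2]
    rwa [inv_smul_smul] at h3
  · obtain ⟨c, _, y, hy, rfl⟩ := c
    exact ⟨x⁻¹ * y, X.mul_mem (X.inv_mem hx) hy, rfl⟩

end Cfsg.Agent.Lib.Helper5.UNI
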