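import Mathlib
import Cfsg.Agent.Lib.Helper5.UNI.Defs

/-!
UNI row A6: Moebius inversion over the subsets of `R`.
-/

set_option autoImplicit false

namespace Cfsg.Agent.Lib.Helper5.UNI

/-- Moebius inversion on the Boolean lattice, in the form used below -/
theorem unia6_alt (J : Finset ℕ) : ∀ g : Finset ℕ → ℤ,
    ∑ K ∈ J.powerset, (-1 : ℤ) ^ K.card * ∑ L ∈ K.powerset, g L = (-1 : ℤ) ^ J.card * g J := by
  classical
  induction J using Finset.induction_on with
  | empty =>
    intro g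
    simp
  | insert a J ha ih =>
    intro g
    rw [Finset.sum_powerset_insert ha]
    have h2 : ∀ K ∈ J.powerset, (-1 : ℤ) ^ (insert a K).card * ∑ L ∈ (insert a K).powerset, g L =
        - ((-1 : ℤ) ^ K.card * ∑ L ∈ K.powerset, g L)
          - (-1 : ℤ) ^ K.card * ∑ L ∈ K.powerset, g (insert a L) := by
      intro K hK
      rw [Finset.mem_powerset] at hK
      have haK : a ∉ K := fun h => ha (hK h)
      rw [Finset.card_insert_of_notMem haK, Finset.sum_powerset_insert haK, pow_succ]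
      ring
    rw [Finset.sum_congr rfl h2, Finset.sum_sub_distrib, Finset.sum_neg_distrib,
      ih (fun L => g (insert a L)), Finset.card_insert_of_notMem ha, pow_succ]
    ring

/-- A6: Moebius inversion over the subsets of `R` (trivial thanks to multiplicativity of `idx`) -/
theorem moebius_ind (R : Finset ℕ) (idx : Finset ℕ → Finset ℕ → ℤ) (c : Finset ℕ → ℤ) (u : ℤ)
    (hid : ∀ J ⊆ R, idx J J = 1)
    (hmul : ∀ J ⊆ R, ∀ K ⊆ J, ∀ L ⊆ K, idx J K * idx K L = idx J L)
    (hsum : ∀ J ⊆ R, ∑ K ∈ J.powerset, (-1 : ℤ) ^ K.card * idx J K * c K = u) :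
    ∀ J ⊆ R, c J = u * ∑ K ∈ J.powerset, (-1 : ℤ) ^ K.card * idx J K := by
  classical
  intro J
  induction J using Finset.strongInduction with
  | H J ih =>
    intro hJ
    have hs := hsum J hJ
    rw [← Finset.add_sum_erase J.powerset _ (Finset.mem_powerset_self J)] at hs
    set T := ∑ K ∈ J.powerset, (-1 : ℤ) ^ K.card * idx J K with hT
    have h1 : ∀ K ∈ J.powerset.erase J, (-1 : ℤ) ^ K.card * idx J K * c K =
        u * ((-1 : ℤ) ^ K.card * ∑ L ∈ K.powerset, (-1 : ℤ) ^ L.card * idx J L) := by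
      intro K hK
      rw [Finset.mem_erase, Finset.mem_powerset] at hK
      have hKJ : K ⊂ J := Finset.ssubset_iff_subset_ne.mpr ⟨hK.2, hK.1⟩
      rw [ih K hKJ (hK.2.trans hJ)]
      have : idx J K * ∑ L ∈ K.powerset, (-1 : ℤ) ^ L.card * idx K L =
          ∑ L ∈ K.powerset, (-1 : ℤ) ^ L.card * idx J L := by
        rw [Finset.mul_sum]
        apply Finset.sum_congr rfl
        intro L hL
        rw [Finset.mem_powerset] at hL
        rw [← hmul J hJ K hK.2 L hL]
        ring
      rw [← this]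
      ring
    rw [Finset.sum_congr rfl h1, ← Finset.mul_sum] at hs
    have h2 := unia6_alt J (fun L => (-1 : ℤ) ^ L.card * idx J L)
    rw [← Finset.add_sum_erase J.powerset _ (Finset.mem_powerset_self J)] at h2
    rw [← hT] at h2
    have h3 : ∑ K ∈ J.powerset.erase J, (-1 : ℤ) ^ K.card *
        ∑ L ∈ K.powerset, (-1 : ℤ) ^ L.card * idx J L =
        (-1 : ℤ) ^ J.card * ((-1 : ℤ) ^ J.card * idx J J) - (-1 : ℤ) ^ J.card * T := by
      linarith
    rw [h3, hid J hJ] at hs
    have hsq : (-1 : ℤ) ^ J.card * (-1 : ℤ) ^ J.card = 1 := by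
      rw [← mul_pow]; simp
    have h4 : (-1 : ℤ) ^ J.card * c J = (-1 : ℤ) ^ J.card * (u * T) := by
      have : (-1 : ℤ) ^ J.card * ((-1 : ℤ) ^ J.card * 1) = 1 := by rw [mul_one, hsq]
      rw [this] at hs
      linarith
    have h5 : (-1 : ℤ) ^ J.card * ((-1 : ℤ) ^ J.card * c J) =
        (-1 : ℤ) ^ J.card * ((-1 : ℤ) ^ J.card * (u * T)) := by rw [h4]
    rw [← mul_assoc, ← mul_assoc, hsq, one_mul, one_mul] at h5
    exact h5

end Cfsg.Agent.Lib.Helper5.UNI
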