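import Mathlib
import Cfsg.Agent.Lib.Helper5.UNI.Defs

/-!
UNI rows A8a / A8b: Sylow conjugation of `p`-elements.
-/

set_option autoImplicit false

namespace Cfsg.Agent.Lib.Helper5.UNI

variable {G : Type*} [Group G]

/-- A8b: the elements of a `p`-group are `p`-elements -/
theorem pelt_of_mem [Finite G] (p : ℕ) [Fact p.Prime] (S : Sylow p G) (u : G)
    (hu : u ∈ (S : Subgroup G)) : IsPElt p u := by
  obtain ⟨k, hk⟩ := IsPGroup.iff_orderOf.mp S.isPGroup' ⟨u, hu⟩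
  refine ⟨k, ?_⟩
  rw [← hk]
  exact (Subgroup.orderOf_mk u hu).symm

/-- A8a: a `p`-element of `X ≥ U` is `X`-conjugate into the Sylow `p`-subgroup `U` of `G` -/
theorem sylow_conj_into [Finite G] (p : ℕ) [Fact p.Prime] (S : Sylow p G) (X : Subgroup G)
    (hUX : (S : Subgroup G) ≤ X) (g : G) (hg : g ∈ X) (hp : IsPElt p g) :
    ∃ x ∈ X, x * g * x⁻¹ ∈ (S : Subgroup G) := by
  classical
  obtain ⟨k, hk⟩ := hp
  let g' : ↥X := ⟨g, hg⟩
  have hg' : orderOf g' = p ^ k := by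
    rw [← hk]
    exact Subgroup.orderOf_mk g hg
  have hZ : IsPGroup p ↥(Subgroup.zpowers g') := by
    apply IsPGroup.of_card (n := k)
    rw [Nat.card_zpowers, hg']
  obtain ⟨Q, hQ⟩ := hZ.exists_le_sylow
  let S' : Sylow p ↥X := S.subtype hUX
  obtain ⟨x, hx⟩ := MulAction.exists_smul_eq ↥X Q S'
  refine ⟨(x : G), x.2, ?_⟩
  have h1 : g' ∈ (Q : Subgroup ↥X) := hQ (Subgroup.mem_zpowers g')
  have h2 : x * g' * x⁻¹ ∈ (S' : Subgroup ↥X) := by
    rw [← hx, Sylow.smul_def, Sylow.pointwise_smul_def]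
    rw [Subgroup.mem_pointwise_smul_iff_inv_smul_mem]
    have : (MulAut.conj x)⁻¹ • (x * g' * x⁻¹) = g' := by
      show (MulAut.conj x)⁻¹ (x * g' * x⁻¹) = g'
      rw [← map_inv, MulAut.conj_apply]
      group
    rw [this]
    exact h1
  have h3 : ((x * g' * x⁻¹ : ↥X) : G) ∈ (S : Subgroup G) := by
    have := h2
    rw [Sylow.coe_subtype, Subgroup.mem_subgroupOf] at this
    exact this
  simpa using h3

end Cfsg.Agent.Lib.Helper5.UNI
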