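import Mathlib
import Cfsg.Agent.Lib.Helper5.UNI.Defs

/-!
UNI row A9: `[B : D] |D ⊓ U| = |U|` for `H ≤ D ≤ B = U H`, `U ⊓ H = 1`.
-/

set_option autoImplicit false

namespace Cfsg.Agent.Lib.Helper5.UNI

variable {G : Type*} [Group G]

/-- the order of a semidirect product inside `G` -/
theorem unia9_card_sup (V H : Subgroup G) (hHn : H ≤ Subgroup.normalizer (V : Set G))
    (hVH : V ⊓ H = ⊥) : Nat.card ↥(V ⊔ H) = Nat.card ↥V * Nat.card ↥H := by
  rw [← Nat.card_prod]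
  symm
  have hcoe := Subgroup.coe_mul_of_right_le_normalizer_left V H hHn
  have hmem : ∀ vh : ↥V × ↥H, (vh.1 : G) * (vh.2 : G) ∈ V ⊔ H := fun vh =>
    (V ⊔ H).mul_mem (Subgroup.mem_sup_left vh.1.2) (Subgroup.mem_sup_right vh.2.2)
  apply Nat.card_congr
  apply Equiv.ofBijective (fun vh : ↥V × ↥H => (⟨(vh.1 : G) * (vh.2 : G), hmem vh⟩ : ↥(V ⊔ H)))
  constructor
  · intro a b hab
    apply Subgroup.mul_injective_of_disjoint (disjoint_iff.mpr hVH)
    exact congrArg Subtype.val hab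
  · rintro ⟨x, hx⟩
    have hx' : x ∈ ((V ⊔ H : Subgroup G) : Set G) := hx
    rw [hcoe] at hx'
    obtain ⟨v, hv, h, hh, rfl⟩ := hx'
    exact ⟨(⟨v, hv⟩, ⟨h, hh⟩), rfl⟩

/-- A9: `[B : D] |D ⊓ U| = |U|` for `H ≤ D ≤ B = U H`, `U ⊓ H = 1` -/
theorem relIndex_card [Finite G] (B U H D : Subgroup G) (hB : B = U ⊔ H)
    (hHn : H ≤ Subgroup.normalizer (U : Set G)) (hUH : U ⊓ H = ⊥) (hHD : H ≤ D) (hDB : D ≤ B) :
    D.relIndex B * Nat.card ↥(D ⊓ U) = Nat.card ↥U := by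
  have hcoe := Subgroup.coe_mul_of_right_le_normalizer_left U H hHn
  -- `D = (D ⊓ U) ⊔ H`
  have hD : D = (D ⊓ U) ⊔ H := by
    apply le_antisymm
    · intro x hx
      have hxB : x ∈ ((U ⊔ H : Subgroup G) : Set G) := by
        rw [← hB]; exact hDB hx
      rw [hcoe] at hxB
      obtain ⟨u, hu, h, hh, rfl⟩ := hxB
      have huD : u ∈ D := by
        have := D.mul_mem hx (D.inv_mem (hHD hh))
        simpa using this
      exact (_ : Subgroup G).mul_mem (Subgroup.mem_sup_left ⟨huD, hu⟩) (Subgroup.mem_sup_right hh)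
    · exact sup_le inf_le_left hHD
  have hHn' : H ≤ Subgroup.normalizer ((D ⊓ U : Subgroup G) : Set G) := by
    intro h hh
    rw [Subgroup.mem_normalizer_iff]
    intro x
    have hU := Subgroup.mem_normalizer_iff.mp (hHn hh) x
    have hhD : h ∈ D := hHD hh
    constructor
    · rintro ⟨hxD, hxU⟩
      exact ⟨D.mul_mem (D.mul_mem hhD hxD) (D.inv_mem hhD), hU.mp hxU⟩
    · rintro ⟨hxD, hxU⟩
      refine ⟨?_, hU.mpr hxU⟩
      have := D.mul_mem (D.mul_mem (D.inv_mem hhD) hxD) hhD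
      simpa [mul_assoc] using this
  have hDH : (D ⊓ U) ⊓ H = ⊥ := by
    rw [eq_bot_iff, ← hUH]
    exact inf_le_inf_right H inf_le_right
  have h1 : Nat.card ↥B = Nat.card ↥U * Nat.card ↥H := by
    rw [hB]; exact unia9_card_sup U H hHn hUH
  have h2 : Nat.card ↥D = Nat.card ↥(D ⊓ U) * Nat.card ↥H := by
    conv_lhs => rw [hD]
    exact unia9_card_sup (D ⊓ U) H hHn' hDH
  have h3 : D.relIndex B * Nat.card ↥D = Nat.card ↥B := by
    unfold Subgroup.relIndex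
    rw [← Nat.card_congr (Subgroup.subgroupOfEquivOfLe hDB).toEquiv]
    exact Subgroup.index_mul_card _
  have hH0 : 0 < Nat.card ↥H := Nat.card_pos
  rw [h1, h2, ← mul_assoc] at h3
  exact Nat.eq_of_mul_eq_mul_right hH0 h3

end Cfsg.Agent.Lib.Helper5.UNI
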