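import Mathlib
import Cfsg.Agent.Lib.Helper5.UNI.Defs
import Cfsg.Agent.Lib.Helper5.UNIA5B
import Cfsg.Agent.Lib.Helper5.UNIA6
import Cfsg.Agent.Lib.Helper5.UNIA8
import Cfsg.Agent.Lib.Helper5.UNIA9
import Cfsg.Agent.Lib.Helper1.UNIA4
import Cfsg.Agent.Lib.Helper21.UNIA5
import Cfsg.Agent.Lib.Helper21.UNIA7

/-!
Project UNI, abstract form (for reuse, e.g. S2316): Steinberg's count of the `p`-elements of a
finite group with a split (B,N)-pair of characteristic `p`, from the abstract rows A4-A9 only.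

`uniabs_main`: let `P` be a (B,N)-pair of the finite group `G`, `σ : ℕ → G` an enumeration of
(some of) the generators over the index set `R`, `B = U ⋊ H` with `U` a Sylow `p`-subgroup of `G`.
If for every `J ⊆ R` there is `n_J ∈ N_J` (the "longest element of `W_J`") with the descent
properties `h1`, `h2` of helper14's `st_value`, such that `B ⊓ n_J B n_J⁻¹ ⊓ U` is normalised by
`P_J` and `H ≤ n_J B n_J⁻¹`; if moreover `P_R = G` and the alternating sum of the indices of the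
`P_K` (`= St(1)`) is `|U|`, then the number of `p`-elements of `G` is `|U| ^ 2`.
-/

set_option autoImplicit false

namespace Cfsg.Agent.Lib.Helper5.UNI

open Cfsg.Agent.Lib.helper3 Cfsg.Agent.Lib.helper14

variable {G : Type*} [Group G]

theorem uniabs_relSt_conj (Q : Finset ℕ → Subgroup G) (J : Finset ℕ) (x g : G) (hx : x ∈ Q J) :
    relSt Q J (x * g * x⁻¹) = relSt Q J g := by
  unfold relSt
  apply Finset.sum_congr rfl
  intro K _
  rw [relFix_conj (Q J) (Q K) x g hx]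

theorem uniabs_sumOver_sum [Fintype G] (X : Subgroup G) (Q : G → Prop) {ι : Type*}
    (s : Finset ι) (f : ι → G → ℤ) :
    sumOver X Q (fun g => ∑ k ∈ s, f k g) = ∑ k ∈ s, sumOver X Q (f k) := by
  classical
  unfold sumOver
  rw [Finset.sum_comm]
  apply Finset.sum_congr rfl
  intro g _
  split_ifs with h
  · rfl
  · simp

theorem uniabs_sumOver_mul [Fintype G] (X : Subgroup G) (Q : G → Prop) (a : ℤ) (f : G → ℤ) :
    sumOver X Q (fun g => a * f g) = a * sumOver X Q f := by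
  classical
  unfold sumOver
  rw [Finset.mul_sum]
  apply Finset.sum_congr rfl
  intro g _
  split_ifs with h
  · rfl
  · simp

theorem uniabs_pelt_conj (p : ℕ) (x g : G) (h : IsPElt p g) : IsPElt p (x * g * x⁻¹) := by
  obtain ⟨k, hk⟩ := h
  refine ⟨k, ?_⟩
  rw [← hk]
  have : x * g * x⁻¹ = MulAut.conj x g := rfl
  rw [this, MulEquiv.orderOf_eq]

theorem uniabs_par_mono (P : Cfsg.BNPair G) (σ : ℕ → G) (K J : Finset ℕ) (h : K ⊆ J) :
    P.parabolic (σ '' (K : Set ℕ)) ≤ P.parabolic (σ '' (J : Set ℕ)) := by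
  unfold Cfsg.BNPair.parabolic
  apply sup_le_sup_left
  apply Subgroup.closure_mono
  exact Set.image_mono (Finset.coe_subset.mpr h)

/-- abstract G4: the relative Steinberg function of `P_J` summed over the `p`-elements of `P_J` -/
theorem uniabs_sum_pJ [Fintype G] (p : ℕ) [Fact p.Prime] (P : Cfsg.BNPair G) (σ : ℕ → G)
    (U H : Subgroup G) (S : Sylow p G) (hS : (S : Subgroup G) = U)
    (hBsup : P.B = U ⊔ H) (hHn : H ≤ Subgroup.normalizer (U : Set G)) (hUH : U ⊓ H = ⊥)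
    (J : Finset ℕ) (hσ : ∀ i ∈ J, σ i ∈ P.S)
    (n : G) (hn : n ∈ subN P (σ '' (J : Set ℕ)))
    (h1 : ∀ j ∈ J, ¬ Pp P (σ j) n⁻¹)
    (h2 : ∀ m ∈ subN P (σ '' (J : Set ℕ)), (∀ j ∈ J, ¬ Pp P (σ j) m) →
      ∀ j ∈ J, Pp P (σ j) (m * n))
    (hE : P.parabolic (σ '' (J : Set ℕ)) ≤ Subgroup.normalizer
      (((P.B ⊓ P.B.map (MulAut.conj n).toMonoidHom) ⊓ U : Subgroup G) : Set G))
    (hH : H ≤ P.B.map (MulAut.conj n).toMonoidHom) :
    sumOver (P.parabolic (σ '' (J : Set ℕ))) (IsPElt p)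
      (relSt (fun K => P.parabolic (σ '' (K : Set ℕ))) J) = (Nat.card ↥U : ℤ) := by
  classical
  set X : Subgroup G := P.parabolic (σ '' (J : Set ℕ)) with hX
  set Dn : Subgroup G := P.B ⊓ P.B.map (MulAut.conj n).toMonoidHom with hDn
  have hBX : P.B ≤ X := by
    rw [hX]; unfold Cfsg.BNPair.parabolic; exact le_sup_left
  have hUB : U ≤ P.B := by rw [hBsup]; exact le_sup_left
  have hHB : H ≤ P.B := by rw [hBsup]; exact le_sup_right
  have hUn : P.B ≤ Subgroup.normalizer (U : Set G) := by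
    rw [hBsup]
    exact sup_le Subgroup.le_normalizer hHn
  have hHD : H ≤ Dn := le_inf hHB hH
  have hcard := relIndex_card P.B U H Dn hBsup hHn hUH hHD inf_le_left
  exact sum_tau p X P.B U Dn hBX hUB inf_le_left hUn
    (fun u hu => pelt_of_mem p S u (by rw [hS]; exact hu))
    (fun g hg hp => by
      have := sylow_conj_into p S X (by rw [hS]; exact le_trans hUB hBX) g hg hp
      rwa [hS] at this)
    hE hcard
    (relSt (fun K => P.parabolic (σ '' (K : Set ℕ))) J)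
    (fun x hx g _ => uniabs_relSt_conj (fun K => P.parabolic (σ '' (K : Set ℕ))) J x g hx)
    (fun b hb => rel_st_value P J σ hσ hn h1 h2 b hb)

/-- abstract MAIN: the number of `p`-elements of a finite group with a split (B,N)-pair of
characteristic `p` is `|U| ^ 2` -/
theorem uniabs_main [Finite G] (p : ℕ) [Fact p.Prime] (P : Cfsg.BNPair G) (R : Finset ℕ)
    (σ : ℕ → G) (hσ : ∀ i ∈ R, σ i ∈ P.S)
    (U H : Subgroup G) (S : Sylow p G) (hS : (S : Subgroup G) = U)
    (hBsup : P.B = U ⊔ H) (hHn : H ≤ Subgroup.normalizer (U : Set G)) (hUH : U ⊓ H = ⊥)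
    (hn : ∀ J ⊆ R, ∃ n : G, n ∈ subN P (σ '' (J : Set ℕ)) ∧
      (∀ j ∈ J, ¬ Pp P (σ j) n⁻¹) ∧
      (∀ m ∈ subN P (σ '' (J : Set ℕ)), (∀ j ∈ J, ¬ Pp P (σ j) m) →
        ∀ j ∈ J, Pp P (σ j) (m * n)) ∧
      P.parabolic (σ '' (J : Set ℕ)) ≤ Subgroup.normalizer
        (((P.B ⊓ P.B.map (MulAut.conj n).toMonoidHom) ⊓ U : Subgroup G) : Set G) ∧
      H ≤ P.B.map (MulAut.conj n).toMonoidHom)
    (htop : P.parabolic (σ '' (R : Set ℕ)) = ⊤)
    (hst : ∑ K ∈ R.powerset, (-1 : ℤ) ^ K.card *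
      ((P.parabolic (σ '' (K : Set ℕ))).index : ℤ) = (Nat.card ↥U : ℤ)) :
    Nat.card {g : G // ∃ k : ℕ, orderOf g = p ^ k} = Nat.card ↥U ^ 2 := by
  classical
  let _inst : Fintype G := Fintype.ofFinite _
  set q : ℤ := (Nat.card ↥U : ℤ) with hq
  let Q : Finset ℕ → Subgroup G := fun K => P.parabolic (σ '' (K : Set ℕ))
  let c : Finset ℕ → ℤ := fun K => (Nat.card {g : G // g ∈ Q K ∧ IsPElt p g} : ℤ)
  let idx : Finset ℕ → Finset ℕ → ℤ := fun J K => ((Q K).relIndex (Q J) : ℤ)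
  have hmono : ∀ K J : Finset ℕ, K ⊆ J → Q K ≤ Q J := fun K J h => uniabs_par_mono P σ K J h
  have hid : ∀ J ⊆ R, idx J J = 1 := by
    intro J _
    show ((Q J).relIndex (Q J) : ℤ) = 1
    rw [Subgroup.relIndex_self]
    rfl
  have hmul : ∀ J ⊆ R, ∀ K ⊆ J, ∀ L ⊆ K, idx J K * idx K L = idx J L := by
    intro J _ K hK L hL
    show ((Q K).relIndex (Q J) : ℤ) * ((Q L).relIndex (Q K) : ℤ) = ((Q L).relIndex (Q J) : ℤ)
    rw [mul_comm]
    exact_mod_cast Subgroup.relIndex_mul_relIndex (Q L) (Q K) (Q J) (hmono L K hL) (hmono K J hK)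
  have hsum : ∀ J ⊆ R, ∑ K ∈ J.powerset, (-1 : ℤ) ^ K.card * idx J K * c K = q := by
    intro J hJ
    obtain ⟨n, hnN, h1, h2, hE, hH⟩ := hn J hJ
    have h4 := uniabs_sum_pJ p P σ U H S hS hBsup hHn hUH J (fun i hi => hσ i (hJ hi)) n hnN
      h1 h2 hE hH
    rw [hq, ← h4]
    unfold relSt
    rw [uniabs_sumOver_sum]
    apply Finset.sum_congr rfl
    intro K hK
    rw [Finset.mem_powerset] at hK
    rw [uniabs_sumOver_mul, sum_relFix (Q J) (Q K) (hmono K J hK) (IsPElt p)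
      (fun x _ g hg => uniabs_pelt_conj p x g hg), mul_assoc]
  have hM := moebius_ind R idx c q hid hmul hsum R (Finset.Subset.refl R)
  have htop' : Q R = ⊤ := htop
  have hidx : ∀ K, idx R K = ((P.parabolic (σ '' (K : Set ℕ))).index : ℤ) := by
    intro K
    show ((Q K).relIndex (Q R) : ℤ) = _
    rw [htop', Subgroup.relIndex_top_right]
  have hc : c R = q * q := by
    rw [hM]
    congr 1
    rw [← hst]
    apply Finset.sum_congr rfl
    intro K _
    rw [hidx]
  have hcR : c R = (Nat.card {g : G // ∃ k : ℕ, orderOf g = p ^ k} : ℤ) := by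
    show (Nat.card {g : G // g ∈ Q R ∧ IsPElt p g} : ℤ) = _
    congr 1
    apply Nat.card_congr
    apply Equiv.subtypeEquivRight
    intro g
    rw [htop']
    constructor
    · rintro ⟨_, h⟩; exact h
    · intro h; exact ⟨Subgroup.mem_top g, h⟩
  have hfin : (Nat.card {g : G // ∃ k : ℕ, orderOf g = p ^ k} : ℤ) =
      ((Nat.card ↥U ^ 2 : ℕ) : ℤ) := by
    rw [← hcR, hc, hq]
    push_cast
    ring
  exact_mod_cast hfin

end Cfsg.Agent.Lib.Helper5.UNI
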