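import Mathlib
import Cfsg.Agent.Lib.helper7.CED.Defs
import Cfsg.Agent.Lib.Helper22.CECG1

/-!
# Project CED (designer helper7; S2096 + S2097), rows G2 (`CL_w CL_h`) and G3 (`CL_tor`), VERBATIM (helper5).
Ports of the CEC rows G2 (`Helper22.CECG1`) and G3 (`helper23.CECG3`) to `SysD`.
-/

set_option autoImplicit false

namespace Cfsg.Agent.Lib.helper7.CED

open Cfsg.Agent.Lib.helper15.St2 Cfsg.Agent.Lib.helper7.Ce Cfsg.Agent.Lib.helper3.STC Cfsg.Agent.Lib.Lead.STD
  Cfsg.Agent.Lib.helper7.CEC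

section G

variable {K : Type*} [Field K] {ι : Type*} {Γ G : Type*} [Group Γ] [Group G] {S : SysD K ι G} {σ : Γ →* G}

/-- G2 [S]  model CEC G2 (`Helper22.CECG1`): `S.w c d u` and `S.h c d u` are products of root elements `x c d _`, `x d c _` (`unfold SysD.w SysD.h`, `IsCE.CL_mul_left`). -/
theorem CL_w (h : IsCE σ) {c d : ι ⊕ ι} {y : G} (hcd : ∀ t, CL σ (S.x c d t) y) (hdc : ∀ t, CL σ (S.x d c t) y) (u : K) :
    CL σ (S.w c d u) y := by
  unfold SysD.w
  exact h.CL_mul_left (h.CL_mul_left (hcd u) (hdc _)) (hcd u)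

theorem CL_h (h : IsCE σ) {c d : ι ⊕ ι} {y : G} (hcd : ∀ t, CL σ (S.x c d t) y) (hdc : ∀ t, CL σ (S.x d c t) y) (u : K) :
    CL σ (S.h c d u) y := by
  unfold SysD.h
  exact h.CL_mul_left (CL_w h hcd hdc u) (CL_w h hcd hdc (-1))

/-- G3 [S-M]  model CEC G3 (`helper23.CECG3`): the torus trick for two root elements: `IsCE.torus` with `x := S.x c d`, `w := S.x a b t`, `c := dd c * (dd d)⁻¹`; `hg.2` gives the action of `g`
(`Equiv.Perm.one_apply`); `cj g w = w` from `hfix` (`one_mul`).  Conclude with `CL.symm`. -/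
theorem CL_tor (h : IsCE σ) {a b c d : ι ⊕ ι} (hab : a ≠ b) (hcd : c ≠ d) (hcd' : c ≠ ng d) (g : G) (dd : ι ⊕ ι → K) (hg : S.IsMon g 1 dd)
    (hfix : dd a * (dd b)⁻¹ = 1) (hsc : dd c * (dd d)⁻¹ ≠ 1)
    (hcomm : ∀ t u, S.x a b t * S.x c d u = S.x c d u * S.x a b t) (t u : K) :
    CL σ (S.x a b t) (S.x c d u) := by
  have key := h.torus (fun u => S.x c d u) (fun s t' => (S.add c d hcd hcd' s t').symm) (S.x a b t) g
    (dd c * (dd d)⁻¹) hsc (fun u' => (hcomm t u').symm)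
    (fun u' => by
      have := hg.2 c d hcd u'
      simpa using this)
    (by
      have := hg.2 a b hab t
      rw [hfix, one_mul] at this
      simpa using this)
  exact (key u).symm

end G

end Cfsg.Agent.Lib.helper7.CED
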