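import Mathlib
import Cfsg.Prelude.Def_KGroupFacts

set_option autoImplicit false

/-! Transport of the description of the Schur multiplier through stem extensions along an
isomorphism onto a group in the lowest universe. -/

namespace Cfsg.Agent.Lib.Helper5.Stem

universe u w

/-- the kernel of a composite with an isomorphism on the right -/
def kerCompEquiv {Γ' Γ G : Type*} [Group Γ'] [Group Γ] [Group G] (f : Γ' ≃* Γ) (σ : Γ →* G) :
    (σ.comp f.toMonoidHom).ker ≃* σ.ker where
  toFun x := ⟨f x.1, by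
    have := x.2
    rw [MonoidHom.mem_ker] at this ⊢
    exact this⟩
  invFun y := ⟨f.symm y.1, by
    rw [MonoidHom.mem_ker, MonoidHom.comp_apply]
    show σ (f (f.symm y.1)) = 1
    rw [MulEquiv.apply_symm_apply]
    exact y.2⟩
  left_inv x := Subtype.ext (f.symm_apply_apply x.1)
  right_inv y := Subtype.ext (f.apply_symm_apply y.1)
  map_mul' x y := Subtype.ext (map_mul f x.1 y.1)

/-- a composite with an isomorphism on the left has the same kernel -/
theorem ker_comp_equiv {Γ G H : Type*} [Group Γ] [Group G] [Group H] (e : G ≃* H) (σ : Γ →* G) :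
    (e.toMonoidHom.comp σ).ker = σ.ker := by
  ext x
  rw [MonoidHom.mem_ker, MonoidHom.mem_ker, MonoidHom.comp_apply]
  exact MulEquiv.map_eq_one_iff e

theorem stem_comp_equiv_left {Γ G H : Type*} [Group Γ] [Group G] [Group H] (e : G ≃* H)
    (σ : Γ →* G) (hσ : Cfsg.IsStemExtension σ) : Cfsg.IsStemExtension (e.toMonoidHom.comp σ) := by
  obtain ⟨hsurj, hcen, hder⟩ := hσ
  refine ⟨e.surjective.comp hsurj, ?_, ?_⟩
  · rw [ker_comp_equiv]; exact hcen
  · rw [ker_comp_equiv]; exact hder

theorem stem_comp_equiv_right {Γ' Γ G : Type*} [Group Γ'] [Group Γ] [Group G] (f : Γ' ≃* Γ)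
    (σ : Γ →* G) (hσ : Cfsg.IsStemExtension σ) : Cfsg.IsStemExtension (σ.comp f.toMonoidHom) := by
  obtain ⟨hsurj, hcen, hder⟩ := hσ
  refine ⟨hsurj.comp f.surjective, ?_, ?_⟩
  · intro x hx
    have hx' : f x ∈ σ.ker := by
      rw [MonoidHom.mem_ker] at hx ⊢
      exact hx
    have hc := hcen hx'
    rw [Subgroup.mem_center_iff] at hc ⊢
    intro g
    apply f.injective
    rw [map_mul, map_mul]
    exact hc (f g)
  · intro x hx
    have hx' : f x ∈ σ.ker := by
      rw [MonoidHom.mem_ker] at hx ⊢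
      exact hx
    have hd := hder hx'
    have hmap : (commutator Γ').map f.toMonoidHom = commutator Γ := by
      rw [commutator_def, commutator_def, Subgroup.map_commutator]
      have : (⊤ : Subgroup Γ').map f.toMonoidHom = ⊤ := by
        rw [← MonoidHom.range_eq_map, MonoidHom.range_eq_top]
        exact f.surjective
      rw [this]
    rw [← hmap] at hd
    obtain ⟨y, hy, hyx⟩ := hd
    have : y = x := f.injective hyx
    rw [← this]
    exact hy

/-- the description of the Schur multiplier through stem extensions, transported along an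
isomorphism onto a group in the lowest universe -/
theorem hasSchurMultiplier_of_equiv {G : Type u} [Group G] {H : Type} [Group H] (e : G ≃* H)
    (A : Type w) [CommGroup A]
    (hex : ∃ (Γ : Type) (_ : Group Γ) (_ : Finite Γ) (σ : Γ →* H),
      Cfsg.IsStemExtension σ ∧ Nonempty (σ.ker ≃* A))
    (hub : ∀ (Γ : Type u) [Group Γ] [Finite Γ] (σ : Γ →* H), Cfsg.IsStemExtension σ →
      ∃ π : A →* σ.ker, Function.Surjective π) :
    Cfsg.HasSchurMultiplier G A := by
  constructor
  · obtain ⟨Γ, iG, iF, σ, hσ, ⟨k⟩⟩ := hex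
    let f : ULift.{u} Γ ≃* Γ := MulEquiv.ulift
    let σ₁ : ULift.{u} Γ →* H := σ.comp f.toMonoidHom
    have h1 : Cfsg.IsStemExtension σ₁ := stem_comp_equiv_right f σ hσ
    let σ₂ : ULift.{u} Γ →* G := e.symm.toMonoidHom.comp σ₁
    have h2 : Cfsg.IsStemExtension σ₂ := stem_comp_equiv_left e.symm σ₁ h1
    have hk : σ₂.ker = σ₁.ker := ker_comp_equiv e.symm σ₁
    refine ⟨ULift.{u} Γ, inferInstance, inferInstance, σ₂, h2, ?_⟩
    exact ⟨(MulEquiv.subgroupCongr hk).trans ((kerCompEquiv f σ).trans k)⟩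
  · intro Γ _ _ σ hσ
    let σ' : Γ →* H := e.toMonoidHom.comp σ
    have h' : Cfsg.IsStemExtension σ' := stem_comp_equiv_left e σ hσ
    have hk : σ'.ker = σ.ker := ker_comp_equiv e σ
    obtain ⟨π, hπ⟩ := hub Γ σ' h'
    refine ⟨(MulEquiv.subgroupCongr hk).toMonoidHom.comp π, ?_⟩
    exact (MulEquiv.subgroupCongr hk).surjective.comp hπ

end Cfsg.Agent.Lib.Helper5.Stem
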