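import Mathlib
import Cfsg.Agent.Lib.Helper19.U3P.Defs

/-!
# U3P F10 (core): `aeval ν` is onto `F` for `ν = D.nu` (`q ∉ {2, 5, 8}`).
`u3pf10_arith`: the arithmetic; `u3pf10_field`: the statement in the field; `u3pf10_core`: F10 with the
statements of F6 (`aeval_surj_of_pow_ne`) and F7 (`par_basic`, parts 3 and 7) as hypotheses.
-/

set_option autoImplicit false

namespace Cfsg.Agent.Lib.Helper19.U3P

open Cfsg.Agent.Lib.helper17.SLP Cfsg.Agent.Lib.helper14.SU3J Cfsg.Agent.Lib.Helper25.SU3P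
open Polynomial Matrix

universe u v

/-- arithmetic core of F10: if `o * g = q + 1`, `g ∣ 3`, `o ∣ p^s - 1`, `q = p^e`, `0 < s < 2e`,
then `q ∈ {2, 5, 8}` (here: contradiction with `4 ≤ q`, `q ≠ 5`, `q ≠ 8`). -/
theorem u3pf10_arith (p e s o g q : ℕ) (hp : p.Prime) (hqe : q = p ^ e) (hs0 : 0 < s) (hs : s < 2 * e)
    (hog : o * g = q + 1) (hg : g ∣ 3) (ho : o ∣ p ^ s - 1) (hq : 4 ≤ q) (h5 : q ≠ 5) (h8 : q ≠ 8) :
    False := by
  have hp2 : 2 ≤ p := hp.two_le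
  have hg3 : g ≤ 3 := Nat.le_of_dvd (by norm_num) hg
  have hg0 : 0 < g := Nat.pos_of_dvd_of_pos hg (by norm_num)
  have ho0 : 0 < o := by
    rcases Nat.eq_zero_or_pos o with h | h
    · rw [h, zero_mul] at hog; omega
    · exact h
  have hoq : o ∣ q + 1 := ⟨g, hog.symm⟩
  -- `o ∣ p^(2e) - 1`
  have hq2 : p ^ (2 * e) - 1 = (q - 1) * (q + 1) := by
    have hq1 : 1 ≤ q := by omega
    have : p ^ (2 * e) = q * q := by rw [hqe, ← pow_add]; congr 1; ring
    rw [this]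
    zify [hq1, Nat.one_le_iff_ne_zero.mpr (by positivity : q * q ≠ 0)]
    ring
  have ho2 : o ∣ p ^ (2 * e) - 1 := by rw [hq2]; exact Dvd.dvd.mul_left hoq _
  have hgcd : o ∣ p ^ Nat.gcd s (2 * e) - 1 := by
    rw [← Nat.pow_sub_one_gcd_pow_sub_one]
    exact Nat.dvd_gcd ho ho2
  set t := Nat.gcd s (2 * e) with ht
  have ht0 : 0 < t := Nat.gcd_pos_of_pos_left _ hs0
  have hts : t ≤ s := Nat.gcd_le_left _ hs0
  have ht2e : t ∣ 2 * e := Nat.gcd_dvd_right _ _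
  obtain ⟨m, hm⟩ := ht2e
  have hm2 : 2 ≤ m := by
    by_contra hlt
    have : m = 0 ∨ m = 1 := by omega
    rcases this with h | h
    · rw [h, mul_zero] at hm; omega
    · rw [h, mul_one] at hm; omega
  have hpt1 : 2 ≤ p ^ t := by
    calc 2 ≤ p := hp2
      _ = p ^ 1 := (pow_one p).symm
      _ ≤ p ^ t := Nat.pow_le_pow_right (by omega) ht0
  have hole : o ≤ p ^ t - 1 := Nat.le_of_dvd (by omega) hgcd
  rcases Nat.lt_or_ge m 3 with hm3 | hm3
  · -- `m = 2`, `t = e`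
    have hm' : m = 2 := by omega
    have hte : t = e := by rw [hm'] at hm; omega
    rw [hte, ← hqe] at hgcd
    -- `o ∣ q - 1` and `o ∣ q + 1`, so `o ∣ 2`
    have h2 : o ∣ 2 := by
      have : o ∣ (q + 1) - (q - 1) := Nat.dvd_sub hoq hgcd
      have e2 : (q + 1) - (q - 1) = 2 := by omega
      rwa [e2] at this
    have ho2' : o ≤ 2 := Nat.le_of_dvd (by norm_num) h2
    have : q + 1 ≤ 6 := by
      calc q + 1 = o * g := hog.symm
        _ ≤ 2 * 3 := Nat.mul_le_mul ho2' hg3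
    have hq4 : q = 4 := by omega
    rw [hq4] at hog
    -- `o * g = 5`, `o ≤ 2`, `g ∣ 3`
    have hgc : g = 1 ∨ g = 3 := by
      have := (Nat.dvd_prime Nat.prime_three).mp hg
      exact this
    rcases hgc with h | h
    · rw [h, mul_one] at hog; omega
    · rw [h] at hog; omega
  · -- `3 t ≤ 2 e`
    have h3t : 3 * t ≤ 2 * e := by
      calc 3 * t = t * 3 := by ring
        _ ≤ t * m := Nat.mul_le_mul_left _ hm3
        _ = 2 * e := hm.symm
    have hr3 : (p ^ t) ^ 3 ≤ q ^ 2 := by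
      rw [hqe, ← pow_mul, ← pow_mul]
      apply Nat.pow_le_pow_right (by omega)
      calc t * 3 = 3 * t := by ring
        _ ≤ 2 * e := h3t
        _ = e * 2 := by ring
    have hq1 : q + 1 ≤ 3 * (p ^ t - 1) := by
      calc q + 1 = o * g := hog.symm
        _ ≤ (p ^ t - 1) * 3 := Nat.mul_le_mul hole hg3
        _ = 3 * (p ^ t - 1) := by ring
    set r := p ^ t with hr
    have hq4 : q + 4 ≤ 3 * r := by omega
    have hcube : (q + 4) ^ 3 ≤ 27 * q ^ 2 := by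
      calc (q + 4) ^ 3 ≤ (3 * r) ^ 3 := Nat.pow_le_pow_left hq4 3
        _ = 27 * r ^ 3 := by ring
        _ ≤ 27 * q ^ 2 := Nat.mul_le_mul_left _ hr3
    -- `(q + 4)^3 - 27 q^2 = (q - 8)^2 (q + 1) > 0`
    have hz : ((q : ℤ) + 4) ^ 3 ≤ 27 * (q : ℤ) ^ 2 := by exact_mod_cast hcube
    have hne : ((q : ℤ) - 8) ≠ 0 := by
      intro h
      apply h8
      omega
    have hsq : 1 ≤ ((q : ℤ) - 8) ^ 2 := by
      have := sq_pos_of_ne_zero hne  -- 0 < (q-8)^2
      omega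
    have hq0 : (0 : ℤ) ≤ (q : ℤ) := Int.natCast_nonneg q
    nlinarith [hsq, hq0]

/-- field core of F10 -/
theorem u3pf10_field {F : Type*} [Field F] [Fintype F] (q : ℕ) (hF : Fintype.card F = q ^ 2)
    (hq : 4 ≤ q) (h5 : q ≠ 5) (h8 : q ≠ 8) (p : ℕ) [Fact p.Prime] [Algebra (ZMod p) F] (η ν : F)
    (hη : orderOf η = q + 1) (hν : ν = η ^ 3) :
    ∀ s : ℕ, 0 < s → s < Module.finrank (ZMod p) F → ν ^ (p ^ s) ≠ ν := by
  intro s hs0 hsn hpow
  have hp : p.Prime := Fact.out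
  have hcard : Fintype.card F = p ^ Module.finrank (ZMod p) F := by
    rw [Module.card_eq_pow_finrank (K := ZMod p) (V := F), ZMod.card]
  set n := Module.finrank (ZMod p) F with hn
  have hq2 : q ^ 2 = p ^ n := by rw [← hF, hcard]
  obtain ⟨e, _, hqe⟩ := (Nat.dvd_prime_pow hp).1 (show q ∣ p ^ n from hq2 ▸ Dvd.intro_left (q ^ 1) (by ring))
  have hn2 : n = 2 * e := by
    have : p ^ (2 * e) = p ^ n := by rw [← hq2, hqe, ← pow_mul]; congr 1; ring
    exact (Nat.pow_right_injective hp.two_le this).symm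
  have hη0 : η ≠ 0 := by
    intro h0
    have := pow_orderOf_eq_one η
    rw [hη, h0, zero_pow (by omega)] at this
    exact zero_ne_one this
  have hν0 : ν ≠ 0 := by rw [hν]; exact pow_ne_zero _ hη0
  have ho : orderOf ν = (q + 1) / Nat.gcd (q + 1) 3 := by rw [hν, orderOf_pow' η (by norm_num : (3:ℕ) ≠ 0), hη]
  have hog : orderOf ν * Nat.gcd (q + 1) 3 = q + 1 := by
    rw [ho]; exact Nat.div_mul_cancel (Nat.gcd_dvd_left _ _)
  have hps : 1 ≤ p ^ s := Nat.one_le_pow _ _ hp.pos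
  have h1 : ν ^ (p ^ s - 1) = 1 := by
    have : ν * ν ^ (p ^ s - 1) = ν * 1 := by
      rw [← pow_succ', Nat.sub_add_cancel hps, mul_one, hpow]
    exact mul_left_cancel₀ hν0 this
  have hdvd : orderOf ν ∣ p ^ s - 1 := orderOf_dvd_of_pow_eq_one h1
  exact u3pf10_arith p e s (orderOf ν) (Nat.gcd (q + 1) 3) q hp hqe hs0 (hn2 ▸ hsn) hog
    (Nat.gcd_dvd_right _ _) hdvd hq h5 h8

section F

variable {F : Type u} [Field F] [Fintype F] {K : Type u} [Field K] [Fintype K] {q : ℕ}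

/-- F10 core: F6 and the two used parts of F7 as hypotheses. -/
theorem u3pf10_core (D : Par F K q) (hF : Fintype.card F = q ^ 2) (hq : 4 ≤ q) (h5 : q ≠ 5)
    (h8 : q ≠ 8) (p : ℕ) [Fact p.Prime] [Algebra (ZMod p) F]
    (hF6 : ∀ x : F, (∀ s : ℕ, 0 < s → s < Module.finrank (ZMod p) F → x ^ (p ^ s) ≠ x) →
      Function.Surjective (fun f : (ZMod p)[X] => aeval x f))
    (hF7 : D.nu = (D.σ (D.ζ : F) / (D.ζ : F)) ^ 3 ∧
      orderOf (D.σ (D.ζ : F) / (D.ζ : F)) = q + 1) :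
    Function.Surjective (fun f : (ZMod p)[X] => aeval D.nu f) :=
  hF6 D.nu (u3pf10_field q hF hq h5 h8 p _ D.nu hF7.2 hF7.1)

end F

end Cfsg.Agent.Lib.Helper19.U3P
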