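import Mathlib
import Cfsg.Agent.Lib.Helper19.U3P.Defs

/-!
# U3P F13 (core): coset representatives of `zpowers al` in `Fˣ`.
`u3pf13_field`: the statement in the field; `u3pf13_core`: F13 with the statements of F7 (`par_basic`,
parts 1, 5, 7) and F8 (`nu_ne`, part 3) as hypotheses.
-/

set_option autoImplicit false

namespace Cfsg.Agent.Lib.Helper19.U3P

universe u v

section
variable {F : Type*} [Field F] [Fintype F]

omit [Fintype F] in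
/-- cube roots of unity: if `ω³ = 1`, `ω ≠ 1` then every `c` with `c³ = 1` is `1`, `ω` or `ω²`. -/
theorem u3pf13_cube_roots (ω c : F) (hω : ω ^ 3 = 1) (hω1 : ω ≠ 1) (hc : c ^ 3 = 1) :
    c = 1 ∨ c = ω ∨ c = ω ^ 2 := by
  have h1 : ω ^ 2 + ω + 1 = 0 := by
    have : (ω - 1) * (ω ^ 2 + ω + 1) = 0 := by ring_nf; linear_combination hω
    rcases mul_eq_zero.mp this with h | h
    · exact absurd (sub_eq_zero.mp h) hω1
    · exact h
  have h2 : (c - 1) * ((c - ω) * (c - ω ^ 2)) = 0 := by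
    have : (c - 1) * ((c - ω) * (c - ω ^ 2)) = c ^ 3 - 1 - (c - 1) * c * (ω ^ 2 + ω + 1)
        + (c - 1) * (ω ^ 3 - 1) := by ring
    rw [this, hc, hω, h1]; ring
  rcases mul_eq_zero.mp h2 with h | h
  · exact Or.inl (sub_eq_zero.mp h)
  · rcases mul_eq_zero.mp h with h | h
    · exact Or.inr (Or.inl (sub_eq_zero.mp h))
    · exact Or.inr (Or.inr (sub_eq_zero.mp h))

variable (q : ℕ) (ζ : Fˣ)

/-- `a = ζ² / ζ^q` as a unit -/
def u3pf13_a : Fˣ := ζ ^ 2 * (ζ ^ q)⁻¹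

theorem u3pf13_zeta_pow (hF : Fintype.card F = q ^ 2) : ζ ^ (q ^ 2 - 1) = 1 := by
  have : Nat.card Fˣ = q ^ 2 - 1 := by rw [Nat.card_units, Nat.card_eq_fintype_card, hF]
  rw [← this]
  exact pow_card_eq_one'

/-- `ζ³ = a^(q+2)` -/
theorem u3pf13_a_pow (hF : Fintype.card F = q ^ 2) (hq : 1 ≤ q) :
    (u3pf13_a q ζ) ^ (q + 2) = ζ ^ 3 := by
  unfold u3pf13_a
  rw [mul_pow, inv_pow, ← pow_mul, ← pow_mul, mul_inv_eq_iff_eq_mul, ← pow_add]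
  have h1 := u3pf13_zeta_pow q ζ hF
  have hq2 : 1 ≤ q ^ 2 := Nat.one_le_pow _ _ hq
  have e : 3 + q * (q + 2) = 2 * (q + 2) + (q ^ 2 - 1) := by
    zify [hq2]; ring
  rw [e, pow_add, h1, mul_one]

end

section
variable {F : Type*} [Field F] [Fintype F]
variable (q : ℕ) (ζ : Fˣ)

omit [Fintype F] in
theorem u3pf13_a_zpow : u3pf13_a q ζ = ζ ^ ((2 : ℤ) - q) := by
  unfold u3pf13_a
  rw [zpow_sub, zpow_natCast]
  rfl

/-- the subgroup generated by `a` contains `ζ^(3m + (2-q)n)` -/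
theorem u3pf13_mem (hF : Fintype.card F = q ^ 2) (hq : 1 ≤ q) (m n : ℤ) :
    ζ ^ (3 * m + ((2 : ℤ) - q) * n) ∈ Subgroup.zpowers (u3pf13_a q ζ) := by
  rw [zpow_add, zpow_mul, zpow_mul]
  apply Subgroup.mul_mem
  · apply Subgroup.zpow_mem
    have : ζ ^ (3 : ℤ) = (u3pf13_a q ζ) ^ (q + 2) := by
      rw [u3pf13_a_pow q ζ hF hq]; norm_cast
    rw [this]
    exact Subgroup.pow_mem _ (Subgroup.mem_zpowers _) _
  · apply Subgroup.zpow_mem
    rw [← u3pf13_a_zpow]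
    exact Subgroup.mem_zpowers _

/-- if `3 ∤ q + 1` then `a` generates -/
theorem u3pf13_gen (hF : Fintype.card F = q ^ 2) (hq : 4 ≤ q) (h3 : ¬ 3 ∣ q + 1)
    (hζ : ∀ y : Fˣ, y ∈ Subgroup.zpowers ζ) (y : Fˣ) : y ∈ Subgroup.zpowers (u3pf13_a q ζ) := by
  have hζa : ζ ∈ Subgroup.zpowers (u3pf13_a q ζ) := by
    have hmod : (q - 2) % 3 = 1 ∨ (q - 2) % 3 = 2 := by omega
    rcases hmod with h | h
    · -- q - 2 = 3c + 1
      obtain ⟨c, hc⟩ : ∃ c : ℕ, q - 2 = 3 * c + 1 := ⟨(q - 2) / 3, by omega⟩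
      have := u3pf13_mem q ζ hF (by omega) (-(c : ℤ)) (-1)
      have e : 3 * (-(c : ℤ)) + ((2 : ℤ) - q) * (-1) = 1 := by
        have : (q : ℤ) = 3 * c + 3 := by omega
        rw [this]; ring
      rwa [e, zpow_one] at this
    · obtain ⟨c, hc⟩ : ∃ c : ℕ, q - 2 = 3 * c + 2 := ⟨(q - 2) / 3, by omega⟩
      have := u3pf13_mem q ζ hF (by omega) ((c : ℤ) + 1) 1
      have e : 3 * ((c : ℤ) + 1) + ((2 : ℤ) - q) * 1 = 1 := by
        have : (q : ℤ) = 3 * c + 4 := by omega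
        rw [this]; ring
      rwa [e, zpow_one] at this
  obtain ⟨k, rfl⟩ := Subgroup.mem_zpowers_iff.mp (hζ y)
  exact Subgroup.zpow_mem _ hζa k

/-- if `3 ∣ q + 1` then the kernel of `x ↦ x^((q²-1)/3)` lies in the subgroup generated by `a` -/
theorem u3pf13_ker (hF : Fintype.card F = q ^ 2) (hq : 4 ≤ q) (h3 : 3 ∣ q + 1)
    (hζ : ∀ y : Fˣ, y ∈ Subgroup.zpowers ζ) (y : Fˣ) (hy : y ^ ((q ^ 2 - 1) / 3) = 1) :
    y ∈ Subgroup.zpowers (u3pf13_a q ζ) := by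
  obtain ⟨N, hN⟩ : ∃ N : ℕ, q ^ 2 - 1 = 3 * N := by
    obtain ⟨c, hc⟩ := h3
    refine ⟨(q - 1) * c, ?_⟩
    have h1 : 1 ≤ q ^ 2 := Nat.one_le_pow _ _ (by omega)
    have hq1 : 1 ≤ q := by omega
    zify [h1, hq1]
    have : (q : ℤ) + 1 = 3 * c := by exact_mod_cast hc
    linear_combination ((q : ℤ) - 1) * this
  have hN0 : 0 < N := by
    rcases Nat.eq_zero_or_pos N with h | h
    · rw [h, mul_zero] at hN
      have : 16 ≤ q ^ 2 := by nlinarith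
      omega
    · exact h
  have hord : orderOf ζ = q ^ 2 - 1 := by
    rw [orderOf_eq_card_of_forall_mem_zpowers hζ, Nat.card_units, Nat.card_eq_fintype_card, hF]
  obtain ⟨k, rfl⟩ := Subgroup.mem_zpowers_iff.mp (hζ y)
  rw [hN, Nat.mul_div_cancel_left _ (by norm_num : 0 < 3), ← zpow_natCast, ← zpow_mul] at hy
  have hdvd := (orderOf_dvd_iff_zpow_eq_one).mpr hy
  rw [hord, hN] at hdvd
  -- `3N ∣ kN`, so `3 ∣ k`
  have h3k : (3 : ℤ) ∣ k := by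
    have hN' : (N : ℤ) ≠ 0 := by exact_mod_cast hN0.ne'
    have : ((3 : ℤ) * N) ∣ k * N := by exact_mod_cast hdvd
    rw [mul_comm (3 : ℤ) N, mul_comm k] at this
    exact (mul_dvd_mul_iff_left hN').mp this
  obtain ⟨j, rfl⟩ := h3k
  have := u3pf13_mem q ζ hF (by omega) j 0
  rwa [mul_zero, add_zero] at this

end

section
variable {F : Type*} [Field F] {K : Type*} [Field K]

/-- the representative attached to a norm-one element `y ≠ 1` -/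
theorem u3pf13_rep (q : ℕ) (hq : 1 ≤ q) (σ : F →+* F) (hσ : ∀ x, σ x = x ^ q) (hss : ∀ x, σ (σ x) = x)
    (ι : K →+* F) (hι : ∀ x : F, σ x = x ↔ ∃ y : K, ι y = x)
    (γ0 β0 : F) (hγ : σ γ0 = -γ0) (hγ0 : γ0 ≠ 0) (hβ0 : β0 + σ β0 + 1 = 0)
    (y : F) (hy1 : y ≠ 1) (hy0 : y ≠ 0) (hyN : y * σ y = 1) :
    ∃ s : K, σ β0 - γ0 * ι s ≠ 0 ∧ (γ0 / (σ β0 - γ0 * ι s)) ^ (q - 1) = y := by
  have hσy : σ y = y⁻¹ := eq_inv_of_mul_eq_one_right hyN
  have hy1' : y - 1 ≠ 0 := sub_ne_zero.mpr hy1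
  have hyi : y⁻¹ - 1 ≠ 0 := by
    intro h
    apply hy1
    have : y⁻¹ = 1 := sub_eq_zero.mp h
    rw [inv_eq_one] at this
    exact this
  set β' : F := -y / (y - 1) with hβ'
  have hσβ' : σ β' = 1 / (y - 1) := by
    rw [hβ', map_div₀, map_neg, map_sub, map_one, hσy]
    field_simp
    ring
  have htr : β' + σ β' = -1 := by
    rw [hσβ', hβ']
    field_simp
    ring
  have hβ'0 : β' ≠ 0 := by
    rw [hβ']
    exact div_ne_zero (neg_ne_zero.mpr hy0) hy1'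
  have hσβ'0 : σ β' ≠ 0 := by
    rw [hσβ']
    exact one_div_ne_zero hy1'
  -- the parameter
  have hfix : σ ((σ β0 - β') / γ0) = (σ β0 - β') / γ0 := by
    rw [map_div₀, map_sub, hss, hγ]
    have h1 : β0 - σ β' = -(σ β0 - β') := by
      have : β0 + σ β0 = β' + σ β' := by rw [htr]; linear_combination hβ0
      linear_combination this
    rw [h1]
    field_simp
  obtain ⟨s, hs⟩ := (hι _).mp hfix
  have hden : σ β0 - γ0 * ι s = β' := by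
    rw [hs]
    field_simp
    ring
  refine ⟨s, by rw [hden]; exact hβ'0, ?_⟩
  rw [hden]
  have hz0 : γ0 / β' ≠ 0 := div_ne_zero hγ0 hβ'0
  have hpow : (γ0 / β') ^ (q - 1) * (γ0 / β') = σ (γ0 / β') := by
    rw [← pow_succ, Nat.sub_add_cancel hq, hσ]
  have hσz : σ (γ0 / β') = -γ0 / σ β' := by rw [map_div₀, hγ]
  have : (γ0 / β') ^ (q - 1) = σ (γ0 / β') / (γ0 / β') := by
    rw [eq_div_iff hz0, hpow]
  rw [this, hσz, hσβ', hβ']
  field_simp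

end

section
variable {F : Type*} [Field F] [Fintype F] {K : Type*} [Field K]

/-- coercion of `a` -/
theorem u3pf13_a_val (q : ℕ) (ζ : Fˣ) (σ : F →+* F) (hσ : ∀ x, σ x = x ^ q) :
    ((u3pf13_a q ζ : Fˣ) : F) = (ζ : F) ^ 2 / σ (ζ : F) := by
  unfold u3pf13_a
  rw [Units.val_mul, Units.val_inv_eq_inv_val, Units.val_pow_eq_pow_val, Units.val_pow_eq_pow_val,
    hσ, div_eq_mul_inv]

/-- from membership in `zpowers a` to a power of `al` in the field -/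
theorem u3pf13_of_mem (q : ℕ) (ζ : Fˣ) (σ : F →+* F) (hσ : ∀ x, σ x = x ^ q) (x : F) (hx : x ≠ 0)
    (h : Units.mk0 x hx ∈ Subgroup.zpowers (u3pf13_a q ζ)) :
    ∃ i : ℤ, x = ((ζ : F) ^ 2 / σ (ζ : F)) ^ i := by
  obtain ⟨i, hi⟩ := Subgroup.mem_zpowers_iff.mp h
  refine ⟨i, ?_⟩
  have := congrArg (fun u : Fˣ => (u : F)) hi
  simp only [Units.val_zpow_eq_zpow_val, Units.val_mk0] at this
  rw [← u3pf13_a_val q ζ σ hσ, this]

/-- F13, field form -/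
theorem u3pf13_field (q : ℕ) (hF : Fintype.card F = q ^ 2) (hq : 4 ≤ q) (σ : F →+* F)
    (hσ : ∀ x, σ x = x ^ q) (hss : ∀ x, σ (σ x) = x)
    (ι : K →+* F) (hι : ∀ x : F, σ x = x ↔ ∃ y : K, ι y = x) (ζ : Fˣ)
    (hζ : ∀ y : Fˣ, y ∈ Subgroup.zpowers ζ)
    (γ0 β0 : F) (hγ : σ γ0 = -γ0) (hγ0 : γ0 ≠ 0) (hβ0 : β0 + σ β0 + 1 = 0)
    (hη : orderOf (σ (ζ : F) / (ζ : F)) = q + 1) :
    ∃ s₁ s₂ : K, ∀ x : F, x ≠ 0 → ∃ i : ℤ, x = ((ζ : F) ^ 2 / σ (ζ : F)) ^ i ∨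
      x = ((ζ : F) ^ 2 / σ (ζ : F)) ^ i * (γ0 / (σ β0 - γ0 * ι s₁)) ∨
      x = ((ζ : F) ^ 2 / σ (ζ : F)) ^ i * (γ0 / (σ β0 - γ0 * ι s₂)) := by
  by_cases h3 : 3 ∣ q + 1
  swap
  · refine ⟨0, 0, fun x hx => ?_⟩
    obtain ⟨i, hi⟩ := u3pf13_of_mem q ζ σ hσ x hx (u3pf13_gen q ζ hF hq h3 hζ _)
    exact ⟨i, Or.inl hi⟩
  · set η : F := σ (ζ : F) / (ζ : F) with hηdef
    have hζ0 : (ζ : F) ≠ 0 := ζ.ne_zero
    have hσζ0 : σ (ζ : F) ≠ 0 := by rw [hσ]; exact pow_ne_zero _ hζ0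
    have hη0 : η ≠ 0 := div_ne_zero hσζ0 hζ0
    have hηN : η * σ η = 1 := by
      rw [hηdef, map_div₀, hss]
      field_simp
    have hη1 : η ≠ 1 := by
      intro h
      have := orderOf_eq_one_iff.mpr h
      omega
    have hη2 : η ^ 2 ≠ 1 := by
      intro h
      have := Nat.le_of_dvd (by norm_num) (orderOf_dvd_of_pow_eq_one h)
      omega
    have hη2N : η ^ 2 * σ (η ^ 2) = 1 := by
      rw [map_pow, ← mul_pow, hηN, one_pow]
    obtain ⟨s₁, hd1, hp1⟩ := u3pf13_rep q (by omega) σ hσ hss ι hι γ0 β0 hγ hγ0 hβ0 η hη1 hη0 hηN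
    obtain ⟨s₂, hd2, hp2⟩ := u3pf13_rep q (by omega) σ hσ hss ι hι γ0 β0 hγ hγ0 hβ0 (η ^ 2) hη2
      (pow_ne_zero _ hη0) hη2N
    obtain ⟨M, hM⟩ := h3
    have hM0 : 0 < M := by omega
    have hdiv : (q ^ 2 - 1) / 3 = (q - 1) * M := by
      have h1 : 1 ≤ q ^ 2 := Nat.one_le_pow _ _ (by omega)
      have hq1 : 1 ≤ q := by omega
      have : q ^ 2 - 1 = 3 * ((q - 1) * M) := by
        zify [h1, hq1]
        have : (q : ℤ) + 1 = 3 * M := by exact_mod_cast hM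
        linear_combination ((q : ℤ) - 1) * this
      rw [this, Nat.mul_div_cancel_left _ (by norm_num : 0 < 3)]
    set ω : F := η ^ M with hωdef
    have hω3 : ω ^ 3 = 1 := by
      rw [hωdef, ← pow_mul, mul_comm, ← hM, ← hη]
      exact pow_orderOf_eq_one η
    have hω1 : ω ≠ 1 := pow_ne_one_of_lt_orderOf hM0.ne' (by rw [hη]; omega)
    set α₁ : F := γ0 / (σ β0 - γ0 * ι s₁) with hα₁
    set α₂ : F := γ0 / (σ β0 - γ0 * ι s₂) with hα₂
    have hα₁0 : α₁ ≠ 0 := div_ne_zero hγ0 hd1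
    have hα₂0 : α₂ ≠ 0 := div_ne_zero hγ0 hd2
    have hχ1 : α₁ ^ ((q - 1) * M) = ω := by rw [pow_mul, hp1]
    have hχ2 : α₂ ^ ((q - 1) * M) = ω ^ 2 := by rw [pow_mul, hp2, hωdef, ← pow_mul, ← pow_mul, mul_comm]
    refine ⟨s₁, s₂, fun x hx => ?_⟩
    -- the kernel
    have hker : ∀ z : F, z ≠ 0 → z ^ ((q - 1) * M) = 1 →
        ∃ i : ℤ, z = ((ζ : F) ^ 2 / σ (ζ : F)) ^ i := by
      intro z hz hz1
      apply u3pf13_of_mem q ζ σ hσ z hz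
      apply u3pf13_ker q ζ hF hq ⟨M, hM⟩ hζ
      rw [hdiv]
      apply Units.ext
      rw [Units.val_pow_eq_pow_val, Units.val_mk0, hz1, Units.val_one]
    have hc3 : (x ^ ((q - 1) * M)) ^ 3 = 1 := by
      rw [← pow_mul]
      have : (q - 1) * M * 3 = Fintype.card F - 1 := by
        rw [hF]
        have h1 : 1 ≤ q ^ 2 := Nat.one_le_pow _ _ (by omega)
        have hq1 : 1 ≤ q := by omega
        zify [h1, hq1]
        have : (q : ℤ) + 1 = 3 * M := by exact_mod_cast hM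
        linear_combination (-((q : ℤ) - 1)) * this
      rw [this]
      exact FiniteField.pow_card_sub_one_eq_one x hx
    rcases u3pf13_cube_roots ω _ hω3 hω1 hc3 with h | h | h
    · obtain ⟨i, hi⟩ := hker x hx h
      exact ⟨i, Or.inl hi⟩
    · have : (x / α₁) ^ ((q - 1) * M) = 1 := by
        rw [div_pow, h, hχ1, div_self]
        rw [← hχ1]; exact pow_ne_zero _ hα₁0
      obtain ⟨i, hi⟩ := hker (x / α₁) (div_ne_zero hx hα₁0) this
      refine ⟨i, Or.inr (Or.inl ?_)⟩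
      rw [← hi, div_mul_cancel₀ _ hα₁0]
    · have : (x / α₂) ^ ((q - 1) * M) = 1 := by
        rw [div_pow, h, hχ2, div_self]
        rw [← hχ2]; exact pow_ne_zero _ hα₂0
      obtain ⟨i, hi⟩ := hker (x / α₂) (div_ne_zero hx hα₂0) this
      refine ⟨i, Or.inr (Or.inr ?_)⟩
      rw [← hi, div_mul_cancel₀ _ hα₂0]

end

open Cfsg.Agent.Lib.helper17.SLP Cfsg.Agent.Lib.helper14.SU3J Cfsg.Agent.Lib.Helper25.SU3P
open Polynomial Matrix

section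
variable {F : Type u} [Field F] [Fintype F] {K : Type u} [Field K] [Fintype K] {q : ℕ}

/-- F13 with F7 (parts 1, 5, 7) and F8 (part 3) as hypotheses -/
theorem u3pf13_core (D : Par F K q) (hF : Fintype.card F = q ^ 2) (hq : 4 ≤ q)
    (hss : ∀ x, D.σ (D.σ x) = x) (hγ : D.σ D.γ0 = -D.γ0)
    (hη : orderOf (D.σ (D.ζ : F) / (D.ζ : F)) = q + 1) (hγ0 : D.γ0 ≠ 0) :
    ∃ s₁ s₂ : K, ∀ x : F, x ≠ 0 → ∃ i : ℤ, x = D.al ^ i ∨
      x = D.al ^ i * (D.γ0 / (D.σ D.β0 - D.γ0 * D.ι s₁)) ∨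
      x = D.al ^ i * (D.γ0 / (D.σ D.β0 - D.γ0 * D.ι s₂)) :=
  u3pf13_field q hF hq D.σ D.hσ hss D.ι D.hι D.ζ D.hζ D.γ0 D.β0 hγ hγ0 D.hβ0 hη

end

end Cfsg.Agent.Lib.Helper19.U3P
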