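import Mathlib
import Cfsg.Agent.Lib.Helper19.U3P.Defs
import Cfsg.Agent.Lib.Helper5.U3PF10core
import Cfsg.Agent.Lib.Helper5.U3PF13core
import Cfsg.Agent.Lib.Helper18.U3PF6
import Cfsg.Agent.Lib.helper7.U3PF7
import Cfsg.Agent.Lib.helper7.U3PF8

/-!
# U3P rows F10 (`nu_surj`) and F13 (`coset_reps`), verbatim (helper5).
-/

set_option autoImplicit false

namespace Cfsg.Agent.Lib.Helper19.U3P

open Cfsg.Agent.Lib.helper17.SLP Cfsg.Agent.Lib.helper14.SU3J Cfsg.Agent.Lib.Helper25.SU3P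
open Polynomial Matrix

universe u v

section F

variable {F : Type u} [Field F] [Fintype F] {K : Type u} [Field K] [Fintype K] {q : ℕ}

/-- F10 -/
theorem nu_surj (D : Par F K q) (hF : Fintype.card F = q ^ 2) (hK : Fintype.card K = q) (hq : 4 ≤ q) (h5 : q ≠ 5)
    (h8 : q ≠ 8) (p : ℕ) [Fact p.Prime] [Algebra (ZMod p) F] :
    Function.Surjective (fun f : (ZMod p)[X] => aeval D.nu f) :=
  u3pf10_core D hF hq h5 h8 p (fun x hx => aeval_surj_of_pow_ne p x hx)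
    ⟨(par_basic D hF hK hq).2.2.1, (par_basic D hF hK hq).2.2.2.2.2.2.1⟩

/-- F13 -/
theorem coset_reps (D : Par F K q) (hF : Fintype.card F = q ^ 2) (hK : Fintype.card K = q) (hq : 4 ≤ q) (h5 : q ≠ 5) :
    ∃ s₁ s₂ : K, ∀ x : F, x ≠ 0 → ∃ i : ℤ, x = D.al ^ i ∨
      x = D.al ^ i * (D.γ0 / (D.σ D.β0 - D.γ0 * D.ι s₁)) ∨
      x = D.al ^ i * (D.γ0 / (D.σ D.β0 - D.γ0 * D.ι s₂)) :=
  u3pf13_core D hF hq (par_basic D hF hK hq).1 (par_basic D hF hK hq).2.2.2.2.1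
    (par_basic D hF hK hq).2.2.2.2.2.2.1 (nu_ne D hF hK hq h5).2.2

end F

end Cfsg.Agent.Lib.Helper19.U3P
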