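import Mathlib
import Cfsg.Agent.Lib.helper15.St2
import Cfsg.Agent.Lib.helper7.StA
import Cfsg.Agent.Lib.helper7.StC
import Cfsg.Agent.Lib.Helper24.STCI1
import Cfsg.Agent.Lib.helper23.STCX2
import Cfsg.Agent.Lib.Helper27.STU.Defs
import Cfsg.Agent.Lib.Helper27.STU.Defs2
import Cfsg.Agent.Lib.Helper24.STUB1
import Cfsg.Agent.Lib.Helper11.STUB3

/-!
# Project STU (helper27, PSU S2291), row B4 (helper5), verbatim: `SysU.cj_sl` (short on long).
Extra: `stub4_act_neg_bar_inv` (= the statement of Λ2 `Lam.act_neg_bar_inv`).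
-/

set_option autoImplicit false

namespace Cfsg.Agent.Lib.Helper27.STU

open Cfsg.Agent.Lib.helper15.St2 Cfsg.Agent.Lib.helper7.St Cfsg.Agent.Lib.helper3.STC

namespace Lam

variable {F : Type*} [Field F] [StarRing F] {od : Prop}

/-- own-name copy of Λ2 `act_neg_bar_inv` -/
theorem stub4_act_neg_bar_inv (u : F) (ξ : Lam F od) : (act (-u) (bar ξ))⁻¹ = act u ξ := by
  ext
  · simp
  · simp only [inv_c, act_c, bar_c, star_mul', star_neg, star_star]
    ring

end Lam

namespace SysU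

variable {F : Type*} [Field F] [StarRing F] {od : Prop} {ι : Type*} {G : Type*} [Group G] (S : SysU F od ι G)

/-- B4 [S-M]  short on long (the other order; model `SysC.cj_sl`): `xs b a u = xs (ng a) (ng b) (-(star u))` (`sym`), `cj_ls` for the pair `(a, ng b)`, `[y, x] = [x, y]⁻¹`,
`Lam.act_neg_bar_inv`; the two factors `xl b _`, `xs a (ng b) _` commute (`comm_ls`).  Numerically checked. -/
theorem cj_sl {a b : ι ⊕ ι} (hab : a ≠ b) (hab' : a ≠ ng b) (ξ : Lam F od) (u : F) :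
    cj (S.xs b a u) (S.xl a ξ) = S.xl b (Lam.act u ξ) * S.xs a (ng b) (ξ.c * star u) * S.xl a ξ := by
  have hba' : b ≠ ng a := fun h => hab' (by rw [h, ng_ng])
  have hanb' : a ≠ ng (ng b) := by rw [ng_ng]; exact hab
  have e1 : S.xs b a u = S.xs (ng a) (ng b) (-(star u)) := S.sym b a hab.symm hba' u
  have e2 := S.cj_ls hab' hanb' ξ (-(star u))
  rw [ng_ng, star_neg, star_star, mul_neg, S.xs_neg hab' hanb', ← e1] at e2
  have e3 : S.xl b (Lam.act u ξ) = (S.xl b (Lam.act (-u) (Lam.bar ξ)))⁻¹ := by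
    rw [← S.xl_inv, Lam.stub4_act_neg_bar_inv]
  rw [e3]
  unfold cj at e2 ⊢
  have e4 : S.xs b a u * S.xl a ξ * (S.xs b a u)⁻¹ =
      ((S.xl a ξ * S.xs b a u * (S.xl a ξ)⁻¹) * (S.xs b a u)⁻¹)⁻¹ * S.xl a ξ := by group
  rw [e4, e2]
  group

end SysU

end Cfsg.Agent.Lib.Helper27.STU
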