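import Mathlib
import Cfsg.Agent.Lib.Helper13.S5955.Defs

set_option autoImplicit false

namespace Cfsg.Agent.Lib.Helper13.S5955

open Polynomial Module

/-- T12 [M] ARITHS: the arithmetic of the sufficiency direction. -/
theorem arith_suff (i c d m fixd cycd tdim r : ℕ) (hi : 1 ≤ i)
    (hc : c = if Even i then i else 2 * i) (hm : m ≤ d)
    (hsum : fixd + cycd = 2 * d) (hfe : Even fixd) (hidvd : i ∣ cycd) (hit : i ∣ tdim)
    (hir : i ∣ r - 1) (hT2 : 2 * tdim ≤ cycd)
    (hT : (Odd i ∧ 2 * tdim = cycd) ∨ (Even i ∧ cycd ≤ 2 * tdim + (r - 1)))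
    (h1 : 2 * (m % i) ≤ (2 * d) % c)
    (h2 : Odd i ∨ (r - 1) / i + 2 * (m / i) ≤ (2 * d) / i) :
    ∃ w1 s : ℕ, 2 * w1 ≤ fixd ∧ s * i ≤ tdim ∧ m = w1 + s * i := by
  obtain ⟨t, ht⟩ := hit
  have hmdm : i * (m / i) + m % i = m := Nat.div_add_mod m i
  -- `c` divides `cycd`
  have hcdvd : c ∣ cycd := by
    by_cases hev : Even i
    · rw [hc, if_pos hev]; exact hidvd
    · rw [hc, if_neg hev]
      rcases hT with ⟨-, h⟩ | ⟨h, -⟩
      · rw [← h, ht]
        exact ⟨t, by ring⟩
      · exact absurd h hev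
  have hmodle : (2 * d) % c ≤ fixd := by
    obtain ⟨k, hk⟩ := hcdvd
    rw [← hsum, hk, Nat.add_mul_mod_self_left]
    exact Nat.mod_le _ _
  by_cases hcase : m / i ≤ t
  · refine ⟨m % i, m / i, by omega, ?_, ?_⟩
    · rw [ht, mul_comm]
      exact Nat.mul_le_mul_left i hcase
    · rw [mul_comm (m / i) i]; omega
  · push Not at hcase
    have hle : i * t ≤ i * (m / i) := Nat.mul_le_mul_left i hcase.le
    refine ⟨m - i * t, t, ?_, by rw [ht, mul_comm], by rw [mul_comm t i]; omega⟩
    rcases hT with ⟨-, h⟩ | ⟨hev, h⟩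
    · -- odd case
      rw [ht] at h
      omega
    · -- even case
      have hnodd : ¬ Odd i := Nat.not_odd_iff_even.mpr hev
      have h2' : (r - 1) / i + 2 * (m / i) ≤ (2 * d) / i := by
        rcases h2 with h | h
        · exact absurd h hnodd
        · exact h
      have hc' : c = i := by rw [hc, if_pos hev]
      rw [hc'] at h1
      obtain ⟨R, hR⟩ := hir
      have hRdiv : (r - 1) / i = R := by
        rw [hR]; exact Nat.mul_div_cancel_left R (by omega)
      rw [hRdiv] at h2'
      have hD : i * ((2 * d) / i) + (2 * d) % i = 2 * d := Nat.div_add_mod (2 * d) i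
      have hmul : i * (R + 2 * (m / i)) ≤ i * ((2 * d) / i) := Nat.mul_le_mul_left i h2'
      rw [mul_add, ← mul_assoc, mul_comm i 2, mul_assoc] at hmul
      rw [ht] at h
      generalize i * (m / i) = P at *
      generalize i * ((2 * d) / i) = Q at *
      generalize i * R = S at *
      generalize i * t = T at *
      omega

end Cfsg.Agent.Lib.Helper13.S5955
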