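import Mathlib
import Cfsg.Agent.Lib.Helper19.U3P.Defs
import Cfsg.Agent.Lib.Helper19.U3PB10
import Cfsg.Agent.Lib.Helper19.U3PBv
import Cfsg.Agent.Lib.helper15.U3PB5
import Cfsg.Agent.Lib.Helper13.U3PB9

/-!
# U3P row B11 (helper5): `card_B_eight`, verbatim.  Extras `u3pb11_*`.
As B10 (`Helper19.U3PB10`) with B9 (`card_ext_Q`) in place of B7.
-/

set_option autoImplicit false

namespace Cfsg.Agent.Lib.Helper19.U3P

open Cfsg.Agent.Lib.helper17.SLP Cfsg.Agent.Lib.helper3.SP4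
open Polynomial

universe u v

/-- `card_ext_Q` for a subgroup `Z` of `closure {u, h}` normalised by `u`, `h`. -/
theorem u3pb11_ext_Q {F : Type*} [Field F] [Fintype F] (p : ℕ) [Fact p.Prime] [Algebra (ZMod p) F]
    {G : Type*} [Group G] (u h : G) (Z : Subgroup G) [Finite Z]
    (hZle : Z ≤ Subgroup.closure ({u, h} : Set G))
    (hZu : ∀ z ∈ Z, u * z * u⁻¹ ∈ Z) (hZu' : ∀ z ∈ Z, u⁻¹ * z * u ∈ Z)
    (hZh : ∀ z ∈ Z, h * z * h⁻¹ ∈ Z) (hZh' : ∀ z ∈ Z, h⁻¹ * z * h ∈ Z)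
    (N : ℕ) (hN0 : 0 < N) (hN : h ^ N = 1) (lam : F) (hlam : lam ≠ 0)
    (hsurj : Function.Surjective (fun f : (ZMod p)[X] => aeval lam f))
    (a1 : u ^ p ∈ Z)
    (a2 : ∀ j : ℕ, 1 ≤ j → j < (minpoly (ZMod p) lam).natDegree → cm u (cj h u j) ∈ Z)
    (a3 : pw p h u 1 (minpoly (ZMod p) lam) ∈ Z) :
    Finite ↥(Subgroup.closure ({u, h} : Set G)) ∧
      Nat.card ↥(Subgroup.closure ({u, h} : Set G)) ≤ Nat.card Z * (Fintype.card F * N) := by
  classical
  set B : Subgroup G := Subgroup.closure ({u, h} : Set G) with hBdef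
  have hu : u ∈ B := Subgroup.subset_closure (by simp)
  have hh : h ∈ B := Subgroup.subset_closure (by simp)
  -- `B` normalises `Z`
  have hnorm : B ≤ Subgroup.normalizer (Z : Set G) := by
    rw [hBdef, Subgroup.closure_le]
    intro g hg
    rcases hg with rfl | hg
    · rw [SetLike.mem_coe, Subgroup.mem_normalizer_iff]
      intro n
      constructor
      · exact hZu n
      · intro hn
        have := hZu' _ hn
        have e : g⁻¹ * (g * n * g⁻¹) * g = n := by group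
        rwa [e] at this
    · rw [Set.mem_singleton_iff] at hg
      rw [hg, SetLike.mem_coe, Subgroup.mem_normalizer_iff]
      intro n
      constructor
      · exact hZh n
      · intro hn
        have := hZh' _ hn
        have e : h⁻¹ * (h * n * h⁻¹) * h = n := by group
        rwa [e] at this
  have hN' : (Z.subgroupOf B).Normal := (Subgroup.normal_subgroupOf_iff_le_normalizer hZle).mpr hnorm
  have eZ : ↥(Z.subgroupOf B) ≃* ↥Z := Subgroup.subgroupOfEquivOfLe hZle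
  have : Finite ↥(Z.subgroupOf B) := Finite.of_equiv _ eZ.symm.toEquiv
  have hcardZ : Nat.card ↥(Z.subgroupOf B) = Nat.card Z := Nat.card_congr eZ.toEquiv
  set u' : ↥B := ⟨u, hu⟩ with hu'
  set h' : ↥B := ⟨h, hh⟩ with hh'
  have hgen' : Subgroup.closure ({u', h'} : Set ↥B) = ⊤ := u3pb10_gen_sub u h hu hh
  have hmem : ∀ x : ↥B, (B.subtype x) ∈ Z → x ∈ Z.subgroupOf B := by
    intro x hx
    exact Subgroup.mem_subgroupOf.mpr hx
  have hsu : B.subtype u' = u := rfl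
  have hsh : B.subtype h' = h := rfl
  have hN'' : h' ^ N = 1 := by
    apply Subtype.ext
    show (B.subtype (h' ^ N)) = 1
    rw [map_pow, hsh, hN]
  have c1 : u' ^ p ∈ Z.subgroupOf B := by
    apply hmem; rw [map_pow, hsu]; exact a1
  have c2 : ∀ j : ℕ, 1 ≤ j → j < (minpoly (ZMod p) lam).natDegree →
      cm u' (cj h' u' j) ∈ Z.subgroupOf B := by
    intro j h1 h2
    apply hmem; rw [map_cm, map_cj, hsu, hsh]; exact a2 j h1 h2
  have c3 : pw p h' u' 1 (minpoly (ZMod p) lam) ∈ Z.subgroupOf B := by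
    apply hmem; rw [map_pw, hsu, hsh]; exact a3
  have := card_ext_Q p u' h' hgen' (Z.subgroupOf B) N hN0 hN'' lam hlam hsurj c1 c2 c3
  rw [hcardZ] at this
  exact this

/-- the degree of a minimal polynomial over `ZMod 2` in a field with `64` elements is at most `6`. -/
theorem u3pb11_natDegree_le {F : Type*} [Field F] [Fintype F] [Algebra (ZMod 2) F]
    (hF : Fintype.card F = 64) (x : F) : (minpoly (ZMod 2) x).natDegree ≤ 6 := by
  have h1 : Fintype.card F = Fintype.card (ZMod 2) ^ Module.finrank (ZMod 2) F :=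
    Module.card_eq_pow_finrank
  rw [hF, ZMod.card] at h1
  have h2 : Module.finrank (ZMod 2) F = 6 := by
    have : (2 : ℕ) ^ 6 = 2 ^ Module.finrank (ZMod 2) F := by rw [← h1]; norm_num
    exact (Nat.pow_right_injective (le_refl 2) this).symm
  rw [← h2]
  exact minpoly.natDegree_le x

section B2

variable {K : Type u} [Field K] [Fintype K] {F : Type u} [Field F] [Fintype F] {G : Type v} [Group G]

/-- B11 -/
theorem card_B_eight [Algebra (ZMod 2) F] (hK : Fintype.card K = 8) (hF : Fintype.card F = 64) (bK : Kˣ)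
    (hbK : ∀ y : Kˣ, y ∈ Subgroup.zpowers bK)
    (hspan : ∀ t : K, ∃ e₀ e₁ e₂ : ℕ, t = e₀ + e₁ * (bK : K) + e₂ * (bK : K) ^ 2)
    (φ : SL2 K →* G) (u h w : G) (R : RelM 8 bK φ u h w)
    (C : ConstsB8 K) (hB : RelB8 φ u h C) (al : F) (hal : al ≠ 0)
    (hmα : C.mα = minpoly (ZMod 2) al)
    (hsurj : Function.Surjective (fun f : (ZMod 2)[X] => aeval al f)) :
    Finite ↥(Subgroup.closure ({u, h} : Set G)) ∧
      Nat.card ↥(Subgroup.closure ({u, h} : Set G)) ≤ 8 ^ 3 * (8 ^ 2 - 1) := by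
  classical
  obtain ⟨P1, -, -, P4, -, -, -, -⟩ := relM_basic 8 (by norm_num) hK bK hbK φ u h w R
  have hZB := Z_le_B 8 (by norm_num) hK bK hbK φ u h w R
  have hZc := Z_central8 hK bK hbK hspan φ u h w R C hB
  set Z := u3pb10_Z φ with hZ
  obtain ⟨hZfin, hZcard⟩ := u3pb10_Z_card φ
  have := hZfin
  have hZle : Z ≤ Subgroup.closure ({u, h} : Set G) := by
    rintro _ ⟨t, rfl⟩
    exact hZB t
  have hcomm : ∀ t : K, Commute (φ (xM t)) u := by
    intro t
    have := hZc t 0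
    rwa [cj_zero] at this
  have hZu : ∀ z ∈ Z, u * z * u⁻¹ ∈ Z := by
    rintro _ ⟨t, rfl⟩
    refine ⟨t, ?_⟩
    rw [← (hcomm t).eq]; group
  have hZu' : ∀ z ∈ Z, u⁻¹ * z * u ∈ Z := by
    rintro _ ⟨t, rfl⟩
    refine ⟨t, ?_⟩
    rw [mul_assoc, (hcomm t).eq]; group
  have hZh : ∀ z ∈ Z, h * z * h⁻¹ ∈ Z := by
    rintro _ ⟨t, rfl⟩
    have := P1 t 1
    rw [cj_one] at this
    exact ⟨_, this⟩
  have hZh' : ∀ z ∈ Z, h⁻¹ * z * h ∈ Z := by
    rintro _ ⟨t, rfl⟩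
    have := P1 t (-1)
    unfold cj at this
    rw [zpow_neg, zpow_one, neg_neg, zpow_one] at this
    exact ⟨_, this⟩
  have hN0 : 0 < (8 + 1) * (8 - 1) := by norm_num
  have : Fact (Nat.Prime 2) := ⟨Nat.prime_two⟩
  have a1 : u ^ 2 ∈ Z := ⟨C.t4, hB.b4⟩
  have a2 : ∀ j : ℕ, 1 ≤ j → j < (minpoly (ZMod 2) al).natDegree → cm u (cj h u j) ∈ Z := by
    intro j h1 h2
    have h6 := u3pb11_natDegree_le hF al
    have hj : j = 1 ∨ j = 2 ∨ j = 3 ∨ j = 4 ∨ j = 5 := by omega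
    rcases hj with rfl | rfl | rfl | rfl | rfl
    · exact ⟨C.s1, by exact_mod_cast hB.k1⟩
    · exact ⟨C.s2, by exact_mod_cast hB.k2⟩
    · exact ⟨C.s3, by exact_mod_cast hB.k3⟩
    · exact ⟨C.s4, by exact_mod_cast hB.k4⟩
    · exact ⟨C.s5, by exact_mod_cast hB.k5⟩
  have a3 : pw 2 h u 1 (minpoly (ZMod 2) al) ∈ Z := by
    refine ⟨C.t8, ?_⟩
    rw [← hmα, hB.b8]
  have key := u3pb11_ext_Q 2 u h Z hZle hZu hZu' hZh hZh' ((8 + 1) * (8 - 1)) hN0 P4 al hal hsurj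
    a1 a2 a3
  refine ⟨key.1, key.2.trans ?_⟩
  rw [hF]
  calc Nat.card ↥Z * (64 * ((8 + 1) * (8 - 1))) ≤ 8 * (64 * ((8 + 1) * (8 - 1))) :=
        Nat.mul_le_mul_right _ (hK ▸ hZcard)
    _ = 8 ^ 3 * (8 ^ 2 - 1) := by norm_num

end B2

end Cfsg.Agent.Lib.Helper19.U3P
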