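import Mathlib
import Cfsg.Agent.Lib.helper17.SLP.Defs
import Cfsg.Agent.Lib.helper3.SP4.Defs

/-!
# SP4 row M8 (helper5): `rhoA_neg_one_center` (verbatim from `helper3/SP4/Skel.lean.txt`).
-/

set_option autoImplicit false

namespace Cfsg.Agent.Lib.helper3.SP4

open Cfsg.Agent.Lib.helper17.SLP
open Polynomial

universe u v

section M

variable {F : Type u} [Field F]

/-- the matrix of `rhoA (hM (-1))` is `-1` -/
theorem sp4m8_coe : rhoAm ((hM (-1 : Fˣ) : Matrix.SpecialLinearGroup (Fin 2) F)).1 =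
    (-1 : Matrix (Fin 2 ⊕ Fin 2) (Fin 2 ⊕ Fin 2) F) := by
  ext (i | i) (j | j) <;> fin_cases i <;> fin_cases j <;>
    simp [rhoAm, hM, Matrix.one_apply]

/-- M8 [S-M] -/
theorem rhoA_neg_one_center :
    rh (rhoA (F := F)) (-1) ∈ Subgroup.center (Matrix.symplecticGroup (Fin 2) F) := by
  rw [Subgroup.mem_center_iff]
  intro g
  apply Subtype.ext
  show (g : Matrix (Fin 2 ⊕ Fin 2) (Fin 2 ⊕ Fin 2) F) * rhoAm (hM (-1 : Fˣ)).1 =
    rhoAm (hM (-1 : Fˣ)).1 * (g : Matrix (Fin 2 ⊕ Fin 2) (Fin 2 ⊕ Fin 2) F)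
  rw [sp4m8_coe, Matrix.mul_neg, Matrix.neg_mul, Matrix.mul_one, Matrix.one_mul]

end M

end Cfsg.Agent.Lib.helper3.SP4
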