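import Mathlib
import Cfsg.Agent.Lib.helper17.SLP.Defs
import Cfsg.Agent.Lib.helper3.SP4.Defs
import Cfsg.Agent.Lib.Helper22.SU4.Defs
import Cfsg.Prelude.Def_Classical
import Cfsg.Agent.Lib.helper2.SLPM1
import Cfsg.Agent.Lib.Helper10.SP4M1

/-!
# Project SU4 (designer helper22), rows M2 `hypT_M_weyl` and M3 `hypT_M_comm` (helper5), verbatim: 4×4 matrix identities in `SUJ`.
Extras `su4m2_*`, `su4m3_*` (the matrices of `x_c(t)`, `x_d(u)`).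
-/

set_option autoImplicit false
set_option linter.unusedSimpArgs false

namespace Cfsg.Agent.Lib.Helper22.SU4

open Cfsg.Agent.Lib.helper17.SLP Cfsg.Agent.Lib.helper3.SP4

universe u v

section M

variable {F : Type u} {K : Type u} [Field F] [Field K]

/-- the matrix of an element of `SUJ`. -/
def su4m2_mat (σ : F →+* F) (A : ↥(SUJ σ)) : Matrix (Fin 2 ⊕ Fin 2) (Fin 2 ⊕ Fin 2) F :=
  ((A : Matrix.SpecialLinearGroup (Fin 2 ⊕ Fin 2) F) : Matrix (Fin 2 ⊕ Fin 2) (Fin 2 ⊕ Fin 2) F)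

theorem su4m2_ext (σ : F →+* F) {A B : ↥(SUJ σ)} (h : su4m2_mat σ A = su4m2_mat σ B) : A = B :=
  Subtype.ext (Subtype.ext h)

@[simp] theorem su4m2_mat_mul (σ : F →+* F) (A B : ↥(SUJ σ)) :
    su4m2_mat σ (A * B) = su4m2_mat σ A * su4m2_mat σ B := rfl

@[simp] theorem su4m2_mat_A (D : Tw F K) (M : Matrix.SpecialLinearGroup (Fin 2) F) :
    su4m2_mat D.σ (rhoAT D M) = rhoATm D.σ M.1 := rfl

@[simp] theorem su4m2_mat_B (D : Tw F K) (M : Matrix.SpecialLinearGroup (Fin 2) K) :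
    su4m2_mat D.σ (rhoBT D M) = rhoBTm D.ι M.1 := rfl

theorem su4m2_w7 (D : Tw F K) :
    (rhoBT D wM * rhoAT D wM * rhoBT D sp4m1_wMi) * rhoAT D (xM 1) =
      rhoAT D (xM (-1)) * (rhoBT D wM * rhoAT D wM * rhoBT D sp4m1_wMi) := by
  apply su4m2_ext
  simp only [su4m2_mat_mul, su4m2_mat_A, su4m2_mat_B]
  ext (i | i) (j | j) <;> fin_cases i <;> fin_cases j <;>
    simp [rhoATm, rhoBTm, xM, hM, wM, sp4m1_wMi, Matrix.mul_apply, Fintype.sum_sum_type, Fin.sum_univ_two]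

theorem su4m2_w8 (D : Tw F K) :
    (rhoAT D wM * rhoBT D wM * rhoAT D sp4m1_wMi) * rhoBT D (xM 1) =
      rhoBT D (xM 1) * (rhoAT D wM * rhoBT D wM * rhoAT D sp4m1_wMi) := by
  apply su4m2_ext
  simp only [su4m2_mat_mul, su4m2_mat_A, su4m2_mat_B]
  ext (i | i) (j | j) <;> fin_cases i <;> fin_cases j <;>
    simp [rhoATm, rhoBTm, xM, hM, wM, sp4m1_wMi, Matrix.mul_apply, Fintype.sum_sum_type, Fin.sum_univ_two]

/-- M2 [M]  Model SP4 M2 `hyp_M_weyl` (`Helper10.SP4M2`). -/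
theorem hypT_M_weyl (D : Tw F K) :
    (rn (rhoBT D) * rn (rhoAT D) * (rn (rhoBT D))⁻¹) * rx (rhoAT D) 1 *
        (rn (rhoBT D) * rn (rhoAT D) * (rn (rhoBT D))⁻¹)⁻¹ = (rx (rhoAT D) 1)⁻¹ ∧
      Commute (rn (rhoAT D) * rn (rhoBT D) * (rn (rhoAT D))⁻¹) (rx (rhoBT D) 1) := by
  unfold rx rn
  constructor
  · rw [mul_inv_eq_iff_eq_mul, ← map_inv, ← map_inv, sp4m1_wM_inv, sp4m1_xM_inv]
    exact su4m2_w7 D
  · show _ * _ = _ * _
    rw [← map_inv, sp4m1_wM_inv]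
    exact su4m2_w8 D

/-- the matrix of `x_c(t)` -/
theorem su4m3_xc (D : Tw F K) (t : F) :
    su4m2_mat D.σ (xcT (rhoAT D) (rhoBT D) t) = Matrix.fromBlocks 1 !![0, t; D.σ t, 0] 0 1 := by
  unfold xcT rx rn
  rw [← map_inv, sp4m1_wM_inv]
  simp only [su4m2_mat_mul, su4m2_mat_A, su4m2_mat_B]
  ext (i | i) (j | j) <;> fin_cases i <;> fin_cases j <;>
    simp [rhoATm, rhoBTm, xM, hM, wM, sp4m1_wMi, Matrix.mul_apply, Fintype.sum_sum_type, Fin.sum_univ_two]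

/-- the matrix of `x_d(u)` -/
theorem su4m3_xd (D : Tw F K) (u : K) :
    su4m2_mat D.σ (xdT (rhoAT D) (rhoBT D) u) = Matrix.fromBlocks 1 !![D.ι u, 0; 0, 0] 0 1 := by
  unfold xdT rx rn
  rw [← map_inv, sp4m1_wM_inv]
  simp only [su4m2_mat_mul, su4m2_mat_A, su4m2_mat_B]
  ext (i | i) (j | j) <;> fin_cases i <;> fin_cases j <;>
    simp [rhoATm, rhoBTm, xM, hM, wM, sp4m1_wMi, Matrix.mul_apply, Fintype.sum_sum_type, Fin.sum_univ_two]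

theorem su4m3_c9 (D : Tw F K) :
    rhoAT D (xM 1) * rhoBT D (xM 1) =
      xcT (rhoAT D) (rhoBT D) 1 * xdT (rhoAT D) (rhoBT D) 1 * rhoBT D (xM 1) * rhoAT D (xM 1) := by
  apply su4m2_ext
  simp only [su4m2_mat_mul, su4m2_mat_A, su4m2_mat_B, su4m3_xc, su4m3_xd]
  ext (i | i) (j | j) <;> fin_cases i <;> fin_cases j <;>
    simp [rhoATm, rhoBTm, xM, hM, wM, sp4m1_wMi, Matrix.mul_apply, Fintype.sum_sum_type, Fin.sum_univ_two]

theorem su4m3_c10 (D : Tw F K) :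
    rhoAT D (xM 1) * xcT (rhoAT D) (rhoBT D) 1 =
      xdT (rhoAT D) (rhoBT D) 1 * xdT (rhoAT D) (rhoBT D) 1 * xcT (rhoAT D) (rhoBT D) 1 * rhoAT D (xM 1) := by
  apply su4m2_ext
  simp only [su4m2_mat_mul, su4m2_mat_A, su4m2_mat_B, su4m3_xc, su4m3_xd]
  ext (i | i) (j | j) <;> fin_cases i <;> fin_cases j <;>
    simp [rhoATm, rhoBTm, xM, hM, wM, sp4m1_wMi, Matrix.mul_apply, Fintype.sum_sum_type, Fin.sum_univ_two]

theorem su4m3_c10b (D : Tw F K) (z : F) :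
    rhoAT D (xM 1) * xcT (rhoAT D) (rhoBT D) z =
      xdT (rhoAT D) (rhoBT D) (D.tr z) * xcT (rhoAT D) (rhoBT D) z * rhoAT D (xM 1) := by
  apply su4m2_ext
  simp only [su4m2_mat_mul, su4m2_mat_A, su4m2_mat_B, su4m3_xc, su4m3_xd]
  ext (i | i) (j | j) <;> fin_cases i <;> fin_cases j <;>
    simp [rhoATm, rhoBTm, xM, hM, wM, sp4m1_wMi, Matrix.mul_apply, Fintype.sum_sum_type, Fin.sum_univ_two,
      D.htr]

theorem su4m3_c11 (D : Tw F K) :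
    rhoAT D (xM 1) * xdT (rhoAT D) (rhoBT D) 1 = xdT (rhoAT D) (rhoBT D) 1 * rhoAT D (xM 1) := by
  apply su4m2_ext
  simp only [su4m2_mat_mul, su4m2_mat_A, su4m2_mat_B, su4m3_xc, su4m3_xd]
  ext (i | i) (j | j) <;> fin_cases i <;> fin_cases j <;>
    simp [rhoATm, rhoBTm, xM, hM, wM, sp4m1_wMi, Matrix.mul_apply, Fintype.sum_sum_type, Fin.sum_univ_two]

theorem su4m3_c12 (D : Tw F K) :
    rhoBT D (xM 1) * xdT (rhoAT D) (rhoBT D) 1 = xdT (rhoAT D) (rhoBT D) 1 * rhoBT D (xM 1) := by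
  apply su4m2_ext
  simp only [su4m2_mat_mul, su4m2_mat_A, su4m2_mat_B, su4m3_xc, su4m3_xd]
  ext (i | i) (j | j) <;> fin_cases i <;> fin_cases j <;>
    simp [rhoATm, rhoBTm, xM, hM, wM, sp4m1_wMi, Matrix.mul_apply, Fintype.sum_sum_type, Fin.sum_univ_two]

/-- M3 [M]  Model SP4 M3 `hyp_M_comm` (`Helper10.SP4M2`).  First compute `xcT (rhoAT D) (rhoBT D) t = [[1, [[0, t], [σ t, 0]]], [0, 1]]`, `xdT (rhoAT D) (rhoBT D) u = [[1, [[ι u, 0], [0, 0]]], [0, 1]]` (blocks; validated numerically). -/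
theorem hypT_M_comm (D : Tw F K) (ζ : Fˣ) :
    cm (rx (rhoAT D) 1) (rx (rhoBT D) 1) = xcT (rhoAT D) (rhoBT D) 1 * xdT (rhoAT D) (rhoBT D) 1 ∧
      cm (rx (rhoAT D) 1) (xcT (rhoAT D) (rhoBT D) 1) = xdT (rhoAT D) (rhoBT D) 1 ^ 2 ∧
      cm (rx (rhoAT D) 1) (xcT (rhoAT D) (rhoBT D) (ζ : F)) = xdT (rhoAT D) (rhoBT D) (D.tr (ζ : F)) ∧
      Commute (rx (rhoAT D) 1) (xdT (rhoAT D) (rhoBT D) 1) ∧
      Commute (rx (rhoBT D) 1) (xdT (rhoAT D) (rhoBT D) 1) := by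
  refine ⟨?_, ?_, ?_, ?_, ?_⟩
  · unfold cm
    rw [mul_inv_eq_iff_eq_mul, mul_inv_eq_iff_eq_mul]
    exact su4m3_c9 D
  · unfold cm
    rw [mul_inv_eq_iff_eq_mul, mul_inv_eq_iff_eq_mul, pow_two]
    exact su4m3_c10 D
  · unfold cm
    rw [mul_inv_eq_iff_eq_mul, mul_inv_eq_iff_eq_mul]
    exact su4m3_c10b D (ζ : F)
  · exact su4m3_c11 D
  · exact su4m3_c12 D

end M

end Cfsg.Agent.Lib.Helper22.SU4
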