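import Mathlib
import Cfsg.Agent.Lib.Helper19.SU5.Defs
import Cfsg.Agent.Lib.helper2.STUV1
import Cfsg.Agent.Lib.Helper22.SU4F3

/-!
# Project SU5 (designer helper19; S2291 odd case), row F8 `wu_conjU`, VERBATIM (helper5).
The Weyl element `w = WU (0, κ)` of `SU₃`: its matrix is `!![0, 0, κ; 0, 1, 0; -κ⁻¹, 0, 0]`.
Extras: `su5f8_star_kap` (`star κ = -κ`), `su5f8_kap_ne` (`κ ≠ 0`, the first half of F2), `su5f8_mat_WU`.
-/

set_option autoImplicit false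
set_option linter.unusedSectionVars false
set_option linter.unusedSimpArgs false

namespace Cfsg.Agent.Lib.Helper19.SU5

open Cfsg.Agent.Lib.helper17.SLP Cfsg.Agent.Lib.helper3.SP4 Cfsg.Agent.Lib.Helper22.SU4
open Cfsg.Agent.Lib.Helper27.STU (Lam XpM XmM XpS XmS SUm XpU XmU)

universe u v

section F

variable {F : Type u} {K : Type u} [Field F] [Field K] [StarRing F] {D : Tw F K}

theorem su5f8_star_kap (P : RO D) : star P.kap = -P.kap := by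
  unfold RO.kap
  rw [star_sub, star_star]
  ring

theorem su5f8_kap_ne [Fintype F] [Fintype K] (hFK : Fintype.card F = Fintype.card K ^ 2) (P : RO D) : P.kap ≠ 0 := by
  intro h
  unfold RO.kap at h
  have h1 : D.σ (P.ζ : F) = (P.ζ : F) := by
    rw [P.hσ]
    exact (sub_eq_zero.1 h).symm
  obtain ⟨y, hy⟩ := (D.fix _).1 h1
  exact gen_not_memT D hFK P.ζ P.hζ ⟨y, hy⟩

theorem su5f8_mat_WU (P : RO D) (hk : P.kap ≠ 0) :
    Cfsg.Agent.Lib.Helper27.STU.SUm.mat (WU (Lam.tr (P.ζ : F) : Lam F True)) =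
      !![0, 0, P.kap; 0, 1, 0; -(P.kap)⁻¹, 0, 0] := by
  have hs := su5f8_star_kap P
  have hc : (Lam.tr (P.ζ : F) : Lam F True).c = P.kap := rfl
  have hc0 : (Lam.tr (P.ζ : F) : Lam F True).c ≠ 0 := by rw [hc]; exact hk
  show XpM (Lam.tr (P.ζ : F) : Lam F True) * XmM (Lam.mu (Lam.tr (P.ζ : F))) * XpM (Lam.nu (Lam.tr (P.ζ : F))) = _
  rw [Cfsg.Agent.Lib.Helper27.STU.SysU.WM_eq hc0, hc, hs]
  have e1 : -(-P.kap / P.kap) = 1 := by
    rw [neg_div, neg_neg, div_self hk]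
  have e2 : (-P.kap)⁻¹ = -(P.kap)⁻¹ := by rw [inv_neg]
  rw [e1, e2]

/-- F8 [M]  the Weyl element `w = WU (0, κ)` of `SU₃`: its matrix is `!![0, 0, κ; 0, 1, 0; -κ⁻¹, 0, 0]` (STU V1 `WM_eq`, `helper2.STUV1`, with `c = κ`, `star κ = -κ`: F1, F2); then matrix identities. -/
theorem wu_conjU [Fintype F] [Fintype K] (hFK : Fintype.card F = Fintype.card K ^ 2) (P : RO D) :
    (∀ r : Fˣ, WU (Lam.tr (P.ζ : F)) * P.HU r * (WU (Lam.tr (P.ζ : F)))⁻¹ = P.HU (D.σu r)⁻¹) ∧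
      WU (Lam.tr (P.ζ : F)) ^ 2 = P.HU (-1) ∧
      (∀ ξ, WU (Lam.tr (P.ζ : F)) * XpU ξ * (WU (Lam.tr (P.ζ : F)))⁻¹ = XmU (Lam.act (-(P.kap)⁻¹) ξ)) ∧
      (∀ ξ, WU (Lam.tr (P.ζ : F)) * XmU ξ * (WU (Lam.tr (P.ζ : F)))⁻¹ = XpU (Lam.act P.kap ξ)) := by
  have hk := su5f8_kap_ne hFK P
  have hs := su5f8_star_kap P
  have hW := su5f8_mat_WU P hk
  refine ⟨?_, ?_, ?_, ?_⟩
  · intro r
    rw [mul_inv_eq_iff_eq_mul]
    apply Cfsg.Agent.Lib.Helper27.STU.SUm.mat_injective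
    rw [Cfsg.Agent.Lib.Helper27.STU.SUm.mat_mul, Cfsg.Agent.Lib.Helper27.STU.SUm.mat_mul, hW, P.HU_mat, P.HU_mat]
    have hr : (r : F) ≠ 0 := r.ne_zero
    have hr' : star (r : F) ≠ 0 := fun h => hr (by simpa using congrArg star h)
    have e : (((D.σu r)⁻¹ : Fˣ) : F) = (star (r : F))⁻¹ := by
      rw [Units.val_inv_eq_inv_val]
      show (D.σ (r : F))⁻¹ = _
      rw [P.hσ]
    rw [e]
    ext i j
    fin_cases i <;> fin_cases j <;>
      simp [Matrix.mul_apply, Fin.sum_univ_three, star_inv₀] <;> field_simp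
  · rw [pow_two]
    apply Cfsg.Agent.Lib.Helper27.STU.SUm.mat_injective
    rw [Cfsg.Agent.Lib.Helper27.STU.SUm.mat_mul, hW, P.HU_mat]
    ext i j
    fin_cases i <;> fin_cases j <;>
      simp [Matrix.mul_apply, Fin.sum_univ_three, hk]
  · intro ξ
    rw [mul_inv_eq_iff_eq_mul]
    apply Cfsg.Agent.Lib.Helper27.STU.SUm.mat_injective
    rw [Cfsg.Agent.Lib.Helper27.STU.SUm.mat_mul, Cfsg.Agent.Lib.Helper27.STU.SUm.mat_mul, hW,
      Cfsg.Agent.Lib.Helper27.STU.SUm.mat_XpU, Cfsg.Agent.Lib.Helper27.STU.SUm.mat_XmU]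
    ext i j
    fin_cases i <;> fin_cases j <;>
      simp [XpM, XmM, Matrix.mul_apply, Fin.sum_univ_three, star_inv₀, star_neg, hs] <;> field_simp
  · intro ξ
    rw [mul_inv_eq_iff_eq_mul]
    apply Cfsg.Agent.Lib.Helper27.STU.SUm.mat_injective
    rw [Cfsg.Agent.Lib.Helper27.STU.SUm.mat_mul, Cfsg.Agent.Lib.Helper27.STU.SUm.mat_mul, hW,
      Cfsg.Agent.Lib.Helper27.STU.SUm.mat_XpU, Cfsg.Agent.Lib.Helper27.STU.SUm.mat_XmU]
    ext i j
    fin_cases i <;> fin_cases j <;>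
      simp [XpM, XmM, Matrix.mul_apply, Fin.sum_univ_three, star_inv₀, star_neg, hs] <;> field_simp

end F

end Cfsg.Agent.Lib.Helper19.SU5
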