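import Mathlib
import Cfsg.Agent.Lib.Helper19.SU5.Defs

/-!
# Project SU5 (designer helper19; S2291 odd case), row T0 `phiL_basicU`, VERBATIM (helper5).
-/

set_option autoImplicit false
set_option linter.unusedSectionVars false

namespace Cfsg.Agent.Lib.Helper19.SU5

open Cfsg.Agent.Lib.helper17.SLP Cfsg.Agent.Lib.helper3.SP4 Cfsg.Agent.Lib.Helper22.SU4
open Cfsg.Agent.Lib.Helper27.STU (Lam XpM XmM XpS XmS SUm XpU XmU)

universe u v

section T

variable {F : Type u} {K : Type u} [Field F] [Field K] [StarRing F] [Fintype F] [Fintype K] {D : Tw F K}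
  {G : Type v} [Group G]

/-- T0 [S]  unfold (`phiL`, `MonoidHom.comp_apply`, `P.ιL_x`, `P.ιL_w`, `P.ιL_h`, `xdT`). -/
theorem phiL_basicU (P : RO D) (φa : Matrix.SpecialLinearGroup (Fin 2) F →* G) (φb : ↥(SUm F True) →* G) :
    (∀ u : K, rx (phiL P φb) u = yb φb (Lam.tr ((P.ζ : F) * D.ι u))) ∧
      rn (phiL P φb) = φb (WU (Lam.tr (P.ζ : F))) ∧ (∀ r : Kˣ, rh (phiL P φb) r = hbF P φb (D.ιu r)) ∧
      (∀ u : K, xDU P φa φb u = ydU φa φb (Lam.tr ((P.ζ : F) * D.ι u))) ∧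
      (∀ r s : Fˣ, hbF P φb (r * s) = hbF P φb r * hbF P φb s) ∧ hbF P φb 1 = 1 ∧
      (∀ r : Fˣ, hbF P φb r⁻¹ = (hbF P φb r)⁻¹) ∧ (∀ (r : Fˣ) (i : ℤ), hbF P φb (r ^ i) = hbF P φb r ^ i) := by
  have e1 : ∀ u : K, rx (phiL P φb) u = yb φb (Lam.tr ((P.ζ : F) * D.ι u)) := by
    intro u
    unfold rx phiL yb
    rw [MonoidHom.comp_apply, P.ιL_x]
  refine ⟨e1, ?_, ?_, ?_, ?_, ?_, ?_, ?_⟩
  · unfold rn phiL
    rw [MonoidHom.comp_apply, P.ιL_w]
  · intro r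
    unfold rh phiL hbF
    rw [MonoidHom.comp_apply, P.ιL_h]
  · intro u
    unfold xDU xdT ydU
    rw [e1]
  · intro r s
    unfold hbF
    rw [map_mul, map_mul]
  · unfold hbF
    rw [map_one, map_one]
  · intro r
    unfold hbF
    rw [map_inv, map_inv]
  · intro r i
    unfold hbF
    rw [map_zpow, map_zpow]

end T

end Cfsg.Agent.Lib.Helper19.SU5
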