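import Mathlib
import Cfsg.Agent.Lib.helper17.SLP.Defs
import Cfsg.Agent.Lib.helper3.SP4.Defs
import Cfsg.Agent.Lib.Helper22.SU4.Defs
import Cfsg.Prelude.Def_Classical
import Cfsg.Agent.Lib.Lead.SP4E1
import Cfsg.Agent.Lib.Lead.SP4E2
import Cfsg.Agent.Lib.Helper18.SP4E3
import Cfsg.Agent.Lib.Helper18.SP4E6h18
import Cfsg.Agent.Lib.Helper18.SP4E7
import Cfsg.Agent.Lib.helper15.SU4E4

/-!
# Project SU4 (designer helper22), rows E6 `B4_cardT` and E10 `rd4_cardT` (helper5), verbatim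
(`su4e10_core`: the statement of E4 `bn_count8T` is a hypothesis; E4 is helper15's `SU4E4`).
-/

set_option autoImplicit false

namespace Cfsg.Agent.Lib.Helper22.SU4

open Cfsg.Agent.Lib.helper17.SLP Cfsg.Agent.Lib.helper3.SP4

universe u v

section E

variable {G : Type u} [Group G]

/-- E6 [S-M]  `B` is the image of `T × Xb × Xc × Xd × Xa` under `(τ, b, c, d, a) ↦ τ * b * c * d * a` (`hB`): `Nat.card_le_card_of_surjective` (or `Finite.card_le_of_surjective`), `Nat.card_prod`. -/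
theorem B4_cardT (T Xa Xb Xc Xd B : Subgroup G) [Finite T] [Finite Xa] [Finite Xb] [Finite Xc] [Finite Xd]
    (hB : ∀ g, g ∈ B ↔ ∃ τ ∈ T, ∃ b ∈ Xb, ∃ c ∈ Xc, ∃ d ∈ Xd, ∃ a ∈ Xa, g = τ * b * c * d * a) :
    Finite B ∧ Nat.card B ≤ Nat.card T * (Nat.card Xb * Nat.card Xc * Nat.card Xd * Nat.card Xa) := by
  let f : T × (Xb × (Xc × (Xd × Xa))) → B := fun x =>
    ⟨(x.1 : G) * (x.2.1 : G) * (x.2.2.1 : G) * (x.2.2.2.1 : G) * (x.2.2.2.2 : G),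
      (hB _).2 ⟨x.1, x.1.2, x.2.1, x.2.1.2, x.2.2.1, x.2.2.1.2, x.2.2.2.1, x.2.2.2.1.2,
        x.2.2.2.2, x.2.2.2.2.2, rfl⟩⟩
  have hf : Function.Surjective f := by
    rintro ⟨g, hg⟩
    obtain ⟨τ, hτ, b, hb, c, hc, d, hd, a, ha, rfl⟩ := (hB g).1 hg
    exact ⟨(⟨τ, hτ⟩, ⟨b, hb⟩, ⟨c, hc⟩, ⟨d, hd⟩, ⟨a, ha⟩), rfl⟩
  have hfin : Finite B := Finite.of_surjective f hf
  refine ⟨hfin, ?_⟩
  have h := Nat.card_le_card_of_surjective f hf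
  rw [Nat.card_prod, Nat.card_prod, Nat.card_prod, Nat.card_prod] at h
  calc Nat.card B ≤ Nat.card T * (Nat.card Xb * (Nat.card Xc * (Nat.card Xd * Nat.card Xa))) := h
    _ = Nat.card T * (Nat.card Xb * Nat.card Xc * Nat.card Xd * Nat.card Xa) := by ring

/-- E10 core: `rd4_cardT` with the statement of E4 (`bn_count8T`) as hypothesis. -/
theorem su4e10_core (q₁ q₂ : ℕ) (T Xa Xb Xc Xd : Subgroup G) (n1 n2 : G) (D : RD4 q₁ T Xa Xb Xc Xd n1 n2)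
    (hb : Nat.card Xb ≤ q₂) (hd : Nat.card Xd ≤ q₂)
    (hE4 : ∀ (B : Subgroup G) [Finite B] (X1 X2 : Set G),
      (X1.Finite ∧ X1.ncard ≤ q₁) → (X2.Finite ∧ X2.ncard ≤ q₂) →
      (∀ g ∈ B, ∃ b ∈ B, ∃ y ∈ X1, n1 * g = b * n1 * y) →
      (∀ g ∈ B, ∃ b ∈ B, ∃ y ∈ X2, n2 * g = b * n2 * y) →
      (∀ g : G, g ∈ Cell8 B n1 n2) →
      Finite G ∧ Nat.card G ≤ Nat.card B *
        (1 + q₁ + q₂ + 2 * (q₁ * q₂) + q₁ ^ 2 * q₂ + q₁ * q₂ ^ 2 + q₁ ^ 2 * q₂ ^ 2)) :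
    Finite G ∧ Nat.card G ≤ Nat.card T * (q₁ ^ 2 * q₂ ^ 2) *
      (1 + q₁ + q₂ + 2 * (q₁ * q₂) + q₁ ^ 2 * q₂ + q₁ * q₂ ^ 2 + q₁ ^ 2 * q₂ ^ 2) := by
  obtain ⟨B, hBfin, -, hT, ha, hbB, hc, hdB, hB1, hB2⟩ := sp4e6_h18_B4_subgroup q₁ T Xa Xb Xc Xd n1 n2 D
  obtain ⟨hf1, hf2⟩ := fact4 q₁ T Xa Xb Xc Xd n1 n2 D B hT ha hbB hc hdB hB1 hB2
  obtain ⟨hr1, hr2⟩ := rank1_4 q₁ T Xa Xb Xc Xd n1 n2 D B hT ha hbB
  obtain ⟨hm1, hm2⟩ := cells4 q₁ T Xa Xb Xc Xd n1 n2 D B ha hbB hc hdB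
  have h1 : n1 ^ 2 ∈ B := hT D.n1sq
  have h2 : n2 ^ 2 ∈ B := hT D.n2sq
  have hbr : ∃ b ∈ B, n2 * n1 * n2 * n1 = b * (n1 * n2 * n1 * n2) := by
    obtain ⟨τ, hτ, e⟩ := D.braid
    exact ⟨τ, hT hτ, e⟩
  have hXa : (Xa : Set G) ⊆ (B : Set G) := fun x hx => ha hx
  have hXb : (Xb : Set G) ⊆ (B : Set G) := fun x hx => hbB hx
  have hn1 := cell8_n1 B (Xa : Set G) n1 n2 h1 hXa hf1 hr1 hm1
  have hn2 := cell8_n2 B (Xb : Set G) n1 n2 h2 hXb hf2 hr2 hm2 hbr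
  have hgen : Subgroup.closure ((B : Set G) ∪ {n1, n2}) = ⊤ := by
    rw [eq_top_iff, ← D.gen]
    apply Subgroup.closure_mono
    intro x hx
    rcases hx with ((hx | hx) | hx) | hx
    · exact Or.inl (hT hx)
    · exact Or.inl (ha hx)
    · exact Or.inl (hbB hx)
    · exact Or.inr hx
  have hall := bn_union8 B n1 n2 h1 h2 hn1 hn2 hgen
  have hc1 : ∀ g ∈ B, ∃ b ∈ B, ∃ y ∈ (Xa : Set G), n1 * g = b * n1 * y := by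
    intro g hg
    obtain ⟨β, hβ, a, haa, rfl, hβ'⟩ := hf1 g hg
    exact ⟨n1 * β * n1⁻¹, hβ', a, haa, by group⟩
  have hc2 : ∀ g ∈ B, ∃ b ∈ B, ∃ y ∈ (Xb : Set G), n2 * g = b * n2 * y := by
    intro g hg
    obtain ⟨β, hβ, a, haa, rfl, hβ'⟩ := hf2 g hg
    exact ⟨n2 * β * n2⁻¹, hβ', a, haa, by group⟩
  have hX1 : (Xa : Set G).Finite ∧ (Xa : Set G).ncard ≤ q₁ := by
    have := D.fina.1
    refine ⟨Set.toFinite _, ?_⟩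
    rw [← Nat.card_coe_set_eq]
    exact D.fina.2
  have hX2 : (Xb : Set G).Finite ∧ (Xb : Set G).ncard ≤ q₂ := by
    have := D.finb.1
    refine ⟨Set.toFinite _, ?_⟩
    rw [← Nat.card_coe_set_eq]
    exact hb
  have := hBfin
  obtain ⟨hfin, hcard⟩ := hE4 B (Xa : Set G) (Xb : Set G) hX1 hX2 hc1 hc2 hall
  refine ⟨hfin, hcard.trans (Nat.mul_le_mul_right _ ?_)⟩
  have := D.finT
  have := D.fina.1
  have := D.finb.1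
  have := D.finc.1
  have := D.find.1
  obtain ⟨-, hBc⟩ := B4_cardT T Xa Xb Xc Xd B hB1
  calc Nat.card B ≤ Nat.card T * (Nat.card Xb * Nat.card Xc * Nat.card Xd * Nat.card Xa) := hBc
    _ ≤ Nat.card T * (q₂ * q₁ * q₂ * q₁) :=
      Nat.mul_le_mul_left _ (Nat.mul_le_mul (Nat.mul_le_mul (Nat.mul_le_mul hb D.finc.2) hd) D.fina.2)
    _ = Nat.card T * (q₁ ^ 2 * q₂ ^ 2) := by ring

/-- E10 [M]  deps E4 E6 + SP4 E1–E3, E5–E9.  COPY of SP4 E10 `rd4_card` (`helper3.SP4E10`): `B` from SP4 `B4_subgroup` (with `q := q₁`); `hf1 hf2` (SP4 `fact4`), `hr1 hr2` (`rank1_4`), `hm1 hm2` (`cells4`), `hbr` (`D.braid`), `cell8_n1 cell8_n2 bn_union8`;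
then E4 with `X1 = Xa` (`≤ q₁`: `D.fina`), `X2 = Xb` (`≤ q₂`: `hb`), and E6: `card B ≤ card T * (q₂ * q₁ * q₂ * q₁)` (`D.finc`, `hd`). -/
theorem rd4_cardT (q₁ q₂ : ℕ) (T Xa Xb Xc Xd : Subgroup G) (n1 n2 : G) (D : RD4 q₁ T Xa Xb Xc Xd n1 n2)
    (hb : Nat.card Xb ≤ q₂) (hd : Nat.card Xd ≤ q₂) :
    Finite G ∧ Nat.card G ≤ Nat.card T * (q₁ ^ 2 * q₂ ^ 2) *
      (1 + q₁ + q₂ + 2 * (q₁ * q₂) + q₁ ^ 2 * q₂ + q₁ * q₂ ^ 2 + q₁ ^ 2 * q₂ ^ 2) :=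
  su4e10_core q₁ q₂ T Xa Xb Xc Xd n1 n2 D hb hd
    (fun B _ X1 X2 hX1 hX2 hc1 hc2 hall => bn_count8T B n1 n2 X1 X2 q₁ q₂ hX1 hX2 hc1 hc2 hall)

end E

end Cfsg.Agent.Lib.Helper22.SU4
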