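import Mathlib
import Cfsg.Agent.Lib.helper17.SLP.Defs
import Cfsg.Agent.Lib.helper3.SP4.Defs
import Cfsg.Agent.Lib.Helper22.SU4.Defs
import Cfsg.Prelude.Def_Classical
import Cfsg.Agent.Lib.helper17.SP4Kit
import Cfsg.Agent.Lib.helper4.SU4F0
import Cfsg.Agent.Lib.Helper5.SU4T9

/-!
# Project SU4 (designer helper22), row W3 `wact_bdT` (helper5), verbatim, and the core of row W4 `wact4T`
(`su4w4_core`: the statement of W2 `wact_acT` is a hypothesis).  On helper17's `SP4Kit`, helper4's `SU4F0`.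
-/

set_option autoImplicit false

namespace Cfsg.Agent.Lib.Helper22.SU4

open Cfsg.Agent.Lib.helper17.SLP Cfsg.Agent.Lib.helper3.SP4

universe u v

section W

variable {F : Type u} {K : Type u} [Field F] [Field K] [Fintype F] [Fintype K] {G : Type v} [Group G]

omit [Fintype F] [Fintype K] in
/-- `w_b (h_b(r) h_a(ι r)) w_b⁻¹ = h_a(ι r) h_b(r)` from the torus table. -/
theorem su4w3_wb_prod (D : Tw F K) (φa : Matrix.SpecialLinearGroup (Fin 2) F →* G)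
    (φb : Matrix.SpecialLinearGroup (Fin 2) K →* G) (R : Tor4T D φa φb) (r : Kˣ) :
    rn φb * (rh φb r * rh φa (D.ιu r)) * (rn φb)⁻¹ = rh φa (D.ιu r) * rh φb r := by
  have e1 := sp4kit_rn_rh φb r
  have e2 := R.wb_ha (D.ιu r)
  rw [su4f0_nmu_ιu] at e2
  have hc : Commute (rh φa (D.ιu r)) (rh φb r) := R.comm (D.ιu r) r
  calc rn φb * (rh φb r * rh φa (D.ιu r)) * (rn φb)⁻¹
      = (rn φb * rh φb r * (rn φb)⁻¹) * (rn φb * rh φa (D.ιu r) * (rn φb)⁻¹) := by group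
    _ = (rh φb r)⁻¹ * (rh φa (D.ιu r) * rh φb (r ^ 2)) := by rw [e1, e2]
    _ = (rh φb r)⁻¹ * (rh φa (D.ιu r) * (rh φb r * rh φb r)) := by rw [sp4kit_rh_sq, pow_two]
    _ = (rh φb r)⁻¹ * ((rh φa (D.ιu r) * rh φb r) * rh φb r) := by rw [mul_assoc]
    _ = (rh φb r)⁻¹ * ((rh φb r * rh φa (D.ιu r)) * rh φb r) := by rw [hc.eq]
    _ = rh φa (D.ιu r) * rh φb r := by group

omit [Fintype F] in
/-- the reflection `n = w_a w_b w_a⁻¹` centralises every `x_b(u)`. -/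
theorem su4w3_key (D : Tw F K) (ζ : Fˣ) (ζ₀ : Kˣ) (φa : Matrix.SpecialLinearGroup (Fin 2) F →* G)
    (φb : Matrix.SpecialLinearGroup (Fin 2) K →* G) (H : HypT D ζ ζ₀ φa φb) (R : Tor4T D φa φb) (t : K) :
    (rn φa * rn φb * (rn φa)⁻¹) * rx φb t * (rn φa * rn φb * (rn φa)⁻¹)⁻¹ = rx φb t := by
  have h := sp4kit_act_span (rx φb) (rx φb) (sp4kit_rx_add φb) (sp4kit_rx_add φb)
    (rn φa * rn φb * (rn φa)⁻¹) 1 _ (sp4kit_sq_span (F := K)) ?_ t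
  · rw [one_mul] at h
    exact h
  · rintro t ⟨r, rfl⟩
    show (rn φa * rn φb * (rn φa)⁻¹) * rx φb ((r : K) ^ 2) * (rn φa * rn φb * (rn φa)⁻¹)⁻¹
      = rx φb (1 * (r : K) ^ 2)
    rw [one_mul]
    set n : G := rn φa * rn φb * (rn φa)⁻¹ with hn
    have e1 : rx φb ((r : K) ^ 2) = rh φb r * rx φb 1 * (rh φb r)⁻¹ := by
      rw [R.bb r 1, mul_one]
    have hc : Commute (rh φa (D.ιu r)) (rh φb r) := R.comm (D.ιu r) r
    have hτ : n * rh φb r * n⁻¹ = rh φb r := by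
      calc n * rh φb r * n⁻¹
          = rn φa * (rn φb * ((rn φa)⁻¹ * rh φb r * rn φa) * (rn φb)⁻¹) * (rn φa)⁻¹ := by
            rw [hn]; group
        _ = rn φa * (rn φb * (rh φb r * rh φa (D.ιu r)) * (rn φb)⁻¹) * (rn φa)⁻¹ := by rw [R.wa_hb' r]
        _ = rn φa * (rh φa (D.ιu r) * rh φb r) * (rn φa)⁻¹ := by rw [su4w3_wb_prod D φa φb R r]
        _ = (rn φa * rh φa (D.ιu r) * (rn φa)⁻¹) * (rn φa * rh φb r * (rn φa)⁻¹) := by group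
        _ = (rh φa (D.ιu r))⁻¹ * (rh φb r * rh φa (D.ιu r)) := by rw [sp4kit_rn_rh, R.wa_hb r]
        _ = (rh φa (D.ιu r))⁻¹ * (rh φa (D.ιu r) * rh φb r) := by rw [hc.eq]
        _ = rh φb r := by group
    have hW8 : n * rx φb 1 * n⁻¹ = rx φb 1 := by
      have := H.W8
      rw [← hn] at this
      rw [this.eq]
      group
    calc n * rx φb ((r : K) ^ 2) * n⁻¹ = n * (rh φb r * rx φb 1 * (rh φb r)⁻¹) * n⁻¹ := by rw [e1]
      _ = (n * rh φb r * n⁻¹) * (n * rx φb 1 * n⁻¹) * (n * rh φb r * n⁻¹)⁻¹ := by group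
      _ = rh φb r * rx φb 1 * (rh φb r)⁻¹ := by rw [hτ, hW8]
      _ = rx φb ((r : K) ^ 2) := e1.symm

/-- W3 [M]  deps F0 + `sq_span act_span r_basic`.  Model SP4 W3 `wact_bd` (`helper17.SP4W2`), same proof over `K`.  `n := w_a w_b w_a⁻¹`; `w_b x_d(u) w_b⁻¹ = w_a⁻¹ (n x_b(u) n⁻¹) w_a`, so it suffices: `n x_b(u) n⁻¹ = x_b(u)`.
For a square `u = r²` of `K`: `x_b(r²) = h_b(r) x_b(1) h_b(r)⁻¹`, `n x_b(1) n⁻¹ = x_b(1)` (`H.W8`), `n h_b(r) n⁻¹ = h_b(r)`: `w_a⁻¹ h_b(r) w_a = h_b(r) h_a(ιu r)`, `w_b (·) w_b⁻¹ = h_b(r)⁻¹ h_a(ιu r) h_b(nmu (ιu r)) = h_a(ιu r) h_b(r)`,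
`w_a (·) w_a⁻¹ = h_a(ιu r)⁻¹ h_b(r) h_a(ιu r) = h_b(r)`.  `act_span` with `c = 1`, squares of `K`. -/
theorem wact_bdT (D : Tw F K) (ζ : Fˣ) (ζ₀ : Kˣ) (φa : Matrix.SpecialLinearGroup (Fin 2) F →* G)
    (φb : Matrix.SpecialLinearGroup (Fin 2) K →* G) (H : HypT D ζ ζ₀ φa φb) (R : Tor4T D φa φb) :
    ∀ u, rn φb * xdT φa φb u * (rn φb)⁻¹ = xdT φa φb u := by
  intro t
  have key := su4w3_key D ζ ζ₀ φa φb H R t
  unfold xdT
  nth_rewrite 2 [← key]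
  group

/-- W4 core: `wact4T` with the statement of W2 (`wact_acT`) as hypothesis. -/
theorem su4w4_core (D : Tw F K) (ζ : Fˣ) (ζ₀ : Kˣ) (φa : Matrix.SpecialLinearGroup (Fin 2) F →* G)
    (φb : Matrix.SpecialLinearGroup (Fin 2) K →* G) (H : HypT D ζ ζ₀ φa φb) (R : Tor4T D φa φb)
    (hW2 : ∀ t, rn φa * xcT φa φb t * (rn φa)⁻¹ = xcT φa φb (-D.σ t)) :
    Wact4T D φa φb := by
  obtain ⟨h1, h2, h3, h4⟩ := wact_easyT D φa φb R
  exact ⟨h1, h2, hW2, h3, h4, wact_bdT D ζ ζ₀ φa φb H R⟩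

end W

end Cfsg.Agent.Lib.Helper22.SU4
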