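import Mathlib
import Cfsg.Agent.Lib.helper17.SLP.Defs
import Cfsg.Agent.Lib.helper3.SP4.Defs
import Cfsg.Agent.Lib.Helper22.SU4.Defs
import Cfsg.Prelude.Def_Classical
import Cfsg.Agent.Lib.helper17.SP4Kit
import Cfsg.Agent.Lib.helper8.SP4D5
import Cfsg.Agent.Lib.Helper5.SP4D7
import Cfsg.Agent.Lib.Helper5.SU4T9

/-!
# Project SU4 (designer helper22), rows D5 `rd_weylXT` and D7 `rd_braid_genT` (helper5), verbatim.
On helper8's `SP4D1` / `SP4D5` (`sp4d1_mem`, `sp4d5_fwd`, `sp4d5_bwd`: generic in the field), `Helper5.SP4D7` (`sp4d7_range_le`), `Helper5.SU4T9` (`xcd_addT`).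
-/

set_option autoImplicit false

namespace Cfsg.Agent.Lib.Helper22.SU4

open Cfsg.Agent.Lib.helper17.SLP Cfsg.Agent.Lib.helper3.SP4

universe u v

section D

variable {F : Type u} {K : Type u} [Field F] [Field K] [Fintype F] [Fintype K] {G : Type v} [Group G]

/-- D5 [S-M]  deps T9 + SP4 `rg_mem`.  Model SP4 D5 `rd_weylX` (`helper8.SP4D5`); the parameter changes `t ↦ -t`, `t ↦ -σ t` stay inside the root group. -/
theorem rd_weylXT (D : Tw F K) (φa : Matrix.SpecialLinearGroup (Fin 2) F →* G)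
    (φb : Matrix.SpecialLinearGroup (Fin 2) K →* G) (W : Wact4T D φa φb) :
    (∀ g ∈ RG (rx φb), rn φa * g * (rn φa)⁻¹ ∈ RG (xdT φa φb)) ∧
      (∀ g ∈ RG (xdT φa φb), rn φa * g * (rn φa)⁻¹ ∈ RG (rx φb)) ∧
      (∀ g ∈ RG (xcT φa φb), rn φa * g * (rn φa)⁻¹ ∈ RG (xcT φa φb)) ∧
      (∀ g ∈ RG (rx φb), (rn φa)⁻¹ * g * rn φa ∈ RG (xdT φa φb)) ∧
      (∀ g ∈ RG (xdT φa φb), (rn φa)⁻¹ * g * rn φa ∈ RG (rx φb)) ∧
      (∀ g ∈ RG (xcT φa φb), (rn φa)⁻¹ * g * rn φa ∈ RG (xcT φa φb)) ∧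
      (∀ g ∈ RG (rx φa), rn φb * g * (rn φb)⁻¹ ∈ RG (xcT φa φb)) ∧
      (∀ g ∈ RG (xcT φa φb), rn φb * g * (rn φb)⁻¹ ∈ RG (rx φa)) ∧
      (∀ g ∈ RG (xdT φa φb), rn φb * g * (rn φb)⁻¹ ∈ RG (xdT φa φb)) ∧
      (∀ g ∈ RG (rx φa), (rn φb)⁻¹ * g * rn φb ∈ RG (xcT φa φb)) ∧
      (∀ g ∈ RG (xcT φa φb), (rn φb)⁻¹ * g * rn φb ∈ RG (rx φa)) ∧
      (∀ g ∈ RG (xdT φa φb), (rn φb)⁻¹ * g * rn φb ∈ RG (xdT φa φb)) := by
  have ha := sp4kit_rx_add φa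
  have hb := sp4kit_rx_add φb
  have hc := (xcd_addT φa φb).1
  have hd := (xcd_addT φa φb).2.1
  have hidF : Function.Surjective (fun t : F => t) := fun t => ⟨t, rfl⟩
  have hidK : Function.Surjective (fun t : K => t) := fun t => ⟨t, rfl⟩
  have hneg : Function.Surjective (fun t : F => -t) := fun t => ⟨-t, neg_neg t⟩
  have hnegσ : Function.Surjective (fun t : F => -D.σ t) := fun t =>
    ⟨-D.σ t, by show -D.σ (-D.σ t) = t; rw [map_neg, neg_neg, D.σσ]⟩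
  exact ⟨sp4d5_fwd _ _ hb hd _ (fun t => t) W.a_b,
    sp4d5_fwd _ _ hd hb _ (fun t => t) W.a_d,
    sp4d5_fwd _ _ hc hc _ (fun t => -D.σ t) W.a_c,
    sp4d5_bwd _ _ hd hb _ (fun t => t) hidK W.a_d,
    sp4d5_bwd _ _ hb hd _ (fun t => t) hidK W.a_b,
    sp4d5_bwd _ _ hc hc _ (fun t => -D.σ t) hnegσ W.a_c,
    sp4d5_fwd _ _ ha hc _ (fun t => -t) W.b_a,
    sp4d5_fwd _ _ hc ha _ (fun t => t) W.b_c,
    sp4d5_fwd _ _ hd hd _ (fun t => t) W.b_d,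
    sp4d5_bwd _ _ hc ha _ (fun t => t) hidF W.b_c,
    sp4d5_bwd _ _ ha hc _ (fun t => -t) hneg W.b_a,
    sp4d5_bwd _ _ hd hd _ (fun t => t) hidK W.b_d⟩

omit [Fintype F] [Fintype K] in
theorem su4d7_ha_mem (φa : Matrix.SpecialLinearGroup (Fin 2) F →* G)
    (φb : Matrix.SpecialLinearGroup (Fin 2) K →* G) (s : Fˣ) : rh φa s ∈ TTT φa φb :=
  Subgroup.subset_closure (Or.inl ⟨s, rfl⟩)

omit [Fintype F] [Fintype K] in
theorem su4d7_hb_mem (φa : Matrix.SpecialLinearGroup (Fin 2) F →* G)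
    (φb : Matrix.SpecialLinearGroup (Fin 2) K →* G) (r : Kˣ) : rh φb r ∈ TTT φa φb :=
  Subgroup.subset_closure (Or.inr ⟨r, rfl⟩)

/-- D7 [M]  Model SP4 D7 `rd_braid_gen` (`Helper5.SP4D7`; its extra `sp4d7_range_le` is generic in the field).  `braid`: `τ = 1`, `H.N6` backwards.  `gen`: `closure_M` (`helper6.SLPM4`) for `F` with `ζ` and for `K` with `ζ₀`. -/
theorem rd_braid_genT (D : Tw F K) (ζ : Fˣ) (hζ : ∀ y : Fˣ, y ∈ Subgroup.zpowers ζ) (ζ₀ : Kˣ)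
    (hζ₀ : ∀ y : Kˣ, y ∈ Subgroup.zpowers ζ₀) (φa : Matrix.SpecialLinearGroup (Fin 2) F →* G)
    (φb : Matrix.SpecialLinearGroup (Fin 2) K →* G) (H : HypT D ζ ζ₀ φa φb)
    (hgen : Subgroup.closure (Set.range φa ∪ Set.range φb) = ⊤) :
    (∃ τ ∈ TTT φa φb, rn φb * rn φa * rn φb * rn φa = τ * (rn φa * rn φb * rn φa * rn φb)) ∧
      Subgroup.closure (((TTT φa φb : Subgroup G) : Set G) ∪ (RG (rx φa) : Set G) ∪ (RG (rx φb) : Set G) ∪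
        {rn φa, rn φb}) = ⊤ := by
  constructor
  · exact ⟨1, Subgroup.one_mem _, by rw [one_mul]; exact H.N6.symm⟩
  · set L : Subgroup G := Subgroup.closure (((TTT φa φb : Subgroup G) : Set G) ∪ (RG (rx φa) : Set G) ∪
      (RG (rx φb) : Set G) ∪ {rn φa, rn φb}) with hL
    rw [eq_top_iff, ← hgen, Subgroup.closure_le]
    have hTT : ∀ g ∈ TTT φa φb, g ∈ L := fun g hg =>
      Subgroup.subset_closure (Or.inl (Or.inl (Or.inl hg)))
    have hA : ∀ g ∈ RG (rx φa), g ∈ L := fun g hg =>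
      Subgroup.subset_closure (Or.inl (Or.inl (Or.inr hg)))
    have hB' : ∀ g ∈ RG (rx φb), g ∈ L := fun g hg =>
      Subgroup.subset_closure (Or.inl (Or.inr hg))
    have hna : rn φa ∈ L := Subgroup.subset_closure (Or.inr (Or.inl rfl))
    have hnb : rn φb ∈ L := Subgroup.subset_closure (Or.inr (Or.inr rfl))
    apply Set.union_subset
    · exact sp4d7_range_le ζ hζ φa L (hA _ (sp4d6_rx_mem φa 1)) (hTT _ (su4d7_ha_mem φa φb ζ)) hna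
    · exact sp4d7_range_le ζ₀ hζ₀ φb L (hB' _ (sp4d6_rx_mem φb 1)) (hTT _ (su4d7_hb_mem φa φb ζ₀)) hnb

end D

end Cfsg.Agent.Lib.Helper22.SU4
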