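import Mathlib
import Cfsg.Agent.Lib.helper17.SLP.Defs
import Cfsg.Agent.Lib.helper3.SP4.Defs
import Cfsg.Agent.Lib.Helper22.SU4.Defs
import Cfsg.Prelude.Def_Classical
import Cfsg.Agent.Lib.helper17.SP4Kit
import Cfsg.Agent.Lib.Helper29.SP4C1
import Cfsg.Agent.Lib.helper4.SU4F0
import Cfsg.Agent.Lib.Helper5.SU4T9

/-!
# Project SU4 (designer helper22), rows C4 `comm_bdT` and C5 `comm_cd_bcT` (helper5), verbatim.
On helper17's `SP4Kit`, `Helper29.SP4C1` (`comm_span`), helper4's `SU4F0`, `Helper5.SU4T9` (`xcd_addT`).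
-/

set_option autoImplicit false

namespace Cfsg.Agent.Lib.Helper22.SU4

open Cfsg.Agent.Lib.helper17.SLP Cfsg.Agent.Lib.helper3.SP4

universe u v

section C

variable {F : Type u} {K : Type u} [Field F] [Field K] [Fintype F] [Fintype K] {G : Type v} [Group G]

/-- conjugation by a product of two elements which both act on `X`. -/
theorem su4c4_conj {A : Type u} [Field A] {G : Type v} [Group G] (g₁ g₂ : G) (X : A → G) (ca cb : A)
    (ha : Act g₁ X ca) (hb : Act g₂ X cb) (t : A) :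
    (g₁ * g₂) * X t * (g₁ * g₂)⁻¹ = X (ca * (cb * t)) := by
  have e : (g₁ * g₂) * X t * (g₁ * g₂)⁻¹ = g₁ * (g₂ * X t * g₂⁻¹) * g₁⁻¹ := by group
  rw [e, hb t, ha]

theorem su4c4_commute_conj {G : Type v} [Group G] {a b : G} (g : G) (h : Commute a b) :
    Commute (g * a * g⁻¹) (g * b * g⁻¹) :=
  (Commute.conj_iff g).mpr h

/-- C4 [M]  deps T9 + `comm_span sq_span r_basic`.  Model SP4 C4 `comm_bd` (`Helper21.SP4C3`).  Conjugate `H.C12` by `h_a(ιu k) h_b(r)`: `Commute (x_b(r² (k²)⁻¹)) (x_d(k²))` (`nm (ι k) = k²`); all pairs of squares of `K`; `comm_span` twice. -/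
theorem comm_bdT (D : Tw F K) (ζ : Fˣ) (ζ₀ : Kˣ) (φa : Matrix.SpecialLinearGroup (Fin 2) F →* G)
    (φb : Matrix.SpecialLinearGroup (Fin 2) K →* G) (H : HypT D ζ ζ₀ φa φb) (R : Tor4T D φa φb) :
    ∀ u u', Commute (rx φb u) (xdT φa φb u') := by
  have hT3 : AddSubgroup.closure (Set.range fun s : Kˣ => ((s : K)) ^ 2) = ⊤ := sp4kit_sq_span (F := K)
  have hxd : ∀ s t, xdT φa φb (s + t) = xdT φa φb s * xdT φa φb t := (xcd_addT φa φb).2.1
  -- pairs of squares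
  have hsq : ∀ r k : Kˣ, Commute (rx φb ((r : K) ^ 2)) (xdT φa φb ((k : K) ^ 2)) := by
    intro r k
    set ρ : Kˣ := k * r with hρ
    have h1 := su4c4_conj (rh φa (D.ιu k)) (rh φb ρ) (rx φb) _ _ (R.ba (D.ιu k)) (R.bb ρ) 1
    have h2 := su4c4_conj (rh φa (D.ιu k)) (rh φb ρ) (xdT φa φb) _ _ (R.da (D.ιu k)) (R.db ρ) 1
    have hc := su4c4_commute_conj (rh φa (D.ιu k) * rh φb ρ) H.C12
    rw [h1, h2] at hc
    have e1 : (((D.nmu (D.ιu k))⁻¹ : Kˣ) : K) * ((ρ : K) ^ 2 * 1) = (r : K) ^ 2 := by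
      rw [su4f0_nmu_ιu, hρ, Units.val_mul, Units.val_inv_eq_inv_val, Units.val_pow_eq_pow_val]
      have hk : (k : K) ≠ 0 := k.ne_zero
      field_simp
    have e2 : D.nm ((D.ιu k : Fˣ) : F) * ((1 : K) * 1) = (k : K) ^ 2 := by
      rw [D.ιu_coe, su4f0_nm_ι, mul_one, mul_one]
    rw [e1, e2] at hc
    exact hc
  -- all `u'`, `u` a square
  have h1 : ∀ (r : Kˣ) (t : K), Commute (rx φb ((r : K) ^ 2)) (xdT φa φb t) := by
    intro r
    apply comm_span (xdT φa φb) hxd _ _ hT3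
    rintro t ⟨k, rfl⟩
    exact hsq r k
  intro s t
  have h2 : ∀ s, Commute (xdT φa φb t) (rx φb s) := by
    apply comm_span (rx φb) (sp4kit_rx_add φb) _ _ hT3
    rintro s ⟨r, rfl⟩
    exact (h1 r t).symm
  exact (h2 s).symm

/-- C5 [S-M]  Model SP4 C5 `comm_cd_bc` (`Helper29`).  Conjugate `had s t` by `w_b`: `w_b x_a(s) w_b⁻¹ = x_c(-s)`, `w_b x_d(t) w_b⁻¹ = x_d(t)`: `cd`.  Conjugate `cd` by `w_a`: `w_a x_c(s) w_a⁻¹ = x_c(-σ s)`, `w_a x_d(t) w_a⁻¹ = x_b(t)`: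
`Commute (x_c(-σ s)) (x_b t)`; every `t'` is `-σ s` (`s := -σ t'`, `D.σσ`). -/
theorem comm_cd_bcT (D : Tw F K) (φa : Matrix.SpecialLinearGroup (Fin 2) F →* G)
    (φb : Matrix.SpecialLinearGroup (Fin 2) K →* G) (W : Wact4T D φa φb)
    (had : ∀ t u, Commute (rx φa t) (xdT φa φb u)) :
    (∀ t u, Commute (xcT φa φb t) (xdT φa φb u)) ∧ (∀ u t, Commute (rx φb u) (xcT φa φb t)) := by
  have h1 : ∀ t u, Commute (xcT φa φb t) (xdT φa φb u) := by
    intro s t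
    have h := (Commute.conj_iff (rn φb)).mpr (had (-s) t)
    rwa [W.b_a, W.b_d, neg_neg] at h
  refine ⟨h1, ?_⟩
  intro u t
  have h := (Commute.conj_iff (rn φa)).mpr (h1 (-D.σ t) u)
  rw [W.a_c, W.a_d, map_neg, neg_neg, D.σσ] at h
  exact h.symm

end C

end Cfsg.Agent.Lib.Helper22.SU4
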