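import Mathlib
import Cfsg.Agent.Lib.helper17.SLP.Defs
import Cfsg.Agent.Lib.helper3.SP4.Defs
import Cfsg.Agent.Lib.Helper22.SU4.Defs
import Cfsg.Prelude.Def_Classical
import Cfsg.Agent.Lib.helper17.SP4Kit

/-!
# Project SU4 (designer helper22), rows T5 `act_abT` and T6 `act_baT` (helper5), verbatim.
On helper17's `SP4Kit` (generic in the field).  Extras `su4t5_*` (own copy of T1 `tor_commT`).
-/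

set_option autoImplicit false

namespace Cfsg.Agent.Lib.Helper22.SU4

open Cfsg.Agent.Lib.helper17.SLP Cfsg.Agent.Lib.helper3.SP4

universe u v

section T

variable {F : Type u} {K : Type u} [Field F] [Field K] [Fintype F] [Fintype K] {G : Type v} [Group G]

omit [Fintype F] [Fintype K] in
/-- own copy of the statement of row T1 (`tor_commT`). -/
theorem su4t5_tor_comm (D : Tw F K) (ζ : Fˣ) (hζ : ∀ y : Fˣ, y ∈ Subgroup.zpowers ζ) (ζ₀ : Kˣ)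
    (hζ₀ : ∀ y : Kˣ, y ∈ Subgroup.zpowers ζ₀) (φa : Matrix.SpecialLinearGroup (Fin 2) F →* G)
    (φb : Matrix.SpecialLinearGroup (Fin 2) K →* G) (H : HypT D ζ ζ₀ φa φb) :
    ∀ (s : Fˣ) (r : Kˣ), Commute (rh φa s) (rh φb r) := by
  intro s r
  obtain ⟨i, hi⟩ := Subgroup.mem_zpowers_iff.mp (hζ s)
  obtain ⟨j, hj⟩ := Subgroup.mem_zpowers_iff.mp (hζ₀ r)
  rw [← hi, ← hj, sp4kit_rh_zpow, sp4kit_rh_zpow]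
  exact Commute.zpow_zpow H.T1 i j

/-- T5 at the generator: `Act (h_b(ζ₀)) x_a (ι ζ₀)⁻¹`. -/
theorem su4t5_gen (D : Tw F K) (ζ : Fˣ) (hζ : ∀ y : Fˣ, y ∈ Subgroup.zpowers ζ) (ζ₀ : Kˣ)
    (hζ₀ : ∀ y : Kˣ, y ∈ Subgroup.zpowers ζ₀) (φa : Matrix.SpecialLinearGroup (Fin 2) F →* G)
    (φb : Matrix.SpecialLinearGroup (Fin 2) K →* G) (H : HypT D ζ ζ₀ φa φb) :
    Act (rh φb ζ₀) (rx φa) ((D.ι (ζ₀ : K))⁻¹) := by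
  have hcomm := su4t5_tor_comm D ζ hζ ζ₀ hζ₀ φa φb H
  have hg : ∀ t, (rh φb ζ₀)⁻¹ * rx φa t * ((rh φb ζ₀)⁻¹)⁻¹ = rx φa (D.ι (ζ₀ : K) * t) := by
    apply sp4kit_act_span (rx φa) (rx φa) (sp4kit_rx_add φa) (sp4kit_rx_add φa) _ _ _
      (sp4kit_sq_span (F := F))
    rintro t ⟨s, rfl⟩
    show (rh φb ζ₀)⁻¹ * rx φa ((s : F) ^ 2) * ((rh φb ζ₀)⁻¹)⁻¹ = rx φa (D.ι (ζ₀ : K) * (s : F) ^ 2)
    have e1 : rx φa ((s : F) ^ 2) = rh φa s * rx φa 1 * (rh φa s)⁻¹ := by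
      rw [sp4kit_rh_act φa s 1, mul_one]
    have e2 : rx φa (D.ι (ζ₀ : K) * (s : F) ^ 2) = rh φa s * rx φa (D.ι (ζ₀ : K)) * (rh φa s)⁻¹ := by
      rw [sp4kit_rh_act φa s (D.ι (ζ₀ : K)), mul_comm]
    have hc : Commute (rh φa s) (rh φb ζ₀)⁻¹ := (hcomm s ζ₀).inv_right
    rw [e1, e2, ← H.T2]
    calc (rh φb ζ₀)⁻¹ * (rh φa s * rx φa 1 * (rh φa s)⁻¹) * ((rh φb ζ₀)⁻¹)⁻¹
        = ((rh φb ζ₀)⁻¹ * rh φa s) * rx φa 1 * ((rh φb ζ₀)⁻¹ * rh φa s)⁻¹ := by group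
      _ = (rh φa s * (rh φb ζ₀)⁻¹) * rx φa 1 * (rh φa s * (rh φb ζ₀)⁻¹)⁻¹ := by rw [hc.eq]
      _ = rh φa s * ((rh φb ζ₀)⁻¹ * rx φa 1 * rh φb ζ₀) * (rh φa s)⁻¹ := by group
  have h1 : Act ((rh φb ζ₀)⁻¹) (rx φa) (D.ι (ζ₀ : K)) := hg
  have hne : D.ι (ζ₀ : K) ≠ 0 := by
    rw [Ne, map_eq_zero]
    exact Units.ne_zero ζ₀
  have h2 := sp4kit_act_inv _ _ _ hne h1
  rwa [inv_inv] at h2

/-- T5 [M]  deps T1 + SP4 `sq_span act_span r_basic act_inv act_mul`.  Model SP4 T5 `act_ab` (`helper17.SP4T5`), same proof: `g := h_b(ζ₀)⁻¹`; for a square `t = s²` of `F`: `x_a(s²) = h_a(s) x_a(1) h_a(s)⁻¹`, `g` commutes with `h_a(s)`,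
`g x_a(1) g⁻¹ = x_a(ι ζ₀)` (`H.T2`): `g x_a(s²) g⁻¹ = x_a(ι ζ₀ * s²)`; `act_span` (`c = ι ζ₀`, squares of `F`): `Act (h_b(ζ₀)⁻¹) x_a (ι ζ₀)`; invert and take `zpow`s (`r = ζ₀^j`). -/
theorem act_abT (D : Tw F K) (ζ : Fˣ) (hζ : ∀ y : Fˣ, y ∈ Subgroup.zpowers ζ) (ζ₀ : Kˣ)
    (hζ₀ : ∀ y : Kˣ, y ∈ Subgroup.zpowers ζ₀) (φa : Matrix.SpecialLinearGroup (Fin 2) F →* G)
    (φb : Matrix.SpecialLinearGroup (Fin 2) K →* G) (H : HypT D ζ ζ₀ φa φb) :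
    ∀ r : Kˣ, Act (rh φb r) (rx φa) (D.ι ((r⁻¹ : Kˣ) : K)) := by
  intro r
  obtain ⟨j, hj⟩ := Subgroup.mem_zpowers_iff.mp (hζ₀ r)
  have hne : D.ι (ζ₀ : K) ≠ 0 := by
    rw [Ne, map_eq_zero]
    exact Units.ne_zero ζ₀
  have h := sp4kit_act_zpow _ _ _ (inv_ne_zero hne) (su4t5_gen D ζ hζ ζ₀ hζ₀ φa φb H) j
  rw [← hj, sp4kit_rh_zpow]
  refine sp4kit_act_congr _ _ _ _ ?_ h
  rw [Units.val_inv_eq_inv_val, Units.val_zpow_eq_zpow_val, map_inv₀, map_zpow₀, inv_zpow]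

/-- T6 at the generator: `Act (h_a(ζ)) x_b ζ₀⁻¹`. -/
theorem su4t6_gen (D : Tw F K) (ζ : Fˣ) (hζ : ∀ y : Fˣ, y ∈ Subgroup.zpowers ζ) (ζ₀ : Kˣ)
    (hζ₀ : ∀ y : Kˣ, y ∈ Subgroup.zpowers ζ₀) (φa : Matrix.SpecialLinearGroup (Fin 2) F →* G)
    (φb : Matrix.SpecialLinearGroup (Fin 2) K →* G) (H : HypT D ζ ζ₀ φa φb) :
    Act (rh φa ζ) (rx φb) ((ζ₀ : K)⁻¹) := by
  have hcomm := su4t5_tor_comm D ζ hζ ζ₀ hζ₀ φa φb H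
  have hg : ∀ t, (rh φa ζ)⁻¹ * rx φb t * ((rh φa ζ)⁻¹)⁻¹ = rx φb ((ζ₀ : K) * t) := by
    apply sp4kit_act_span (rx φb) (rx φb) (sp4kit_rx_add φb) (sp4kit_rx_add φb) _ _ _
      (sp4kit_sq_span (F := K))
    rintro t ⟨r, rfl⟩
    show (rh φa ζ)⁻¹ * rx φb ((r : K) ^ 2) * ((rh φa ζ)⁻¹)⁻¹ = rx φb ((ζ₀ : K) * (r : K) ^ 2)
    have e1 : rx φb ((r : K) ^ 2) = rh φb r * rx φb 1 * (rh φb r)⁻¹ := by
      rw [sp4kit_rh_act φb r 1, mul_one]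
    have e2 : rx φb ((ζ₀ : K) * (r : K) ^ 2) = rh φb r * rx φb (ζ₀ : K) * (rh φb r)⁻¹ := by
      rw [sp4kit_rh_act φb r (ζ₀ : K), mul_comm]
    have hc : Commute (rh φb r) (rh φa ζ)⁻¹ := ((hcomm ζ r).symm).inv_right
    rw [e1, e2, ← H.T3]
    calc (rh φa ζ)⁻¹ * (rh φb r * rx φb 1 * (rh φb r)⁻¹) * ((rh φa ζ)⁻¹)⁻¹
        = ((rh φa ζ)⁻¹ * rh φb r) * rx φb 1 * ((rh φa ζ)⁻¹ * rh φb r)⁻¹ := by group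
      _ = (rh φb r * (rh φa ζ)⁻¹) * rx φb 1 * (rh φb r * (rh φa ζ)⁻¹)⁻¹ := by rw [hc.eq]
      _ = rh φb r * ((rh φa ζ)⁻¹ * rx φb 1 * rh φa ζ) * (rh φb r)⁻¹ := by group
  have h1 : Act ((rh φa ζ)⁻¹) (rx φb) (ζ₀ : K) := hg
  have h2 := sp4kit_act_inv _ _ _ (Units.ne_zero ζ₀) h1
  rwa [inv_inv] at h2

/-- T6 [M]  deps T1 + SP4 `sq_span act_span r_basic act_inv act_mul`.  Model SP4 T6 `act_ba`.  `g := h_a(ζ)⁻¹`; `H.T3`: `g x_b(1) g⁻¹ = x_b(ζ₀)`; squares `u = r²` of `K`: `x_b(r²) = h_b(r) x_b(1) h_b(r)⁻¹`, `g` commutes with `h_b(r)`;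
`act_span` over `K`: `Act (h_a(ζ)⁻¹) x_b ζ₀`; invert; `zpow`s: `s = ζ^j`, `(nmu s)⁻¹ = (ζ₀⁻¹)^j` (`hn`). -/
theorem act_baT (D : Tw F K) (ζ : Fˣ) (hζ : ∀ y : Fˣ, y ∈ Subgroup.zpowers ζ) (ζ₀ : Kˣ)
    (hζ₀ : ∀ y : Kˣ, y ∈ Subgroup.zpowers ζ₀) (hn : D.nmu ζ = ζ₀)
    (φa : Matrix.SpecialLinearGroup (Fin 2) F →* G) (φb : Matrix.SpecialLinearGroup (Fin 2) K →* G)
    (H : HypT D ζ ζ₀ φa φb) :
    ∀ s : Fˣ, Act (rh φa s) (rx φb) (((D.nmu s)⁻¹ : Kˣ) : K) := by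
  intro s
  obtain ⟨j, hj⟩ := Subgroup.mem_zpowers_iff.mp (hζ s)
  have h := sp4kit_act_zpow _ _ _ (inv_ne_zero (Units.ne_zero ζ₀)) (su4t6_gen D ζ hζ ζ₀ hζ₀ φa φb H) j
  rw [← hj, sp4kit_rh_zpow]
  refine sp4kit_act_congr _ _ _ _ ?_ h
  rw [map_zpow, hn, Units.val_inv_eq_inv_val, Units.val_zpow_eq_zpow_val, inv_zpow]

end T

end Cfsg.Agent.Lib.Helper22.SU4
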