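import Mathlib
import Cfsg.Agent.Lib.helper17.SLP.Defs
import Cfsg.Agent.Lib.helper3.SP4.Defs
import Cfsg.Agent.Lib.Helper22.SU4.Defs
import Cfsg.Prelude.Def_Classical
import Cfsg.Agent.Lib.Helper5.SU4W3
import Cfsg.Agent.Lib.helper8.SU4W2
import Cfsg.Agent.Lib.Helper5.SU4E6
import Cfsg.Agent.Lib.helper15.SU4D9

/-!
# Project SU4 (designer helper22), rows W4 `wact4T` and FIN2 `card_le_su4` (helper5), verbatim.
-/

set_option autoImplicit false

namespace Cfsg.Agent.Lib.Helper22.SU4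

open Cfsg.Agent.Lib.helper17.SLP Cfsg.Agent.Lib.helper3.SP4

universe u v

section W

variable {F : Type u} {K : Type u} [Field F] [Field K] [Fintype F] [Fintype K] {G : Type v} [Group G]

/-- W4 [S]  deps W1 W2 W3. -/
theorem wact4T (D : Tw F K) (ζ : Fˣ) (ζ₀ : Kˣ) (φa : Matrix.SpecialLinearGroup (Fin 2) F →* G)
    (φb : Matrix.SpecialLinearGroup (Fin 2) K →* G) (H : HypT D ζ ζ₀ φa φb) (R : Tor4T D φa φb) :
    Wact4T D φa φb :=
  su4w4_core D ζ ζ₀ φa φb H R (wact_acT D ζ ζ₀ φa φb H R)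

end W

section FIN

variable {F : Type u} {K : Type u} [Field F] [Field K] [Fintype F] [Fintype K]

/-- FIN2 [S]  deps D9 E10. -/
theorem card_le_su4 {G : Type v} [Group G] (D : Tw F K) (hFK : Fintype.card F = Fintype.card K ^ 2) (ζ : Fˣ)
    (hζ : ∀ y : Fˣ, y ∈ Subgroup.zpowers ζ) (ζ₀ : Kˣ) (hζ₀ : ∀ y : Kˣ, y ∈ Subgroup.zpowers ζ₀)
    (hn : D.nmu ζ = ζ₀) (φa : Matrix.SpecialLinearGroup (Fin 2) F →* G)
    (φb : Matrix.SpecialLinearGroup (Fin 2) K →* G) (H : HypT D ζ ζ₀ φa φb)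
    (hgen : Subgroup.closure (Set.range φa ∪ Set.range φb) = ⊤) :
    Finite G ∧ Nat.card G ≤ Nat.card (TTT φa φb) * (Fintype.card F ^ 2 * Fintype.card K ^ 2) *
      (1 + Fintype.card F + Fintype.card K + 2 * (Fintype.card F * Fintype.card K) +
        Fintype.card F ^ 2 * Fintype.card K + Fintype.card F * Fintype.card K ^ 2 +
        Fintype.card F ^ 2 * Fintype.card K ^ 2) := by
  obtain ⟨hRD, hb, hd⟩ := rd_of_hypT D hFK ζ hζ ζ₀ hζ₀ hn φa φb H hgen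
  exact rd4_cardT (Fintype.card F) (Fintype.card K) _ _ _ _ _ _ _ hRD hb hd

end FIN

end Cfsg.Agent.Lib.Helper22.SU4
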