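import Mathlib
import Cfsg.Prelude.Def_Classical
import Cfsg.Agent.Lib.Lead.Reindex

set_option autoImplicit false

namespace Cfsg.Agent.Lib.Helper5.OSyl

open Cfsg Matrix Cfsg.Agent.Lib.Lead

variable {ι : Type} [Fintype ι] [DecidableEq ι] {F : Type*} [Field F]

def sqForm (ι : Type) [Fintype ι] (F : Type*) [Field F] (v : ι → F) : F := ∑ k, v k * v k

theorem sqForm_eq_dot (v : ι → F) : sqForm ι F v = v ⬝ᵥ v := rfl

theorem sqForm_mulVec_of_orth (M : Matrix ι ι F) (h : Mᵀ * M = 1) (v : ι → F) :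
    sqForm ι F (M *ᵥ v) = sqForm ι F v := by
  rw [sqForm_eq_dot, sqForm_eq_dot, Matrix.dotProduct_mulVec, Matrix.vecMul_mulVec, h,
    Matrix.vecMul_one]

theorem mem_iso_sq_of_orth (g : GL ι F)
    (h : (g : Matrix ι ι F)ᵀ * (g : Matrix ι ι F) = 1) :
    g ∈ Cfsg.isometryGroup F (sqForm ι F) := by
  rw [RI.mem_iso_iff']
  intro x
  exact sqForm_mulVec_of_orth _ h x

noncomputable def sqQF (ι : Type) [Fintype ι] (F : Type*) [Field F] : QuadraticForm F (ι → F) :=
  QuadraticMap.weightedSumSquares F (fun _ : ι => (1 : F))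

theorem sqQF_coe : ⇑(sqQF ι F) = sqForm ι F := by
  funext v
  unfold sqQF sqForm
  rw [QuadraticMap.weightedSumSquares_apply]
  simp

theorem polar_sqForm (u v : ι → F) :
    QuadraticMap.polar (sqForm ι F) u v = 2 * (u ⬝ᵥ v) := by
  unfold QuadraticMap.polar sqForm dotProduct
  simp only [Pi.add_apply]
  rw [← Finset.sum_sub_distrib, ← Finset.sum_sub_distrib, Finset.mul_sum]
  apply Finset.sum_congr rfl
  intro k _
  ring

theorem sqQF_nondeg (h2 : (2 : F) ≠ 0) :
    (QuadraticMap.polarBilin (sqQF ι F)).Nondegenerate := by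
  have key : ∀ u : ι → F, (∀ v, u ⬝ᵥ v = 0) → u = 0 := by
    intro u hu
    funext k
    have := hu (Pi.single k 1)
    simpa using this
  constructor
  · intro u hu
    apply key
    intro v
    have := hu v
    rw [QuadraticMap.polarBilin_apply_apply, sqQF_coe, polar_sqForm] at this
    rcases mul_eq_zero.mp this with h | h
    · exact absurd h h2
    · exact h
  · intro v hv
    apply key
    intro u
    have := hv u
    rw [QuadraticMap.polarBilin_apply_apply, sqQF_coe, polar_sqForm] at this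
    rcases mul_eq_zero.mp this with h | h
    · exact absurd h h2
    · rw [dotProduct_comm]; exact h

theorem orth_of_mem_iso (h2 : (2 : F) ≠ 0) (g : GL ι F)
    (hg : g ∈ Cfsg.isometryGroup F (sqForm ι F)) :
    (g : Matrix ι ι F)ᵀ * (g : Matrix ι ι F) = 1 := by
  rw [RI.mem_iso_iff'] at hg
  have hp : ∀ u v : ι → F, ((g : Matrix ι ι F) *ᵥ u) ⬝ᵥ ((g : Matrix ι ι F) *ᵥ v) = u ⬝ᵥ v := by
    intro u v
    have h1 : QuadraticMap.polar (sqForm ι F) ((g : Matrix ι ι F) *ᵥ u) ((g : Matrix ι ι F) *ᵥ v)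
        = QuadraticMap.polar (sqForm ι F) u v := by
      unfold QuadraticMap.polar
      rw [← Matrix.mulVec_add, hg, hg, hg]
    rw [polar_sqForm, polar_sqForm] at h1
    exact mul_left_cancel₀ h2 h1
  ext i j
  have := hp (Pi.single i 1) (Pi.single j 1)
  rw [Matrix.dotProduct_mulVec, Matrix.vecMul_mulVec] at this
  simp only [dotProduct_single_one, Matrix.single_one_vecMul] at this
  rw [Matrix.one_apply]
  rw [Pi.single_apply] at this
  rw [show ((g : Matrix ι ι F)ᵀ * (g : Matrix ι ι F)) i j =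
    ((g : Matrix ι ι F)ᵀ * (g : Matrix ι ι F)).row i j from rfl, this]
  by_cases hij : i = j
  · rw [if_pos hij, if_pos hij.symm]
  · rw [if_neg hij, if_neg (Ne.symm hij)]

theorem orth_of_mem_iso' (h2 : (2 : F) ≠ 0) (g : GL ι F)
    (hg : g ∈ Cfsg.isometryGroup F (sqForm ι F)) :
    (g : Matrix ι ι F) * (g : Matrix ι ι F)ᵀ = 1 :=
  mul_eq_one_comm.mp (orth_of_mem_iso h2 g hg)

end Cfsg.Agent.Lib.Helper5.OSyl
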