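import Mathlib

set_option autoImplicit false

namespace Cfsg.Agent.Lib.Helper5.SymSyl

open Equiv

section Gen

variable {G : Type*} [Group G]

def GenIn (p : ℕ) (S : Subgroup G) : Prop :=
  S ≤ Subgroup.closure {x | x ∈ S ∧ x ^ p = 1}

theorem genIn_map {G' : Type*} [Group G'] {p : ℕ} {S : Subgroup G} (φ : G →* G')
    (h : GenIn p S) : GenIn p (S.map φ) := by
  unfold GenIn at *
  calc S.map φ ≤ (Subgroup.closure {x | x ∈ S ∧ x ^ p = 1}).map φ := Subgroup.map_mono h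
    _ = Subgroup.closure (φ '' {x | x ∈ S ∧ x ^ p = 1}) := MonoidHom.map_closure _ _
    _ ≤ _ := by
      apply Subgroup.closure_mono
      rintro _ ⟨x, ⟨hx, hxp⟩, rfl⟩
      exact ⟨Subgroup.mem_map_of_mem _ hx, by rw [← map_pow, hxp, map_one]⟩

theorem genIn_sup {p : ℕ} {S T : Subgroup G} (hS : GenIn p S) (hT : GenIn p T) :
    GenIn p (S ⊔ T) := by
  unfold GenIn at *
  apply sup_le
  · exact hS.trans (Subgroup.closure_mono (fun x hx => ⟨(le_sup_left : S ≤ S ⊔ T) hx.1, hx.2⟩))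
  · exact hT.trans (Subgroup.closure_mono (fun x hx => ⟨(le_sup_right : T ≤ S ⊔ T) hx.1, hx.2⟩))

theorem genIn_of_forall {p : ℕ} {S : Subgroup G} (h : ∀ x ∈ S, x ^ p = 1) : GenIn p S :=
  fun x hx => Subgroup.subset_closure ⟨hx, h x hx⟩

theorem pow_mem_commutator_of_genIn {p : ℕ} {S : Subgroup G} (h : GenIn p S) (x : ↥S) :
    x ^ p ∈ commutator ↥S := by
  have key : ∀ s (_ : s ∈ Subgroup.closure {x | x ∈ S ∧ x ^ p = 1}),
      ∃ hs : s ∈ S, (Abelianization.of (⟨s, hs⟩ : ↥S)) ^ p = 1 := by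
    intro s hs
    induction hs using Subgroup.closure_induction with
    | mem y hy =>
      refine ⟨hy.1, ?_⟩
      rw [← map_pow]
      have : (⟨y, hy.1⟩ : ↥S) ^ p = 1 := Subtype.ext hy.2
      rw [this, map_one]
    | one => exact ⟨S.one_mem, by
        have : (⟨1, S.one_mem⟩ : ↥S) = 1 := rfl
        rw [this, map_one, one_pow]⟩
    | mul a b _ _ iha ihb =>
      obtain ⟨ha, ha'⟩ := iha
      obtain ⟨hb, hb'⟩ := ihb
      refine ⟨S.mul_mem ha hb, ?_⟩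
      have : (⟨a * b, S.mul_mem ha hb⟩ : ↥S) = ⟨a, ha⟩ * ⟨b, hb⟩ := rfl
      rw [this, map_mul, mul_pow, ha', hb', one_mul]
    | inv a _ iha =>
      obtain ⟨ha, ha'⟩ := iha
      refine ⟨S.inv_mem ha, ?_⟩
      have : (⟨a⁻¹, S.inv_mem ha⟩ : ↥S) = (⟨a, ha⟩ : ↥S)⁻¹ := rfl
      rw [this, map_inv, inv_pow, ha', inv_one]
  obtain ⟨hx, hx'⟩ := key x.1 (h x.2)
  rw [← Abelianization.ker_of, MonoidHom.mem_ker, map_pow]
  exact hx'

theorem genIn_subgroupOf {p : ℕ} {S A : Subgroup G} (hSA : S ≤ A) (h : GenIn p S) :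
    GenIn p (S.subgroupOf A) := by
  have key : ∀ s (_ : s ∈ Subgroup.closure {x | x ∈ S ∧ x ^ p = 1}),
      ∃ hs : s ∈ A, (⟨s, hs⟩ : ↥A) ∈
        Subgroup.closure {x : ↥A | x ∈ S.subgroupOf A ∧ x ^ p = 1} := by
    intro s hs
    induction hs using Subgroup.closure_induction with
    | mem y hy =>
      refine ⟨hSA hy.1, Subgroup.subset_closure ⟨?_, ?_⟩⟩
      · rw [Subgroup.mem_subgroupOf]; exact hy.1
      · exact Subtype.ext hy.2
    | one => exact ⟨A.one_mem, Subgroup.one_mem _⟩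
    | mul a b _ _ iha ihb =>
      obtain ⟨ha, ha'⟩ := iha
      obtain ⟨hb, hb'⟩ := ihb
      exact ⟨A.mul_mem ha hb, Subgroup.mul_mem _ ha' hb'⟩
    | inv a _ iha =>
      obtain ⟨ha, ha'⟩ := iha
      exact ⟨A.inv_mem ha, Subgroup.inv_mem _ ha'⟩
  intro x hx
  rw [Subgroup.mem_subgroupOf] at hx
  obtain ⟨_, h2⟩ := key x.1 (h hx)
  exact h2

theorem genIn_sylow {H : Type*} [Group H] [Finite H] {p : ℕ} [Fact p.Prime] (S : Subgroup H)
    (hcard : Nat.card S = p ^ (Nat.card H).factorization p) (hS : GenIn p S) (Q : Sylow p H) :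
    GenIn p (Q : Subgroup H) := by
  obtain ⟨g, hg⟩ := MulAction.exists_smul_eq H (Sylow.ofCard S hcard) Q
  have : (Q : Subgroup H) = S.map (MulAut.conj g).toMonoidHom := by
    rw [← hg, Sylow.coe_subgroup_smul, Sylow.coe_ofCard]
    rfl
  rw [this]
  exact genIn_map _ hS

theorem card_mul_le_card_sup [Finite G] {H K : Subgroup G} (h : H ⊓ K = ⊥) :
    Nat.card H * Nat.card K ≤ Nat.card ↥(H ⊔ K) := by
  rw [← Nat.card_prod]
  apply Nat.card_le_card_of_injective (fun x : ↥H × ↥K =>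
    (⟨(x.1 : G) * (x.2 : G), mul_mem ((le_sup_left : H ≤ H ⊔ K) x.1.2)
      ((le_sup_right : K ≤ H ⊔ K) x.2.2)⟩ : ↥(H ⊔ K)))
  rintro ⟨⟨a, ha⟩, ⟨b, hb⟩⟩ ⟨⟨a', ha'⟩, ⟨b', hb'⟩⟩ hab
  have hab' : a * b = a' * b' := congrArg Subtype.val hab
  have h1 : a'⁻¹ * a = b' * b⁻¹ := by
    rw [inv_mul_eq_iff_eq_mul, ← mul_assoc, ← hab', mul_inv_cancel_right]
  have h2 : a'⁻¹ * a ∈ H ⊓ K :=
    ⟨H.mul_mem (H.inv_mem ha') ha, h1 ▸ K.mul_mem hb' (K.inv_mem hb)⟩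
  rw [h, Subgroup.mem_bot] at h2
  have ha_eq : a = a' := by
    rw [inv_mul_eq_one] at h2
    exact h2.symm
  subst ha_eq
  have hb_eq : b = b' := mul_left_cancel hab'
  subst hb_eq
  rfl

theorem card_eq_of_pgroup {H : Type*} [Group H] [Finite H] {p : ℕ} [Fact p.Prime]
    (S : Subgroup H) (hS : IsPGroup p S) (N : ℕ) (hN : N ≠ 0) (hdvd : Nat.card S ∣ N)
    (hge : p ^ padicValNat p N ≤ Nat.card S) : Nat.card S = p ^ padicValNat p N := by
  obtain ⟨k, hk⟩ := IsPGroup.iff_card.mp hS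
  rw [hk] at hdvd hge ⊢
  have h1 : k ≤ padicValNat p N := (padicValNat_dvd_iff_le hN).mp hdvd
  have h2 : padicValNat p N ≤ k :=
    (Nat.pow_le_pow_iff_right (Fact.out : p.Prime).one_lt).mp hge
  rw [le_antisymm h1 h2]

end Gen

end Cfsg.Agent.Lib.Helper5.SymSyl
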