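import Mathlib
import Cfsg.Agent.Lib.Helper5.SymSylA

set_option autoImplicit false

namespace Cfsg.Agent.Lib.Helper5.SymSyl

open Equiv

section Block

variable (p : ℕ) [Fact p.Prime] (Δ : Type)

def topHom : Perm Δ →* Perm (Δ × ZMod p) where
  toFun σ := Equiv.prodCongrLeft (fun _ => σ)
  map_one' := by
    ext x <;> rfl
  map_mul' σ τ := by
    ext x <;> rfl

def baseHom : (Δ → Multiplicative (ZMod p)) →* Perm (Δ × ZMod p) where
  toFun f := Equiv.prodCongrRight (fun d => Equiv.addRight (Multiplicative.toAdd (f d)))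
  map_one' := by
    ext x
    · rfl
    · simp
  map_mul' f g := by
    ext x
    · rfl
    · show x.2 + Multiplicative.toAdd ((f * g) x.1) =
        (x.2 + Multiplicative.toAdd (g x.1)) + Multiplicative.toAdd (f x.1)
      rw [Pi.mul_apply, toAdd_mul]
      abel

theorem topHom_apply (σ : Perm Δ) (x : Δ × ZMod p) : topHom p Δ σ x = (σ x.1, x.2) := rfl

theorem baseHom_apply (f : Δ → Multiplicative (ZMod p)) (x : Δ × ZMod p) :
    baseHom p Δ f x = (x.1, x.2 + Multiplicative.toAdd (f x.1)) := rfl

theorem topHom_injective : Function.Injective (topHom p Δ) := by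
  intro σ τ h
  ext d
  have := congrArg (fun e : Perm (Δ × ZMod p) => (e (d, 0)).1) h
  simpa [topHom_apply] using this

theorem baseHom_injective : Function.Injective (baseHom p Δ) := by
  intro f g h
  funext d
  have := congrArg (fun e : Perm (Δ × ZMod p) => (e (d, 0)).2) h
  simp only [baseHom_apply, zero_add] at this
  exact Multiplicative.toAdd.injective this

theorem baseHom_pow (f : Δ → Multiplicative (ZMod p)) : (baseHom p Δ f) ^ p = 1 := by
  rw [← map_pow]
  have : f ^ p = 1 := by
    funext d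
    show (f d) ^ p = 1
    apply Multiplicative.toAdd.injective
    rw [toAdd_pow, toAdd_one]
    simp
  rw [this, map_one]

theorem top_conj_base (σ : Perm Δ) (f : Δ → Multiplicative (ZMod p)) :
    topHom p Δ σ * baseHom p Δ f * (topHom p Δ σ)⁻¹ = baseHom p Δ (fun d => f (σ.symm d)) := by
  ext x
  · simp [Perm.mul_apply, topHom_apply, baseHom_apply, ← map_inv, Perm.inv_def]
  · simp [Perm.mul_apply, topHom_apply, baseHom_apply, ← map_inv, Perm.inv_def]

theorem base_inf_top : (baseHom p Δ).range ⊓ (topHom p Δ).range = ⊥ := by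
  rw [eq_bot_iff]
  rintro x ⟨⟨f, rfl⟩, ⟨σ, hσ⟩⟩
  rw [Subgroup.mem_bot]
  ext y
  · have := congrArg (fun e : Perm (Δ × ZMod p) => (e y).1) hσ
    simp only [baseHom_apply, topHom_apply] at this
    rw [Perm.one_apply, baseHom_apply]
  · have h1 := congrArg (fun e : Perm (Δ × ZMod p) => (e y).2) hσ
    simp only [baseHom_apply, topHom_apply] at h1
    rw [Perm.one_apply, baseHom_apply]
    exact h1.symm

theorem top_le_normalizer_base [Finite Δ] :
    (topHom p Δ).range ≤ Subgroup.normalizer ((baseHom p Δ).range : Set (Perm (Δ × ZMod p))) := by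
  rintro _ ⟨σ, rfl⟩
  apply Subgroup.mem_normalizer_fintype
  rintro _ ⟨f, rfl⟩
  rw [top_conj_base]
  exact ⟨_, rfl⟩

theorem card_base [Finite Δ] : Nat.card (baseHom p Δ).range = p ^ Nat.card Δ := by
  rw [← Nat.card_congr (MonoidHom.ofInjective (baseHom_injective p Δ)).toEquiv, Nat.card_fun,
    Nat.card_congr Multiplicative.toAdd, Nat.card_zmod]

end Block

end Cfsg.Agent.Lib.Helper5.SymSyl
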