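import Mathlib
import Cfsg.Agent.Lib.Helper5.SymSylB

set_option autoImplicit false

namespace Cfsg.Agent.Lib.Helper5.SymSyl

open Equiv
open scoped Nat

def Good (p : ℕ) (Ω : Type) : Prop :=
  ∃ S : Subgroup (Perm Ω), IsPGroup p S ∧
    Nat.card S = p ^ padicValNat p (Nat.card Ω)! ∧ GenIn p S

variable (p : ℕ) [Fact p.Prime]

theorem good_of_injective {Δ Ω : Type} (ff : Perm Δ →* Perm Ω) (hff : Function.Injective ff)
    (hv : padicValNat p (Nat.card Δ)! = padicValNat p (Nat.card Ω)!) (h : Good p Δ) :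
    Good p Ω := by
  obtain ⟨S, hSp, hScard, hSgen⟩ := h
  refine ⟨S.map ff, hSp.map ff, ?_, genIn_map ff hSgen⟩
  rw [Subgroup.card_map_of_injective hff, hScard, hv]

theorem good_of_equiv {Δ Ω : Type} (e : Δ ≃ Ω) (h : Good p Δ) : Good p Ω := by
  apply good_of_injective p e.permCongrHom.toMonoidHom e.permCongrHom.injective _ h
  rw [Nat.card_congr e]

theorem good_block {Δ : Type} [Finite Δ] (h : Good p Δ) : Good p (Δ × ZMod p) := by
  obtain ⟨S, hSp, hScard, hSgen⟩ := h
  have hB : IsPGroup p (baseHom p Δ).range := IsPGroup.of_card (card_base p Δ)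
  have hT : IsPGroup p (S.map (topHom p Δ)) := hSp.map _
  have hTle : S.map (topHom p Δ) ≤ (topHom p Δ).range := by
    rintro _ ⟨s, _, rfl⟩
    exact ⟨s, rfl⟩
  have hnorm : S.map (topHom p Δ) ≤
      Subgroup.normalizer ((baseHom p Δ).range : Set (Perm (Δ × ZMod p))) :=
    hTle.trans (top_le_normalizer_base p Δ)
  have hpg : IsPGroup p ↥((baseHom p Δ).range ⊔ S.map (topHom p Δ)) :=
    IsPGroup.to_sup_of_normal_left' hB hT hnorm
  have hinf : (baseHom p Δ).range ⊓ S.map (topHom p Δ) = ⊥ := by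
    rw [eq_bot_iff, ← base_inf_top p Δ]
    exact inf_le_inf_left _ hTle
  refine ⟨(baseHom p Δ).range ⊔ S.map (topHom p Δ), hpg, ?_, ?_⟩
  · apply card_eq_of_pgroup _ hpg _ (Nat.factorial_ne_zero _)
    · rw [← Nat.card_perm]
      exact Subgroup.card_subgroup_dvd_card _
    · have h1 := card_mul_le_card_sup hinf
      rw [card_base, Subgroup.card_map_of_injective (topHom_injective p Δ), hScard] at h1
      have h2 : Nat.card (Δ × ZMod p) = p * Nat.card Δ := by
        rw [Nat.card_prod, Nat.card_zmod, mul_comm]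
      rw [h2, padicValNat_factorial_mul, pow_add, mul_comm]
      exact h1
  · apply genIn_sup
    · apply genIn_of_forall
      rintro _ ⟨f, rfl⟩
      exact baseHom_pow p Δ f
    · exact genIn_map _ hSgen

theorem good_all : ∀ (n : ℕ) (Ω : Type) [Finite Ω], Nat.card Ω = n → Good p Ω := by
  intro n
  induction n using Nat.strong_induction_on with
  | _ n ih =>
  intro Ω _ hcard
  have hp : p.Prime := Fact.out
  rcases Nat.eq_zero_or_pos n with hn | hn
  · refine ⟨⊥, IsPGroup.of_bot, ?_, bot_le⟩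
    rw [hcard, hn]
    simp
  by_cases hdvd : p ∣ n
  · obtain ⟨m, hm⟩ := hdvd
    have hmpos : 0 < m := by
      rcases Nat.eq_zero_or_pos m with h | h
      · rw [h, mul_zero] at hm; omega
      · exact h
    have hmlt : m < n := by
      rw [hm]
      calc m = 1 * m := (one_mul m).symm
        _ < p * m := Nat.mul_lt_mul_of_pos_right hp.one_lt hmpos
    have h1 : Good p (Fin m) := ih m hmlt (Fin m) (by simp)
    have h2 : Good p (Fin m × ZMod p) := good_block p h1
    have h3 : Nat.card (Fin m × ZMod p) = Nat.card Ω := by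
      rw [Nat.card_prod, Nat.card_zmod, hcard, hm, mul_comm]
      simp
    obtain ⟨e⟩ := Finite.card_eq.mp h3
    exact good_of_equiv p e h2
  · obtain ⟨k, rfl⟩ : ∃ k, n = k + 1 := ⟨n - 1, by omega⟩
    have h1 : Good p (Fin k) := ih k (Nat.lt_succ_self k) (Fin k) (by simp)
    have h3 : Nat.card (Fin (k + 1)) = Nat.card Ω := by
      rw [hcard]; simp
    obtain ⟨e⟩ := Finite.card_eq.mp h3
    let ι : Fin k ↪ Ω := (Fin.castSuccEmb).trans e.toEmbedding
    apply good_of_injective p (Perm.viaEmbeddingHom ι) (Perm.viaEmbeddingHom_injective ι) _ h1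
    rw [hcard]
    simp only [Nat.card_eq_fintype_card, Fintype.card_fin]
    rw [Nat.factorial_succ, padicValNat.mul (by omega) (Nat.factorial_ne_zero _),
      padicValNat.eq_zero_of_not_dvd hdvd, zero_add]

end Cfsg.Agent.Lib.Helper5.SymSyl
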