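import Mathlib
import Cfsg.Agent.Lib.Helper5.SymSylC

set_option autoImplicit false

namespace Cfsg.Agent.Lib.Helper5.SymSyl

open Equiv
open scoped Nat

theorem alt_odd (p : ℕ) [Fact p.Prime] (hp2 : p ≠ 2) (n : ℕ) (hn : 2 ≤ n) :
    ∃ S : Subgroup (Perm (Fin n)), S ≤ alternatingGroup (Fin n) ∧
      Nat.card S = p ^ (Nat.card (alternatingGroup (Fin n))).factorization p ∧ GenIn p S := by
  have hp : p.Prime := Fact.out
  obtain ⟨S, hSp, hScard, hSgen⟩ := good_all p n (Fin n) (by simp)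
  haveI : Nontrivial (Fin n) := Fin.nontrivial_iff_two_le.mpr hn
  refine ⟨S, ?_, ?_, hSgen⟩
  · intro x hx
    rw [Perm.mem_alternatingGroup]
    obtain ⟨k, hk⟩ := hSp ⟨x, hx⟩
    have hk' : x ^ (p ^ k) = 1 := congrArg Subtype.val hk
    have h1 : (Perm.sign x) ^ (p ^ k) = 1 := by rw [← map_pow, hk', map_one]
    rcases Int.units_eq_one_or (Perm.sign x) with h | h
    · exact h
    · exfalso
      rw [h] at h1
      have hodd : Odd (p ^ k) := (hp.odd_of_ne_two hp2).pow
      rw [hodd.neg_one_pow] at h1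
      exact absurd h1 (by decide)
  · rw [hScard, Nat.factorization_def _ hp]
    congr 1
    have h2 := two_mul_nat_card_alternatingGroup (α := Fin n)
    rw [Nat.card_perm] at h2
    rw [← h2, padicValNat.mul (by norm_num) (Nat.card_pos.ne')]
    have : padicValNat p 2 = 0 := by
      apply padicValNat.eq_zero_of_not_dvd
      intro hd
      have := (Nat.prime_dvd_prime_iff_eq hp Nat.prime_two).mp hd
      exact hp2 this
    rw [this, zero_add]

theorem sign_topHom_two {Δ : Type} [Fintype Δ] [DecidableEq Δ] (σ : Perm Δ) :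
    Perm.sign (topHom 2 Δ σ) = 1 := by
  show Perm.sign (Equiv.prodCongrLeft (fun _ : ZMod 2 => σ)) = 1
  rw [Perm.sign_prodCongrLeft, Finset.prod_const, Finset.card_univ, ZMod.card, ← Int.units_mul_self (Perm.sign σ), sq]

theorem alt_two (n : ℕ) (hn : 2 ≤ n) :
    ∃ S : Subgroup (Perm (Fin n)), S ≤ alternatingGroup (Fin n) ∧
      Nat.card S = 2 ^ (Nat.card (alternatingGroup (Fin n))).factorization 2 ∧ GenIn 2 S := by
  haveI : Fact (Nat.Prime 2) := ⟨Nat.prime_two⟩
  haveI : Nontrivial (Fin n) := Fin.nontrivial_iff_two_le.mpr hn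
  set m := n / 2 with hm
  obtain ⟨S, hSp, hScard, hSgen⟩ := good_all 2 m (Fin m) (by simp)
  let Δ := Fin m
  let χ : (Δ → Multiplicative (ZMod 2)) →* ℤˣ := Perm.sign.comp (baseHom 2 Δ)
  let K₀ := χ.ker
  let Q₀ : Subgroup (Perm (Δ × ZMod 2)) := K₀.map (baseHom 2 Δ) ⊔ S.map (topHom 2 Δ)
  have hTle : S.map (topHom 2 Δ) ≤ (topHom 2 Δ).range := by
    rintro _ ⟨s, _, rfl⟩
    exact ⟨s, rfl⟩
  have hKle : K₀.map (baseHom 2 Δ) ≤ (baseHom 2 Δ).range := by
    rintro _ ⟨s, _, rfl⟩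
    exact ⟨s, rfl⟩
  have hbig : IsPGroup 2 ↥((baseHom 2 Δ).range ⊔ S.map (topHom 2 Δ)) :=
    IsPGroup.to_sup_of_normal_left' (IsPGroup.of_card (card_base 2 Δ)) (hSp.map _)
      (hTle.trans (top_le_normalizer_base 2 Δ))
  have hQ₀p : IsPGroup 2 ↥Q₀ := hbig.to_le (sup_le_sup_right hKle _)
  have hQ₀alt : Q₀ ≤ alternatingGroup (Δ × ZMod 2) := by
    apply sup_le
    · rintro _ ⟨f, hf, rfl⟩
      rw [Perm.mem_alternatingGroup]
      exact hf
    · rintro _ ⟨s, _, rfl⟩
      rw [Perm.mem_alternatingGroup]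
      exact sign_topHom_two s
  have hQ₀gen : GenIn 2 Q₀ := by
    apply genIn_sup
    · apply genIn_of_forall
      rintro _ ⟨f, _, rfl⟩
      exact baseHom_pow 2 Δ f
    · exact genIn_map _ hSgen
  have hinf : K₀.map (baseHom 2 Δ) ⊓ S.map (topHom 2 Δ) = ⊥ := by
    rw [eq_bot_iff, ← base_inf_top 2 Δ]
    exact inf_le_inf hKle hTle
  have hcardK : 2 ^ m ≤ 2 * Nat.card K₀ := by
    have h1 : Nat.card K₀ * K₀.index = Nat.card (Δ → Multiplicative (ZMod 2)) :=
      Subgroup.card_mul_index K₀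
    have h2 : K₀.index ≤ 2 := by
      rw [Subgroup.index_ker]
      calc Nat.card χ.range ≤ Nat.card ℤˣ := Subgroup.card_le_card_group _
        _ = 2 := by rw [Nat.card_eq_fintype_card]; rfl
    have h3 : Nat.card (Δ → Multiplicative (ZMod 2)) = 2 ^ m := by
      rw [Nat.card_fun, Nat.card_congr Multiplicative.toAdd, Nat.card_zmod]
      simp [Δ]
    rw [← h3, ← h1, mul_comm]
    exact Nat.mul_le_mul_right _ h2
  have hcardQ₀ : 2 ^ m * 2 ^ padicValNat 2 m ! ≤ 2 * Nat.card Q₀ := by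
    have h1 := card_mul_le_card_sup hinf
    rw [Subgroup.card_map_of_injective (topHom_injective 2 Δ),
      Subgroup.card_map_of_injective (baseHom_injective 2 Δ), hScard] at h1
    have h4 : Nat.card (Fin m) = m := by simp
    rw [h4] at h1
    calc 2 ^ m * 2 ^ padicValNat 2 m ! ≤ (2 * Nat.card K₀) * 2 ^ padicValNat 2 m ! :=
          Nat.mul_le_mul_right _ hcardK
      _ = 2 * (Nat.card K₀ * 2 ^ padicValNat 2 m !) := by ring
      _ ≤ 2 * Nat.card Q₀ := Nat.mul_le_mul_left _ h1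
  have hle : Fintype.card (Δ × ZMod 2) ≤ Fintype.card (Fin n) := by
    rw [Fintype.card_prod, ZMod.card, Fintype.card_fin, Fintype.card_fin]
    omega
  obtain ⟨ι⟩ := Function.Embedding.nonempty_of_card_le hle
  have hsign : ∀ x : Perm (Δ × ZMod 2), Perm.sign (Perm.viaEmbeddingHom ι x) = Perm.sign x := by
    intro x
    rw [Perm.viaEmbeddingHom_apply]
    unfold Perm.viaEmbedding
    convert Perm.sign_extendDomain x (Equiv.ofInjective ι.1 ι.2)
  have hQalt : Q₀.map (Perm.viaEmbeddingHom ι) ≤ alternatingGroup (Fin n) := by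
    rintro _ ⟨x, hx, rfl⟩
    rw [Perm.mem_alternatingGroup, hsign]
    exact Perm.mem_alternatingGroup.mp (hQ₀alt hx)
  have hQp : IsPGroup 2 ↥(Q₀.map (Perm.viaEmbeddingHom ι)) := hQ₀p.map _
  refine ⟨Q₀.map (Perm.viaEmbeddingHom ι), hQalt, ?_, genIn_map _ hQ₀gen⟩
  rw [Nat.factorization_def _ Nat.prime_two]
  apply card_eq_of_pgroup _ hQp _ (Nat.card_pos.ne')
  · exact Subgroup.card_dvd_of_le hQalt
  · rw [Subgroup.card_map_of_injective (Perm.viaEmbeddingHom_injective ι)]
    have h2 := two_mul_nat_card_alternatingGroup (α := Fin n)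
    rw [Nat.card_perm] at h2
    have h5 : Nat.card (Fin n) = n := by simp
    rw [h5] at h2
    have h6 : padicValNat 2 n ! = padicValNat 2 (Nat.card (alternatingGroup (Fin n))) + 1 := by
      rw [← h2, padicValNat.mul (by norm_num) (Nat.card_pos.ne'), padicValNat_self, add_comm]
    have h7 : padicValNat 2 n ! = padicValNat 2 m ! + m := by
      have h8 : n = 2 * m + n % 2 := by omega
      rw [h8, padicValNat_factorial_mul_add m (Nat.mod_lt _ (by norm_num)),
        padicValNat_factorial_mul]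
    have h9 : 2 ^ padicValNat 2 (Nat.card (alternatingGroup (Fin n))) * 2 =
        2 ^ m * 2 ^ padicValNat 2 m ! := by
      rw [← pow_succ, ← h6, h7, pow_add, mul_comm]
    have h10 : 2 ^ padicValNat 2 (Nat.card (alternatingGroup (Fin n))) * 2 ≤ Nat.card Q₀ * 2 := by
      rw [h9, mul_comm (Nat.card Q₀)]
      exact hcardQ₀
    exact Nat.le_of_mul_le_mul_right h10 (by norm_num)

end Cfsg.Agent.Lib.Helper5.SymSyl
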