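import Mathlib
import Cfsg.Agent.Lib.Helper5.SymSylD

set_option autoImplicit false

namespace Cfsg.Agent.Lib.Helper5.SymSyl

section GenSq

variable {G : Type*} [Group G]

def GenSq (p : ℕ) (S : Subgroup G) : Prop :=
  S ≤ Subgroup.closure {x | x ∈ S ∧ x ^ p ∈ ⁅S, S⁆}

theorem genSq_of_sets {p : ℕ} {S : Subgroup G} (X : Set G) (hX : ∀ x ∈ X, x ∈ S ∧ x ^ p ∈ ⁅S, S⁆)
    (hS : S ≤ Subgroup.closure X) : GenSq p S :=
  hS.trans (Subgroup.closure_mono hX)

theorem genSq_map {G' : Type*} [Group G'] {p : ℕ} {S : Subgroup G} (f : G →* G')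
    (h : GenSq p S) : GenSq p (S.map f) := by
  unfold GenSq at *
  calc S.map f ≤ (Subgroup.closure {x | x ∈ S ∧ x ^ p ∈ ⁅S, S⁆}).map f := Subgroup.map_mono h
    _ = Subgroup.closure (f '' {x | x ∈ S ∧ x ^ p ∈ ⁅S, S⁆}) := MonoidHom.map_closure _ _
    _ ≤ _ := by
      apply Subgroup.closure_mono
      rintro _ ⟨x, ⟨hx, hxp⟩, rfl⟩
      refine ⟨Subgroup.mem_map_of_mem _ hx, ?_⟩
      rw [← map_pow, ← Subgroup.map_commutator]
      exact Subgroup.mem_map_of_mem _ hxp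

theorem pow_mem_commutator_of_genSq {p : ℕ} {S : Subgroup G} (h : GenSq p S) (x : ↥S) :
    x ^ p ∈ commutator ↥S := by
  have key : ∀ s (_ : s ∈ Subgroup.closure {x | x ∈ S ∧ x ^ p ∈ ⁅S, S⁆}),
      ∃ hs : s ∈ S, (Abelianization.of (⟨s, hs⟩ : ↥S)) ^ p = 1 := by
    intro s hs
    induction hs using Subgroup.closure_induction with
    | mem y hy =>
      refine ⟨hy.1, ?_⟩
      rw [← map_pow, ← MonoidHom.mem_ker, Abelianization.ker_of]
      have h2 := hy.2
      rw [← Subgroup.map_subtype_commutator] at h2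
      obtain ⟨z, hz, hzy⟩ := h2
      have : (⟨y, hy.1⟩ : ↥S) ^ p = z := Subtype.ext hzy.symm
      rw [this]
      exact hz
    | one => exact ⟨S.one_mem, by
        have : (⟨1, S.one_mem⟩ : ↥S) = 1 := rfl
        rw [this, map_one, one_pow]⟩
    | mul a b _ _ iha ihb =>
      obtain ⟨ha, ha'⟩ := iha
      obtain ⟨hb, hb'⟩ := ihb
      refine ⟨S.mul_mem ha hb, ?_⟩
      have : (⟨a * b, S.mul_mem ha hb⟩ : ↥S) = ⟨a, ha⟩ * ⟨b, hb⟩ := rfl
      rw [this, map_mul, mul_pow, ha', hb', one_mul]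
    | inv a _ iha =>
      obtain ⟨ha, ha'⟩ := iha
      refine ⟨S.inv_mem ha, ?_⟩
      have : (⟨a⁻¹, S.inv_mem ha⟩ : ↥S) = (⟨a, ha⟩ : ↥S)⁻¹ := rfl
      rw [this, map_inv, inv_pow, ha', inv_one]
  obtain ⟨hx, hx'⟩ := key x.1 (h x.2)
  rw [← Abelianization.ker_of, MonoidHom.mem_ker, map_pow]
  exact hx'

theorem genSq_sylow {H : Type*} [Group H] [Finite H] {p : ℕ} [Fact p.Prime] (S : Subgroup H)
    (hcard : Nat.card S = p ^ (Nat.card H).factorization p) (hS : GenSq p S) (Q : Sylow p H) :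
    GenSq p (Q : Subgroup H) := by
  obtain ⟨g, hg⟩ := MulAction.exists_smul_eq H (Sylow.ofCard S hcard) Q
  have : (Q : Subgroup H) = S.map (MulAut.conj g).toMonoidHom := by
    rw [← hg, Sylow.coe_subgroup_smul, Sylow.coe_ofCard]
    rfl
  rw [this]
  exact genSq_map _ hS

end GenSq

section Quat

open QuaternionGroup
open scoped commutatorElement

theorem quat_sq_mem_commutator (k : ℕ) (x : QuaternionGroup (2 ^ (k + 1))) :
    x ^ 2 ∈ commutator (QuaternionGroup (2 ^ (k + 1))) := by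
  have hA : ∀ i : ZMod (2 * 2 ^ (k + 1)), a (2 * i) ∈ commutator (QuaternionGroup (2 ^ (k + 1))) := by
    intro i
    have h1 : ⁅(xa 0 : QuaternionGroup (2 ^ (k + 1))), a (-i)⁆ = a (2 * i) := by
      rw [commutatorElement_def, mul_inv_eq_iff_eq_mul, mul_inv_eq_iff_eq_mul, xa_mul_a, a_mul_a,
        a_mul_xa]
      congr 1
      ring
    rw [← h1]
    exact Subgroup.commutator_mem_commutator (Subgroup.mem_top _) (Subgroup.mem_top _)
  rcases x with i | i
  · have : (a i : QuaternionGroup (2 ^ (k + 1))) ^ 2 = a (2 * i) := by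
      rw [pow_two, a_mul_a]
      exact congrArg a (two_mul i).symm
    rw [this]
    exact hA i
  · have : (xa i : QuaternionGroup (2 ^ (k + 1))) ^ 2 = a (2 * ((2 ^ k : ℕ) : ZMod (2 * 2 ^ (k + 1)))) := by
      rw [pow_two, xa_mul_xa]
      congr 1
      push_cast
      ring
    rw [this]
    exact hA _

end Quat

end Cfsg.Agent.Lib.Helper5.SymSyl
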