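import Mathlib
import Cfsg.Agent.Lib.Helper5.SpSylA

set_option autoImplicit false

namespace Cfsg.Agent.Lib.Helper5.SymSyl

open scoped commutatorElement

def piSubEquiv {ι : Type*} {M : Type*} [Group M] (Q : Subgroup M) :
    ↥(Subgroup.pi (Set.univ : Set ι) (fun _ => Q)) ≃ (ι → ↥Q) where
  toFun f := fun i => ⟨f.1 i, f.2 i (Set.mem_univ i)⟩
  invFun g := ⟨fun i => (g i : M), fun i _ => (g i).2⟩
  left_inv f := rfl
  right_inv g := rfl

theorem wreath_genSq {L G : Type*} [Group L] [Group G] [Finite G] {m : ℕ} {p : ℕ}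
    [Fact p.Prime]
    (base : (Fin m → L) →* G) (top : Equiv.Perm (Fin m) →* G)
    (hconj : ∀ σ A, top σ * base A * (top σ)⁻¹ = base (fun i => A (σ⁻¹ i)))
    (hbinj : Function.Injective base) (htinj : Function.Injective top)
    (hinf : base.range ⊓ top.range = ⊥)
    (S : Subgroup L) (a : ℕ) (hScard : Nat.card S = p ^ a) (hSgen : GenSq p S)
    (T : Subgroup (Equiv.Perm (Fin m))) (t : ℕ) (hTcard : Nat.card T = p ^ t)
    (hTgen : GenIn p T) :
    ∃ P : Subgroup G, IsPGroup p P ∧ p ^ (a * m + t) ≤ Nat.card P ∧ GenSq p P := by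
  classical
  set Bq : Subgroup (Fin m → L) := Subgroup.pi Set.univ (fun _ => S) with hBq
  set B : Subgroup G := Bq.map base with hB
  set Tt : Subgroup G := T.map top with hTt
  have hBqcard : Nat.card Bq = (p ^ a) ^ m := by
    rw [Nat.card_congr (piSubEquiv S), Nat.card_fun, hScard]
    simp
  have hBcard : Nat.card B = (p ^ a) ^ m := by
    rw [hB, Subgroup.card_map_of_injective hbinj, hBqcard]
  have hTtcard : Nat.card Tt = p ^ t := by
    rw [hTt, Subgroup.card_map_of_injective htinj, hTcard]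
  have hBp : IsPGroup p B := by
    apply IsPGroup.of_card (n := a * m)
    rw [hBcard, pow_mul]
  have hTtp : IsPGroup p Tt := IsPGroup.of_card hTtcard
  have hnorm : Tt ≤ Subgroup.normalizer (B : Set G) := by
    rintro _ ⟨σ, _, rfl⟩
    apply Subgroup.mem_normalizer_fintype
    rintro _ ⟨A, hA, rfl⟩
    rw [hconj]
    refine ⟨_, ?_, rfl⟩
    intro i _
    exact hA _ (Set.mem_univ _)
  have hSp : IsPGroup p ↥(B ⊔ Tt) := IsPGroup.to_sup_of_normal_left' hBp hTtp hnorm
  have hinf' : B ⊓ Tt = ⊥ := by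
    rw [eq_bot_iff, ← hinf]
    apply inf_le_inf
    · rintro _ ⟨A, _, rfl⟩
      exact ⟨A, rfl⟩
    · rintro _ ⟨σ, _, rfl⟩
      exact ⟨σ, rfl⟩
  refine ⟨B ⊔ Tt, hSp, ?_, ?_⟩
  · have h1 := card_mul_le_card_sup hinf'
    rw [hBcard, hTtcard] at h1
    rw [pow_add, pow_mul]
    exact h1
  · have hBle : B ≤ B ⊔ Tt := le_sup_left
    have hTle : Tt ≤ B ⊔ Tt := le_sup_right
    have hmem : ∀ i, ∀ c ∈ S, base (Pi.mulSingle i c) ∈ B ⊔ Tt := by
      intro i c hc
      apply hBle
      exact ⟨_, (Subgroup.mulSingle_mem_pi i c).mpr (fun _ => hc), rfl⟩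
    apply genSq_of_sets
      ({x | ∃ i, ∃ c, (c ∈ S ∧ c ^ p ∈ ⁅S, S⁆) ∧ x = base (Pi.mulSingle i c)} ∪
        {x | ∃ σ ∈ T, σ ^ p = 1 ∧ x = top σ})
    · rintro x (⟨i, c, ⟨hc, hcp⟩, rfl⟩ | ⟨σ, hσ, hσ2, rfl⟩)
      · refine ⟨hmem i c hc, ?_⟩
        have h1 : (base (Pi.mulSingle i c)) ^ p =
            (base.comp (MonoidHom.mulSingle _ i)) (c ^ p) := by
          rw [map_pow]
          rfl
        rw [h1]
        have h2 : S.map (base.comp (MonoidHom.mulSingle _ i)) ≤ B ⊔ Tt := by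
          rintro _ ⟨c', hc', rfl⟩
          exact hmem i c' hc'
        have h3 := Subgroup.mem_map_of_mem (base.comp (MonoidHom.mulSingle _ i)) hcp
        rw [Subgroup.map_commutator] at h3
        exact Subgroup.commutator_mono h2 h2 h3
      · refine ⟨hTle ⟨σ, hσ, rfl⟩, ?_⟩
        rw [← map_pow, hσ2, map_one]
        exact Subgroup.one_mem _
    · apply sup_le
      · rw [hB, Subgroup.map_le_iff_le_comap, hBq, Subgroup.pi_le_iff]
        intro i
        have h1 : S.map (MonoidHom.mulSingle (fun _ : Fin m => L) i) ≤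
            (Subgroup.closure {x | x ∈ S ∧ x ^ p ∈ ⁅S, S⁆}).map
              (MonoidHom.mulSingle (fun _ : Fin m => L) i) := Subgroup.map_mono hSgen
        apply h1.trans
        rw [MonoidHom.map_closure, Subgroup.closure_le]
        rintro _ ⟨c, hc, rfl⟩
        rw [SetLike.mem_coe, Subgroup.mem_comap]
        apply Subgroup.subset_closure
        left
        exact ⟨i, c, hc, rfl⟩
      · have h1 : Tt ≤ (Subgroup.closure {x | x ∈ T ∧ x ^ p = 1}).map top :=
          Subgroup.map_mono hTgen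
        rw [MonoidHom.map_closure] at h1
        apply h1.trans
        apply Subgroup.closure_mono
        rintro _ ⟨σ, ⟨hσ, hσ2⟩, rfl⟩
        right
        exact ⟨σ, hσ, hσ2, rfl⟩

end Cfsg.Agent.Lib.Helper5.SymSyl
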