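import Mathlib
import Cfsg.Agent.Lib.Helper5.GLSylA

set_option autoImplicit false

namespace Cfsg.Agent.Lib.Helper5.SymSyl

open scoped commutatorElement

theorem genSq_comap_of_injective {H G : Type*} [Group H] [Group G] {p : ℕ} (f : H →* G)
    (hf : Function.Injective f) (K : Subgroup G) (hK : K ≤ f.range) (h : GenSq p K) :
    GenSq p (K.comap f) := by
  unfold GenSq at *
  have hmap : (K.comap f).map f = K := by
    rw [Subgroup.map_comap_eq, inf_eq_right.mpr hK]
  rw [← Subgroup.map_le_map_iff_of_injective hf, hmap, MonoidHom.map_closure]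
  apply h.trans
  apply Subgroup.closure_mono
  rintro y ⟨hy, hyp⟩
  obtain ⟨x, rfl⟩ := hK hy
  refine ⟨x, ⟨hy, ?_⟩, rfl⟩
  rw [← map_pow, ← hmap, ← Subgroup.map_commutator] at hyp
  obtain ⟨z, hz, hzx⟩ := hyp
  rw [← hf hzx]
  exact hz

theorem card_comap_of_injective' {H G : Type*} [Group H] [Group G] (f : H →* G)
    (hf : Function.Injective f) (K : Subgroup G) (hK : K ≤ f.range) :
    Nat.card (K.comap f) = Nat.card K := by
  have hmap : (K.comap f).map f = K := by
    rw [Subgroup.map_comap_eq, inf_eq_right.mpr hK]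
  rw [← Subgroup.card_map_of_injective hf, hmap]

theorem wreath_ker_genSq {L G C : Type*} [Group L] [Group G] [Finite G] [CommGroup C] {m : ℕ}
    {p : ℕ} [Fact p.Prime]
    (base : (Fin m → L) →* G) (top : Equiv.Perm (Fin m) →* G)
    (hconj : ∀ σ A, top σ * base A * (top σ)⁻¹ = base (fun i => A (σ⁻¹ i)))
    (hbinj : Function.Injective base) (htinj : Function.Injective top)
    (hinf : base.range ⊓ top.range = ⊥)
    (δ : G →* C) (c : ℕ) (hc : ∀ Q : Subgroup C, IsPGroup p Q → Nat.card Q ≤ p ^ c)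
    (S : Subgroup L) (a : ℕ) (hScard : Nat.card S = p ^ a)
    (T : Subgroup (Equiv.Perm (Fin m))) (t : ℕ) (hTcard : Nat.card T = p ^ t)
    (hTgen : GenIn p T)
    (P : Subgroup G)
    (hP : P = ((Subgroup.pi Set.univ (fun _ => S)).map base ⊔ T.map top) ⊓ δ.ker)
    (Y : Set G) (hY : ∀ y ∈ Y, y ∈ P ∧ y ^ p ∈ ⁅P, P⁆)
    (hB : (Subgroup.pi Set.univ (fun _ => S)).map base ⊓ δ.ker ≤ Subgroup.closure Y)
    (hT : ∀ σ ∈ T, σ ^ p = 1 →
      ∃ b ∈ (Subgroup.pi Set.univ (fun _ => S)).map base, b * top σ ∈ Subgroup.closure Y) :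
    IsPGroup p P ∧ p ^ (a * m + t) ≤ p ^ c * Nat.card P ∧ GenSq p P := by
  classical
  set Bq : Subgroup (Fin m → L) := Subgroup.pi Set.univ (fun _ => S) with hBq
  set B : Subgroup G := Bq.map base with hBdef
  set Tt : Subgroup G := T.map top with hTt
  have hBqcard : Nat.card Bq = (p ^ a) ^ m := by
    rw [Nat.card_congr (piSubEquiv S), Nat.card_fun, hScard]
    simp
  have hBcard : Nat.card B = (p ^ a) ^ m := by
    rw [hBdef, Subgroup.card_map_of_injective hbinj, hBqcard]
  have hTtcard : Nat.card Tt = p ^ t := by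
    rw [hTt, Subgroup.card_map_of_injective htinj, hTcard]
  have hBp : IsPGroup p B := by
    apply IsPGroup.of_card (n := a * m)
    rw [hBcard, pow_mul]
  have hTtp : IsPGroup p Tt := IsPGroup.of_card hTtcard
  have hnorm : Tt ≤ Subgroup.normalizer (B : Set G) := by
    rintro _ ⟨σ, _, rfl⟩
    apply Subgroup.mem_normalizer_fintype
    rintro _ ⟨A, hA, rfl⟩
    rw [hconj]
    refine ⟨_, ?_, rfl⟩
    intro i _
    exact hA _ (Set.mem_univ _)
  have hWp : IsPGroup p ↥(B ⊔ Tt) := IsPGroup.to_sup_of_normal_left' hBp hTtp hnorm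
  have hinf' : B ⊓ Tt = ⊥ := by
    rw [eq_bot_iff, ← hinf]
    apply inf_le_inf
    · rintro _ ⟨A, _, rfl⟩
      exact ⟨A, rfl⟩
    · rintro _ ⟨σ, _, rfl⟩
      exact ⟨σ, rfl⟩
  have hWcard : p ^ (a * m + t) ≤ Nat.card ↥(B ⊔ Tt) := by
    have h1 := card_mul_le_card_sup hinf'
    rw [hBcard, hTtcard] at h1
    rw [pow_add, pow_mul]
    exact h1
  have hPle : P ≤ B ⊔ Tt := by rw [hP]; exact inf_le_left
  have hPker : P ≤ δ.ker := by rw [hP]; exact inf_le_right
  have hPp : IsPGroup p P := hWp.to_le hPle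
  refine ⟨hPp, ?_, ?_⟩
  · -- counting
    set f : ↥(B ⊔ Tt) →* C := δ.comp (B ⊔ Tt).subtype with hf
    have h1 : Nat.card ↥(B ⊔ Tt) = Nat.card f.ker * Nat.card f.range := by
      rw [← Subgroup.index_ker f, mul_comm, Subgroup.index_mul_card]
    have h2 : Nat.card f.ker = Nat.card P := by
      have : f.ker = P.subgroupOf (B ⊔ Tt) := by
        ext x
        rw [MonoidHom.mem_ker, Subgroup.mem_subgroupOf, hP, Subgroup.mem_inf, MonoidHom.mem_ker]
        constructor
        · intro hx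
          exact ⟨x.2, hx⟩
        · intro hx
          exact hx.2
      rw [this]
      exact Nat.card_congr (Subgroup.subgroupOfEquivOfLe hPle).toEquiv
    have h3 : Nat.card f.range ≤ p ^ c := by
      apply hc
      exact IsPGroup.of_surjective hWp f.rangeRestrict f.rangeRestrict_surjective
    calc p ^ (a * m + t) ≤ Nat.card ↥(B ⊔ Tt) := hWcard
      _ = Nat.card P * Nat.card f.range := by rw [h1, h2]
      _ ≤ Nat.card P * p ^ c := Nat.mul_le_mul_left _ h3
      _ = p ^ c * Nat.card P := mul_comm _ _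
  · -- generation
    have hYP : Subgroup.closure Y ≤ P := by
      rw [Subgroup.closure_le]
      intro y hy
      exact (hY y hy).1
    have key : ∀ σ ∈ Subgroup.closure {x | x ∈ T ∧ x ^ p = 1},
        ∃ b ∈ B, b * top σ ∈ Subgroup.closure Y := by
      intro σ hσ
      induction hσ using Subgroup.closure_induction with
      | mem x hx => exact hT x hx.1 hx.2
      | one => exact ⟨1, B.one_mem, by rw [map_one, mul_one]; exact Subgroup.one_mem _⟩
      | mul x y _ _ ihx ihy =>
        obtain ⟨b₁, hb₁, h₁⟩ := ihx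
        obtain ⟨b₂, hb₂, h₂⟩ := ihy
        obtain ⟨A₂, hA₂, rfl⟩ := hb₂
        refine ⟨b₁ * (top x * base A₂ * (top x)⁻¹), B.mul_mem hb₁ ?_, ?_⟩
        · rw [hconj]
          refine ⟨_, ?_, rfl⟩
          intro i _
          exact hA₂ _ (Set.mem_univ _)
        · have := Subgroup.mul_mem _ h₁ h₂
          have e : b₁ * (top x * base A₂ * (top x)⁻¹) * top (x * y) =
              b₁ * top x * (base A₂ * top y) := by
            rw [map_mul]; group
          rw [e]; exact this
      | inv x _ ihx =>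
        obtain ⟨b₁, hb₁, h₁⟩ := ihx
        obtain ⟨A₁, hA₁, rfl⟩ := hb₁
        refine ⟨top x⁻¹ * base A₁⁻¹ * (top x⁻¹)⁻¹, ?_, ?_⟩
        · rw [hconj]
          refine ⟨_, ?_, rfl⟩
          intro i _
          exact Bq.inv_mem hA₁ _ (Set.mem_univ _)
        · have := Subgroup.inv_mem _ h₁
          have e : top x⁻¹ * base A₁⁻¹ * (top x⁻¹)⁻¹ * top x⁻¹ = (base A₁ * top x)⁻¹ := by
            rw [map_inv, map_inv]; group
          rw [e]; exact this
    apply genSq_of_sets Y hY
    intro g hg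
    have hgW : g ∈ B ⊔ Tt := hPle hg
    have hgk : δ g = 1 := hPker hg
    rw [← SetLike.mem_coe, Subgroup.coe_mul_of_right_le_normalizer_left B Tt hnorm] at hgW
    obtain ⟨b, hb, τ, hτ, hbτ⟩ := hgW
    obtain ⟨σ, hσ, rfl⟩ := hτ
    have hbτ' : b * top σ = g := hbτ
    subst hbτ'
    obtain ⟨b', hb', h'⟩ := key σ (hTgen hσ)
    have e : b * top σ = (b * b'⁻¹) * (b' * top σ) := by group
    rw [e]
    apply Subgroup.mul_mem _ _ h'
    apply hB
    refine ⟨B.mul_mem hb (B.inv_mem hb'), ?_⟩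
    show b * b'⁻¹ ∈ δ.ker
    rw [MonoidHom.mem_ker]
    have h1 : δ (b' * top σ) = 1 := hPker (hYP h')
    have h2 : δ (b * top σ) = δ (b * b'⁻¹) * δ (b' * top σ) := by rw [← map_mul, ← e]
    rw [hgk, h1, mul_one] at h2
    exact h2.symm

end Cfsg.Agent.Lib.Helper5.SymSyl
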