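import Mathlib
import Cfsg.Agent.Lib.Helper5.SpSylA
import Cfsg.Agent.Lib.Helper1.TwoGroupUnique

set_option autoImplicit false

namespace Cfsg.Agent.Lib.Helper5.SymSyl

open scoped commutatorElement MatrixGroups

section SL2

variable {F : Type*} [Field F]

theorem sl2_sq_eq_one (h2 : (2 : F) ≠ 0) (g : Matrix.SpecialLinearGroup (Fin 2) F)
    (hg : g * g = 1) : g = 1 ∨ g = -1 := by
  have h1 : g = g⁻¹ := eq_inv_of_mul_eq_one_left hg
  have h3 : (g : Matrix (Fin 2) (Fin 2) F) = Matrix.adjugate (g : Matrix (Fin 2) (Fin 2) F) := by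
    conv_lhs => rw [h1]
    exact Matrix.SpecialLinearGroup.coe_inv g
  rw [Matrix.adjugate_fin_two] at h3
  have e00 := congrFun (congrFun h3 0) 0
  have e01 := congrFun (congrFun h3 0) 1
  have e10 := congrFun (congrFun h3 1) 0
  simp only [Matrix.of_apply, Matrix.cons_val', Matrix.cons_val_zero, Matrix.cons_val_one,
    Matrix.cons_val_fin_one] at e00 e01 e10
  have hy : (g : Matrix (Fin 2) (Fin 2) F) 0 1 = 0 := by
    have : (2 : F) * (g : Matrix (Fin 2) (Fin 2) F) 0 1 = 0 := by linear_combination e01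
    rcases mul_eq_zero.mp this with h | h
    · exact absurd h h2
    · exact h
  have hz : (g : Matrix (Fin 2) (Fin 2) F) 1 0 = 0 := by
    have : (2 : F) * (g : Matrix (Fin 2) (Fin 2) F) 1 0 = 0 := by linear_combination e10
    rcases mul_eq_zero.mp this with h | h
    · exact absurd h h2
    · exact h
  have hdet := g.det_coe
  rw [Matrix.det_fin_two, hy, hz, ← e00] at hdet
  have hx : ((g : Matrix (Fin 2) (Fin 2) F) 0 0 - 1) * ((g : Matrix (Fin 2) (Fin 2) F) 0 0 + 1) = 0 := by
    linear_combination hdet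
  rcases mul_eq_zero.mp hx with h | h
  · left
    apply Subtype.ext
    ext i j
    fin_cases i <;> fin_cases j
    · simpa using sub_eq_zero.mp h
    · simpa using hy
    · simpa using hz
    · have : (g : Matrix (Fin 2) (Fin 2) F) 1 1 = 1 := by rw [← e00]; exact sub_eq_zero.mp h
      simpa using this
  · right
    apply Subtype.ext
    ext i j
    have hx' : (g : Matrix (Fin 2) (Fin 2) F) 0 0 = -1 := eq_neg_of_add_eq_zero_left h
    fin_cases i <;> fin_cases j
    · simpa using hx'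
    · simpa using hy
    · simpa using hz
    · have : (g : Matrix (Fin 2) (Fin 2) F) 1 1 = -1 := by rw [← e00]; exact hx'
      simpa using this

theorem unique_order_two (h2 : (2 : F) ≠ 0) (Q : Subgroup (Matrix.SpecialLinearGroup (Fin 2) F))
    [Finite Q] (H K : Subgroup ↥Q) (hH : Nat.card H = 2) (hK : Nat.card K = 2) : H = K := by
  have key : ∀ L : Subgroup ↥Q, Nat.card L = 2 →
      ∀ x : ↥Q, x ∈ L ↔ (x = 1 ∨ (x : Matrix.SpecialLinearGroup (Fin 2) F) = -1) := by
    intro L hL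
    have hne : L ≠ ⊥ := by
      intro h
      rw [h, Subgroup.card_bot] at hL
      omega
    obtain ⟨h, hhL, hh1⟩ := (Subgroup.ne_bot_iff_exists_ne_one).mp hne |>.imp
      (fun x hx => hx) |> fun ⟨⟨x, hx⟩, hne⟩ => (⟨x, hx, fun h => hne (Subtype.ext h)⟩ :
        ∃ x : ↥Q, x ∈ L ∧ x ≠ 1)
    have hord : h ^ 2 = 1 := by
      have h3 : (⟨h, hhL⟩ : ↥L) ^ Nat.card L = 1 := pow_card_eq_one'
      rw [hL] at h3
      exact congrArg Subtype.val h3
    have hval : (h : Matrix.SpecialLinearGroup (Fin 2) F) = -1 := by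
      have h4 : (h : Matrix.SpecialLinearGroup (Fin 2) F) * h = 1 := by
        have := congrArg Subtype.val hord
        rw [pow_two] at this
        exact this
      rcases sl2_sq_eq_one h2 _ h4 with h5 | h5
      · exact absurd (Subtype.ext h5) hh1
      · exact h5
    have hz : Subgroup.zpowers h = L := by
      apply Subgroup.eq_of_le_of_card_ge
      · rw [Subgroup.zpowers_le]; exact hhL
      · rw [hL, Nat.card_zpowers]
        have : orderOf h = 2 := orderOf_eq_prime hord hh1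
        rw [this]
    intro x
    constructor
    · intro hx
      rw [← hz, Subgroup.mem_zpowers_iff] at hx
      obtain ⟨k, rfl⟩ := hx
      rcases Int.even_or_odd k with ⟨j, hj⟩ | ⟨j, hj⟩
      · left
        rw [hj, ← two_mul, zpow_mul, zpow_ofNat, hord, one_zpow]
      · right
        rw [hj, zpow_add, zpow_mul, zpow_ofNat, hord, one_zpow, one_mul, zpow_one]
        exact hval
    · rintro (hx | hx)
      · rw [hx]; exact L.one_mem
      · have : x = h := Subtype.ext (hx.trans hval.symm)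
        rw [this]; exact hhL
  ext x
  rw [key H hH x, key K hK x]

theorem exists_sq_add_sq [Fintype F] (hF : Odd (Fintype.card F)) :
    ∃ a b : F, a ^ 2 + b ^ 2 = -1 := by
  classical
  have h1 : (Polynomial.X ^ 2 : Polynomial F).degree = 2 := Polynomial.degree_X_pow 2
  have h2 : (Polynomial.X ^ 2 + 1 : Polynomial F).degree = 2 := by
    rw [show (1 : Polynomial F) = Polynomial.C 1 by simp]
    exact Polynomial.degree_X_pow_add_C (by norm_num) 1
  obtain ⟨a, b, hab⟩ := FiniteField.exists_root_sum_quadratic h1 h2 (Nat.odd_iff.mp hF)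
  refine ⟨a, b, ?_⟩
  simp only [Polynomial.eval_pow, Polynomial.eval_X, Polynomial.eval_add, Polynomial.eval_one] at hab
  linear_combination hab

def qx : Matrix.SpecialLinearGroup (Fin 2) F :=
  ⟨!![0, 1; -1, 0], by rw [Matrix.det_fin_two_of]; ring⟩

def qy (a b : F) (h : a ^ 2 + b ^ 2 = -1) : Matrix.SpecialLinearGroup (Fin 2) F :=
  ⟨!![a, b; b, -a], by rw [Matrix.det_fin_two_of]; linear_combination -h⟩

theorem qx_sq : (qx : Matrix.SpecialLinearGroup (Fin 2) F) * qx = -1 := by
  apply Subtype.ext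
  rw [Matrix.SpecialLinearGroup.coe_mul, Matrix.SpecialLinearGroup.coe_neg,
    Matrix.SpecialLinearGroup.coe_one]
  show (!![0, 1; -1, 0] : Matrix (Fin 2) (Fin 2) F) * !![0, 1; -1, 0] = -1
  ext i j
  fin_cases i <;> fin_cases j <;> simp [Matrix.mul_apply, Fin.sum_univ_two]

theorem qy_sq (a b : F) (h : a ^ 2 + b ^ 2 = -1) : qy a b h * qy a b h = -1 := by
  apply Subtype.ext
  rw [Matrix.SpecialLinearGroup.coe_mul, Matrix.SpecialLinearGroup.coe_neg,
    Matrix.SpecialLinearGroup.coe_one]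
  show (!![a, b; b, -a] : Matrix (Fin 2) (Fin 2) F) * !![a, b; b, -a] = -1
  ext i j
  fin_cases i <;> fin_cases j <;> simp [Matrix.mul_apply, Fin.sum_univ_two]
  · linear_combination h
  · ring
  · ring
  · linear_combination h

theorem qy_qx (a b : F) (h : a ^ 2 + b ^ 2 = -1) : qy a b h * qx = -(qx * qy a b h) := by
  apply Subtype.ext
  rw [Matrix.SpecialLinearGroup.coe_mul, Matrix.SpecialLinearGroup.coe_neg,
    Matrix.SpecialLinearGroup.coe_mul]
  show (!![a, b; b, -a] : Matrix (Fin 2) (Fin 2) F) * !![0, 1; -1, 0] =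
    -((!![0, 1; -1, 0] : Matrix (Fin 2) (Fin 2) F) * !![a, b; b, -a])
  ext i j
  fin_cases i <;> fin_cases j <;> simp [Matrix.mul_apply, Fin.sum_univ_two]

theorem neg_ne_self (h2 : (2 : F) ≠ 0) (g : Matrix.SpecialLinearGroup (Fin 2) F) : g ≠ -g := by
  intro h
  have h1 : (g : Matrix (Fin 2) (Fin 2) F) = -(g : Matrix (Fin 2) (Fin 2) F) := by
    conv_lhs => rw [h]
    exact Matrix.SpecialLinearGroup.coe_neg g
  have hz : ∀ i j, (g : Matrix (Fin 2) (Fin 2) F) i j = 0 := by
    intro i j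
    have := congrFun (congrFun h1 i) j
    rw [Matrix.neg_apply] at this
    have h3 : (2 : F) * (g : Matrix (Fin 2) (Fin 2) F) i j = 0 := by linear_combination this
    rcases mul_eq_zero.mp h3 with h4 | h4
    · exact absurd h4 h2
    · exact h4
  have hdet := g.det_coe
  rw [Matrix.det_fin_two, hz, hz, hz, hz] at hdet
  simp at hdet

theorem pow_mem_commutator_of_equiv {P R : Type*} [Group P] [Group R] (e : P ≃* R) (m : ℕ)
    (h : ∀ r : R, r ^ m ∈ commutator R) (a : P) : a ^ m ∈ commutator P := by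
  have h1 : (commutator R).map e.symm.toMonoidHom = commutator P := by
    rw [commutator_def, commutator_def, Subgroup.map_commutator,
      Subgroup.map_top_of_surjective _ e.symm.surjective]
  rw [← h1]
  refine ⟨(e a) ^ m, h _, ?_⟩
  show e.symm ((e a) ^ m) = a ^ m
  rw [map_pow, MulEquiv.symm_apply_apply]

theorem exists_good_sylow_sl2 [Fintype F] (hF : Odd (Fintype.card F)) :
    ∃ Q : Sylow 2 (Matrix.SpecialLinearGroup (Fin 2) F),
      ∀ a ∈ (Q : Subgroup (Matrix.SpecialLinearGroup (Fin 2) F)),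
        a ^ 2 ∈ ⁅(Q : Subgroup (Matrix.SpecialLinearGroup (Fin 2) F)),
          (Q : Subgroup (Matrix.SpecialLinearGroup (Fin 2) F))⁆ := by
  classical
  haveI : Fact (Nat.Prime 2) := ⟨Nat.prime_two⟩
  have h2 : (2 : F) ≠ 0 := by
    apply Ring.two_ne_zero
    intro hc
    have := FiniteField.even_card_iff_char_two.mp hc
    rw [Nat.odd_iff] at hF
    omega
  obtain ⟨a, b, hab⟩ := exists_sq_add_sq hF
  set x : Matrix.SpecialLinearGroup (Fin 2) F := qx with hx
  set y : Matrix.SpecialLinearGroup (Fin 2) F := qy a b hab with hy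
  have hxx : x * x = -1 := qx_sq
  have hyy : y * y = -1 := qy_sq a b hab
  have hyx : y * x = -(x * y) := qy_qx a b hab
  have hx4 : x ^ 4 = 1 := by
    have : x ^ 4 = (x * x) * (x * x) := by rw [← pow_two, ← pow_two, ← pow_mul]
    rw [this, hxx, neg_mul_neg, one_mul]
  have hy4 : y ^ 4 = 1 := by
    have : y ^ 4 = (y * y) * (y * y) := by rw [← pow_two, ← pow_two, ← pow_mul]
    rw [this, hyy, neg_mul_neg, one_mul]
  have hxinv : x⁻¹ = -x := by
    symm
    apply eq_inv_of_mul_eq_one_left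
    rw [neg_mul, hxx, neg_neg]
  have hconj : y * x * y⁻¹ = x⁻¹ := by
    rw [hxinv, mul_inv_eq_iff_eq_mul, hyx, neg_mul]
  have hpx : ∀ g : Matrix.SpecialLinearGroup (Fin 2) F, g ^ 4 = 1 →
      IsPGroup 2 (Subgroup.zpowers g) := by
    intro g hg
    rintro ⟨z, hz⟩
    obtain ⟨k, rfl⟩ := Subgroup.mem_zpowers_iff.mp hz
    refine ⟨2, Subtype.ext ?_⟩
    show (g ^ k) ^ 2 ^ 2 = 1
    rw [← zpow_natCast, ← zpow_mul, mul_comm, zpow_mul, zpow_natCast]
    norm_num
    rw [hg, one_zpow]
  have hnorm : Subgroup.zpowers y ≤ Subgroup.normalizer (Subgroup.zpowers x : Set _) := by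
    rw [Subgroup.zpowers_le]
    apply Subgroup.mem_normalizer_fintype
    rintro _ ⟨k, rfl⟩
    show y * x ^ k * y⁻¹ ∈ Subgroup.zpowers x
    rw [← conj_zpow, hconj]
    exact Subgroup.zpow_mem _ (Subgroup.inv_mem _ (Subgroup.mem_zpowers x)) k
  have hK : IsPGroup 2 ↥(Subgroup.zpowers x ⊔ Subgroup.zpowers y) :=
    IsPGroup.to_sup_of_normal_left' (hpx x hx4) (hpx y hy4) hnorm
  obtain ⟨Q, hKQ⟩ := hK.exists_le_sylow
  have hxQ : x ∈ (Q : Subgroup _) := hKQ (Subgroup.mem_sup_left (Subgroup.mem_zpowers x))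
  have hyQ : y ∈ (Q : Subgroup _) := hKQ (Subgroup.mem_sup_right (Subgroup.mem_zpowers y))
  have hnc : x * y ≠ y * x := by
    intro h
    rw [hyx] at h
    exact neg_ne_self h2 _ h
  have hnc' : (⟨x, hxQ⟩ : ↥(Q : Subgroup _)) * ⟨y, hyQ⟩ ≠ ⟨y, hyQ⟩ * ⟨x, hxQ⟩ := by
    intro h
    exact hnc (congrArg Subtype.val h)
  refine ⟨Q, ?_⟩
  have key : ∀ a' : ↥(Q : Subgroup (Matrix.SpecialLinearGroup (Fin 2) F)),
      a' ^ 2 ∈ commutator ↥(Q : Subgroup (Matrix.SpecialLinearGroup (Fin 2) F)) := by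
    rcases Cfsg.Agent.Lib.Helper1.cyclic_or_quaternion_of_unique
      (P := ↥(Q : Subgroup (Matrix.SpecialLinearGroup (Fin 2) F))) Q.isPGroup'
      (fun H K hH hK => unique_order_two h2 _ H K hH hK) with hc | ⟨n, ⟨e⟩⟩
    · exfalso
      obtain ⟨g, hg⟩ := hc.exists_generator
      obtain ⟨i, hi⟩ := Subgroup.mem_zpowers_iff.mp (hg ⟨x, hxQ⟩)
      obtain ⟨j, hj⟩ := Subgroup.mem_zpowers_iff.mp (hg ⟨y, hyQ⟩)
      apply hnc'
      rw [← hi, ← hj, ← zpow_add, ← zpow_add, add_comm]
    · rcases n with _ | k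
      · exfalso
        apply hnc'
        apply e.injective
        rw [map_mul, map_mul]
        have hcomm : ∀ u v : QuaternionGroup (2 ^ 0), u * v = v * u := by decide
        exact hcomm _ _
      · exact pow_mem_commutator_of_equiv e 2 (quat_sq_mem_commutator k)
  intro a' ha'
  rw [← Subgroup.map_subtype_commutator]
  exact ⟨⟨a', ha'⟩ ^ 2, key ⟨a', ha'⟩, rfl⟩

end SL2

end Cfsg.Agent.Lib.Helper5.SymSyl
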