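import Mathlib
import Cfsg.Agent.Lib.Helper5.SpSylB
import Cfsg.Agent.Lib.Helper5.GLSylA
import Cfsg.Agent.Lib.helper14.SL2Card
import Cfsg.Agent.Lib.helper15.SL2Card

set_option autoImplicit false

namespace Cfsg.Agent.Lib.Helper5.SymSyl

open scoped commutatorElement MatrixGroups

section GL2

variable {F : Type*} [Field F] [Fintype F]

theorem good_sylow_sl2_all (hF : Odd (Fintype.card F))
    (Q : Sylow 2 (Matrix.SpecialLinearGroup (Fin 2) F)) :
    ∀ a ∈ (Q : Subgroup (Matrix.SpecialLinearGroup (Fin 2) F)),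
      a ^ 2 ∈ ⁅(Q : Subgroup (Matrix.SpecialLinearGroup (Fin 2) F)),
        (Q : Subgroup (Matrix.SpecialLinearGroup (Fin 2) F))⁆ := by
  haveI : Fact (Nat.Prime 2) := ⟨Nat.prime_two⟩
  obtain ⟨Q₀, hQ₀⟩ := exists_good_sylow_sl2 hF
  obtain ⟨g, hg⟩ := MulAction.exists_smul_eq (Matrix.SpecialLinearGroup (Fin 2) F) Q₀ Q
  have h1 : (Q : Subgroup (Matrix.SpecialLinearGroup (Fin 2) F)) =
      (Q₀ : Subgroup (Matrix.SpecialLinearGroup (Fin 2) F)).map (MulAut.conj g).toMonoidHom := by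
    rw [← hg, Sylow.coe_subgroup_smul]
    rfl
  intro a ha
  rw [h1] at ha ⊢
  obtain ⟨a₀, ha₀, rfl⟩ := ha
  rw [← map_pow, ← Subgroup.map_commutator]
  exact Subgroup.mem_map_of_mem _ (hQ₀ a₀ ha₀)

theorem v2_sub_one (hq : 4 ∣ Fintype.card F + 1) : padicValNat 2 (Fintype.card F - 1) = 1 := by
  obtain ⟨k, hk⟩ := hq
  have h1 : Fintype.card F - 1 = 2 * (2 * k - 1) := by omega
  have hk1 : 1 ≤ k := by
    have : 1 < Fintype.card F := Fintype.one_lt_card
    omega
  rw [h1, padicValNat.mul (by norm_num) (by omega), padicValNat_self,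
    padicValNat.eq_zero_of_not_dvd (by omega)]

theorem units_pm_one (hq : 4 ∣ Fintype.card F + 1) (x : Fˣ) (k : ℕ) (hx : x ^ 2 ^ k = 1) :
    x = 1 ∨ x = -1 := by
  classical
  haveI : Fact (Nat.Prime 2) := ⟨Nat.prime_two⟩
  have h1 : orderOf x ∣ 2 ^ k := orderOf_dvd_of_pow_eq_one hx
  obtain ⟨j, _, hj⟩ := (Nat.dvd_prime_pow Nat.prime_two).mp h1
  have h2 : orderOf x ∣ Fintype.card F - 1 := by
    rw [← Fintype.card_units]
    exact orderOf_dvd_card
  have hq1 : 1 < Fintype.card F := Fintype.one_lt_card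
  have h3 : j ≤ 1 := by
    rw [hj] at h2
    have := (padicValNat_dvd_iff_le (p := 2) (by omega)).mp h2
    rwa [v2_sub_one hq] at this
  have h4 : x ^ 2 = 1 := by
    apply orderOf_dvd_iff_pow_eq_one.mp
    rw [hj]
    exact pow_dvd_pow 2 h3 |>.trans (by norm_num)
  have h5 : (x : F) * (x : F) = 1 := by
    have := congrArg Units.val h4
    rwa [Units.val_pow_eq_pow_val, Units.val_one, pow_two] at this
  rcases mul_self_eq_one_iff.mp h5 with h | h
  · left; exact Units.ext h
  · right; exact Units.ext h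

noncomputable def phiGL : GL (Fin 2) F :=
  Matrix.GeneralLinearGroup.mkOfDetNeZero !![1, 0; 0, -1] (by
    rw [Matrix.det_fin_two_of]; norm_num)

theorem phiGL_sq : (phiGL : GL (Fin 2) F) * phiGL = 1 := by
  apply Units.ext
  show (!![1, 0; 0, -1] : Matrix (Fin 2) (Fin 2) F) * !![1, 0; 0, -1] = 1
  ext i j
  fin_cases i <;> fin_cases j <;> simp [Matrix.mul_apply, Fin.sum_univ_two]

theorem det_phiGL : Matrix.GeneralLinearGroup.det (phiGL : GL (Fin 2) F) = -1 := by
  apply Units.ext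
  show (!![1, 0; 0, -1] : Matrix (Fin 2) (Fin 2) F).det = ((-1 : Fˣ) : F)
  rw [Matrix.det_fin_two_of]
  simp

theorem v2_card_gl2 (hF : Odd (Fintype.card F)) (hq : 4 ∣ Fintype.card F + 1) :
    padicValNat 2 (Nat.card (GL (Fin 2) F)) = 1 + padicValNat 2 (Fintype.card F ^ 2 - 1) := by
  classical
  haveI : Fact (Nat.Prime 2) := ⟨Nat.prime_two⟩
  have hq1 : 1 < Fintype.card F := Fintype.one_lt_card
  have h1 : 1 < Fintype.card F ^ 2 := Nat.one_lt_pow (by omega) hq1
  rw [Cfsg.Agent.Lib.helper14.card_GL_eq_card_SL_mul 2 (by norm_num),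
    Cfsg.Agent.Lib.helper15.card_SL2, Nat.card_eq_fintype_card (α := Fˣ), Fintype.card_units,
    padicValNat.mul (Nat.mul_ne_zero (by omega) (by omega)) (by omega),
    padicValNat.mul (by omega) (by omega), v2_sub_one hq,
    padicValNat.eq_zero_of_not_dvd (by
      intro hd
      rw [Nat.odd_iff] at hF
      omega)]
  ring

theorem exists_good_sylow_gl2 (hF : Odd (Fintype.card F)) (hq : 4 ∣ Fintype.card F + 1) :
    ∃ S : Subgroup (GL (Fin 2) F),
      Nat.card S = 2 ^ (1 + padicValNat 2 (Fintype.card F ^ 2 - 1)) ∧ GenSq 2 S := by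
  classical
  haveI : Fact (Nat.Prime 2) := ⟨Nat.prime_two⟩
  have hq1 : 1 < Fintype.card F := Fintype.one_lt_card
  have hφ2 : (phiGL : GL (Fin 2) F) ^ 2 = 1 := by rw [pow_two]; exact phiGL_sq
  have hφp : IsPGroup 2 (Subgroup.zpowers (phiGL : GL (Fin 2) F)) := by
    rintro ⟨z, hz⟩
    obtain ⟨k, rfl⟩ := Subgroup.mem_zpowers_iff.mp hz
    refine ⟨1, Subtype.ext ?_⟩
    show (phiGL ^ k) ^ 2 ^ 1 = 1
    rw [pow_one, ← zpow_natCast, ← zpow_mul, mul_comm, zpow_mul, zpow_natCast, hφ2, one_zpow]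
  obtain ⟨S, hS⟩ := hφp.exists_le_sylow
  have hφS : (phiGL : GL (Fin 2) F) ∈ (S : Subgroup (GL (Fin 2) F)) :=
    hS (Subgroup.mem_zpowers _)
  have hScard : Nat.card (S : Subgroup (GL (Fin 2) F)) =
      2 ^ (1 + padicValNat 2 (Fintype.card F ^ 2 - 1)) := by
    rw [S.card_eq_multiplicity, Nat.factorization_def _ Nat.prime_two, v2_card_gl2 hF hq]
  refine ⟨S, hScard, ?_⟩
  set S' : Subgroup (GL (Fin 2) F) := (S : Subgroup (GL (Fin 2) F)) with hS'
  set tg : Matrix.SpecialLinearGroup (Fin 2) F →* GL (Fin 2) F :=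
    Matrix.SpecialLinearGroup.toGL with htg
  have htginj : Function.Injective tg := Matrix.SpecialLinearGroup.toGL_injective
  set Q₁ : Subgroup (Matrix.SpecialLinearGroup (Fin 2) F) := S'.comap tg with hQ₁
  have hQ₁p : IsPGroup 2 Q₁ := S.isPGroup'.comap_of_injective tg htginj
  have hdetS : ∀ s ∈ S', Matrix.GeneralLinearGroup.det s = 1 ∨
      Matrix.GeneralLinearGroup.det s = -1 := by
    intro s hs
    obtain ⟨k, hk⟩ := S.isPGroup' ⟨s, hs⟩
    have hk' : s ^ 2 ^ k = 1 := congrArg Subtype.val hk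
    apply units_pm_one hq _ k
    rw [← map_pow, hk', map_one]
  have hdet1 : ∀ s ∈ S', Matrix.GeneralLinearGroup.det s = 1 → ∃ a ∈ Q₁, tg a = s := by
    intro s hs hd
    have hd' : (s : Matrix (Fin 2) (Fin 2) F).det = 1 := by
      have := congrArg Units.val hd
      exact this
    refine ⟨⟨(s : Matrix (Fin 2) (Fin 2) F), hd'⟩, ?_, ?_⟩
    · show tg _ ∈ S'
      have : tg ⟨(s : Matrix (Fin 2) (Fin 2) F), hd'⟩ = s := by
        apply Units.ext
        rfl
      rw [this]; exact hs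
    · apply Units.ext
      rfl
  -- cardinality of Q₁
  have hcardQ : 2 ^ padicValNat 2 (Fintype.card F ^ 2 - 1) ≤ Nat.card Q₁ := by
    have hinj : Nat.card S' ≤ Nat.card (↥Q₁ × Bool) := by
      have hf : ∀ s : ↥S', ∃ y : ↥Q₁ × Bool,
          (y.2 = false → tg y.1 = (s : GL (Fin 2) F)) ∧
            (y.2 = true → tg y.1 = (s : GL (Fin 2) F) * phiGL) := by
        intro s
        rcases hdetS s.1 s.2 with h | h
        · obtain ⟨a, ha, hta⟩ := hdet1 s.1 s.2 h
          exact ⟨(⟨a, ha⟩, false), fun _ => hta, fun h' => by simp at h'⟩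
        · have h2 : Matrix.GeneralLinearGroup.det ((s : GL (Fin 2) F) * phiGL) = 1 := by
            rw [map_mul, h, det_phiGL, neg_mul_neg, one_mul]
          obtain ⟨a, ha, hta⟩ := hdet1 _ (S'.mul_mem s.2 hφS) h2
          exact ⟨(⟨a, ha⟩, true), fun h' => by simp at h', fun _ => hta⟩
      choose f hf using hf
      apply Nat.card_le_card_of_injective f
      intro s₁ s₂ h12
      have e1 := hf s₁
      have e2 := hf s₂
      rw [h12] at e1
      apply Subtype.ext
      rcases hb : (f s₂).2 with _ | _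
      · rw [← e1.1 hb, ← e2.1 hb]
      · have := (e1.2 hb).symm.trans (e2.2 hb)
        exact mul_right_cancel this
    rw [Nat.card_prod, Nat.card_eq_fintype_card (α := Bool), Fintype.card_bool, hScard,
      pow_add, pow_one, mul_comm] at hinj
    exact Nat.le_of_mul_le_mul_right hinj (by norm_num)
  have hQ₁card : Nat.card Q₁ =
      2 ^ (Nat.card (Matrix.SpecialLinearGroup (Fin 2) F)).factorization 2 := by
    rw [Nat.factorization_def _ Nat.prime_two]
    apply card_eq_of_pgroup _ hQ₁p _ (Nat.card_pos.ne') (Subgroup.card_subgroup_dvd_card _)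
    rw [Cfsg.Agent.Lib.helper15.card_SL2]
    have h1 : 1 < Fintype.card F ^ 2 := Nat.one_lt_pow (by omega) hq1
    rw [padicValNat.mul (by omega) (by omega), padicValNat.eq_zero_of_not_dvd (by
      intro hd
      rw [Nat.odd_iff] at hF
      omega), zero_add]
    exact hcardQ
  have hgood := good_sylow_sl2_all hF (Sylow.ofCard Q₁ hQ₁card)
  rw [Sylow.coe_ofCard] at hgood
  have hmapQ : Q₁.map tg ≤ S' := by
    rintro _ ⟨a, ha, rfl⟩
    exact ha
  apply genSq_of_sets ({x | ∃ a ∈ Q₁, x = tg a} ∪ {phiGL})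
  · rintro x (⟨a, ha, rfl⟩ | hx)
    · refine ⟨ha, ?_⟩
      rw [← map_pow]
      have h3 := Subgroup.mem_map_of_mem tg (hgood a ha)
      rw [Subgroup.map_commutator] at h3
      exact Subgroup.commutator_mono hmapQ hmapQ h3
    · rw [Set.mem_singleton_iff] at hx
      rw [hx]
      refine ⟨hφS, ?_⟩
      rw [hφ2]
      exact Subgroup.one_mem _
  · intro s hs
    rcases hdetS s hs with h | h
    · obtain ⟨a, ha, hta⟩ := hdet1 s hs h
      apply Subgroup.subset_closure
      left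
      exact ⟨a, ha, hta.symm⟩
    · have h2 : Matrix.GeneralLinearGroup.det (s * phiGL) = 1 := by
        rw [map_mul, h, det_phiGL, neg_mul_neg, one_mul]
      obtain ⟨a, ha, hta⟩ := hdet1 _ (S'.mul_mem hs hφS) h2
      have h3 : s = tg a * phiGL := by
        rw [hta, mul_assoc, phiGL_sq, mul_one]
      rw [h3]
      apply Subgroup.mul_mem
      · apply Subgroup.subset_closure
        left
        exact ⟨a, ha, rfl⟩
      · apply Subgroup.subset_closure
        right
        rfl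

end GL2

end Cfsg.Agent.Lib.Helper5.SymSyl
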