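import Mathlib
import Cfsg.Agent.Lib.Helper5.OSylA
import Cfsg.Agent.Lib.Helper5.GLSylB

set_option autoImplicit false

namespace Cfsg.Agent.Lib.Helper5.OSyl

open Cfsg Matrix Cfsg.Agent.Lib.Lead Cfsg.Agent.Lib.Helper5.SymSyl

open scoped MatrixGroups

variable {F : Type*} [Field F]

abbrev O2 (F : Type*) [Field F] : Subgroup (GL (Fin 2) F) :=
  Cfsg.isometryGroup F (sqForm (Fin 2) F)

theorem phiGL_coe [Fintype F] :
    ((phiGL : GL (Fin 2) F) : Matrix (Fin 2) (Fin 2) F) = !![1, 0; 0, -1] := rfl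

theorem phiGL_mem_O2 [Fintype F] : (phiGL : GL (Fin 2) F) ∈ O2 F := by
  apply mem_iso_sq_of_orth
  rw [phiGL_coe]
  ext i j
  fin_cases i <;> fin_cases j <;> simp [Matrix.mul_apply, Fin.sum_univ_two]

theorem O2_entries (h2 : (2 : F) ≠ 0) (g : GL (Fin 2) F) (hg : g ∈ O2 F) :
    g 0 0 * g 0 0 + g 1 0 * g 1 0 = 1 ∧ g 0 0 * g 0 1 + g 1 0 * g 1 1 = 0 ∧
      g 0 1 * g 0 1 + g 1 1 * g 1 1 = 1 := by
  have h := orth_of_mem_iso h2 g hg
  have h00 := congrFun (congrFun h 0) 0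
  have h01 := congrFun (congrFun h 0) 1
  have h11 := congrFun (congrFun h 1) 1
  simp only [Matrix.mul_apply, Fin.sum_univ_two, Matrix.transpose_apply, Matrix.one_apply] at h00 h01 h11
  refine ⟨?_, ?_, ?_⟩
  · simpa using h00
  · simpa using h01
  · simpa using h11

theorem O2_det_val (g : GL (Fin 2) F) :
    ((Matrix.GeneralLinearGroup.det g : Fˣ) : F) = g 0 0 * g 1 1 - g 0 1 * g 1 0 := by
  rw [Matrix.GeneralLinearGroup.val_det_apply, Matrix.det_fin_two]

theorem O2_det (h2 : (2 : F) ≠ 0) (g : GL (Fin 2) F) (hg : g ∈ O2 F) :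
    Matrix.GeneralLinearGroup.det g = 1 ∨ Matrix.GeneralLinearGroup.det g = -1 := by
  obtain ⟨e1, e2, e3⟩ := O2_entries h2 g hg
  have h : ((Matrix.GeneralLinearGroup.det g : Fˣ) : F) *
      ((Matrix.GeneralLinearGroup.det g : Fˣ) : F) = 1 := by
    rw [O2_det_val]
    linear_combination (g 0 1 * g 0 1 + g 1 1 * g 1 1) * e1 + e3 -
      (g 0 0 * g 0 1 + g 1 0 * g 1 1) * e2
  rcases mul_self_eq_one_iff.mp h with h | h
  · left; exact Units.ext h
  · right; exact Units.ext h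

theorem mat2_eq (x11 x12 x21 x22 : F) (h1 : x11 = 1) (h2 : x12 = 0) (h3 : x21 = 0)
    (h4 : x22 = 1) : !![x11, x12; x21, x22] = !![1, 0; 0, 1] := by
  rw [h1, h2, h3, h4]

theorem O2_rot [Fintype F] (h2 : (2 : F) ≠ 0) (g : GL (Fin 2) F) (hg : g ∈ O2 F)
    (hd : Matrix.GeneralLinearGroup.det g = 1) : phiGL * g * phiGL * g = 1 := by
  obtain ⟨e1, e2, e3⟩ := O2_entries h2 g hg
  have e4 : g 0 0 * g 1 1 - g 0 1 * g 1 0 = 1 := by
    rw [← O2_det_val, hd, Units.val_one]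
  have hdd : g 1 1 = g 0 0 := by
    linear_combination (-(g 1 1)) * e1 + g 0 0 * e4 + g 1 0 * e2
  have hbb : g 0 1 = - g 1 0 := by
    linear_combination (-(g 1 0)) * e4 + (-(g 0 1)) * e1 + g 0 0 * e2
  apply Units.ext
  rw [Units.val_mul, Units.val_mul, Units.val_mul, phiGL_coe, Units.val_one,
    Matrix.eta_fin_two (g : Matrix (Fin 2) (Fin 2) F), hdd, hbb]
  simp only [Matrix.mul_fin_two, Matrix.one_fin_two]
  apply mat2_eq
  · linear_combination e1
  · ring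
  · ring
  · linear_combination e1

theorem O2_refl (h2 : (2 : F) ≠ 0) (g : GL (Fin 2) F) (hg : g ∈ O2 F)
    (hd : Matrix.GeneralLinearGroup.det g = -1) : g * g = 1 := by
  obtain ⟨e1, e2, e3⟩ := O2_entries h2 g hg
  have e4 : g 0 0 * g 1 1 - g 0 1 * g 1 0 = -1 := by
    rw [← O2_det_val, hd, Units.val_neg, Units.val_one]
  have hdd : g 1 1 = - g 0 0 := by
    linear_combination (-(g 1 1)) * e1 + g 0 0 * e4 + g 1 0 * e2
  have hbb : g 0 1 = g 1 0 := by
    linear_combination (-(g 1 0)) * e4 + (-(g 0 1)) * e1 + g 0 0 * e2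
  apply Units.ext
  rw [Units.val_mul, Units.val_one,
    Matrix.eta_fin_two (g : Matrix (Fin 2) (Fin 2) F), hdd, hbb]
  simp only [Matrix.mul_fin_two, Matrix.one_fin_two]
  apply mat2_eq
  · linear_combination e1
  · ring
  · ring
  · linear_combination e1

end Cfsg.Agent.Lib.Helper5.OSyl
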