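import Mathlib
import Cfsg.Agent.Lib.Helper5.OSylB
import Cfsg.Agent.S0305
import Cfsg.Agent.S0306

set_option autoImplicit false

namespace Cfsg.Agent.Lib.Helper5.OSyl

open Cfsg Matrix Cfsg.Agent.Lib.Lead Cfsg.Agent.Lib.Helper5.SymSyl

open scoped MatrixGroups

section Conj

variable {ι : Type} [Fintype ι] [DecidableEq ι] {F : Type*} [Field F]

theorem map_conj_iso (N : GL ι F) (Q₁ Q₂ : (ι → F) → F) (c : F) (hc : c ≠ 0)
    (h : ∀ v, Q₁ ((N : Matrix ι ι F) *ᵥ v) = c * Q₂ v) :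
    (Cfsg.isometryGroup F Q₁).map (MulAut.conj N⁻¹).toMonoidHom = Cfsg.isometryGroup F Q₂ := by
  ext x
  rw [Subgroup.mem_map_equiv, RI.mem_iso_iff', RI.mem_iso_iff']
  have e1 : (MulAut.conj N⁻¹).symm x = N * x * N⁻¹ := by
    rw [MulAut.conj_symm_apply, inv_inv]
  rw [e1]
  have hN : ∀ y : ι → F, (N : Matrix ι ι F) *ᵥ (((N⁻¹ : GL ι F) : Matrix ι ι F) *ᵥ y) = y := by
    intro y
    rw [Matrix.mulVec_mulVec, ← Units.val_mul, mul_inv_cancel, Units.val_one, Matrix.one_mulVec]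
  constructor
  · intro H y
    have h1 := H ((N : Matrix ι ι F) *ᵥ y)
    rw [Units.val_mul, Units.val_mul, ← Matrix.mulVec_mulVec, ← Matrix.mulVec_mulVec,
      Matrix.mulVec_mulVec (y) _ (N : Matrix ι ι F), ← Units.val_mul, inv_mul_cancel,
      Units.val_one, Matrix.one_mulVec, h, h] at h1
    exact mul_left_cancel₀ hc h1
  · intro H y
    rw [Units.val_mul, Units.val_mul, ← Matrix.mulVec_mulVec, ← Matrix.mulVec_mulVec, h, H, ← h,
      hN]

noncomputable def isoConj (N : GL ι F) (Q₁ Q₂ : (ι → F) → F) (c : F) (hc : c ≠ 0)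
    (h : ∀ v, Q₁ ((N : Matrix ι ι F) *ᵥ v) = c * Q₂ v) :
    ↥(Cfsg.isometryGroup F Q₁) ≃* ↥(Cfsg.isometryGroup F Q₂) :=
  ((MulAut.conj N⁻¹).subgroupMap (Cfsg.isometryGroup F Q₁)).trans
    (MulEquiv.subgroupCongr (map_conj_iso N Q₁ Q₂ c hc h))

end Conj

section CardO2

variable {F : Type*} [Field F] [Fintype F]

theorem card_O2_minus (hq : 4 ∣ Fintype.card F + 1) :
    Nat.card (O2 F) = 2 * (Fintype.card F + 1) := by
  have hns : ¬ IsSquare (-1 : F) := by
    rw [FiniteField.isSquare_neg_one_iff]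
    omega
  have hab : ∀ z₁ z₂ : F, z₁ ^ 2 + 0 * z₁ * z₂ + 1 * z₂ ^ 2 = 0 → z₁ = 0 ∧ z₂ = 0 := by
    intro z₁ z₂ h
    by_cases hz : z₂ = 0
    · subst hz
      refine ⟨?_, rfl⟩
      have : z₁ ^ 2 = 0 := by linear_combination h
      exact pow_eq_zero_iff (by norm_num) |>.mp this
    · exfalso
      apply hns
      refine ⟨z₁ / z₂, ?_⟩
      field_simp
      linear_combination -h
  obtain ⟨φ⟩ := Cfsg.Agent.S0306.result (F := F) rfl 0 1 hab
  let e : (Fin 0 ⊕ Fin 0) ⊕ Fin 2 ≃ Fin 2 := Equiv.emptySum (Fin 0 ⊕ Fin 0) (Fin 2)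
  have hQ : (fun x : Fin 2 → F => Cfsg.quadFormMinus 0 F 0 1 (x ∘ e)) = sqForm (Fin 2) F := by
    funext x
    unfold Cfsg.quadFormMinus sqForm
    simp only [Finset.univ_eq_empty, Finset.sum_empty, zero_add, Fin.sum_univ_two,
      Function.comp_apply]
    have h0 : e (Sum.inr 0) = 0 := rfl
    have h1 : e (Sum.inr 1) = 1 := rfl
    rw [h0, h1]
    ring
  have ψ := RI.isoReindex e (Cfsg.quadFormMinus 0 F 0 1)
  rw [hQ] at ψ
  rw [← Nat.card_congr ψ.toEquiv, Nat.card_congr φ.toEquiv, DihedralGroup.nat_card]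

theorem card_O2_plus (hq : 4 ∣ Fintype.card F - 1) :
    Nat.card (O2 F) = 2 * (Fintype.card F - 1) := by
  have hq1 : 1 < Fintype.card F := Fintype.one_lt_card
  have hs : IsSquare (-1 : F) := by
    rw [FiniteField.isSquare_neg_one_iff]
    omega
  obtain ⟨i, hi⟩ := hs
  have h2 : (2 : F) ≠ 0 := by
    intro h
    have hc : ringChar F = 2 :=
      CharP.ringChar_of_prime_eq_zero Nat.prime_two (by exact_mod_cast h)
    have := FiniteField.even_card_of_char_two hc
    omega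
  obtain ⟨φ⟩ := Cfsg.Agent.S0305.result (F := F) rfl
  let e : Fin 1 ⊕ Fin 1 ≃ Fin 2 := finSumFinEquiv
  have hQ : (fun x : Fin 2 → F => Cfsg.quadFormPlus 1 F (x ∘ e)) = fun x => x 0 * x 1 := by
    funext x
    unfold Cfsg.quadFormPlus
    simp only [Finset.univ_unique, Finset.sum_singleton, Function.comp_apply]
    have h0 : e (Sum.inl default) = 0 := rfl
    have h1 : e (Sum.inr default) = 1 := rfl
    rw [h0, h1]
  have ψ := RI.isoReindex e (Cfsg.quadFormPlus 1 F)
  rw [hQ] at ψ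
  have hi0 : i ≠ 0 := by
    rintro rfl
    simp at hi
  let N : GL (Fin 2) F := Matrix.GeneralLinearGroup.mkOfDetNeZero !![1, i; 1, -i] (by
    rw [Matrix.det_fin_two_of]
    intro h
    have : (2 : F) * i = 0 := by linear_combination -h
    rcases mul_eq_zero.mp this with h' | h'
    · exact h2 h'
    · exact hi0 h')
  have hN : ∀ v : Fin 2 → F, (fun x : Fin 2 → F => x 0 * x 1) ((N : Matrix (Fin 2) (Fin 2) F) *ᵥ v) =
      1 * sqForm (Fin 2) F v := by
    intro v
    show (!![1, i; 1, -i] *ᵥ v) 0 * (!![1, i; 1, -i] *ᵥ v) 1 = 1 * sqForm (Fin 2) F v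
    unfold sqForm
    simp only [Matrix.mulVec, dotProduct, Fin.sum_univ_two, Matrix.of_apply, Matrix.cons_val_zero,
      Matrix.cons_val_one]
    simp
    linear_combination (v 1 * v 1) * hi
  have χ := isoConj N (fun x : Fin 2 → F => x 0 * x 1) (sqForm (Fin 2) F) 1 one_ne_zero hN
  rw [← Nat.card_congr χ.toEquiv, ← Nat.card_congr ψ.toEquiv, Nat.card_congr φ.toEquiv,
    DihedralGroup.nat_card]

theorem v2_two_mod4 (n : ℕ) (h : n % 4 = 2) : padicValNat 2 n = 1 := by
  have h1 : n = 2 * (n / 2) := by omega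
  have h2 : ¬ 2 ∣ n / 2 := by omega
  rw [h1, padicValNat.mul (by norm_num) (by omega), padicValNat_self,
    padicValNat.eq_zero_of_not_dvd h2]

theorem v2_card_O2 (hF : Odd (Fintype.card F)) :
    padicValNat 2 (Nat.card (O2 F)) = padicValNat 2 (Fintype.card F ^ 2 - 1) := by
  have hq1 : 1 < Fintype.card F := Fintype.one_lt_card
  have hsq : Fintype.card F ^ 2 - 1 = (Fintype.card F + 1) * (Fintype.card F - 1) := by
    have := Nat.sq_sub_sq (Fintype.card F) 1
    rwa [one_pow] at this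
  rw [Nat.odd_iff] at hF
  have hcases : Fintype.card F % 4 = 1 ∨ Fintype.card F % 4 = 3 := by omega
  rcases hcases with h | h
  · have hq : 4 ∣ Fintype.card F - 1 := by omega
    rw [card_O2_plus hq, hsq, padicValNat.mul (by norm_num) (by omega), padicValNat_self,
      padicValNat.mul (by omega) (by omega), v2_two_mod4 (Fintype.card F + 1) (by omega)]
  · have hq : 4 ∣ Fintype.card F + 1 := by omega
    rw [card_O2_minus hq, hsq, padicValNat.mul (by norm_num) (by omega), padicValNat_self,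
      padicValNat.mul (by omega) (by omega), v2_two_mod4 (Fintype.card F - 1) (by omega)]
    ring

end CardO2

end Cfsg.Agent.Lib.Helper5.OSyl
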