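import Mathlib
import Cfsg.Agent.Lib.Helper5.GLSylB

set_option autoImplicit false

namespace Cfsg.Agent.Lib.Helper5.SymSyl

open scoped commutatorElement MatrixGroups

section Emb

variable {F : Type*} [Field F] (m : ℕ)

def liftPerm : Equiv.Perm (Fin m) →* Equiv.Perm (Fin 2 × Fin m) where
  toFun σ := Equiv.prodCongrRight (fun _ => σ)
  map_one' := by ext x <;> rfl
  map_mul' σ τ := by ext x <;> rfl

theorem liftPerm_apply (σ : Equiv.Perm (Fin m)) (x : Fin 2 × Fin m) :
    liftPerm m σ x = (x.1, σ x.2) := rfl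

noncomputable def topGL : Equiv.Perm (Fin m) →* GL (Fin 2 × Fin m) F :=
  ((Matrix.permMatrixHom (n := Fin 2 × Fin m) (R := F)).comp (liftPerm m)).toHomUnits

noncomputable def baseGL : (Fin m → GL (Fin 2) F) →* GL (Fin 2 × Fin m) F :=
  (Units.map (Matrix.blockDiagonalRingHom (Fin 2) (Fin m) F).toMonoidHom).comp
    (MulEquiv.piUnits (M := fun _ : Fin m => Matrix (Fin 2) (Fin 2) F)).symm.toMonoidHom

theorem topGL_coe (σ : Equiv.Perm (Fin m)) :
    ((topGL (F := F) m σ : GL (Fin 2 × Fin m) F) : Matrix (Fin 2 × Fin m) (Fin 2 × Fin m) F) =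
      ((liftPerm m σ)⁻¹).permMatrix F := rfl

theorem baseGL_coe (A : Fin m → GL (Fin 2) F) :
    ((baseGL m A : GL (Fin 2 × Fin m) F) : Matrix (Fin 2 × Fin m) (Fin 2 × Fin m) F) =
      Matrix.blockDiagonal (fun i => ((A i : GL (Fin 2) F) : Matrix (Fin 2) (Fin 2) F)) := rfl

theorem topGL_mul_baseGL (σ : Equiv.Perm (Fin m)) (A : Fin m → GL (Fin 2) F) :
    topGL m σ * baseGL m A * (topGL m σ)⁻¹ = baseGL m (fun i => A (σ⁻¹ i)) := by
  rw [mul_inv_eq_iff_eq_mul]
  apply Units.ext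
  rw [Units.val_mul, Units.val_mul, topGL_coe, baseGL_coe, baseGL_coe,
    PEquiv.toMatrix_toPEquiv_mul, PEquiv.mul_toMatrix_toPEquiv]
  ext ⟨a, i⟩ ⟨b, j⟩
  simp only [Matrix.submatrix_apply, id, Matrix.blockDiagonal_apply]
  have h1 : ((liftPerm m σ)⁻¹ (a, i)) = (a, σ⁻¹ i) := by
    rw [← map_inv]; rfl
  have h2 : ((liftPerm m σ)⁻¹).symm (b, j) = (b, σ j) := by
    rw [← Equiv.Perm.inv_def, inv_inv]; rfl
  rw [h1, h2]
  simp only
  by_cases h : σ⁻¹ i = j
  · have h' : i = σ j := by rw [← h]; simp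
    rw [if_pos h, if_pos h']
  · have h' : ¬ i = σ j := by
      intro h''
      apply h
      rw [h'']; simp
    rw [if_neg h, if_neg h']

theorem baseGL_injective : Function.Injective (baseGL (F := F) m) := by
  intro A B h
  have h1 := congrArg (fun g : GL (Fin 2 × Fin m) F =>
    (g : Matrix (Fin 2 × Fin m) (Fin 2 × Fin m) F)) h
  simp only [baseGL_coe] at h1
  have h2 := Matrix.blockDiagonal_injective h1
  funext i
  apply Units.ext
  exact congrFun h2 i

theorem base_eq_top (A : Fin m → GL (Fin 2) F) (σ : Equiv.Perm (Fin m))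
    (h : baseGL m A = topGL m σ) : σ = 1 := by
  have h1 := congrArg (fun g : GL (Fin 2 × Fin m) F =>
    (g : Matrix (Fin 2 × Fin m) (Fin 2 × Fin m) F)) h
  simp only [baseGL_coe, topGL_coe] at h1
  apply Equiv.ext
  intro i
  by_contra hne
  have hne' : ¬ i = σ⁻¹ i := by
    intro h'
    apply hne
    have : σ i = i := by
      conv_lhs => rw [h']
      simp
    rw [this]; rfl
  have h2 := congrFun (congrFun h1 (0, i)) ((liftPerm m σ)⁻¹ (0, i))
  have h3 : ((liftPerm m σ)⁻¹ (0, i)) = (0, σ⁻¹ i) := by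
    rw [← map_inv]; rfl
  have h4 : Equiv.Perm.permMatrix F ((liftPerm m σ)⁻¹) (0, i) ((liftPerm m σ)⁻¹ (0, i)) = 1 := by
    simp [Equiv.Perm.permMatrix, PEquiv.toMatrix_apply, Equiv.toPEquiv_apply]
  rw [h4, Matrix.blockDiagonal_apply, h3] at h2
  simp only at h2
  rw [if_neg hne'] at h2
  exact zero_ne_one h2

theorem topGL_injective : Function.Injective (topGL (F := F) m) := by
  intro σ τ h
  have h1 : baseGL (F := F) m 1 = topGL m (σ * τ⁻¹) := by
    rw [map_one, map_mul, map_inv, h, mul_inv_cancel]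
  have := base_eq_top m _ _ h1
  exact mul_inv_eq_one.mp this

theorem baseGL_inf_topGL : (baseGL (F := F) m).range ⊓ (topGL m).range = ⊥ := by
  rw [eq_bot_iff]
  rintro x ⟨⟨A, rfl⟩, ⟨σ, hσ⟩⟩
  rw [Subgroup.mem_bot]
  have := base_eq_top m A σ hσ.symm
  rw [← hσ, this, map_one]

end Emb

section EmbSL

variable {F : Type*} [Field F] {ι κ : Type*} [Fintype ι] [DecidableEq ι] [Fintype κ]
  [DecidableEq κ] (e : ι ⊕ Unit ≃ κ)

def embMat (g : GL ι F) : Matrix κ κ F :=
  Matrix.reindex e e (Matrix.fromBlocks (g : Matrix ι ι F) 0 0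
    (Matrix.of fun _ _ => (((Matrix.GeneralLinearGroup.det g)⁻¹ : Fˣ) : F)))

theorem embMat_det (g : GL ι F) : (embMat e g).det = 1 := by
  unfold embMat
  rw [Matrix.det_reindex_self, Matrix.det_fromBlocks_zero₂₁]
  have h2 : (Matrix.of fun _ _ : Unit => (((Matrix.GeneralLinearGroup.det g)⁻¹ : Fˣ) : F)).det =
      (((Matrix.GeneralLinearGroup.det g)⁻¹ : Fˣ) : F) := by
    rw [Matrix.det_unique]
    rfl
  have h1 : (g : Matrix ι ι F).det = ((Matrix.GeneralLinearGroup.det g : Fˣ) : F) := rfl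
  rw [h2, h1, ← Units.val_mul, mul_inv_cancel, Units.val_one]

theorem embMat_mul (g h : GL ι F) : embMat e (g * h) = embMat e g * embMat e h := by
  unfold embMat
  rw [Matrix.reindex_apply, Matrix.reindex_apply, Matrix.reindex_apply,
    Matrix.submatrix_mul_equiv, Matrix.fromBlocks_multiply]
  congr 1
  simp only [Matrix.zero_mul, Matrix.mul_zero, add_zero, zero_add, Units.val_mul, map_mul,
    mul_inv_rev]
  congr 1
  ext i j
  simp [Matrix.mul_apply, mul_comm]

theorem embMat_one : embMat e (1 : GL ι F) = 1 := by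
  unfold embMat
  rw [Matrix.reindex_apply]
  have : (Matrix.fromBlocks ((1 : GL ι F) : Matrix ι ι F) 0 0
      (Matrix.of fun _ _ => (((Matrix.GeneralLinearGroup.det (1 : GL ι F))⁻¹ : Fˣ) : F))) =
      (1 : Matrix (ι ⊕ Unit) (ι ⊕ Unit) F) := by
    rw [← Matrix.fromBlocks_one]
    congr 1
    ext i j
    simp
  rw [this, Matrix.submatrix_one_equiv]

def embSL : GL ι F →* Matrix.SpecialLinearGroup κ F where
  toFun g := ⟨embMat e g, embMat_det e g⟩
  map_one' := Subtype.ext (embMat_one e)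
  map_mul' g h := Subtype.ext (embMat_mul e g h)

theorem embSL_injective : Function.Injective (embSL (F := F) e) := by
  intro g h hgh
  have h1 : embMat e g = embMat e h := congrArg Subtype.val hgh
  unfold embMat at h1
  have h2 := (Matrix.reindex e e).injective h1
  have h3 := congrArg Matrix.toBlocks₁₁ h2
  rw [Matrix.toBlocks_fromBlocks₁₁, Matrix.toBlocks_fromBlocks₁₁] at h3
  exact Units.ext h3

end EmbSL

end Cfsg.Agent.Lib.Helper5.SymSyl
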