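import Mathlib
import Cfsg.Agent.Lib.Helper5.GLSylC
import Cfsg.Agent.Lib.Lead.SpWreathB

set_option autoImplicit false

namespace Cfsg.Agent.Lib.Helper5.SymSyl

open scoped Nat

section Count

theorem v2_of_mod4 (n : ℕ) (h : n % 4 = 3) : padicValNat 2 (n - 1) = 1 := by
  haveI : Fact (Nat.Prime 2) := ⟨Nat.prime_two⟩
  have h1 : n - 1 = 2 * (2 * (n / 4) + 1) := by omega
  rw [h1, padicValNat.mul (by norm_num) (by omega), padicValNat_self,
    padicValNat.eq_zero_of_not_dvd (by omega)]

theorem pow_odd_mod4 (q : ℕ) (hq : q % 4 = 3) (j : ℕ) : q ^ (2 * j + 1) % 4 = 3 := by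
  induction j with
  | zero => simpa using hq
  | succ j ih =>
    have : q ^ (2 * (j + 1) + 1) = q ^ (2 * j + 1) * (q * q) := by ring
    rw [this, Nat.mul_mod, ih, Nat.mul_mod q q, hq]

theorem v2_sum (q : ℕ) (hq : q % 4 = 3) (m : ℕ) :
    ∑ k ∈ Finset.range (2 * m + 1), padicValNat 2 (q ^ (k + 1) - 1) =
      (m + 1) + m * padicValNat 2 (q ^ 2 - 1) + padicValNat 2 m ! := by
  haveI : Fact (Nat.Prime 2) := ⟨Nat.prime_two⟩
  have hodd : Odd q := by rw [Nat.odd_iff]; omega
  have hq1 : 1 < q := by omega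
  induction m with
  | zero =>
    simp only [mul_zero, zero_add, Finset.range_one, Finset.sum_singleton, pow_one, zero_mul,
      add_zero, Nat.factorial_zero, padicValNat.one]
    exact v2_of_mod4 q hq
  | succ m ih =>
    have e : 2 * (m + 1) + 1 = (2 * m + 1) + 1 + 1 := by ring
    rw [e, Finset.sum_range_succ, Finset.sum_range_succ, ih]
    have h1 : padicValNat 2 (q ^ (2 * m + 1 + 1) - 1) =
        padicValNat 2 (q ^ 2 - 1) + padicValNat 2 (m + 1) := by
      have : 2 * m + 1 + 1 = 2 * (m + 1) := by ring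
      rw [this]
      exact Cfsg.Agent.Lib.Lead.SpW.v2_pow hodd hq1 (m + 1) (by omega)
    have h2 : padicValNat 2 (q ^ (2 * m + 1 + 1 + 1) - 1) = 1 := by
      have : 2 * m + 1 + 1 + 1 = 2 * (m + 1) + 1 := by ring
      rw [this]
      exact v2_of_mod4 _ (pow_odd_mod4 q hq (m + 1))
    rw [h1, h2, Nat.factorial_succ, padicValNat.mul (by omega) (Nat.factorial_ne_zero m)]
    ring

theorem v2_prod_gl (q : ℕ) (hq1 : 1 < q) (hodd : Odd q) (n : ℕ) :
    ∀ n' ≤ n, padicValNat 2 (∏ i ∈ Finset.range n', (q ^ n - q ^ i)) =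
      ∑ i ∈ Finset.range n', padicValNat 2 (q ^ (n - i) - 1) := by
  haveI : Fact (Nat.Prime 2) := ⟨Nat.prime_two⟩
  intro n'
  induction n' with
  | zero => intro _; simp
  | succ n' ih =>
    intro hn'
    have hfac : q ^ n - q ^ n' = q ^ n' * (q ^ (n - n') - 1) := by
      rw [Nat.mul_sub, mul_one, ← pow_add]
      congr 2
      omega
    have hpos : 1 < q ^ (n - n') := Nat.one_lt_pow (by omega) hq1
    have hne : q ^ n - q ^ n' ≠ 0 := by
      rw [hfac]
      exact Nat.mul_ne_zero (pow_ne_zero _ (by omega)) (by omega)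
    have hprodne : ∏ i ∈ Finset.range n', (q ^ n - q ^ i) ≠ 0 := by
      rw [Finset.prod_ne_zero_iff]
      intro i hi
      rw [Finset.mem_range] at hi
      have : q ^ i < q ^ n := Nat.pow_lt_pow_right hq1 (by omega)
      omega
    rw [Finset.prod_range_succ, Finset.sum_range_succ, padicValNat.mul hprodne hne,
      ih (by omega), hfac, padicValNat.mul (pow_ne_zero _ (by omega)) (by omega),
      Cfsg.Agent.Lib.Lead.SpW.v2_odd_pow hodd n', zero_add]

theorem v2_card_sl_odd {F : Type*} [Field F] [Fintype F] (hq : 4 ∣ Fintype.card F + 1) (m : ℕ) :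
    padicValNat 2 (Nat.card (Matrix.SpecialLinearGroup (Fin (2 * m + 1)) F)) =
      (1 + padicValNat 2 (Fintype.card F ^ 2 - 1)) * m + padicValNat 2 m ! := by
  classical
  haveI : Fact (Nat.Prime 2) := ⟨Nat.prime_two⟩
  have hq1 : 1 < Fintype.card F := Fintype.one_lt_card
  have hq3 : Fintype.card F % 4 = 3 := by omega
  have hodd : Odd (Fintype.card F) := by rw [Nat.odd_iff]; omega
  have h1 := Cfsg.Agent.Lib.helper14.card_GL_eq_card_SL_mul (F := F) (2 * m + 1) (by omega)
  have h2 : padicValNat 2 (Nat.card (GL (Fin (2 * m + 1)) F)) =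
      (m + 1) + m * padicValNat 2 (Fintype.card F ^ 2 - 1) + padicValNat 2 m ! := by
    rw [Matrix.card_GL_field,
      Fin.prod_univ_eq_prod_range (fun i => Fintype.card F ^ (2 * m + 1) - Fintype.card F ^ i)
        (2 * m + 1),
      v2_prod_gl _ hq1 hodd (2 * m + 1) (2 * m + 1) le_rfl, ← v2_sum _ hq3 m,
      ← Finset.sum_range_reflect (fun j => padicValNat 2 (Fintype.card F ^ (j + 1) - 1))]
    apply Finset.sum_congr rfl
    intro i hi
    rw [Finset.mem_range] at hi
    congr 3
    omega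
  rw [h1, padicValNat.mul (Nat.card_pos.ne') (Nat.card_pos.ne'),
    Nat.card_eq_fintype_card (α := Fˣ), Fintype.card_units, v2_sub_one hq] at h2
  have h3 : padicValNat 2 (Nat.card (Matrix.SpecialLinearGroup (Fin (2 * m + 1)) F)) =
      m + m * padicValNat 2 (Fintype.card F ^ 2 - 1) + padicValNat 2 m ! := by omega
  rw [h3]
  ring

end Count

end Cfsg.Agent.Lib.Helper5.SymSyl
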