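import Mathlib
import Cfsg.Agent.Lib.Helper5.GLSylF
import Cfsg.Agent.Lib.Helper5.GLSylD

set_option autoImplicit false

namespace Cfsg.Agent.Lib.Helper5.SymSyl

open scoped commutatorElement MatrixGroups Nat

theorem schreier_two {Γ : Type*} [Group Γ] (X₀ X₁ : Set Γ) (t : Γ) (ht : t * t = 1)
    (K : Subgroup Γ) (h0 : ∀ x ∈ X₀, x ∈ K) (h0' : ∀ x ∈ X₀, t * x * t ∈ K)
    (h1 : ∀ y ∈ X₁, y * t ∈ K) (h1' : ∀ y ∈ X₁, t * y ∈ K) :
    ∀ g ∈ Subgroup.closure (X₀ ∪ X₁), g ∈ K ∨ g * t ∈ K := by
  have htinv : t⁻¹ = t := inv_eq_of_mul_eq_one_right ht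
  intro g hg
  induction hg using Subgroup.closure_induction_right with
  | one => left; exact K.one_mem
  | mul_right x _ y hy ih =>
    rcases hy with hy | hy
    · rcases ih with ih | ih
      · left; exact K.mul_mem ih (h0 y hy)
      · right
        have e : x * y * t = (x * t) * (t * y * t) := by
          calc x * y * t = x * (t * t) * y * t := by rw [ht, mul_one]
            _ = _ := by group
        rw [e]; exact K.mul_mem ih (h0' y hy)
    · rcases ih with ih | ih
      · right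
        have e : x * y * t = x * (y * t) := by group
        rw [e]; exact K.mul_mem ih (h1 y hy)
      · left
        have e : x * y = (x * t) * (t * y) := by
          calc x * y = x * (t * t) * y := by rw [ht, mul_one]
            _ = _ := by group
        rw [e]; exact K.mul_mem ih (h1' y hy)
  | mul_inv_cancel x _ y hy ih =>
    rcases hy with hy | hy
    · rcases ih with ih | ih
      · left; exact K.mul_mem ih (K.inv_mem (h0 y hy))
      · right
        have e : x * y⁻¹ * t = (x * t) * (t * y * t)⁻¹ := by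
          calc x * y⁻¹ * t = x * (t * t) * y⁻¹ * t := by rw [ht, mul_one]
            _ = (x * t) * (t⁻¹ * y * t⁻¹)⁻¹ := by group
            _ = _ := by rw [htinv]
        rw [e]; exact K.mul_mem ih (K.inv_mem (h0' y hy))
    · rcases ih with ih | ih
      · right
        have e : x * y⁻¹ * t = x * (t * y)⁻¹ := by
          calc x * y⁻¹ * t = x * (t⁻¹ * y)⁻¹ := by group
            _ = _ := by rw [htinv]
        rw [e]; exact K.mul_mem ih (K.inv_mem (h1' y hy))
      · left
        have e : x * y⁻¹ = (x * t) * (y * t)⁻¹ := by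
          calc x * y⁻¹ = x * (t * t) * y⁻¹ := by rw [ht, mul_one]
            _ = x * t * (y * t⁻¹)⁻¹ := by group
            _ = _ := by rw [htinv]
        rw [e]; exact K.mul_mem ih (K.inv_mem (h1 y hy))

section GL2

variable {F : Type*} [Field F] [Fintype F]

theorem exists_good_sylow_gl2_struct (hF : Odd (Fintype.card F)) (hq : 4 ∣ Fintype.card F + 1) :
    ∃ S : Subgroup (GL (Fin 2) F),
      Nat.card S = 2 ^ (1 + padicValNat 2 (Fintype.card F ^ 2 - 1)) ∧
      (phiGL : GL (Fin 2) F) ∈ S ∧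
      (∀ s ∈ S, Matrix.GeneralLinearGroup.det s = 1 ∨ Matrix.GeneralLinearGroup.det s = -1) ∧
      (∀ s ∈ S, Matrix.GeneralLinearGroup.det s = 1 →
        s ^ 2 ∈ ⁅S ⊓ (Matrix.GeneralLinearGroup.det (n := Fin 2) (R := F)).ker,
          S ⊓ (Matrix.GeneralLinearGroup.det (n := Fin 2) (R := F)).ker⁆) := by
  classical
  haveI : Fact (Nat.Prime 2) := ⟨Nat.prime_two⟩
  have hq1 : 1 < Fintype.card F := Fintype.one_lt_card
  have hφ2 : (phiGL : GL (Fin 2) F) ^ 2 = 1 := by rw [pow_two]; exact phiGL_sq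
  have hφp : IsPGroup 2 (Subgroup.zpowers (phiGL : GL (Fin 2) F)) := by
    rintro ⟨z, hz⟩
    obtain ⟨k, rfl⟩ := Subgroup.mem_zpowers_iff.mp hz
    refine ⟨1, Subtype.ext ?_⟩
    show (phiGL ^ k) ^ 2 ^ 1 = 1
    rw [pow_one, ← zpow_natCast, ← zpow_mul, mul_comm, zpow_mul, zpow_natCast, hφ2, one_zpow]
  obtain ⟨S, hS⟩ := hφp.exists_le_sylow
  have hφS : (phiGL : GL (Fin 2) F) ∈ (S : Subgroup (GL (Fin 2) F)) :=
    hS (Subgroup.mem_zpowers _)
  have hScard : Nat.card (S : Subgroup (GL (Fin 2) F)) =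
      2 ^ (1 + padicValNat 2 (Fintype.card F ^ 2 - 1)) := by
    rw [S.card_eq_multiplicity, Nat.factorization_def _ Nat.prime_two, v2_card_gl2 hF hq]
  set S' : Subgroup (GL (Fin 2) F) := (S : Subgroup (GL (Fin 2) F)) with hS'
  set tg : Matrix.SpecialLinearGroup (Fin 2) F →* GL (Fin 2) F :=
    Matrix.SpecialLinearGroup.toGL with htg
  have htginj : Function.Injective tg := Matrix.SpecialLinearGroup.toGL_injective
  set Q₁ : Subgroup (Matrix.SpecialLinearGroup (Fin 2) F) := S'.comap tg with hQ₁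
  have hQ₁p : IsPGroup 2 Q₁ := S.isPGroup'.comap_of_injective tg htginj
  have hdetS : ∀ s ∈ S', Matrix.GeneralLinearGroup.det s = 1 ∨
      Matrix.GeneralLinearGroup.det s = -1 := by
    intro s hs
    obtain ⟨k, hk⟩ := S.isPGroup' ⟨s, hs⟩
    have hk' : s ^ 2 ^ k = 1 := congrArg Subtype.val hk
    apply units_pm_one hq _ k
    rw [← map_pow, hk', map_one]
  have hdet1 : ∀ s ∈ S', Matrix.GeneralLinearGroup.det s = 1 → ∃ a ∈ Q₁, tg a = s := by
    intro s hs hd
    have hd' : (s : Matrix (Fin 2) (Fin 2) F).det = 1 := by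
      have := congrArg Units.val hd
      exact this
    refine ⟨⟨(s : Matrix (Fin 2) (Fin 2) F), hd'⟩, ?_, ?_⟩
    · show tg _ ∈ S'
      have : tg ⟨(s : Matrix (Fin 2) (Fin 2) F), hd'⟩ = s := by
        apply Units.ext
        rfl
      rw [this]; exact hs
    · apply Units.ext
      rfl
  have hcardQ : 2 ^ padicValNat 2 (Fintype.card F ^ 2 - 1) ≤ Nat.card Q₁ := by
    have hinj : Nat.card S' ≤ Nat.card (↥Q₁ × Bool) := by
      have hf : ∀ s : ↥S', ∃ y : ↥Q₁ × Bool,
          (y.2 = false → tg y.1 = (s : GL (Fin 2) F)) ∧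
            (y.2 = true → tg y.1 = (s : GL (Fin 2) F) * phiGL) := by
        intro s
        rcases hdetS s.1 s.2 with h | h
        · obtain ⟨a, ha, hta⟩ := hdet1 s.1 s.2 h
          exact ⟨(⟨a, ha⟩, false), fun _ => hta, fun h' => by simp at h'⟩
        · have h2 : Matrix.GeneralLinearGroup.det ((s : GL (Fin 2) F) * phiGL) = 1 := by
            rw [map_mul, h, det_phiGL, neg_mul_neg, one_mul]
          obtain ⟨a, ha, hta⟩ := hdet1 _ (S'.mul_mem s.2 hφS) h2
          exact ⟨(⟨a, ha⟩, true), fun h' => by simp at h', fun _ => hta⟩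
      choose f hf using hf
      apply Nat.card_le_card_of_injective f
      intro s₁ s₂ h12
      have e1 := hf s₁
      have e2 := hf s₂
      rw [h12] at e1
      apply Subtype.ext
      rcases hb : (f s₂).2 with _ | _
      · rw [← e1.1 hb, ← e2.1 hb]
      · have := (e1.2 hb).symm.trans (e2.2 hb)
        exact mul_right_cancel this
    rw [Nat.card_prod, Nat.card_eq_fintype_card (α := Bool), Fintype.card_bool, hScard,
      pow_add, pow_one, mul_comm] at hinj
    exact Nat.le_of_mul_le_mul_right hinj (by norm_num)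
  have hQ₁card : Nat.card Q₁ =
      2 ^ (Nat.card (Matrix.SpecialLinearGroup (Fin 2) F)).factorization 2 := by
    rw [Nat.factorization_def _ Nat.prime_two]
    apply card_eq_of_pgroup _ hQ₁p _ (Nat.card_pos.ne') (Subgroup.card_subgroup_dvd_card _)
    rw [Cfsg.Agent.Lib.helper15.card_SL2]
    have h1 : 1 < Fintype.card F ^ 2 := Nat.one_lt_pow (by omega) hq1
    rw [padicValNat.mul (by omega) (by omega), padicValNat.eq_zero_of_not_dvd (by
      intro hd
      rw [Nat.odd_iff] at hF
      omega), zero_add]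
    exact hcardQ
  have hgood := good_sylow_sl2_all hF (Sylow.ofCard Q₁ hQ₁card)
  rw [Sylow.coe_ofCard] at hgood
  have hmapQ : Q₁.map tg ≤ S' ⊓ (Matrix.GeneralLinearGroup.det (n := Fin 2) (R := F)).ker := by
    rintro _ ⟨a, ha, rfl⟩
    refine ⟨ha, ?_⟩
    show tg a ∈ (Matrix.GeneralLinearGroup.det (n := Fin 2) (R := F)).ker
    rw [MonoidHom.mem_ker]
    apply Units.ext
    exact a.2
  refine ⟨S', hScard, hφS, hdetS, ?_⟩
  intro s hs hd
  obtain ⟨a, ha, rfl⟩ := hdet1 s hs hd
  rw [← map_pow]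
  have h3 := Subgroup.mem_map_of_mem tg (hgood a ha)
  rw [Subgroup.map_commutator] at h3
  exact Subgroup.commutator_mono hmapQ hmapQ h3

end GL2

end Cfsg.Agent.Lib.Helper5.SymSyl
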