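import Mathlib
import Cfsg.Agent.Lib.Helper5.GLSylG

set_option autoImplicit false

namespace Cfsg.Agent.Lib.Helper5.SymSyl

open scoped commutatorElement

theorem wreath_ker_genSq' {L G C : Type*} [Group L] [Group G] [Finite G] [CommGroup C] {m : ℕ}
    {p : ℕ} [Fact p.Prime]
    (base : (Fin m → L) →* G) (top : Equiv.Perm (Fin m) →* G)
    (hconj : ∀ σ A, top σ * base A * (top σ)⁻¹ = base (fun i => A (σ⁻¹ i)))
    (hbinj : Function.Injective base) (htinj : Function.Injective top)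
    (hinf : base.range ⊓ top.range = ⊥)
    (δ : G →* C) (c : ℕ)
    (S : Subgroup L) (a : ℕ) (hScard : Nat.card S = p ^ a)
    (T : Subgroup (Equiv.Perm (Fin m))) (t : ℕ) (hTcard : Nat.card T = p ^ t)
    (hTgen : GenIn p T)
    (hc : Nat.card (((Subgroup.pi Set.univ (fun _ => S)).map base ⊔ T.map top).map δ) ≤ p ^ c)
    (P : Subgroup G)
    (hP : P = ((Subgroup.pi Set.univ (fun _ => S)).map base ⊔ T.map top) ⊓ δ.ker)
    (Y : Set G) (hY : ∀ y ∈ Y, y ∈ P ∧ y ^ p ∈ ⁅P, P⁆)
    (hB : (Subgroup.pi Set.univ (fun _ => S)).map base ⊓ δ.ker ≤ Subgroup.closure Y)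
    (hT : ∀ σ ∈ T, σ ^ p = 1 →
      ∃ b ∈ (Subgroup.pi Set.univ (fun _ => S)).map base, b * top σ ∈ Subgroup.closure Y) :
    IsPGroup p P ∧ p ^ (a * m + t) ≤ p ^ c * Nat.card P ∧ GenSq p P := by
  classical
  set Bq : Subgroup (Fin m → L) := Subgroup.pi Set.univ (fun _ => S) with hBq
  set B : Subgroup G := Bq.map base with hBdef
  set Tt : Subgroup G := T.map top with hTt
  have hBqcard : Nat.card Bq = (p ^ a) ^ m := by
    rw [Nat.card_congr (piSubEquiv S), Nat.card_fun, hScard]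
    simp
  have hBcard : Nat.card B = (p ^ a) ^ m := by
    rw [hBdef, Subgroup.card_map_of_injective hbinj, hBqcard]
  have hTtcard : Nat.card Tt = p ^ t := by
    rw [hTt, Subgroup.card_map_of_injective htinj, hTcard]
  have hBp : IsPGroup p B := by
    apply IsPGroup.of_card (n := a * m)
    rw [hBcard, pow_mul]
  have hTtp : IsPGroup p Tt := IsPGroup.of_card hTtcard
  have hnorm : Tt ≤ Subgroup.normalizer (B : Set G) := by
    rintro _ ⟨σ, _, rfl⟩
    apply Subgroup.mem_normalizer_fintype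
    rintro _ ⟨A, hA, rfl⟩
    rw [hconj]
    refine ⟨_, ?_, rfl⟩
    intro i _
    exact hA _ (Set.mem_univ _)
  have hWp : IsPGroup p ↥(B ⊔ Tt) := IsPGroup.to_sup_of_normal_left' hBp hTtp hnorm
  have hinf' : B ⊓ Tt = ⊥ := by
    rw [eq_bot_iff, ← hinf]
    apply inf_le_inf
    · rintro _ ⟨A, _, rfl⟩
      exact ⟨A, rfl⟩
    · rintro _ ⟨σ, _, rfl⟩
      exact ⟨σ, rfl⟩
  have hWcard : p ^ (a * m + t) ≤ Nat.card ↥(B ⊔ Tt) := by
    have h1 := card_mul_le_card_sup hinf'
    rw [hBcard, hTtcard] at h1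
    rw [pow_add, pow_mul]
    exact h1
  have hPle : P ≤ B ⊔ Tt := by rw [hP]; exact inf_le_left
  have hPker : P ≤ δ.ker := by rw [hP]; exact inf_le_right
  have hPp : IsPGroup p P := hWp.to_le hPle
  refine ⟨hPp, ?_, ?_⟩
  · -- counting
    set f : ↥(B ⊔ Tt) →* C := δ.comp (B ⊔ Tt).subtype with hf
    have h1 : Nat.card ↥(B ⊔ Tt) = Nat.card f.ker * Nat.card f.range := by
      rw [← Subgroup.index_ker f, mul_comm, Subgroup.index_mul_card]
    have h2 : Nat.card f.ker = Nat.card P := by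
      have : f.ker = P.subgroupOf (B ⊔ Tt) := by
        ext x
        rw [MonoidHom.mem_ker, Subgroup.mem_subgroupOf, hP, Subgroup.mem_inf, MonoidHom.mem_ker]
        constructor
        · intro hx
          exact ⟨x.2, hx⟩
        · intro hx
          exact hx.2
      rw [this]
      exact Nat.card_congr (Subgroup.subgroupOfEquivOfLe hPle).toEquiv
    have h3 : Nat.card f.range ≤ p ^ c := by
      have : f.range = (B ⊔ Tt).map δ := by
        rw [hf, MonoidHom.range_comp, Subgroup.range_subtype]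
      rw [this]
      exact hc
    calc p ^ (a * m + t) ≤ Nat.card ↥(B ⊔ Tt) := hWcard
      _ = Nat.card P * Nat.card f.range := by rw [h1, h2]
      _ ≤ Nat.card P * p ^ c := Nat.mul_le_mul_left _ h3
      _ = p ^ c * Nat.card P := mul_comm _ _
  · -- generation
    have hYP : Subgroup.closure Y ≤ P := by
      rw [Subgroup.closure_le]
      intro y hy
      exact (hY y hy).1
    have key : ∀ σ ∈ Subgroup.closure {x | x ∈ T ∧ x ^ p = 1},
        ∃ b ∈ B, b * top σ ∈ Subgroup.closure Y := by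
      intro σ hσ
      induction hσ using Subgroup.closure_induction with
      | mem x hx => exact hT x hx.1 hx.2
      | one => exact ⟨1, B.one_mem, by rw [map_one, mul_one]; exact Subgroup.one_mem _⟩
      | mul x y _ _ ihx ihy =>
        obtain ⟨b₁, hb₁, h₁⟩ := ihx
        obtain ⟨b₂, hb₂, h₂⟩ := ihy
        obtain ⟨A₂, hA₂, rfl⟩ := hb₂
        refine ⟨b₁ * (top x * base A₂ * (top x)⁻¹), B.mul_mem hb₁ ?_, ?_⟩
        · rw [hconj]
          refine ⟨_, ?_, rfl⟩
          intro i _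
          exact hA₂ _ (Set.mem_univ _)
        · have := Subgroup.mul_mem _ h₁ h₂
          have e : b₁ * (top x * base A₂ * (top x)⁻¹) * top (x * y) =
              b₁ * top x * (base A₂ * top y) := by
            rw [map_mul]; group
          rw [e]; exact this
      | inv x _ ihx =>
        obtain ⟨b₁, hb₁, h₁⟩ := ihx
        obtain ⟨A₁, hA₁, rfl⟩ := hb₁
        refine ⟨top x⁻¹ * base A₁⁻¹ * (top x⁻¹)⁻¹, ?_, ?_⟩
        · rw [hconj]
          refine ⟨_, ?_, rfl⟩
          intro i _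
          exact Bq.inv_mem hA₁ _ (Set.mem_univ _)
        · have := Subgroup.inv_mem _ h₁
          have e : top x⁻¹ * base A₁⁻¹ * (top x⁻¹)⁻¹ * top x⁻¹ = (base A₁ * top x)⁻¹ := by
            rw [map_inv, map_inv]; group
          rw [e]; exact this
    apply genSq_of_sets Y hY
    intro g hg
    have hgW : g ∈ B ⊔ Tt := hPle hg
    have hgk : δ g = 1 := hPker hg
    rw [← SetLike.mem_coe, Subgroup.coe_mul_of_right_le_normalizer_left B Tt hnorm] at hgW
    obtain ⟨b, hb, τ, hτ, hbτ⟩ := hgW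
    obtain ⟨σ, hσ, rfl⟩ := hτ
    have hbτ' : b * top σ = g := hbτ
    subst hbτ'
    obtain ⟨b', hb', h'⟩ := key σ (hTgen hσ)
    have e : b * top σ = (b * b'⁻¹) * (b' * top σ) := by group
    rw [e]
    apply Subgroup.mul_mem _ _ h'
    apply hB
    refine ⟨B.mul_mem hb (B.inv_mem hb'), ?_⟩
    show b * b'⁻¹ ∈ δ.ker
    rw [MonoidHom.mem_ker]
    have h1 : δ (b' * top σ) = 1 := hPker (hYP h')
    have h2 : δ (b * top σ) = δ (b * b'⁻¹) * δ (b' * top σ) := by rw [← map_mul, ← e]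
    rw [hgk, h1, mul_one] at h2
    exact h2.symm

theorem wreath_ker_two {L G C : Type*} [Group L] [Group G] [Finite G] [CommGroup C] {m : ℕ}
    (hm : 1 ≤ m)
    (base : (Fin m → L) →* G) (top : Equiv.Perm (Fin m) →* G)
    (hconj : ∀ σ A, top σ * base A * (top σ)⁻¹ = base (fun i => A (σ⁻¹ i)))
    (hbinj : Function.Injective base) (htinj : Function.Injective top)
    (hinf : base.range ⊓ top.range = ⊥)
    (δ : G →* C) (θ : L →* C) (hθ : ∀ (i : Fin m) (x : L), δ (base (Pi.mulSingle (M := fun _ : Fin m => L) i x)) = θ x) (c : ℕ)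
    (S : Subgroup L) (a : ℕ) (hScard : Nat.card S = 2 ^ a)
    (T : Subgroup (Equiv.Perm (Fin m))) (t : ℕ) (hTcard : Nat.card T = 2 ^ t)
    (hTgen : GenIn 2 T) (htop : ∀ σ ∈ T, δ (top σ) = 1)
    (hc : Nat.card (((Subgroup.pi Set.univ (fun _ => S)).map base ⊔ T.map top).map δ) ≤ 2 ^ c)
    (hsq : ∀ d ∈ S ⊓ θ.ker, d ^ 2 ∈ ⁅S ⊓ θ.ker, S ⊓ θ.ker⁆)
    (ph : L) (hphS : ph ∈ S) (hph2 : ph * ph = 1)
    (hphθ : ∀ s ∈ S, θ s ≠ 1 → θ (s * ph) = 1)
    (P : Subgroup G)
    (hP : P = ((Subgroup.pi Set.univ (fun _ => S)).map base ⊔ T.map top) ⊓ δ.ker) :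
    IsPGroup 2 P ∧ 2 ^ (a * m + t) ≤ 2 ^ c * Nat.card P ∧ GenSq 2 P := by
  classical
  haveI : Fact (Nat.Prime 2) := ⟨Nat.prime_two⟩
  have hDmem : ∀ d, d ∈ S ⊓ θ.ker ↔ d ∈ S ∧ θ d = 1 := by
    intro d
    rw [Subgroup.mem_inf, MonoidHom.mem_ker]
  have hPmem : ∀ x, x ∈ P ↔
      x ∈ (Subgroup.pi Set.univ (fun _ => S)).map base ⊔ T.map top ∧ δ x = 1 := by
    intro x
    rw [hP, Subgroup.mem_inf, MonoidHom.mem_ker]
  have single_mem_B : ∀ (i : Fin m) (s : L), s ∈ S →
      base (Pi.mulSingle i s) ∈ (Subgroup.pi Set.univ (fun _ : Fin m => S)).map base := by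
    intro i s hs
    exact ⟨_, (Subgroup.mulSingle_mem_pi i s).mpr (fun _ => hs), rfl⟩
  have single_mem_P : ∀ (i : Fin m) (d : L), d ∈ S ⊓ θ.ker → base (Pi.mulSingle i d) ∈ P := by
    intro i d hd
    rw [hDmem] at hd
    rw [hPmem]
    exact ⟨le_sup_left (a := (Subgroup.pi Set.univ (fun _ : Fin m => S)).map base)
      (single_mem_B i d hd.1), by rw [hθ]; exact hd.2⟩
  have single_commute : ∀ (i j : Fin m) (x y : L), x * y = y * x →
      Commute (Pi.mulSingle (M := fun _ : Fin m => L) i x) (Pi.mulSingle j y) := by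
    intro i j x y hxy
    by_cases hij : i = j
    · subst hij
      show Pi.mulSingle (M := fun _ : Fin m => L) i x * Pi.mulSingle i y =
        Pi.mulSingle i y * Pi.mulSingle i x
      rw [← Pi.mulSingle_mul, ← Pi.mulSingle_mul, hxy]
    · exact Pi.mulSingle_commute (f := fun _ : Fin m => L) hij x y
  have single_sq : ∀ i : Fin m, (Pi.mulSingle (M := fun _ : Fin m => L) i ph) *
      Pi.mulSingle i ph = 1 := by
    intro i
    rw [← Pi.mulSingle_mul, hph2, Pi.mulSingle_one]
  have pair_sq : ∀ i j : Fin m, (Pi.mulSingle (M := fun _ : Fin m => L) i ph *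
      Pi.mulSingle j ph) ^ 2 = 1 := by
    intro i j
    rw [(single_commute i j ph ph rfl).mul_pow, pow_two, pow_two, single_sq, single_sq, one_mul]
  have hθph2 : θ ph * θ ph = 1 := by rw [← map_mul, hph2, map_one]
  set Y' : Set (Fin m → L) := {x | ∃ i, ∃ d ∈ S ⊓ θ.ker, x = Pi.mulSingle i d} ∪
    {x | ∃ i j, x = Pi.mulSingle i ph * Pi.mulSingle j ph} with hY'
  set Y : Set G := base '' Y' ∪ {x | ∃ σ ∈ T, σ ^ 2 = 1 ∧ x = top σ} with hYdef
  have hδY' : ∀ x ∈ Subgroup.closure Y', δ (base x) = 1 := by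
    have : Subgroup.closure Y' ≤ (δ.comp base).ker := by
      rw [Subgroup.closure_le]
      rintro _ (⟨i, d, hd, rfl⟩ | ⟨i, j, rfl⟩)
      · show δ (base (Pi.mulSingle i d)) = 1
        rw [hθ]
        exact ((hDmem d).mp hd).2
      · show δ (base (Pi.mulSingle i ph * Pi.mulSingle j ph)) = 1
        rw [map_mul, map_mul, hθ, hθ, hθph2]
    intro x hx
    exact this hx
  have hYgood : ∀ y ∈ Y, y ∈ P ∧ y ^ 2 ∈ ⁅P, P⁆ := by
    rintro y (⟨x, (⟨i, d, hd, rfl⟩ | ⟨i, j, rfl⟩), rfl⟩ | ⟨σ, hσ, hσ2, rfl⟩)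
    · refine ⟨single_mem_P i d hd, ?_⟩
      have h1 : (base (Pi.mulSingle i d)) ^ 2 =
          (base.comp (MonoidHom.mulSingle _ i)) (d ^ 2) := by
        rw [map_pow]; rfl
      rw [h1]
      have h2 : (S ⊓ θ.ker).map (base.comp (MonoidHom.mulSingle _ i)) ≤ P := by
        rintro _ ⟨d', hd', rfl⟩
        exact single_mem_P i d' hd'
      have h3 := Subgroup.mem_map_of_mem (base.comp (MonoidHom.mulSingle _ i)) (hsq d hd)
      rw [Subgroup.map_commutator] at h3
      exact Subgroup.commutator_mono h2 h2 h3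
    · refine ⟨?_, ?_⟩
      · rw [hPmem]
        refine ⟨le_sup_left (a := (Subgroup.pi Set.univ (fun _ : Fin m => S)).map base) ?_, ?_⟩
        · rw [map_mul]
          exact Subgroup.mul_mem _ (single_mem_B i _ hphS) (single_mem_B j _ hphS)
        · rw [map_mul, map_mul, hθ, hθ, hθph2]
      · rw [← map_pow, pair_sq, map_one]
        exact Subgroup.one_mem _
    · refine ⟨?_, ?_⟩
      · rw [hPmem]
        exact ⟨le_sup_right (b := T.map top) ⟨σ, hσ, rfl⟩, htop σ hσ⟩
      · rw [← map_pow, hσ2, map_one]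
        exact Subgroup.one_mem _
  have hmapY' : (Subgroup.closure Y').map base ≤ Subgroup.closure Y := by
    rw [MonoidHom.map_closure]
    apply Subgroup.closure_mono
    exact Set.subset_union_left
  have hpi : Subgroup.pi Set.univ (fun _ : Fin m => S) ≤
      Subgroup.closure ({x | ∃ i, ∃ d ∈ S ⊓ θ.ker, x = Pi.mulSingle i d} ∪
        {x | ∃ i : Fin m, x = Pi.mulSingle i ph}) := by
    rw [Subgroup.pi_le_iff]
    intro i
    rintro _ ⟨s, hs, rfl⟩
    by_cases h : θ s = 1
    · apply Subgroup.subset_closure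
      left
      exact ⟨i, s, (hDmem s).mpr ⟨hs, h⟩, rfl⟩
    · have e : s = (s * ph) * ph := by rw [mul_assoc, hph2, mul_one]
      have hsph : s * ph ∈ S ⊓ θ.ker := by
        rw [hDmem]
        exact ⟨S.mul_mem hs hphS, hphθ s hs h⟩
      show (Pi.mulSingle i s : Fin m → L) ∈ Subgroup.closure _
      rw [e, Pi.mulSingle_mul]
      apply Subgroup.mul_mem
      · apply Subgroup.subset_closure
        left
        exact ⟨i, s * ph, hsph, rfl⟩
      · apply Subgroup.subset_closure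
        right
        exact ⟨i, rfl⟩
  have hB : (Subgroup.pi Set.univ (fun _ : Fin m => S)).map base ⊓ δ.ker ≤
      Subgroup.closure Y := by
    rintro _ ⟨⟨A, hA, rfl⟩, hAk⟩
    have hAk' : δ (base A) = 1 := hAk
    have htt := single_sq ⟨0, hm⟩
    have hsch := schreier_two {x | ∃ i, ∃ d ∈ S ⊓ θ.ker, x = Pi.mulSingle i d}
      {x | ∃ i : Fin m, x = Pi.mulSingle i ph}
      (Pi.mulSingle (M := fun _ : Fin m => L) ⟨0, hm⟩ ph) htt
      (Subgroup.closure Y')
      (fun x hx => Subgroup.subset_closure (Or.inl hx))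
      (by
        rintro _ ⟨i, d, hd, rfl⟩
        by_cases hi : i = ⟨0, hm⟩
        · subst hi
          rw [← Pi.mulSingle_mul, ← Pi.mulSingle_mul]
          apply Subgroup.subset_closure
          left
          refine ⟨_, ph * d * ph, ?_, rfl⟩
          have hd' := (hDmem d).mp hd
          rw [hDmem]
          refine ⟨S.mul_mem (S.mul_mem hphS hd'.1) hphS, ?_⟩
          rw [map_mul, map_mul, hd'.2, mul_one, hθph2]
        · have hc' : Commute (Pi.mulSingle (M := fun _ : Fin m => L) ⟨0, hm⟩ ph)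
              (Pi.mulSingle i d) :=
            Pi.mulSingle_commute (f := fun _ : Fin m => L) (Ne.symm hi) ph d
          rw [hc'.eq, mul_assoc, htt, mul_one]
          apply Subgroup.subset_closure
          left
          exact ⟨i, d, hd, rfl⟩)
      (by
        rintro _ ⟨i, rfl⟩
        apply Subgroup.subset_closure
        right
        exact ⟨i, ⟨0, hm⟩, rfl⟩)
      (by
        rintro _ ⟨i, rfl⟩
        apply Subgroup.subset_closure
        right
        exact ⟨⟨0, hm⟩, i, rfl⟩)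
    rcases hsch A (hpi hA) with h | h
    · exact hmapY' ⟨A, h, rfl⟩
    · have h1 := hδY' _ h
      rw [map_mul, map_mul, hAk', one_mul, hθ] at h1
      have hphD : ph ∈ S ⊓ θ.ker := (hDmem ph).mpr ⟨hphS, h1⟩
      have ht : (Pi.mulSingle (M := fun _ : Fin m => L) ⟨0, hm⟩ ph) ∈ Subgroup.closure Y' := by
        apply Subgroup.subset_closure
        left
        exact ⟨_, ph, hphD, rfl⟩
      have hA' : A ∈ Subgroup.closure Y' := by
        have e : A = (A * Pi.mulSingle ⟨0, hm⟩ ph) * Pi.mulSingle ⟨0, hm⟩ ph := by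
          rw [mul_assoc, htt, mul_one]
        rw [e]
        exact Subgroup.mul_mem _ h ht
      exact hmapY' ⟨A, hA', rfl⟩
  have hTY : ∀ σ ∈ T, σ ^ 2 = 1 →
      ∃ b ∈ (Subgroup.pi Set.univ (fun _ : Fin m => S)).map base,
        b * top σ ∈ Subgroup.closure Y := by
    intro σ hσ hσ2
    refine ⟨1, Subgroup.one_mem _, ?_⟩
    rw [one_mul]
    apply Subgroup.subset_closure
    right
    exact ⟨σ, hσ, hσ2, rfl⟩
  exact wreath_ker_genSq' (p := 2) base top hconj hbinj htinj hinf δ c S a hScard T t hTcard hTgen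
    hc P hP Y hYgood hB hTY

end Cfsg.Agent.Lib.Helper5.SymSyl
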