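import Mathlib
import Cfsg.Agent.Lib.Helper5.GLSylG

set_option autoImplicit false

namespace Cfsg.Agent.Lib.Helper5.SymSyl

open scoped commutatorElement MatrixGroups Nat

section CaseA

variable {F : Type*} [Field F] (m : ℕ)

theorem det_baseGL (A : Fin m → GL (Fin 2) F) :
    Matrix.GeneralLinearGroup.det (baseGL m A) = ∏ i, Matrix.GeneralLinearGroup.det (A i) := by
  apply Units.ext
  rw [Matrix.GeneralLinearGroup.val_det_apply, baseGL_coe, Matrix.det_blockDiagonal,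
    Units.coe_prod]
  rfl

theorem det_baseGL_mulSingle (i : Fin m) (x : GL (Fin 2) F) :
    Matrix.GeneralLinearGroup.det (baseGL m (Pi.mulSingle i x)) =
      Matrix.GeneralLinearGroup.det x := by
  rw [det_baseGL, Finset.prod_eq_single i]
  · rw [Pi.mulSingle_eq_same]
  · intro j _ hj
    rw [Pi.mulSingle_eq_of_ne hj, map_one]
  · intro h; exact absurd (Finset.mem_univ i) h

theorem det_topGL (σ : Equiv.Perm (Fin m)) :
    Matrix.GeneralLinearGroup.det (topGL (F := F) m σ) = 1 := by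
  apply Units.ext
  rw [Matrix.GeneralLinearGroup.val_det_apply, topGL_coe, Matrix.det_permutation,
    Equiv.Perm.sign_inv]
  have h1 : Equiv.Perm.sign (liftPerm m σ) = 1 := by
    show Equiv.Perm.sign (Equiv.prodCongrRight (fun _ : Fin 2 => σ)) = 1
    rw [Equiv.Perm.sign_prodCongrRight]
    simp only [Finset.prod_const, Finset.card_univ, Fintype.card_fin]
    exact Int.units_sq _
  rw [h1]
  simp

theorem neg_one_ne_one_units [Fintype F] (hF : Odd (Fintype.card F)) : (-1 : Fˣ) ≠ 1 := by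
  intro h
  have h1 : (-1 : F) = 1 := by
    have := congrArg Units.val h
    simpa using this
  have h2 : ringChar F = 2 := by
    by_contra hne
    exact Ring.neg_one_ne_one_of_char_ne_two hne h1
  have h3 := FiniteField.even_card_of_char_two h2
  rw [Nat.odd_iff] at hF
  omega

theorem card_two_subgroup_units_le [Fintype F] (hq : 4 ∣ Fintype.card F + 1) (Q : Subgroup Fˣ)
    (hQ : IsPGroup 2 Q) : Nat.card Q ≤ 2 ^ 1 := by
  classical
  haveI : Fact (Nat.Prime 2) := ⟨Nat.prime_two⟩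
  obtain ⟨k, hk⟩ := IsPGroup.iff_card.mp hQ
  have h1 : Nat.card Q ∣ Fintype.card F - 1 := by
    rw [← Fintype.card_units, ← Nat.card_eq_fintype_card]
    exact Subgroup.card_subgroup_dvd_card Q
  have hq1 : 1 < Fintype.card F := Fintype.one_lt_card
  rw [hk] at h1 ⊢
  have := (padicValNat_dvd_iff_le (p := 2) (by omega)).mp h1
  rw [v2_sub_one hq] at this
  exact Nat.pow_le_pow_right (by norm_num) this


def detGL (n : Type*) [Fintype n] [DecidableEq n] (F : Type*) [Field F] : GL n F →* Fˣ :=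
  Matrix.GeneralLinearGroup.det

noncomputable def BA (S : Subgroup (GL (Fin 2) F)) : Subgroup (GL (Fin 2 × Fin m) F) :=
  (Subgroup.pi Set.univ (fun _ : Fin m => S)).map (baseGL m)

noncomputable def PA (S : Subgroup (GL (Fin 2) F)) (T : Subgroup (Equiv.Perm (Fin m))) :
    Subgroup (GL (Fin 2 × Fin m) F) :=
  (BA m S ⊔ T.map (topGL m)) ⊓ (detGL (Fin 2 × Fin m) F).ker

def DA (S : Subgroup (GL (Fin 2) F)) : Subgroup (GL (Fin 2) F) :=
  S ⊓ (detGL (Fin 2) F).ker

noncomputable def YA [Fintype F] (S : Subgroup (GL (Fin 2) F)) (T : Subgroup (Equiv.Perm (Fin m))) :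
    Set (GL (Fin 2 × Fin m) F) :=
  {x | ∃ i, ∃ d ∈ DA S, x = baseGL m (Pi.mulSingle i d)} ∪
    {x | ∃ i j, x = baseGL m (Pi.mulSingle i phiGL * Pi.mulSingle j phiGL)} ∪
    {x | ∃ σ ∈ T, σ ^ 2 = 1 ∧ x = topGL m σ}

theorem mem_DA (S : Subgroup (GL (Fin 2) F)) (d : GL (Fin 2) F) :
    d ∈ DA S ↔ d ∈ S ∧ Matrix.GeneralLinearGroup.det d = 1 := by
  unfold DA detGL
  rw [Subgroup.mem_inf, MonoidHom.mem_ker]

theorem mem_PA (S : Subgroup (GL (Fin 2) F)) (T : Subgroup (Equiv.Perm (Fin m)))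
    (x : GL (Fin 2 × Fin m) F) :
    x ∈ PA m S T ↔ x ∈ BA m S ⊔ T.map (topGL m) ∧ Matrix.GeneralLinearGroup.det x = 1 := by
  unfold PA detGL
  rw [Subgroup.mem_inf, MonoidHom.mem_ker]

theorem single_mem_BA (S : Subgroup (GL (Fin 2) F)) (i : Fin m) (s : GL (Fin 2) F) (hs : s ∈ S) :
    baseGL m (Pi.mulSingle i s) ∈ BA m S :=
  ⟨_, (Subgroup.mulSingle_mem_pi i s).mpr (fun _ => hs), rfl⟩

theorem single_mem_PA (S : Subgroup (GL (Fin 2) F)) (T : Subgroup (Equiv.Perm (Fin m)))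
    (i : Fin m) (d : GL (Fin 2) F) (hd : d ∈ DA S) :
    baseGL m (Pi.mulSingle i d) ∈ PA m S T := by
  rw [mem_PA]
  rw [mem_DA] at hd
  exact ⟨(le_sup_left : BA m S ≤ _) (single_mem_BA m S i d hd.1),
    by rw [det_baseGL_mulSingle]; exact hd.2⟩

theorem single_ph_commute [Fintype F] (i j : Fin m) :
    Commute (Pi.mulSingle (M := fun _ : Fin m => GL (Fin 2) F) i phiGL)
      (Pi.mulSingle j phiGL) := by
  by_cases hij : i = j
  · subst hij; exact Commute.refl _
  · exact Pi.mulSingle_commute (f := fun _ : Fin m => GL (Fin 2) F) hij phiGL phiGL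

theorem single_ph_sq [Fintype F] (i : Fin m) :
    (Pi.mulSingle (M := fun _ : Fin m => GL (Fin 2) F) i phiGL) ^ 2 = 1 := by
  rw [← Pi.mulSingle_pow, pow_two, phiGL_sq, Pi.mulSingle_one]

theorem pair_ph_sq [Fintype F] (i j : Fin m) :
    (Pi.mulSingle (M := fun _ : Fin m => GL (Fin 2) F) i phiGL * Pi.mulSingle j phiGL) ^ 2 = 1 := by
  rw [(single_ph_commute m i j).mul_pow, single_ph_sq, single_ph_sq, one_mul]

theorem det_pair_ph [Fintype F] (i j : Fin m) :
    Matrix.GeneralLinearGroup.det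
      (baseGL (F := F) m (Pi.mulSingle i phiGL * Pi.mulSingle j phiGL)) = 1 := by
  rw [map_mul, map_mul, det_baseGL_mulSingle, det_baseGL_mulSingle, det_phiGL, neg_mul_neg,
    one_mul]

theorem YA_good [Fintype F] (S : Subgroup (GL (Fin 2) F)) (T : Subgroup (Equiv.Perm (Fin m)))
    (hphS : (phiGL : GL (Fin 2) F) ∈ S)
    (hsq : ∀ s ∈ S, Matrix.GeneralLinearGroup.det s = 1 → s ^ 2 ∈ ⁅DA S, DA S⁆) :
    ∀ y ∈ YA m S T, y ∈ PA m S T ∧ y ^ 2 ∈ ⁅PA m S T, PA m S T⁆ := by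
  rintro y ((⟨i, d, hd, rfl⟩ | ⟨i, j, rfl⟩) | ⟨σ, hσ, hσ2, rfl⟩)
  · refine ⟨single_mem_PA m S T i d hd, ?_⟩
    have h1 : (baseGL m (Pi.mulSingle i d)) ^ 2 =
        ((baseGL m).comp (MonoidHom.mulSingle _ i)) (d ^ 2) := by
      rw [map_pow]; rfl
    rw [h1]
    have h2 : (DA S).map ((baseGL m).comp (MonoidHom.mulSingle _ i)) ≤ PA m S T := by
      rintro _ ⟨d', hd', rfl⟩
      exact single_mem_PA m S T i d' hd'
    have hd' := (mem_DA S d).mp hd
    have h3 := Subgroup.mem_map_of_mem ((baseGL m).comp (MonoidHom.mulSingle _ i))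
      (hsq d hd'.1 hd'.2)
    rw [Subgroup.map_commutator] at h3
    exact Subgroup.commutator_mono h2 h2 h3
  · refine ⟨?_, ?_⟩
    · rw [mem_PA]
      refine ⟨(le_sup_left : BA m S ≤ _) ?_, det_pair_ph m i j⟩
      rw [map_mul]
      exact (BA m S).mul_mem (single_mem_BA m S i _ hphS) (single_mem_BA m S j _ hphS)
    · rw [← map_pow, pair_ph_sq, map_one]
      exact Subgroup.one_mem _
  · refine ⟨?_, ?_⟩
    · rw [mem_PA]
      exact ⟨(le_sup_right : T.map (topGL m) ≤ _) ⟨σ, hσ, rfl⟩, det_topGL m σ⟩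
    · rw [← map_pow, hσ2, map_one]
      exact Subgroup.one_mem _

end CaseA

end Cfsg.Agent.Lib.Helper5.SymSyl
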