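import Mathlib
import Cfsg.Agent.Lib.Helper5.OSylA

set_option autoImplicit false

namespace Cfsg.Agent.Lib.Helper5.OSyl

open Cfsg Matrix Cfsg.Agent.Lib.Lead

open scoped MatrixGroups

section General

variable {ι : Type} [Fintype ι] [DecidableEq ι] {F : Type*} [Field F]

noncomputable def permGL (ι : Type) [Fintype ι] [DecidableEq ι] (F : Type*) [Field F] :
    Equiv.Perm ι →* GL ι F :=
  (Matrix.permMatrixHom (n := ι) (R := F)).toHomUnits

theorem permGL_coe (σ : Equiv.Perm ι) :
    ((permGL ι F σ : GL ι F) : Matrix ι ι F) = (σ⁻¹).permMatrix F := rfl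

theorem permGL_mem (σ : Equiv.Perm ι) : permGL ι F σ ∈ Cfsg.isometryGroup F (sqForm ι F) := by
  rw [RI.mem_iso_iff']
  intro x
  rw [permGL_coe, Matrix.permMatrix_mulVec]
  unfold sqForm
  exact Equiv.sum_comp (σ⁻¹) (fun k => x k * x k)

noncomputable def permO (ι : Type) [Fintype ι] [DecidableEq ι] (F : Type*) [Field F] :
    Equiv.Perm ι →* ↥(Cfsg.isometryGroup F (sqForm ι F)) :=
  (permGL ι F).codRestrict _ permGL_mem

theorem permO_coe (σ : Equiv.Perm ι) : ((permO ι F σ : ↥(Cfsg.isometryGroup F (sqForm ι F))) :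
    GL ι F) = permGL ι F σ := rfl

def negMat (F : Type*) [Field F] (k : ι) : Matrix ι ι F :=
  Matrix.diagonal (fun j => if j = k then -1 else 1)

theorem negMat_mul_self (k : ι) : negMat F k * negMat F k = 1 := by
  unfold negMat
  rw [Matrix.diagonal_mul_diagonal, ← Matrix.diagonal_one]
  congr 1
  funext j
  split_ifs <;> simp

def negGL (F : Type*) [Field F] (k : ι) : GL ι F :=
  ⟨negMat F k, negMat F k, negMat_mul_self k, negMat_mul_self k⟩

theorem negGL_coe (k : ι) : ((negGL F k : GL ι F) : Matrix ι ι F) = negMat F k := rfl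

theorem negGL_mem (k : ι) : negGL F k ∈ Cfsg.isometryGroup F (sqForm ι F) := by
  apply mem_iso_sq_of_orth
  rw [negGL_coe]
  have : (negMat F k)ᵀ = negMat F k := by
    unfold negMat
    rw [Matrix.diagonal_transpose]
  rw [this, negMat_mul_self]

def negO (F : Type*) [Field F] (k : ι) : ↥(Cfsg.isometryGroup F (sqForm ι F)) :=
  ⟨negGL F k, negGL_mem k⟩

theorem negO_mul_self (k : ι) : negO F k * negO F k = 1 := by
  apply Subtype.ext
  apply Units.ext
  exact negMat_mul_self k

theorem det_negGL (k : ι) : Matrix.GeneralLinearGroup.det (negGL F k) = -1 := by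
  apply Units.ext
  rw [Matrix.GeneralLinearGroup.val_det_apply, negGL_coe]
  unfold negMat
  rw [Matrix.det_diagonal, Finset.prod_ite_eq' Finset.univ k]
  simp

theorem permO_mul_negO (σ : Equiv.Perm ι) (k : ι) :
    permO ι F σ * negO F k = negO F (σ k) * permO ι F σ := by
  apply Subtype.ext
  apply Units.ext
  show (σ⁻¹).permMatrix F * negMat F k = negMat F (σ k) * (σ⁻¹).permMatrix F
  rw [PEquiv.toMatrix_toPEquiv_mul, PEquiv.mul_toMatrix_toPEquiv]
  ext i j
  unfold negMat
  simp only [Matrix.submatrix_apply, id, Matrix.diagonal_apply]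
  have h2 : (σ⁻¹).symm j = σ j := by
    rw [← Equiv.Perm.inv_def, inv_inv]
  rw [h2]
  by_cases h : σ⁻¹ i = j
  · have h' : i = σ j := by rw [← h]; simp
    rw [if_pos h, if_pos h']
    subst h'
    simp
  · have h' : ¬ i = σ j := by
      intro h''
      apply h
      rw [h'']; simp
    rw [if_neg h, if_neg h']

theorem delta_negO_pair {C : Type*} [CommGroup C]
    (δ : ↥(Cfsg.isometryGroup F (sqForm ι F)) →* C) (k k' : ι) :
    δ (negO F k * negO F k') = 1 := by
  have h1 : negO F k' = permO ι F (Equiv.swap k k') * negO F k * (permO ι F (Equiv.swap k k'))⁻¹ := by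
    rw [permO_mul_negO, Equiv.swap_apply_left, mul_inv_cancel_right]
  have h2 : δ (negO F k') = δ (negO F k) := by
    rw [h1, map_mul, map_mul, map_inv, mul_comm (δ _) (δ (negO F k)), mul_inv_cancel_right]
  rw [map_mul, h2, ← map_mul, negO_mul_self, map_one]

theorem delta_swap_pair {α : Type*} [DecidableEq α] {C : Type*} [CommGroup C]
    (f : Equiv.Perm α →* C) (x y x' y' : α) (hxy : x ≠ y) (hxy' : x' ≠ y') :
    f (Equiv.swap x y * Equiv.swap x' y') = 1 := by
  obtain ⟨c, hc⟩ := isConj_iff.mp (Equiv.Perm.isConj_swap hxy hxy')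
  have h1 : f (Equiv.swap x' y') = f (Equiv.swap x y) := by
    rw [← hc, map_mul, map_mul, map_inv, mul_comm (f c), mul_inv_cancel_right]
  rw [map_mul, h1, ← map_mul, Equiv.swap_mul_self, map_one]

end General

end Cfsg.Agent.Lib.Helper5.OSyl
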