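import Mathlib
import Cfsg.Agent.Lib.Helper5.OSylB
import Cfsg.Agent.Lib.Helper5.OSylE
import Cfsg.Agent.Lib.Helper5.GLSylC
import Cfsg.Agent.Lib.Helper5.GLSylH

set_option autoImplicit false

namespace Cfsg.Agent.Lib.Helper5.OSyl

open Cfsg Matrix Cfsg.Agent.Lib.Lead Cfsg.Agent.Lib.Helper5.SymSyl

open scoped MatrixGroups

variable {F : Type*} [Field F] (m : ℕ)

abbrev Kap (m : ℕ) : Type := (Fin 2 × Fin m) ⊕ Unit

abbrev GO (m : ℕ) (F : Type*) [Field F] : Type _ :=
  ↥(Cfsg.isometryGroup F (sqForm (Kap m) F))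

noncomputable def EGL (F : Type*) [Field F] (m : ℕ) : GL (Fin 2 × Fin m) F →* GL (Kap m) F :=
  (Matrix.SpecialLinearGroup.toGL).comp (embSL (F := F) (Equiv.refl (Kap m)))

theorem EGL_coe (g : GL (Fin 2 × Fin m) F) :
    ((EGL F m g : GL (Kap m) F) : Matrix (Kap m) (Kap m) F) =
      Matrix.fromBlocks (g : Matrix (Fin 2 × Fin m) (Fin 2 × Fin m) F) 0 0
        (Matrix.of fun _ _ => (((Matrix.GeneralLinearGroup.det g)⁻¹ : Fˣ) : F)) := by
  show embMat (Equiv.refl (Kap m)) g = _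
  unfold embMat
  rw [Matrix.reindex_apply]
  rfl

theorem EGL_injective : Function.Injective (EGL F m) :=
  Matrix.SpecialLinearGroup.toGL_injective.comp (embSL_injective _)

theorem det_EGL (g : GL (Fin 2 × Fin m) F) : Matrix.GeneralLinearGroup.det (EGL F m g) = 1 := by
  apply Units.ext
  rw [Matrix.GeneralLinearGroup.val_det_apply]
  exact (embSL (F := F) (Equiv.refl (Kap m)) g).2

theorem EGL_orth (g : GL (Fin 2 × Fin m) F)
    (h : (g : Matrix (Fin 2 × Fin m) (Fin 2 × Fin m) F)ᵀ *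
      (g : Matrix (Fin 2 × Fin m) (Fin 2 × Fin m) F) = 1) :
    ((EGL F m g : GL (Kap m) F) : Matrix (Kap m) (Kap m) F)ᵀ *
      ((EGL F m g : GL (Kap m) F) : Matrix (Kap m) (Kap m) F) = 1 := by
  have hdet : ((Matrix.GeneralLinearGroup.det g : Fˣ) : F) *
      ((Matrix.GeneralLinearGroup.det g : Fˣ) : F) = 1 := by
    have := congrArg Matrix.det h
    rw [Matrix.det_mul, Matrix.det_transpose, Matrix.det_one] at this
    exact this
  have hdet' : (((Matrix.GeneralLinearGroup.det g)⁻¹ : Fˣ) : F) *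
      (((Matrix.GeneralLinearGroup.det g)⁻¹ : Fˣ) : F) = 1 := by
    rw [← Units.val_mul, ← mul_inv, Units.val_inv_eq_inv_val, Units.val_mul, hdet, inv_one]
  rw [EGL_coe, Matrix.fromBlocks_transpose, Matrix.fromBlocks_multiply]
  simp only [Matrix.transpose_zero, Matrix.zero_mul, Matrix.mul_zero, add_zero, zero_add, h]
  rw [← Matrix.fromBlocks_one]
  congr 1
  ext i j
  rw [Matrix.mul_apply, Finset.univ_unique, Finset.sum_singleton, Matrix.transpose_apply,
    Matrix.of_apply, hdet', Matrix.one_apply, if_pos (Subsingleton.elim i j)]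

theorem baseGL_orth (A : Fin m → GL (Fin 2) F)
    (hA : ∀ i, (A i : Matrix (Fin 2) (Fin 2) F)ᵀ * (A i : Matrix (Fin 2) (Fin 2) F) = 1) :
    ((baseGL m A : GL (Fin 2 × Fin m) F) : Matrix (Fin 2 × Fin m) (Fin 2 × Fin m) F)ᵀ *
      ((baseGL m A : GL (Fin 2 × Fin m) F) : Matrix (Fin 2 × Fin m) (Fin 2 × Fin m) F) = 1 := by
  rw [baseGL_coe, Matrix.blockDiagonal_transpose, ← Matrix.blockDiagonal_mul,
    ← Matrix.blockDiagonal_one]
  congr 1
  funext i
  exact hA i

theorem permGL_orth {ι : Type} [Fintype ι] [DecidableEq ι] (σ : Equiv.Perm ι) :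
    ((permGL ι F σ : GL ι F) : Matrix ι ι F)ᵀ * ((permGL ι F σ : GL ι F) : Matrix ι ι F) = 1 := by
  rw [permGL_coe, Matrix.transpose_permMatrix, ← Matrix.permMatrix_mul, inv_inv,
    inv_mul_cancel, Matrix.permMatrix_one]

def subPi (F : Type*) [Field F] (m : ℕ) : (Fin m → ↥(O2 F)) →* (Fin m → GL (Fin 2) F) where
  toFun A i := (A i).1
  map_one' := rfl
  map_mul' _ _ := rfl

theorem subPi_injective : Function.Injective (subPi F m) := by
  intro A B h
  funext i
  exact Subtype.ext (congrFun h i)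

noncomputable def baseO (h2 : (2 : F) ≠ 0) (m : ℕ) : (Fin m → ↥(O2 F)) →* GO m F :=
  ((EGL F m).comp ((baseGL m).comp (subPi F m))).codRestrict _ (fun A =>
    mem_iso_sq_of_orth _ (EGL_orth m _ (baseGL_orth m _
      (fun i => orth_of_mem_iso h2 _ (A i).2))))

noncomputable def permE (F : Type*) [Field F] (m : ℕ) : Equiv.Perm (Fin 2 × Fin m) →* GO m F :=
  ((EGL F m).comp (permGL (Fin 2 × Fin m) F)).codRestrict _ (fun σ =>
    mem_iso_sq_of_orth _ (EGL_orth m _ (permGL_orth σ)))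

noncomputable def topO (F : Type*) [Field F] (m : ℕ) : Equiv.Perm (Fin m) →* GO m F :=
  (permE F m).comp (liftPerm m)

theorem baseO_coe (h2 : (2 : F) ≠ 0) (A : Fin m → ↥(O2 F)) :
    ((baseO h2 m A : GO m F) : GL (Kap m) F) = EGL F m (baseGL m (subPi F m A)) := rfl

theorem topO_coe (σ : Equiv.Perm (Fin m)) :
    ((topO F m σ : GO m F) : GL (Kap m) F) = EGL F m (topGL m σ) := by
  show EGL F m (permGL (Fin 2 × Fin m) F (liftPerm m σ)) = EGL F m (topGL m σ)
  congr 1

theorem topO_mul_baseO (h2 : (2 : F) ≠ 0) (σ : Equiv.Perm (Fin m)) (A : Fin m → ↥(O2 F)) :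
    topO F m σ * baseO h2 m A * (topO F m σ)⁻¹ = baseO h2 m (fun i => A (σ⁻¹ i)) := by
  apply Subtype.ext
  show ((topO F m σ : GO m F) : GL (Kap m) F) * ((baseO h2 m A : GO m F) : GL (Kap m) F) *
    ((topO F m σ : GO m F) : GL (Kap m) F)⁻¹ = _
  rw [topO_coe, baseO_coe, baseO_coe, ← map_inv, ← map_mul, ← map_mul, topGL_mul_baseGL]
  rfl

theorem baseO_injective (h2 : (2 : F) ≠ 0) : Function.Injective (baseO h2 m) := by
  intro A B h
  have h1 := congrArg Subtype.val h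
  rw [baseO_coe, baseO_coe] at h1
  exact subPi_injective m (baseGL_injective m (EGL_injective m h1))

theorem topO_injective : Function.Injective (topO F m) := by
  intro σ τ h
  have h1 := congrArg Subtype.val h
  rw [topO_coe, topO_coe] at h1
  exact topGL_injective m (EGL_injective m h1)

theorem baseO_inf_topO (h2 : (2 : F) ≠ 0) : (baseO h2 m).range ⊓ (topO F m).range = ⊥ := by
  rw [eq_bot_iff]
  rintro x ⟨⟨A, rfl⟩, ⟨σ, hσ⟩⟩
  rw [Subgroup.mem_bot]
  have h0 := congrArg Subtype.val hσ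
  rw [topO_coe, baseO_coe] at h0
  have h1 : topGL (F := F) m σ = baseGL m (subPi F m A) := EGL_injective m h0
  have h3 : baseGL (F := F) m (subPi F m A) ∈ (baseGL (F := F) m).range ⊓ (topGL m).range :=
    ⟨⟨_, rfl⟩, ⟨σ, h1⟩⟩
  rw [baseGL_inf_topGL, Subgroup.mem_bot] at h3
  apply Subtype.ext
  rw [baseO_coe, h3, map_one]
  rfl

end Cfsg.Agent.Lib.Helper5.OSyl
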