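import Mathlib
import Cfsg.Agent.Lib.Helper5.OSylF

set_option autoImplicit false

namespace Cfsg.Agent.Lib.Helper5.OSyl

open Cfsg Matrix Cfsg.Agent.Lib.Lead Cfsg.Agent.Lib.Helper5.SymSyl

open scoped MatrixGroups

variable {F : Type*} [Field F] (m : ℕ)

theorem liftPerm_swap (a b : Fin m) :
    liftPerm m (Equiv.swap a b) = Equiv.swap ((0 : Fin 2), a) (0, b) * Equiv.swap ((1 : Fin 2), a) (1, b) := by
  ext ⟨c, k⟩ : 1
  rw [liftPerm_apply, Equiv.Perm.mul_apply]
  fin_cases c
  · have h1 : Equiv.swap ((1 : Fin 2), a) (1, b) ((0 : Fin 2), k) = (0, k) := by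
      apply Equiv.swap_apply_of_ne_of_ne <;> simp
    simp only [Fin.zero_eta, Fin.isValue]
    rw [h1]
    by_cases hka : k = a
    · subst hka
      rw [Equiv.swap_apply_left, Equiv.swap_apply_left]
    · by_cases hkb : k = b
      · subst hkb
        rw [Equiv.swap_apply_right, Equiv.swap_apply_right]
      · rw [Equiv.swap_apply_of_ne_of_ne hka hkb, Equiv.swap_apply_of_ne_of_ne]
        · simp [hka]
        · simp [hkb]
  · simp only [Fin.mk_one, Fin.isValue]
    by_cases hka : k = a
    · subst hka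
      rw [Equiv.swap_apply_left, Equiv.swap_apply_left]
      rw [Equiv.swap_apply_of_ne_of_ne] <;> simp
    · by_cases hkb : k = b
      · subst hkb
        rw [Equiv.swap_apply_right, Equiv.swap_apply_right]
        rw [Equiv.swap_apply_of_ne_of_ne] <;> simp
      · rw [Equiv.swap_apply_of_ne_of_ne hka hkb,
          Equiv.swap_apply_of_ne_of_ne (a := ((1 : Fin 2), a)) (b := (1, b)) (x := (1, k))
            (by simp [hka]) (by simp [hkb])]
        rw [Equiv.swap_apply_of_ne_of_ne] <;> simp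

theorem delta_topO {C : Type*} [CommGroup C] (δ : GO m F →* C) (σ : Equiv.Perm (Fin m)) :
    δ (topO F m σ) = 1 := by
  induction σ using Equiv.Perm.swap_induction_on with
  | one => rw [map_one, map_one]
  | swap_mul f x y hxy ih =>
    rw [map_mul, map_mul, ih, mul_one]
    show (δ.comp (permE F m)) (liftPerm m (Equiv.swap x y)) = 1
    rw [liftPerm_swap]
    apply delta_swap_pair
    · simp [hxy]
    · simp [hxy]

noncomputable def phiO (F : Type*) [Field F] [Fintype F] : ↥(O2 F) := ⟨phiGL, phiGL_mem_O2⟩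

theorem single_val_eq_diag [Fintype F] (i j : Fin m) :
    (((Pi.mulSingle (M := fun _ : Fin m => GL (Fin 2) F) i phiGL) j : GL (Fin 2) F) :
      Matrix (Fin 2) (Fin 2) F) =
      Matrix.diagonal (fun a : Fin 2 => if (a, j) = ((1 : Fin 2), i) then (-1 : F) else 1) := by
  by_cases hji : j = i
  · subst hji
    rw [Pi.mulSingle_eq_same, phiGL_coe]
    ext a b
    fin_cases a <;> fin_cases b <;> simp
  · rw [Pi.mulSingle_eq_of_ne hji, Units.val_one, ← Matrix.diagonal_one]
    congr 1
    funext a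
    rw [if_neg]
    intro h
    exact hji (Prod.mk.inj h).2

theorem baseO_single_phi [Fintype F] (h2 : (2 : F) ≠ 0) (i : Fin m) :
    baseO h2 m (Pi.mulSingle i (phiO F)) =
      negO F (Sum.inl ((1 : Fin 2), i)) * negO F (Sum.inr ()) := by
  apply Subtype.ext
  apply Units.ext
  have hsub : subPi F m (Pi.mulSingle i (phiO F)) = Pi.mulSingle i phiGL := by
    funext j
    by_cases hji : j = i
    · subst hji
      show ((Pi.mulSingle (M := fun _ : Fin m => ↥(O2 F)) j (phiO F)) j).1 = _
      rw [Pi.mulSingle_eq_same, Pi.mulSingle_eq_same]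
      rfl
    · show ((Pi.mulSingle (M := fun _ : Fin m => ↥(O2 F)) i (phiO F)) j).1 = _
      rw [Pi.mulSingle_eq_of_ne hji, Pi.mulSingle_eq_of_ne hji]
      rfl
  show ((EGL F m (baseGL m (subPi F m (Pi.mulSingle i (phiO F)))) : GL (Kap m) F) :
    Matrix (Kap m) (Kap m) F) = negMat F (Sum.inl ((1 : Fin 2), i)) * negMat F (Sum.inr ())
  rw [hsub, EGL_coe, det_baseGL_mulSingle, det_phiGL, baseGL_coe]
  unfold negMat
  rw [Matrix.diagonal_mul_diagonal]
  have h1 : (fun j : Fin m => (((Pi.mulSingle (M := fun _ : Fin m => GL (Fin 2) F) i phiGL) j :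
      GL (Fin 2) F) : Matrix (Fin 2) (Fin 2) F)) = fun j =>
      Matrix.diagonal (fun a : Fin 2 => if (a, j) = ((1 : Fin 2), i) then (-1 : F) else 1) := by
    funext j
    exact single_val_eq_diag m i j
  rw [h1, Matrix.blockDiagonal_diagonal]
  have h3 : (Matrix.of fun _ _ : Unit => (((-1 : Fˣ)⁻¹ : Fˣ) : F)) =
      Matrix.diagonal (fun _ : Unit => (-1 : F)) := by
    ext a b
    simp
  rw [h3, Matrix.fromBlocks_diagonal]
  congr 1
  funext k
  rcases k with ⟨a, j⟩ | u
  · simp
  · simp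

theorem delta_baseO_phi [Fintype F] (h2 : (2 : F) ≠ 0) {C : Type*} [CommGroup C]
    (δ : GO m F →* C) (i : Fin m) :
    δ (baseO h2 m (Pi.mulSingle i (phiO F))) = 1 := by
  rw [baseO_single_phi]
  exact delta_negO_pair δ _ _

theorem delta_baseO_single (h2 : (2 : F) ≠ 0) {C : Type*} [CommGroup C]
    (δ : GO m F →* C) (i j : Fin m) (x : ↥(O2 F)) :
    δ (baseO h2 m (Pi.mulSingle i x)) = δ (baseO h2 m (Pi.mulSingle j x)) := by
  have h1 := topO_mul_baseO m h2 (Equiv.swap i j) (Pi.mulSingle i x)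
  have h3 : (fun k => (Pi.mulSingle (M := fun _ : Fin m => ↥(O2 F)) i x) ((Equiv.swap i j)⁻¹ k)) =
      Pi.mulSingle j x := by
    funext k
    rw [Equiv.swap_inv]
    by_cases hkj : k = j
    · subst hkj
      rw [Equiv.swap_apply_right, Pi.mulSingle_eq_same, Pi.mulSingle_eq_same]
    · rw [Pi.mulSingle_eq_of_ne hkj, Pi.mulSingle_eq_of_ne]
      intro h
      apply hkj
      have := congrArg (Equiv.swap i j) h
      rwa [Equiv.swap_apply_self, Equiv.swap_apply_left] at this
  rw [h3] at h1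
  rw [← h1, map_mul, map_mul, map_inv, mul_comm (δ (topO F m _)), mul_inv_cancel_right]

end Cfsg.Agent.Lib.Helper5.OSyl
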