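import Mathlib
import Cfsg.Agent.Lib.Helper5.OSylG
import Cfsg.Agent.Lib.Helper5.OSylC
import Cfsg.Agent.Lib.Helper5.OSylD
import Cfsg.Agent.Lib.Helper5.SymSylD

set_option autoImplicit false

namespace Cfsg.Agent.Lib.Helper5.OSyl

open Cfsg Matrix Cfsg.Agent.Lib.Lead Cfsg.Agent.Lib.Helper5.SymSyl

open scoped MatrixGroups commutatorElement Nat

theorem mul_eq_one_of_card_le_two {C : Type*} [Group C] (K : Subgroup C) [Finite K]
    (hK : Nat.card K ≤ 2) (x y : C) (hx : x ∈ K) (hy : y ∈ K) (hx1 : x ≠ 1) (hy1 : y ≠ 1) :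
    x * y = 1 := by
  by_contra hxy
  have hinj : Function.Injective (![(⟨1, K.one_mem⟩ : ↥K), ⟨x, hx⟩, ⟨x * y, K.mul_mem hx hy⟩]) := by
    intro i j h
    fin_cases i <;> fin_cases j <;> simp at h ⊢ <;>
      first
      | exact absurd h hx1 | exact absurd h.symm hx1 | exact absurd h hy1
      | exact absurd h.symm hy1 | exact absurd h hxy | exact absurd h.symm hxy
  have := Nat.card_le_card_of_injective _ hinj
  rw [Nat.card_eq_fintype_card, Fintype.card_fin] at this
  omega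

variable {F : Type*} [Field F] (m : ℕ)

noncomputable def detO (F : Type*) [Field F] (m : ℕ) : GO m F →* Fˣ :=
  (Matrix.GeneralLinearGroup.det).comp (Subgroup.subtype _)

theorem baseO_mem_SO (h2 : (2 : F) ≠ 0) (A : Fin m → ↥(O2 F)) :
    baseO h2 m A ∈ (detO F m).ker := by
  rw [MonoidHom.mem_ker]
  exact det_EGL m _

theorem topO_mem_SO (σ : Equiv.Perm (Fin m)) : topO F m σ ∈ (detO F m).ker := by
  rw [MonoidHom.mem_ker]
  show Matrix.GeneralLinearGroup.det ((topO F m σ : GO m F) : GL (Kap m) F) = 1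
  rw [topO_coe]
  exact det_EGL m _

theorem card_map_SO_le [Fintype F] (hF : Odd (Fintype.card F)) (hm : 1 ≤ m) :
    Nat.card (((detO F m).ker).map
      (Abelianization.of : GO m F →* Abelianization (GO m F))) ≤ 2 := by
  have h2 : (2 : F) ≠ 0 := by
    intro h
    have hc : ringChar F = 2 :=
      CharP.ringChar_of_prime_eq_zero Nat.prime_two (by exact_mod_cast h)
    have := FiniteField.even_card_of_char_two hc
    rw [Nat.odd_iff] at hF
    omega
  have hcard : 2 ≤ Fintype.card (Kap m) := by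
    simp only [Fintype.card_sum, Fintype.card_prod, Fintype.card_fin, Fintype.card_unit]
    omega
  have hidx := RI.index_omega_general h2 hcard (sqQF (Kap m) F) (sqQF_nondeg h2)
  rw [sqQF_coe] at hidx
  have hle : commutator (GO m F) ≤ (detO F m).ker := Abelianization.commutator_subset_ker _
  have h1 := Subgroup.relIndex_mul_index hle
  have hidx' : (commutator (GO m F)).index = 4 := hidx
  rw [hidx'] at h1
  have hne : (detO F m).ker.index ≠ 1 := by
    rw [Ne, Subgroup.index_eq_one]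
    intro htop
    have : negO F (Sum.inr () : Kap m) ∈ (detO F m).ker := by
      rw [htop]; trivial
    rw [MonoidHom.mem_ker] at this
    have h3 : Matrix.GeneralLinearGroup.det (negGL F (Sum.inr () : Kap m)) = 1 := this
    rw [det_negGL] at h3
    exact neg_one_ne_one_units hF h3
  rw [← Subgroup.relIndex_ker, Abelianization.ker_of]
  have hne0 : (detO F m).ker.index ≠ 0 := by
    intro h0
    rw [h0, mul_zero] at h1
    omega
  have h4 : 2 ≤ (detO F m).ker.index := by omega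
  nlinarith

theorem phiO_mul_self [Fintype F] : phiO F * phiO F = 1 := by
  apply Subtype.ext
  exact phiGL_sq

theorem O2_sq_mem [Fintype F] (h2 : (2 : F) ≠ 0) (D : Subgroup ↥(O2 F)) (hphD : phiO F ∈ D)
    (d : ↥(O2 F)) (hd : d ∈ D) : d ^ 2 ∈ ⁅D, D⁆ := by
  rcases O2_det h2 d.1 d.2 with h | h
  · have h1 : phiO F * d * phiO F * d = 1 := by
      apply Subtype.ext
      exact O2_rot h2 d.1 d.2 h
    have hpinv : (phiO F)⁻¹ = phiO F := inv_eq_of_mul_eq_one_right phiO_mul_self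
    have h3 : phiO F * d⁻¹ * phiO F = d := by
      have h4 : phiO F * d * phiO F = d⁻¹ := eq_inv_of_mul_eq_one_left h1
      have h5 : (phiO F * d * phiO F)⁻¹ = d := by rw [h4, inv_inv]
      rw [_root_.mul_inv_rev, _root_.mul_inv_rev, hpinv, ← mul_assoc] at h5
      exact h5
    have h6 : ⁅d, phiO F⁆ = d ^ 2 := by
      rw [commutatorElement_def, hpinv, pow_two]
      calc d * phiO F * d⁻¹ * phiO F = d * (phiO F * d⁻¹ * phiO F) := by group
        _ = d * d := by rw [h3]
    rw [← h6]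
    exact Subgroup.commutator_mem_commutator hd hphD
  · have h1 : d * d = 1 := by
      apply Subtype.ext
      exact O2_refl h2 d.1 d.2 h
    rw [pow_two, h1]
    exact Subgroup.one_mem _

theorem exists_genSq_omega_sq [Fintype F] (hF : Odd (Fintype.card F)) (hm : 1 ≤ m) :
    ∃ P : Subgroup (GO m F), P ≤ commutator (GO m F) ∧ IsPGroup 2 P ∧
      2 ^ (padicValNat 2 (Fintype.card F ^ 2 - 1) * m + padicValNat 2 m !) ≤
        2 ^ 1 * Nat.card P ∧ GenSq 2 P := by
  classical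
  haveI : Fact (Nat.Prime 2) := ⟨Nat.prime_two⟩
  have h2 : (2 : F) ≠ 0 := by
    intro h
    have hc : ringChar F = 2 :=
      CharP.ringChar_of_prime_eq_zero Nat.prime_two (by exact_mod_cast h)
    have := FiniteField.even_card_of_char_two hc
    rw [Nat.odd_iff] at hF
    omega
  set δ : GO m F →* Abelianization (GO m F) := Abelianization.of with hδ
  set θ : ↥(O2 F) →* Abelianization (GO m F) :=
    δ.comp ((baseO h2 m).comp (MonoidHom.mulSingle (fun _ : Fin m => ↥(O2 F)) ⟨0, hm⟩)) with hθdef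
  have hθ : ∀ (i : Fin m) (x : ↥(O2 F)),
      δ (baseO h2 m (Pi.mulSingle (M := fun _ : Fin m => ↥(O2 F)) i x)) = θ x := by
    intro i x
    exact delta_baseO_single m h2 δ i ⟨0, hm⟩ x
  have hθph : θ (phiO F) = 1 := delta_baseO_phi m h2 δ ⟨0, hm⟩
  -- the Sylow subgroup S
  have hφp : IsPGroup 2 (Subgroup.zpowers (phiO F)) := by
    rintro ⟨z, hz⟩
    obtain ⟨k, rfl⟩ := Subgroup.mem_zpowers_iff.mp hz
    refine ⟨1, Subtype.ext ?_⟩
    show (phiO F ^ k) ^ 2 ^ 1 = 1
    rw [pow_one, ← zpow_natCast, ← _root_.zpow_mul, mul_comm, _root_.zpow_mul, zpow_natCast, pow_two,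
      phiO_mul_self, _root_.one_zpow]
  obtain ⟨S, hS⟩ := hφp.exists_le_sylow
  have hphS : phiO F ∈ (S : Subgroup ↥(O2 F)) := hS (Subgroup.mem_zpowers _)
  have hScard : Nat.card (S : Subgroup ↥(O2 F)) =
      2 ^ padicValNat 2 (Fintype.card F ^ 2 - 1) := by
    rw [S.card_eq_multiplicity, Nat.factorization_def _ Nat.prime_two, v2_card_O2 hF]
  obtain ⟨T, hTp, hTcard, hTgen⟩ := good_all 2 m (Fin m) (by simp)
  have hTcard' : Nat.card T = 2 ^ padicValNat 2 m ! := by
    rw [hTcard]; simp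
  have hKcard := card_map_SO_le m hF hm
  have hWle : (Subgroup.pi Set.univ (fun _ : Fin m => (S : Subgroup ↥(O2 F)))).map (baseO h2 m) ⊔
      T.map (topO F m) ≤ (detO F m).ker := by
    apply sup_le
    · rintro _ ⟨A, _, rfl⟩
      exact baseO_mem_SO m h2 A
    · rintro _ ⟨σ, _, rfl⟩
      exact topO_mem_SO m σ
  have hc : Nat.card (((Subgroup.pi Set.univ (fun _ : Fin m => (S : Subgroup ↥(O2 F)))).map
      (baseO h2 m) ⊔ T.map (topO F m)).map δ) ≤ 2 ^ 1 := by
    rw [pow_one]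
    exact (Subgroup.card_le_of_le (Subgroup.map_mono hWle)).trans hKcard
  have hsq : ∀ d ∈ (S : Subgroup ↥(O2 F)) ⊓ θ.ker,
      d ^ 2 ∈ ⁅(S : Subgroup ↥(O2 F)) ⊓ θ.ker, (S : Subgroup ↥(O2 F)) ⊓ θ.ker⁆ := by
    intro d hd
    exact O2_sq_mem h2 _ (Subgroup.mem_inf.mpr ⟨hphS, hθph⟩) d hd
  have hθK : ∀ x : ↥(O2 F), θ x ∈ ((detO F m).ker).map δ := by
    intro x
    exact ⟨_, baseO_mem_SO m h2 _, rfl⟩
  have hph : ∃ ph : ↥(O2 F), ph ∈ (S : Subgroup ↥(O2 F)) ∧ ph * ph = 1 ∧
      ∀ s ∈ (S : Subgroup ↥(O2 F)), θ s ≠ 1 → θ (s * ph) = 1 := by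
    by_cases hSk : (S : Subgroup ↥(O2 F)) ≤ θ.ker
    · refine ⟨1, Subgroup.one_mem _, one_mul _, ?_⟩
      intro s hs hne
      exact absurd (hSk hs) hne
    · obtain ⟨x, hxS, hxk⟩ := SetLike.not_le_iff_exists.mp hSk
      have hxk' : θ x ≠ 1 := hxk
      have key : ∀ ph : ↥(O2 F), ph ∈ (S : Subgroup ↥(O2 F)) → ph * ph = 1 → θ ph ≠ 1 →
          ∃ ph : ↥(O2 F), ph ∈ (S : Subgroup ↥(O2 F)) ∧ ph * ph = 1 ∧
            ∀ s ∈ (S : Subgroup ↥(O2 F)), θ s ≠ 1 → θ (s * ph) = 1 := by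
        intro ph hphS' hph2 hphne
        refine ⟨ph, hphS', hph2, ?_⟩
        intro s _ hsne
        rw [map_mul]
        exact mul_eq_one_of_card_le_two _ hKcard _ _ (hθK s) (hθK ph) hsne hphne
      rcases O2_det h2 x.1 x.2 with h | h
      · apply key (x * phiO F) (Subgroup.mul_mem _ hxS hphS)
        · apply Subtype.ext
          apply O2_refl h2 _ (Subgroup.mul_mem _ x.2 (phiO F).2)
          rw [map_mul, h, one_mul]
          exact det_phiGL
        · rw [map_mul, hθph, mul_one]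
          exact hxk'
      · apply key x hxS _ hxk'
        apply Subtype.ext
        exact O2_refl h2 x.1 x.2 h
  obtain ⟨ph, hphS', hph2, hphθ⟩ := hph
  obtain ⟨hPp, hPcard, hPgen⟩ := wreath_ker_two hm (baseO h2 m) (topO F m)
    (topO_mul_baseO m h2) (baseO_injective m h2) (topO_injective m) (baseO_inf_topO m h2)
    δ θ hθ 1 (S : Subgroup ↥(O2 F)) _ hScard T _ hTcard' hTgen
    (fun σ _ => delta_topO m δ σ) hc hsq ph hphS' hph2 hphθ _ rfl
  refine ⟨_, ?_, hPp, hPcard, hPgen⟩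
  rw [← Abelianization.ker_of]
  exact inf_le_right

end Cfsg.Agent.Lib.Helper5.OSyl
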