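import Mathlib
import Cfsg.Agent.Lib.Helper5.OSylH
import Cfsg.Agent.Lib.Helper5.GLSylF
import Cfsg.Agent.Lib.Lead.SpWreathB
import Cfsg.Agent.S0838
import Cfsg.Agent.S0286
import Cfsg.Agent.S0292

set_option autoImplicit false

namespace Cfsg.Agent.Lib.Helper5.OSyl

open Cfsg Matrix Cfsg.Agent.Lib.Lead Cfsg.Agent.Lib.Helper5.SymSyl Cfsg.Agent.Lib.Helper16

open scoped MatrixGroups commutatorElement Nat

section Transfer

variable {F : Type*} [Field F] [Fintype F]

theorem exists_iso_of_similar {n : ℕ} (Q₁ Q₂ : QuadraticForm F (Fin n → F))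
    (g : (Fin n → F) ≃ₗ[F] (Fin n → F)) (c : F) (hc : c ≠ 0) (h : ∀ v, Q₂ (g v) = c * Q₁ v) :
    Nonempty (↥(Cfsg.isometryGroup F ⇑Q₂) ≃* ↥(Cfsg.isometryGroup F ⇑Q₁)) := by
  let N : GL (Fin n) F := ⟨LinearMap.toMatrix' g.toLinearMap, LinearMap.toMatrix' g.symm.toLinearMap,
    by rw [← LinearMap.toMatrix'_comp]; simp, by rw [← LinearMap.toMatrix'_comp]; simp⟩
  have hN : ∀ v, (N : Matrix (Fin n) (Fin n) F) *ᵥ v = g v := by
    intro v
    show LinearMap.toMatrix' g.toLinearMap *ᵥ v = g v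
    rw [LinearMap.toMatrix'_mulVec]
    rfl
  exact ⟨isoConj N ⇑Q₂ ⇑Q₁ c hc (fun v => by rw [hN]; exact h v)⟩

theorem exists_iso_odd_sq (h2 : (2 : F) ≠ 0) (m : ℕ) :
    Nonempty (↥(Cfsg.isometryGroup F (Cfsg.quadFormOdd m F)) ≃* GO m F) := by
  have hc1 : Fintype.card (Unit ⊕ (Fin m ⊕ Fin m)) = 2 * m + 1 := by
    simp only [Fintype.card_sum, Fintype.card_fin, Fintype.card_unit]
    omega
  have hc2 : Fintype.card (Kap m) = 2 * m + 1 := by
    simp only [Fintype.card_sum, Fintype.card_prod, Fintype.card_fin, Fintype.card_unit]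
  let e₁ : Unit ⊕ (Fin m ⊕ Fin m) ≃ Fin (2 * m + 1) := Fintype.equivFinOfCardEq hc1
  let e₂ : Kap m ≃ Fin (2 * m + 1) := Fintype.equivFinOfCardEq hc2
  let Q₁ := RI.qReindex e₁ (qfOdd m F)
  let Q₂ := RI.qReindex e₂ (sqQF (Kap m) F)
  have hn₁ : (QuadraticMap.polarBilin Q₁).Nondegenerate :=
    RI.qReindex_nondeg e₁ _ (Cfsg.Agent.S0292.nondeg_odd h2 m)
  have hn₂ : (QuadraticMap.polarBilin Q₂).Nondegenerate :=
    RI.qReindex_nondeg e₂ _ (sqQF_nondeg h2)
  obtain ⟨g, c, hc, hg⟩ := Cfsg.Agent.S0838.result h2 (n := 2 * m + 1) ⟨m, rfl⟩ Q₁ Q₂ hn₁ hn₂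
  obtain ⟨ψ⟩ := exists_iso_of_similar Q₁ Q₂ g c hc hg
  have hQ₁ : ⇑Q₁ = fun x : Fin (2 * m + 1) → F => Cfsg.quadFormOdd m F (x ∘ e₁) := by
    rw [RI.qReindex_coe, qfOdd_coe]
  have hQ₂ : ⇑Q₂ = fun x : Fin (2 * m + 1) → F => sqForm (Kap m) F (x ∘ e₂) := by
    rw [RI.qReindex_coe, sqQF_coe]
  rw [hQ₁, hQ₂] at ψ
  exact ⟨(RI.isoReindex e₁ _).trans (ψ.symm.trans (RI.isoReindex e₂ _).symm)⟩

theorem v2_card_GOodd (hF : Odd (Fintype.card F)) (m : ℕ) :
    padicValNat 2 (Nat.card (Cfsg.isometryGroup F (Cfsg.quadFormOdd m F))) =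
      1 + (m * padicValNat 2 (Fintype.card F ^ 2 - 1) + padicValNat 2 m !) := by
  haveI : Fact (Nat.Prime 2) := ⟨Nat.prime_two⟩
  have hq1 : 1 < Fintype.card F := Fintype.one_lt_card
  rw [Cfsg.Agent.S0286.result (F := F) rfl hF m, mul_assoc, ← Cfsg.Agent.S0286.prod_formula,
    padicValNat.mul (by norm_num) ?_, padicValNat_self, SpW.v2_prod hF hq1]
  apply Finset.prod_ne_zero_iff.mpr
  intro i _
  have h1 : 1 < Fintype.card F ^ (2 * (i + 1)) := Nat.one_lt_pow (by omega) hq1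
  have h2 : 0 < Fintype.card F ^ (2 * (i + 1) - 1) := Nat.pos_of_ne_zero (by positivity)
  exact Nat.mul_ne_zero (by omega) (by omega)

theorem commutator_map_equiv {G H : Type*} [Group G] [Group H] (e0 : G ≃* H) :
    (commutator G).map e0.toMonoidHom = commutator H := by
  rw [commutator_def, commutator_def, Subgroup.map_commutator]
  have : (⊤ : Subgroup G).map e0.toMonoidHom = ⊤ :=
    Subgroup.map_top_of_surjective _ e0.surjective
  rw [this]

noncomputable def commEquiv {G H : Type*} [Group G] [Group H] (e0 : G ≃* H) :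
    ↥(commutator G) ≃* ↥(commutator H) :=
  (e0.subgroupMap (commutator G)).trans (MulEquiv.subgroupCongr (commutator_map_equiv e0))

theorem exists_genSq_sylow_omega_odd (hF : Odd (Fintype.card F)) (m : ℕ) (hm : 1 ≤ m) :
    ∃ S : Subgroup (Cfsg.Omega F (Cfsg.quadFormOdd m F)),
      Nat.card S = 2 ^ (Nat.card (Cfsg.Omega F (Cfsg.quadFormOdd m F))).factorization 2 ∧
        GenSq 2 S := by
  classical
  haveI : Fact (Nat.Prime 2) := ⟨Nat.prime_two⟩
  have h2 : (2 : F) ≠ 0 := by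
    intro h
    have hc : ringChar F = 2 :=
      CharP.ringChar_of_prime_eq_zero Nat.prime_two (by exact_mod_cast h)
    have := FiniteField.even_card_of_char_two hc
    rw [Nat.odd_iff] at hF
    omega
  obtain ⟨e0⟩ := exists_iso_odd_sq (F := F) h2 m
  obtain ⟨P, hPle, hPp, hPcard, hPgen⟩ := exists_genSq_omega_sq (F := F) m hF hm
  -- pull back to the commutator subgroup
  set f : ↥(commutator (GO m F)) →* GO m F := (commutator (GO m F)).subtype with hf
  have hfinj : Function.Injective f := Subgroup.subtype_injective _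
  have hPr : P ≤ f.range := by
    rw [hf, Subgroup.range_subtype]
    exact hPle
  have hP'gen : GenSq 2 (P.comap f) := genSq_comap_of_injective f hfinj P hPr hPgen
  have hP'card : Nat.card (P.comap f) = Nat.card P := card_comap_of_injective' f hfinj P hPr
  have hP'p : IsPGroup 2 (P.comap f) := hPp.comap_of_injective f hfinj
  set ψ : ↥(commutator (GO m F)) ≃* ↥(Cfsg.Omega F (Cfsg.quadFormOdd m F)) :=
    (commEquiv e0).symm with hψ
  refine ⟨(P.comap f).map ψ.toMonoidHom, ?_, genSq_map _ hP'gen⟩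
  have hcard3 : Nat.card ((P.comap f).map ψ.toMonoidHom) = Nat.card P := by
    rw [Subgroup.card_map_of_injective ψ.injective, hP'card]
  have hp3 : IsPGroup 2 ((P.comap f).map ψ.toMonoidHom) := hP'p.map _
  have hcardG : 3 ≤ Fintype.card (Unit ⊕ (Fin m ⊕ Fin m)) := by
    simp only [Fintype.card_sum, Fintype.card_fin, Fintype.card_unit]
    omega
  have hidx := RI.index_omega_general h2 (by omega) (qfOdd m F) (Cfsg.Agent.S0292.nondeg_odd h2 m)
  rw [qfOdd_coe] at hidx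
  have hmul := Subgroup.card_mul_index (Cfsg.Omega F (Cfsg.quadFormOdd m F))
  rw [hidx] at hmul
  have hΩpos : Nat.card (Cfsg.Omega F (Cfsg.quadFormOdd m F)) ≠ 0 := Nat.card_pos.ne'
  have hv : padicValNat 2 (Nat.card (Cfsg.Omega F (Cfsg.quadFormOdd m F))) + 2 =
      1 + (m * padicValNat 2 (Fintype.card F ^ 2 - 1) + padicValNat 2 m !) := by
    rw [← v2_card_GOodd hF m, ← hmul, padicValNat.mul hΩpos (by norm_num)]
    congr 1
    have : (4 : ℕ) = 2 ^ 2 := by norm_num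
    rw [this, padicValNat.prime_pow]
  rw [Nat.factorization_def _ Nat.prime_two]
  apply card_eq_of_pgroup _ hp3 _ hΩpos (Subgroup.card_subgroup_dvd_card _)
  rw [hcard3]
  have hle : 2 ^ (padicValNat 2 (Nat.card (Cfsg.Omega F (Cfsg.quadFormOdd m F))) + 1) ≤
      2 ^ 1 * Nat.card P := by
    have e : padicValNat 2 (Nat.card (Cfsg.Omega F (Cfsg.quadFormOdd m F))) + 1 =
        padicValNat 2 (Fintype.card F ^ 2 - 1) * m + padicValNat 2 m ! := by
      rw [mul_comm]; omega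
    rw [e]
    exact hPcard
  rw [pow_succ, mul_comm] at hle
  exact Nat.le_of_mul_le_mul_left hle (by norm_num)

end Transfer

end Cfsg.Agent.Lib.Helper5.OSyl
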