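import Mathlib
import Cfsg.Agent.Lib.Helper16.O9H.Defs

set_option autoImplicit false

/-!
# Project O9H, row AFREE1 (`free_one`): on the kernel of `f(g)`, `f` irreducible, a nonzero vector is fixed by `g^j` iff `f ∣ X^j - 1`.
Self-contained (own copies of the KPOW / KDVD / KIRR facts under `o9hafree1_` names).
-/

namespace Cfsg.Agent.Lib.Helper16.O9H

open Matrix Polynomial Module

variable {ι : Type} [Fintype ι] [DecidableEq ι] {F : Type*} [Field F]

/-- evaluation of `X ^ n - 1` at `linOf g` (own copy of the KPOW statement) -/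
theorem o9hafree1_pow (g : GL ι F) (n : ℕ) (x : ι → F) :
    aeval (linOf g) (X ^ n - 1 : F[X]) x = ((g ^ n : GL ι F) : Matrix ι ι F) *ᵥ x - x := by
  have h1 : aeval (linOf g) (X ^ n - 1 : F[X]) = linOf g ^ n - 1 := by
    simp only [map_sub, map_pow, aeval_X, map_one]
  rw [h1, LinearMap.sub_apply, Module.End.one_apply]
  congr 1
  show (Matrix.toLin' (g : Matrix ι ι F) ^ n) x = _
  rw [← Matrix.toLin'_pow, Matrix.toLin'_apply, Units.val_pow_eq_pow_val]

/-- own copy of the KDVD statement -/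
theorem o9hafree1_dvd (g : GL ι F) (f P : F[X]) (hfP : f ∣ P) (x : ι → F) (hx : x ∈ kerP g f) :
    aeval (linOf g) P x = 0 := by
  obtain ⟨P', rfl⟩ := hfP
  rw [mul_comm, aeval_mul, Module.End.mul_apply]
  have : aeval (linOf g) f x = 0 := LinearMap.mem_ker.mp hx
  rw [this, map_zero]

/-- own copy of the KIRR statement -/
theorem o9hafree1_irr (g : GL ι F) (f P : F[X]) (hf : Irreducible f) :
    f ∣ P ∨ ∀ x ∈ kerP g f, aeval (linOf g) P x = 0 → x = 0 := by
  rcases EuclideanDomain.dvd_or_coprime f P hf with h | h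
  · exact Or.inl h
  · right
    intro x hx hPx
    obtain ⟨u, v, huv⟩ := h
    have hfx : aeval (linOf g) f x = 0 := LinearMap.mem_ker.mp hx
    have h1 : aeval (linOf g) (u * f + v * P) x = x := by
      rw [huv, map_one, Module.End.one_apply]
    rw [map_add, aeval_mul, aeval_mul, LinearMap.add_apply, Module.End.mul_apply, Module.End.mul_apply,
      hfx, hPx, map_zero, map_zero, add_zero] at h1
    exact h1.symm

/-- AFREE1 -/
theorem free_one (g : GL ι F) (f : F[X]) (hf : Irreducible f) (o : ℕ)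
    (ho : ∀ j : ℕ, f ∣ (X ^ j - 1 : F[X]) ↔ o ∣ j) (y : ι → F) (hy : y ∈ kerP g f) (hy0 : y ≠ 0) (j : ℕ) :
    ((g ^ j : GL ι F) : Matrix ι ι F) *ᵥ y = y ↔ o ∣ j := by
  constructor
  · intro h
    have h1 : aeval (linOf g) (X ^ j - 1 : F[X]) y = 0 := by
      rw [o9hafree1_pow, h, sub_self]
    rcases o9hafree1_irr g f (X ^ j - 1) hf with h2 | h2
    · exact (ho j).mp h2
    · exact absurd (h2 y hy h1) hy0
  · intro h
    have h1 := o9hafree1_dvd g f (X ^ j - 1) ((ho j).mpr h) y hy
    rw [o9hafree1_pow] at h1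
    exact sub_eq_zero.mp h1

end Cfsg.Agent.Lib.Helper16.O9H
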