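import Mathlib
import Cfsg.Agent.Lib.Helper18.OPE.Defs

set_option autoImplicit false
set_option linter.unusedVariables false
set_option linter.unusedSectionVars false

/-!
# Project OPE (S5974 + S5988), row USPLIT (helper5): Jordan bookkeeping for `N² = 0` on `V = W ⊕ W'`.
-/

namespace Cfsg.Agent.Lib.Helper18.OPE

open Polynomial Module Cfsg.Agent.Lib.Helper13.S5955 Cfsg.Agent.Lib.helper15.S5972
open scoped Matrix

/-- rank-nullity for the restriction of `N` to `W` -/
theorem opeusplit_rn {F : Type*} [Field F] {V : Type*} [AddCommGroup V] [Module F V]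
    [FiniteDimensional F V] (N : Module.End F V) (W : Submodule F V) :
    finrank F W = finrank F ↥(W ⊓ LinearMap.ker N) + finrank F ↥(W.map N) := by
  have h1 := LinearMap.finrank_range_add_finrank_ker (N ∘ₗ W.subtype)
  have h2 : LinearMap.range (N ∘ₗ W.subtype) = W.map N := by
    rw [LinearMap.range_comp, Submodule.range_subtype]
  have h3 : LinearMap.ker (N ∘ₗ W.subtype) = Submodule.comap W.subtype (W ⊓ LinearMap.ker N) := by
    rw [LinearMap.ker_comp, Submodule.comap_inf, Submodule.comap_subtype_self, top_inf_eq]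
  have h4 : finrank F ↥(Submodule.comap W.subtype (W ⊓ LinearMap.ker N)) =
      finrank F ↥(W ⊓ LinearMap.ker N) :=
    LinearEquiv.finrank_eq (Submodule.comapSubtypeEquivOfLe (inf_le_left : W ⊓ LinearMap.ker N ≤ W))
  rw [h2, h3, h4] at h1
  omega

/-- USPLIT [M]: Jordan bookkeeping for `N² = 0` on a direct sum of invariant subspaces: rank–nullity for `N` on `W`, `N W ≤ W ⊓ ker N`, and additivity of `dim (· ⊓ ker N)`, `dim N(·)`
(`ker N = (W ⊓ ker N) ⊕ (W' ⊓ ker N)`, `range N = N W ⊕ N W'`). -/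
theorem u_split {F : Type*} [Field F] {V : Type*} [AddCommGroup V] [Module F V]
    [FiniteDimensional F V] (N : Module.End F V) (hNN : N * N = 0) (W W' : Submodule F V)
    (hW : ∀ v ∈ W, N v ∈ W) (hW' : ∀ v ∈ W', N v ∈ W') (hc : IsCompl W W') :
    finrank F W = finrank F ↥(W ⊓ LinearMap.ker N) + finrank F ↥(W.map N) ∧
      finrank F ↥(W.map N) ≤ finrank F ↥(W ⊓ LinearMap.ker N) ∧
      finrank F (LinearMap.ker N) = finrank F ↥(W ⊓ LinearMap.ker N) + finrank F ↥(W' ⊓ LinearMap.ker N) ∧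
      finrank F (LinearMap.range N) = finrank F ↥(W.map N) + finrank F ↥(W'.map N) := by
  have hinf : W ⊓ W' = ⊥ := hc.inf_eq_bot
  have hsup : W ⊔ W' = ⊤ := hc.sup_eq_top
  have hmapW : W.map N ≤ W := by
    rintro _ ⟨v, hv, rfl⟩
    exact hW v hv
  have hmapW' : W'.map N ≤ W' := by
    rintro _ ⟨v, hv, rfl⟩
    exact hW' v hv
  refine ⟨opeusplit_rn N W, ?_, ?_, ?_⟩
  · apply Submodule.finrank_mono
    rintro _ ⟨v, hv, rfl⟩
    refine ⟨hW v hv, ?_⟩
    show N v ∈ LinearMap.ker N
    rw [LinearMap.mem_ker, ← Module.End.mul_apply, hNN, LinearMap.zero_apply]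
  · have h1 : LinearMap.ker N = (W ⊓ LinearMap.ker N) ⊔ (W' ⊓ LinearMap.ker N) := by
      apply le_antisymm
      · intro v hv
        have hvt : v ∈ W ⊔ W' := by rw [hsup]; exact Submodule.mem_top
        obtain ⟨w, hw, w', hw', rfl⟩ := Submodule.mem_sup.mp hvt
        rw [LinearMap.mem_ker, map_add] at hv
        have h2 : N w = - N w' := eq_neg_of_add_eq_zero_left hv
        have h3 : N w ∈ W ⊓ W' := ⟨hW w hw, by rw [h2]; exact W'.neg_mem (hW' w' hw')⟩
        rw [hinf, Submodule.mem_bot] at h3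
        have h4 : N w' = 0 := by rw [h3, zero_add] at hv; exact hv
        exact Submodule.add_mem_sup ⟨hw, LinearMap.mem_ker.mpr h3⟩ ⟨hw', LinearMap.mem_ker.mpr h4⟩
      · exact sup_le inf_le_right inf_le_right
    have h2 : (W ⊓ LinearMap.ker N) ⊓ (W' ⊓ LinearMap.ker N) = ⊥ := by
      rw [eq_bot_iff, ← hinf]
      exact inf_le_inf inf_le_left inf_le_left
    have h3 := Submodule.finrank_sup_add_finrank_inf_eq (W ⊓ LinearMap.ker N) (W' ⊓ LinearMap.ker N)
    rw [h2, finrank_bot, add_zero, ← h1] at h3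
    exact h3
  · have h1 : LinearMap.range N = W.map N ⊔ W'.map N := by
      rw [← Submodule.map_sup, hsup, Submodule.map_top]
    have h2 : W.map N ⊓ W'.map N = ⊥ := by
      rw [eq_bot_iff, ← hinf]
      exact inf_le_inf hmapW hmapW'
    have h3 := Submodule.finrank_sup_add_finrank_inf_eq (W.map N) (W'.map N)
    rw [h2, finrank_bot, add_zero, ← h1] at h3
    exact h3

end Cfsg.Agent.Lib.Helper18.OPE
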