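import Mathlib
import Cfsg.Agent.Lib.Helper18.OPE.Defs
import Cfsg.Agent.Lib.helper17.OPEQCTXO
import Cfsg.Agent.Lib.helper17.OPEQPERP
import Cfsg.Agent.Lib.helper15.C3EEVEN
import Cfsg.Agent.Lib.Helper5.OPEUSPLIT

set_option autoImplicit false
set_option linter.unusedVariables false
set_option linter.unusedSectionVars false

/-!
# Project OPE (S5974 + S5988), row UFOUR (helper5): no Jordan block of size 1 ⇒ `4 ∣ dim W`.
-/

namespace Cfsg.Agent.Lib.Helper18.OPE

open Polynomial Module Cfsg.Agent.Lib.Helper13.S5955 Cfsg.Agent.Lib.helper15.S5972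
open scoped Matrix

/-- the facts about `N = x - 1` shared by UFOUR and UHYP: `B u (N u) = 0` and `B (N u) k = 0` for `k ∈ ker N` -/
theorem opeufour_basic {F : Type*} [Field F] {V : Type*} [AddCommGroup V] [Module F V] {r : ℕ}
    {Q : QuadraticForm F V} {x : Module.End F V} (h : QCtx r Q x) (hQN : ∀ v, Q ((x - 1) v) = 0) :
    (∀ u, QuadraticMap.polarBilin Q u ((x - 1) u) = 0) ∧
      (∀ u k, (x - 1) k = 0 → QuadraticMap.polarBilin Q ((x - 1) u) k = 0) := by
  have ho := qctx_octx h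
  have hxv : ∀ v, x v = v + (x - 1) v := by
    intro v
    rw [LinearMap.sub_apply, Module.End.one_apply, add_sub_cancel]
  constructor
  · intro u
    have e := h.pres u
    rw [hxv, QuadraticMap.map_add Q, hQN] at e
    rw [QuadraticMap.polarBilin_apply_apply]
    linear_combination e
  · intro u k hk
    have e := ho.pres u k
    rw [hxv u, hxv k, hk, add_zero, map_add, LinearMap.add_apply] at e
    linear_combination e

/-- the rank of the alternating form `(u, v) ↦ B (N u) v` on `W` is even: `dim N W` is even -/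
theorem opeufour_even {F : Type*} [Field F] {V : Type*} [AddCommGroup V] [Module F V]
    [FiniteDimensional F V] {r : ℕ}
    {Q : QuadraticForm F V} {x : Module.End F V} (h : QCtx r Q x) (hQN : ∀ v, Q ((x - 1) v) = 0)
    (W : Submodule F V) (hW : SInv x W) (hWnd : SND (QuadraticMap.polarBilin Q) W) :
    Even (finrank F ↥(W.map (x - 1))) := by
  have ho := qctx_octx h
  obtain ⟨hBN, hBNk⟩ := opeufour_basic h hQN
  have hNW : ∀ v ∈ W, (x - 1) v ∈ W := by
    intro v hv
    rw [LinearMap.sub_apply, Module.End.one_apply]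
    exact W.sub_mem (hW v hv) hv
  obtain ⟨C0, hC0⟩ := Submodule.exists_isCompl (W ⊓ LinearMap.ker (x - 1))
  have hCK : (C0 ⊓ W) ⊓ (W ⊓ LinearMap.ker (x - 1)) = ⊥ := by
    rw [eq_bot_iff, ← hC0.inf_eq_bot]
    exact le_inf inf_le_right (inf_le_left.trans inf_le_left)
  have hCKsup : (C0 ⊓ W) ⊔ (W ⊓ LinearMap.ker (x - 1)) = W := by
    apply le_antisymm
    · exact sup_le inf_le_right inf_le_left
    · intro w hw
      have hwt : w ∈ (W ⊓ LinearMap.ker (x - 1)) ⊔ C0 := by rw [hC0.sup_eq_top]; exact Submodule.mem_top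
      obtain ⟨k, hk, c, hc, rfl⟩ := Submodule.mem_sup.mp hwt
      have hcW : c ∈ W := by
        have := W.sub_mem hw hk.1
        rwa [add_sub_cancel_left] at this
      rw [add_comm]
      exact Submodule.add_mem_sup ⟨hc, hcW⟩ hk
  have hdimC : finrank F ↥(C0 ⊓ W) + finrank F ↥(W ⊓ LinearMap.ker (x - 1)) = finrank F W := by
    have h3 := Submodule.finrank_sup_add_finrank_inf_eq (C0 ⊓ W) (W ⊓ LinearMap.ker (x - 1))
    rw [hCK, finrank_bot, add_zero, hCKsup] at h3
    exact h3.symm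
  have hβ0 : ∀ u, ((QuadraticMap.polarBilin Q : V →ₗ[F] V →ₗ[F] F) ∘ₗ (x - 1)) u u = 0 := by
    intro u
    rw [LinearMap.comp_apply, ho.symm]
    exact hBN u
  have hβnd : ∀ u ∈ C0 ⊓ W, (∀ v ∈ C0 ⊓ W,
      ((QuadraticMap.polarBilin Q : V →ₗ[F] V →ₗ[F] F) ∘ₗ (x - 1)) u v = 0) → u = 0 := by
    intro u hu huv
    have hNu : (x - 1) u = 0 := by
      apply hWnd ((x - 1) u) (hNW u hu.2)
      intro w hw
      have hwt : w ∈ (C0 ⊓ W) ⊔ (W ⊓ LinearMap.ker (x - 1)) := by rw [hCKsup]; exact hw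
      obtain ⟨c, hc, k, hk, rfl⟩ := Submodule.mem_sup.mp hwt
      have h1 := huv c hc
      rw [LinearMap.comp_apply] at h1
      rw [map_add, h1, zero_add]
      exact hBNk u k (LinearMap.mem_ker.mp hk.2)
    have hmem : u ∈ (C0 ⊓ W) ⊓ (W ⊓ LinearMap.ker (x - 1)) := ⟨hu, hu.2, LinearMap.mem_ker.mpr hNu⟩
    rw [hCK] at hmem
    exact (Submodule.mem_bot F).mp hmem
  have heven := Cfsg.Agent.Lib.Helper10.C3E.c3eeven_even _ hβ0 (C0 ⊓ W) hβnd
  have hrn := opeusplit_rn (x - 1) W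
  have hCeq : finrank F ↥(C0 ⊓ W) = finrank F ↥(W.map (x - 1)) := by omega
  rwa [hCeq] at heven

/-- UFOUR [M]: no Jordan block of size 1 (`dim ker N = rank N`): `4 ∣ dim W` for every invariant nondegenerate `W`.  (USPLIT: `δ(W) = 0`, `dim W = 2 dim N W`; `β u v := B (N u) v` is alternating on `W`
(`Q (x u) = Q u` gives `B u (N u) = - Q (N u) = 0`) with radical `W ⊓ ker N` (`N u ∈ W ⊓ W^⊥ = 0`), so `dim N W = dim W - dim (W ⊓ ker N)` is even: `Cfsg.Agent.Lib.Helper16` `alt_even` (SpSemi1.lean) or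
`Cfsg.Agent.Lib.helper15.C3EEVEN` `c3eeven_even` on a complement.) -/
theorem u_four {F : Type*} [Field F] {V : Type*} [AddCommGroup V] [Module F V]
    [FiniteDimensional F V] {r : ℕ} (hr : 0 < r)
    {Q : QuadraticForm F V} {x : Module.End F V} (h : QCtx r Q x)
    (hNN : (x - 1) * (x - 1) = 0) (hQN : ∀ v, Q ((x - 1) v) = 0)
    (hδ : finrank F (LinearMap.ker (x - 1)) = finrank F (LinearMap.range (x - 1)))
    (W : Submodule F V) (hW : SInv x W) (hWnd : SND (QuadraticMap.polarBilin Q) W) :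
    4 ∣ finrank F W := by
  obtain ⟨hW'inv, hW'nd, hcompl, horth, hdim⟩ := q_perp hr h W hW hWnd
  have hNW : ∀ v ∈ W, (x - 1) v ∈ W := by
    intro v hv
    rw [LinearMap.sub_apply, Module.End.one_apply]
    exact W.sub_mem (hW v hv) hv
  have hNW' : ∀ v ∈ LinearMap.BilinForm.orthogonal (QuadraticMap.polarBilin Q) W,
      (x - 1) v ∈ LinearMap.BilinForm.orthogonal (QuadraticMap.polarBilin Q) W := by
    intro v hv
    rw [LinearMap.sub_apply, Module.End.one_apply]
    exact Submodule.sub_mem _ (hW'inv v hv) hv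
  obtain ⟨h1, h2, h3, h4⟩ := u_split (x - 1) hNN W _ hNW hNW' hcompl
  obtain ⟨h1', h2', -, -⟩ := u_split (x - 1) hNN _ W hNW' hNW hcompl.symm
  obtain ⟨t, ht⟩ := opeufour_even h hQN W hW hWnd
  exact ⟨t, by omega⟩

end Cfsg.Agent.Lib.Helper18.OPE
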