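import Mathlib
import Cfsg.Agent.S0012
import Cfsg.Agent.S0013
import Cfsg.Agent.S0575

set_option autoImplicit false

namespace Cfsg.Agent.Lib.Helper5.Fq

theorem frattini_comap_equiv {A B : Type*} [Group A] [Group B] (e : A ≃* B) :
    (frattini B).comap e.toMonoidHom = frattini A := by
  apply le_antisymm
  · have h := frattini_le_comap_frattini_of_surjective (φ := e.symm.toMonoidHom) e.symm.surjective
    intro x hx
    have := h hx
    simpa using this
  · exact frattini_le_comap_frattini_of_surjective (φ := e.toMonoidHom) e.surjective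

theorem frattini_index_equiv {A B : Type*} [Group A] [Group B] (e : A ≃* B) :
    (frattini A).index = (frattini B).index := by
  rw [← frattini_comap_equiv e]
  exact Subgroup.index_comap_of_surjective _ e.surjective

theorem frattini_quotient_eq_map {X : Type*} [Group X] [Finite X] (p : ℕ) [Fact p.Prime]
    (hX : IsPGroup p X) (K : Subgroup X) [K.Normal] :
    frattini (X ⧸ K) = (frattini X).map (QuotientGroup.mk' K) := by
  apply le_antisymm
  · haveI : ((frattini X).map (QuotientGroup.mk' K)).Normal :=
      Subgroup.Normal.map inferInstance _ (QuotientGroup.mk'_surjective K)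
    have hQ : IsPGroup p (X ⧸ K) := hX.to_quotient K
    apply Cfsg.Agent.S0013.result p hQ
    · rw [commutator_def, Subgroup.commutator_le]
      intro a _ b _
      obtain ⟨a, rfl⟩ := QuotientGroup.mk'_surjective K a
      obtain ⟨b, rfl⟩ := QuotientGroup.mk'_surjective K b
      refine ⟨a * b * a⁻¹ * b⁻¹, ?_, by simp [commutatorElement_def]⟩
      apply (Cfsg.Agent.S0012.result p hX).1
      rw [commutator_def]
      have := Subgroup.commutator_mem_commutator (Subgroup.mem_top a) (Subgroup.mem_top b)
      rwa [commutatorElement_def] at this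
    · intro a
      obtain ⟨a, rfl⟩ := QuotientGroup.mk'_surjective K a
      exact ⟨a ^ p, (Cfsg.Agent.S0012.result p hX).2 a, by simp⟩
  · rw [Subgroup.map_le_iff_le_comap]
    exact frattini_le_comap_frattini_of_surjective (QuotientGroup.mk'_surjective K)

theorem frattini_index_le_mul {X : Type*} [Group X] [Finite X] (p : ℕ) [Fact p.Prime]
    (hX : IsPGroup p X) (K : Subgroup X) [K.Normal] :
    (frattini X).index ≤ (frattini (X ⧸ K)).index * (frattini K).index := by
  set F := frattini X with hF
  have h1 : (frattini (X ⧸ K)).index = (F ⊔ K).index := by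
    rw [frattini_quotient_eq_map p hX K, Subgroup.index_map,
      MonoidHom.range_eq_top_of_surjective _ (QuotientGroup.mk'_surjective K), Subgroup.index_top, mul_one,
      QuotientGroup.ker_mk']
  have h2 : F.relIndex (F ⊔ K) * (F ⊔ K).index = F.index :=
    Subgroup.relIndex_mul_index le_sup_left
  have h3 : F.relIndex (F ⊔ K) = F.relIndex K := Subgroup.relIndex_sup_left K F
  have h4 : F.relIndex K ≤ (frattini K).index := by
    have hle : frattini K ≤ F.subgroupOf K := by
      intro x hx
      rw [Subgroup.mem_subgroupOf]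
      exact Cfsg.Agent.S0575.result K ⟨x, hx, rfl⟩
    have := Subgroup.index_dvd_of_le hle
    exact Nat.le_of_dvd (Nat.pos_of_ne_zero Subgroup.index_ne_zero_of_finite) this
  rw [h1, ← h2, h3, mul_comm]
  exact Nat.mul_le_mul_left _ h4

theorem frattini_index_le_of_isCyclic {X : Type*} [Group X] [Finite X] (p : ℕ) [Fact p.Prime]
    (hX : IsPGroup p X) [hc : IsCyclic X] : (frattini X).index ≤ p := by
  have hexp : ∀ y : X ⧸ frattini X, y ^ p = 1 := by
    intro y
    obtain ⟨x, rfl⟩ := QuotientGroup.mk'_surjective (frattini X) y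
    have := (Cfsg.Agent.S0012.result p hX).2 x
    rw [← map_pow]
    exact (QuotientGroup.eq_one_iff _).mpr this
  haveI : IsCyclic (X ⧸ frattini X) := isCyclic_of_surjective _ (QuotientGroup.mk'_surjective (frattini X))
  have h1 : Monoid.exponent (X ⧸ frattini X) ∣ p := Monoid.exponent_dvd_of_forall_pow_eq_one hexp
  rw [IsCyclic.exponent_eq_card] at h1
  rw [Subgroup.index_eq_card]
  exact Nat.le_of_dvd (Fact.out : p.Prime).pos h1

theorem frattini_index_le_card {X : Type*} [Group X] [Finite X] : (frattini X).index ≤ Nat.card X :=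
  Nat.le_of_dvd Nat.card_pos (Subgroup.index_dvd_card _)

theorem frattini_index_le_sq_card {Y : Type*} [Group Y] [Finite Y]
    (hcomm : ∀ a b : Y, a * b = b * a)
    (hY : IsPGroup 2 Y) : (frattini Y).index ≤ Nat.card {y : Y | y ^ 2 = 1} := by
  haveI : Fact (Nat.Prime 2) := ⟨Nat.prime_two⟩
  set s : Y →* Y := MonoidHom.mk' (fun y => y ^ 2) (fun a b => (Commute.mul_pow (hcomm a b) 2)) with hs
  have hle : s.range ≤ frattini Y := by
    rintro _ ⟨y, rfl⟩
    exact (Cfsg.Agent.S0012.result 2 hY).2 y
  have h1 : (frattini Y).index ≤ s.range.index :=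
    Nat.le_of_dvd (Nat.pos_of_ne_zero Subgroup.index_ne_zero_of_finite) (Subgroup.index_dvd_of_le hle)
  have h2 : s.range.index = Nat.card s.ker := by
    have a1 := Subgroup.card_mul_index s.range
    have a2 := Subgroup.card_mul_index s.ker
    have a3 : s.ker.index = Nat.card s.range := Subgroup.index_ker s
    rw [a3] at a2
    have hpos : 0 < Nat.card s.range := Nat.card_pos
    have : Nat.card s.range * s.range.index = Nat.card s.range * Nat.card s.ker := by
      rw [a1, mul_comm, a2]
    exact Nat.eq_of_mul_eq_mul_left hpos this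
  have h3 : Nat.card s.ker = Nat.card {y : Y | y ^ 2 = 1} := by
    apply Nat.card_congr
    refine Equiv.subtypeEquivRight ?_
    intro y
    simp [MonoidHom.mem_ker, hs]
  omega

end Cfsg.Agent.Lib.Helper5.Fq
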