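import Mathlib
import Cfsg.Agent.Lib.helper17.STM.Defs
import Cfsg.Agent.Lib.helper17.STM.Defs2
import Cfsg.Agent.Lib.Helper5.STMF4core
import Cfsg.Agent.Lib.Helper25.STMN6
import Cfsg.Agent.Lib.Helper21.STMF2b

/-!
# Project STM (designer helper17; S2099 family), row F4 `SysM.lemA_long`, VERBATIM (helper5): `stmf4_core` on N6 `Yj_Pg` (`Helper25.STMN6`) and F2b `NP_h` (`Helper21.STMF2b`).
-/

set_option autoImplicit false

namespace Cfsg.Agent.Lib.helper17.STM

open Cfsg.Agent.Lib.helper15.St2 Cfsg.Agent.Lib.helper3.STC Cfsg.Agent.Lib.Lead.STD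

universe v w

namespace SysM

variable {F : Type*} [Field F] {A B : F} [Fact (∀ r : F, r ^ 2 ≠ -B + A * r)] {ι : Type*} [DecidableEq ι] {G : Type*} [Group G] (S : SysM F A B ι G)

section F
variable (o : ι ⊕ ι)

/-- F4 [M]  the long root element `x o j t` on the big cell (model STD F4 `lemA_short`, `Helper13.STDF4`): N4 (`y = x j o u * y'`), STD `lu` / `lu0` at `S.toSysD`, `w_eq_w_one_mul_h`, N6, `NP_h`. -/
theorem lemA_long [Finite F] {j : ι ⊕ ι} (hj : j ≠ o) (hj' : j ≠ ng o) (t : F) {y p : G} (hy : y ∈ S.Yg o) (hp : p ∈ S.Phat o) :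
    S.x o j t * (y * p) ∈ S.cell0 o ∨ S.x o j t * (y * p) ∈ S.cell o j :=
  S.stmf4_core o hj hj' (S.Yj_Pg o hj hj') (fun _ ht => (S.NP_h o hj hj' ht).2) t hy hp

end F

end SysM

end Cfsg.Agent.Lib.helper17.STM
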