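import Mathlib
import Cfsg.Agent.Lib.helper7.CED.Defs
import Cfsg.Agent.Lib.Helper24.STCI1

/-!
# Project CED (designer helper7; S2096 + S2097), row Y10 `rootLift_four`, the core (helper5).
Port of `Helper16.CECY10core`.  The statements of Y2 `Ys_add_left` and Y9 `Xs_sym` are hypotheses; own-name copies of the rows
Y1 (`cedy10_Ys_map`, `cedy10_Ys_eq`, `cedy10_Ys_cj`) and Y8 (`cedy10_Xs_eq`) are proved here.
-/

set_option autoImplicit false

namespace Cfsg.Agent.Lib.helper7.CED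

open Cfsg.Agent.Lib.helper15.St2 Cfsg.Agent.Lib.helper7.Ce Cfsg.Agent.Lib.helper3.STC Cfsg.Agent.Lib.Lead.STD
  Cfsg.Agent.Lib.helper7.CEC

section Y

variable {K : Type*} [Field K] {ι : Type*} {Γ G : Type*} [Group Γ] [Group G] {S : SysD K ι G} {σ : Γ →* G}

theorem cedy10_ne {a b : ι ⊕ ι} (hab : ab a ≠ ab b) : a ≠ b := fun e => hab (by rw [e])

theorem cedy10_ne_ng {a b : ι ⊕ ι} (hab : ab a ≠ ab b) : a ≠ ng b := fun e => hab (by rw [e, ab_ng])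

/-- `cm (x a c t) (x c b u) = x a b (t * u)` -/
theorem cedy10_cm_x {a c b : ι ⊕ ι} (hac : ab a ≠ ab c) (hcb : ab c ≠ ab b) (hab : ab a ≠ ab b) (t u : K) :
    cm (S.x a c t) (S.x c b u) = S.x a b (t * u) :=
  S.comm3 a c b (cedy10_ne hac) (cedy10_ne_ng hac) (cedy10_ne hcb) (cedy10_ne_ng hcb) (cedy10_ne hab) (cedy10_ne_ng hab) t u

/-- own-name copy of Y1 `Ys_map` -/
theorem cedy10_Ys_map (h : IsCE σ) {a c b : ι ⊕ ι} (hac : ab a ≠ ab c) (hcb : ab c ≠ ab b) (hab : ab a ≠ ab b) (t u : K) :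
    σ (Ys S h a c b t u) = S.x a b (t * u) := by
  unfold Ys
  rw [map_cm, map_lf, map_lf, cedy10_cm_x hac hcb hab]

/-- own-name copy of Y1 `Ys_eq` -/
theorem cedy10_Ys_eq (h : IsCE σ) {a c b : ι ⊕ ι} {t u : K} {p q : Γ} (hp : σ p = S.x a c t) (hq : σ q = S.x c b u) :
    cm p q = Ys S h a c b t u := by
  unfold Ys
  exact h.cm_congr (by rw [hp, map_lf]) (by rw [hq, map_lf])

/-- own-name copy of Y1 `Ys_cj` -/
theorem cedy10_Ys_cj (h : IsCE σ) {g : G} {π : Equiv.Perm (ι ⊕ ι)} {d : ι ⊕ ι → K} (hg : S.IsMon g π d) {e : Γ} (he : σ e = g)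
    {a c b : ι ⊕ ι} (hac : a ≠ c) (hcb : c ≠ b) (t u : K) :
    cj e (Ys S h a c b t u) = Ys S h (π a) (π c) (π b) (d a * (d c)⁻¹ * t) (d c * (d b)⁻¹ * u) := by
  unfold Ys
  rw [cj_cm]
  apply h.cm_congr
  · rw [map_cj, he, map_lf, hg.2 a c hac t, map_lf]
  · rw [map_cj, he, map_lf, hg.2 c b hcb u, map_lf]

theorem cedy10_choose (h3 : I3 ι) (a b : ι ⊕ ι) :
    ab (Classical.choose (h3 a b)) ≠ ab a ∧ ab (Classical.choose (h3 a b)) ≠ ab b :=
  Classical.choose_spec (h3 a b)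

/-- own-name copy of Y8 `Xs_eq` -/
theorem cedy10_Xs_eq (h : IsCE σ) (h3 : I3 ι) (hB : PB S h) (hI : PI S h) {a c b : ι ⊕ ι} (hac : ab a ≠ ab c) (hcb : ab c ≠ ab b) (hab : ab a ≠ ab b) (t u : K) :
    Ys S h a c b t u = Xs S h h3 a b (t * u) := by
  obtain ⟨h1, h2⟩ := cedy10_choose h3 a b
  unfold Xs
  rw [hB a c b hac hcb hab t u]
  exact hI a c _ b hac hcb (fun x => h1 x.symm) h2 hab (t * u)

/-- a permutation commuting with `ng` preserves `ab a ≠ ab b` -/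
theorem cedy10_ab_perm {π : Equiv.Perm (ι ⊕ ι)} (hπ : ∀ k, π (ng k) = ng (π k)) {x y : ι ⊕ ι} (hxy : ab x ≠ ab y) :
    ab (π x) ≠ ab (π y) := by
  intro e
  rcases ab_eq_iff.1 e with e1 | e1
  · exact hxy (by rw [π.injective e1])
  · rw [← hπ] at e1
    exact hxy (by rw [π.injective e1, ab_ng])

theorem cedy10_Xs_map (h : IsCE σ) (h3 : I3 ι) {a b : ι ⊕ ι} (hab : ab a ≠ ab b) (t : K) :
    σ (Xs S h h3 a b t) = S.x a b t := by
  obtain ⟨h1, h2⟩ := cedy10_choose h3 a b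
  unfold Xs
  rw [cedy10_Ys_map h (fun x => h1 x.symm) h2 hab, mul_one]

theorem cedy10_core (h : IsCE σ) (h3 : I3 ι) (hB : PB S h) (hI : PI S h)
    (hY2 : ∀ {a c b : ι ⊕ ι}, ab a ≠ ab c → ab c ≠ ab b → ab a ≠ ab b → ∀ s s' t : K,
      Ys S h a c b (s + s') t = Ys S h a c b s t * Ys S h a c b s' t)
    (hY9 : ∀ {a b : ι ⊕ ι}, ab a ≠ ab b → ∀ t : K,
      Xs S h h3 a b t = Xs S h h3 (ng b) (ng a) (-t)) :
    ∃ L : RootLift S h, ∀ a b t, L.X a b t = Xs S h h3 a b t := by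
  refine ⟨{ X := Xs S h h3, map := ?_, add := ?_, sym := ?_, eqv := ?_, c3 := ?_ }, fun _ _ _ => rfl⟩
  · intro a b hab t
    exact cedy10_Xs_map h h3 hab t
  · intro a b hab t u
    obtain ⟨h1, h2⟩ := cedy10_choose h3 a b
    unfold Xs
    exact hY2 (fun x => h1 x.symm) h2 hab t u 1
  · intro a b hab t
    exact hY9 hab t
  · intro g π d hg hπ e he a b hab t
    obtain ⟨h1, h2⟩ := cedy10_choose h3 a b
    have hac : ab a ≠ ab (Classical.choose (h3 a b)) := fun x => h1 x.symm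
    have e1 : Xs S h h3 a b t = Ys S h a (Classical.choose (h3 a b)) b t 1 := rfl
    rw [e1, cedy10_Ys_cj h hg he (cedy10_ne hac) (cedy10_ne h2) t 1,
      cedy10_Xs_eq h h3 hB hI (cedy10_ab_perm hπ hac) (cedy10_ab_perm hπ h2) (cedy10_ab_perm hπ hab)]
    congr 1
    have hc := hg.1 (Classical.choose (h3 a b))
    field_simp
  · intro a c b hac hcb hab t u
    rw [cedy10_Ys_eq h (cedy10_Xs_map h h3 hac t) (cedy10_Xs_map h h3 hcb u)]
    exact cedy10_Xs_eq h h3 hB hI hac hcb hab t u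

end Y

end Cfsg.Agent.Lib.helper7.CED
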