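import Mathlib
import Cfsg.Agent.Lib.helper7.CED.Defs
import Cfsg.Agent.Lib.Helper5.CEDY10core
import Cfsg.Agent.Lib.helper14.CEDY2
import Cfsg.Agent.Lib.Helper25.CEDY9

/-!
# Project CED (designer helper7; S2096 + S2097), row Y10 `rootLift_four`, VERBATIM (helper5):
`cedy10_core` on `helper14.CEDY2` (`Ys_add_left`) and `Helper25.CEDY9` (`Xs_sym`).
-/

set_option autoImplicit false

namespace Cfsg.Agent.Lib.helper7.CED

open Cfsg.Agent.Lib.helper15.St2 Cfsg.Agent.Lib.helper7.Ce Cfsg.Agent.Lib.helper3.STC Cfsg.Agent.Lib.Lead.STD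
  Cfsg.Agent.Lib.helper7.CEC

section Y

variable {K : Type*} [Field K] {ι : Type*} {Γ G : Type*} [Group Γ] [Group G] {S : SysD K ι G} {σ : Γ →* G}

/-- Y10 [M]  model CEC Y10 (`Helper16.CECY10`).  The structure: `map` `Ys_map`; `add` `Ys_add_left`; `sym` `Xs_sym`; `eqv`: `Ys_cj`, then `Xs_eq` (the images `π a`, `π c`, `π b` have pairwise different `ab` because `π`
is injective and commutes with `ng`); `c3`: `Ys_eq` (with `map`) and `Xs_eq`. -/
theorem rootLift_four (h : IsCE σ) (hC : HC S σ) (h3 : I3 ι) (hB : PB S h) (hI : PI S h) :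
    ∃ L : RootLift S h, ∀ a b t, L.X a b t = Xs S h h3 a b t :=
  cedy10_core h h3 hB hI (fun hac hcb hab s s' t => Ys_add_left h hC hac hcb hab s s' t)
    (fun hab t => Xs_sym h hC h3 hB hI hab t)

end Y

end Cfsg.Agent.Lib.helper7.CED
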