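import Mathlib
import Cfsg.Agent.Lib.Helper13.S5955.Defs
import Cfsg.Agent.Lib.Helper5.S5955Alt

set_option autoImplicit false

namespace Cfsg.Agent.Lib.Helper13.S5955

open Polynomial Module

/-- T5 [M] TISUB: a non-degenerate alternating space of dimension `≥ 2j` has a t.i. `j`-space. -/
theorem ti_sub {F : Type*} [Field F] {V : Type*} [AddCommGroup V] [Module F V]
    [FiniteDimensional F V] (B : LinearMap.BilinForm F V) (halt : ∀ v, B v v = 0)
    (N : Submodule F V) (hN : SND B N) (j : ℕ) (hj : 2 * j ≤ finrank F N) :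
    ∃ T : Submodule F V, T ≤ N ∧ STI B T ∧ finrank F T = j := by
  induction j generalizing N with
  | zero =>
    refine ⟨⊥, bot_le, ?_, finrank_bot F V⟩
    intro u hu v _
    rw [(Submodule.mem_bot F).mp hu, map_zero, LinearMap.zero_apply]
  | succ j ih =>
    obtain ⟨e, heN, N', hN'N, hnd, hdim, heN', hperp⟩ := h5_hyp B halt N hN (by omega)
    obtain ⟨T', hT'N', hT'ti, hT'dim⟩ := ih N' hnd (by omega)
    have he0 : e ≠ 0 := by
      intro h
      rw [h] at heN'
      exact heN' (Submodule.zero_mem _)
    have hdisj : Disjoint (Submodule.span F {e}) T' := by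
      rw [Submodule.disjoint_def]
      intro v hv hvT
      rw [Submodule.mem_span_singleton] at hv
      obtain ⟨a, rfl⟩ := hv
      by_cases ha : a = 0
      · rw [ha, zero_smul]
      · exfalso
        apply heN'
        have : e = a⁻¹ • (a • e) := by rw [smul_smul, inv_mul_cancel₀ ha, one_smul]
        rw [this]
        exact Submodule.smul_mem _ _ (hT'N' hvT)
    refine ⟨Submodule.span F {e} ⊔ T', ?_, ?_, ?_⟩
    · apply sup_le
      · rw [Submodule.span_le]
        intro v hv
        rw [Set.mem_singleton_iff.mp hv]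
        exact heN
      · exact hT'N'.trans hN'N
    · have key : ∀ u ∈ Submodule.span F {e} ⊔ T', ∃ a : F, ∃ t ∈ T', u = a • e + t := by
        intro u hu
        rw [Submodule.mem_sup] at hu
        obtain ⟨y, hy, t, ht, rfl⟩ := hu
        rw [Submodule.mem_span_singleton] at hy
        obtain ⟨a, rfl⟩ := hy
        exact ⟨a, t, ht, rfl⟩
      intro u hu v hv
      obtain ⟨a, t, ht, rfl⟩ := key u hu
      obtain ⟨b, s, hs, rfl⟩ := key v hv
      have h1 : B e s = 0 := hperp s (hT'N' hs)
      have h2 : B t e = 0 := h5_zero_swap B halt (hperp t (hT'N' ht))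
      simp only [map_add, LinearMap.add_apply, map_smul, LinearMap.smul_apply, halt e, h1, h2,
        hT'ti t ht s hs, smul_zero, add_zero]
    · have h1 := Submodule.finrank_sup_add_finrank_inf_eq (Submodule.span F {e}) T'
      rw [disjoint_iff.mp hdisj, finrank_bot, finrank_span_singleton he0] at h1
      omega

end Cfsg.Agent.Lib.Helper13.S5955
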