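import Mathlib
import Cfsg.Agent.Lib.Helper18.SDM.Defs
import Cfsg.Agent.Lib.Helper18.SDM.Defs2

/-!
# Project SDM (designer helper18), row E1: `diag_step_perm` (helper5).
-/

set_option autoImplicit false
set_option linter.unusedSectionVars false
set_option linter.unusedVariables false

namespace Cfsg.Agent.Lib.Helper18.QBN

open Cfsg.Agent.Lib.helper14.UBN QuadraticMap

universe u v

variable {F : Type u} [Field F] {W : Type v} [AddCommGroup W] [Module F W] {n : ℕ}

/-- the frame vectors are nonzero -/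
theorem sdme1_xv_ne_zero (i : Fin n) : (xv W i : QV F n W) ≠ 0 := by
  intro h
  have h1 : (xv W i : QV F n W).1 i = (0 : QV F n W).1 i := by rw [h]
  rw [xv_fst, if_pos rfl] at h1
  exact one_ne_zero h1

/-- a permutation element is monomial -/
theorem sdme1_permG_mem_NQ (hn : Even n) (Q₀ : QuadraticForm F W) (π : Equiv.Perm (Fin n))
    (hπ : RvC π) : permG hn Q₀ π hπ ∈ NQ n Q₀ := by
  refine ⟨fun i => ⟨π i, 1, by rw [permG_xv, one_smul]⟩, fun i => ⟨π.symm i, 1, ?_⟩⟩
  have h := le_inv_apply' (permG hn Q₀ π hπ) (xv W (π.symm i))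
  rw [permG_xv, Equiv.apply_symm_apply] at h
  rw [h, one_smul]

/-- the outer coordinates of `g x_a` vanish -/
theorem sdme1_outer_zero (hn : Even n) (Q₀ : QuadraticForm F W) (j : ℕ) (hj : j < n / 2)
    (a : Fin n) (ha : rk a = j) (g : GQ n Q₀) (hg : DiagOut j g) (i : Fin n)
    (hi : rk i < j ∨ rk (rv i) < j) : (le g (xv W a)).1 i = 0 := by
  have hi' : rk (rv i) < j ∨ rk (rv (rv i)) < j := by
    rw [rv_rv]
    exact hi.symm
  obtain ⟨c, hc⟩ := hg (rv i) hi'
  have hc0 : c ≠ 0 := by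
    intro h0
    rw [h0, zero_smul] at hc
    have h1 : le g (xv W (rv i)) = le g 0 := by rw [hc, map_zero]
    exact sdme1_xv_ne_zero (rv i) ((le g).injective h1)
  have h1 : polar (frQ n Q₀) (le g (xv W a)) (le g (xv W (rv i))) =
      polar (frQ n Q₀) (xv W a) (xv W (rv i)) := le_polar g _ _
  rw [hc, polar_smul_right, polar_xv hn, polar_xv hn, rv_rv, xv_fst, smul_eq_mul] at h1
  have hne : i ≠ a := by
    intro e
    rw [e] at hi
    have h2 := rk_add_rv a
    obtain ⟨m, hm⟩ := hn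
    omega
  rw [if_neg hne] at h1
  rcases mul_eq_zero.mp h1 with h | h
  · exact absurd h hc0
  · exact h

theorem diag_step_perm (hn : Even n) (Q₀ : QuadraticForm F W) (hQ₀ : ∀ w : W, Q₀ w = 0 → w = 0)
    (j : ℕ) (hj : j < n / 2) (a : Fin n) (ha : rk a = j) (g : GQ n Q₀) (hg : DiagOut j g) :
    ∃ h ∈ NQ n Q₀, DiagOut j (h * g) ∧ (le (h * g) (xv W a)).1 (rv a) ≠ 0 := by
  classical
  by_cases h0 : (le g (xv W a)).1 (rv a) ≠ 0
  · exact ⟨1, (NQ n Q₀).one_mem, by rw [one_mul]; exact hg, by rw [one_mul]; exact h0⟩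
  rw [not_not] at h0
  have hout := sdme1_outer_zero hn Q₀ j hj a ha g hg
  -- the vector `v = g x_a`
  have hv0 : le g (xv W a) ≠ 0 := by
    intro h
    have h1 : le g (xv W a) = le g 0 := by rw [h, map_zero]
    exact sdme1_xv_ne_zero a ((le g).injective h1)
  have hvQ : frQ n Q₀ (le g (xv W a)) = 0 := by rw [le_Q, frQ_xv Q₀ hn]
  -- some coordinate is nonzero
  have hex : ∃ c : Fin n, (le g (xv W a)).1 c ≠ 0 := by
    by_contra hall
    push Not at hall
    have h1 : (le g (xv W a)).1 = 0 := funext hall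
    have h2 : Q₀ (le g (xv W a)).2 = 0 := by
      rw [frQ_apply] at hvQ
      rw [h1] at hvQ
      simpa using hvQ
    have h3 := hQ₀ _ h2
    exact hv0 (Prod.ext h1 h3)
  obtain ⟨c, hc⟩ := hex
  have hcout : ¬ (rk c < j ∨ rk (rv c) < j) := fun h => hc (hout c h)
  have hca : rv a ≠ c := fun e => hc (e ▸ h0)
  have hra : rv (rv a) ≠ rv a := rv_ne_of_even hn (rv a)
  have hrc : rv c ≠ c := rv_ne_of_even hn c
  have haout : ¬ (rk a < j ∨ rk (rv a) < j) := by
    have h2 := rk_add_rv a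
    obtain ⟨m, hm⟩ := hn
    omega
  refine ⟨permG hn Q₀ (tauP (rv a) c hca hra hrc) (RvC_tauP hca hra hrc),
    sdme1_permG_mem_NQ hn Q₀ _ _, ?_, ?_⟩
  · intro i hi
    obtain ⟨d, hd⟩ := hg i hi
    refine ⟨d, ?_⟩
    rw [le_mul, hd, map_smul, permG_xv, tauP_apply, tauF_of_ne]
    · intro e
      apply haout
      rw [e, rv_rv] at hi
      exact hi.symm
    · intro e
      exact hcout (e ▸ hi)
    · intro e
      apply haout
      rw [e, rv_rv] at hi
      exact hi
    · intro e
      apply hcout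
      rw [e, rv_rv] at hi
      exact hi.symm
  · rw [le_mul, permG_fst, tauP_symm_apply, tauF_left]
    exact hc

end Cfsg.Agent.Lib.Helper18.QBN
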