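import Mathlib
import Cfsg.Agent.Lib.Helper10.C6P.Defs

set_option autoImplicit false
set_option linter.unusedVariables false
set_option linter.unusedSectionVars false

/-!
# Project C6P (S6000), helper5: common tools for the necessity rows G3 / G5A / G5B / GBIG.
`c6pg_not_allfix`: to refute `AllFix R r` it is enough to give `x ∈ SL_4`, `x ^ r = 1`, `x` not scalar, such that no `y ∈ N(R)` has the
conjugation invariants of `x` (order, non-scalar, traces of `y`, `y⁻¹`, ranks of `y - c`).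
-/

namespace Cfsg.Agent.Lib.Helper10.C6P

open Matrix

variable {F : Type*} [Field F]

theorem c6pg_det_of_mem (x : GL (Fin 4) F) (hx : x ∈ Cfsg.Geo.specialLinear (Fin 4) F) :
    (x : M4 F).det = 1 := by
  have h1 : Matrix.GeneralLinearGroup.det x = 1 := hx
  have := congrArg Units.val h1
  rwa [Matrix.GeneralLinearGroup.val_det_apply, Units.val_one] at this

theorem c6pg_mem_of_det (x : GL (Fin 4) F) (hx : (x : M4 F).det = 1) :
    x ∈ Cfsg.Geo.specialLinear (Fin 4) F := by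
  show Matrix.GeneralLinearGroup.det x = 1
  apply Units.ext
  rw [Matrix.GeneralLinearGroup.val_det_apply, Units.val_one]
  exact hx

theorem c6pg_scalar_of_conj (g x : GL (Fin 4) F) (c : F)
    (h : ((g⁻¹ * x * g : GL (Fin 4) F) : M4 F) = c • (1 : M4 F)) : (x : M4 F) = c • (1 : M4 F) := by
  obtain ⟨y, hy⟩ : ∃ y : GL (Fin 4) F, y = g⁻¹ * x * g := ⟨_, rfl⟩
  rw [← hy] at h
  have e : x = g * y * g⁻¹ := by rw [hy]; group
  have h2 : g * y * g⁻¹ = y := by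
    rw [mul_inv_eq_iff_eq_mul]
    apply Units.ext
    rw [Units.val_mul, Units.val_mul, h, Matrix.smul_mul, Matrix.mul_smul, Matrix.one_mul,
      Matrix.mul_one]
  rw [e, h2, h]

theorem c6pg_conj_val (g x : GL (Fin 4) F) :
    ((g⁻¹ * x * g : GL (Fin 4) F) : M4 F) = ((g⁻¹ : GL (Fin 4) F) : M4 F) * (x : M4 F) * (g : M4 F) := by
  rw [Units.val_mul, Units.val_mul]

theorem c6pg_inv_mul (g : GL (Fin 4) F) : ((g⁻¹ : GL (Fin 4) F) : M4 F) * (g : M4 F) = 1 := by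
  rw [← Units.val_mul, inv_mul_cancel, Units.val_one]

theorem c6pg_mul_inv (g : GL (Fin 4) F) : (g : M4 F) * ((g⁻¹ : GL (Fin 4) F) : M4 F) = 1 := by
  rw [← Units.val_mul, mul_inv_cancel, Units.val_one]

theorem c6pg_trace_conj (g x : GL (Fin 4) F) :
    Matrix.trace ((g⁻¹ * x * g : GL (Fin 4) F) : M4 F) = Matrix.trace (x : M4 F) := by
  rw [c6pg_conj_val, Matrix.trace_mul_comm, ← Matrix.mul_assoc, c6pg_mul_inv, Matrix.one_mul]

theorem c6pg_rank_conj (g x : GL (Fin 4) F) (c : F) :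
    (((g⁻¹ * x * g : GL (Fin 4) F) : M4 F) - c • (1 : M4 F)).rank = ((x : M4 F) - c • (1 : M4 F)).rank := by
  have e : ((g⁻¹ * x * g : GL (Fin 4) F) : M4 F) - c • (1 : M4 F) =
      ((g⁻¹ : GL (Fin 4) F) : M4 F) * ((x : M4 F) - c • (1 : M4 F)) * (g : M4 F) := by
    rw [c6pg_conj_val, Matrix.mul_sub, Matrix.sub_mul, Matrix.mul_smul, Matrix.smul_mul, Matrix.mul_one,
      c6pg_inv_mul]
  have hg : IsUnit (g : M4 F).det := (Matrix.isUnit_iff_isUnit_det _).mp g.isUnit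
  have hg' : IsUnit ((g⁻¹ : GL (Fin 4) F) : M4 F).det := (Matrix.isUnit_iff_isUnit_det _).mp (g⁻¹).isUnit
  rw [e, Matrix.rank_mul_eq_left_of_isUnit_det _ _ hg, Matrix.rank_mul_eq_right_of_isUnit_det _ _ hg']

theorem c6pg_inv_conj (g x : GL (Fin 4) F) : (g⁻¹ * x * g)⁻¹ = g⁻¹ * x⁻¹ * g := by group

theorem c6pg_pow_conj (g x : GL (Fin 4) F) (r : ℕ) : (g⁻¹ * x * g) ^ r = g⁻¹ * x ^ r * g := by
  have e0 : g⁻¹ * x * g = g⁻¹ * x * (g⁻¹)⁻¹ := by rw [inv_inv]
  rw [e0, conj_pow, inv_inv]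

/-- the common reduction of the necessity rows -/
theorem c6pg_not_allfix (R : Subgroup (GL (Fin 4) F)) (r : ℕ) (x : GL (Fin 4) F)
    (hx : x ∈ Cfsg.Geo.specialLinear (Fin 4) F) (hxr : x ^ r = 1)
    (hns : ∀ c : F, (x : M4 F) ≠ c • (1 : M4 F))
    (hno : ∀ y : GL (Fin 4) F, y ∈ Cfsg.Geo.subgroupNormalizer R → y ^ r = 1 →
      (∀ c : F, (y : M4 F) ≠ c • (1 : M4 F)) →
      Matrix.trace (y : M4 F) = Matrix.trace (x : M4 F) →
      Matrix.trace ((y⁻¹ : GL (Fin 4) F) : M4 F) = Matrix.trace ((x⁻¹ : GL (Fin 4) F) : M4 F) →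
      (∀ c : F, ((y : M4 F) - c • (1 : M4 F)).rank = ((x : M4 F) - c • (1 : M4 F)).rank) → False) :
    ¬ AllFix R r := by
  intro hall
  obtain ⟨g, -, hgN⟩ := hall x hx ⟨1, by rw [hxr, one_smul]; rfl⟩ hns
  refine hno (g⁻¹ * x * g) hgN ?_ ?_ (c6pg_trace_conj g x) ?_ (c6pg_rank_conj g x)
  · rw [c6pg_pow_conj, hxr]; group
  · intro c hc
    exact hns c (c6pg_scalar_of_conj g x c hc)
  · rw [c6pg_inv_conj]
    exact c6pg_trace_conj g x⁻¹

end Cfsg.Agent.Lib.Helper10.C6P
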