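import Mathlib
import Cfsg.Agent.Lib.Helper10.C6P.Defs
import Cfsg.Agent.Lib.Helper5.C6PG0
import Cfsg.Agent.Lib.Helper10.C6PNTF
import Cfsg.Agent.Lib.helper6.C6PNFIX
import Cfsg.Agent.Lib.helper6.C6PNCEN

set_option autoImplicit false
set_option linter.unusedVariables false
set_option linter.unusedSectionVars false
set_option linter.unnecessarySeqFocus false

/-!
# Project C6P (S6000), row G3 (helper5): `p ≡ 1 (mod 3)`: `x = diag(ω,ω,ω,1)` is not conjugate into `N(R)` (trace formula: `28 ∈ {4,16,64}`).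
-/

namespace Cfsg.Agent.Lib.Helper10.C6P

open Polynomial Matrix

variable {F : Type*} [Field F]

theorem c6pg3_mul (ω : F) (hω3 : ω ^ 3 = 1) :
    (Matrix.diagonal ![ω, ω, ω, 1] : M4 F) * Matrix.diagonal ![ω ^ 2, ω ^ 2, ω ^ 2, 1] = 1 := by
  rw [Matrix.diagonal_mul_diagonal, ← Matrix.diagonal_one]
  congr 1
  funext a
  fin_cases a <;> simp <;> linear_combination hω3

theorem c6pg3_mul' (ω : F) (hω3 : ω ^ 3 = 1) :
    (Matrix.diagonal ![ω ^ 2, ω ^ 2, ω ^ 2, 1] : M4 F) * Matrix.diagonal ![ω, ω, ω, 1] = 1 := by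
  rw [Matrix.diagonal_mul_diagonal, ← Matrix.diagonal_one]
  congr 1
  funext a
  fin_cases a <;> simp <;> linear_combination hω3

theorem c6pg3_det (ω : F) (hω3 : ω ^ 3 = 1) : (Matrix.diagonal ![ω, ω, ω, 1] : M4 F).det = 1 := by
  rw [Matrix.det_diagonal, Fin.prod_univ_four]
  simp
  linear_combination hω3

theorem c6pg3_pow (ω : F) (hω3 : ω ^ 3 = 1) : (Matrix.diagonal ![ω, ω, ω, 1] : M4 F) ^ 3 = 1 := by
  rw [Matrix.diagonal_pow, ← Matrix.diagonal_one]
  congr 1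
  funext a
  fin_cases a <;> simp [hω3]

section fin

variable [Fintype F] {p : ℕ} [Fact p.Prime] [CharP F p]

/-- G3 [M] : `p ≡ 1 (mod 3)`, `p ≥ 5`: `ω ∈ F`, `ω² + ω + 1 = 0`; `x = diag(ω,ω,ω,1) ∈ SL`, `x³ = 1`, not scalar; `y = g⁻¹ x g ∈ N(R)`: `tr y = 3ω + 1`, `tr y⁻¹ = 3ω² + 1`, product 7;
NTF: `28 = |C_R(y)| = 2^k` in `F`, NFIX: `2^k ≡ 64 (mod 3)`, NCEN: `k ∈ {2,4,6}`: `p ∣ 24`, `12` or `36`: impossible for `p ≥ 5`. -/
theorem nec_three (hF : Fintype.card F = p) (hp4 : p % 4 = 1) (hp3 : p % 3 = 1) {i : F} {R : Subgroup (GL (Fin 4) F)} (hctx : RCtx i R) :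
    ¬ AllFix R 3 := by
  have hpp : p.Prime := Fact.out
  haveI : Fact (Nat.Prime 3) := ⟨Nat.prime_three⟩
  have h3dvd : 3 ∣ Nat.card Fˣ := by
    classical
    rw [Nat.card_eq_fintype_card, Fintype.card_units, hF]
    omega
  obtain ⟨u, hu⟩ := exists_prime_orderOf_dvd_card' 3 h3dvd
  have hu3 : ((u : Fˣ) : F) ^ 3 = 1 := by
    have h1 : u ^ 3 = 1 := by rw [← hu]; exact pow_orderOf_eq_one u
    have := congrArg Units.val h1
    simpa using this
  have hu1 : ((u : Fˣ) : F) ≠ 1 := by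
    intro h
    have h1 : u = 1 := Units.ext h
    rw [h1, orderOf_one] at hu
    norm_num at hu
  obtain ⟨ω, hωdef⟩ : ∃ ω : F, ω = ((u : Fˣ) : F) := ⟨_, rfl⟩
  rw [← hωdef] at hu3 hu1
  have hω : ω ^ 2 + ω + 1 = 0 := by
    have h1 : (ω - 1) * (ω ^ 2 + ω + 1) = 0 := by
      have : (ω - 1) * (ω ^ 2 + ω + 1) = ω ^ 3 - 1 := by ring
      rw [this, hu3, sub_self]
    exact (mul_eq_zero.mp h1).resolve_left (sub_ne_zero.mpr hu1)
  set x : GL (Fin 4) F := ⟨Matrix.diagonal ![ω, ω, ω, 1], Matrix.diagonal ![ω ^ 2, ω ^ 2, ω ^ 2, 1],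
    c6pg3_mul ω hu3, c6pg3_mul' ω hu3⟩ with hx
  have hxval : (x : M4 F) = Matrix.diagonal ![ω, ω, ω, 1] := rfl
  have hxinv : ((x⁻¹ : GL (Fin 4) F) : M4 F) = Matrix.diagonal ![ω ^ 2, ω ^ 2, ω ^ 2, 1] := rfl
  have hxSL : x ∈ Cfsg.Geo.specialLinear (Fin 4) F := by
    apply c6pg_mem_of_det
    rw [hxval]
    exact c6pg3_det ω hu3
  have hx3 : x ^ 3 = 1 := by
    apply Units.ext
    rw [Units.val_pow_eq_pow_val, hxval, Units.val_one]
    exact c6pg3_pow ω hu3
  have hns : ∀ c : F, (x : M4 F) ≠ c • (1 : M4 F) := by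
    intro c hc
    have h1 := congrFun (congrFun hc 0) 0
    have h2 := congrFun (congrFun hc 3) 3
    rw [hxval] at h1 h2
    simp at h1 h2
    exact hu1 (h1.trans h2.symm)
  apply c6pg_not_allfix R 3 x hxSL hx3 hns
  intro y hyN hyr hyns htr htri _
  have htf := trace_formula hctx y hyN 3 (by decide) hyr
  have hfc := fix_count hctx y hyN 3 ⟨1, by rw [hyr, one_smul]; rfl⟩
  obtain ⟨k, hk2, hk6, hk⟩ := cent_card hctx y
  have htx : Matrix.trace (x : M4 F) = 3 * ω + 1 := by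
    rw [hxval]
    simp [Matrix.trace, Fin.sum_univ_four]
    ring
  have htxi : Matrix.trace ((x⁻¹ : GL (Fin 4) F) : M4 F) = 3 * ω ^ 2 + 1 := by
    rw [hxinv]
    simp [Matrix.trace, Fin.sum_univ_four]
    ring
  rw [htr, htri, htx, htxi, hk] at htf
  rw [hk] at hfc
  have h28 : ((2 ^ k : ℕ) : F) = 28 := by
    rw [← htf]
    linear_combination (36 : F) * hu3 + (12 : F) * hω
  have h2 := hpp.two_le
  have hk246 : k = 2 ∨ k = 4 ∨ k = 6 := by
    interval_cases k <;> simp [Nat.ModEq] at hfc <;> simp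
  rcases hk246 with rfl | rfl | rfl
  · have h0 : ((24 : ℕ) : F) = 0 := by
      push_cast
      push_cast at h28
      linear_combination (-1 : F) * h28
    have hdvd : p ∣ 24 := (CharP.cast_eq_zero_iff F p 24).mp h0
    have hle : p ≤ 24 := Nat.le_of_dvd (by norm_num) hdvd
    interval_cases p <;> omega
  · have h0 : ((12 : ℕ) : F) = 0 := by
      push_cast
      push_cast at h28
      linear_combination (-1 : F) * h28
    have hdvd : p ∣ 12 := (CharP.cast_eq_zero_iff F p 12).mp h0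
    have hle : p ≤ 12 := Nat.le_of_dvd (by norm_num) hdvd
    interval_cases p <;> omega
  · have h0 : ((36 : ℕ) : F) = 0 := by
      push_cast
      push_cast at h28
      linear_combination h28
    have hdvd : p ∣ 36 := (CharP.cast_eq_zero_iff F p 36).mp h0
    have hle : p ≤ 36 := Nat.le_of_dvd (by norm_num) hdvd
    interval_cases p <;> omega

end fin

end Cfsg.Agent.Lib.Helper10.C6P
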