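import Mathlib
import Cfsg.Agent.Lib.Helper10.C6P.Defs
import Cfsg.Agent.Lib.Helper5.C6PG0
import Cfsg.Agent.Lib.Helper10.C6PNPR

set_option autoImplicit false
set_option linter.unusedVariables false
set_option linter.unusedSectionVars false

/-!
# Project C6P (S6000), row G5B (helper5): `p = 5`: a transvection is not conjugate into `N(R)` (NPR).
-/

namespace Cfsg.Agent.Lib.Helper10.C6P

open Polynomial Matrix

variable {F : Type*} [Field F]

theorem c6pg5b_rank_pos (M : M4 F) (a b : Fin 4) (h : M a b ≠ 0) : 1 ≤ M.rank := by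
  by_contra hlt
  have h0 : M.rank = 0 := by omega
  unfold Matrix.rank at h0
  have h1 : LinearMap.range M.mulVecLin = ⊥ := Submodule.finrank_eq_zero.mp h0
  have h2 : M.mulVecLin = 0 := LinearMap.range_eq_bot.mp h1
  have h3 : M *ᵥ (Pi.single b 1) = 0 := by
    have := congrArg (fun f => f (Pi.single b 1)) h2
    simpa using this
  have h4 := congrFun h3 a
  rw [Matrix.mulVec_single_one] at h4
  exact h (by simpa using h4)

theorem c6pg5b_rank_single : (Matrix.single (0 : Fin 4) (1 : Fin 4) (1 : F)).rank = 1 := by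
  apply le_antisymm
  · have e : Matrix.single (0 : Fin 4) (1 : Fin 4) (1 : F) =
        Matrix.vecMulVec (Pi.single 0 1) (Pi.single 1 1) := by
      ext a b
      fin_cases a <;> fin_cases b <;> simp [Matrix.vecMulVec_apply, Matrix.single_apply, Pi.single_apply]
    rw [e]
    exact Matrix.rank_vecMulVec_le _ _
  · exact c6pg5b_rank_pos _ 0 1 (by simp)

section fin

variable [Fintype F] {p : ℕ} [Fact p.Prime] [CharP F p]

/-- G5B [M] : `p = 5`: `x = 1 + E_{01}` (`Matrix.transvection 0 1 1`): `det = 1`, `x^5 = 1`, not scalar; `y = g⁻¹ x g`: `y - 1 = g⁻¹ E g` has rank 1; NPR. -/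
theorem nec_five_b (hF : Fintype.card F = p) (hp5 : p = 5) {i : F} {R : Subgroup (GL (Fin 4) F)} (hctx : RCtx i R) : ¬ AllFix R 5 := by
  subst hp5
  have h5 : (5 : F) = 0 := by
    have := CharP.cast_eq_zero F 5
    exact_mod_cast this
  have h01 : (0 : Fin 4) ≠ 1 := by decide
  have hT : ∀ c d : F, Matrix.transvection (0 : Fin 4) 1 c * Matrix.transvection (0 : Fin 4) 1 d =
      Matrix.transvection (0 : Fin 4) 1 (c + d) := fun c d => Matrix.transvection_mul_transvection_same 0 1 h01 c d
  have hinv1 : Matrix.transvection (0 : Fin 4) 1 (1 : F) * Matrix.transvection (0 : Fin 4) 1 (-1 : F) = 1 := by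
    rw [hT, add_neg_cancel, Matrix.transvection_zero]
  have hinv2 : Matrix.transvection (0 : Fin 4) 1 (-1 : F) * Matrix.transvection (0 : Fin 4) 1 (1 : F) = 1 := by
    rw [hT, neg_add_cancel, Matrix.transvection_zero]
  set x : GL (Fin 4) F := ⟨Matrix.transvection (0 : Fin 4) 1 (1 : F), Matrix.transvection (0 : Fin 4) 1 (-1 : F), hinv1, hinv2⟩ with hx
  have hxval : (x : M4 F) = Matrix.transvection (0 : Fin 4) 1 (1 : F) := rfl
  have hxSL : x ∈ Cfsg.Geo.specialLinear (Fin 4) F := by
    apply c6pg_mem_of_det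
    rw [hxval]
    exact Matrix.det_transvection_of_ne 0 1 h01 1
  have hx5 : x ^ 5 = 1 := by
    apply Units.ext
    rw [Units.val_pow_eq_pow_val, hxval, Units.val_one]
    have e : (Matrix.transvection (0 : Fin 4) 1 (1 : F)) ^ 5 = Matrix.transvection (0 : Fin 4) 1 (5 : F) := by
      rw [pow_succ, pow_succ, pow_succ, pow_succ, pow_one, hT, hT, hT, hT]
      norm_num
    rw [e, h5, Matrix.transvection_zero]
  have hE : (x : M4 F) - (1 : F) • (1 : M4 F) = Matrix.single (0 : Fin 4) 1 (1 : F) := by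
    rw [hxval, Matrix.transvection, one_smul, add_sub_cancel_left]
  have hns : ∀ c : F, (x : M4 F) ≠ c • (1 : M4 F) := by
    intro c hc
    have h1 := congrFun (congrFun hc 0) 1
    rw [hxval] at h1
    simp [Matrix.transvection, Matrix.single_apply] at h1
  apply c6pg_not_allfix R 5 x hxSL hx5 hns
  intro y hyN hyr hyns _ _ hrank
  have hr1 : ((y : M4 F) - (1 : F) • (1 : M4 F)).rank = 1 := by
    rw [hrank 1, hE]
    exact c6pg5b_rank_single
  exact no_rank_one hctx y hyN 1 one_ne_zero hr1 5 (by decide) ⟨1, by rw [hyr, one_smul]; rfl⟩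

end fin

end Cfsg.Agent.Lib.Helper10.C6P
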