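import Mathlib
import Cfsg.Agent.Lib.Helper19.G2V.Defs
import Cfsg.Agent.Lib.Helper19.G2VComm
import Cfsg.Agent.Lib.Helper5.G2VM2

/-!
# Project G2V (S2461), row Q1 (`Qp_form`), verbatim.
-/

set_option autoImplicit false

namespace Cfsg.Agent.Lib.Helper19.G2V

open Cfsg.Lie Cfsg.Lie.ChevalleyDatum Matrix
open Cfsg.Agent.Lib.helper8
open Cfsg.Agent.Lib.helper23.P4V

universe u

variable {F : Type u} [Field F]

theorem g2vq1_add (r : ℕ) (hr : r < 12) (a b : F) : X r a * X r b = X r (a + b) := by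
  apply Units.ext
  unfold X
  rw [Units.val_mul, h8xU_val, h8xU_val, h8xU_val]
  exact (hB.add F r hr a b)

theorem g2vq1_add' (r : ℕ) (hr : r < 12) (a b : F) (z : GG F) :
    X r a * (X r b * z) = X r (a + b) * z := by
  rw [← mul_assoc, g2vq1_add r hr]

theorem g2vq1_zero (r : ℕ) : X r (0 : F) = 1 := by
  apply Units.ext
  unfold X
  rw [h8xU_val, hB.zero]
  rfl

theorem g2vq1_inv (r : ℕ) (hr : r < 12) (a : F) : (X r a)⁻¹ = X r (-a) := by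
  rw [inv_eq_iff_mul_eq_one, g2vq1_add r hr, add_neg_cancel, g2vq1_zero]

/-- the generators of `Qp` -/
theorem g2vq1_gen (r : ℕ) (hr : chevG2.IsPosRoot r) (hn : ¬ chevG2.InRootSub ({0} : Set ℕ) r) :
    r ∈ [6, 8, 9, 10, 11] := by
  have h12 : r < 12 := hr.1
  have h7 : r ≠ 7 := by
    rintro rfl
    exact hn (g2vm2_inRootSub 7 (by simp))
  interval_cases r
  · exact absurd hr (by decide)
  · exact absurd hr (by decide)
  · exact absurd hr (by decide)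
  · exact absurd hr (by decide)
  · exact absurd hr (by decide)
  · exact absurd hr (by decide)
  · simp
  · exact absurd rfl h7
  · simp
  · simp
  · simp
  · simp

/-- the normal form (right associated) -/
def g2vq1_nf (t1 t2 t3 t4 t5 : F) : GG F := X 6 t1 * (X 8 t2 * (X 9 t3 * (X 10 t4 * X 11 t5)))

theorem g2vq1_nf_mul (a1 a2 a3 a4 a5 b1 b2 b3 b4 b5 : F) :
    g2vq1_nf a1 a2 a3 a4 a5 * g2vq1_nf b1 b2 b3 b4 b5 =
      g2vq1_nf (a1 + b1) (a2 + b2) (a3 + b3) (a4 + b4) (a5 + b5 - a4 * b1 - 3 * a3 * b2) := by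
  -- tail forms of the commutation rules
  have c6_8 : ∀ (t u : F) (z : GG F), X 8 u * (X 6 t * z) = X 6 t * (X 8 u * z) := by
    intro t u z
    rw [← mul_assoc, g2vc_c_6_8, mul_assoc]
  have c6_9 : ∀ (t u : F) (z : GG F), X 9 u * (X 6 t * z) = X 6 t * (X 9 u * z) := by
    intro t u z
    rw [← mul_assoc, g2vc_c_6_9, mul_assoc]
  have c6_10 : ∀ (t u : F) (z : GG F),
      X 10 u * (X 6 t * z) = X 6 t * (X 10 u * (X 11 (-(t * u)) * z)) := by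
    intro t u z
    rw [← mul_assoc, g2vc_c_6_10, mul_assoc, mul_assoc]
  have c6_11 : ∀ (t u : F) (z : GG F), X 11 u * (X 6 t * z) = X 6 t * (X 11 u * z) := by
    intro t u z
    rw [← mul_assoc, g2vc_c_6_11, mul_assoc]
  have c8_9 : ∀ (t u : F) (z : GG F),
      X 9 u * (X 8 t * z) = X 8 t * (X 9 u * (X 11 (-(3 * t * u)) * z)) := by
    intro t u z
    rw [← mul_assoc, g2vc_c_8_9, mul_assoc, mul_assoc]
  have c8_10 : ∀ (t u : F) (z : GG F), X 10 u * (X 8 t * z) = X 8 t * (X 10 u * z) := by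
    intro t u z
    rw [← mul_assoc, g2vc_c_8_10, mul_assoc]
  have c8_11 : ∀ (t u : F) (z : GG F), X 11 u * (X 8 t * z) = X 8 t * (X 11 u * z) := by
    intro t u z
    rw [← mul_assoc, g2vc_c_8_11, mul_assoc]
  have c9_10 : ∀ (t u : F) (z : GG F), X 10 u * (X 9 t * z) = X 9 t * (X 10 u * z) := by
    intro t u z
    rw [← mul_assoc, g2vc_c_9_10, mul_assoc]
  have c9_11 : ∀ (t u : F) (z : GG F), X 11 u * (X 9 t * z) = X 9 t * (X 11 u * z) := by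
    intro t u z
    rw [← mul_assoc, g2vc_c_9_11, mul_assoc]
  have c10_11 : ∀ (t u : F) (z : GG F), X 11 u * (X 10 t * z) = X 10 t * (X 11 u * z) := by
    intro t u z
    rw [← mul_assoc, g2vc_c_10_11, mul_assoc]
  have d10_11 : ∀ (t u : F), X 11 u * X 10 t = X 10 t * X 11 u := fun t u => g2vc_c_10_11 t u
  unfold g2vq1_nf
  simp only [mul_assoc]
  -- move `X 6 b1` to the left
  rw [c6_11 b1 a5, c6_10 b1 a4, c6_9 b1 a3, c6_8 b1 a2, g2vq1_add' 6 (by decide)]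
  -- move `X 8 b2` to the left
  rw [c8_11 b2 a5, c8_11 b2, c8_10 b2 a4, c8_9 b2 a3, g2vq1_add' 8 (by decide)]
  -- move `X 9 b3` to the left
  rw [c9_11 b3 a5, c9_11 b3, c9_10 b3 a4, c9_11 b3, g2vq1_add' 9 (by decide)]
  -- move `X 10 b4` to the left
  rw [c10_11 b4 a5, c10_11 b4, g2vq1_add' 10 (by decide), c10_11 (a4 + b4)]
  -- collect `X 11`
  rw [g2vq1_add' 11 (by decide), g2vq1_add' 11 (by decide), g2vq1_add 11 (by decide)]
  congr 5
  ring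

theorem g2vq1_nf_one : g2vq1_nf (0 : F) 0 0 0 0 = 1 := by
  unfold g2vq1_nf
  simp only [g2vq1_zero, mul_one]

theorem g2vq1_nf_inv (a1 a2 a3 a4 a5 : F) :
    (g2vq1_nf a1 a2 a3 a4 a5)⁻¹ = g2vq1_nf (-a1) (-a2) (-a3) (-a4) (-a5 - a4 * a1 - 3 * a3 * a2) := by
  rw [inv_eq_iff_mul_eq_one, g2vq1_nf_mul]
  rw [← g2vq1_nf_one]
  congr 1 <;> ring

theorem g2vq1_nf_gen (r : ℕ) (hr : r ∈ [6, 8, 9, 10, 11]) (t : F) :
    ∃ t1 t2 t3 t4 t5 : F, X r t = g2vq1_nf t1 t2 t3 t4 t5 := by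
  simp only [List.mem_cons, List.mem_nil_iff, or_false] at hr
  unfold g2vq1_nf
  rcases hr with rfl | rfl | rfl | rfl | rfl
  · exact ⟨t, 0, 0, 0, 0, by simp only [g2vq1_zero, mul_one]⟩
  · exact ⟨0, t, 0, 0, 0, by simp only [g2vq1_zero, mul_one, one_mul]⟩
  · exact ⟨0, 0, t, 0, 0, by simp only [g2vq1_zero, mul_one, one_mul]⟩
  · exact ⟨0, 0, 0, t, 0, by simp only [g2vq1_zero, mul_one, one_mul]⟩
  · exact ⟨0, 0, 0, 0, t, by simp only [g2vq1_zero, one_mul]⟩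

theorem g2vq1_form (u : GG F) (hu : u ∈ Qp F) :
    ∃ t1 t2 t3 t4 t5 : F, u = g2vq1_nf t1 t2 t3 t4 t5 := by
  unfold Qp ChevalleyDatum.unipotentRadical at hu
  induction hu using Subgroup.closure_induction with
  | mem g hg =>
    obtain ⟨r, t, hr, hn, hg⟩ := hg
    have : g = X r t := by
      apply Units.ext
      rw [hg]
      rfl
    rw [this]
    exact g2vq1_nf_gen r (g2vq1_gen r hr hn) t
  | one => exact ⟨0, 0, 0, 0, 0, g2vq1_nf_one.symm⟩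
  | mul g h _ _ ihg ihh =>
    obtain ⟨a1, a2, a3, a4, a5, rfl⟩ := ihg
    obtain ⟨b1, b2, b3, b4, b5, rfl⟩ := ihh
    exact ⟨_, _, _, _, _, g2vq1_nf_mul a1 a2 a3 a4 a5 b1 b2 b3 b4 b5⟩
  | inv g _ ihg =>
    obtain ⟨a1, a2, a3, a4, a5, rfl⟩ := ihg
    exact ⟨_, _, _, _, _, g2vq1_nf_inv a1 a2 a3 a4 a5⟩

/-- the normal form lies in `Qp` -/
theorem g2vq1_nf_mem (t1 t2 t3 t4 t5 : F) : g2vq1_nf t1 t2 t3 t4 t5 ∈ Qp F := by
  unfold g2vq1_nf
  exact Subgroup.mul_mem _ (X_mem_Qp 6 (by simp) _) (Subgroup.mul_mem _ (X_mem_Qp 8 (by simp) _)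
    (Subgroup.mul_mem _ (X_mem_Qp 9 (by simp) _) (Subgroup.mul_mem _ (X_mem_Qp 10 (by simp) _)
      (X_mem_Qp 11 (by simp) _))))

/-- **Q1**. -/
theorem Qp_form (u : GG F) (hu : u ∈ Qp F) :
    ∃ t1 t2 t3 t4 t5 : F, u = X 6 t1 * X 8 t2 * X 9 t3 * X 10 t4 * X 11 t5 := by
  obtain ⟨t1, t2, t3, t4, t5, h⟩ := g2vq1_form u hu
  refine ⟨t1, t2, t3, t4, t5, ?_⟩
  rw [h]
  unfold g2vq1_nf
  simp only [mul_assoc]

/-- the multiplication of `Qp` in the left associated normal form -/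
theorem g2vq1_mul (a1 a2 a3 a4 a5 b1 b2 b3 b4 b5 : F) :
    (X 6 a1 * X 8 a2 * X 9 a3 * X 10 a4 * X 11 a5) * (X 6 b1 * X 8 b2 * X 9 b3 * X 10 b4 * X 11 b5) =
      X 6 (a1 + b1) * X 8 (a2 + b2) * X 9 (a3 + b3) * X 10 (a4 + b4) *
        X 11 (a5 + b5 - a4 * b1 - 3 * a3 * b2) := by
  have h := g2vq1_nf_mul a1 a2 a3 a4 a5 b1 b2 b3 b4 b5
  unfold g2vq1_nf at h
  simp only [mul_assoc] at h ⊢
  exact h

end Cfsg.Agent.Lib.Helper19.G2V
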