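import Mathlib
import Cfsg.Agent.Lib.Helper19.G2V.Defs
import Cfsg.Agent.Lib.Helper5.G2VM2

/-!
# Project G2V (S2461), row Q3 (`Pp_dec`): core form, with the statement of row I5 (`Lv_le_iota`) as a
hypothesis.
-/

set_option autoImplicit false

namespace Cfsg.Agent.Lib.Helper19.G2V

open Cfsg.Lie Cfsg.Lie.ChevalleyDatum Matrix
open Cfsg.Agent.Lib.helper8
open Cfsg.Agent.Lib.helper23.P4V

universe u

variable {F : Type u} [Field F]

/-- `Pp = Lv * Qp` as a set -/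
theorem g2vq3_dec (g : GG F) (hg : g ∈ Pp F) : ∃ l ∈ Lv F, ∃ u ∈ Qp F, g = l * u := by
  rw [← g2vm2_sup, Subgroup.sup_eq_closure] at hg
  induction hg using Subgroup.closure_induction with
  | mem g hg =>
    rcases hg with hg | hg
    · exact ⟨1, Subgroup.one_mem _, g, hg, (one_mul g).symm⟩
    · exact ⟨g, hg, 1, Subgroup.one_mem _, (mul_one g).symm⟩
  | one => exact ⟨1, Subgroup.one_mem _, 1, Subgroup.one_mem _, (mul_one 1).symm⟩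
  | mul g h _ _ ihg ihh =>
    obtain ⟨l1, hl1, u1, hu1, rfl⟩ := ihg
    obtain ⟨l2, hl2, u2, hu2, rfl⟩ := ihh
    refine ⟨l1 * l2, Subgroup.mul_mem _ hl1 hl2, (l2⁻¹ * u1 * l2) * u2, Subgroup.mul_mem _ ?_ hu2, ?_⟩
    · have h := (g2vm2_Pp_norm l2⁻¹ (Subgroup.inv_mem _ (Lv_le_Pp hl2)) u1).1 hu1
      rwa [inv_inv] at h
    · group
  | inv g _ ihg =>
    obtain ⟨l1, hl1, u1, hu1, rfl⟩ := ihg
    refine ⟨l1⁻¹, Subgroup.inv_mem _ hl1, l1 * u1⁻¹ * l1⁻¹, ?_, ?_⟩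
    · exact (g2vm2_Pp_norm l1 (Lv_le_Pp hl1) u1⁻¹).1 (Subgroup.inv_mem _ hu1)
    · group

/-- **Q3**, core form: `hI5` is the statement of row I5 (`Lv_le_iota`). -/
theorem g2vq3_core (hI5 : ∀ (g : GG F), g ∈ Lv F → ∃ A : GL (Fin 2) F, g = iota A)
    (g : GG F) (hg : g ∈ Pp F) : ∃ A : GL (Fin 2) F, ∃ u ∈ Qp F, g = iota A * u := by
  obtain ⟨l, hl, u, hu, rfl⟩ := g2vq3_dec g hg
  obtain ⟨A, rfl⟩ := hI5 l hl
  exact ⟨A, u, hu, rfl⟩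

end Cfsg.Agent.Lib.Helper19.G2V
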