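import Mathlib
import Cfsg.Agent.Lib.Helper19.S5954.DefsTop
import Cfsg.Agent.Lib.Helper19.S5954.X
import Cfsg.Agent.Lib.Helper19.S5954.G
import Cfsg.Agent.Lib.helper3.S5953.Defs
import Cfsg.Agent.Lib.Helper24.ElD
import Cfsg.Agent.Lib.Helper10.S5954USTD

set_option autoImplicit false
set_option linter.unusedVariables false
set_option linter.unusedSectionVars false

/-!
# S5954 row OMIN2 (helper5), CORE: `i ≡ 2 (mod 4)`: a non-zero nondegenerate invariant `N ≤ ker Φ_r(y)` contains a nondegenerate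
invariant subspace of dimension `c = b`; the rows OADJ and OSELF enter as hypotheses `hadj`, `hself`.
-/

namespace Cfsg.Agent.Lib.Helper19.S5954

open Polynomial Module Cfsg.Agent.Lib.helper3
open Cfsg.Agent.Lib.helper3.S5953 (cc bb hermI fixS cycS HInv)
open Cfsg.Agent.Lib.Helper24

section cyc
variable {F : Type*} [Field F] {V : Type*} [AddCommGroup V] [Module F V]

/-- the `F[y]`-span of `v` -/
noncomputable def s5954omin2_cyc (y : Module.End F V) (v : V) : Submodule F V :=
  Submodule.span F (Set.range fun k : ℕ => (y ^ k) v)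

theorem s5954omin2_cyc_self (y : Module.End F V) (v : V) : v ∈ s5954omin2_cyc y v :=
  Submodule.subset_span ⟨0, by simp⟩

theorem s5954omin2_cyc_inv (y : Module.End F V) (v : V) : ElInv y (s5954omin2_cyc y v) := by
  have h : (s5954omin2_cyc y v).map y ≤ s5954omin2_cyc y v := by
    unfold s5954omin2_cyc
    rw [Submodule.map_span_le]
    rintro _ ⟨k, rfl⟩
    apply Submodule.subset_span
    refine ⟨k + 1, ?_⟩
    show (y ^ (k + 1)) v = y ((y ^ k) v)
    rw [pow_succ', Module.End.mul_apply]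
  intro w hw
  exact h (Submodule.mem_map_of_mem hw)

theorem s5954omin2_cyc_le (y : Module.End F V) (v : V) (W : Submodule F V) (hW : ElInv y W) (hv : v ∈ W) :
    s5954omin2_cyc y v ≤ W := by
  unfold s5954omin2_cyc
  rw [Submodule.span_le]
  rintro _ ⟨k, rfl⟩
  exact el_pow_mem hW k hv

theorem s5954omin2_cyc_dim [FiniteDimensional F V] (y : Module.End F V) (v : V) (f : F[X])
    (hf : f.natDegree ≠ 0) (hfv : aeval y f v = 0) : finrank F (s5954omin2_cyc y v) ≤ f.natDegree := by
  have hle : s5954omin2_cyc y v ≤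
      Submodule.span F (Set.range (fun k : Fin f.natDegree => (y ^ (k : ℕ)) v)) := by
    unfold s5954omin2_cyc
    rw [Submodule.span_le]
    rintro _ ⟨k, rfl⟩
    have h1 : (y ^ k) v = aeval y (X ^ k % f) v := by
      have h2 : (X ^ k : F[X]) = f * (X ^ k / f) + X ^ k % f := (EuclideanDomain.div_add_mod _ _).symm
      have h3 : (y ^ k) v = aeval y (X ^ k : F[X]) v := by rw [map_pow, aeval_X]
      rw [h3]
      conv_lhs => rw [h2]
      rw [map_add, LinearMap.add_apply, mul_comm, map_mul, Module.End.mul_apply, hfv, map_zero, zero_add]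
    show (y ^ k) v ∈ _
    rw [h1]
    exact el_low_mem y v f.natDegree _ (natDegree_mod_lt _ hf)
  calc finrank F (s5954omin2_cyc y v)
      ≤ finrank F (Submodule.span F (Set.range (fun k : Fin f.natDegree => (y ^ (k : ℕ)) v))) :=
        Submodule.finrank_mono hle
    _ ≤ Fintype.card (Fin f.natDegree) := finrank_range_le_card _
    _ = f.natDegree := Fintype.card_fin _

end cyc

theorem s5954omin2_core {F : Type*} [Field F] [Fintype F] {p : ℕ} [Fact p.Prime] [CharP F p] {q n : ℕ}
    (hF : Fintype.card F = q ^ 2) {r : ℕ} [Fact r.Prime] (hrp : r ≠ p) (hr2 : r ≠ 2)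
    (hi : orderOf (q : ZMod r) % 4 = 2) {y : Module.End F (Fin n → F)} (h : S5953.HCtx q r 1 y)
    (σ : F →+* F) (hσ : ∀ a, σ a = a ^ q) (hσσ : ∀ a, σ (σ a) = a) (hne : ∃ a, σ a ≠ a)
    (hadj : ∀ (P : F[X]) (u v : Fin n → F),
      hermI (Fin n) F q (aeval y P u) v = hermI (Fin n) F q u (aeval (y ^ (r - 1)) (P.map σ) v))
    (hself : ∀ (P : F[X]) (u : Fin n → F), aeval y P u = 0 → aeval (y ^ (r - 1)) (P.map σ) u = 0)
    (N : Submodule F (Fin n → F)) (hN : HInv y N) (hNc : N ≤ cycS r y) (hNnd : S5953.HND q N) (hN0 : N ≠ ⊥) :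
    ∃ U : Submodule F (Fin n → F), U ≤ N ∧ HInv y U ∧ S5953.HND q U ∧
      finrank F U = cc (orderOf (q : ZMod r)) := by
  classical
  have hrpr : r.Prime := Fact.out
  have hB : ∀ u v : Fin n → F, hermI (Fin n) F q u v = stdH n σ v u :=
    fun u v => (x_std σ hσ n v u).symm
  have hadd : ∀ a v v' : Fin n → F,
      hermI (Fin n) F q a (v + v') = hermI (Fin n) F q a v + hermI (Fin n) F q a v' := by
    intro a v v'
    rw [hB, hB, hB, map_add, LinearMap.add_apply]
  have hzero : ∀ a : Fin n → F, hermI (Fin n) F q a 0 = 0 := by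
    intro a
    rw [hB, map_zero, LinearMap.zero_apply]
  set b := orderOf ((Fintype.card F : ℕ) : ZMod r) with hb
  have hbpos : 0 < b := el_ord_pos (F := F) r hrp
  have hΦ0 : cyclotomic r F ≠ 0 := cyclotomic_ne_zero r F
  have hyr : y ^ r = 1 := by rw [h.pow, one_smul]
  have hyy : ∀ w, y ((y ^ (r - 1)) w) = w := by
    intro w
    rw [← Module.End.mul_apply, ← pow_succ', Nat.sub_add_cancel hrpr.one_le, hyr, Module.End.one_apply]
  have hcyc : ∀ u ∈ N, aeval y (cyclotomic r F) u = 0 := fun u hu => LinearMap.mem_ker.mp (hNc hu)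
  have hdvd : ∀ U : Submodule F (Fin n → F), U ≤ N → HInv y U → b ∣ finrank F U := fun U hU hUi =>
    el_dvd_dim y U hUi (cyclotomic r F) hΦ0 (fun u hu => hcyc u (hU hu)) b hbpos
      (el_cyc_deg r hrp)
  -- step 1: an irreducible factor `f` with `N_f ≠ ⊥`
  obtain ⟨u0, hu0N, hu00⟩ := Submodule.exists_mem_ne_zero_of_ne_bot hN0
  obtain ⟨w, hwN, hw0, f, hf, hfΦ, hfw⟩ := el_find y ⊥ N hN (cyclotomic r F) (cyclotomic r F).natDegree
    (cyclotomic r F) hΦ0 le_rfl dvd_rfl u0 hu0N (by simpa using hu00)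
    (by rw [hcyc u0 hu0N]; exact Submodule.zero_mem _)
  have hw0' : w ≠ 0 := by simpa using hw0
  have hfw' : aeval y f w = 0 := by simpa using hfw
  have hfdeg : f.natDegree = b := el_cyc_deg r hrp f hf hfΦ
  obtain ⟨g, hg⟩ := hfΦ
  haveI : NeZero ((r : ℕ) : F) := ⟨el_cast_ne_zero (F := F) r hrp⟩
  have hsep : (cyclotomic r F).Separable := separable_cyclotomic r F
  rw [hg] at hsep
  obtain ⟨S, T, hST⟩ := hsep.isCoprime
  -- the decomposition `v = v_g + v_f`
  have hdec : ∀ v : Fin n → F, v = aeval y (S * f) v + aeval y (T * g) v := by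
    intro v
    rw [← LinearMap.add_apply, ← map_add, hST, map_one, Module.End.one_apply]
  have hkillg : ∀ v ∈ N, aeval y g (aeval y (S * f) v) = 0 := by
    intro v hv
    rw [← Module.End.mul_apply, ← map_mul]
    have e : g * (S * f) = S * cyclotomic r F := by rw [hg]; ring
    rw [e, map_mul, Module.End.mul_apply, hcyc v hv, map_zero]
  have hkillf : ∀ v ∈ N, aeval y f (aeval y (T * g) v) = 0 := by
    intro v hv
    rw [← Module.End.mul_apply, ← map_mul]
    have e : f * (T * g) = T * cyclotomic r F := by rw [hg]; ring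
    rw [e, map_mul, Module.End.mul_apply, hcyc v hv, map_zero]
  set Nf := N ⊓ LinearMap.ker (aeval y f) with hNf
  have hNfinv : HInv y Nf := by
    intro v hv
    exact ⟨hN v hv.1, el_inv_ker y f v hv.2⟩
  -- `N_f ⟂ N_g`
  have horth : ∀ a ∈ Nf, ∀ v ∈ N, hermI (Fin n) F q a (aeval y (S * f) v) = 0 := by
    intro a ha v hv
    have ha1 : a = aeval y (T * g) a := by
      have h1 := hdec a
      rw [map_mul _ S f, Module.End.mul_apply, LinearMap.mem_ker.mp ha.2, map_zero, zero_add] at h1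
      exact h1
    have hk : aeval y (T * g) (aeval y (S * f) v) = 0 := by
      rw [map_mul _ T g, Module.End.mul_apply, hkillg v hv, map_zero]
    calc hermI (Fin n) F q a (aeval y (S * f) v)
        = hermI (Fin n) F q (aeval y (T * g) a) (aeval y (S * f) v) := by rw [← ha1]
      _ = hermI (Fin n) F q a (aeval (y ^ (r - 1)) ((T * g).map σ) (aeval y (S * f) v)) := hadj _ _ _
      _ = hermI (Fin n) F q a 0 := by rw [hself (T * g) _ hk]
      _ = 0 := hzero a
  have hNfnd : S5953.HND q Nf := by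
    intro a ha hav
    apply hNnd a ha.1
    intro v hv
    have hvf : aeval y (T * g) v ∈ Nf :=
      ⟨el_aeval_mem hN _ hv, LinearMap.mem_ker.mpr (hkillf v hv)⟩
    rw [hdec v, hadd, horth a ha v hv, hav _ hvf, add_zero]
  have hNf0 : Nf ≠ ⊥ := by
    intro hbot
    have hwNf : w ∈ Nf := ⟨hwN, LinearMap.mem_ker.mpr hfw'⟩
    rw [hbot, Submodule.mem_bot] at hwNf
    exact hw0' hwNf
  have hNfnd' : HND (stdH n σ) Nf := (x_fnd σ hσ hσσ n Nf).mp (by
    intro u hu hu0
    by_contra hcon
    push Not at hcon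
    exact hu0 (hNfnd u hu hcon))
  obtain ⟨v, hvNf, hvv⟩ := h_aniso0 hne (std_facts n σ hσσ).1 Nf hNfnd' hNf0
  have hvv' : hermI (Fin n) F q v v ≠ 0 := by rwa [hB]
  set U := s5954omin2_cyc y v with hU
  have hUinv : HInv y U := s5954omin2_cyc_inv y v
  have hUNf : U ≤ Nf := s5954omin2_cyc_le y v Nf hNfinv hvNf
  have hUN : U ≤ N := hUNf.trans inf_le_left
  have hvU : v ∈ U := s5954omin2_cyc_self y v
  have hUdim_le : finrank F U ≤ b := by
    rw [← hfdeg]
    exact s5954omin2_cyc_dim y v f (by rw [hfdeg]; omega) (LinearMap.mem_ker.mp hvNf.2)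
  have hUdvd : b ∣ finrank F U := hdvd U hUN hUinv
  have hUpos : 0 < finrank F U := by
    apply Nat.pos_of_ne_zero
    intro h0
    have hUbot : U = ⊥ := Submodule.finrank_eq_zero.mp h0
    rw [hUbot, Submodule.mem_bot] at hvU
    apply hvv'
    rw [hvU]
    exact hzero 0
  have hUdim : finrank F U = b := Nat.le_antisymm hUdim_le (Nat.le_of_dvd hUpos hUdvd)
  -- the radical
  set R := U ⊓ (S5953.hperp q U) with hR
  have hRinv : HInv y R := by
    intro u hu
    refine ⟨hUinv u hu.1, ?_⟩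
    refine (S5953.mem_hperp q U (y u)).mpr ?_
    intro w' hw'
    have h1 := h.pres u ((y ^ (r - 1)) w')
    rw [hyy] at h1
    rw [h1]
    exact (S5953.mem_hperp q U u).mp hu.2 _ (el_pow_mem hUinv (r - 1) hw')
  have hRdvd : b ∣ finrank F R := hdvd R (inf_le_left.trans hUN) hRinv
  have hRlt : finrank F R < finrank F U := by
    apply Submodule.finrank_lt_finrank_of_lt
    refine lt_of_le_of_ne inf_le_left ?_
    intro hRU
    have hvR : v ∈ R := by rw [hRU]; exact hvU
    exact hvv' ((S5953.mem_hperp q U v).mp hvR.2 v hvU)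
  have hR0 : R = ⊥ := by
    have h0 : finrank F R = 0 := by
      rcases hRdvd with ⟨k, hk⟩
      rw [hUdim] at hRlt
      rcases Nat.eq_zero_or_pos k with rfl | hk0
      · simpa using hk
      · exfalso
        nlinarith
    exact Submodule.finrank_eq_zero.mp h0
  refine ⟨U, hUN, hUinv, ?_, ?_⟩
  · intro u hu huw
    have huR : u ∈ R := ⟨hu, huw⟩
    rw [hR0, Submodule.mem_bot] at huR
    exact huR
  · rw [hUdim, hb, hF]
    have e1 : ((q ^ 2 : ℕ) : ZMod r) = (q : ZMod r) ^ 2 := by push_cast; rfl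
    rw [e1, orderOf_pow' _ (by norm_num : (2 : ℕ) ≠ 0)]
    have hg2 : Nat.gcd (orderOf (q : ZMod r)) 2 = 2 := Nat.gcd_eq_right (by omega)
    rw [hg2]
    unfold S5953.cc
    rw [if_neg (by omega), if_pos hi]

end Cfsg.Agent.Lib.Helper19.S5954
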