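import Mathlib
import Cfsg.Agent.Lib.Helper19.S5954.DefsTop
import Cfsg.Agent.Lib.helper3.S5953.Defs
import Cfsg.Agent.Lib.Helper5.S5954OMIN2core
import Cfsg.Agent.Lib.helper23.S5954OADJ
import Cfsg.Agent.Lib.helper23.S5954OSELF

set_option autoImplicit false
set_option linter.unusedVariables false
set_option linter.unusedSectionVars false

/-!
# S5954 row OMIN2 (helper5): `o_min_nd_two` = `s5954omin2_core` + OADJ + OSELF (helper23) + `x_frob`.
-/

namespace Cfsg.Agent.Lib.Helper19.S5954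

open Polynomial Module Cfsg.Agent.Lib.helper3
open Cfsg.Agent.Lib.helper3.S5953 (cc bb hermI fixS cycS HInv)

/-- OMIN2 [L]: `i ≡ 2 (mod 4)` (`c = b`): a non-zero nondegenerate invariant `N ≤ ker Φ_r(y)` contains a nondegenerate invariant subspace of dimension `c`.
Pick an irreducible factor `f` of `Φ_r` with `N_f = N ⊓ ker f(y) ≠ ⊥`, `g = Φ_r / f` (coprime to `f`: `Φ_r` is separable), `N = N_f ⊕ N_g`;
`N_f ⟂ N_g` (`u = g(y) u''` with `u'' ∈ N_f`; OADJ + OSELF for `g`), so `N_f` is nondegenerate; `v ∈ N_f` non-isotropic (`h_aniso0` via OBR);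
`U = span (y ^ k v)` is invariant, killed by `f(y)`, of dimension `b` (`el_dvd_dim`, `el_cyc_deg`; `≤ b` by `el_low_mem`), its radical is invariant of
dimension `< b` divisible by `b`, so zero. -/
theorem o_min_nd_two {F : Type*} [Field F] [Fintype F] {p : ℕ} [Fact p.Prime] [CharP F p] {q n : ℕ}
    (hF : Fintype.card F = q ^ 2) {r : ℕ} [Fact r.Prime] (hrp : r ≠ p) (hr2 : r ≠ 2)
    (hi : orderOf (q : ZMod r) % 4 = 2) {y : Module.End F (Fin n → F)} (h : S5953.HCtx q r 1 y)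
    (N : Submodule F (Fin n → F)) (hN : HInv y N) (hNc : N ≤ cycS r y) (hNnd : S5953.HND q N) (hN0 : N ≠ ⊥) :
    ∃ U : Submodule F (Fin n → F), U ≤ N ∧ HInv y U ∧ S5953.HND q U ∧
      finrank F U = cc (orderOf (q : ZMod r)) := by
  obtain ⟨σ, hσ, hσσ, hne⟩ := x_frob hF
  have hrpos : 0 < r := (Fact.out : r.Prime).pos
  have hyr : y ^ r = 1 := by rw [h.pow, one_smul]
  exact s5954omin2_core hF hrp hr2 hi h σ hσ hσσ hne
    (fun P u v => o_adj hrpos σ hσ hσσ h P u v)
    (fun P u hu => o_selfdual hF hrp hr2 σ hσ hi hyr P u hu)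
    N hN hNc hNnd hN0

end Cfsg.Agent.Lib.Helper19.S5954
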