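import Mathlib
import Cfsg.Agent.Lib.helper17.SLP.Defs
import Cfsg.Agent.Lib.helper3.SP4.Defs
import Cfsg.Agent.Lib.Helper22.SU4.Defs
import Cfsg.Prelude.Def_Classical
import Cfsg.Agent.Lib.helper7.U3PF3

/-!
# Project SU4 (designer helper22), rows F2 `exists_gensT` and T0 `conj_spanT` (helper5), verbatim.
-/

set_option autoImplicit false

namespace Cfsg.Agent.Lib.Helper22.SU4

open Cfsg.Agent.Lib.helper17.SLP Cfsg.Agent.Lib.helper3.SP4

universe u v

section F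

variable {F : Type u} {K : Type u} [Field F] [Field K]

/-- F2 [S-M]  `ζ` from `IsCyclic.exists_generator`, `ζ₀` from U3P `norm_gen` (`helper7.U3PF3`): `ι ζ₀ = ζ * σ ζ = ι (nm ζ)`, so `nmu ζ = ζ₀` (`Units.ext`, `D.ι_injective`); `ιu ζ₀ = ζ * ζ ^ q = ζ ^ (q + 1)` (`hσ`). -/
theorem exists_gensT [Fintype F] [Fintype K] (q : ℕ) (hF : Fintype.card F = q ^ 2) (hK : Fintype.card K = q)
    (D : Tw F K) (hσ : ∀ x, D.σ x = x ^ q) :
    ∃ (ζ : Fˣ) (ζ₀ : Kˣ), (∀ y : Fˣ, y ∈ Subgroup.zpowers ζ) ∧ (∀ y : Kˣ, y ∈ Subgroup.zpowers ζ₀) ∧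
      D.nmu ζ = ζ₀ ∧ D.ιu ζ₀ = ζ ^ (q + 1) := by
  obtain ⟨ζ, hζ⟩ := IsCyclic.exists_generator (α := Fˣ)
  obtain ⟨bK, hb, hgen⟩ := Cfsg.Agent.Lib.Helper19.U3P.norm_gen hF hK D.σ hσ D.ι D.fix ζ hζ
  have hn : D.nmu ζ = bK := by
    apply Units.ext
    apply D.ι_injective
    rw [D.nmu_coe, D.hnm, hb]
  refine ⟨ζ, bK, hζ, hgen, hn, ?_⟩
  apply Units.ext
  rw [D.ιu_coe, hb, hσ, pow_succ, mul_comm]
  push_cast
  rfl

end F

/-- T0 [S-M]  Model SP4 T4 `act_span` (`Helper29`): `{t | g * X t * g⁻¹ = X' (f t)}` is an additive subgroup (`hX`, `hX'`, `map_add`; `X 0 = 1`, `X (-t) = (X t)⁻¹` follow from additivity) containing `S`. -/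
theorem conj_spanT {A : Type*} {B : Type*} [AddGroup A] [AddGroup B] {G : Type*} [Group G] (X : A → G) (X' : B → G)
    (hX : ∀ s t, X (s + t) = X s * X t) (hX' : ∀ s t, X' (s + t) = X' s * X' t) (g : G) (f : A →+ B)
    (S : Set A) (hS : AddSubgroup.closure S = ⊤) (h : ∀ t ∈ S, g * X t * g⁻¹ = X' (f t)) :
    ∀ t, g * X t * g⁻¹ = X' (f t) := by
  have hX0 : X 0 = 1 := by
    have := hX 0 0
    rw [add_zero] at this
    exact (mul_eq_left.mp this.symm)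
  have hX'0 : X' 0 = 1 := by
    have := hX' 0 0
    rw [add_zero] at this
    exact (mul_eq_left.mp this.symm)
  have hXn : ∀ t, X (-t) = (X t)⁻¹ := fun t =>
    eq_inv_of_mul_eq_one_left (by rw [← hX, neg_add_cancel, hX0])
  have hX'n : ∀ t, X' (-t) = (X' t)⁻¹ := fun t =>
    eq_inv_of_mul_eq_one_left (by rw [← hX', neg_add_cancel, hX'0])
  intro t
  have ht : t ∈ AddSubgroup.closure S := by rw [hS]; exact AddSubgroup.mem_top t
  induction ht using AddSubgroup.closure_induction with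
  | mem x hx => exact h x hx
  | zero => rw [hX0, map_zero, hX'0, mul_one, mul_inv_cancel]
  | add x y _ _ ihx ihy =>
    rw [hX, map_add, hX', ← ihx, ← ihy]
    group
  | neg x _ ih =>
    rw [hXn, map_neg, hX'n, ← ih]
    group

end Cfsg.Agent.Lib.Helper22.SU4
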