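import Mathlib
import Cfsg.Agent.Lib.Helper19.SU5.Defs
import Cfsg.Agent.Lib.Helper19.SU5.Defs2
import Cfsg.Agent.Lib.Helper27.STU.Defs2
import Cfsg.Agent.Lib.Helper27.STU.Defs3
import Cfsg.Agent.Lib.Helper24.STUM3
import Cfsg.Agent.Lib.Helper16.STUH4
import Cfsg.Agent.Lib.Helper5.STULA5
import Cfsg.Agent.Lib.Helper5.SU5F8
import Cfsg.Agent.Lib.Helper5.SU5T0

/-!
# Project SU5 (designer helper19; S2291 odd case), rows Z5 `model_weylU` and Z6 `model_toractU`: the cores (helper5).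
The STATEMENT of Z1 `match_dictU` is the hypothesis `hZ1`; everything else is on main (`SysU.isMon_ws`, `SysU.isMon_wl`, `SysU.isMon_hs`,
`SysU.isMon_hl`, `Lam.exists_of_c`, part 1 rows T0 F8).  Extras `su5z5_*`.
-/

set_option autoImplicit false
set_option linter.unusedSectionVars false
set_option linter.unusedSimpArgs false

namespace Cfsg.Agent.Lib.Helper19.SU5

open Cfsg.Agent.Lib.helper17.SLP Cfsg.Agent.Lib.helper3.SP4 Cfsg.Agent.Lib.Helper22.SU4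
open Cfsg.Agent.Lib.Helper27.STU (Lam XpM XmM XpS XmS SUm XpU XmU SysU)
open Cfsg.Agent.Lib.helper3.STC (ng sws)
open Cfsg.Agent.Lib.helper3.SU5 (Dat Tab5 Pre)

universe u v w

section Z

variable {F : Type u} {K : Type u} [Field F] [Field K] [StarRing F] [Fintype F] [Fintype K] {D : Tw F K}

variable {G₀ : Type v} [Group G₀] (S : SysU F True (Fin 2) G₀)

/-- `cj g` in product form -/
theorem su5z5_cj_eq (g x : G₀) : g * x * g⁻¹ = Cfsg.Agent.Lib.helper15.St2.cj g x := rfl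

/-- `act (-1)` fixes the elements with `v = 0` -/
theorem su5z5_act_neg_one_tr (x : F) : Lam.act (-1) (Lam.tr x : Lam F True) = Lam.tr x := by
  ext
  · simp
  · simp

theorem su5z5_act_neg_neg (ξ : Lam F True) : Lam.act (-1) (Lam.act (-1) ξ) = ξ := by
  ext
  · simp
  · simp

theorem su5z5_act_one (ξ : Lam F True) : Lam.act 1 ξ = ξ := by
  ext
  · simp
  · simp

/-- the long Weyl element `w_b = wl 2 ξ₀` on `xs 1 (-2)` -/
theorem su5z5_wb_xs (hFK : Fintype.card F = Fintype.card K ^ 2) (P : RO D) (u : F) :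
    Cfsg.Agent.Lib.helper15.St2.cj (S.wl (Sum.inl 1) (Lam.tr (P.ζ : F))) (S.xs (Sum.inl 0) (Sum.inr 1) u) =
      S.xs (Sum.inl 0) (Sum.inl 1) ((P.kap)⁻¹ * u) := by
  have hk := su5f8_kap_ne hFK P
  have hc0 : (Lam.tr (P.ζ : F) : Lam F True).c ≠ 0 := hk
  have mb := S.isMon_wl (Sum.inl 1) hc0
  have h := mb.2.1 (Sum.inl 0) (Sum.inr 1) (by decide) (by decide) u
  have e1 : (Equiv.swap (Sum.inl 1 : Fin 2 ⊕ Fin 2) (ng (Sum.inl 1))) (Sum.inl 0) = Sum.inl 0 := by decide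
  have e2 : (Equiv.swap (Sum.inl 1 : Fin 2 ⊕ Fin 2) (ng (Sum.inl 1))) (Sum.inr 1) = Sum.inl 1 := by decide
  have e3 : Cfsg.Agent.Lib.Helper27.STU.dwl (Sum.inl 1 : Fin 2 ⊕ Fin 2) (Lam.tr (P.ζ : F) : Lam F True) (Sum.inl 0) = 1 := by
    simp [Cfsg.Agent.Lib.Helper27.STU.dwl, ng]
  have e4 : Cfsg.Agent.Lib.Helper27.STU.dwl (Sum.inl 1 : Fin 2 ⊕ Fin 2) (Lam.tr (P.ζ : F) : Lam F True) (Sum.inr 1) = P.kap := by
    simp [Cfsg.Agent.Lib.Helper27.STU.dwl, ng, RO.kap]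
  rw [e1, e2, e3, e4, one_mul] at h
  exact h

/-- the long Weyl element `w_b = wl 2 ξ₀` fixes `xl 1 η` -/
theorem su5z5_wb_xl (hFK : Fintype.card F = Fintype.card K ^ 2) (P : RO D) (η : Lam F True) :
    Cfsg.Agent.Lib.helper15.St2.cj (S.wl (Sum.inl 1) (Lam.tr (P.ζ : F))) (S.xl (Sum.inl 0) η) = S.xl (Sum.inl 0) η := by
  have hk := su5f8_kap_ne hFK P
  have hs := su5f8_star_kap P
  have hc0 : (Lam.tr (P.ζ : F) : Lam F True).c ≠ 0 := hk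
  have mb := S.isMon_wl (Sum.inl 1) hc0
  have h := mb.2.2 (Sum.inl 0) η
  have e1 : (Equiv.swap (Sum.inl 1 : Fin 2 ⊕ Fin 2) (ng (Sum.inl 1))) (Sum.inl 0) = Sum.inl 0 := by decide
  have e3 : Cfsg.Agent.Lib.Helper27.STU.dwl (Sum.inl 1 : Fin 2 ⊕ Fin 2) (Lam.tr (P.ζ : F) : Lam F True) (Sum.inl 0) = 1 := by
    simp [Cfsg.Agent.Lib.Helper27.STU.dwl, ng]
  have e5 : Cfsg.Agent.Lib.Helper27.STU.d0l (Lam.tr (P.ζ : F) : Lam F True) = 1 := by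
    have hc : (Lam.tr (P.ζ : F) : Lam F True).c = P.kap := rfl
    unfold Cfsg.Agent.Lib.Helper27.STU.d0l
    rw [hc, hs, neg_div, neg_neg, div_self hk]
  rw [e1, e3, e5, inv_one, mul_one, su5z5_act_one] at h
  exact h

/-- the short Weyl element `w_a = ws 1 2 1` on `xs 1 (-2)` -/
theorem su5z5_wa_xs (u : F) :
    Cfsg.Agent.Lib.helper15.St2.cj (S.ws (Sum.inl 0) (Sum.inl 1) 1) (S.xs (Sum.inl 0) (Sum.inr 1) u) =
      S.xs (Sum.inl 0) (Sum.inr 1) (star u) := by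
  have ma := S.isMon_ws (a := Sum.inl 0) (b := Sum.inl 1) (by decide) (by decide) (1 : F) one_ne_zero
  have h := ma.2.1 (Sum.inl 0) (Sum.inr 1) (by decide) (by decide) u
  have e1 : (sws (Sum.inl 0 : Fin 2 ⊕ Fin 2) (Sum.inl 1)) (Sum.inl 0) = Sum.inl 1 := by decide
  have e2 : (sws (Sum.inl 0 : Fin 2 ⊕ Fin 2) (Sum.inl 1)) (Sum.inr 1) = Sum.inr 0 := by decide
  have e3 : Cfsg.Agent.Lib.Helper27.STU.dws (Sum.inl 0 : Fin 2 ⊕ Fin 2) (Sum.inl 1) (1 : F) (Sum.inl 0) = -1 := by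
    simp [Cfsg.Agent.Lib.Helper27.STU.dws, ng]
  have e4 : Cfsg.Agent.Lib.Helper27.STU.dws (Sum.inl 0 : Fin 2 ⊕ Fin 2) (Sum.inl 1) (1 : F) (Sum.inr 1) = 1 := by
    simp [Cfsg.Agent.Lib.Helper27.STU.dws, ng]
  rw [e1, e2, e3, e4, inv_one, mul_one] at h
  rw [h, S.sym (Sum.inl 1) (Sum.inr 0) (by decide) (by decide)]
  have e5 : ng (Sum.inr 0 : Fin 2 ⊕ Fin 2) = Sum.inl 0 := rfl
  have e6 : ng (Sum.inl 1 : Fin 2 ⊕ Fin 2) = Sum.inr 1 := rfl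
  rw [e5, e6]
  congr 1
  simp

/-- the short Weyl element `w_a = ws 1 2 1` on `xl 1` -/
theorem su5z5_wa_xl (η : Lam F True) :
    Cfsg.Agent.Lib.helper15.St2.cj (S.ws (Sum.inl 0) (Sum.inl 1) 1) (S.xl (Sum.inl 0) η) =
      S.xl (Sum.inl 1) (Lam.act (-1) η) := by
  have ma := S.isMon_ws (a := Sum.inl 0) (b := Sum.inl 1) (by decide) (by decide) (1 : F) one_ne_zero
  have h := ma.2.2 (Sum.inl 0) η
  have e1 : (sws (Sum.inl 0 : Fin 2 ⊕ Fin 2) (Sum.inl 1)) (Sum.inl 0) = Sum.inl 1 := by decide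
  have e3 : Cfsg.Agent.Lib.Helper27.STU.dws (Sum.inl 0 : Fin 2 ⊕ Fin 2) (Sum.inl 1) (1 : F) (Sum.inl 0) = -1 := by
    simp [Cfsg.Agent.Lib.Helper27.STU.dws, ng]
  rw [e1, e3, inv_one, mul_one] at h
  exact h

/-- Z5 core -/
theorem su5z5_core (hFK : Fintype.card F = Fintype.card K ^ 2) (P : RO D)
    (ψa : Matrix.SpecialLinearGroup (Fin 2) F →* G₀) (ψb : ↥(SUm F True) →* G₀)
    (hZ1 : (∀ t, rx ψa t = S.xs (Sum.inl 0) (Sum.inl 1) t) ∧ rn ψa = S.ws (Sum.inl 0) (Sum.inl 1) 1 ∧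
      (∀ s : Fˣ, rh ψa s = S.hs (Sum.inl 0) (Sum.inl 1) (s : F)) ∧
      (∀ ξ, yb ψb ξ = S.xl (Sum.inl 1) ξ) ∧ (∀ ξ, ybm ψb ξ = S.xl (Sum.inr 1) ξ) ∧
      rn (phiL P ψb) = S.wl (Sum.inl 1) (Lam.tr (P.ζ : F)) ∧
      ∀ (r : Fˣ) (η : Lam F True), η.c = (r : F) * P.kap →
        hbF P ψb r = S.hl (Sum.inl 1) η (Lam.tr (P.ζ : F))) :
    (rn (phiL P ψb) * rn ψa * (rn (phiL P ψb))⁻¹) * rx ψa 1 * (rn (phiL P ψb) * rn ψa * (rn (phiL P ψb))⁻¹)⁻¹ =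
        (rx ψa 1)⁻¹ ∧
      Commute (rn ψa * rn (phiL P ψb) * (rn ψa)⁻¹) (rx (phiL P ψb) 1) := by
  obtain ⟨hrx, hrn, -, hyb, -, hwb, -⟩ := hZ1
  have hk := su5f8_kap_ne hFK P
  have hs := su5f8_star_kap P
  have hadd : ∀ t u, S.xs (Sum.inl 0) (Sum.inl 1) t * S.xs (Sum.inl 0) (Sum.inl 1) u = S.xs (Sum.inl 0) (Sum.inl 1) (t + u) :=
    S.adds (Sum.inl 0) (Sum.inl 1) (by decide) (by decide)
  constructor
  · rw [su5z5_cj_eq, hrx, hrn, hwb, ← Cfsg.Agent.Lib.helper15.St2.cj_cj, ← Cfsg.Agent.Lib.helper15.St2.cj_cj]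
    -- `cj w_b⁻¹ (xs 1 2 1) = xs 1 (-2) κ`
    have h1 : Cfsg.Agent.Lib.helper15.St2.cj (S.wl (Sum.inl 1) (Lam.tr (P.ζ : F)))⁻¹ (S.xs (Sum.inl 0) (Sum.inl 1) 1) =
        S.xs (Sum.inl 0) (Sum.inr 1) P.kap := by
      apply Cfsg.Agent.Lib.helper15.St2.cj_inv_of
      rw [su5z5_wb_xs S hFK P, inv_mul_cancel₀ hk]
    rw [h1, su5z5_wa_xs, su5z5_wb_xs S hFK P, hs]
    have e : (P.kap)⁻¹ * -P.kap = -1 := by
      rw [mul_neg, inv_mul_cancel₀ hk]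
    rw [e]
    apply eq_inv_of_mul_eq_one_left
    rw [hadd, neg_add_cancel]
    have h0 := hadd 0 0
    rw [add_zero] at h0
    exact mul_eq_left.mp h0
  · have e0 : rx (phiL P ψb) 1 = S.xl (Sum.inl 1) (Lam.tr ((P.ζ : F) * D.ι 1)) := by
      rw [(phiL_basicU P ψa ψb).1 1, hyb]
    have key : Cfsg.Agent.Lib.helper15.St2.cj (rn ψa * rn (phiL P ψb) * (rn ψa)⁻¹) (rx (phiL P ψb) 1) = rx (phiL P ψb) 1 := by
      rw [e0, hrn, hwb, ← Cfsg.Agent.Lib.helper15.St2.cj_cj, ← Cfsg.Agent.Lib.helper15.St2.cj_cj]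
      have h1 : Cfsg.Agent.Lib.helper15.St2.cj (S.ws (Sum.inl 0) (Sum.inl 1) 1)⁻¹ (S.xl (Sum.inl 1) (Lam.tr ((P.ζ : F) * D.ι 1))) =
          S.xl (Sum.inl 0) (Lam.tr ((P.ζ : F) * D.ι 1)) := by
        apply Cfsg.Agent.Lib.helper15.St2.cj_inv_of
        rw [su5z5_wa_xl, su5z5_act_neg_one_tr]
      rw [h1, su5z5_wb_xl S hFK P, su5z5_wa_xl, su5z5_act_neg_one_tr]
    unfold Cfsg.Agent.Lib.helper15.St2.cj at key
    show _ * _ = _ * _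
    calc rn ψa * rn (phiL P ψb) * (rn ψa)⁻¹ * rx (phiL P ψb) 1
        = (rn ψa * rn (phiL P ψb) * (rn ψa)⁻¹ * rx (phiL P ψb) 1 * (rn ψa * rn (phiL P ψb) * (rn ψa)⁻¹)⁻¹) *
            (rn ψa * rn (phiL P ψb) * (rn ψa)⁻¹) := by group
      _ = rx (phiL P ψb) 1 * (rn ψa * rn (phiL P ψb) * (rn ψa)⁻¹) := by rw [key]

end Z

end Cfsg.Agent.Lib.Helper19.SU5
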