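import Mathlib
import Cfsg.Agent.Lib.Helper5.SU5Z5core

/-!
# Project SU5 (designer helper19; S2291 odd case), row Z6 `model_toractU`: the core (helper5).
The STATEMENT of Z1 `match_dictU` is the hypothesis `hZ1`; `SysU.isMon_hs`, `SysU.isMon_hl` (`Helper16.STUH4`) with `hW_all` (`Helper24.STUM3`),
`Lam.exists_of_c` (`Helper5.STULA5`), part 1 row T0.
-/

set_option autoImplicit false
set_option linter.unusedSectionVars false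
set_option linter.unusedSimpArgs false

namespace Cfsg.Agent.Lib.Helper19.SU5

open Cfsg.Agent.Lib.helper17.SLP Cfsg.Agent.Lib.helper3.SP4 Cfsg.Agent.Lib.Helper22.SU4
open Cfsg.Agent.Lib.Helper27.STU (Lam XpM XmM XpS XmS SUm XpU XmU SysU)
open Cfsg.Agent.Lib.helper3.STC (ng sws)
open Cfsg.Agent.Lib.helper3.SU5 (Dat Tab5 Pre)

universe u v w

section Z

variable {F : Type u} {K : Type u} [Field F] [Field K] [StarRing F] [Fintype F] [Fintype K] {D : Tw F K}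

variable {G₀ : Type v} [Group G₀] (S : SysU F True (Fin 2) G₀)

/-- the short torus element `h_a(s) = hs 1 2 s` on `xl 2` -/
theorem su5z6_ha_xl (s : F) (hs0 : s ≠ 0) (ξ : Lam F True) :
    Cfsg.Agent.Lib.helper15.St2.cj (S.hs (Sum.inl 0) (Sum.inl 1) s) (S.xl (Sum.inl 1) ξ) =
      S.xl (Sum.inl 1) (Lam.act s⁻¹ ξ) := by
  have m := S.isMon_hs S.hW_all (a := Sum.inl 0) (b := Sum.inl 1) (by decide) (by decide) s hs0
  have h := m.2.2 (Sum.inl 1) ξ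
  have e3 : Cfsg.Agent.Lib.Helper27.STU.dhs (Sum.inl 0 : Fin 2 ⊕ Fin 2) (Sum.inl 1) s (Sum.inl 1) = s⁻¹ := by
    simp [Cfsg.Agent.Lib.Helper27.STU.dhs, ng]
  rw [e3, inv_one, mul_one, Equiv.Perm.one_apply] at h
  exact h

/-- the long torus element `hl 2 η ξ₀` on `xs 1 2` -/
theorem su5z6_hl_xs {η ξ₀ : Lam F True} (hη : η.c ≠ 0) (hξ₀ : ξ₀.c ≠ 0) (t : F) :
    Cfsg.Agent.Lib.helper15.St2.cj (S.hl (Sum.inl 1) η ξ₀) (S.xs (Sum.inl 0) (Sum.inl 1) t) =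
      S.xs (Sum.inl 0) (Sum.inl 1) ((η.c / ξ₀.c)⁻¹ * t) := by
  have m := S.isMon_hl S.hW_all (Sum.inl 1) hη hξ₀
  have h := m.2.1 (Sum.inl 0) (Sum.inl 1) (by decide) (by decide) t
  have e3 : Cfsg.Agent.Lib.Helper27.STU.dhl (Sum.inl 1 : Fin 2 ⊕ Fin 2) (η.c / ξ₀.c) (Sum.inl 0) = 1 := by
    simp [Cfsg.Agent.Lib.Helper27.STU.dhl, ng]
  have e4 : Cfsg.Agent.Lib.Helper27.STU.dhl (Sum.inl 1 : Fin 2 ⊕ Fin 2) (η.c / ξ₀.c) (Sum.inl 1) = η.c / ξ₀.c := by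
    simp [Cfsg.Agent.Lib.Helper27.STU.dhl, ng]
  rw [e3, e4, one_mul, Equiv.Perm.one_apply, Equiv.Perm.one_apply] at h
  exact h

/-- Z6 core -/
theorem su5z6_core (hFK : Fintype.card F = Fintype.card K ^ 2)
    (hF : Cfsg.Agent.Lib.Helper27.STU.Hyp F) (P : RO D)
    (ψa : Matrix.SpecialLinearGroup (Fin 2) F →* G₀) (ψb : ↥(SUm F True) →* G₀)
    (hZ1 : (∀ t, rx ψa t = S.xs (Sum.inl 0) (Sum.inl 1) t) ∧ rn ψa = S.ws (Sum.inl 0) (Sum.inl 1) 1 ∧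
      (∀ s : Fˣ, rh ψa s = S.hs (Sum.inl 0) (Sum.inl 1) (s : F)) ∧
      (∀ ξ, yb ψb ξ = S.xl (Sum.inl 1) ξ) ∧ (∀ ξ, ybm ψb ξ = S.xl (Sum.inr 1) ξ) ∧
      rn (phiL P ψb) = S.wl (Sum.inl 1) (Lam.tr (P.ζ : F)) ∧
      ∀ (r : Fˣ) (η : Lam F True), η.c = (r : F) * P.kap →
        hbF P ψb r = S.hl (Sum.inl 1) η (Lam.tr (P.ζ : F))) :
    (∀ (s : Fˣ) (ξ : Lam F True), rh ψa s * yb ψb ξ * (rh ψa s)⁻¹ = yb ψb (Lam.act ((s⁻¹ : Fˣ) : F) ξ)) ∧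
      (∀ (r : Fˣ) (t : F), hbF P ψb r * rx ψa t * (hbF P ψb r)⁻¹ = rx ψa (((r⁻¹ : Fˣ) : F) * t)) ∧
      (rh ψa P.ζ)⁻¹ * rx (phiL P ψb) 1 * rh ψa P.ζ = rx (phiL P ψb) (P.ζ₀ : K) := by
  obtain ⟨hrx, -, hrh, hyb, -, -, hhb⟩ := hZ1
  have hk := su5f8_kap_ne hFK P
  have hsk := su5f8_star_kap P
  have part1 : ∀ (s : Fˣ) (ξ : Lam F True), rh ψa s * yb ψb ξ * (rh ψa s)⁻¹ = yb ψb (Lam.act ((s⁻¹ : Fˣ) : F) ξ) := by
    intro s ξ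
    rw [su5z5_cj_eq, hrh, hyb, hyb, su5z6_ha_xl S (s : F) s.ne_zero ξ, Units.val_inv_eq_inv_val]
  refine ⟨part1, ?_, ?_⟩
  · intro r t
    obtain ⟨η, hη⟩ := Lam.exists_of_c hF trivial ((r : F) * P.kap)
    have hη0 : η.c ≠ 0 := by rw [hη]; exact mul_ne_zero r.ne_zero hk
    have hc0 : (Lam.tr (P.ζ : F) : Lam F True).c ≠ 0 := hk
    rw [su5z5_cj_eq, hhb r η hη, hrx, hrx, su5z6_hl_xs S hη0 hc0 t]
    congr 2
    have hc : (Lam.tr (P.ζ : F) : Lam F True).c = P.kap := rfl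
    rw [hc, hη, mul_div_assoc, div_self hk, mul_one, Units.val_inv_eq_inv_val]
  · have e1 : rx (phiL P ψb) 1 = yb ψb (Lam.tr ((P.ζ : F) * D.ι 1)) := (phiL_basicU P ψa ψb).1 1
    have e2 : rx (phiL P ψb) (P.ζ₀ : K) = yb ψb (Lam.tr ((P.ζ : F) * D.ι (P.ζ₀ : K))) := (phiL_basicU P ψa ψb).1 _
    have hι : D.ι (P.ζ₀ : K) = (P.ζ : F) * star (P.ζ : F) := by
      have h1 : (P.ζ₀ : K) = D.nm (P.ζ : F) := by
        rw [← P.hn]
        rfl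
      rw [h1, D.hnm, P.hσ]
    have hz : (P.ζ : F) ≠ 0 := P.ζ.ne_zero
    have hz' : star (P.ζ : F) ≠ 0 := fun h => hz (by simpa using congrArg star h)
    have e3 : Lam.act (((P.ζ⁻¹ : Fˣ) : F)) (Lam.tr ((P.ζ : F) * D.ι (P.ζ₀ : K)) : Lam F True) =
        Lam.tr ((P.ζ : F) * D.ι 1) := by
      ext
      · simp
      · rw [Lam.act_c, Lam.tr_c, Lam.tr_c, hι, map_one, mul_one, Units.val_inv_eq_inv_val]
        simp only [star_mul', star_star, star_inv₀]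
        field_simp
    have h := part1 P.ζ (Lam.tr ((P.ζ : F) * D.ι (P.ζ₀ : K)))
    rw [e3] at h
    rw [e1, e2, ← h]
    group

end Z

end Cfsg.Agent.Lib.Helper19.SU5
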