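import Mathlib
import Cfsg.Agent.Lib.Helper28.BP2.Defs
import Cfsg.Agent.Lib.helper23.BP2AO1
import Cfsg.Agent.Lib.helper4.BP2U2
import Cfsg.Agent.Lib.Helper13.BP2U1

set_option autoImplicit false

/-!
# BP2 row AO4 (`cent_invol_inter`), verbatim.

`q` odd, `t` an involution of `PSL₂(F)`: there is an involution `s ≠ t` commuting with `t` such that
`C(t) ∩ C(s)` has at most four elements.  `t = pr T` with `T * T = -1`; `T = P w P⁻¹`
(`S0809.conj_of_trace_zero`), `S := P x₀ P⁻¹` with `x₀ = !![a, b; b, -a]`, `a² + b² = -1`; a matrix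
commuting with both `w` and `x₀` is `± 1`, so `m ↦ (does a lift of m commute with T?, ... with S?)`
is injective on `C(t) ∩ C(s)`.
-/

namespace Cfsg.Agent.Lib.Helper28.BP2

open Cfsg.Agent.Lib.helper14

universe u

section AOdd

variable {F : Type u} [Field F]

/-- the matrix `w = !![0, 1; -1, 0]` -/
def bp2ao4_w : SL2 F := ⟨!![0, 1; -1, 0], by rw [Matrix.det_fin_two_of]; ring⟩

/-- the matrix `x₀ = !![a, b; b, -a]` with `a² + b² = -1` -/
def bp2ao4_x (a b : F) (h : a ^ 2 + b ^ 2 = -1) : SL2 F :=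
  ⟨!![a, b; b, -a], by rw [Matrix.det_fin_two_of]; linear_combination (-1 : F) * h⟩

theorem bp2ao4_w_coe :
    ((bp2ao4_w : SL2 F) : Matrix (Fin 2) (Fin 2) F) = !![0, 1; -1, 0] := rfl

theorem bp2ao4_x_coe (a b : F) (h : a ^ 2 + b ^ 2 = -1) :
    ((bp2ao4_x a b h : SL2 F) : Matrix (Fin 2) (Fin 2) F) = !![a, b; b, -a] := rfl

theorem bp2ao4_w_sq : (bp2ao4_w : SL2 F) * bp2ao4_w = -1 := by
  apply Subtype.ext
  rw [Matrix.SpecialLinearGroup.coe_mul, Matrix.SpecialLinearGroup.coe_neg,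
    Matrix.SpecialLinearGroup.coe_one]
  ext i j
  fin_cases i <;> fin_cases j <;> simp [bp2ao4_w_coe, Matrix.mul_apply, Fin.sum_univ_two]

theorem bp2ao4_x_sq (a b : F) (h : a ^ 2 + b ^ 2 = -1) :
    bp2ao4_x a b h * bp2ao4_x a b h = -1 := by
  apply Subtype.ext
  rw [Matrix.SpecialLinearGroup.coe_mul, Matrix.SpecialLinearGroup.coe_neg,
    Matrix.SpecialLinearGroup.coe_one]
  ext i j
  fin_cases i <;> fin_cases j <;> simp [bp2ao4_x_coe, Matrix.mul_apply, Fin.sum_univ_two]
  · linear_combination h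
  · ring
  · ring
  · linear_combination h

theorem bp2ao4_w_x (a b : F) (h : a ^ 2 + b ^ 2 = -1) :
    (bp2ao4_w : SL2 F) * bp2ao4_x a b h = -(bp2ao4_x a b h * bp2ao4_w) := by
  apply Subtype.ext
  rw [Matrix.SpecialLinearGroup.coe_neg, Matrix.SpecialLinearGroup.coe_mul,
    Matrix.SpecialLinearGroup.coe_mul]
  ext i j
  fin_cases i <;> fin_cases j <;> simp [bp2ao4_w_coe, bp2ao4_x_coe, Matrix.mul_apply, Fin.sum_univ_two]

/-- a matrix of `SL₂(F)` commuting with `w` and `x₀` is `± 1` (`2 ≠ 0`). -/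
theorem bp2ao4_comm_w_x (h2 : (2 : F) ≠ 0) (a b : F) (h : a ^ 2 + b ^ 2 = -1) (N : SL2 F)
    (hw : N * bp2ao4_w = bp2ao4_w * N) (hx : N * bp2ao4_x a b h = bp2ao4_x a b h * N) :
    N = 1 ∨ N = -1 := by
  have e00 := congrArg (fun M : SL2 F => (M : Matrix (Fin 2) (Fin 2) F) 0 0) hw
  have e01 := congrArg (fun M : SL2 F => (M : Matrix (Fin 2) (Fin 2) F) 0 1) hw
  have f00 := congrArg (fun M : SL2 F => (M : Matrix (Fin 2) (Fin 2) F) 0 0) hx
  have f01 := congrArg (fun M : SL2 F => (M : Matrix (Fin 2) (Fin 2) F) 0 1) hx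
  simp only [Matrix.SpecialLinearGroup.coe_mul, Matrix.mul_apply, Fin.sum_univ_two, bp2ao4_w_coe,
    bp2ao4_x_coe, Matrix.of_apply, Matrix.cons_val', Matrix.cons_val_zero, Matrix.cons_val_one,
    Matrix.empty_val', Matrix.cons_val_fin_one] at e00 e01 f00 f01
  have hdet : (N : Matrix (Fin 2) (Fin 2) F).det = 1 := N.2
  rw [Matrix.det_fin_two] at hdet
  set n00 := (N : Matrix (Fin 2) (Fin 2) F) 0 0 with hn00
  set n01 := (N : Matrix (Fin 2) (Fin 2) F) 0 1 with hn01
  set n10 := (N : Matrix (Fin 2) (Fin 2) F) 1 0 with hn10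
  set n11 := (N : Matrix (Fin 2) (Fin 2) F) 1 1 with hn11
  -- from `w`: n10 = -n01, n11 = n00
  have h10 : n10 = -n01 := by linear_combination (-1 : F) * e00
  have h11 : n11 = n00 := by linear_combination (-1 : F) * e01
  -- from `x₀`: 2 b n01 = 0, 2 a n01 = 0
  have hb : b * n01 = 0 := by
    have : (2 : F) * (b * n01) = 0 := by rw [h10] at f00; linear_combination f00
    rcases mul_eq_zero.mp this with h' | h'
    · exact absurd h' h2
    · exact h'
  have ha : a * n01 = 0 := by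
    have : (2 : F) * (a * n01) = 0 := by rw [h11] at f01; linear_combination (-1 : F) * f01
    rcases mul_eq_zero.mp this with h' | h'
    · exact absurd h' h2
    · exact h'
  have h01 : n01 = 0 := by
    have : (a ^ 2 + b ^ 2) * n01 = 0 := by linear_combination a * ha + b * hb
    rw [h, neg_one_mul, neg_eq_zero] at this
    exact this
  rw [h11, h10, h01] at hdet
  have hsq : n00 ^ 2 = 1 := by linear_combination hdet
  rcases sq_eq_one_iff.mp hsq with h0 | h0
  · left
    apply Subtype.ext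
    rw [Matrix.SpecialLinearGroup.coe_one]
    ext i j
    fin_cases i <;> fin_cases j <;> simp
    · exact h0
    · exact h01
    · rw [← hn10, h10, h01, neg_zero]
    · rw [← hn11, h11, h0]
  · right
    apply Subtype.ext
    rw [Matrix.SpecialLinearGroup.coe_neg, Matrix.SpecialLinearGroup.coe_one]
    ext i j
    fin_cases i <;> fin_cases j <;> simp
    · exact h0
    · exact h01
    · rw [← hn10, h10, h01, neg_zero]
    · rw [← hn11, h11, h0]

end AOdd

section AOddFin

variable {F : Type u} [Field F] [Fintype F]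

/-- conjugating `w`, `x₀` into position: for `T * T = -1` there is `S` with `S * S = -1`,
`T * S = -(S * T)`, and only `± 1` commutes with both. -/
theorem bp2ao4_key (hodd : Odd (Fintype.card F)) (T : SL2 F) (hT : T * T = -1) :
    ∃ S : SL2 F, S * S = -1 ∧ T * S = -(S * T) ∧
      ∀ N : SL2 F, N * T = T * N → N * S = S * N → N = 1 ∨ N = -1 := by
  have hodd' : Fintype.card F % 2 = 1 := Nat.odd_iff.mp hodd
  have h2 : (2 : F) ≠ 0 := bp2ao1_two_ne_zero hodd
  have h4 : (0 : F) ^ 2 ≠ 4 := by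
    have : (4 : F) = 2 * 2 := by norm_num
    rw [this]
    simp [h2]
  obtain ⟨⟨a, b⟩, hab⟩ := Cfsg.Agent.Lib.helper15.nrm_universal hodd' h2 0 h4 (-1)
  have hab' : a ^ 2 + b ^ 2 = -1 := by
    simp only [Cfsg.Agent.Lib.helper15.nrm] at hab
    linear_combination hab
  have hw0 : ((bp2ao4_w : SL2 F) : Matrix (Fin 2) (Fin 2) F).trace = 0 :=
    Cfsg.Agent.S0809.trace_zero_of_sq _ bp2ao4_w_sq
  have hT0 := Cfsg.Agent.S0809.trace_zero_of_sq T hT
  obtain ⟨P, hP⟩ := Cfsg.Agent.S0809.conj_of_trace_zero hodd' h2 bp2ao4_w T hw0 hT0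
  refine ⟨P * bp2ao4_x a b hab' * P⁻¹, ?_, ?_, ?_⟩
  · calc P * bp2ao4_x a b hab' * P⁻¹ * (P * bp2ao4_x a b hab' * P⁻¹)
        = P * (bp2ao4_x a b hab' * bp2ao4_x a b hab') * P⁻¹ := by group
      _ = -1 := by rw [bp2ao4_x_sq, mul_neg, mul_one, neg_mul, mul_inv_cancel]
  · rw [← hP]
    calc P * bp2ao4_w * P⁻¹ * (P * bp2ao4_x a b hab' * P⁻¹)
        = P * (bp2ao4_w * bp2ao4_x a b hab') * P⁻¹ := by group
      _ = -(P * (bp2ao4_x a b hab' * bp2ao4_w) * P⁻¹) := by
          rw [bp2ao4_w_x, mul_neg, neg_mul]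
      _ = -(P * bp2ao4_x a b hab' * P⁻¹ * (P * bp2ao4_w * P⁻¹)) := by
          congr 1
          group
  · intro N hNT hNS
    rw [← hP] at hNT
    have h1 : P⁻¹ * N * P * bp2ao4_w = bp2ao4_w * (P⁻¹ * N * P) := by
      calc P⁻¹ * N * P * bp2ao4_w = P⁻¹ * (N * (P * bp2ao4_w * P⁻¹)) * P := by group
        _ = P⁻¹ * (P * bp2ao4_w * P⁻¹ * N) * P := by rw [hNT]
        _ = bp2ao4_w * (P⁻¹ * N * P) := by group
    have h3 : P⁻¹ * N * P * bp2ao4_x a b hab' = bp2ao4_x a b hab' * (P⁻¹ * N * P) := by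
      calc P⁻¹ * N * P * bp2ao4_x a b hab'
          = P⁻¹ * (N * (P * bp2ao4_x a b hab' * P⁻¹)) * P := by group
        _ = P⁻¹ * (P * bp2ao4_x a b hab' * P⁻¹ * N) * P := by rw [hNS]
        _ = bp2ao4_x a b hab' * (P⁻¹ * N * P) := by group
    rcases bp2ao4_comm_w_x h2 a b hab' _ h1 h3 with h | h
    · left
      have : N = P * (P⁻¹ * N * P) * P⁻¹ := by group
      rw [this, h, mul_one, mul_inv_cancel]
    · right
      have : N = P * (P⁻¹ * N * P) * P⁻¹ := by group
      rw [this, h, mul_neg, mul_one, neg_mul, mul_inv_cancel]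

omit [Fintype F] in
/-- if `A`, `B` both commute or both anticommute with `X`, then `A⁻¹ * B` commutes with `X`. -/
theorem bp2ao4_quot_comm (A B X : SL2 F)
    (hA : A * X = X * A ∨ A * X = -(X * A)) (hB : B * X = X * B ∨ B * X = -(X * B))
    (hAB : A * X = X * A ↔ B * X = X * B) : A⁻¹ * B * X = X * (A⁻¹ * B) := by
  by_cases hc : A * X = X * A
  · have hb := hAB.mp hc
    have ha : A⁻¹ * X = X * A⁻¹ := by
      calc A⁻¹ * X = A⁻¹ * (X * A) * A⁻¹ := by group
        _ = A⁻¹ * (A * X) * A⁻¹ := by rw [hc]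
        _ = X * A⁻¹ := by group
    calc A⁻¹ * B * X = A⁻¹ * (B * X) := by group
      _ = A⁻¹ * (X * B) := by rw [hb]
      _ = A⁻¹ * X * B := by group
      _ = X * A⁻¹ * B := by rw [ha]
      _ = X * (A⁻¹ * B) := by group
  · have ha' : A * X = -(X * A) := hA.resolve_left hc
    have hb' : B * X = -(X * B) := hB.resolve_left (fun h => hc (hAB.mpr h))
    have ha : A⁻¹ * X = -(X * A⁻¹) := by
      have h1 : X * A⁻¹ = A⁻¹ * (A * X) * A⁻¹ := by group
      rw [ha', mul_neg, neg_mul] at h1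
      have h2 : A⁻¹ * (X * A) * A⁻¹ = A⁻¹ * X := by group
      rw [h2] at h1
      rw [h1, neg_neg]
    calc A⁻¹ * B * X = A⁻¹ * (B * X) := by group
      _ = -(A⁻¹ * (X * B)) := by rw [hb', mul_neg]
      _ = -(A⁻¹ * X * B) := by rw [mul_assoc]
      _ = X * A⁻¹ * B := by rw [ha, neg_mul, neg_neg]
      _ = X * (A⁻¹ * B) := by group

/-- **AO4**.  `t = pr w`, `s = pr x₀` with `x₀ = !![a,b;b,-a]`, `a² + b² = -1`: a matrix that
commutes or anticommutes with both `w` and `x₀` is `± 1, ± w, ± x₀, ± w x₀`. -/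
theorem cent_invol_inter (hodd : Odd (Fintype.card F)) (t : PSL2 F) (ht : orderOf t = 2) :
    ∃ s : PSL2 F, orderOf s = 2 ∧ Commute t s ∧ s ≠ t ∧
      Nat.card ↥(Subgroup.centralizer ({t} : Set (PSL2 F)) ⊓
        Subgroup.centralizer ({s} : Set (PSL2 F))) ≤ 4 := by
  classical
  have h2 : (2 : F) ≠ 0 := bp2ao1_two_ne_zero hodd
  obtain ⟨T, rfl⟩ := pr_surjective t
  have hT : T * T = -1 := Cfsg.Agent.S0809.sq_of_order_two h2 T ht
  obtain ⟨S, hS, hTS, hN⟩ := bp2ao4_key hodd T hT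
  have hprneg : ∀ X : SL2 F, pr F (-X) = pr F X := fun X => (pr_eq_iff _ _).mpr (Or.inr rfl)
  have hneg1 : pr F (-1) = 1 := by rw [hprneg, map_one]
  have hne : (-1 : SL2 F) ≠ 1 := Cfsg.Agent.S0809.neg_one_ne_one h2
  refine ⟨pr F S, ?_, ?_, ?_, ?_⟩
  · apply orderOf_eq_prime
    · rw [pow_two, ← map_mul, hS, hneg1]
    · intro h1
      rw [← map_one (pr F)] at h1
      rcases (pr_eq_iff _ _).mp h1 with h | h
      · rw [h, mul_one] at hS
        exact hne hS.symm
      · rw [h, neg_mul_neg, mul_one] at hS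
        exact hne hS.symm
  · show pr F T * pr F S = pr F S * pr F T
    rw [← map_mul, ← map_mul, hTS, hprneg]
  · intro h
    rcases (pr_eq_iff _ _).mp h with h | h
    · rw [h, hT, neg_neg] at hTS
      exact hne hTS
    · rw [h, mul_neg, neg_mul, neg_neg, hT] at hTS
      have : (1 : SL2 F) = -1 := by
        have h3 : (-(-1 : SL2 F)) = -1 := hTS
        rwa [neg_neg] at h3
      exact hne this.symm
  · choose L hL using (pr_surjective : Function.Surjective (pr F))
    have hcomm : ∀ (X : SL2 F) (m : PSL2 F), m ∈ Subgroup.centralizer ({pr F X} : Set (PSL2 F)) →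
        L m * X = X * L m ∨ L m * X = -(X * L m) := by
      intro X m hm
      rw [Subgroup.mem_centralizer_singleton_iff] at hm
      have hm' : pr F (L m * X) = pr F (X * L m) := by
        rw [map_mul, map_mul, hL m]
        exact hm
      exact (pr_eq_iff _ _).mp hm'
    let f : ↥(Subgroup.centralizer ({pr F T} : Set (PSL2 F)) ⊓
        Subgroup.centralizer ({pr F S} : Set (PSL2 F))) → Bool × Bool :=
      fun m => (decide (L m * T = T * L m), decide (L m * S = S * L m))
    have hf : Function.Injective f := by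
      intro m m' hmm
      have h1 : (L m * T = T * L m ↔ L m' * T = T * L m') := by
        have := congrArg Prod.fst hmm
        simpa [f] using this
      have h3 : (L m * S = S * L m ↔ L m' * S = S * L m') := by
        have := congrArg Prod.snd hmm
        simpa [f] using this
      have hm := Subgroup.mem_inf.mp m.2
      have hm' := Subgroup.mem_inf.mp m'.2
      have hNT := bp2ao4_quot_comm (L m) (L m') T (hcomm T m hm.1) (hcomm T m' hm'.1) h1
      have hNS := bp2ao4_quot_comm (L m) (L m') S (hcomm S m hm.2) (hcomm S m' hm'.2) h3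
      have hpm : pr F ((L m)⁻¹ * L m') = 1 := by
        rcases hN _ hNT hNS with h | h
        · rw [h, map_one]
        · rw [h, hneg1]
      rw [map_mul, map_inv, hL, hL, inv_mul_eq_one] at hpm
      exact Subtype.ext hpm
    calc Nat.card ↥(Subgroup.centralizer ({pr F T} : Set (PSL2 F)) ⊓
          Subgroup.centralizer ({pr F S} : Set (PSL2 F)))
        ≤ Nat.card (Bool × Bool) := Nat.card_le_card_of_injective f hf
      _ = 4 := by simp

end AOddFin

end Cfsg.Agent.Lib.Helper28.BP2
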