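import Mathlib
import Cfsg.Agent.Lib.Helper28.BP2.Defs
import Cfsg.Agent.Lib.helper23.BP2AO1

set_option autoImplicit false

/-!
# BP2 row AO5 (`cent_le_of_binS`): core on the statements of T10 (`binS_invol_closed`) and AO2
(`cent_invol_le_closure`); cites the landed AO1 (`invol_conj_odd`).
-/

namespace Cfsg.Agent.Lib.Helper28.BP2

open Cfsg.Agent.Lib.helper14

universe u

variable {F : Type u} [Field F] [Fintype F]

/-- AO5 core: `hT10` = statement of T10 at `G = PSL2 F`, `hAO2` = statement of AO2. -/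
theorem bp2ao5_core (hodd : Odd (Fintype.card F))
    (hT10 : ∀ (H : Subgroup (PSL2 F)), BinS H →
      (∀ x y : PSL2 F, orderOf x = 2 → orderOf y = 2 → IsConj x y) → ∀ t s : PSL2 F, t ∈ H →
      orderOf t = 2 → orderOf s = 2 → Commute t s → s ∈ H)
    (hAO2 : ∀ t : PSL2 F, orderOf t = 2 →
      Subgroup.centralizer ({t} : Set (PSL2 F)) ≤
        Subgroup.closure {s : PSL2 F | orderOf s = 2 ∧ Commute t s})
    (H : Subgroup (PSL2 F)) (hBin : BinS H)
    (t : PSL2 F) (htH : t ∈ H) (ht : orderOf t = 2) :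
    Subgroup.centralizer ({t} : Set (PSL2 F)) ≤ H :=
  (hAO2 t ht).trans ((Subgroup.closure_le H).mpr (fun s hs =>
    hT10 H hBin (invol_conj_odd hodd) t s htH ht hs.1 hs.2))

end Cfsg.Agent.Lib.Helper28.BP2
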