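import Mathlib
import Cfsg.Agent.Lib.Helper28.BP2.Defs
import Cfsg.Agent.Lib.Helper5.BP2AO5core
import Cfsg.Agent.Lib.helper23.BP2AO2
import Cfsg.Agent.Lib.Helper11.BP2T10core
import Cfsg.Agent.Lib.Helper20.BP2T9core
import Cfsg.Agent.Lib.Helper11.BP2T1
import Cfsg.Agent.Lib.Helper16.BP2T8

set_option autoImplicit false

/-!
# BP2 row AO5 (`cent_le_of_binS`), verbatim.

`bp2ao5_core` fed with the landed AO2 (`cent_invol_le_closure`) and with T10 assembled from the landed
cores `bp2t10_core` (helper11), `bp2t9_core` (helper20) on the landed T1 (`bin_iff_binS`) and T8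
(`fix_eq_of_bin`), so it does not wait for the verbatim T9 / T10.
-/

namespace Cfsg.Agent.Lib.Helper28.BP2

open Cfsg.Agent.Lib.helper14

universe u

variable {F : Type u} [Field F] [Fintype F]

/-- the statement of T10 (`binS_invol_closed`) for any finite group, from the landed cores. -/
theorem bp2ao5_T10 {G : Type u} [Group G] [Finite G] (H : Subgroup G) (hB : BinS H)
    (hconj : ∀ x y : G, orderOf x = 2 → orderOf y = 2 → IsConj x y) (t s : G) (ht : t ∈ H)
    (ht2 : orderOf t = 2) (hs2 : orderOf s = 2) (hts : Commute t s) : s ∈ H := by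
  have : Fact (Nat.Prime 2) := ⟨Nat.prime_two⟩
  have : Finite (G ⧸ H) := inferInstance
  exact bp2t10_core H (fun g h hgH hc hg hmax hh hk =>
    bp2t9_core H hB 2 g h hgH hc hg hmax hh hk (bin_iff_binS H).mpr
      (fun hBin hm hh' hk' => fix_eq_of_bin hBin 2 g h hc hg hm hh' hk')) hconj t s ht ht2 hs2 hts

/-- **AO5**.  AO1, T10, AO2. -/
theorem cent_le_of_binS (hodd : Odd (Fintype.card F)) (H : Subgroup (PSL2 F)) (hBin : BinS H)
    (t : PSL2 F) (htH : t ∈ H) (ht : orderOf t = 2) :
    Subgroup.centralizer ({t} : Set (PSL2 F)) ≤ H :=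
  bp2ao5_core hodd (fun H hB hc t s => bp2ao5_T10 H hB hc t s) (cent_invol_le_closure hodd)
    H hBin t htH ht

end Cfsg.Agent.Lib.Helper28.BP2
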