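import Mathlib
import Cfsg.Agent.Lib.helper3.SPM.Defs
import Cfsg.Agent.Lib.helper3.SPM.Defs2
import Cfsg.Agent.Lib.Helper20.SPMA1
import Cfsg.Agent.Lib.helper14.SPME1
import Cfsg.Agent.Lib.helper14.SPMI1
import Cfsg.Agent.Lib.Helper25.SPMY4

/-!
# Project SPM (designer helper3, S2292/S2296), rows Y5 `gen_top` and Y6 `iso_of_glue` (helper5), cores:
the statements of E8 `lamC_xr`, E9 `xr_conj`, Y3 `sysC_of_glue` are hypotheses.  Extras `spmy5_*`, `spmy6_*`.
-/

set_option autoImplicit false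

namespace Cfsg.Agent.Lib.helper3.SPM

open Cfsg.Agent.Lib.helper3.STC Cfsg.Agent.Lib.helper3.STC.Mat Cfsg.Agent.Lib.helper17.SLP

universe u v w v'

section main
variable {F : Type u} [Field F] {ι : Type w} [Fintype ι] [DecidableEq ι] {G : Type v} [Group G]
  (p : Pts ι) (ν : Equiv.Perm ι →* G) (lam : Sp4 F →* G)

/-- every root element lies in the subgroup generated by the root elements. -/
theorem spmy5_xr_mem (S : SysC F ι G) (hx : ∀ a b t, S.x a b t = xr p ν lam a b t) (a b : ι ⊕ ι) (t : F) :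
    xr p ν lam a b t ∈ S.XQ (fun _ _ => True) := by
  by_cases hab : a = b
  · subst hab
    rw [xr_diag]
    exact Subgroup.one_mem _
  · exact Subgroup.subset_closure ⟨a, b, t, hab, trivial, (hx a b t).symm⟩

/-- the image of `lam` lies in the subgroup generated by the root elements (with the statement of E8 `lamC_xr` at `σ = 1`). -/
theorem spmy5_lam_mem (hS : SpFacts F) (S : SysC F ι G) (hx : ∀ a b t, S.x a b t = xr p ν lam a b t)
    (hE8 : ∀ {a' b' : Fin 2 ⊕ Fin 2} (_ : a' ≠ b') (t : F),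
      lamC ν lam 1 (tm a' b' t) = xr p ν lam (sgm 1 (pe p a')) (sgm 1 (pe p b')) t)
    (g : Sp4 F) : lam g ∈ S.XQ (fun _ _ => True) := by
  have hg : g ∈ (matSys (Fin 2) F).XQ (fun _ _ => True) := by
    rw [hS.esp]; exact Subgroup.mem_top g
  have hle : (matSys (Fin 2) F).XQ (fun _ _ => True) ≤ (S.XQ (fun _ _ => True)).comap lam := by
    unfold SysC.XQ
    rw [Subgroup.closure_le]
    rintro _ ⟨a', b', t, hab', -, rfl⟩
    show lam ((matSys (Fin 2) F).x a' b' t) ∈ S.XQ (fun _ _ => True)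
    have e1 : (matSys (Fin 2) F).x a' b' t = tm a' b' t := rfl
    rw [e1, ← lamC_one ν lam, hE8 hab' t]
    exact spmy5_xr_mem p ν lam S hx _ _ t
  exact hle hg

/-- the subgroup generated by the root elements is normalised by the `ν σ` (with the statement of E9 `xr_conj`). -/
theorem spmy5_conj_mem (S : SysC F ι G) (hx : ∀ a b t, S.x a b t = xr p ν lam a b t)
    (hE9 : ∀ (σ : Equiv.Perm ι) {a b : ι ⊕ ι} (_ : a ≠ b) (t : F),
      ν σ * xr p ν lam a b t * (ν σ)⁻¹ = xr p ν lam (sgm σ a) (sgm σ b) t)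
    (σ : Equiv.Perm ι) {g : G} (hg : g ∈ S.XQ (fun _ _ => True)) :
    ν σ * g * (ν σ)⁻¹ ∈ S.XQ (fun _ _ => True) := by
  have hle : S.XQ (fun _ _ => True) ≤
      (S.XQ (fun _ _ => True)).comap (MulAut.conj (ν σ)).toMonoidHom := by
    conv_lhs => unfold SysC.XQ
    rw [Subgroup.closure_le]
    rintro _ ⟨a, b, t, hab, -, rfl⟩
    show ν σ * S.x a b t * (ν σ)⁻¹ ∈ S.XQ (fun _ _ => True)
    rw [hx, hE9 σ hab t]
    exact spmy5_xr_mem p ν lam S hx _ _ t
  exact hle hg

/-- Y5 core: `gen_top` with the statements of E8 (`lamC_xr`, only at `σ = 1`) and E9 (`xr_conj`) as hypotheses. -/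
theorem spmy5_core (H : Glue p ν lam) (hS : SpFacts F)
    (hE8 : ∀ {a' b' : Fin 2 ⊕ Fin 2} (_ : a' ≠ b') (t : F),
      lamC ν lam 1 (tm a' b' t) = xr p ν lam (sgm 1 (pe p a')) (sgm 1 (pe p b')) t)
    (hE9 : ∀ (σ : Equiv.Perm ι) {a b : ι ⊕ ι} (_ : a ≠ b) (t : F),
      ν σ * xr p ν lam a b t * (ν σ)⁻¹ = xr p ν lam (sgm σ a) (sgm σ b) t)
    (S : SysC F ι G) (hx : ∀ a b t, S.x a b t = xr p ν lam a b t)
    (hgen : Subgroup.closure (Set.range ν ∪ Set.range lam) = ⊤) : S.XQ (fun _ _ => True) = ⊤ := by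
  have hlam : ∀ g, lam g ∈ S.XQ (fun _ _ => True) := spmy5_lam_mem p ν lam hS S hx hE8
  have hnu : ∀ σ : Equiv.Perm ι, ν σ ∈ S.XQ (fun _ _ => True) := by
    intro σ
    have hσ : σ ∈ Subgroup.closure {τ : Equiv.Perm ι | τ.IsSwap} := by
      rw [Equiv.Perm.closure_isSwap]; exact Subgroup.mem_top σ
    have hle : Subgroup.closure {τ : Equiv.Perm ι | τ.IsSwap} ≤ (S.XQ (fun _ _ => True)).comap ν := by
      rw [Subgroup.closure_le]
      rintro τ ⟨i, j, hij, rfl⟩
      show ν (Equiv.swap i j) ∈ S.XQ (fun _ _ => True)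
      have e1 : Equiv.swap i j = sig2 p i j * Equiv.swap p.o0 p.o1 * (sig2 p i j)⁻¹ := by
        rw [← Equiv.swap_apply_apply, sig2_o0 p hij, sig2_o1 p hij]
      rw [e1, map_mul, map_mul, map_inv, H.sw]
      exact spmy5_conj_mem p ν lam S hx hE9 _ (hlam _)
    exact hle hσ
  rw [eq_top_iff, ← hgen, Subgroup.closure_le]
  rintro g (⟨σ, rfl⟩ | ⟨g', rfl⟩)
  · exact hnu σ
  · exact hlam g'

/-- Y6 core: `iso_of_glue` with the statements of Y3 (`sysC_of_glue`) and Y5 (`gen_top`) as hypotheses. -/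
theorem spmy6_core [Finite F]
    (hY3 : ∃ S : SysC F ι G, ∀ a b t, S.x a b t = xr p ν lam a b t)
    (hY5 : ∀ (S : SysC F ι G), (∀ a b t, S.x a b t = xr p ν lam a b t) → S.XQ (fun _ _ => True) = ⊤)
    (π : G →* ↥(Matrix.symplecticGroup ι F)) (hν : π.comp ν = permSp) (hlam : π.comp lam = rhoS p)
    (hxM : ∀ (a b : ι ⊕ ι) (t : F), a ≠ b → xr p (permSp (F := F)) (rhoS p) a b t = tm a b t)
    (hgenM : (matSys ι F).XQ (fun _ _ => True) = ⊤)
    (hinj : ∀ (S : SysC F ι G) (R : S.Rep ι), S.XQ (fun _ _ => True) = ⊤ → Function.Injective R.φ) :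
    Function.Bijective π := by
  obtain ⟨S, hx⟩ := hY3
  have hπx : ∀ a b, a ≠ b → ∀ t, π (S.x a b t) = tm a b t := by
    intro a b hab t
    rw [hx, map_xr, hν, hlam, hxM a b t hab]
  have hid : Sum.map (Function.Embedding.refl ι) (Function.Embedding.refl ι) = (id : ι ⊕ ι → ι ⊕ ι) := by
    funext x; cases x <;> rfl
  let R : S.Rep ι :=
    { e := Function.Embedding.refl ι
      φ := π
      hφ := by
        intro a b hab t
        rw [hπx a b hab t, hid]
        exact tm_coe hab t }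
  refine ⟨hinj S R (hY5 S hx), ?_⟩
  have hle : (matSys ι F).XQ (fun _ _ => True) ≤ π.range := by
    unfold SysC.XQ
    rw [Subgroup.closure_le]
    rintro _ ⟨a, b, t, hab, -, rfl⟩
    exact ⟨S.x a b t, hπx a b hab t⟩
  intro y
  have hy : y ∈ π.range := hle (by rw [hgenM]; exact Subgroup.mem_top y)
  exact hy

end main

end Cfsg.Agent.Lib.helper3.SPM
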