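import Mathlib
import Cfsg.Agent.Lib.helper17.SLP.Defs
import Cfsg.Agent.Lib.helper3.SP4.Defs
import Cfsg.Agent.Lib.Helper22.SU4.Defs
import Cfsg.Prelude.Def_Classical
import Cfsg.Agent.Lib.Helper9.SP4H1
import Cfsg.Agent.Lib.Helper9.SP4P2

/-!
# Project SU4 (designer helper22), row FIN3 `hypT_of_words` (helper5): the core, on the landed SP4 rows H1 (`ev_map`), P2 (`ev6_inA`, `ev6_inB`),
with the statements of P3 (`ev6_wordsT6`) and P4 (`hypT_iff_rel`) as hypotheses.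
-/

set_option autoImplicit false

namespace Cfsg.Agent.Lib.Helper22.SU4

open Cfsg.Agent.Lib.helper17.SLP Cfsg.Agent.Lib.helper3.SP4

universe u v

section FIN

variable {F : Type u} {K : Type u} [Field F] [Field K] [Fintype F] [Fintype K]

omit [Fintype F] [Fintype K] in
/-- **FIN3 core**. -/
theorem su4fin3_core (D : Tw F K) (ζ : Fˣ) (ζ₀ : Kˣ) (e : ℕ)
    (LA LB : List (FreeGroup (Fin 3))) (za zc zb zd : FreeGroup (Fin 3))
    (hza : ev (xM (1 : F)) (hM ζ) wM za = xM (D.ι (ζ₀ : K))) (hzc : ev (xM (1 : F)) (hM ζ) wM zc = xM (ζ : F))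
    (hzb : ev (xM (1 : K)) (hM ζ₀) wM zb = xM (ζ₀ : K)) (hzd : ev (xM (1 : K)) (hM ζ₀) wM zd = xM (D.tr (ζ : F)))
    (hLA : ∀ (G : Type) [Group G] (u h w : G), (∀ r ∈ LA, ev u h w r = 1) →
      ∃ φ : Matrix.SpecialLinearGroup (Fin 2) F →* G, φ (xM 1) = u ∧ φ (hM ζ) = h ∧ φ wM = w)
    (hLB : ∀ (G : Type) [Group G] (u h w : G), (∀ r ∈ LB, ev u h w r = 1) →
      ∃ φ : Matrix.SpecialLinearGroup (Fin 2) K →* G, φ (xM 1) = u ∧ φ (hM ζ₀) = h ∧ φ wM = w)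
    (G : Type) [Group G] (ua ha wa ub hb wb : G)
    (hgen : Subgroup.closure {ua, ha, wa, ub, hb, wb} = ⊤)
    (hrel : ∀ r ∈ LA.map inA ++ LB.map inB ++ wordsT6 (inA za) (inA zc) (inB zb) (inB zd) e,
      ev6 ua ha wa ub hb wb r = 1)
    (hP3 : ∀ za zc zb zd : FreeGroup (Fin 6),
      (∀ r ∈ wordsT6 za zc zb zd e, ev6 ua ha wa ub hb wb r = 1) ↔
      (relS1 ha hb = 1 ∧ relT2 ua hb (ev6 ua ha wa ub hb wb za) = 1 ∧
        relT3 ha ub (ev6 ua ha wa ub hb wb zb) = 1 ∧ relT4 ha wa hb e = 1 ∧ relT5 ha hb wb = 1 ∧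
        relS6 wa wb = 1 ∧ relS7 ua wa wb = 1 ∧ relS8 wa ub wb = 1 ∧ relS9 ua wa ub wb = 1 ∧
        relS10 ua wa ub wb = 1 ∧
        relT10b ua wa wb (ev6 ua ha wa ub hb wb zc) (ev6 ua ha wa ub hb wb zd) = 1 ∧
        relS11 ua wa ub = 1 ∧ relS12 wa ub = 1))
    (hP4 : ∀ (φa : Matrix.SpecialLinearGroup (Fin 2) F →* G) (φb : Matrix.SpecialLinearGroup (Fin 2) K →* G),
      HypT D ζ ζ₀ φa φb ↔
      (relS1 (rh φa ζ) (rh φb ζ₀) = 1 ∧ relT2 (rx φa 1) (rh φb ζ₀) (rx φa (D.ι (ζ₀ : K))) = 1 ∧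
        relT3 (rh φa ζ) (rx φb 1) (rx φb (ζ₀ : K)) = 1 ∧ relT4 (rh φa ζ) (rn φa) (rh φb ζ₀) e = 1 ∧
        relT5 (rh φa ζ) (rh φb ζ₀) (rn φb) = 1 ∧ relS6 (rn φa) (rn φb) = 1 ∧
        relS7 (rx φa 1) (rn φa) (rn φb) = 1 ∧ relS8 (rn φa) (rx φb 1) (rn φb) = 1 ∧
        relS9 (rx φa 1) (rn φa) (rx φb 1) (rn φb) = 1 ∧ relS10 (rx φa 1) (rn φa) (rx φb 1) (rn φb) = 1 ∧
        relT10b (rx φa 1) (rn φa) (rn φb) (rx φa (ζ : F)) (rx φb (D.tr (ζ : F))) = 1 ∧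
        relS11 (rx φa 1) (rn φa) (rx φb 1) = 1 ∧ relS12 (rn φa) (rx φb 1) = 1)) :
    ∃ (φa : Matrix.SpecialLinearGroup (Fin 2) F →* G) (φb : Matrix.SpecialLinearGroup (Fin 2) K →* G),
      HypT D ζ ζ₀ φa φb ∧ rh φa ζ = ha ∧ rh φb ζ₀ = hb ∧
        Subgroup.closure (Set.range φa ∪ Set.range φb) = ⊤ := by
  -- the three blocks of relators
  have hrelA : ∀ r ∈ LA, ev ua ha wa r = 1 := by
    intro r hr
    rw [← ev6_inA ua ha wa ub hb wb r]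
    exact hrel _ (List.mem_append_left _ (List.mem_append_left _ (List.mem_map_of_mem hr)))
  have hrelB : ∀ r ∈ LB, ev ub hb wb r = 1 := by
    intro r hr
    rw [← ev6_inB ua ha wa ub hb wb r]
    exact hrel _ (List.mem_append_left _ (List.mem_append_right _ (List.mem_map_of_mem hr)))
  have hrelS : ∀ r ∈ wordsT6 (inA za) (inA zc) (inB zb) (inB zd) e, ev6 ua ha wa ub hb wb r = 1 :=
    fun r hr => hrel _ (List.mem_append_right _ hr)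
  obtain ⟨φa, hau, hah, haw⟩ := hLA G ua ha wa hrelA
  obtain ⟨φb, hbu, hbh, hbw⟩ := hLB G ub hb wb hrelB
  have eza : ev6 ua ha wa ub hb wb (inA za) = rx φa (D.ι (ζ₀ : K)) := by
    rw [ev6_inA, ← hau, ← hah, ← haw, ← ev_map φa, hza]
    rfl
  have ezc : ev6 ua ha wa ub hb wb (inA zc) = rx φa (ζ : F) := by
    rw [ev6_inA, ← hau, ← hah, ← haw, ← ev_map φa, hzc]
    rfl
  have ezb : ev6 ua ha wa ub hb wb (inB zb) = rx φb (ζ₀ : K) := by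
    rw [ev6_inB, ← hbu, ← hbh, ← hbw, ← ev_map φb, hzb]
    rfl
  have ezd : ev6 ua ha wa ub hb wb (inB zd) = rx φb (D.tr (ζ : F)) := by
    rw [ev6_inB, ← hbu, ← hbh, ← hbw, ← ev_map φb, hzd]
    rfl
  have h13 := (hP3 (inA za) (inA zc) (inB zb) (inB zd)).1 hrelS
  rw [eza, ezc, ezb, ezd] at h13
  refine ⟨φa, φb, (hP4 φa φb).2 ?_, hah, hbh, ?_⟩
  · have e1 : rx φa 1 = ua := hau
    have e2 : rh φa ζ = ha := hah
    have e3 : rn φa = wa := haw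
    have e4 : rx φb 1 = ub := hbu
    have e5 : rh φb ζ₀ = hb := hbh
    have e6 : rn φb = wb := hbw
    rw [e1, e2, e3, e4, e5, e6]
    exact h13
  · rw [eq_top_iff, ← hgen, Subgroup.closure_le]
    intro g hg
    apply Subgroup.subset_closure
    simp only [Set.mem_insert_iff, Set.mem_singleton_iff] at hg
    rcases hg with rfl | rfl | rfl | rfl | rfl | rfl
    · exact Or.inl ⟨_, hau⟩
    · exact Or.inl ⟨_, hah⟩
    · exact Or.inl ⟨_, haw⟩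
    · exact Or.inr ⟨_, hbu⟩
    · exact Or.inr ⟨_, hbh⟩
    · exact Or.inr ⟨_, hbw⟩

end FIN

end Cfsg.Agent.Lib.Helper22.SU4
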