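import Mathlib
import Cfsg.Agent.Lib.helper17.SLP.Defs
import Cfsg.Agent.Lib.helper3.SP4.Defs
import Cfsg.Agent.Lib.Helper22.SU4.Defs
import Cfsg.Prelude.Def_Classical
import Cfsg.Agent.Lib.Helper5.SU4FIN3core
import Cfsg.Agent.Lib.helper15.SU4P3
import Cfsg.Agent.Lib.helper8.SU4P4

/-!
# Project SU4 (designer helper22), row FIN3 `hypT_of_words` (helper5), verbatim: `su4fin3_core` on P3 (`helper15.SU4P3`) and P4 (`helper8.SU4P4`).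
-/

set_option autoImplicit false

namespace Cfsg.Agent.Lib.Helper22.SU4

open Cfsg.Agent.Lib.helper17.SLP Cfsg.Agent.Lib.helper3.SP4

universe u v

section FIN

variable {F : Type u} {K : Type u} [Field F] [Field K] [Fintype F] [Fintype K]

/-- FIN3 [M]  deps P3 P4 + SP4 `ev_map ev6_inA ev6_inB`.  Model SP4 FIN3 `hyp_of_words` (`Helper11.SP4FIN3core`).  `LA` the SLP list of `SL₂(F)` with `ζ`, `LB` that of `SL₂(K)` with `ζ₀` (hypotheses `hLA hLB` = last clause of SP4 `sl_hom`);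
`za zc` words in `FreeGroup (Fin 3)` for `xM (ι ζ₀)`, `xM ζ` in `SL₂(F)`, `zb zd` for `xM ζ₀`, `xM (tr ζ)` in `SL₂(K)`.  `ev6 … (inA za) = ev ua ha wa za = φa (ev (xM 1) (hM ζ) wM za) = rx φa (ι ζ₀)` (`ev6_inA`, `ev_map`). -/
theorem hypT_of_words (D : Tw F K) (ζ : Fˣ) (ζ₀ : Kˣ) (e : ℕ) (he : D.ιu ζ₀ = ζ ^ e)
    (LA LB : List (FreeGroup (Fin 3))) (za zc zb zd : FreeGroup (Fin 3))
    (hza : ev (xM (1 : F)) (hM ζ) wM za = xM (D.ι (ζ₀ : K))) (hzc : ev (xM (1 : F)) (hM ζ) wM zc = xM (ζ : F))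
    (hzb : ev (xM (1 : K)) (hM ζ₀) wM zb = xM (ζ₀ : K)) (hzd : ev (xM (1 : K)) (hM ζ₀) wM zd = xM (D.tr (ζ : F)))
    (hLA : ∀ (G : Type) [Group G] (u h w : G), (∀ r ∈ LA, ev u h w r = 1) →
      ∃ φ : Matrix.SpecialLinearGroup (Fin 2) F →* G, φ (xM 1) = u ∧ φ (hM ζ) = h ∧ φ wM = w)
    (hLB : ∀ (G : Type) [Group G] (u h w : G), (∀ r ∈ LB, ev u h w r = 1) →
      ∃ φ : Matrix.SpecialLinearGroup (Fin 2) K →* G, φ (xM 1) = u ∧ φ (hM ζ₀) = h ∧ φ wM = w)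
    (G : Type) [Group G] (ua ha wa ub hb wb : G)
    (hgen : Subgroup.closure {ua, ha, wa, ub, hb, wb} = ⊤)
    (hrel : ∀ r ∈ LA.map inA ++ LB.map inB ++ wordsT6 (inA za) (inA zc) (inB zb) (inB zd) e,
      ev6 ua ha wa ub hb wb r = 1) :
    ∃ (φa : Matrix.SpecialLinearGroup (Fin 2) F →* G) (φb : Matrix.SpecialLinearGroup (Fin 2) K →* G),
      HypT D ζ ζ₀ φa φb ∧ rh φa ζ = ha ∧ rh φb ζ₀ = hb ∧
        Subgroup.closure (Set.range φa ∪ Set.range φb) = ⊤ :=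
  su4fin3_core D ζ ζ₀ e LA LB za zc zb zd hza hzc hzb hzd hLA hLB G ua ha wa ub hb wb hgen hrel
    (fun za zc zb zd => ev6_wordsT6 ua ha wa ub hb wb za zc zb zd e)
    (fun φa φb => hypT_iff_rel D ζ ζ₀ e he φa φb)

end FIN

end Cfsg.Agent.Lib.Helper22.SU4
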