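import Mathlib
import Cfsg.Agent.Lib.helper3.BSZ.Defs
import Cfsg.Agent.Lib.Helper26.BSZA13

/-!
# Project BSZ, row B02 (`odd_case`), verbatim vs `helper3/BSZ/Skel.lean.txt`.
-/

set_option autoImplicit false

namespace Cfsg.Agent.Lib.helper3.BSZ

open Cfsg Cfsg.Agent.Lib.helper3

variable {F : Type*} [Field F] [Fintype F] {m : ℕ}

/-- B02 [S-M] (cites A13): `x ∈ H`, `x ≠ 1` has odd order (`orderOf_dvd_natCard`), so `2 < orderOf x`; `sz_cov hF hm` with `g := gT hF 0 1` (`gT_zero_ne_one`, `gT_zero_sq`) gives `u v` with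
`gT 0 1 = (u * x * u⁻¹) * (v * x * v⁻¹)` (unfold `Cov`); apply `odd_swap` (`finite_Sz hF hm`). -/
theorem odd_case (hF : Fintype.card F = 2 ^ (2 * m + 1)) (hm : 1 ≤ m) (H : Subgroup (Sz F m))
    (hodd : Odd (Nat.card H)) (hne : H ≠ ⊥) : ¬ BinH H := by
  have hfin : Finite (Sz F m) := finite_Sz hF hm
  obtain ⟨x, hx1⟩ := (Subgroup.ne_bot_iff_exists_ne_one).1 hne
  have hx1' : (x : Sz F m) ≠ 1 := fun h => hx1 (Subtype.ext h)
  have hoddall : ∀ h ∈ H, Odd (orderOf h) := by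
    intro h hh
    exact Odd.of_dvd_nat hodd (Subgroup.orderOf_dvd_natCard H hh)
  have hxo : Odd (orderOf (x : Sz F m)) := hoddall _ x.2
  have hpos : 0 < orderOf (x : Sz F m) := orderOf_pos _
  have hne1 : orderOf (x : Sz F m) ≠ 1 := by
    intro h
    exact hx1' (orderOf_eq_one_iff.1 h)
  have h2 : 2 < orderOf (x : Sz F m) := by
    obtain ⟨k, hk⟩ := hxo
    omega
  obtain ⟨u, v, huv⟩ := sz_cov hF hm h2 (gT_zero_ne_one hF (one_ne_zero : (1 : F) ≠ 0))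
  refine odd_swap H hoddall (gT hF 0 1) (u * x * u⁻¹) (v * x * v⁻¹) u v
    (gT_zero_ne_one hF one_ne_zero) (gT_zero_sq hF 1) huv ?_ ?_
  · have : u⁻¹ * (u * (x : Sz F m) * u⁻¹) * u = x := by group
    rw [this]; exact x.2
  · have : v⁻¹ * (v * (x : Sz F m) * v⁻¹) * v = x := by group
    rw [this]; exact x.2

end Cfsg.Agent.Lib.helper3.BSZ
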