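import Mathlib
import Cfsg.Agent.Lib.helper3.BSZ.Defs
import Cfsg.Agent.Lib.helper17.BSZA03

/-!
# Project BSZ, row D06 (core): the mixed Borel case, from the statement of D05 (`bm_std`) as a
hypothesis (A03 `binary_conj` is cited from main).
-/

set_option autoImplicit false

namespace Cfsg.Agent.Lib.helper3.BSZ

open Cfsg Cfsg.Agent.Lib.helper3

variable {F : Type*} [Field F] [Fintype F] {m : ℕ}

/-- D06 core. -/
theorem borel_mixed_core (hF : Fintype.card F = 2 ^ (2 * m + 1)) (hm : 1 ≤ m)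
    (hD05 : ∀ (H : Subgroup (Sz F m)), (∀ h ∈ H, h • oInf F m = oInf F m) →
      ∀ {r c : Sz F m}, r ∈ H → r ∈ Qs hF → r ≠ 1 → c ∈ H → c ∉ Qs hF → ¬ BinH H)
    (P : Sylow 2 (Sz F m))
    (H : Subgroup (Sz F m)) (hHP : H ≤ Subgroup.normalizer ((P : Subgroup (Sz F m)) : Set (Sz F m)))
    (h1 : H ⊓ (P : Subgroup (Sz F m)) ≠ ⊥) (h2 : ¬ H ≤ (P : Subgroup (Sz F m))) : ¬ BinH H := by
  obtain ⟨x, hx⟩ := sylow_two_conj hF hm P
  have hx' : ∀ g : Sz F m, g ∈ (P : Subgroup (Sz F m)) ↔ x⁻¹ * g * x ∈ Qs hF := hx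
  -- membership in the conjugate `H' = x⁻¹ H x`
  have hmem : ∀ h : Sz F m, h ∈ cj H x⁻¹ ↔ x * h * x⁻¹ ∈ H := by
    intro h
    rw [mem_map_conj_iff, inv_inv]
  rw [binary_conj H x⁻¹]
  -- r
  obtain ⟨r0, hr0⟩ := (Subgroup.ne_bot_iff_exists_ne_one).1 h1
  have hr0H : (r0 : Sz F m) ∈ H := (Subgroup.mem_inf.1 r0.2).1
  have hr0P : (r0 : Sz F m) ∈ (P : Subgroup (Sz F m)) := (Subgroup.mem_inf.1 r0.2).2
  have hr0ne : (r0 : Sz F m) ≠ 1 := fun h => hr0 (Subtype.ext h)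
  -- c
  obtain ⟨c0, hc0H, hc0P⟩ := SetLike.not_le_iff_exists.1 h2
  refine hD05 (cj H x⁻¹) ?_ (r := x⁻¹ * r0 * x) (c := x⁻¹ * c0 * x) ?_ ?_ ?_ ?_ ?_
  · -- elements of H' fix oInf
    intro h hh
    have hh0 : x * h * x⁻¹ ∈ H := (hmem h).1 hh
    have hn := hHP hh0
    rw [Subgroup.mem_normalizer_iff] at hn
    have hnQ : h ∈ Subgroup.normalizer ((Qs hF : Subgroup (Sz F m)) : Set (Sz F m)) := by
      rw [Subgroup.mem_normalizer_iff]
      intro q
      have e1 : q = x⁻¹ * (x * q * x⁻¹) * x := by group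
      have e2 : h * q * h⁻¹ = x⁻¹ * ((x * h * x⁻¹) * (x * q * x⁻¹) * (x * h * x⁻¹)⁻¹) * x := by
        group
      constructor
      · intro hq
        rw [e2, ← hx']
        apply (hn _).1
        rw [hx', ← e1]
        exact hq
      · intro hq
        rw [e1, ← hx']
        apply (hn _).2
        rw [hx', ← e2]
        exact hq
    rw [normalizer_Qs hF hm] at hnQ
    exact MulAction.mem_stabilizer_iff.1 hnQ
  · rw [hmem]
    have : x * (x⁻¹ * (r0 : Sz F m) * x) * x⁻¹ = r0 := by group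
    rw [this]; exact hr0H
  · exact (hx' _).1 hr0P
  · intro h
    apply hr0ne
    have : (r0 : Sz F m) = x * (x⁻¹ * r0 * x) * x⁻¹ := by group
    rw [this, h]; group
  · rw [hmem]
    have : x * (x⁻¹ * c0 * x) * x⁻¹ = c0 := by group
    rw [this]; exact hc0H
  · intro h
    exact hc0P ((hx' _).2 h)

end Cfsg.Agent.Lib.helper3.BSZ
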