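import Mathlib
import Cfsg.Agent.Lib.helper3.BSZ.Defs
import Cfsg.Agent.Lib.Helper5.BSZD06core
import Cfsg.Agent.Lib.helper3.BSZD05

set_option autoImplicit false

/-!
# BSZ row D06 (`borel_mixed`), verbatim: one-term wrapper of `borel_mixed_core` on the landed D05 `bm_std`.
-/

namespace Cfsg.Agent.Lib.helper3.BSZ

open Cfsg Cfsg.Agent.Lib.helper3

variable {F : Type*} [Field F] [Fintype F] {m : ℕ}

theorem borel_mixed (hF : Fintype.card F = 2 ^ (2 * m + 1)) (hm : 1 ≤ m) (P : Sylow 2 (Sz F m))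
    (H : Subgroup (Sz F m)) (hHP : H ≤ Subgroup.normalizer ((P : Subgroup (Sz F m)) : Set (Sz F m)))
    (h1 : H ⊓ (P : Subgroup (Sz F m)) ≠ ⊥) (h2 : ¬ H ≤ (P : Subgroup (Sz F m))) : ¬ BinH H :=
  borel_mixed_core hF hm (fun H hH _ _ hr hrQ hr1 hc hcQ =>
    bm_std hF hm H hH hr hrQ hr1 hc hcQ) P H hHP h1 h2

end Cfsg.Agent.Lib.helper3.BSZ
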