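import Mathlib
import Cfsg.Agent.Lib.helper3.BSZ.Defs

/-!
# Project BSZ, row D07 (`stab_invol`), verbatim vs `helper3/BSZ/Skel.lean.txt`.
-/

set_option autoImplicit false

namespace Cfsg.Agent.Lib.helper3.BSZ

open Cfsg Cfsg.Agent.Lib.helper3

/-- a `p`-element normalising a Sylow `p`-subgroup lies in it (any group) -/
theorem bszd07_mem_sylow {G : Type*} [Group G] {p : ℕ} [Fact p.Prime] (P : Sylow p G) {t : G}
    (ht : t ∈ Subgroup.normalizer ((P : Subgroup G) : Set G)) (k : ℕ) (htk : t ^ (p ^ k) = 1) :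
    t ∈ P := by
  have hp : IsPGroup p (Subgroup.zpowers t) := by
    intro g
    obtain ⟨j, hj⟩ := Subgroup.mem_zpowers_iff.1 g.2
    refine ⟨k, ?_⟩
    apply Subtype.ext
    show ((g : G)) ^ (p ^ k) = 1
    rw [← hj, ← zpow_natCast, ← zpow_mul, mul_comm, zpow_mul, zpow_natCast, htk, one_zpow]
  have h1 : Subgroup.zpowers t ⊓ Subgroup.normalizer ((P : Subgroup G) : Set G) =
      Subgroup.zpowers t ⊓ (P : Subgroup G) := hp.inf_normalizer_sylow P
  have hle : Subgroup.zpowers t ≤ Subgroup.normalizer ((P : Subgroup G) : Set G) := by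
    rw [Subgroup.zpowers_le]
    exact ht
  have h2 : Subgroup.zpowers t ⊓ Subgroup.normalizer ((P : Subgroup G) : Set G) =
      Subgroup.zpowers t := inf_eq_left.2 hle
  rw [h2] at h1
  have h3 : Subgroup.zpowers t ≤ (P : Subgroup G) := by
    rw [h1]; exact inf_le_right
  exact h3 (Subgroup.mem_zpowers t)

variable {F : Type*} [Field F] [Fintype F] {m : ℕ}

/-- D07 [S-M]: conjugate to `Qs` (`sylow_two_conj`, `normalizer_Qs`): an involution fixing `oInf` is `gT 0 b` (`invol_fix_inf`). -/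
theorem stab_invol (hF : Fintype.card F = 2 ^ (2 * m + 1)) (hm : 1 ≤ m) (P : Sylow 2 (Sz F m)) {t : Sz F m}
    (ht : t ∈ Subgroup.normalizer ((P : Subgroup (Sz F m)) : Set (Sz F m))) (ht1 : t ≠ 1) (ht2 : t * t = 1) :
    t ∈ P := by
  have hfact : Fact (Nat.Prime 2) := ⟨Nat.prime_two⟩
  refine bszd07_mem_sylow P ht 1 ?_
  rw [pow_one, pow_two]
  exact ht2

end Cfsg.Agent.Lib.helper3.BSZ
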