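import Mathlib
import Cfsg.Agent.Lib.helper17.STM.Defs
import Cfsg.Agent.Lib.helper17.STM.Defs2
import Cfsg.Agent.Lib.Helper5.STMF17Ncore
import Cfsg.Agent.Lib.Helper21.STMW13
import Cfsg.Agent.Lib.Helper9.STMF8
import Cfsg.Agent.Lib.Helper16.STMF10
import Cfsg.Agent.Lib.Helper16.STMF10s
import Cfsg.Agent.Lib.Helper16.STMF11

/-!
# Project STM (designer helper17; S2099 family), row F17N `SysM.lemBN`, `SysM.lemBN_s`, VERBATIM (helper5):
`stmf17n_core`, `stmf17n_s_core` on W13 (`Helper21.STMW13`), F8 (`Helper9.STMF8`), F10 (`Helper16.STMF10`), F10s (`Helper16.STMF10s`), F16 (`Helper16.STMF11`).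
-/

set_option autoImplicit false

namespace Cfsg.Agent.Lib.helper17.STM

open Cfsg.Agent.Lib.helper15.St2 Cfsg.Agent.Lib.helper3.STC Cfsg.Agent.Lib.Lead.STD

universe v w

namespace SysM

variable {F : Type*} [Field F] {A B : F} [Fact (∀ r : F, r ^ 2 ≠ -B + A * r)] {ι : Type*} [DecidableEq ι] {G : Type*} [Group G] (S : SysM F A B ι G)

section F
variable (o : ι ⊕ ι)

/-- F17N [M]  root elements on the opposite cell: `IsMon_move` / `IsMon_move_s` for W13 `isMon_ws o 1`, F10 / F10s, F16. -/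
theorem lemBN [Finite F] (a b : ι ⊕ ι) (t : F) {y p : G} (hy : y ∈ S.Yg o) (hp : p ∈ S.Phat o) :
    S.InD o (S.x a b t * (S.ws o 1 * y * p)) :=
  S.stmf17n_core o (fun hab t => S.IsMon_move (S.isMon_ws o 1 one_ne_zero) hab t)
    (fun a b t _ _ hy hp => S.lemA_all o a b t hy hp) (fun hg => S.InD_ws o hg) a b t hy hp

theorem lemBN_s [Finite F] [Finite ι] (a : ι ⊕ ι) (t : Kq F A B) {y p : G} (hy : y ∈ S.Yg o) (hp : p ∈ S.Phat o) :
    S.InD o (S.xs a t * (S.ws o 1 * y * p)) :=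
  S.stmf17n_s_core o (fun a t => S.IsMon_move_s (S.isMon_ws o 1 one_ne_zero) a t)
    (fun a t _ _ hy hp => S.lemA_all_s o a t hy hp) (fun hg => S.InD_ws o hg) a t hy hp

end F

end SysM

end Cfsg.Agent.Lib.helper17.STM
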