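import Mathlib
import Cfsg.Agent.Lib.helper7.SPC.Defs

/-!
# Project SPC (designer helper7), row E5 (`peel`): the core, on the statements of the cited rows
E1 (`even_gen`), E2C (`odd_gen`), E0 (`split`), E3 (`embedA`), E4 (`embedH`), G1 (`blkA_good`), G2 (`blkH_good`)
(specialised to the triple `T`) as hypotheses.
-/

set_option autoImplicit false

namespace Cfsg.Agent.Lib.helper7.SPC

universe u

open Module

variable {F : Type u} [Field F]

theorem spce5_anti (T : Trip F) (hT : T.Good) (x y : T.V) : T.B x y = - T.B y x := by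
  have h := hT.alt (x + y)
  simp only [map_add, LinearMap.add_apply, hT.alt, zero_add, add_zero] at h
  linear_combination h

theorem spce5_skew_pow (T : Trip F) (hT : T.Good) (a : ℕ) (u v : T.V) :
    T.B ((T.N ^ a) u) v = (-1) ^ a * T.B u ((T.N ^ a) v) := by
  induction a generalizing u v with
  | zero => simp
  | succ a ih =>
    have e1 : (T.N ^ (a + 1)) u = (T.N ^ a) (T.N u) := by
      rw [pow_succ]
      rfl
    have e2 : (T.N ^ (a + 1)) v = T.N ((T.N ^ a) v) := by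
      rw [pow_succ']
      rfl
    rw [e1, e2, ih, hT.skew, pow_succ]
    ring

theorem spce5_finrank_blkA (k : ℕ) (c : F) : finrank F (blkA k c).V = k := by
  show finrank F (Fin k → F) = k
  exact Module.finrank_fin_fun F

theorem spce5_finrank_blkH (k : ℕ) : finrank F (blkH k F).V = k + k := by
  show finrank F (Fin k ⊕ Fin k → F) = k + k
  rw [Module.finrank_fintype_fun_eq_card, Fintype.card_sum, Fintype.card_fin]

/-- the core of `peel` (row E5) -/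
theorem spce5_core (h2 : (2 : F) ≠ 0) (T : Trip F) (hT : T.Good) (hV : 0 < finrank F T.V)
    (hE1 : ∀ k : ℕ, Even k → 0 < k → T.N ^ k = 0 → ∀ x : T.V, T.B x ((T.N ^ (k - 1)) x) ≠ 0 →
      ∃ x' : T.V, ∀ a b : ℕ, T.B ((T.N ^ a) x') ((T.N ^ b) x') =
        if a + b + 1 = k then (-1) ^ a * T.B x ((T.N ^ (k - 1)) x) else 0)
    (hE2C : ∀ k : ℕ, Odd k → T.N ^ k = 0 → T.N ^ (k - 1) ≠ 0 →
      ∃ x y : T.V, (∀ a b : ℕ, T.B ((T.N ^ a) x) ((T.N ^ b) x) = 0) ∧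
        (∀ a b : ℕ, T.B ((T.N ^ a) y) ((T.N ^ b) y) = 0) ∧
        ∀ a b : ℕ, T.B ((T.N ^ a) x) ((T.N ^ b) y) = if a + b + 1 = k then (-1) ^ a else 0)
    (hE0 : ∀ T₀ : Trip F, T₀.Good → ∀ φ : T₀.V →ₗ[F] T.V,
      (∀ x y, T.B (φ x) (φ y) = T₀.B x y) → (∀ x, φ (T₀.N x) = T.N (φ x)) →
      ∃ T' : Trip F, T'.Good ∧ TIso T (TSum T₀ T') ∧
        finrank F T'.V + finrank F T₀.V = finrank F T.V ∧ ∀ e : ℕ, T.N ^ e = 0 → T'.N ^ e = 0)
    (hE3 : ∀ (k : ℕ) (c : F) (x : T.V),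
      (∀ a b : ℕ, T.B ((T.N ^ a) x) ((T.N ^ b) x) = if a + b + 1 = k then (-1) ^ a * c else 0) →
      (T.N ^ k) x = 0 →
      ∃ φ : (blkA k c).V →ₗ[F] T.V, (∀ v w, T.B (φ v) (φ w) = (blkA k c).B v w) ∧
        ∀ v, φ ((blkA k c).N v) = T.N (φ v))
    (hE4 : ∀ (k : ℕ) (x y : T.V),
      (∀ a b : ℕ, T.B ((T.N ^ a) x) ((T.N ^ b) x) = 0) →
      (∀ a b : ℕ, T.B ((T.N ^ a) y) ((T.N ^ b) y) = 0) →
      (∀ a b : ℕ, T.B ((T.N ^ a) x) ((T.N ^ b) y) = if a + b + 1 = k then (-1) ^ a else 0) →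
      (T.N ^ k) x = 0 → (T.N ^ k) y = 0 →
      ∃ φ : (blkH k F).V →ₗ[F] T.V, (∀ v w, T.B (φ v) (φ w) = (blkH k F).B v w) ∧
        ∀ v, φ ((blkH k F).N v) = T.N (φ v))
    (hG1 : ∀ (k : ℕ) (c : F), Even k → c ≠ 0 → (blkA k c).Good)
    (hG2 : ∀ k : ℕ, (blkH k F).Good) :
    ∃ (b : Blk F) (T' : Trip F), b.Canon ∧ T'.Good ∧ TIso T (TSum b.trip T') ∧
      finrank F T'.V < finrank F T.V ∧ ∀ e : ℕ, T.N ^ e = 0 → b.len ≤ e ∧ T'.N ^ e = 0 := by
  classical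
  have hnil := hT.nil
  obtain ⟨k, hkdef⟩ : ∃ k : ℕ, k = Nat.find hnil := ⟨_, rfl⟩
  have hNk : T.N ^ k = 0 := by
    rw [hkdef]
    exact Nat.find_spec hnil
  have hmin : ∀ e : ℕ, T.N ^ e = 0 → k ≤ e := fun e he => by
    rw [hkdef]
    exact Nat.find_min' hnil he
  have hnt : Nontrivial T.V := Module.nontrivial_of_finrank_pos hV
  obtain ⟨z, hz⟩ := exists_ne (0 : T.V)
  have hk0 : 0 < k := by
    rcases Nat.eq_zero_or_pos k with h | h
    · exfalso
      rw [h, pow_zero] at hNk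
      have h1 : (1 : Module.End F T.V) z = (0 : Module.End F T.V) z := by rw [hNk]
      exact hz h1
    · exact h
  have hne : T.N ^ (k - 1) ≠ 0 := fun h => by
    have := hmin _ h
    omega
  have hzero : ∀ x : T.V, (T.N ^ k) x = 0 := fun x => by
    rw [hNk]
    rfl
  rcases Nat.even_or_odd k with hk | hk
  · -- `k` even
    obtain ⟨y0, hy0⟩ : ∃ y : T.V, (T.N ^ (k - 1)) y ≠ 0 := by
      by_contra h
      push Not at h
      exact hne (LinearMap.ext h)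
    obtain ⟨x0, hx0⟩ : ∃ x : T.V, T.B ((T.N ^ (k - 1)) y0) x ≠ 0 := by
      by_contra h
      push Not at h
      exact hy0 (hT.nd _ h)
    have hodd : Odd (k - 1) := by
      obtain ⟨m, hm⟩ := hk
      exact ⟨m - 1, by omega⟩
    have hsymm : ∀ x y : T.V, T.B x ((T.N ^ (k - 1)) y) = T.B y ((T.N ^ (k - 1)) x) := by
      intro x y
      rw [spce5_anti T hT x, spce5_skew_pow T hT, hodd.neg_one_pow]
      ring
    have hxy : T.B x0 ((T.N ^ (k - 1)) y0) ≠ 0 := by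
      rw [spce5_anti T hT]
      exact neg_ne_zero.mpr hx0
    obtain ⟨x, hx⟩ : ∃ x : T.V, T.B x ((T.N ^ (k - 1)) x) ≠ 0 := by
      by_contra h
      push Not at h
      have h1 := h (x0 + y0)
      simp only [map_add, LinearMap.add_apply, h x0, h y0, hsymm y0 x0, zero_add, add_zero] at h1
      apply hxy
      have h3 : (2 : F) * T.B x0 ((T.N ^ (k - 1)) y0) = 0 := by linear_combination h1
      rcases mul_eq_zero.mp h3 with h4 | h4
      · exact absurd h4 h2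
      · exact h4
    obtain ⟨x', hx'⟩ := hE1 k hk hk0 hNk x hx
    obtain ⟨φ, hφB, hφN⟩ := hE3 k _ x' hx' (hzero x')
    obtain ⟨T', hT', hiso, hdim, hnil'⟩ := hE0 (blkA k _) (hG1 k _ hk hx) φ hφB hφN
    refine ⟨Blk.A k (T.B x ((T.N ^ (k - 1)) x)), T', ⟨hk, hk0, hx⟩, hT', hiso, ?_,
      fun e he => ⟨hmin e he, hnil' e he⟩⟩
    rw [spce5_finrank_blkA] at hdim
    omega
  · -- `k` odd
    obtain ⟨x, y, hxx, hyy, hxy⟩ := hE2C k hk hNk hne
    obtain ⟨φ, hφB, hφN⟩ := hE4 k x y hxx hyy hxy (hzero x) (hzero y)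
    obtain ⟨T', hT', hiso, hdim, hnil'⟩ := hE0 (blkH k F) (hG2 k) φ hφB hφN
    refine ⟨Blk.H k, T', hk, hT', hiso, ?_, fun e he => ⟨hmin e he, hnil' e he⟩⟩
    rw [spce5_finrank_blkH] at hdim
    omega

end Cfsg.Agent.Lib.helper7.SPC
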