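import Mathlib
import Cfsg.Agent.Lib.helper7.SPC.Defs
import Cfsg.Agent.Lib.Helper5.SPCE5core
import Cfsg.Agent.Lib.Helper10.SPCE1
import Cfsg.Agent.Lib.helper7.SPCE2C
import Cfsg.Agent.Lib.helper6.SPCE0
import Cfsg.Agent.Lib.Helper19.SPCE3
import Cfsg.Agent.Lib.Helper19.SPCE4
import Cfsg.Agent.Lib.Helper26.SPCG1
import Cfsg.Agent.Lib.helper2.SPCG2

/-!
# Project SPC (designer helper7), row E5: `peel` (verbatim; proof in `Helper5/SPCE5core.lean`).
-/

set_option autoImplicit false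

namespace Cfsg.Agent.Lib.helper7.SPC

universe u

open Module

variable {F : Type u} [Field F]

theorem peel (h2 : (2 : F) ≠ 0) (T : Trip F) (hT : T.Good) (hV : 0 < finrank F T.V) :
    ∃ (b : Blk F) (T' : Trip F), b.Canon ∧ T'.Good ∧ TIso T (TSum b.trip T') ∧
      finrank F T'.V < finrank F T.V ∧ ∀ e : ℕ, T.N ^ e = 0 → b.len ≤ e ∧ T'.N ^ e = 0 :=
  spce5_core h2 T hT hV
    (fun k hk hk0 hNk x hx => even_gen h2 T.B T.N hT.alt hT.skew k hk hk0 hNk x hx)
    (fun k hk hNk hne => odd_gen h2 T.B T.N hT.alt hT.nd hT.skew k hk hNk hne)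
    (fun T₀ h₀ φ hB hN => split T₀ T h₀ hT φ hB hN)
    (fun k c x hx hxk => embedA T k c x hx hxk)
    (fun k x y hxx hyy hxy hxk hyk => embedH T hT.alt k x y hxx hyy hxy hxk hyk)
    (fun k c hk hc => blkA_good h2 k c hk hc)
    (fun k => blkH_good h2 k)

end Cfsg.Agent.Lib.helper7.SPC
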