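import Mathlib
import Cfsg.Agent.Lib.helper17.T3.DefsC
import Cfsg.Agent.Lib.helper4.T3CH5
import Cfsg.Agent.Lib.helper17.T3CD2
import Cfsg.Agent.Lib.Helper21.T3CA1a
import Cfsg.Agent.Lib.Helper22.T3CA1c

/-!
# Project T3C (S2110 family), row D4b `Z2_smul`, VERBATIM (helper5)

The defect `Z2` of `ss2` upstairs is invariant under the torus element `hl k c`.
Self-contained: carries an own-name copy `t3cd4bh5_eqv` of row E1 (`LongLift.eqv`).
-/

set_option autoImplicit false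

namespace Cfsg.Agent.Lib.helper17.T3

open Cfsg.Agent.Lib.helper15.St2 Cfsg.Agent.Lib.helper7.Ce

variable {F K : Type*} [Field F] [Field K] [Algebra F K]

variable {C : Cub F K} {G Γ : Type*} [Group G] [Group Γ]

/-- `tr (c0 x) = c0 tr x` for `c0 : F` -/
theorem t3cd4bh5_tr_algebraMap_mul (C : Cub F K) (c0 : F) (x : K) : C.tr (algebraMap F K c0 * x) = c0 * C.tr x := by
  apply (algebraMap F K).injective
  simp only [map_mul, C.htr, C.θF]
  ring

section D

variable {S : SysT C G} {σ : Γ →* G} {L : ShortLift S σ}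

/-- own-name copy of row E1 (`LongLift.eqv`): equivariance of the long lifts -/
theorem t3cd4bh5_eqv (hC : C.Good) (M : LongLift S σ L) (e : Γ) (k k' : ZMod 6) {a b : K} {c0 : F} (ha : a ≠ 0) (hb : b ≠ 0)
    (hk : S.MapsPair (σ e) k k' a) (hk1 : S.MapsPair (σ e) (k + 1) (k' + 1) b) (hab : a * b = algebraMap F K c0) (c : F) :
    cj e (M.Y k c) = M.Y k' (c0 * c) := by
  obtain ⟨s, hs⟩ := hC.tr_surj (-c)
  have h1 : M.Y k c = cm (L.X k s) (L.X (k + 1) 1) := by
    rw [M.ss1 k s 1, mul_one, hs, neg_neg]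
  rw [h1, cj_cm, L.eqv e k k' a ha hk s, L.eqv e (k + 1) (k' + 1) b hb hk1 1, M.ss1 k' (a * s) (b * 1)]
  congr 1
  have h2 : a * s * (b * 1) = algebraMap F K c0 * s := by
    rw [← hab]; ring
  rw [h2, t3cd4bh5_tr_algebraMap_mul, hs, mul_neg, neg_neg]

/-- [D4b] [M] invariance of the defect of `ss2` under `e = lf h (S.hl k c)`. -/
theorem Z2_smul (hC : C.Good) (h : IsCE σ) (hT : CLT S σ) (M : LongLift S σ L) (k : ZMod 6) {c : F} (hc : c ≠ 0) (s t : K) : Z2 L M k (c • s) t = Z2 L M k s t := by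
  have hσ : σ (lf h (S.hl k c)) = S.hl k c := map_lf h _
  have hc' : algebraMap F K c ≠ 0 := (map_ne_zero (algebraMap F K)).2 hc
  have d0 : dhs (0 : ZMod 6) c = c := rfl
  have d1 : dhs (1 : ZMod 6) c = c := rfl
  have d2 : dhs (2 : ZMod 6) c = 1 := rfl
  have p0 : S.MapsPair (σ (lf h (S.hl k c))) k k (algebraMap F K c) := by
    have := S.hl_mapsPair k 0 c hc
    rw [add_zero, d0] at this
    rw [hσ]; exact this
  have p1 : S.MapsPair (σ (lf h (S.hl k c))) (k + 1) (k + 1) (algebraMap F K c) := by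
    have := S.hl_mapsPair k 1 c hc
    rw [d1] at this
    rw [hσ]; exact this
  have e12 : k + 1 + 1 = k + 2 := by ring
  have p2 : S.MapsPair (σ (lf h (S.hl k c))) (k + 1 + 1) (k + 1 + 1) (1 : K) := by
    have := S.hl_mapsPair k 2 c hc
    rw [d2, map_one] at this
    rw [hσ, e12]; exact this
  have p2' : S.MapsPair (σ (lf h (S.hl k c))) (k + 2) (k + 2) (1 : K) := by
    rw [← e12]; exact p2
  have x0 := L.eqv (lf h (S.hl k c)) k k _ hc' p0
  have x1 := L.eqv (lf h (S.hl k c)) (k + 1) (k + 1) _ hc' p1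
  have x2 := L.eqv (lf h (S.hl k c)) (k + 2) (k + 2) _ one_ne_zero p2'
  have y0 : ∀ d : F, cj (lf h (S.hl k c)) (M.Y k d) = M.Y k (c ^ 2 * d) :=
    t3cd4bh5_eqv hC M _ k k hc' hc' p0 p1 (by rw [pow_two, map_mul])
  have y1 : ∀ d : F, cj (lf h (S.hl k c)) (M.Y (k + 1) d) = M.Y (k + 1) (c * d) :=
    t3cd4bh5_eqv hC M _ (k + 1) (k + 1) hc' one_ne_zero p1 p2 (by rw [mul_one])
  have hz : cj (lf h (S.hl k c)) (Z2 L M k s t) = Z2 L M k s t := h.cj_of_map_one (Z2_map M k s t) _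
  have a1 : -(C.tr (C.sharp (c • s) * t)) = c ^ 2 * -(C.tr (C.sharp s * t)) := by
    rw [Cub.sharp_smul, smul_mul_assoc, Cub.tr_smul, mul_neg]
  have a2 : C.cross (c • s) t = algebraMap F K c * C.cross s t := by
    rw [Cub.cross_smul_left, Algebra.smul_def]
  have a3 : C.tr (c • s * C.sharp t) = c * C.tr (s * C.sharp t) := by
    rw [smul_mul_assoc, Cub.tr_smul]
  rw [← hz]
  unfold Z2 R2
  rw [cj_mul, cj_cm, cj_inv, cj_mul, cj_mul, x0, x2, x1, y0, y1, one_mul, a1, a2, a3, Algebra.smul_def]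

end D

end Cfsg.Agent.Lib.helper17.T3
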