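import Mathlib
import Cfsg.Agent.Lib.helper17.T3.DefsC
import Cfsg.Agent.Lib.helper17.T3CD2
import Cfsg.Agent.Lib.Helper28.T3CE2
import Cfsg.Agent.Lib.Helper21.T3CA1a
import Cfsg.Agent.Lib.Helper22.T3CA1c

/-!
# Project T3C (S2110 family), row D5 `Z2_symm`: CORE on the statement of D3a (`Z2_add_left`) (helper5)

`t3cd5h5_core hC h hT M k hadd s t : Z2 L M k s t = Z2 L M k t s`, where `hadd` is the statement of `Z2_add_left` at `k`.
-/

set_option autoImplicit false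

namespace Cfsg.Agent.Lib.helper17.T3

open Cfsg.Agent.Lib.helper15.St2 Cfsg.Agent.Lib.helper7.Ce

variable {F K : Type*} [Field F] [Field K] [Algebra F K]

variable {C : Cub F K} {G Γ : Type*} [Group G] [Group Γ]

/-- extra: `(z r)⁻¹ (r⁻¹)⁻¹ = z⁻¹` if `z` and `r` commute -/
theorem t3cd5h5_aux {z r : Γ} (h : z * r = r * z) : (z * r)⁻¹ * (r⁻¹)⁻¹ = z⁻¹ := by
  rw [h, mul_inv_rev, inv_inv, inv_mul_cancel_right]

/-- extra: reverse a product of three pairwise commuting elements -/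
theorem t3cd5h5_rev3 {a b d : Γ} (hab : a * b = b * a) (had : a * d = d * a) (hbd : b * d = d * b) : a * b * d = d * b * a := by
  rw [hab, mul_assoc, had, ← mul_assoc, hbd, mul_assoc]

section D

variable {S : SysT C G} {σ : Γ →* G} {L : ShortLift S σ}

/-- extra: `X k 0 = 1` -/
theorem t3cd5h5_X_zero (L : ShortLift S σ) (k : ZMod 6) : L.X k 0 = 1 := by
  have h := L.add k 0 0
  rw [add_zero] at h
  exact mul_eq_left.1 h

/-- the Weyl element `wl (k+2) 1` on the short root groups, as `MapsPair` facts -/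
theorem t3cd5h5_maps (S : SysT C G) (k : ZMod 6) :
    S.MapsPair (S.wl (k + 2) 1) k (k + 2) 1 ∧ S.MapsPair (S.wl (k + 2) 1) (k + 2) k (-1) ∧ S.MapsPair (S.wl (k + 2) 1) (k + 1) (k + 1) 1 := by
  have h1 : (1 : F) ≠ 0 := one_ne_zero
  have i4 : k + 2 + 4 = k := by
    have : (2 : ZMod 6) + 4 = 0 := by decide
    rw [add_assoc, this, add_zero]
  have i1 : k + 2 + 1 = k + 3 := by ring
  have i2 : k + 2 + 2 = k + 1 + 3 := by ring
  have i5 : k + 2 + 5 = k + 1 := by
    have : (2 : ZMod 6) + 5 = 1 := by decide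
    rw [add_assoc, this]
  have f0 := S.wl_s0 (k + 2) 1
  have f1 := S.wl_s1 (k + 2) 1
  have f2 := S.wl_s2 (k + 2) 1
  have f3 := S.wl_s3 (k + 2) 1
  have f4 := S.wl_s4 (k + 2) 1
  have f5 := S.wl_s5 (k + 2) 1
  rw [i4] at f0 f4
  rw [i1] at f1 f3
  rw [i2] at f2
  rw [i5] at f5
  unfold SysT.MapsPair SysT.wl
  simp only [inv_one]
  refine ⟨⟨fun t => ?_, fun t => ?_⟩, ⟨fun t => ?_, fun t => ?_⟩, ⟨fun t => ?_, fun t => ?_⟩⟩
  · have := f4 t h1
    simp only [inv_one, one_smul] at this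
    rw [one_mul]; exact this
  · have := f1 t h1
    simp only [inv_one, one_smul] at this
    rw [one_mul]; exact this
  · have := f0 t h1
    simp only [inv_one, one_smul] at this
    rw [neg_one_mul]; exact this
  · have := f3 t h1
    simp only [inv_one, one_smul] at this
    rw [inv_neg, inv_one, neg_one_mul]; exact this
  · have := f5 t h1
    simp only [inv_one] at this
    rw [one_mul]; exact this
  · have := f2 t h1
    simp only [inv_one] at this
    rw [one_mul]; exact this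

/-- [D5] CORE: symmetry of the defect of `ss2`, on the statement of `Z2_add_left` at `k`. -/
theorem t3cd5h5_core (hC : C.Good) (h : IsCE σ) (hT : CLT S σ) (M : LongLift S σ L) (k : ZMod 6)
    (hadd : ∀ s s' t : K, Z2 L M k (s + s') t = Z2 L M k s t * Z2 L M k s' t) (s t : K) : Z2 L M k s t = Z2 L M k t s := by
  have hσ : σ (lf h (S.wl (k + 2) 1)) = S.wl (k + 2) 1 := map_lf h _
  obtain ⟨m0, m2, m1⟩ := t3cd5h5_maps S k
  rw [← hσ] at m0 m2 m1
  have e12 : k + 1 + 1 = k + 2 := by ring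
  have n1 : (-1 : K) ≠ 0 := neg_ne_zero.2 one_ne_zero
  have x0 := L.eqv (lf h (S.wl (k + 2) 1)) k (k + 2) 1 one_ne_zero m0
  have x2 := L.eqv (lf h (S.wl (k + 2) 1)) (k + 2) k (-1) n1 m2
  have x1 := L.eqv (lf h (S.wl (k + 2) 1)) (k + 1) (k + 1) 1 one_ne_zero m1
  have m0' : S.MapsPair (σ (lf h (S.wl (k + 2) 1))) k (k + 1 + 1) 1 := by rw [e12]; exact m0
  have m2' : S.MapsPair (σ (lf h (S.wl (k + 2) 1))) (k + 1 + 1) k (-1) := by rw [e12]; exact m2
  have y0 : ∀ d : F, cj (lf h (S.wl (k + 2) 1)) (M.Y k d) = M.Y (k + 1) (-(1 * d)) :=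
    LongLift.eqv_refl hC M _ k (k + 1) one_ne_zero one_ne_zero m0' m1 (by rw [mul_one, map_one])
  have y1 : ∀ d : F, cj (lf h (S.wl (k + 2) 1)) (M.Y (k + 1) d) = M.Y k (-(-1 * d)) :=
    LongLift.eqv_refl hC M _ (k + 1) k one_ne_zero n1 m1 m2' (by rw [one_mul, map_neg, map_one])
  have hz : cj (lf h (S.wl (k + 2) 1)) (Z2 L M k s t) = Z2 L M k s t := h.cj_of_map_one (Z2_map M k s t) _
  -- the defect at `(-t, s)`
  have hcm : cm (L.X k (-t)) (L.X (k + 2) s) = Z2 L M k (-t) s * R2 L M k (-t) s := by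
    unfold Z2; rw [inv_mul_cancel_right]
  have hcen : Z2 L M k (-t) s * R2 L M k (-t) s = R2 L M k (-t) s * Z2 L M k (-t) s :=
    h.comm_of_map_one (Z2_map M k (-t) s) _
  -- the transformed right hand side is the inverse of `R2 k (-t) s`
  have hQ : M.Y (k + 1) (C.tr (C.sharp s * t)) * L.X (k + 1) (C.cross s t) * M.Y k (C.tr (s * C.sharp t)) = (R2 L M k (-t) s)⁻¹ := by
    have c1 : M.Y (k + 1) (C.tr (C.sharp s * t)) * L.X (k + 1) (C.cross s t) = L.X (k + 1) (C.cross s t) * M.Y (k + 1) (C.tr (C.sharp s * t)) :=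
      (hT.sl0 (k + 1) _ _ _ _ (L.map _ _) (M.map _ _)).symm
    have c2 : M.Y (k + 1) (C.tr (C.sharp s * t)) * M.Y k (C.tr (s * C.sharp t)) = M.Y k (C.tr (s * C.sharp t)) * M.Y (k + 1) (C.tr (C.sharp s * t)) :=
      (hT.ll1 k _ _ _ _ (M.map _ _) (M.map _ _)).symm
    have c3 : L.X (k + 1) (C.cross s t) * M.Y k (C.tr (s * C.sharp t)) = M.Y k (C.tr (s * C.sharp t)) * L.X (k + 1) (C.cross s t) :=
      (hT.ls1 k _ _ _ _ (M.map _ _) (L.map _ _)).symm
    rw [t3cd5h5_rev3 c1 c2 c3]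
    apply eq_inv_of_mul_eq_one_right
    unfold R2
    rw [R2_mul hT M k, Cub.sharp_neg, Cub.cross_neg_left, neg_mul, Cub.tr_neg, Cub.cross_comm C t s, mul_comm (C.sharp t) s, mul_comm t (C.sharp s),
      neg_add_cancel, neg_add_cancel, neg_add_cancel, t3ce2h28_Y_zero, t3ce2h28_Y_zero, t3cd5h5_X_zero, mul_one, mul_one]
  have key : Z2 L M k s t = (Z2 L M k (-t) s)⁻¹ := by
    rw [← hz]
    have hu : Z2 L M k s t = cm (L.X k s) (L.X (k + 2) t) *
        (M.Y k (-(C.tr (C.sharp s * t))) * L.X (k + 1) (C.cross s t) * M.Y (k + 1) (C.tr (s * C.sharp t)))⁻¹ := rfl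
    rw [hu, cj_mul, cj_cm, cj_inv, cj_mul, cj_mul, x0, x2, x1, y0, y1]
    simp only [one_mul, neg_one_mul, neg_neg]
    rw [← cm_inv_swap, hcm, hQ]
    exact t3cd5h5_aux hcen
  have z0 : Z2 L M k 0 s = 1 := by
    have := hadd 0 0 s
    rw [add_zero] at this
    exact mul_eq_left.1 this.symm
  have hneg : Z2 L M k (-t) s = (Z2 L M k t s)⁻¹ := by
    have := hadd t (-t) s
    rw [add_neg_cancel, z0] at this
    exact eq_inv_of_mul_eq_one_right this.symm
  rw [key, hneg, inv_inv]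

end D

end Cfsg.Agent.Lib.helper17.T3
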