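import Mathlib
import Cfsg.Agent.Lib.Helper5.T3CD5core
import Cfsg.Agent.Lib.Helper24.T3CD3

/-!
# Project T3C (S2110 family), row D5 `Z2_symm`, VERBATIM (helper5): the core on the landed D3a `Z2_add_left` (helper24)
-/

set_option autoImplicit false

namespace Cfsg.Agent.Lib.helper17.T3

open Cfsg.Agent.Lib.helper15.St2 Cfsg.Agent.Lib.helper7.Ce

variable {F K : Type*} [Field F] [Field K] [Algebra F K]

variable {C : Cub F K} {G Γ : Type*} [Group G] [Group Γ]

section D

variable {S : SysT C G} {σ : Γ →* G} {L : ShortLift S σ}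

/-- [D5] [M] symmetry of the defect of `ss2`, by the Weyl element `wl (k+2) 1`. -/
theorem Z2_symm (hC : C.Good) (h : IsCE σ) (hT : CLT S σ) (M : LongLift S σ L) (k : ZMod 6) (s t : K) : Z2 L M k s t = Z2 L M k t s :=
  t3cd5h5_core hC h hT M k (fun s s' t => Z2_add_left h hT M k s s' t) s t

end D

end Cfsg.Agent.Lib.helper17.T3
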