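import Mathlib
import Cfsg.Agent.Lib.Helper5.PcPB

set_option autoImplicit false

/-! A faster certificate check: the forms are turned into tables of counts first. -/

namespace Cfsg.Agent.Lib.Helper5.PcP

open Cfsg.Agent.Lib.Helper5.PcT

/-- increase the entry `m` of a row of counts, extending the row if needed -/
def incRow : List ℕ → ℕ → List ℕ
  | [], 0 => [1]
  | [], m + 1 => 0 :: incRow [] m
  | c :: r, 0 => (c + 1) :: r
  | c :: r, m + 1 => c :: incRow r m

/-- increase the entry `(i, j)` of a table of counts, extending the table if needed -/
def incV : List (List ℕ) → ℕ → ℕ → List (List ℕ)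
  | [], 0, j => [incRow [] j]
  | [], i + 1, j => [] :: incV [] i j
  | r :: V, 0, j => incRow r j :: V
  | r :: V, i + 1, j => r :: incV V i j

/-- the sum of two rows of counts -/
def addRow : List ℕ → List ℕ → List ℕ
  | [], s => s
  | c :: r, [] => c :: r
  | a :: r, b :: s => (a + b) :: addRow r s

/-- the sum of two tables of counts -/
def addV : List (List ℕ) → List (List ℕ) → List (List ℕ)
  | [], W => W
  | r :: V, [] => r :: V
  | r :: V, s :: W => addRow r s :: addV V W

/-- an entry of a table of counts -/
def ent (V : List (List ℕ)) (i j : ℕ) : ℕ := (V.getD i []).getD j 0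

/-- the table of counts of a form -/
def vecOf (L : List (ℕ × ℕ)) : List (List ℕ) := L.foldr (fun q V => incV V q.1 q.2) []

/-- the sum of a list of tables of counts -/
def sumV (Vs : List (List (List ℕ))) : List (List ℕ) := Vs.foldr addV []

/-- all entries are divisible by `p` -/
def allZ (p : ℕ) (V : List (List ℕ)) : Bool := V.all fun r => r.all fun c => c % p == 0

theorem getD_incRow (r : List ℕ) (m m' : ℕ) :
    (incRow r m).getD m' 0 = r.getD m' 0 + if m = m' then 1 else 0 := by
  induction r generalizing m m' with
  | nil =>
    induction m generalizing m' with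
    | zero =>
      cases m' with
      | zero => simp [incRow]
      | succ m' => simp [incRow]
    | succ m ih =>
      cases m' with
      | zero => simp [incRow]
      | succ m' =>
        have := ih m'
        simp only [incRow, List.getD_cons_succ, this]
        simp
  | cons c r ih =>
    cases m with
    | zero =>
      cases m' with
      | zero => simp [incRow]
      | succ m' => simp [incRow]
    | succ m =>
      cases m' with
      | zero => simp [incRow]
      | succ m' =>
        have := ih m m'
        simp only [incRow, List.getD_cons_succ, this]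
        simp

theorem ent_incV (V : List (List ℕ)) (i j i' j' : ℕ) :
    ent (incV V i j) i' j' = ent V i' j' + if i = i' ∧ j = j' then 1 else 0 := by
  unfold ent
  induction V generalizing i i' with
  | nil =>
    induction i generalizing i' with
    | zero =>
      cases i' with
      | zero =>
        simp only [incV, List.getD_cons_zero, getD_incRow]
        simp
      | succ i' => simp [incV]
    | succ i ih =>
      cases i' with
      | zero => simp [incV]
      | succ i' =>
        have := ih i'
        simp only [incV, List.getD_cons_succ, this]
        simp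
  | cons r V ih =>
    cases i with
    | zero =>
      cases i' with
      | zero =>
        simp only [incV, List.getD_cons_zero, getD_incRow]
        simp
      | succ i' => simp [incV]
    | succ i =>
      cases i' with
      | zero => simp [incV]
      | succ i' =>
        have := ih i i'
        simp only [incV, List.getD_cons_succ, this]
        simp

theorem getD_addRow (r s : List ℕ) (m : ℕ) :
    (addRow r s).getD m 0 = r.getD m 0 + s.getD m 0 := by
  induction r generalizing s m with
  | nil => simp [addRow]
  | cons a r ih =>
    cases s with
    | nil => simp [addRow]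
    | cons b s =>
      cases m with
      | zero => simp [addRow]
      | succ m =>
        simp only [addRow, List.getD_cons_succ]
        exact ih s m

theorem ent_addV (U V : List (List ℕ)) (i j : ℕ) :
    ent (addV U V) i j = ent U i j + ent V i j := by
  unfold ent
  induction U generalizing V i with
  | nil => simp [addV]
  | cons r U ih =>
    cases V with
    | nil => simp [addV]
    | cons s V =>
      cases i with
      | zero =>
        simp only [addV, List.getD_cons_zero]
        exact getD_addRow r s j
      | succ i =>
        simp only [addV, List.getD_cons_succ]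
        exact ih V i


/-- counting with the instance used in the checks -/
abbrev cnt (q : ℕ × ℕ) (L : List (ℕ × ℕ)) : ℕ := @List.count (ℕ × ℕ) instBEqOfDecidableEq q L

theorem cnt_cons (q a : ℕ × ℕ) (L : List (ℕ × ℕ)) :
    cnt q (a :: L) = cnt q L + if a = q then 1 else 0 := by
  have h := @List.count_cons (ℕ × ℕ) instBEqOfDecidableEq q a L
  unfold cnt
  rw [h]
  congr 1
  by_cases e : a = q
  · subst e
    simp
  · rw [if_neg e]
    have : (@BEq.beq (ℕ × ℕ) instBEqOfDecidableEq a q) = false := by
      show decide (a = q) = false
      simpa using e
    rw [this]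
    rfl

theorem cnt_append (q : ℕ × ℕ) (L M : List (ℕ × ℕ)) : cnt q (L ++ M) = cnt q L + cnt q M :=
  @List.count_append (ℕ × ℕ) instBEqOfDecidableEq q L M

theorem cnt_flatMap (q : ℕ × ℕ) (l : List ℕ) (f : ℕ → List (ℕ × ℕ)) :
    cnt q (l.flatMap f) = (l.map (cnt q ∘ f)).sum :=
  @List.count_flatMap (ℕ × ℕ) ℕ instBEqOfDecidableEq l f q

theorem ent_nil (i j : ℕ) : ent [] i j = 0 := by
  simp [ent]

theorem ent_vecOf (L : List (ℕ × ℕ)) (i j : ℕ) : ent (vecOf L) i j = cnt (i, j) L := by
  induction L with
  | nil => simp [vecOf, ent, cnt]
  | cons q L ih =>
    have e : vecOf (q :: L) = incV (vecOf L) q.1 q.2 := rfl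
    rw [e, ent_incV, ih, cnt_cons]
    congr 1
    by_cases h : q = (i, j)
    · subst h
      simp
    · have h' : ¬ (q.1 = i ∧ q.2 = j) := by
        rintro ⟨h1, h2⟩
        exact h (Prod.ext h1 h2)
      rw [if_neg h', if_neg h]

theorem ent_sumV (Vs : List (List (List ℕ))) (i j : ℕ) :
    ent (sumV Vs) i j = (Vs.map fun V => ent V i j).sum := by
  induction Vs with
  | nil => simp [sumV, ent]
  | cons V Vs ih =>
    have e : sumV (V :: Vs) = addV V (sumV Vs) := rfl
    rw [e, ent_addV, ih, List.map_cons, List.sum_cons]

theorem ent_mod_of_allZ (p : ℕ) (V : List (List ℕ)) (h : allZ p V = true) (i j : ℕ) :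
    ent V i j % p = 0 := by
  unfold allZ at h
  rw [List.all_eq_true] at h
  unfold ent
  by_cases hi : i < V.length
  · rw [List.getD_eq_getElem _ _ hi]
    have h1 := h _ (List.getElem_mem hi)
    rw [List.all_eq_true] at h1
    by_cases hj : j < V[i].length
    · rw [List.getD_eq_getElem _ _ hj]
      have h2 := h1 _ (List.getElem_mem hj)
      simpa using h2
    · rw [List.getD_eq_default _ _ (by omega)]
      exact Nat.zero_mod p
  · rw [List.getD_eq_default V [] (by omega)]
    show (([] : List ℕ).getD j 0) % p = 0
    simp

/-- the faster certificate check, with the tables of counts of the forms given -/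
def certChkV (p : ℕ) (D : PcD) (C : List (List (ℕ × ℕ))) (ZV : List (List (List ℕ)))
    (certs : List (List ℕ)) : Bool :=
  (List.range D.k).all fun i => (List.range D.k).all fun j =>
    decide (j < i) || allZ p (addV (vecOf ((i, j) :: rep (p - 1) (cob D C i j)))
      (sumV ((certs.getD (i * D.k + j) []).map fun n => ZV.getD n [])))

/-- the faster certificate check -/
def certOKV (p : ℕ) (D : PcD) (C Z : List (List (ℕ × ℕ))) (certs : List (List ℕ)) : Bool :=
  certChkV p D C (Z.map vecOf) certs

theorem getD_map_vecOf (Z : List (List (ℕ × ℕ))) (n : ℕ) :
    (Z.map vecOf).getD n [] = vecOf (Z.getD n []) := by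
  by_cases hn : n < Z.length
  · rw [List.getD_eq_getElem _ _ (by rw [List.length_map]; exact hn), List.getD_eq_getElem _ _ hn,
      List.getElem_map]
  · rw [List.getD_eq_default _ _ (by rw [List.length_map]; omega),
      List.getD_eq_default _ _ (by omega)]
    rfl

/-- the faster check implies the check -/
theorem certOKP_of_certOKV (p : ℕ) (D : PcD) (C Z : List (List (ℕ × ℕ))) (certs : List (List ℕ))
    (h : certOKV p D C Z certs = true) : certOKP p D C Z certs = true := by
  unfold certOKV certChkV at h
  unfold certOKP
  rw [List.all_eq_true] at h ⊢
  intro i hi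
  have h1 := h i hi
  rw [List.all_eq_true] at h1 ⊢
  intro j hj
  have h2 := h1 j hj
  rw [Bool.or_eq_true] at h2 ⊢
  rcases h2 with h2 | h2
  · exact Or.inl h2
  · right
    unfold zeroCounts
    rw [List.all_eq_true]
    intro q _
    have h3 := ent_mod_of_allZ p _ h2 q.1 q.2
    rw [ent_addV, ent_vecOf, ent_sumV, List.map_map] at h3
    have e : cnt q (wholeP p D C Z (certs.getD (i * D.k + j) []) i j) =
        cnt (q.1, q.2) ((i, j) :: rep (p - 1) (cob D C i j)) +
        ((certs.getD (i * D.k + j) []).map
          ((fun V => ent V q.1 q.2) ∘ fun n => (Z.map vecOf).getD n [])).sum := by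
      unfold wholeP
      have hq : (q.1, q.2) = q := rfl
      rw [hq, cnt_cons, cnt_cons, cnt_append, cnt_flatMap]
      have e2 : ((certs.getD (i * D.k + j) []).map
          ((fun V => ent V q.1 q.2) ∘ fun n => (Z.map vecOf).getD n [])) =
          ((certs.getD (i * D.k + j) []).map (cnt q ∘ fun n => Z.getD n [])) := by
        apply List.map_congr_left
        intro n _
        simp only [Function.comp]
        rw [getD_map_vecOf, ent_vecOf]
      rw [e2]
      ring
    show (cnt q (wholeP p D C Z (certs.getD (i * D.k + j) []) i j) % p == 0) = true
    rw [e]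
    simpa using h3

end Cfsg.Agent.Lib.Helper5.PcP
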