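import Mathlib
import Cfsg.Agent.Lib.Helper5.PcPE
import Cfsg.Agent.Lib.helper23.PgS

set_option autoImplicit false

/-! Elements of a group of permutations with a verified chain, given by coded tables and certified by
sifting. -/

namespace Cfsg.Agent.Lib.Helper5.PcP

open Subgroup Cfsg.Agent.Lib.helper23 Cfsg.Agent.Lib.Helper5.CP

/-- the pair of lookups of a pair of tables -/
def mkP (look : ℕ → ℕ → ℕ) (t : ℕ × ℕ) : PFun := ⟨fun i => look t.1 i, fun i => look t.2 i⟩

/-- all pairs of tables are mutually inverse and sift through the chain -/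
def tabsChk (look : ℕ → ℕ → ℕ) (n : ℕ) (base : List ℕ) (C : List PgLvlW)
    (tabs : List (ℕ × ℕ)) : Bool :=
  tabs.all fun t => (mkP look t).ok n && pgSiftW n base C (mkP look t).f

section

variable {n : ℕ} {look : ℕ → ℕ → ℕ} {H : Subgroup (Equiv.Perm (Fin n))}

/-- the list of elements of `H` of a list of tables -/
noncomputable def elList : (tabs : List (ℕ × ℕ)) → (∀ t ∈ tabs, (mkP look t).perm n ∈ H) → List H
  | [], _ => []
  | t :: ts, h => ⟨(mkP look t).perm n, h t List.mem_cons_self⟩ ::
      elList ts (fun t' ht' => h t' (List.mem_cons_of_mem _ ht'))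

theorem elList_length (tabs : List (ℕ × ℕ)) (h : ∀ t ∈ tabs, (mkP look t).perm n ∈ H) :
    (elList tabs h).length = tabs.length := by
  induction tabs with
  | nil => rfl
  | cons t ts ih =>
    show (elList ts _).length + 1 = ts.length + 1
    rw [ih]

theorem elList_rep (tabs : List (ℕ × ℕ)) (h : ∀ t ∈ tabs, (mkP look t).perm n ∈ H)
    (hok : ∀ t ∈ tabs, (mkP look t).ok n = true) :
    List.Forall₂ (RepS look n H) (tabs.map Prod.fst) (elList tabs h) := by
  induction tabs with
  | nil => exact List.Forall₂.nil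
  | cons t ts ih =>
    refine List.Forall₂.cons ?_ (ih _ (fun t' ht' => hok t' (List.mem_cons_of_mem _ ht')))
    intro i
    show (((mkP look t).perm n) i).1 = look t.1 i.1
    rw [PFun.perm_apply (hok t List.mem_cons_self)]
    rfl

theorem tabs_of_chk (R : PgRigid n) {C : List PgLvlW} (hchk : pgChkW n R.base C = true)
    (hA : pgGrpW n C ≤ R.A) (hAtop : R.A = ⊤) (tabs : List (ℕ × ℕ))
    (h : tabsChk look n R.base C tabs = true) :
    (∀ t ∈ tabs, (mkP look t).perm n ∈ pgGrpW n C) ∧ (∀ t ∈ tabs, (mkP look t).ok n = true) := by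
  unfold tabsChk at h
  rw [List.all_eq_true] at h
  constructor
  · intro t ht
    have h1 := h t ht
    rw [Bool.and_eq_true] at h1
    exact pgSift_mem R hchk hA h1.1 (by rw [hAtop]; exact Subgroup.mem_top _) h1.2
  · intro t ht
    have h1 := h t ht
    rw [Bool.and_eq_true] at h1
    exact h1.1

end

end Cfsg.Agent.Lib.Helper5.PcP
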