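import Mathlib
import Cfsg.Prelude.Def_KGroupFacts

set_option autoImplicit false

namespace Cfsg.Agent.Lib.Helper5.Stem

universe u v

/-- a finite commutative group with an element of order `p` has a subgroup of index `p` -/
theorem exists_index_prime {K : Type*} [CommGroup K] [Finite K] (p : ℕ) [hp : Fact p.Prime]
    (hdvd : p ∣ Nat.card K) : ∃ M : Subgroup K, M.index = p := by
  classical
  -- the power map onto the Sylow p-subgroup
  set N := Nat.card K with hN
  set a := N.factorization p with ha
  set m := ordCompl[p] N with hm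
  have hNpos : 0 < N := Nat.card_pos
  have ha1 : 1 ≤ a := by
    have := (hp.out.dvd_iff_one_le_factorization hNpos.ne').mp hdvd
    exact this
  have hNm : p ^ a * m = N := Nat.ordProj_mul_ordCompl_eq_self N p
  have hcop : Nat.Coprime p m := Nat.coprime_ordCompl hp.out hNpos.ne'
  let φ : K →* K := powMonoidHom m
  -- the range of φ has order p ^ a
  have hker : ∀ x : K, x ∈ φ.ker → x ^ m = 1 := fun x hx => hx
  have hrange_p : ∀ y ∈ φ.range, y ^ (p ^ a) = 1 := by
    rintro _ ⟨x, rfl⟩
    show (x ^ m) ^ (p ^ a) = 1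
    rw [← pow_mul, mul_comm, hNm, hN, pow_card_eq_one']
  have hPG : IsPGroup p φ.range := by
    rintro ⟨y, hy⟩
    exact ⟨a, Subtype.ext (by simpa using hrange_p y hy)⟩
  have hPGk : ∀ q : ℕ, q.Prime → q ∣ Nat.card φ.ker → q ∣ m := by
    intro q hq hqd
    haveI := Fact.mk hq
    obtain ⟨x, hx⟩ := exists_prime_orderOf_dvd_card' q hqd
    have h1 : (x : K) ^ m = 1 := hker x x.2
    have h2 : orderOf (x : K) = q := by rw [Subgroup.orderOf_coe, hx]
    rw [← h2]
    exact orderOf_dvd_of_pow_eq_one h1
  have hmul : Nat.card φ.ker * Nat.card φ.range = N := by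
    have h1 := Subgroup.card_eq_card_quotient_mul_card_subgroup φ.ker
    rw [Nat.card_congr (QuotientGroup.quotientKerEquivRange φ).toEquiv] at h1
    rw [hN, h1, mul_comm]
  obtain ⟨b, hb⟩ := IsPGroup.iff_card.mp hPG
  -- card ker coprime to p
  have hkcop : Nat.Coprime p (Nat.card φ.ker) := by
    rw [Nat.Prime.coprime_iff_not_dvd hp.out]
    intro h
    have := hPGk p hp.out h
    exact (Nat.Prime.coprime_iff_not_dvd hp.out).mp hcop this
  have hba : b = a := by
    have h1 : N.factorization p = (Nat.card φ.ker).factorization p +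
        (Nat.card φ.range).factorization p := by
      rw [← hmul, Nat.factorization_mul Nat.card_pos.ne' Nat.card_pos.ne']
      rfl
    rw [hb, Nat.Prime.factorization_pow hp.out, Finsupp.single_eq_same,
      Nat.factorization_eq_zero_of_not_dvd
        ((Nat.Prime.coprime_iff_not_dvd hp.out).mp hkcop), zero_add] at h1
    rw [← h1]
  rw [hba] at hb
  -- a subgroup of index p in the range
  have hdv : p ^ (a - 1) ∣ Nat.card φ.range := by
    rw [hb]; exact pow_dvd_pow p (Nat.sub_le a 1)
  obtain ⟨S₁, hS₁⟩ := Sylow.exists_subgroup_card_pow_prime p hdv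
  have hidx : S₁.index = p := by
    have h1 := Subgroup.card_mul_index S₁
    rw [hS₁, hb] at h1
    have h2 : p ^ a = p ^ (a - 1) * p := by
      rw [← pow_succ]; congr 1; omega
    rw [h2] at h1
    exact Nat.eq_of_mul_eq_mul_left (pow_pos hp.out.pos _) h1
  refine ⟨S₁.comap φ.rangeRestrict, ?_⟩
  rw [Subgroup.index_comap_of_surjective _ φ.rangeRestrict_surjective, hidx]

/-- reduction of a stem extension having an element of order `p` in the kernel to a stem extension
whose kernel has order exactly `p` -/
theorem exists_stem_prime_ker {G : Type v} [Group G] {Γ : Type u} [Group Γ] [Finite Γ]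
    (σ : Γ →* G) (hσ : Cfsg.IsStemExtension σ) (p : ℕ) [hp : Fact p.Prime] (z : Γ)
    (hz : z ∈ σ.ker) (hzp : z ^ p = 1) (hz1 : z ≠ 1) :
    ∃ (Γ' : Type u) (_ : Group Γ') (_ : Finite Γ') (σ' : Γ' →* G),
      Cfsg.IsStemExtension σ' ∧ Nat.card σ'.ker = p := by
  classical
  obtain ⟨hsurj, hcen, hder⟩ := hσ
  -- the kernel is a commutative group
  letI : CommGroup σ.ker :=
    { (inferInstance : Group σ.ker) with
      mul_comm := fun a b => Subtype.ext (by
        have := Subgroup.mem_center_iff.mp (hcen a.2) b.1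
        show (a : Γ) * b = b * a
        exact this.symm) }
  have hdvd : p ∣ Nat.card σ.ker := by
    have h1 : orderOf (⟨z, hz⟩ : σ.ker) = p := by
      rw [← Subgroup.orderOf_coe]
      exact orderOf_eq_prime hzp hz1
    rw [← h1]
    exact orderOf_dvd_natCard _
  obtain ⟨M, hM⟩ := exists_index_prime (K := σ.ker) p hdvd
  set M' : Subgroup Γ := M.map σ.ker.subtype with hM'
  have hM'le : M' ≤ σ.ker := by
    rintro _ ⟨x, _, rfl⟩
    exact x.2
  have hM'c : M' ≤ Subgroup.center Γ := hM'le.trans hcen
  haveI hnorm : M'.Normal := by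
    constructor
    intro n hn g
    have := Subgroup.mem_center_iff.mp (hM'c hn) g
    rw [this, mul_inv_cancel_right]
    exact hn
  let σ' : Γ ⧸ M' →* G := QuotientGroup.lift M' σ (fun x hx => hM'le hx)
  have hσ'mk : ∀ x : Γ, σ' (QuotientGroup.mk x) = σ x := fun x => rfl
  have hker' : σ'.ker = σ.ker.map (QuotientGroup.mk' M') := by
    ext y
    obtain ⟨x, rfl⟩ := QuotientGroup.mk_surjective y
    rw [MonoidHom.mem_ker, hσ'mk, Subgroup.mem_map]
    constructor
    · intro h
      exact ⟨x, h, rfl⟩
    · rintro ⟨w, hw, hwx⟩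
      have : w⁻¹ * x ∈ M' := by
        rw [← QuotientGroup.eq]; exact hwx
      have h2 : σ (w⁻¹ * x) = 1 := hM'le this
      rw [map_mul, map_inv, MonoidHom.mem_ker.mp hw, inv_one, one_mul] at h2
      exact h2
  refine ⟨Γ ⧸ M', inferInstance, inferInstance, σ', ⟨?_, ?_, ?_⟩, ?_⟩
  · intro g
    obtain ⟨x, hx⟩ := hsurj g
    exact ⟨QuotientGroup.mk x, hx⟩
  · rw [hker']
    rintro _ ⟨w, hw, rfl⟩
    rw [Subgroup.mem_center_iff]
    intro y
    obtain ⟨x, rfl⟩ := QuotientGroup.mk_surjective y
    show (QuotientGroup.mk x : Γ ⧸ M') * QuotientGroup.mk w = QuotientGroup.mk w * QuotientGroup.mk x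
    rw [← QuotientGroup.mk_mul, ← QuotientGroup.mk_mul, Subgroup.mem_center_iff.mp (hcen hw) x]
  · rw [hker']
    have h1 : (commutator Γ).map (QuotientGroup.mk' M') = commutator (Γ ⧸ M') := by
      rw [commutator_def, Subgroup.map_commutator, commutator_def,
        Subgroup.map_top_of_surjective _ (QuotientGroup.mk'_surjective M')]
    rw [← h1]
    exact Subgroup.map_mono hder
  · rw [hker']
    -- card of image = index of M in ker
    have h1 : Nat.card (σ.ker.map (QuotientGroup.mk' M')) = M.index := by
      -- the map ker → image has kernel M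
      let f : σ.ker →* Γ ⧸ M' := (QuotientGroup.mk' M').comp σ.ker.subtype
      have hfr : f.range = σ.ker.map (QuotientGroup.mk' M') := by
        rw [MonoidHom.range_comp, Subgroup.range_subtype]
      have hfk : f.ker = M := by
        ext x
        rw [MonoidHom.mem_ker]
        show (QuotientGroup.mk (x : Γ) : Γ ⧸ M') = 1 ↔ _
        rw [QuotientGroup.eq_one_iff, hM', Subgroup.mem_map]
        constructor
        · rintro ⟨y, hy, hyx⟩
          have : y = x := Subtype.ext hyx
          rwa [← this]
        · intro h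
          exact ⟨x, h, rfl⟩
      rw [← hfr, ← hfk, Subgroup.index_ker]
    rw [h1, hM]

end Cfsg.Agent.Lib.Helper5.Stem
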