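import Mathlib
import Cfsg.Agent.Lib.Helper5.PcPF
import Cfsg.Agent.Lib.Helper5.StemA
import Cfsg.Agent.Lib.Helper5.StemX
import Cfsg.Agent.Lib.Helper21.SchurCyclic
import Cfsg.Agent.Lib.helper3.StemTools

set_option autoImplicit false

/-! Trivial Schur multipliers from certificates for the primes whose square divides the order. -/

namespace Cfsg.Agent.Lib.Helper5.PcP

open Subgroup Cfsg Cfsg.Agent.Lib.Helper5.Stem Cfsg.Agent.Lib.helper3
open scoped commutatorElement

universe u v

/-- every finite stem extension of `G` has trivial kernel, if this holds for kernels of prime order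
`p` for the primes `p` of a list, and the squares of the other primes do not divide the order -/
theorem stem_ker_trivial_of_list {G : Type v} [Group G] [Finite G] (N : ℕ) (hN : Nat.card G = N)
    (ps : List ℕ) (hsq : ∀ p : ℕ, p.Prime → p ∉ ps → ¬ p ^ 2 ∣ N)
    (hps : ∀ p ∈ ps, ∀ (Γ : Type u) [Group Γ] [Finite Γ] (σ : Γ →* G),
      Cfsg.IsStemExtension σ → Nat.card σ.ker ≠ p)
    {Γ : Type u} [Group Γ] [Finite Γ] (σ : Γ →* G) (hσ : Cfsg.IsStemExtension σ) :
    ∀ z ∈ σ.ker, z = 1 := by
  have hσ' := hσ
  obtain ⟨hsurj, hcen, hder⟩ := hσ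
  apply stem_ker_trivial_of_primes σ
  intro p hp z hz hzp
  have hpP : p.Prime := hp.out
  by_cases hmem : p ∈ ps
  · by_contra hz1
    obtain ⟨Γ', _, _, σ', hσ'', hc⟩ := exists_stem_prime_ker σ hσ' p z hz hzp hz1
    exact hps p hmem Γ' σ' hσ'' hc
  · obtain ⟨Rr⟩ : Nonempty (Sylow p G) := inferInstance
    have hcyc : IsCyclic (Rr : Subgroup G) := by
      obtain ⟨j, hj⟩ := IsPGroup.iff_card.mp Rr.2
      have hdvd : p ^ j ∣ N := by
        rw [← hj, ← hN]
        exact Subgroup.card_subgroup_dvd_card _
      have hj1 : j ≤ 1 := by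
        by_contra hlt
        push Not at hlt
        exact hsq p hpP hmem (dvd_trans (pow_dvd_pow p hlt) hdvd)
      interval_cases j
      · rw [pow_zero] at hj
        haveI : Subsingleton (Rr : Subgroup G) := (Nat.card_eq_one_iff_unique.mp hj).1
        exact isCyclic_of_subsingleton
      · rw [pow_one] at hj
        exact isCyclic_of_prime_card hj
    haveI := hcyc
    have hind : ¬ p ∣ (Rr : Subgroup G).index := Sylow.not_dvd_index Rr
    refine stem_no_prime_of_subgroup σ hsurj hcen hder (Rr : Subgroup G) hind ?_ hz hzp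
    intro w hw _
    exact comm_comap_trivial_of_cyclic σ hcen (Rr : Subgroup G) w hw

/-- the Schur multiplier is trivial, transported along an isomorphism onto a group in the lowest
universe all of whose finite stem extensions have trivial kernel -/
theorem hasCyclicSchurMultiplier_one_of_equiv {G : Type u} [Group G] {H : Type} [Group H] [Finite H]
    (e : G ≃* H)
    (h : ∀ (Γ : Type u) [Group Γ] [Finite Γ] (σ : Γ →* H), Cfsg.IsStemExtension σ →
      ∀ z ∈ σ.ker, z = 1) :
    Cfsg.HasCyclicSchurMultiplier G 1 := by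
  apply hasSchurMultiplier_of_equiv e
  · exact Cfsg.Agent.Lib.Helper21.exists_trivial_stem H
  · intro Γ _ _ σ hσ
    refine ⟨1, ?_⟩
    intro y
    refine ⟨1, ?_⟩
    apply Subtype.ext
    rw [MonoidHom.one_apply]
    exact (h Γ σ hσ y.1 y.2).symm

end Cfsg.Agent.Lib.Helper5.PcP
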