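import Mathlib
import Cfsg.Agent.Lib.Lead.BCG.Defs
import Cfsg.Agent.Lib.Helper22.SpE.Defs

/-!
# Project BCG (S2474), row S2 `sp_torus_plus` (helper5): for `q ≡ 1 (mod 4)` and `s ∣ q^n - 1` the Levi
subgroup `GL_n(q) ≤ Sp_{2n}(q)` contains commuting `t`, `y` with `t * t = -1`, `y` of order `s`.
-/

set_option autoImplicit false

namespace Cfsg.Agent.Lib.Lead.BCG

open Matrix Cfsg.Agent.Lib.Helper22.SpE

theorem bcgs2_lev_injective {F : Type*} [Field F] (n : ℕ) :
    Function.Injective (lev : Matrix.GeneralLinearGroup (Fin n) F →*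
      Matrix.symplecticGroup (Fin n) F) := by
  intro A B h
  have h1 := congrArg (fun g : Matrix.symplecticGroup (Fin n) F =>
    (g : Matrix (Fin n ⊕ Fin n) (Fin n ⊕ Fin n) F)) h
  simp only [coe_lev] at h1
  exact Units.ext (Matrix.fromBlocks_inj.1 h1).1

theorem bcgs2_sqrt_neg_one {F : Type*} [Field F] [Fintype F] (h4 : Fintype.card F % 4 = 1) :
    ∃ l : F, l * l = -1 := by
  have h := (FiniteField.isSquare_neg_one_iff (F := F)).mpr (by omega)
  obtain ⟨l, hl⟩ := h
  exact ⟨l, hl.symm⟩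

theorem sp_torus_plus {F : Type*} [Field F] [Fintype F] (h4 : Fintype.card F % 4 = 1) (n : ℕ)
    (hn : 1 ≤ n) (s : ℕ) [Fact s.Prime] (hs : s ∣ Fintype.card F ^ n - 1) :
    ∃ t y : Matrix.symplecticGroup (Fin n) F, Commute t y ∧ orderOf y = s ∧
      t * t = Cfsg.Agent.S0246.negOne F n := by
  classical
  have hcard : s ∣ Nat.card (Matrix.GeneralLinearGroup (Fin n) F) := by
    rw [Matrix.card_GL_field]
    have h0 : (Fintype.card F ^ n - Fintype.card F ^ ((⟨0, hn⟩ : Fin n) : ℕ)) ∣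
        ∏ i : Fin n, (Fintype.card F ^ n - Fintype.card F ^ (i : ℕ)) :=
      Finset.dvd_prod_of_mem _ (Finset.mem_univ _)
    rw [pow_zero] at h0
    exact dvd_trans hs h0
  obtain ⟨y₀, hy₀⟩ := exists_prime_orderOf_dvd_card' s hcard
  obtain ⟨l, hl⟩ := bcgs2_sqrt_neg_one h4
  have hl0 : l ≠ 0 := by
    rintro rfl
    simp at hl
  have hlinv : l⁻¹ * l⁻¹ = -1 := by
    rw [← mul_inv, hl, inv_neg, inv_one]
  have hmem : levm (l • (1 : Matrix (Fin n) (Fin n) F)) (l⁻¹ • (1 : Matrix (Fin n) (Fin n) F)) ∈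
      Matrix.symplecticGroup (Fin n) F := by
    apply levm_mem
    rw [Matrix.smul_mul, Matrix.one_mul, smul_smul, mul_inv_cancel₀ hl0, one_smul]
  refine ⟨⟨_, hmem⟩, lev y₀, ?_, ?_, ?_⟩
  · apply Subtype.ext
    rw [Submonoid.coe_mul, Submonoid.coe_mul, coe_lev]
    show levm _ _ * _ = _ * levm _ _
    unfold levm
    rw [Matrix.fromBlocks_multiply, Matrix.fromBlocks_multiply]
    simp
  · rw [orderOf_injective (lev : Matrix.GeneralLinearGroup (Fin n) F →*
      Matrix.symplecticGroup (Fin n) F) (bcgs2_lev_injective n) y₀, hy₀]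
  · apply Subtype.ext
    rw [Submonoid.coe_mul, Cfsg.Agent.S0246.negOne_coe]
    show levm _ _ * levm _ _ = _
    unfold levm
    rw [Matrix.fromBlocks_multiply]
    simp only [Matrix.transpose_smul, Matrix.transpose_one, Matrix.smul_mul, Matrix.one_mul,
      smul_smul, hl, hlinv, Matrix.mul_zero, Matrix.zero_mul, add_zero, zero_add, neg_smul,
      one_smul]
    have e : (-1 : Matrix (Fin n ⊕ Fin n) (Fin n ⊕ Fin n) F) =
        -(Matrix.fromBlocks (1 : Matrix (Fin n) (Fin n) F) 0 0 1) := by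
      rw [Matrix.fromBlocks_one]
    rw [e, Matrix.fromBlocks_neg, neg_zero]

end Cfsg.Agent.Lib.Lead.BCG
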