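import Mathlib
import Cfsg.Agent.Lib.Helper5.PcPE

set_option autoImplicit false

/-! A lower bound for the order of a group of permutations from a chain of point stabilisers with
transversals given by words of coded permutations. -/

namespace Cfsg.Agent.Lib.Helper5.PcP

open Subgroup Cfsg.Agent.Lib.Helper5.CP

section

variable {look : ℕ → ℕ → ℕ} {n : ℕ} {H : Subgroup (Equiv.Perm (Fin n))}

/-- the elements of `K` fixing all points of a list -/
def fixSub (K : Subgroup H) (bs : List ℕ) : Subgroup H where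
  carrier := {g | g ∈ K ∧ ∀ b ∈ bs, ∀ hb : b < n, (g : Equiv.Perm (Fin n)) ⟨b, hb⟩ = ⟨b, hb⟩}
  one_mem' := ⟨K.one_mem, fun _ _ _ => rfl⟩
  mul_mem' := by
    rintro x y ⟨hx, hx'⟩ ⟨hy, hy'⟩
    refine ⟨K.mul_mem hx hy, fun b hb hbn => ?_⟩
    show (x : Equiv.Perm (Fin n)) ((y : Equiv.Perm (Fin n)) ⟨b, hbn⟩) = ⟨b, hbn⟩
    rw [hy' b hb hbn, hx' b hb hbn]
  inv_mem' := by
    rintro x ⟨hx, hx'⟩
    refine ⟨K.inv_mem hx, fun b hb hbn => ?_⟩
    show ((x : Equiv.Perm (Fin n))⁻¹) ⟨b, hbn⟩ = ⟨b, hbn⟩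
    rw [Equiv.Perm.inv_eq_iff_eq]
    exact (hx' b hb hbn).symm

theorem fixSub_le (K : Subgroup H) (bs : List ℕ) : fixSub K bs ≤ K := fun _ hg => hg.1

/-- one level of the chain -/
theorem card_fixSub_ge [Finite H] (K : Subgroup H) (bs : List ℕ) (b : ℕ) (hb : b < n)
    (us : List H) (hus : ∀ u ∈ us, u ∈ fixSub K bs)
    (hd : (us.map fun u : H => ((u : Equiv.Perm (Fin n)) ⟨b, hb⟩).1).Nodup) :
    us.length * Nat.card (fixSub K (b :: bs)) ≤ Nat.card (fixSub K bs) := by
  classical
  have hnd : us.Nodup := List.Nodup.of_map _ hd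
  let f : Fin us.length × fixSub K (b :: bs) → fixSub K bs := fun q =>
    ⟨us[q.1] * q.2.1, (fixSub K bs).mul_mem (hus _ (List.getElem_mem q.1.2))
      ⟨q.2.2.1, fun c hc hcn => q.2.2.2 c (List.mem_cons_of_mem _ hc) hcn⟩⟩
  have hf : Function.Injective f := by
    rintro ⟨i, s⟩ ⟨j, t⟩ h
    have h1 : us[i] * s.1 = us[j] * t.1 := congrArg Subtype.val h
    have hs : (s.1 : Equiv.Perm (Fin n)) ⟨b, hb⟩ = ⟨b, hb⟩ := s.2.2 b List.mem_cons_self hb
    have ht : (t.1 : Equiv.Perm (Fin n)) ⟨b, hb⟩ = ⟨b, hb⟩ := t.2.2 b List.mem_cons_self hb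
    have h2 : ((us[i] : H) : Equiv.Perm (Fin n)) ⟨b, hb⟩ =
        ((us[j] : H) : Equiv.Perm (Fin n)) ⟨b, hb⟩ := by
      have e := congrArg (fun g : H => (g : Equiv.Perm (Fin n)) ⟨b, hb⟩) h1
      simp only [Subgroup.coe_mul, Equiv.Perm.mul_apply, hs, ht] at e
      exact e
    have h3 : (us.map fun u : H => ((u : Equiv.Perm (Fin n)) ⟨b, hb⟩).1)[i.1]'(by simp) =
        (us.map fun u : H => ((u : Equiv.Perm (Fin n)) ⟨b, hb⟩).1)[j.1]'(by simp) := by
      simp only [List.getElem_map]
      exact congrArg Fin.val h2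
    have hij : i.1 = j.1 := (List.Nodup.getElem_inj_iff hd).mp h3
    have hij' : i = j := Fin.ext hij
    subst hij'
    have h4 : s.1 = t.1 := mul_left_cancel h1
    have h5 : s = t := Subtype.ext h4
    rw [h5]
  have := Nat.card_le_card_of_injective f hf
  rwa [Nat.card_prod, Nat.card_fin] at this

/-- the check of a chain: at each level the words fix the previous base points and have strictly
increasing images of the new base point -/
def chainChk (look : ℕ → ℕ → ℕ) (n Tid : ℕ) (gT : List ℕ) :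
    List ℕ → List (ℕ × List (List ℕ)) → Bool
  | _, [] => true
  | bs, (b, ws) :: rest =>
    (Nat.blt b n &&
    ws.all (fun w => bs.all fun c => Nat.beq (ev look (w.map fun i => gT.getD i Tid) c) c)) &&
    (isStrictInc (ws.map fun w => ev look (w.map fun i => gT.getD i Tid) b) &&
    chainChk look n Tid gT (b :: bs) rest)

/-- the product of the numbers of words of the levels -/
def chainProd : List (ℕ × List (List ℕ)) → ℕ
  | [] => 1
  | (_, ws) :: rest => ws.length * chainProd rest

theorem card_fixSub_ge_of_chain [Finite H] (Tid : ℕ) (hid : eqW look n Tid [] = true)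
    (gT : List ℕ) (gG : List H) (hrep : List.Forall₂ (RepS look n H) gT gG)
    (K : Subgroup H) (hK : ∀ g ∈ gG, g ∈ K) :
    ∀ (levels : List (ℕ × List (List ℕ))) (bs : List ℕ),
      chainChk look n Tid gT bs levels = true → chainProd levels ≤ Nat.card (fixSub K bs) := by
  intro levels
  induction levels with
  | nil =>
    intro bs _
    show 1 ≤ Nat.card (fixSub K bs)
    exact Nat.one_le_iff_ne_zero.mpr (Nat.card_pos).ne'
  | cons lv rest ih =>
    intro bs h
    obtain ⟨b, ws⟩ := lv
    unfold chainChk at h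
    rw [Bool.and_eq_true, Bool.and_eq_true, Bool.and_eq_true] at h
    obtain ⟨⟨hbn, hfix⟩, hinc, hrest⟩ := h
    have hb : b < n := Nat.blt_eq.mp hbn
    have ih' := ih (b :: bs) hrest
    set el : List ℕ → H := fun w => (w.map fun i => gG.getD i 1).prod with hel
    have hev : ∀ (w : List ℕ) (c : ℕ) (hc : c < n),
        (((el w : H) : Equiv.Perm (Fin n)) ⟨c, hc⟩).1 =
          ev look (w.map fun i => gT.getD i Tid) c := by
      intro w c hc
      have h1 := word_rep Tid hid gT gG hrep w
      have h2 := rep_prod _ _ (forall₂_coe _ _ h1) ⟨c, hc⟩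
      rw [← coe_list_prod] at h2
      exact h2
    have hus : ∀ u ∈ ws.map el, u ∈ fixSub K bs := by
      intro u hu
      obtain ⟨w, hw, rfl⟩ := List.mem_map.mp hu
      refine ⟨word_mem gG K hK w, fun c hc hcn => ?_⟩
      apply Fin.ext
      rw [hev w c hcn]
      rw [List.all_eq_true] at hfix
      have h1 := hfix w hw
      rw [List.all_eq_true] at h1
      exact Nat.eq_of_beq_eq_true (h1 c hc)
    have hd : ((ws.map el).map fun u : H => ((u : Equiv.Perm (Fin n)) ⟨b, hb⟩).1).Nodup := by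
      rw [List.map_map]
      have : (ws.map ((fun u : H => ((u : Equiv.Perm (Fin n)) ⟨b, hb⟩).1) ∘ el)) =
          ws.map fun w => ev look (w.map fun i => gT.getD i Tid) b := by
        apply List.map_congr_left
        intro w _
        exact hev w b hb
      rw [this]
      exact nodup_of_isStrictInc _ hinc
    have h1 := card_fixSub_ge K bs b hb (ws.map el) hus hd
    rw [List.length_map] at h1
    calc chainProd ((b, ws) :: rest) = ws.length * chainProd rest := rfl
      _ ≤ ws.length * Nat.card (fixSub K (b :: bs)) := Nat.mul_le_mul_left _ ih'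
      _ ≤ Nat.card (fixSub K bs) := h1

/-- a lower bound for the order of a subgroup containing given generators, from a chain -/
theorem card_ge_of_chain [Finite H] (Tid : ℕ) (hid : eqW look n Tid [] = true)
    (gT : List ℕ) (gG : List H) (hrep : List.Forall₂ (RepS look n H) gT gG)
    (K : Subgroup H) (hK : ∀ g ∈ gG, g ∈ K) (levels : List (ℕ × List (List ℕ)))
    (h : chainChk look n Tid gT [] levels = true) : chainProd levels ≤ Nat.card K :=
  le_trans (card_fixSub_ge_of_chain Tid hid gT gG hrep K hK levels [] h)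
    (Subgroup.card_le_of_le (fixSub_le K []))

end


section final

variable {look : ℕ → ℕ → ℕ} {n : ℕ} {H : Subgroup (Equiv.Perm (Fin n))}

open Cfsg.Agent.Lib.Helper5.PcT Cfsg.Agent.Lib.Helper5.Stem

/-- a prime does not divide the order of the kernel of a stem extension of a group of permutations,
from a certificate for a Sylow subgroup whose order is bounded below: a polycyclic presentation, fusion relations and the linear
algebra showing that all tails vanish; extra hypotheses on lifts may be supplied -/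
theorem stem_card_ne_of_cert_ge [Finite H] (Tid : ℕ) (hid : eqW look n Tid [] = true) (p : ℕ)
    (hp : p.Prime) (gT : List ℕ) (gG : List H) (hrep : List.Forall₂ (RepS look n H) gT gG)
    (hT : List ℕ) (hG : List H) (hrepH : List.Forall₂ (RepS look n H) hT hG)
    (k : ℕ) (sqL : List (List ℕ)) (cmL : List (List (List ℕ))) (hdata : dataOK k sqL cmL = true)
    (hlen : gG.length ≤ k)
    (hrels : relsChkP look n Tid p gT k sqL cmL = true)
    (f : ℕ) (conL : List (List ℕ × List ℕ)) (pwL : List ((List ℕ × List ℕ) × ℕ))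
    (pwOneL : List (List ℕ)) (cmEL : List ((List ℕ × List ℕ × List ℕ × List ℕ) × ℕ))
    (cmOneL : List (List ℕ × List ℕ)) (C : List (List (ℕ × ℕ))) (certs : List (List ℕ))
    (hchk : certOKP p (PcD.ofLists k sqL cmL) C
      (zformsP p (PcD.ofLists k sqL cmL) f conL
        (mkRel p (pwL.map Prod.fst) pwOneL (cmEL.map Prod.fst) cmOneL)) certs = true)
    (hpw : pwChk look n Tid p gT hT pwL = true) (hcm : cmChk look n Tid gT hT cmEL = true)
    (hge : p ^ k ≤ Nat.card (closure {x | ∃ i, i < k ∧ x = gG.getD i 1})) (N : ℕ) (hN : Nat.card H = N) (hidx : ¬ p ∣ N / p ^ k)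
    {Γ : Type*} [Group Γ] [Finite Γ] (σ : Γ →* H) (hσ : Cfsg.IsStemExtension σ)
    (hO : ∀ w ∈ pwOneL, QPowOne p σ (nfw (fun i => gG.getD i 1) w))
    (hC : ∀ q ∈ cmOneL, QComm σ (nfw (fun i => gG.getD i 1) q.1) (nfw (fun i => gG.getD i 1) q.2)) :
    Nat.card σ.ker ≠ p := by
  intro hcard
  obtain ⟨hsurj, hcen, hder⟩ := hσ
  obtain ⟨z, hK⟩ := kerP_of_card hp hcen hcard
  have hK' := hK
  obtain ⟨hz1, hzp, hσz, hw, hzc⟩ := hK
  set g : ℕ → H := fun i => gG.getD i 1 with hg
  set P : Subgroup H := closure {x | ∃ i, i < k ∧ x = g i} with hP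
  have hrel := rels_of_chkP Tid hid p gT gG hrep k sqL cmL hrels
  have hle : Nat.card P ≤ p ^ k :=
    card_closure_gens_leP p hp.one_lt.le k sqL cmL gG hdata hrel.1 hrel.2 hlen
  have hcardP : Nat.card P = p ^ k := le_antisymm hle hge
  have hindex : ¬ p ∣ P.index := by
    have h := Subgroup.card_mul_index P
    rw [hcardP, hN] at h
    have hpos : 0 < p ^ k := pow_pos hp.pos k
    have : P.index = N / p ^ k := by
      rw [← h, Nat.mul_div_cancel_left _ hpos]
    rwa [this]
  have hg1 : ∀ i, k ≤ i → g i = 1 := by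
    intro i hi
    exact List.getD_eq_default _ _ (by omega)
  have hpwf := pw_of_chk Tid hid p gT gG hrep hT hG hrepH pwL hpw
  have hcmf := cm_of_chk Tid hid gT gG hrep hT hG hrepH cmEL hcm
  have hS := comm_comap_trivial_of_pcp hp hsurj hK' k sqL cmL g hg1 hrel.1 hrel.2 f conL
    (pwL.map Prod.fst) pwOneL (cmEL.map Prod.fst) cmOneL C certs hdata hchk
    (by
      intro q hq
      obtain ⟨r, hr, rfl⟩ := List.mem_map.mp hq
      obtain ⟨h1, c, h2⟩ := hpwf r hr
      exact qpoweq_of_conj hsurj hK' h1 h2)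
    hO
    (by
      intro q hq
      obtain ⟨r, hr, rfl⟩ := List.mem_map.mp hq
      obtain ⟨h1, c, h2, h3⟩ := hcmf r hr
      exact qcommeq_of_conj hsurj hK' h1 h2 h3)
    hC P (le_refl _) hge
  have : Fact p.Prime := ⟨hp⟩
  have := Cfsg.Agent.Lib.helper3.stem_no_prime_of_subgroup σ hsurj hcen hder P hindex hS
    (MonoidHom.mem_ker.mpr hσz) hzp
  exact hz1 this


/-- the same, with the order of the Sylow subgroup bounded below by a chain of stabilisers -/
theorem stem_card_ne_of_cert_chain [Finite H] (Tid : ℕ) (hid : eqW look n Tid [] = true) (p : ℕ)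
    (hp : p.Prime) (gT : List ℕ) (gG : List H) (hrep : List.Forall₂ (RepS look n H) gT gG)
    (hT : List ℕ) (hG : List H) (hrepH : List.Forall₂ (RepS look n H) hT hG)
    (k : ℕ) (sqL : List (List ℕ)) (cmL : List (List (List ℕ))) (hdata : dataOK k sqL cmL = true)
    (hlen : gG.length = k)
    (hrels : relsChkP look n Tid p gT k sqL cmL = true)
    (f : ℕ) (conL : List (List ℕ × List ℕ)) (pwL : List ((List ℕ × List ℕ) × ℕ))
    (pwOneL : List (List ℕ)) (cmEL : List ((List ℕ × List ℕ × List ℕ × List ℕ) × ℕ))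
    (cmOneL : List (List ℕ × List ℕ)) (C : List (List (ℕ × ℕ))) (certs : List (List ℕ))
    (hchk : certOKP p (PcD.ofLists k sqL cmL) C
      (zformsP p (PcD.ofLists k sqL cmL) f conL
        (mkRel p (pwL.map Prod.fst) pwOneL (cmEL.map Prod.fst) cmOneL)) certs = true)
    (hpw : pwChk look n Tid p gT hT pwL = true) (hcm : cmChk look n Tid gT hT cmEL = true)
    (levels : List (ℕ × List (List ℕ))) (hlv : chainChk look n Tid gT [] levels = true)
    (hprod : chainProd levels = p ^ k) (N : ℕ) (hN : Nat.card H = N) (hidx : ¬ p ∣ N / p ^ k)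
    {Γ : Type*} [Group Γ] [Finite Γ] (σ : Γ →* H) (hσ : Cfsg.IsStemExtension σ)
    (hO : ∀ w ∈ pwOneL, QPowOne p σ (nfw (fun i => gG.getD i 1) w))
    (hC : ∀ q ∈ cmOneL, QComm σ (nfw (fun i => gG.getD i 1) q.1) (nfw (fun i => gG.getD i 1) q.2)) :
    Nat.card σ.ker ≠ p := by
  have hmem : ∀ x ∈ gG, x ∈ closure {x | ∃ i, i < k ∧ x = gG.getD i 1} := by
    intro x hx
    obtain ⟨i, hi, rfl⟩ := List.mem_iff_getElem.mp hx
    refine subset_closure ⟨i, by omega, ?_⟩
    show gG[i] = gG.getD i 1
    rw [List.getD_eq_getElem _ _ hi]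
  have hge : p ^ k ≤ Nat.card (closure {x | ∃ i, i < k ∧ x = gG.getD i 1}) := by
    rw [← hprod]
    exact card_ge_of_chain Tid hid gT gG hrep _ hmem levels hlv
  exact stem_card_ne_of_cert_ge Tid hid p hp gT gG hrep hT hG hrepH k sqL cmL hdata hlen.le hrels f
    conL pwL pwOneL cmEL cmOneL C certs hchk hpw hcm hge N hN hidx σ hσ hO hC

end final

end Cfsg.Agent.Lib.Helper5.PcP
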