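import Mathlib
import Cfsg.Agent.Lib.Helper5.PcPF

set_option autoImplicit false

/-! Splitting the heavy checks into parts, to bound the memory of every single check. -/

namespace Cfsg.Agent.Lib.Helper5.PcP

open Cfsg.Agent.Lib.helper23 Cfsg.Agent.Lib.Helper5.CP Cfsg.Agent.Lib.Helper5.PcT

/-- the check of one relation of a polycyclic presentation: the power relation if `i = j`, the
commutator relation otherwise -/
def relChk1 (look : ℕ → ℕ → ℕ) (n Tid p : ℕ) (gT : List ℕ) (sqL : List (List ℕ))
    (cmL : List (List (List ℕ))) (q : ℕ × ℕ) : Bool :=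
  if q.1 = q.2 then
    eqWW look n (List.replicate p (gT.getD q.1 Tid)) ((sqL.getD q.1 []).map fun l => gT.getD l Tid)
  else
    eqWW look n [gT.getD q.2 Tid, gT.getD q.1 Tid]
      (gT.getD q.1 Tid :: gT.getD q.2 Tid ::
        (((cmL.getD q.1 []).getD q.2 []).map fun l => gT.getD l Tid))

/-- the check of a list of relations -/
def relsPart (look : ℕ → ℕ → ℕ) (n Tid p : ℕ) (gT : List ℕ) (sqL : List (List ℕ))
    (cmL : List (List (List ℕ))) (L : List (ℕ × ℕ)) : Bool :=
  L.all (relChk1 look n Tid p gT sqL cmL)

/-- the lists contain all pairs `i ≤ j < k` -/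
def coverChk (k : ℕ) (Ls : List (List (ℕ × ℕ))) : Bool :=
  allB k fun i => allB k fun j => Nat.blt j i ||
    Ls.any fun L => @List.elem (ℕ × ℕ) instBEqOfDecidableEq (i, j) L

theorem relsChkP_of_parts (look : ℕ → ℕ → ℕ) (n Tid p : ℕ) (gT : List ℕ) (k : ℕ)
    (sqL : List (List ℕ)) (cmL : List (List (List ℕ))) (Ls : List (List (ℕ × ℕ)))
    (hc : coverChk k Ls = true) (h : ∀ L ∈ Ls, relsPart look n Tid p gT sqL cmL L = true) :
    relsChkP look n Tid p gT k sqL cmL = true := by
  have key : ∀ i j, i < k → j < k → i ≤ j → relChk1 look n Tid p gT sqL cmL (i, j) = true := by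
    intro i j hi hj hij
    unfold coverChk at hc
    rw [allB_iff] at hc
    have h1 := hc i hi
    rw [allB_iff] at h1
    have h2 := h1 j hj
    rw [Bool.or_eq_true] at h2
    rcases h2 with h2 | h2
    · have : j < i := by simpa [Nat.blt_eq] using h2
      omega
    · rw [List.any_eq_true] at h2
      obtain ⟨L, hL, hmem⟩ := h2
      have h3 := h L hL
      unfold relsPart at h3
      rw [List.all_eq_true] at h3
      apply h3
      have : (i, j) ∈ L := by
        have := @List.mem_of_elem_eq_true (ℕ × ℕ) instBEqOfDecidableEq _ (i, j) L hmem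
        exact this
      exact this
  unfold relsChkP
  rw [Bool.and_eq_true, allB_iff, allB_iff]
  constructor
  · intro i hi
    have := key i i hi hi le_rfl
    unfold relChk1 at this
    rw [if_pos rfl] at this
    exact this
  · intro i hi
    rw [allB_iff]
    intro j hj
    rw [Bool.or_eq_true]
    by_cases hij : j ≤ i
    · left
      exact Nat.ble_eq_true_of_le hij
    · right
      have := key i j hi hj (by omega)
      unfold relChk1 at this
      rw [if_neg (by show ¬ i = j; omega)] at this
      exact this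

theorem tabsChk_append (look : ℕ → ℕ → ℕ) (n : ℕ) (base : List ℕ) (C : List PgLvlW)
    (a b : List (ℕ × ℕ)) (ha : tabsChk look n base C a = true) (hb : tabsChk look n base C b = true) :
    tabsChk look n base C (a ++ b) = true := by
  unfold tabsChk at ha hb ⊢
  rw [List.all_append, ha, hb]
  rfl

theorem pwChk_append (look : ℕ → ℕ → ℕ) (n Tid p : ℕ) (gT hT : List ℕ)
    (a b : List ((List ℕ × List ℕ) × ℕ)) (ha : pwChk look n Tid p gT hT a = true)
    (hb : pwChk look n Tid p gT hT b = true) : pwChk look n Tid p gT hT (a ++ b) = true := by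
  unfold pwChk at ha hb ⊢
  rw [List.all_append, ha, hb]
  rfl

theorem cmChk_append (look : ℕ → ℕ → ℕ) (n Tid : ℕ) (gT hT : List ℕ)
    (a b : List ((List ℕ × List ℕ × List ℕ × List ℕ) × ℕ)) (ha : cmChk look n Tid gT hT a = true)
    (hb : cmChk look n Tid gT hT b = true) : cmChk look n Tid gT hT (a ++ b) = true := by
  unfold cmChk at ha hb ⊢
  rw [List.all_append, ha, hb]
  rfl

end Cfsg.Agent.Lib.Helper5.PcP
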