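import Mathlib
import Cfsg.Agent.Lib.helper3.T2E.Defs2
import Cfsg.Agent.Lib.helper15.T2ED7

/-!
# T2E (S2108), row U2 `rootlift_conj` : CORE on the statement of D4 `XT_conj` (helper5)

The conjugate of a canonical lift by a lift of an element of `N¹` is a canonical lift.
`t2eu2h5_core hD4 r r' hr hr' Lr h γ hγ κ hκ hact`, `hD4` = the statement of D4 (`XT_conj`, for the given `q`); D7 `N1_norm_T1` is cited from main.
-/

set_option autoImplicit false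

namespace Cfsg.Agent.Lib.helper3.T2E

open Cfsg.Lie Cfsg.Lie.ChevalleyDatum Matrix
open Cfsg.Agent.Lib.helper8 Cfsg.Agent.Lib.Helper10.TEM Cfsg.Agent.Lib.helper7.Ce
  Cfsg.Agent.Lib.helper15.St2

universe u

variable {K : Type u} [Field K] {q : ℕ} {Γ : Type u} [Group Γ]
  {π : Γ →* ↥(twistedE6 K q)}

/-- extra: `pm π γ` lies in `G¹` -/
theorem t2eu2h5_pm_mem (π : Γ →* ↥(twistedE6 K q)) (γ : Γ) : pm π γ ∈ twistedE6 K q := (π γ).2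

/-- extra: `chevE6` has `72` roots -/
theorem t2eu2h5_nroots : chevE6.nroots = 72 := by decide

/-- extra: the character of `n⁻¹ h n` on the root `r` is the character of `h` on `r'`, if `n` maps the root group of `r` to that of `r'` -/
theorem t2eu2h5_chi_conj (n h' : GG K) (hh' : h' ∈ chevE6.diagonalSubgroup K) (hd : n⁻¹ * h' * n ∈ chevE6.diagonalSubgroup K)
    (r r' : ℕ) (hr : r < 72) (hr' : r' < 72) (κ : K) (hκ : κ ≠ 0) (hact : ∀ t, n * X r t * n⁻¹ = X r' (κ * t)) :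
    h8chi chevE6 hB (n⁻¹ * h' * n) r = h8chi chevE6 hB h' r' := by
  have hr2 : r < chevE6.nroots := by rw [t2eu2h5_nroots]; exact hr
  have hr2' : r' < chevE6.nroots := by rw [t2eu2h5_nroots]; exact hr'
  apply h8chi_unique chevE6 hB hA hW _ hd r hr2
  have hsp := (h8chi_spec chevE6 hB h' hh' r' hr2').2 (κ * 1)
  have h1 := hact 1
  have h2 := hact (κ⁻¹ * (h8chi chevE6 hB h' r' * (κ * 1)))
  rw [mul_inv_cancel_left₀ hκ] at h2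
  unfold X at h1 h2
  have e : n⁻¹ * h' * n * h8xU chevE6 hB r 1 * (n⁻¹ * h' * n)⁻¹ =
      n⁻¹ * (h' * (n * h8xU chevE6 hB r 1 * n⁻¹) * h'⁻¹) * n := by group
  rw [e, h1, hsp, ← h2]
  have e2 : n⁻¹ * (n * h8xU chevE6 hB r (κ⁻¹ * (h8chi chevE6 hB h' r' * (κ * 1))) * n⁻¹) * n =
      h8xU chevE6 hB r (κ⁻¹ * (h8chi chevE6 hB h' r' * (κ * 1))) := by group
  rw [e2]
  congr 1
  rw [mul_one, mul_comm (h8chi chevE6 hB h' r') κ, inv_mul_cancel_left₀ hκ]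

/-- [U2] CORE: the conjugate of a canonical lift by a lift of an element of `N¹` is a canonical lift; `hD4` = statement of D4 `XT_conj`. -/
theorem t2eu2h5_core
    (hD4 : ∀ (n : GG K), n ∈ twistedE6 K q → ∀ (r r' : ℕ), r < 72 → r' < 72 → ∀ (κ : K),
      (∀ t, n * X r t * n⁻¹ = X r' (κ * t)) → ∀ (t : K), Adm q r t →
        Adm q r' (κ * t) ∧ n * XT q r t * n⁻¹ = XT q r' (κ * t))
    (r r' : ℕ) (hr : r < 72) (hr' : r' < 72)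
    (Lr : K → Γ) (h : IsRootLift q π r Lr) (γ : Γ) (hγ : pm π γ ∈ N1 K q) (κ : K) (hκ : κ ≠ 0)
    (hact : ∀ t, pm π γ * X r t * (pm π γ)⁻¹ = X r' (κ * t)) :
    IsRootLift q π r' (fun t => γ * Lr (κ⁻¹ * t) * γ⁻¹) := by
  have hn1 : pm π γ ∈ twistedE6 K q := t2eu2h5_pm_mem π γ
  have hninv : ∀ t, (pm π γ)⁻¹ * X r' t * (pm π γ)⁻¹⁻¹ = X r (κ⁻¹ * t) := by
    intro t
    have h1 := hact (κ⁻¹ * t)
    rw [mul_inv_cancel_left₀ hκ] at h1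
    rw [← h1]
    group
  have hadm : ∀ t, Adm q r' t → Adm q r (κ⁻¹ * t) ∧ (pm π γ)⁻¹ * XT q r' t * (pm π γ)⁻¹⁻¹ = XT q r (κ⁻¹ * t) :=
    fun t ht => hD4 (pm π γ)⁻¹ (Subgroup.inv_mem _ hn1) r' r hr' hr κ⁻¹ hninv t ht
  refine ⟨?_, ?_, ?_⟩
  · intro t ht
    have ha := (hadm t ht).1
    show pm π (γ * Lr (κ⁻¹ * t) * γ⁻¹) = XT q r' t
    rw [map_mul, map_mul, map_inv, h.map _ ha, (hD4 (pm π γ) hn1 r r' hr hr' κ hact (κ⁻¹ * t) ha).2, mul_inv_cancel_left₀ hκ]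
  · intro s t hs ht
    show γ * Lr (κ⁻¹ * (s + t)) * γ⁻¹ = (γ * Lr (κ⁻¹ * s) * γ⁻¹) * (γ * Lr (κ⁻¹ * t) * γ⁻¹)
    rw [mul_add, h.add _ _ (hadm s hs).1 (hadm t ht).1]
    group
  · intro γ' hγ' t ht
    show γ' * (γ * Lr (κ⁻¹ * t) * γ⁻¹) * γ'⁻¹ = γ * Lr (κ⁻¹ * (h8chi chevE6 hB (pm π γ') r' * t)) * γ⁻¹
    have hh' : pm π γ' ∈ T1 K q := Subgroup.mem_inf.2 ⟨hγ', t2eu2h5_pm_mem π γ'⟩
    have hδT : (pm π γ)⁻¹ * pm π γ' * pm π γ ∈ T1 K q := (N1_norm_T1 (pm π γ) (pm π γ') hγ hh').2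
    have hδd : (pm π γ)⁻¹ * pm π γ' * pm π γ ∈ chevE6.diagonalSubgroup K := (Subgroup.mem_inf.1 hδT).1
    have hpm : pm π (γ⁻¹ * γ' * γ) = (pm π γ)⁻¹ * pm π γ' * pm π γ := by
      rw [map_mul, map_mul, map_inv]
    have hδd' : pm π (γ⁻¹ * γ' * γ) ∈ chevE6.diagonalSubgroup K := by rw [hpm]; exact hδd
    have e := h.tor (γ⁻¹ * γ' * γ) hδd' (κ⁻¹ * t) (hadm t ht).1
    rw [hpm, t2eu2h5_chi_conj (pm π γ) (pm π γ') hγ' hδd r r' hr hr' κ hκ hact] at e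
    have e3 : γ' * (γ * Lr (κ⁻¹ * t) * γ⁻¹) * γ'⁻¹ = γ * (γ⁻¹ * γ' * γ * Lr (κ⁻¹ * t) * (γ⁻¹ * γ' * γ)⁻¹) * γ⁻¹ := by group
    rw [e3, e, mul_left_comm]

end Cfsg.Agent.Lib.helper3.T2E
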