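import Mathlib
import Cfsg.Agent.Lib.Helper5.T2EU2core
import Cfsg.Agent.Lib.helper4.T2ED4

/-!
# T2E (S2108), row U2 `rootlift_conj`, VERBATIM (helper5): the core on the landed D4 `XT_conj` (helper4)
-/

set_option autoImplicit false

namespace Cfsg.Agent.Lib.helper3.T2E

open Cfsg.Lie Cfsg.Lie.ChevalleyDatum Matrix
open Cfsg.Agent.Lib.helper8 Cfsg.Agent.Lib.Helper10.TEM Cfsg.Agent.Lib.helper7.Ce
  Cfsg.Agent.Lib.helper15.St2

universe u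

variable {K : Type u} [Field K] {q : ℕ} {f : K ≃+* K} {Γ : Type u} [Group Γ]
  {π : Γ →* ↥(twistedE6 K q)}

-- ROW U2 [M]
theorem rootlift_conj (hF : Frob q f) (hπ : IsCE π) (r r' : ℕ) (hr : r < 72) (hr' : r' < 72)
    (Lr : K → Γ) (h : IsRootLift q π r Lr) (γ : Γ) (hγ : pm π γ ∈ N1 K q) (κ : K) (hκ : κ ≠ 0)
    (hact : ∀ t, pm π γ * X r t * (pm π γ)⁻¹ = X r' (κ * t)) :
    IsRootLift q π r' (fun t => γ * Lr (κ⁻¹ * t) * γ⁻¹) :=
  t2eu2h5_core (fun n hn r r' hr hr' κ h t ht => XT_conj hF n hn r r' hr hr' κ h t ht) r r' hr hr' Lr h γ hγ κ hκ hact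

end Cfsg.Agent.Lib.helper3.T2E
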