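import Mathlib
import Cfsg.Agent.Lib.helper17.OMP.Defs
import Cfsg.Agent.Lib.Helper5.OMPE7

/-!
# Project OMP (designer helper17, S2295), row E8 (helper5): `wE_conj_tv_ab wE_conj_tv_ak wE_conj_tv_ka wE_conj_tv_bk wE_conj_tv_kb` VERBATIM.
The action of the Weyl word on transvections.  The six statements of row E1 are reproved here under own names `ompe8_*`
(so that this file does not wait for E1).
-/

set_option autoImplicit false
set_option linter.unusedSimpArgs false

namespace Cfsg.Agent.Lib.helper17.OMP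

open Matrix Cfsg.Agent.Lib.helper14.CTE Cfsg.Agent.Lib.helper14.CTA Cfsg.Agent.Lib.helper17.SLN Cfsg.Agent.Lib.Helper28.CTD
  Cfsg.Agent.Lib.helper3.STC Cfsg.Agent.Lib.Lead.STD

universe u v w

section E

variable {F : Type u} [Field F] {ι : Type w} [Fintype ι] [DecidableEq ι]

theorem ompe8_wE_mulVec (i j : ι) (hij : i ≠ j) (v : ι → F) :
    (wE i j : Matrix.SpecialLinearGroup ι F).1 *ᵥ v =
      (fun w2 : ι → F => w2 + Pi.single i (1 * w2 j))
        ((fun w1 : ι → F => w1 + Pi.single j (-1 * w1 i)) (v + Pi.single i (1 * v j))) := by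
  unfold wE
  rw [Matrix.SpecialLinearGroup.coe_mul, Matrix.SpecialLinearGroup.coe_mul, ← Matrix.mulVec_mulVec, ← Matrix.mulVec_mulVec,
    tv_mulVec i j hij 1 v, tv_mulVec j i hij.symm, tv_mulVec i j hij]

theorem ompe8_vecMul_wE (i j : ι) (hij : i ≠ j) (v : ι → F) :
    v ᵥ* (wE i j : Matrix.SpecialLinearGroup ι F).1 =
      (fun w2 : ι → F => w2 + Pi.single j (1 * w2 i))
        ((fun w1 : ι → F => w1 + Pi.single i (-1 * w1 j)) (v + Pi.single j (1 * v i))) := by
  unfold wE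
  rw [Matrix.SpecialLinearGroup.coe_mul, Matrix.SpecialLinearGroup.coe_mul, ← Matrix.vecMul_vecMul, ← Matrix.vecMul_vecMul,
    vecMul_tv i j hij 1 v, vecMul_tv j i hij.symm, vecMul_tv i j hij]

theorem ompe8_wE_mulVec_snd (i j : ι) (hij : i ≠ j) :
    (wE i j : Matrix.SpecialLinearGroup ι F).1 *ᵥ Pi.single j 1 = Pi.single i 1 := by
  rw [ompe8_wE_mulVec i j hij]
  ext k
  by_cases hki : k = i
  · subst hki; simp [Pi.single_apply, hij, hij.symm]
  · by_cases hkj : k = j
    · subst hkj; simp [Pi.single_apply, hij, hij.symm]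
    · simp [Pi.single_apply, hij, hij.symm, hki, hkj]

theorem ompe8_wE_mulVec_fst (i j : ι) (hij : i ≠ j) :
    (wE i j : Matrix.SpecialLinearGroup ι F).1 *ᵥ Pi.single i 1 = Pi.single j (-1) := by
  rw [ompe8_wE_mulVec i j hij]
  ext k
  by_cases hki : k = i
  · subst hki; simp [Pi.single_apply, hij, hij.symm]
  · by_cases hkj : k = j
    · subst hkj; simp [Pi.single_apply, hij, hij.symm]
    · simp [Pi.single_apply, hij, hij.symm, hki, hkj]

theorem ompe8_wE_mulVec_of_ne (i j k : ι) (hij : i ≠ j) (hki : k ≠ i) (hkj : k ≠ j) :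
    (wE i j : Matrix.SpecialLinearGroup ι F).1 *ᵥ Pi.single k 1 = Pi.single k 1 := by
  rw [ompe8_wE_mulVec i j hij]
  ext m
  by_cases hmi : m = i
  · subst hmi; simp [Pi.single_apply, hij, hij.symm, hki, hkj, hki.symm, hkj.symm]
  · by_cases hmj : m = j
    · subst hmj; simp [Pi.single_apply, hij, hij.symm, hki, hkj, hki.symm, hkj.symm]
    · simp [Pi.single_apply, hij, hij.symm, hki, hkj, hki.symm, hkj.symm, hmi, hmj]

theorem ompe8_vecMul_wE_fst (i j : ι) (hij : i ≠ j) :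
    Pi.single i 1 ᵥ* (wE i j : Matrix.SpecialLinearGroup ι F).1 = Pi.single j 1 := by
  rw [ompe8_vecMul_wE i j hij]
  ext k
  by_cases hki : k = i
  · subst hki; simp [Pi.single_apply, hij, hij.symm]
  · by_cases hkj : k = j
    · subst hkj; simp [Pi.single_apply, hij, hij.symm]
    · simp [Pi.single_apply, hij, hij.symm, hki, hkj]

theorem ompe8_vecMul_wE_snd (i j : ι) (hij : i ≠ j) :
    Pi.single j 1 ᵥ* (wE i j : Matrix.SpecialLinearGroup ι F).1 = Pi.single i (-1) := by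
  rw [ompe8_vecMul_wE i j hij]
  ext k
  by_cases hki : k = i
  · subst hki; simp [Pi.single_apply, hij, hij.symm]
  · by_cases hkj : k = j
    · subst hkj; simp [Pi.single_apply, hij, hij.symm]
    · simp [Pi.single_apply, hij, hij.symm, hki, hkj]

theorem ompe8_vecMul_wE_of_ne (i j k : ι) (hij : i ≠ j) (hki : k ≠ i) (hkj : k ≠ j) :
    Pi.single k 1 ᵥ* (wE i j : Matrix.SpecialLinearGroup ι F).1 = Pi.single k 1 := by
  rw [ompe8_vecMul_wE i j hij]
  ext m
  by_cases hmi : m = i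
  · subst hmi; simp [Pi.single_apply, hij, hij.symm, hki, hkj, hki.symm, hkj.symm]
  · by_cases hmj : m = j
    · subst hmj; simp [Pi.single_apply, hij, hij.symm, hki, hkj, hki.symm, hkj.symm]
    · simp [Pi.single_apply, hij, hij.symm, hki, hkj, hki.symm, hkj.symm, hmi, hmj]

/-- E8 [S-M] (five statements, one file)  the action of the Weyl word on transvections (E1, E7; `k ∉ {a, b}`). -/
theorem wE_conj_tv_ab (a b : ι) (hab : a ≠ b) (t : F) :
    (wE a b : Matrix.SpecialLinearGroup ι F) * tv a b t * (wE a b)⁻¹ = tv b a (-t) :=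
  conj_tv_neg_fst _ a b b a hab hab.symm (ompe8_wE_mulVec_fst a b hab) (ompe8_vecMul_wE_fst a b hab) t

theorem wE_conj_tv_ak (a b k : ι) (hab : a ≠ b) (hka : k ≠ a) (hkb : k ≠ b) (t : F) :
    (wE a b : Matrix.SpecialLinearGroup ι F) * tv a k t * (wE a b)⁻¹ = tv b k (-t) :=
  conj_tv_neg_fst _ a k b k hka.symm hkb.symm (ompe8_wE_mulVec_fst a b hab) (ompe8_vecMul_wE_of_ne a b k hab hka hkb) t

theorem wE_conj_tv_ka (a b k : ι) (hab : a ≠ b) (hka : k ≠ a) (hkb : k ≠ b) (t : F) :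
    (wE a b : Matrix.SpecialLinearGroup ι F) * tv k a t * (wE a b)⁻¹ = tv k b (-t) :=
  conj_tv_neg_snd _ k a k b hka hkb (ompe8_wE_mulVec_of_ne a b k hab hka hkb) (ompe8_vecMul_wE_snd a b hab) t

theorem wE_conj_tv_bk (a b k : ι) (hab : a ≠ b) (hka : k ≠ a) (hkb : k ≠ b) (t : F) :
    (wE a b : Matrix.SpecialLinearGroup ι F) * tv b k t * (wE a b)⁻¹ = tv a k t :=
  Cfsg.Agent.Lib.helper14.CTA.conj_tv _ b k a k hkb.symm hka.symm (ompe8_wE_mulVec_snd a b hab)
    (ompe8_vecMul_wE_of_ne a b k hab hka hkb) t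

theorem wE_conj_tv_kb (a b k : ι) (hab : a ≠ b) (hka : k ≠ a) (hkb : k ≠ b) (t : F) :
    (wE a b : Matrix.SpecialLinearGroup ι F) * tv k b t * (wE a b)⁻¹ = tv k a t :=
  Cfsg.Agent.Lib.helper14.CTA.conj_tv _ k b k a hkb hka (ompe8_wE_mulVec_of_ne a b k hab hka hkb)
    (ompe8_vecMul_wE_fst a b hab) t

end E

end Cfsg.Agent.Lib.helper17.OMP
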