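import Mathlib
import Cfsg.Agent.Lib.helper7.SPC.Defs

/-!
# Project SPC (designer helper7), row A5 (`complete`): the core, on the statements of A3 (`blkA_scale`)
and A4 (`blkA_exchange`) as hypotheses.  Own copies `spca5_*` of the small rows ISO / I3 / I4.
-/

set_option autoImplicit false

namespace Cfsg.Agent.Lib.helper7.SPC

universe u

open Module

variable {F : Type u} [Field F]

theorem spca5_iso_refl (T : Trip F) : TIso T T :=
  ⟨LinearEquiv.refl F T.V, fun _ _ => rfl, fun _ => rfl⟩

theorem spca5_iso_symm {T T' : Trip F} (h : TIso T T') : TIso T' T := by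
  obtain ⟨e, h1, h2⟩ := h
  refine ⟨e.symm, fun x y => ?_, fun x => ?_⟩
  · rw [← h1 (e.symm x) (e.symm y), LinearEquiv.apply_symm_apply, LinearEquiv.apply_symm_apply]
  · apply e.injective
    rw [h2, LinearEquiv.apply_symm_apply, LinearEquiv.apply_symm_apply]

theorem spca5_iso_trans {T T' T'' : Trip F} (h : TIso T T') (h' : TIso T' T'') : TIso T T'' := by
  obtain ⟨e, h1, h2⟩ := h
  obtain ⟨e', h1', h2'⟩ := h'
  refine ⟨e.trans e', fun x y => ?_, fun x => ?_⟩
  · rw [LinearEquiv.trans_apply, LinearEquiv.trans_apply, h1', h1]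
  · rw [LinearEquiv.trans_apply, LinearEquiv.trans_apply, h2, h2']

theorem spca5_sum_congr {T₁ T₁' T₂ T₂' : Trip F} (h₁ : TIso T₁ T₁') (h₂ : TIso T₂ T₂') :
    TIso (TSum T₁ T₂) (TSum T₁' T₂') := by
  obtain ⟨e₁, a1, a2⟩ := h₁
  obtain ⟨e₂, b1, b2⟩ := h₂
  refine ⟨LinearEquiv.prodCongr e₁ e₂, ?_, ?_⟩
  · rintro ⟨x1, x2⟩ ⟨y1, y2⟩
    show T₁'.B (e₁ x1) (e₁ y1) + T₂'.B (e₂ x2) (e₂ y2) = T₁.B x1 y1 + T₂.B x2 y2
    rw [a1, b1]
  · rintro ⟨x1, x2⟩
    show (e₁ (T₁.N x1), e₂ (T₂.N x2)) = (T₁'.N (e₁ x1), T₂'.N (e₂ x2))
    rw [a2, b2]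

theorem spca5_sum_assoc (T₁ T₂ T₃ : Trip F) :
    TIso (TSum (TSum T₁ T₂) T₃) (TSum T₁ (TSum T₂ T₃)) := by
  refine ⟨LinearEquiv.prodAssoc F T₁.V T₂.V T₃.V, ?_, ?_⟩
  · rintro ⟨⟨x1, x2⟩, x3⟩ ⟨⟨y1, y2⟩, y3⟩
    show T₁.B x1 y1 + (T₂.B x2 y2 + T₃.B x3 y3) = T₁.B x1 y1 + T₂.B x2 y2 + T₃.B x3 y3
    rw [add_assoc]
  · rintro ⟨⟨x1, x2⟩, x3⟩
    rfl

theorem spca5_sum_comm (T₁ T₂ : Trip F) : TIso (TSum T₁ T₂) (TSum T₂ T₁) := by
  refine ⟨LinearEquiv.prodComm F T₁.V T₂.V, ?_, ?_⟩
  · rintro ⟨x1, x2⟩ ⟨y1, y2⟩
    show T₂.B x2 y2 + T₁.B x1 y1 = T₁.B x1 y1 + T₂.B x2 y2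
    rw [add_comm]
  · rintro ⟨x1, x2⟩
    rfl

theorem spca5_sumList_perm {L L' : List (Blk F)} (h : L.Perm L') :
    TIso (sumList L) (sumList L') := by
  induction h with
  | nil => exact spca5_iso_refl _
  | cons b _ ih =>
    rw [sumList_cons, sumList_cons]
    exact spca5_sum_congr (spca5_iso_refl _) ih
  | swap b b' l =>
    rw [sumList_cons, sumList_cons, sumList_cons, sumList_cons]
    exact spca5_iso_trans (spca5_iso_symm (spca5_sum_assoc _ _ _))
      (spca5_iso_trans (spca5_sum_congr (spca5_sum_comm _ _) (spca5_iso_refl _))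
        (spca5_sum_assoc _ _ _))
  | trans _ _ ih1 ih2 => exact spca5_iso_trans ih1 ih2

theorem spca5_partsL_cons (b : Blk F) (L : List (Blk F)) :
    partsL (b :: L) = b.parts + partsL L := by
  unfold partsL
  rw [List.map_cons, List.sum_cons]

theorem spca5_prodA_cons (b : Blk F) (L : List (Blk F)) (k : ℕ) :
    prodA (b :: L) k = b.cst k * prodA L k := by
  unfold prodA
  rw [List.map_cons, List.prod_cons]

theorem spca5_partsL_perm {L L' : List (Blk F)} (h : L.Perm L') : partsL L = partsL L' := by
  unfold partsL
  exact (h.map _).sum_eq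

theorem spca5_prodA_perm {L L' : List (Blk F)} (h : L.Perm L') (k : ℕ) :
    prodA L k = prodA L' k := by
  unfold prodA
  exact (h.map _).prod_eq

theorem spca5_mem_parts_A (k k' : ℕ) (c : F) : k ∈ (Blk.A k' c).parts ↔ k = k' := by
  show k ∈ ({k'} : Multiset ℕ) ↔ _
  rw [Multiset.mem_singleton]

theorem spca5_mem_parts_H (k k' : ℕ) : k ∈ (Blk.H k' : Blk F).parts ↔ k = k' := by
  show k ∈ ({k', k'} : Multiset ℕ) ↔ _
  rw [Multiset.insert_eq_cons, Multiset.mem_cons, Multiset.mem_singleton, or_self]

theorem spca5_mem_partsL (L : List (Blk F)) (k : ℕ) :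
    k ∈ partsL L ↔ ∃ b ∈ L, k ∈ b.parts := by
  induction L with
  | nil =>
    constructor
    · intro h
      exact absurd h (Multiset.notMem_zero k)
    · rintro ⟨b, hb, _⟩
      exact absurd hb (List.not_mem_nil)
  | cons b L ih =>
    rw [spca5_partsL_cons, Multiset.mem_add, ih]
    constructor
    · rintro (h | ⟨b', hb', h⟩)
      · exact ⟨b, List.mem_cons_self, h⟩
      · exact ⟨b', List.mem_cons_of_mem _ hb', h⟩
    · rintro ⟨b', hb', h⟩
      rcases List.mem_cons.mp hb' with rfl | hb''
      · exact Or.inl h
      · exact Or.inr ⟨b', hb'', h⟩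

theorem spca5_prodA_eq_one (L : List (Blk F)) (k : ℕ) (h : k ∉ partsL L) : prodA L k = 1 := by
  induction L with
  | nil => rfl
  | cons b L ih =>
    rw [spca5_partsL_cons, Multiset.mem_add, not_or] at h
    rw [spca5_prodA_cons, ih h.2, mul_one]
    cases b with
    | A k' c =>
      have hne : k' ≠ k := fun e => h.1 ((spca5_mem_parts_A k k' c).mpr e.symm)
      show (if k' = k then c else 1) = 1
      rw [if_neg hne]
    | H k' => rfl

/-- the core of `complete` (row A5) on the statements of A3 and A4 -/
theorem spca5_core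
    (hscale : ∀ (k : ℕ) (c c' : F), c ≠ 0 → c' ≠ 0 → IsSquare (c * c') → TIso (blkA k c) (blkA k c'))
    (hexch : ∀ (k : ℕ) (c e c' : F), c ≠ 0 → e ≠ 0 → c' ≠ 0 →
      TIso (TSum (blkA k c) (blkA k e)) (TSum (blkA k c') (blkA k (c * e * c'))))
    (L : List (Blk F)) : ∀ L' : List (Blk F), CanonL L → CanonL L' → partsL L = partsL L' →
      (∀ k : ℕ, IsSquare (prodA L k * prodA L' k)) → TIso (sumList L) (sumList L') := by
  classical
  induction L with
  | nil =>
    intro L' _ _ hparts _
    cases L' with
    | nil => exact spca5_iso_refl _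
    | cons b L'' =>
      exfalso
      rw [spca5_partsL_cons] at hparts
      have h0 : partsL ([] : List (Blk F)) = 0 := rfl
      rw [h0] at hparts
      have h1 : b.parts = 0 := (add_eq_zero.mp hparts.symm).1
      cases b with
      | A k c =>
        have : k ∈ (Blk.A k c : Blk F).parts := (spca5_mem_parts_A k k c).mpr rfl
        rw [h1] at this
        exact Multiset.notMem_zero k this
      | H k =>
        have : k ∈ (Blk.H k : Blk F).parts := (spca5_mem_parts_H k k).mpr rfl
        rw [h1] at this
        exact Multiset.notMem_zero k this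
  | cons b L₁ ih =>
    intro L' hL hL' hparts hsq
    have hb : b.Canon := hL b List.mem_cons_self
    have hL₁ : CanonL L₁ := fun b' hb' => hL b' (List.mem_cons_of_mem _ hb')
    cases b with
    | H k =>
      have hk : Odd k := hb
      have hmem : k ∈ partsL L' := by
        rw [← hparts, spca5_partsL_cons]
        exact Multiset.mem_add.mpr (Or.inl ((spca5_mem_parts_H k k).mpr rfl))
      obtain ⟨b', hb'L, hkb'⟩ := (spca5_mem_partsL L' k).mp hmem
      have hb'eq : b' = Blk.H k := by
        cases b' with
        | A k' c' =>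
          exfalso
          have e : k = k' := (spca5_mem_parts_A k k' c').mp hkb'
          subst e
          exact (Nat.not_even_iff_odd.mpr hk) (hL' _ hb'L).1
        | H k' =>
          have e : k = k' := (spca5_mem_parts_H k k').mp hkb'
          rw [e]
      subst hb'eq
      have hperm : L'.Perm (Blk.H k :: L'.erase (Blk.H k)) := List.perm_cons_erase hb'L
      have hL'₁ : CanonL (L'.erase (Blk.H k)) := fun b hb => hL' b (List.mem_of_mem_erase hb)
      have hparts₁ : partsL L₁ = partsL (L'.erase (Blk.H k)) := by
        rw [spca5_partsL_perm hperm, spca5_partsL_cons, spca5_partsL_cons] at hparts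
        exact add_left_cancel hparts
      have hsq₁ : ∀ j : ℕ, IsSquare (prodA L₁ j * prodA (L'.erase (Blk.H k)) j) := by
        intro j
        have h := hsq j
        rw [spca5_prodA_perm hperm j, spca5_prodA_cons, spca5_prodA_cons] at h
        have e : (Blk.H k : Blk F).cst j = 1 := rfl
        rw [e, one_mul, one_mul] at h
        exact h
      have ih' := ih _ hL₁ hL'₁ hparts₁ hsq₁
      exact spca5_iso_trans (by
        rw [sumList_cons, sumList_cons]
        exact spca5_sum_congr (spca5_iso_refl _) ih') (spca5_iso_symm (spca5_sumList_perm hperm))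
    | A k c =>
      obtain ⟨hke, hk0, hc⟩ := hb
      have hmem : k ∈ partsL L' := by
        rw [← hparts, spca5_partsL_cons]
        exact Multiset.mem_add.mpr (Or.inl ((spca5_mem_parts_A k k c).mpr rfl))
      obtain ⟨b', hb'L, hkb'⟩ := (spca5_mem_partsL L' k).mp hmem
      have hb'eq : ∃ c' : F, b' = Blk.A k c' := by
        cases b' with
        | A k' c' =>
          have e : k = k' := (spca5_mem_parts_A k k' c').mp hkb'
          subst e
          exact ⟨c', rfl⟩
        | H k' =>
          exfalso
          have e : k = k' := (spca5_mem_parts_H k k').mp hkb'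
          subst e
          have hodd : Odd k := hL' _ hb'L
          exact (Nat.not_even_iff_odd.mpr hodd) hke
      obtain ⟨c', rfl⟩ := hb'eq
      have hc' : c' ≠ 0 := (hL' _ hb'L).2.2
      have hperm : L'.Perm (Blk.A k c' :: L'.erase (Blk.A k c')) := List.perm_cons_erase hb'L
      have hL'₁ : CanonL (L'.erase (Blk.A k c')) := fun b hb => hL' b (List.mem_of_mem_erase hb)
      have hparts₁ : partsL L₁ = partsL (L'.erase (Blk.A k c')) := by
        rw [spca5_partsL_perm hperm, spca5_partsL_cons, spca5_partsL_cons] at hparts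
        exact add_left_cancel hparts
      have hprod : ∀ j, prodA L' j = (Blk.A k c' : Blk F).cst j * prodA (L'.erase (Blk.A k c')) j :=
        fun j => by rw [spca5_prodA_perm hperm j, spca5_prodA_cons]
      have hcstk : ∀ x : F, (Blk.A k x : Blk F).cst k = x := fun x => by
        show (if k = k then x else 1) = x
        rw [if_pos rfl]
      have hcstj : ∀ (x : F) (j : ℕ), k ≠ j → (Blk.A k x : Blk F).cst j = 1 := fun x j hj => by
        show (if k = j then x else 1) = 1
        rw [if_neg hj]
      by_cases hcc : IsSquare (c * c')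
      · have hsq₁ : ∀ j : ℕ, IsSquare (prodA L₁ j * prodA (L'.erase (Blk.A k c')) j) := by
          intro j
          have h := hsq j
          rw [spca5_prodA_cons, hprod] at h
          by_cases hj : k = j
          · subst hj
            rw [hcstk, hcstk] at h
            obtain ⟨s, hs⟩ := hcc
            obtain ⟨t, ht⟩ := h
            have hs0 : s ≠ 0 := by
              rintro rfl
              rw [mul_zero] at hs
              exact (mul_ne_zero hc hc') hs
            refine ⟨t / s, ?_⟩
            field_simp
            have e : c * prodA L₁ k * (c' * prodA (L'.erase (Blk.A k c')) k) =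
                (c * c') * (prodA L₁ k * prodA (L'.erase (Blk.A k c')) k) := by ring
            rw [e, hs] at ht
            linear_combination ht
          · rw [hcstj c j hj, hcstj c' j hj, one_mul, one_mul] at h
            exact h
        have ih' := ih _ hL₁ hL'₁ hparts₁ hsq₁
        exact spca5_iso_trans (by
          rw [sumList_cons, sumList_cons]
          exact spca5_sum_congr (hscale k c c' hc hc' hcc) ih')
          (spca5_iso_symm (spca5_sumList_perm hperm))
      · -- a second block `A k e'`
        have hex : ∃ e' : F, Blk.A k e' ∈ L'.erase (Blk.A k c') := by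
          by_contra hno
          push Not at hno
          have hk1 : k ∉ partsL (L'.erase (Blk.A k c')) := by
            intro hk1
            obtain ⟨b, hbL, hkb⟩ := (spca5_mem_partsL _ k).mp hk1
            cases b with
            | A k'' e'' =>
              have e : k = k'' := (spca5_mem_parts_A k k'' e'').mp hkb
              subst e
              exact hno e'' hbL
            | H k'' =>
              have e : k = k'' := (spca5_mem_parts_H k k'').mp hkb
              subst e
              have hodd : Odd k := hL'₁ _ hbL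
              exact (Nat.not_even_iff_odd.mpr hodd) hke
          have hk2 : k ∉ partsL L₁ := by
            rw [hparts₁]
            exact hk1
          have h := hsq k
          rw [spca5_prodA_cons, hprod, hcstk, hcstk, spca5_prodA_eq_one _ k hk1,
            spca5_prodA_eq_one _ k hk2, mul_one, mul_one] at h
          exact hcc h
        obtain ⟨e', he'L⟩ := hex
        have he' : e' ≠ 0 := (hL'₁ _ he'L).2.2
        have hperm₂ : (L'.erase (Blk.A k c')).Perm
            (Blk.A k e' :: (L'.erase (Blk.A k c')).erase (Blk.A k e')) := List.perm_cons_erase he'L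
        obtain ⟨L'₂, hL'₂def⟩ : ∃ L'₂ : List (Blk F),
            L'₂ = (L'.erase (Blk.A k c')).erase (Blk.A k e') := ⟨_, rfl⟩
        rw [← hL'₂def] at hperm₂
        have hL'₂ : CanonL L'₂ := fun b hb => hL'₁ b (by
          rw [hL'₂def] at hb
          exact List.mem_of_mem_erase hb)
        have hL'' : CanonL (Blk.A k (c' * e' * c) :: L'₂) := by
          intro b hb
          rcases List.mem_cons.mp hb with rfl | hb'
          · exact ⟨hke, hk0, mul_ne_zero (mul_ne_zero hc' he') hc⟩
          · exact hL'₂ b hb'
        have hparts'' : partsL L₁ = partsL (Blk.A k (c' * e' * c) :: L'₂) := by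
          rw [hparts₁, spca5_partsL_perm hperm₂, spca5_partsL_cons, spca5_partsL_cons]
          rfl
        have hsq'' : ∀ j : ℕ, IsSquare (prodA L₁ j * prodA (Blk.A k (c' * e' * c) :: L'₂) j) := by
          intro j
          have h := hsq j
          rw [spca5_prodA_cons, hprod, spca5_prodA_perm hperm₂ j, spca5_prodA_cons] at h
          rw [spca5_prodA_cons]
          by_cases hj : k = j
          · subst hj
            rw [hcstk] at h ⊢
            rw [hcstk, hcstk] at h
            have e : c * prodA L₁ k * (c' * (e' * prodA L'₂ k)) =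
                prodA L₁ k * (c' * e' * c * prodA L'₂ k) := by ring
            rw [← e]
            exact h
          · rw [hcstj _ j hj] at h ⊢
            rw [hcstj _ j hj, hcstj _ j hj] at h
            rw [one_mul, one_mul, one_mul] at h
            rw [one_mul]
            exact h
        have ih' := ih _ hL₁ hL'' hparts'' hsq''
        have step1 : TIso (sumList (Blk.A k c :: L₁))
            (TSum (blkA k c) (TSum (blkA k (c' * e' * c)) (sumList L'₂))) := by
          rw [sumList_cons]
          exact spca5_sum_congr (spca5_iso_refl _) ih'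
        have step2 : TIso (TSum (blkA k c) (TSum (blkA k (c' * e' * c)) (sumList L'₂)))
            (TSum (blkA k c') (TSum (blkA k e') (sumList L'₂))) :=
          spca5_iso_trans (spca5_iso_symm (spca5_sum_assoc _ _ _))
            (spca5_iso_trans
              (spca5_sum_congr (spca5_iso_symm (hexch k c' e' c hc' he' hc)) (spca5_iso_refl _))
              (spca5_sum_assoc _ _ _))
        have step3 : TIso (TSum (blkA k c') (TSum (blkA k e') (sumList L'₂))) (sumList L') := by
          have h1 : TIso (sumList (Blk.A k c' :: Blk.A k e' :: L'₂)) (sumList L') :=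
            spca5_sumList_perm ((List.Perm.cons _ hperm₂.symm).trans hperm.symm)
          exact h1
        exact spca5_iso_trans step1 (spca5_iso_trans step2 step3)

end Cfsg.Agent.Lib.helper7.SPC
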