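import Mathlib
import Cfsg.Agent.Lib.helper7.SPC.Defs
import Cfsg.Agent.Lib.Helper5.SPCA5core
import Cfsg.Agent.Lib.Helper22.SPCA3
import Cfsg.Agent.Lib.Helper22.SPCA4

/-!
# Project SPC (designer helper7), row A5: `complete` (verbatim; proof in `Helper5/SPCA5core.lean`).
-/

set_option autoImplicit false

namespace Cfsg.Agent.Lib.helper7.SPC

universe u

open Module

variable {F : Type u} [Field F]

theorem complete [Fintype F] (h2 : (2 : F) ≠ 0) (L L' : List (Blk F)) (hL : CanonL L) (hL' : CanonL L')
    (hparts : partsL L = partsL L') (hsq : ∀ k : ℕ, IsSquare (prodA L k * prodA L' k)) :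
    TIso (sumList L) (sumList L') :=
  spca5_core blkA_scale (blkA_exchange h2) L L' hL hL' hparts hsq

end Cfsg.Agent.Lib.helper7.SPC
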