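import Mathlib
import Cfsg.Agent.Lib.helper8.A7R.Defs
import Cfsg.Agent.Lib.helper8.SylowBasic
import Cfsg.Agent.Lib.helper8.SubgroupCard

set_option autoImplicit false

/-!
# Project A7R, row A04 (`NK_struct`): the normalizer of a cyclic subgroup of order 4 is a dihedral Sylow 2-subgroup.
-/

namespace Cfsg.Agent.Lib.helper8.A7R

open Cfsg.Agent.Lib.helper8

universe u

variable {G : Type u} [Group G]

/-- the elements of order 4 of a cyclic group `⟨k⟩` of order 4 are `k` and `k⁻¹` -/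
theorem a7ra04_ord4_zpowers (k x : G) (hk : orderOf k = 4) (hx : x ∈ Subgroup.zpowers k)
    (hx4 : orderOf x = 4) : x = k ∨ x = k⁻¹ := by
  obtain ⟨n, rfl⟩ := Subgroup.mem_zpowers_iff.mp hx
  have h1 : k ^ n = k ^ (n % 4) := by
    have := (zpow_mod_orderOf k n).symm
    rw [hk] at this
    exact_mod_cast this
  have h2 : 0 ≤ n % 4 := Int.emod_nonneg n (by norm_num)
  have h3 : n % 4 < 4 := Int.emod_lt_of_pos n (by norm_num)
  obtain ⟨i, hi⟩ := Int.eq_ofNat_of_zero_le h2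
  rw [hi] at h1 h3
  have hi4 : i < 4 := by exact_mod_cast h3
  rw [zpow_natCast] at h1
  rw [h1] at hx4 ⊢
  interval_cases i
  · simp at hx4
  · left; simp
  · exfalso
    rw [orderOf_pow' k (by norm_num : (2 : ℕ) ≠ 0), hk] at hx4
    norm_num at hx4
  · right
    have h4 : k ^ 4 = 1 := by rw [← hk]; exact pow_orderOf_eq_one k
    rw [eq_inv_iff_mul_eq_one, ← pow_succ]
    exact h4

/-- in a dihedral group of order 8 the elements of order 4 lie in one cyclic subgroup, and some element lies outside it -/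
theorem a7ra04_d8_ord4 (S : Subgroup G) (hD : IsD8 S) :
    ∃ r ∈ S, orderOf r = 4 ∧ (∀ x ∈ S, orderOf x = 4 → x ∈ Subgroup.zpowers r) ∧ ∃ s ∈ S, s ∉ Subgroup.zpowers r := by
  obtain ⟨hS8, r, s, hr, hs, hr4, hs2, hsr, hsQ⟩ := hD
  refine ⟨r, hr, hr4, ?_, s, hs, hsQ⟩
  intro x hx hx4
  by_contra hxQ
  set Q : Subgroup G := Subgroup.zpowers r with hQ
  have hQS : Q ≤ S := Subgroup.zpowers_le.mpr hr
  have hQ4 : Nat.card Q = 4 := by rw [hQ, Nat.card_zpowers, hr4]
  have hrel : (Q.subgroupOf S).index = 2 := by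
    have := h8_card_mul_relIndex hQS
    rw [hQ4, hS8] at this
    show Q.relIndex S = 2
    omega
  have hmem : (⟨s⁻¹, S.inv_mem hs⟩ : S) * ⟨x, hx⟩ ∈ Q.subgroupOf S := by
    rw [Subgroup.mul_mem_iff_of_index_two hrel, Subgroup.mem_subgroupOf, Subgroup.mem_subgroupOf]
    constructor
    · intro h; exact absurd (by simpa using Q.inv_mem h) hsQ
    · intro h; exact absurd h hxQ
  rw [Subgroup.mem_subgroupOf] at hmem
  have hq : s⁻¹ * x ∈ Q := hmem
  obtain ⟨n, hn⟩ := Subgroup.mem_zpowers_iff.mp hq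
  have hx' : x = s * r ^ n := by rw [hn]; group
  have hs2' : s * s = 1 := by
    have := pow_orderOf_eq_one s
    rw [hs2, pow_two] at this
    exact this
  have hsinv : s⁻¹ = s := by rw [inv_eq_iff_mul_eq_one]; exact hs2'
  have hconj : s * r ^ n * s⁻¹ = (r ^ n)⁻¹ := by
    have : s * r ^ n * s⁻¹ = (s * r * s⁻¹) ^ n := conj_zpow.symm
    rw [this, hsr, inv_zpow]
  have hx2 : x ^ 2 = 1 := by
    rw [hx', pow_two]
    calc s * r ^ n * (s * r ^ n) = (s * r ^ n * s⁻¹) * (s * s) * r ^ n := by group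
      _ = 1 := by rw [hconj, hs2']; group
  have := orderOf_dvd_of_pow_eq_one hx2
  rw [hx4] at this
  omega

/-- A04 -/
theorem NK_struct (hS : Std G) (h4 : St4 G) (k : G) (hk4 : orderOf k = 4) :
    Nat.card (Nz (Subgroup.zpowers k)) = 8 ∧ (∃ t ∈ Nz (Subgroup.zpowers k), t ∉ Subgroup.zpowers k) ∧
    ∀ t ∈ Nz (Subgroup.zpowers k), t ∉ Subgroup.zpowers k → orderOf t = 2 ∧ t * k * t⁻¹ = k⁻¹ := by
  have := hS.finite
  have : Fact (Nat.Prime 2) := ⟨Nat.prime_two⟩
  set K : Subgroup G := Subgroup.zpowers k with hK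
  have hK4 : Nat.card K = 4 := by rw [hK, Nat.card_zpowers, hk4]
  have hpg : IsPGroup 2 K := by
    apply IsPGroup.of_card (n := 2)
    rw [hK4]; norm_num
  obtain ⟨S, hKS⟩ := hpg.exists_le_sylow
  have hkS : k ∈ (S : Subgroup G) := hKS (Subgroup.mem_zpowers k)
  have hD := h4.d8 S
  have hS8 : Nat.card (S : Subgroup G) = 8 := hD.1
  obtain ⟨r, hr, hr4, hord4, s, hs, hsQ⟩ := a7ra04_d8_ord4 (S : Subgroup G) hD
  -- K = ⟨r⟩
  have hKr : K = Subgroup.zpowers r := by
    apply Subgroup.eq_of_le_of_card_ge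
    · exact Subgroup.zpowers_le.mpr (hord4 k hkS hk4)
    · rw [Nat.card_zpowers, hr4, hK4]
  -- S ≤ N(K)
  have hrel : (K.subgroupOf (S : Subgroup G)).index = 2 := by
    have := h8_card_mul_relIndex hKS
    rw [hK4, hS8] at this
    show K.relIndex (S : Subgroup G) = 2
    omega
  have hN : (K.subgroupOf (S : Subgroup G)).Normal := Subgroup.normal_of_index_eq_two hrel
  have hSN : (S : Subgroup G) ≤ Nz K := Subgroup.le_normalizer_of_normal_subgroupOf hKS
  -- C(k) = K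
  have hCK : Cz k = K := by
    symm
    apply Subgroup.eq_of_le_of_card_ge
    · intro x hx
      obtain ⟨n, rfl⟩ := Subgroup.mem_zpowers_iff.mp hx
      rw [Subgroup.mem_centralizer_singleton_iff]
      exact (Commute.zpow_self k n).eq
    · rw [h4.cent4 k hk4, hK4]
  -- elements of N(K) act on k as ± 1
  have hact : ∀ t ∈ Nz K, t * k * t⁻¹ = k ∨ t * k * t⁻¹ = k⁻¹ := by
    intro t ht
    have h1 : t * k * t⁻¹ ∈ K := (Subgroup.mem_normalizer_iff.mp ht k).mp (Subgroup.mem_zpowers k)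
    have h2 : orderOf (t * k * t⁻¹) = 4 := by
      have : t * k * t⁻¹ = (MulAut.conj t) k := by simp [MulAut.conj_apply]
      rw [this, MulEquiv.orderOf_eq, hk4]
    exact a7ra04_ord4_zpowers k _ hk4 h1 h2
  have hfix : ∀ t : G, t * k * t⁻¹ = k → t ∈ K := by
    intro t ht
    rw [← hCK, Subgroup.mem_centralizer_singleton_iff]
    calc t * k = (t * k * t⁻¹) * t := by group
      _ = k * t := by rw [ht]
  have hsq : ∀ t ∈ Nz K, t ^ 2 ∈ K := by
    intro t ht
    rcases hact t ht with h | h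
    · exact K.pow_mem (hfix t h) 2
    · apply hfix
      have e1 : t ^ 2 * k * (t ^ 2)⁻¹ = t * (t * k * t⁻¹) * t⁻¹ := by
        simp only [pow_two, mul_inv_rev, mul_assoc]
      have e2 : t * k⁻¹ * t⁻¹ = (t * k * t⁻¹)⁻¹ := by
        simp only [mul_inv_rev, inv_inv, mul_assoc]
      rw [e1, h, e2, h, inv_inv]
  -- N(K) is a 2-group, hence equal to S
  have hNpg : IsPGroup 2 (Nz K) := by
    intro g
    refine ⟨3, ?_⟩
    apply Subtype.ext
    have h1 : (g : G) ^ 2 ∈ K := hsq g g.2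
    have h2 : ((g : G) ^ 2) ^ 4 = 1 := by
      have := Subgroup.orderOf_dvd_natCard K h1
      rw [hK4] at this
      exact orderOf_dvd_iff_pow_eq_one.mp this
    show ((g ^ 2 ^ 3 : Nz K) : G) = 1
    rw [Subgroup.coe_pow]
    calc (g : G) ^ 2 ^ 3 = ((g : G) ^ 2) ^ 4 := by rw [← pow_mul]; norm_num
      _ = 1 := h2
  have hNS : Nz K = (S : Subgroup G) := S.is_maximal' hNpg hSN
  refine ⟨by rw [hNS, hS8], ⟨s, by rw [hNS]; exact hs, by rw [hKr]; exact hsQ⟩, ?_⟩
  intro t ht htK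
  have htk : t * k * t⁻¹ = k⁻¹ := by
    rcases hact t ht with h | h
    · exact absurd (hfix t h) htK
    · exact h
  refine ⟨?_, htk⟩
  -- t^2 = k^n commutes with t, so k^(2n) = 1 and t^4 = 1
  obtain ⟨n, hn⟩ := Subgroup.mem_zpowers_iff.mp (hsq t ht)
  have h1 : t * k ^ n * t⁻¹ = (k ^ n)⁻¹ := by
    have : t * k ^ n * t⁻¹ = (t * k * t⁻¹) ^ n := conj_zpow.symm
    rw [this, htk, inv_zpow]
  have h2 : t * k ^ n * t⁻¹ = k ^ n := by
    rw [hn]; group
  have h3 : (t ^ 2) ^ 2 = 1 := by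
    rw [← hn, pow_two]
    nth_rewrite 1 [← h2]
    rw [h1]; group
  have h4' : t ^ 4 = 1 := by
    rw [← h3, ← pow_mul]
  have hd : orderOf t ∣ 4 := orderOf_dvd_of_pow_eq_one h4'
  have hmem : orderOf t ∈ Nat.divisors 4 := Nat.mem_divisors.mpr ⟨hd, by norm_num⟩
  have hdiv : Nat.divisors 4 = {1, 2, 4} := by decide
  rw [hdiv] at hmem
  simp only [Finset.mem_insert, Finset.mem_singleton] at hmem
  rcases hmem with h | h | h
  · exfalso; apply htK
    rw [orderOf_eq_one_iff] at h; rw [h]; exact K.one_mem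
  · exact h
  · exfalso; apply htK
    rw [hKr]
    exact hord4 t (by rw [← hNS]; exact ht) h

end Cfsg.Agent.Lib.helper8.A7R
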