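import Mathlib
import Cfsg.Agent.Lib.helper8.A7R.Defs
import Cfsg.Agent.Lib.helper8.SylowBasic
import Cfsg.Agent.Lib.helper8.SubgroupCard
import Cfsg.Agent.S0111

set_option autoImplicit false

/-!
# Project A7R, row B00 (`inv_cent`): in a simple group of order 2520 the centralizer of every involution has order divisible by 8.
-/

namespace Cfsg.Agent.Lib.helper8.A7R

universe u

variable {G : Type u} [Group G]

/-- the order of a centralizer is invariant under conjugation -/
theorem a7rb00_card_cz_conj (g x : G) : Nat.card (Cz (g * x * g⁻¹)) = Nat.card (Cz x) := by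
  refine Nat.card_congr ⟨fun y => ⟨g⁻¹ * y.1 * g, ?_⟩, fun y => ⟨g * y.1 * g⁻¹, ?_⟩, ?_, ?_⟩
  · have hy := Subgroup.mem_centralizer_singleton_iff.mp y.2
    rw [Subgroup.mem_centralizer_singleton_iff]
    have : x = g⁻¹ * (g * x * g⁻¹) * g := by group
    calc g⁻¹ * y.1 * g * x = g⁻¹ * (y.1 * (g * x * g⁻¹)) * g := by group
      _ = g⁻¹ * ((g * x * g⁻¹) * y.1) * g := by rw [hy]
      _ = x * (g⁻¹ * y.1 * g) := by group
  · have hy := Subgroup.mem_centralizer_singleton_iff.mp y.2
    rw [Subgroup.mem_centralizer_singleton_iff]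
    calc g * y.1 * g⁻¹ * (g * x * g⁻¹) = g * (y.1 * x) * g⁻¹ := by group
      _ = g * (x * y.1) * g⁻¹ := by rw [hy]
      _ = g * x * g⁻¹ * (g * y.1 * g⁻¹) := by group
  · intro y
    apply Subtype.ext
    show g * (g⁻¹ * y.1 * g) * g⁻¹ = y.1
    group
  · intro y
    apply Subtype.ext
    show g⁻¹ * (g * y.1 * g⁻¹) * g = y.1
    group

/-- conjugation preserves the order -/
theorem a7rb00_orderOf_conj (g x : G) : orderOf (g * x * g⁻¹) = orderOf x := by
  have : g * x * g⁻¹ = (MulAut.conj g) x := by simp [MulAut.conj_apply]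
  rw [this, MulEquiv.orderOf_eq]

/-- the only involution of a cyclic group of order 4 is the square of a generator -/
theorem a7rb00_inv_zpowers (r x : G) (hr : orderOf r = 4) (hx : x ∈ Subgroup.zpowers r)
    (hx2 : orderOf x = 2) : x = r ^ 2 := by
  obtain ⟨k, rfl⟩ := Subgroup.mem_zpowers_iff.mp hx
  have h1 : r ^ k = r ^ (k % 4) := by
    have := (zpow_mod_orderOf r k).symm
    rw [hr] at this
    exact_mod_cast this
  have h2 : 0 ≤ k % 4 := Int.emod_nonneg k (by norm_num)
  have h3 : k % 4 < 4 := Int.emod_lt_of_pos k (by norm_num)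
  obtain ⟨i, hi⟩ := Int.eq_ofNat_of_zero_le h2
  rw [hi] at h1 h3
  have hi4 : i < 4 := by exact_mod_cast h3
  rw [zpow_natCast] at h1
  rw [h1] at hx2 ⊢
  interval_cases i
  · simp at hx2
  · rw [pow_one, hr] at hx2; omega
  · rfl
  · rw [orderOf_pow' r (by norm_num : (3 : ℕ) ≠ 0), hr] at hx2
    norm_num at hx2

/-- a subgroup all of whose elements square to 1 is commutative -/
theorem a7rb00_comm_of_sq (S : Subgroup G) (h : ∀ s ∈ S, s ^ 2 = 1) (a b : G) (ha : a ∈ S) (hb : b ∈ S) :
    a * b = b * a := by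
  have h1 := h a ha
  have h2 := h b hb
  have h3 := h (a * b) (S.mul_mem ha hb)
  have ha' : a⁻¹ = a := by
    rw [inv_eq_iff_mul_eq_one, ← pow_two]; exact h1
  have hb' : b⁻¹ = b := by
    rw [inv_eq_iff_mul_eq_one, ← pow_two]; exact h2
  have h4 : (a * b)⁻¹ = a * b := by
    rw [inv_eq_iff_mul_eq_one, ← pow_two]; exact h3
  rw [mul_inv_rev, ha', hb'] at h4
  exact h4.symm

/-- B00 -/
theorem inv_cent (hS : Std G) : InvC8 G := by
  have := hS.finite
  have := hS.simple
  intro u hu
  have : Fact (Nat.Prime 2) := ⟨Nat.prime_two⟩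
  -- a Sylow 2-subgroup containing u
  have hpg : IsPGroup 2 (Subgroup.zpowers u) := by
    apply IsPGroup.of_card (n := 1)
    rw [Nat.card_zpowers, hu]; norm_num
  obtain ⟨S, hSu⟩ := hpg.exists_le_sylow
  have huS : u ∈ (S : Subgroup G) := hSu (Subgroup.mem_zpowers u)
  have hS8 : Nat.card (S : Subgroup G) = 8 := by
    have := Cfsg.Agent.Lib.helper8.h8_sylow_card 2 3 315 (by rw [hS.card]; norm_num) (by norm_num) S
    simpa using this
  -- it suffices to find a conjugate of u which is central in S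
  suffices hz : ∃ g : G, ∀ s ∈ (S : Subgroup G), s * (g * u * g⁻¹) = (g * u * g⁻¹) * s by
    obtain ⟨g, hg⟩ := hz
    rw [← a7rb00_card_cz_conj g u, ← hS8]
    apply Subgroup.card_dvd_of_le
    intro s hs
    exact Subgroup.mem_centralizer_singleton_iff.mpr (hg s hs)
  by_cases hc : ∀ s ∈ (S : Subgroup G), s * u = u * s
  · exact ⟨1, by simpa using hc⟩
  -- S is not abelian: there is an element of order 4
  have h4 : ∃ r ∈ (S : Subgroup G), orderOf r = 4 := by
    by_contra hno
    push Not at hno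
    apply hc
    have hsq : ∀ s ∈ (S : Subgroup G), s ^ 2 = 1 := by
      intro s hs
      have hd : orderOf s ∣ 8 := by
        rw [← hS8]; exact Subgroup.orderOf_dvd_natCard _ hs
      have hmem : orderOf s ∈ Nat.divisors 8 := Nat.mem_divisors.mpr ⟨hd, by norm_num⟩
      have hdiv : Nat.divisors 8 = {1, 2, 4, 8} := by decide
      rw [hdiv] at hmem
      simp only [Finset.mem_insert, Finset.mem_singleton] at hmem
      rcases hmem with h | h | h | h
      · rw [orderOf_eq_one_iff] at h; rw [h]; simp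
      · rw [← h]; exact pow_orderOf_eq_one s
      · exact absurd h (hno s hs)
      · exfalso
        apply hno (s ^ 2) ((S : Subgroup G).pow_mem hs 2)
        rw [orderOf_pow' s (by norm_num : (2 : ℕ) ≠ 0), h]
        norm_num
    intro s hs
    exact a7rb00_comm_of_sq (S : Subgroup G) hsq s u hs huS
  obtain ⟨r, hrS, hr4⟩ := h4
  set Q : Subgroup G := Subgroup.zpowers r with hQ
  have hQS : Q ≤ (S : Subgroup G) := Subgroup.zpowers_le.mpr hrS
  have hQ4 : Nat.card Q = 4 := by rw [hQ, Nat.card_zpowers, hr4]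
  have hrel : Q.relIndex (S : Subgroup G) = 2 := by
    have := Cfsg.Agent.Lib.helper8.h8_card_mul_relIndex hQS
    rw [hQ4, hS8] at this
    omega
  have hN : (Q.subgroupOf (S : Subgroup G)).Normal := Subgroup.normal_of_index_eq_two hrel
  have hr2ord : orderOf (r ^ 2) = 2 := by
    rw [orderOf_pow' r (by norm_num : (2 : ℕ) ≠ 0), hr4]
    norm_num
  have hr2Q : r ^ 2 ∈ Q := Subgroup.pow_mem _ (Subgroup.mem_zpowers r) 2
  -- r^2 is central in S
  have hcen : ∀ s ∈ (S : Subgroup G), s * r ^ 2 = r ^ 2 * s := by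
    intro s hs
    have h1 := hN.conj_mem ⟨r ^ 2, hQS hr2Q⟩ (Subgroup.mem_subgroupOf.mpr hr2Q) ⟨s, hs⟩
    rw [Subgroup.mem_subgroupOf] at h1
    have h2 : s * r ^ 2 * s⁻¹ ∈ Q := h1
    have h3 : orderOf (s * r ^ 2 * s⁻¹) = 2 := by
      have := Cfsg.Agent.Lib.helper8.A7R.a7rb00_orderOf_conj s (r ^ 2)
      rw [this, hr2ord]
    have h4 := a7rb00_inv_zpowers r _ hr4 h2 h3
    calc s * r ^ 2 = (s * r ^ 2 * s⁻¹) * s := by group
      _ = r ^ 2 * s := by rw [h4]
  have huQ : u ∉ Q := by
    intro huQ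
    apply hc
    have := a7rb00_inv_zpowers r u hr4 huQ hu
    rw [this]; exact hcen
  rcases Cfsg.Agent.S0111.result S Q hQS hrel u hu huS huQ with ⟨M, hMn, hMi, -⟩ | ⟨g, hg⟩
  · exfalso
    rcases IsSimpleGroup.eq_bot_or_eq_top_of_normal M hMn with h | h
    · rw [h, Subgroup.index_bot, hS.card] at hMi; omega
    · rw [h, Subgroup.index_top] at hMi; omega
  · refine ⟨g, ?_⟩
    have h3 : orderOf (g * u * g⁻¹) = 2 := by
      rw [a7rb00_orderOf_conj g u, hu]
    rw [a7rb00_inv_zpowers r _ hr4 hg h3]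
    exact hcen

end Cfsg.Agent.Lib.helper8.A7R
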