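import Mathlib
import Cfsg.Agent.Lib.helper8.A7R.Defs
import Cfsg.Agent.Lib.helper8.SylowBasic
import Cfsg.Agent.Lib.helper8.SylowConj
import Cfsg.Agent.Lib.helper8.SubgroupCard
import Cfsg.Agent.Lib.helper8.Parity
import Cfsg.Agent.Lib.helper8.SimpleEmbed
import Cfsg.Agent.Lib.helper8.Burnside

set_option autoImplicit false

/-!
# Project A7R, row B02 (`n7_ne_15`): a simple group of order 2520 does not have exactly 15 Sylow 7-subgroups.

An involution `i` of `C(P)` (`P` a Sylow 7-subgroup, `|C(P)|` even) fixes `f` of the 15 Sylow 7-subgroups with `4 ∣ 15 - f` (even permutation)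
and `f ≡ 1 mod 7` (`P` acts on the fixed points of `i`, fixing only `P`): `f = 15`, so `i` acts trivially, against simplicity.
-/

namespace Cfsg.Agent.Lib.helper8.A7R

open Cfsg.Agent.Lib.helper8

universe u

variable {G : Type u} [Group G]

/-- the action of a Sylow subgroup `P` on the set of Sylow subgroups fixed by an element `i` of `C(P)` -/
@[reducible] def a7rb02_act (p : ℕ) (P : Sylow p G) (i : G) (hi : i ∈ Cs (P : Subgroup G)) :
    MulAction (P : Subgroup G) (MulAction.fixedBy (Sylow p G) i) where
  smul w x := ⟨(w : G) • x.1, by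
    have hx : i • x.1 = x.1 := MulAction.mem_fixedBy.mp x.2
    have hc : (w : G) * i = i * (w : G) := (Subgroup.mem_centralizer_iff.mp hi) (w : G) w.2
    rw [MulAction.mem_fixedBy, ← mul_smul, ← hc, mul_smul, hx]⟩
  one_smul x := by
    apply Subtype.ext
    show ((1 : (P : Subgroup G)) : G) • x.1 = x.1
    simp
  mul_smul a b x := by
    apply Subtype.ext
    show ((a * b : (P : Subgroup G)) : G) • x.1 = (a : G) • ((b : G) • x.1)
    rw [Subgroup.coe_mul, mul_smul]

/-- B02 -/
theorem n7_ne_15 (hS : Std G) : Nat.card (Sylow 7 G) ≠ 15 := by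
  have := hS.finite
  have := hS.simple
  intro h15
  have : Fact (Nat.Prime 7) := ⟨by norm_num⟩
  have : Fact (Nat.Prime 2) := ⟨Nat.prime_two⟩
  have hnc : ¬ IsMulCommutative G := h8_not_comm_of_card (by rw [hS.card]; norm_num)
  obtain ⟨P⟩ : Nonempty (Sylow 7 G) := inferInstance
  have hP7 : Nat.card (P : Subgroup G) = 7 := by
    have := h8_sylow_card 7 1 360 (by rw [hS.card]; norm_num) (by norm_num) P
    simpa using this
  have hN : Nat.card (Nz (P : Subgroup G)) = 168 := by
    have := h8_card_normalizer_sylow 7 P
    rw [h15, hS.card] at this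
    show Nat.card (Subgroup.normalizer ((P : Subgroup G) : Set G)) = 168
    omega
  have hCN := h8_card_centralizer_mul_relIndex (P : Subgroup G)
  have hd := h8_relIndex_centralizer_normalizer_dvd_prime 7 (by norm_num) (P : Subgroup G) hP7
  have heven : 2 ∣ Nat.card (Cs (P : Subgroup G)) := by
    show 2 ∣ Nat.card (Subgroup.centralizer ((P : Subgroup G) : Set G))
    have hN' : Nat.card (Subgroup.normalizer ((P : Subgroup G) : Set G)) = 168 := hN
    rw [hN'] at hCN
    generalize (Subgroup.centralizer ((P : Subgroup G) : Set G)).relIndex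
      (Subgroup.normalizer ((P : Subgroup G) : Set G)) = d at hCN hd
    generalize Nat.card (Subgroup.centralizer ((P : Subgroup G) : Set G)) = c at hCN ⊢
    have hd6 : d ∈ Nat.divisors 6 := Nat.mem_divisors.mpr ⟨hd, by norm_num⟩
    have : Nat.divisors 6 = {1, 2, 3, 6} := by decide
    rw [this] at hd6
    simp only [Finset.mem_insert, Finset.mem_singleton] at hd6
    rcases hd6 with rfl | rfl | rfl | rfl <;> omega
  obtain ⟨i', hi'2⟩ := exists_prime_orderOf_dvd_card' (G := Cs (P : Subgroup G)) 2 heven
  set i : G := (i' : G) with hi_def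
  have hiC : i ∈ Cs (P : Subgroup G) := i'.2
  have hi2 : orderOf i = 2 := by rw [hi_def, Subgroup.orderOf_coe]; exact hi'2
  have hisq : i ^ 2 = 1 := by rw [← hi2]; exact pow_orderOf_eq_one i
  have hi1 : i ≠ 1 := by
    intro h; rw [h, orderOf_one] at hi2; omega
  -- the fixed points of i on the Sylow 7-subgroups
  have h4 := h8_simple_involution_fixed (X := Sylow 7 G) hnc i hisq
  rw [h15] at h4
  let _ := a7rb02_act 7 P i hiC
  have h7 := (P.isPGroup').card_modEq_card_fixedPoints (MulAction.fixedBy (Sylow 7 G) i)
  -- the fixed points of P on Fix(i): only P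
  have hPfix : i • P = P := by
    rw [Sylow.smul_eq_iff_mem_normalizer]
    exact Subgroup.centralizer_le_normalizer ((P : Subgroup G) : Set G) hiC
  have hfp : Nat.card (MulAction.fixedPoints (P : Subgroup G) (MulAction.fixedBy (Sylow 7 G) i)) = 1 := by
    rw [Nat.card_eq_one_iff_unique]
    refine ⟨⟨?_⟩, ⟨⟨⟨P, MulAction.mem_fixedBy.mpr hPfix⟩, ?_⟩⟩⟩
    · rintro ⟨⟨x, hx⟩, hxf⟩ ⟨⟨y, hy⟩, hyf⟩
      have key : ∀ (x : Sylow 7 G) (hx : x ∈ MulAction.fixedBy (Sylow 7 G) i),
          (⟨x, hx⟩ : MulAction.fixedBy (Sylow 7 G) i) ∈ MulAction.fixedPoints (P : Subgroup G) (MulAction.fixedBy (Sylow 7 G) i) → x = P := by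
        intro x hx hxf
        rw [MulAction.mem_fixedPoints] at hxf
        have hle : (P : Subgroup G) ≤ Subgroup.normalizer ((x : Subgroup G) : Set G) := by
          intro w hw
          have := hxf ⟨w, hw⟩
          have h2 : (w : G) • x = x := congrArg Subtype.val this
          exact Sylow.smul_eq_iff_mem_normalizer.mp h2
        have := h8_le_sylow_of_le_normalizer 7 x (P : Subgroup G) P.isPGroup' hle
        exact (h8_sylow_eq_of_le 7 P x this).symm
      have h1 := key x hx hxf
      have h2 := key y hy hyf
      subst h1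
      subst h2
      rfl
    · rw [MulAction.mem_fixedPoints]
      intro w
      apply Subtype.ext
      show (w : G) • P = P
      rw [Sylow.smul_eq_iff_mem_normalizer]
      exact Subgroup.le_normalizer w.2
  rw [hfp] at h7
  -- arithmetic: f ≤ 15, f ≡ 1 mod 7, 4 ∣ 15 - f
  have hle : Nat.card (MulAction.fixedBy (Sylow 7 G) i) ≤ 15 := by
    rw [← h15]
    exact Nat.card_le_card_of_injective Subtype.val Subtype.val_injective
  have hf15 : Nat.card (MulAction.fixedBy (Sylow 7 G) i) = 15 := by
    generalize Nat.card (MulAction.fixedBy (Sylow 7 G) i) = f at h4 h7 hle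
    have h7' : f % 7 = 1 := h7
    obtain ⟨k, hk⟩ := h4
    omega
  -- so i fixes every Sylow 7-subgroup
  have hall : ∀ x : Sylow 7 G, i • x = x := by
    have hfin : Finite (Sylow 7 G) := inferInstance
    have : (MulAction.fixedBy (Sylow 7 G) i) = Set.univ := by
      apply Set.eq_univ_of_forall
      by_contra hne
      push Not at hne
      obtain ⟨x, hx⟩ := hne
      have hlt : Nat.card (MulAction.fixedBy (Sylow 7 G) i) < Nat.card (Sylow 7 G) := by
        have hsub : (MulAction.fixedBy (Sylow 7 G) i) ⊂ Set.univ := by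
          rw [Set.ssubset_univ_iff]
          intro h; apply hx; rw [h]; trivial
        have := Set.ncard_lt_ncard hsub (Set.toFinite _)
        rw [Set.ncard_univ] at this
        rwa [← Nat.card_coe_set_eq] at this
      omega
    intro x
    have : x ∈ MulAction.fixedBy (Sylow 7 G) i := by rw [this]; trivial
    exact MulAction.mem_fixedBy.mp this
  -- the kernel of the action is trivial
  have hker : (MulAction.toPermHom G (Sylow 7 G)).ker = ⊥ := by
    rcases IsSimpleGroup.eq_bot_or_eq_top_of_normal _ (MulAction.toPermHom G (Sylow 7 G)).normal_ker with h | h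
    · exact h
    · exfalso
      have hNtop : Subgroup.normalizer ((P : Subgroup G) : Set G) = ⊤ := by
        rw [eq_top_iff]
        intro g _
        have hg : g ∈ (MulAction.toPermHom G (Sylow 7 G)).ker := by rw [h]; trivial
        rw [MonoidHom.mem_ker] at hg
        have : g • P = P := by
          have := congrArg (fun σ : Equiv.Perm (Sylow 7 G) => σ P) hg
          simpa using this
        exact Sylow.smul_eq_iff_mem_normalizer.mp this
      have h2 : (Subgroup.normalizer ((P : Subgroup G) : Set G)).index = 15 := by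
        rw [← h15]; exact P.card_eq_index_normalizer.symm
      rw [hNtop, Subgroup.index_top] at h2
      omega
  apply hi1
  have : i ∈ (MulAction.toPermHom G (Sylow 7 G)).ker := by
    rw [MonoidHom.mem_ker]
    apply Equiv.ext
    intro x
    show i • x = x
    exact hall x
  rw [hker] at this
  exact Subgroup.mem_bot.mp this

end Cfsg.Agent.Lib.helper8.A7R
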