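import Mathlib
import Cfsg.Agent.Lib.helper8.A7R.Defs
import Cfsg.Agent.Lib.helper8.SylowBasic
import Cfsg.Agent.Lib.helper8.SylowConj
import Cfsg.Agent.Lib.helper8.SubgroupCard

set_option autoImplicit false

/-!
# Project A7R, row H5 (`Xt_in`): the element of type 3A of `C(t)` lies in a Sylow 3-subgroup normalized by `j = k^2`.
-/

namespace Cfsg.Agent.Lib.helper8.A7R

open Cfsg.Agent.Lib.helper8

universe u

variable {G : Type u} [Group G]

/-- the elements of a cyclic group generated by an involution -/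
theorem a7rh5_mem_zpowers_inv (t u : G) (ht : t ^ 2 = 1) (hu : u ∈ Subgroup.zpowers t) : u = 1 ∨ u = t := by
  obtain ⟨n, rfl⟩ := Subgroup.mem_zpowers_iff.mp hu
  rcases Int.emod_two_eq_zero_or_one n with h | h
  · left
    have : n = 2 * (n / 2) := by omega
    rw [this, zpow_mul, zpow_ofNat, ht, one_zpow]
  · right
    have : n = 2 * (n / 2) + 1 := by omega
    rw [this, zpow_add, zpow_mul, zpow_ofNat, ht, one_zpow, one_mul, zpow_one]

/-- a group of order 4 has an element outside a cyclic subgroup generated by an involution -/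
theorem a7rh5_exists_notin [Finite G] (U : Subgroup G) (hU4 : Nat.card U = 4) (t : G) (ht2 : t ^ 2 = 1) :
    ∃ u ∈ U, u ≠ 1 ∧ u ≠ t := by
  by_contra hno
  push Not at hno
  have hle : U ≤ Subgroup.zpowers t := by
    intro u hu
    by_cases h1 : u = 1
    · rw [h1]; exact Subgroup.one_mem _
    · rw [hno u hu h1]; exact Subgroup.mem_zpowers t
  have h1 := Subgroup.card_le_of_le hle
  rw [hU4, Nat.card_zpowers] at h1
  have h2 : orderOf t ≤ 2 := Nat.le_of_dvd (by norm_num) (orderOf_dvd_of_pow_eq_one ht2)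
  omega

/-- the product decomposition of a group with coprime complementary subgroups -/
theorem a7rh5_decomp [Finite G] (N U R : Subgroup G) (hU : U ≤ N) (hR : R ≤ N)
    (hcard : Nat.card U * Nat.card R = Nat.card N) (hcop : (Nat.card U).Coprime (Nat.card R))
    (c : G) (hc : c ∈ N) : ∃ u ∈ U, ∃ r ∈ R, c = u * r := by
  have h1 : Nat.card (U.subgroupOf N) = Nat.card U := h8_card_subgroupOf hU
  have h2 : Nat.card (R.subgroupOf N) = Nat.card R := h8_card_subgroupOf hR
  have hcompl : (U.subgroupOf N).IsComplement' (R.subgroupOf N) :=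
    Subgroup.isComplement'_of_coprime (by rw [h1, h2, hcard]) (by rw [h1, h2]; exact hcop)
  have hsurj := (Subgroup.isComplement'_def.mp hcompl).2
  obtain ⟨⟨⟨a, ha⟩, ⟨b, hb⟩⟩, hab⟩ := hsurj ⟨c, hc⟩
  refine ⟨a, Subgroup.mem_subgroupOf.mp ha, b, Subgroup.mem_subgroupOf.mp hb, ?_⟩
  have := congrArg Subtype.val hab
  simpa using this.symm

/-- conjugation preserves the order -/
theorem a7rh5_orderOf_conj (g x : G) : orderOf (g * x * g⁻¹) = orderOf x := by
  have : g * x * g⁻¹ = (MulAut.conj g) x := by simp [MulAut.conj_apply]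
  rw [this, MulEquiv.orderOf_eq]

/-- a subgroup of exponent 2 is commutative -/
theorem a7rh5_comm_of_sq (S : Subgroup G) (h : ∀ s ∈ S, s ^ 2 = 1) (a b : G) (ha : a ∈ S) (hb : b ∈ S) :
    a * b = b * a := by
  have h1 := h a ha
  have h2 := h b hb
  have h3 := h (a * b) (S.mul_mem ha hb)
  have ha' : a⁻¹ = a := by
    rw [inv_eq_iff_mul_eq_one, ← pow_two]; exact h1
  have hb' : b⁻¹ = b := by
    rw [inv_eq_iff_mul_eq_one, ← pow_two]; exact h2
  have h4 : (a * b)⁻¹ = a * b := by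
    rw [inv_eq_iff_mul_eq_one, ← pow_two]; exact h3
  rw [mul_inv_rev, ha', hb'] at h4
  exact h4.symm

/-- H5 -/
theorem Xt_in (hS : Std G) (h3 : St3 G) (h4 : St4 G) {P : Sylow 3 G} {k t xj w : G} {V : Subgroup G}
    (hC : Ctx P k t) (hH : Hex k xj w V) (htV : t ∉ V) :
    ∃ x : G, x ∈ Cz t ∧ Is3A x ∧ ∃ R : Sylow 3 G, x ∈ (R : Subgroup G) ∧ k ^ 2 ∈ Nz (R : Subgroup G) := by
  have := hS.finite
  have : Fact (Nat.Prime 3) := ⟨by norm_num⟩
  have : Fact (Nat.Prime 2) := ⟨Nat.prime_two⟩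
  have hk4 := hC.hk4
  have ht2 := hC.ht2
  have htsq : t * t = 1 := by
    have := pow_orderOf_eq_one t
    rwa [ht2, pow_two] at this
  have htinv : t⁻¹ = t := by rw [inv_eq_iff_mul_eq_one]; exact htsq
  have hk44 : k ^ 4 = 1 := by rw [← hk4]; exact pow_orderOf_eq_one k
  obtain ⟨j, hj⟩ : ∃ j : G, j = k ^ 2 := ⟨_, rfl⟩
  have hxjCj : xj ∈ Cz j := by rw [hj]; exact hH.xj_mem
  have hxjuniq : ∀ y ∈ Cz j, orderOf y = 3 → y = xj ∨ y = xj⁻¹ := by rw [hj]; exact hH.xj_uniq
  have hdich : ∀ g ∈ Cz j, (g * xj = xj * g ∧ ∃ i : ℕ, ∃ v ∈ V, g = xj ^ i * v) ∨ g * xj * g⁻¹ = xj⁻¹ := by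
    rw [hj]; exact hH.Cj_dich
  rw [← hj]
  have hjsq : j * j = 1 := by rw [hj, ← pow_add]; exact hk44
  have hjinv : j⁻¹ = j := by rw [inv_eq_iff_mul_eq_one]; exact hjsq
  -- j commutes with t
  have hjt : j * t = t * j := by
    have h1 : t * j * t⁻¹ = j := by
      have e : t * k ^ 2 * t⁻¹ = (t * k * t⁻¹) ^ 2 := conj_pow.symm
      rw [hj, e, hC.htk, inv_pow, inv_eq_iff_mul_eq_one, ← pow_add]
      exact hk44
    calc j * t = (t * j * t⁻¹) * t := by rw [h1]
      _ = t * j := by group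
  obtain ⟨x, hxCt, hx3A, hxuniq⟩ := h4.inv3 t ht2
  have hx3 : orderOf x = 3 := hx3A.1
  have hxt : x * t = t * x := Subgroup.mem_centralizer_singleton_iff.mp hxCt
  obtain ⟨U, hUle, hU4, hUexp, hUnorm, hUinv⟩ := h3.cent3V x hx3A
  have htCx : t ∈ Cz x := Subgroup.mem_centralizer_singleton_iff.mpr hxt.symm
  have htU : t ∈ U := hUinv t htCx ht2
  have hxinv_ne : x⁻¹ ≠ x := by
    intro h
    have h2 : x ^ 2 = 1 := by
      rw [pow_two]; nth_rewrite 1 [← h]; exact inv_mul_cancel x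
    have := orderOf_dvd_of_pow_eq_one h2
    rw [hx3] at this; omega
  -- Step 1: j inverts x
  have hjCt : j ∈ Cz t := Subgroup.mem_centralizer_singleton_iff.mpr hjt
  have hjx : j * x * j⁻¹ = x⁻¹ := by
    have hmem : j * x * j⁻¹ ∈ Cz t := (Cz t).mul_mem ((Cz t).mul_mem hjCt hxCt) ((Cz t).inv_mem hjCt)
    have hord : orderOf (j * x * j⁻¹) = 3 := by rw [a7rh5_orderOf_conj, hx3]
    rcases hxuniq _ hmem hord with h | h
    · exfalso
      have hxCj : x ∈ Cz j := by
        rw [Subgroup.mem_centralizer_singleton_iff]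
        calc x * j = (j * x * j⁻¹) * j := by rw [h]
          _ = j * x := by group
      apply htV
      apply hH.V_inv t _ ht2
      rcases hxjuniq x hxCj hx3 with h' | h'
      · rw [← h']; exact htCx
      · rw [Subgroup.mem_centralizer_singleton_iff]
        have e : xj = x⁻¹ := by rw [h', inv_inv]
        rw [e]
        calc t * x⁻¹ = x⁻¹ * (x * t) * x⁻¹ := by group
          _ = x⁻¹ * (t * x) * x⁻¹ := by rw [hxt]
          _ = x⁻¹ * t := by group
    · exact h
  have hjxinv : j * x⁻¹ * j⁻¹ = x := by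
    have e : j * x⁻¹ * j⁻¹ = (j * x * j⁻¹)⁻¹ := by group
    rw [e, hjx, inv_inv]
  have hjCx : ∀ g ∈ Cz x, j * g * j⁻¹ ∈ Cz x := by
    intro g hg
    rw [Subgroup.mem_centralizer_singleton_iff] at hg ⊢
    have hgx' : g * x⁻¹ = x⁻¹ * g := by
      calc g * x⁻¹ = x⁻¹ * (x * g) * x⁻¹ := by group
        _ = x⁻¹ * (g * x) * x⁻¹ := by rw [hg]
        _ = x⁻¹ * g := by group
    calc j * g * j⁻¹ * x = j * g * j⁻¹ * (j * x⁻¹ * j⁻¹) := by rw [hjxinv]
      _ = j * (g * x⁻¹) * j⁻¹ := by group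
      _ = j * (x⁻¹ * g) * j⁻¹ := by rw [hgx']
      _ = (j * x⁻¹ * j⁻¹) * (j * g * j⁻¹) := by group
      _ = x * (j * g * j⁻¹) := by rw [hjxinv]
  have hjU : ∀ u ∈ U, j * u * j⁻¹ ∈ U := by
    intro u hu
    by_cases hu1 : u = 1
    · rw [hu1]; simp [U.one_mem]
    · apply hUinv _ (hjCx u (hUle hu))
      rw [a7rh5_orderOf_conj]
      exact orderOf_eq_prime (hUexp u hu) hu1
  have hUcomm : ∀ u ∈ U, ∀ v ∈ U, u * v = v * u := fun u hu v hv => a7rh5_comm_of_sq U hUexp u v hu hv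
  have hUsq : ∀ u ∈ U, u * u = 1 := fun u hu => by rw [← pow_two]; exact hUexp u hu
  have hUinv' : ∀ u ∈ U, u⁻¹ = u := fun u hu => by rw [inv_eq_iff_mul_eq_one]; exact hUsq u hu
  -- Step 2: j does not centralize U
  have hex : ∃ a ∈ U, j * a * j⁻¹ ≠ a := by
    by_contra hno
    push Not at hno
    have hUj : ∀ u ∈ U, u ∈ Cz j := by
      intro u hu
      rw [Subgroup.mem_centralizer_singleton_iff]
      have h := hno u hu
      calc u * j = (j * u * j⁻¹) * j := by rw [h]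
        _ = j * u := by group
    have ht_inv : t * xj * t⁻¹ = xj⁻¹ := by
      rcases hdich t (hUj t htU) with ⟨hc, -⟩ | h
      · exfalso; apply htV
        exact hH.V_inv t (Subgroup.mem_centralizer_singleton_iff.mpr hc) ht2
      · exact h
    obtain ⟨u, huU, hu1, hut⟩ := a7rh5_exists_notin U hU4 t (by rw [pow_two]; exact htsq)
    have hu0 : ∃ u0 ∈ U, u0 ≠ 1 ∧ u0 * xj = xj * u0 := by
      rcases hdich u (hUj u huU) with ⟨hc, -⟩ | h
      · exact ⟨u, huU, hu1, hc⟩
      · refine ⟨u * t, U.mul_mem huU htU, ?_, ?_⟩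
        · intro h1
          apply hut
          rw [← htinv]; exact eq_inv_of_mul_eq_one_left h1
        · have e : u * t * xj * (u * t)⁻¹ = xj := by
            calc u * t * xj * (u * t)⁻¹ = u * (t * xj * t⁻¹) * u⁻¹ := by group
              _ = u * xj⁻¹ * u⁻¹ := by rw [ht_inv]
              _ = (u * xj * u⁻¹)⁻¹ := by group
              _ = xj := by rw [h, inv_inv]
          calc u * t * xj = (u * t * xj * (u * t)⁻¹) * (u * t) := by group
            _ = xj * (u * t) := by rw [e]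
    obtain ⟨u0, hu0U, hu01, hu0c⟩ := hu0
    have hu02 : orderOf u0 = 2 := orderOf_eq_prime (hUexp u0 hu0U) hu01
    obtain ⟨z, -, -, hzuniq⟩ := h4.inv3 u0 hu02
    have hxu0 : x ∈ Cz u0 := by
      rw [Subgroup.mem_centralizer_singleton_iff]
      exact (Subgroup.mem_centralizer_singleton_iff.mp (hUle hu0U)).symm
    have hxju0 : xj ∈ Cz u0 := Subgroup.mem_centralizer_singleton_iff.mpr hu0c.symm
    have hxj3 : orderOf xj = 3 := hH.xjA.1
    have hxjj : xj * j = j * xj := Subgroup.mem_centralizer_singleton_iff.mp hxjCj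
    have hc1 : j * xj * j⁻¹ = xj := by
      calc j * xj * j⁻¹ = (xj * j) * j⁻¹ := by rw [hxjj]
        _ = xj := by group
    have hc2 : j * xj⁻¹ * j⁻¹ = xj⁻¹ := by
      have e : j * xj⁻¹ * j⁻¹ = (j * xj * j⁻¹)⁻¹ := by group
      rw [e, hc1]
    have hxxj : x = xj ∨ x = xj⁻¹ := by
      rcases hzuniq x hxu0 hx3 with h1 | h1 <;> rcases hzuniq xj hxju0 hxj3 with h2 | h2
      · left; rw [h1, h2]
      · right; rw [h1, h2, inv_inv]
      · right; rw [h1, h2]
      · left; rw [h1, h2]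
    apply hxinv_ne
    rcases hxxj with h | h
    · rw [← hjx, h, hc1]
    · rw [← hjx, h, hc2]
  -- Step 3: the fixed points of j on U
  obtain ⟨a, haU, hab⟩ := hex
  obtain ⟨b, hb⟩ : ∃ b : G, b = j * a * j⁻¹ := ⟨_, rfl⟩
  have hbU : b ∈ U := by rw [hb]; exact hjU a haU
  have hba : b ≠ a := by rw [hb]; exact hab
  have hjb : j * b * j⁻¹ = a := by
    rw [hb]
    calc j * (j * a * j⁻¹) * j⁻¹ = (j * j) * a * (j * j)⁻¹ := by group
      _ = a := by rw [hjsq]; group
  have hcU : a * b ∈ U := U.mul_mem haU hbU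
  have hc1 : a * b ≠ 1 := by
    intro h
    apply hba
    rw [← hUinv' a haU]
    exact eq_inv_of_mul_eq_one_right h
  have hjc : j * (a * b) * j⁻¹ = a * b := by
    calc j * (a * b) * j⁻¹ = (j * a * j⁻¹) * (j * b * j⁻¹) := by group
      _ = b * a := by rw [← hb, hjb]
      _ = a * b := hUcomm b hbU a haU
  have hfixU : ∀ u ∈ U, j * u * j⁻¹ = u → u = 1 ∨ u = a * b := by
    intro u hu hju
    have hmemC : ∀ v : G, v ∈ U ⊓ Cz j ↔ v ∈ U ∧ j * v * j⁻¹ = v := by
      intro v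
      rw [Subgroup.mem_inf, Subgroup.mem_centralizer_singleton_iff]
      constructor
      · rintro ⟨h1, h2⟩
        refine ⟨h1, ?_⟩
        calc j * v * j⁻¹ = (v * j) * j⁻¹ := by rw [h2]
          _ = v := by group
      · rintro ⟨h1, h2⟩
        refine ⟨h1, ?_⟩
        calc v * j = (j * v * j⁻¹) * j := by rw [h2]
          _ = j * v := by group
    have hle : U ⊓ Cz j ≤ U := inf_le_left
    have hdvd : Nat.card (U ⊓ Cz j : Subgroup G) ∣ 4 := by
      rw [← hU4]; exact Subgroup.card_dvd_of_le hle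
    have hne4 : Nat.card (U ⊓ Cz j : Subgroup G) ≠ 4 := by
      intro h
      have := Subgroup.eq_of_le_of_card_ge hle (by rw [h, hU4])
      have ha' : a ∈ U ⊓ Cz j := by rw [this]; exact haU
      exact hab ((hmemC a).mp ha').2
    have hcsq : (a * b) ^ 2 = 1 := hUexp _ hcU
    have hzle : Subgroup.zpowers (a * b) ≤ U ⊓ Cz j :=
      Subgroup.zpowers_le.mpr ((hmemC _).mpr ⟨hcU, hjc⟩)
    have hz2 : Nat.card (Subgroup.zpowers (a * b)) = 2 := by
      rw [Nat.card_zpowers]; exact orderOf_eq_prime hcsq hc1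
    have hge := Subgroup.card_le_of_le hzle
    rw [hz2] at hge
    have hcard2 : Nat.card (U ⊓ Cz j : Subgroup G) = 2 := by
      have hmem : Nat.card (U ⊓ Cz j : Subgroup G) ∈ Nat.divisors 4 := Nat.mem_divisors.mpr ⟨hdvd, by norm_num⟩
      have hdiv : Nat.divisors 4 = {1, 2, 4} := by decide
      rw [hdiv] at hmem
      simp only [Finset.mem_insert, Finset.mem_singleton] at hmem
      rcases hmem with h | h | h
      · omega
      · exact h
      · exact absurd h hne4
    have heq : Subgroup.zpowers (a * b) = U ⊓ Cz j :=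
      Subgroup.eq_of_le_of_card_ge hzle (by rw [hcard2, hz2])
    have humem : u ∈ Subgroup.zpowers (a * b) := by
      rw [heq]; exact (hmemC u).mpr ⟨hu, hju⟩
    exact a7rh5_mem_zpowers_inv (a * b) u hcsq humem
  -- Step 4: a Sylow 3-subgroup containing x
  have hpgx : IsPGroup 3 (Subgroup.zpowers x) :=
    IsPGroup.of_card (n := 1) (by rw [Nat.card_zpowers, hx3]; norm_num)
  obtain ⟨R0, hxR0'⟩ := hpgx.exists_le_sylow
  have hxR0 : x ∈ (R0 : Subgroup G) := hxR0' (Subgroup.mem_zpowers x)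
  have hR9 : ∀ R : Sylow 3 G, Nat.card (R : Subgroup G) = 9 := fun R => by
    have := h8_sylow_card 3 2 280 (by rw [hS.card]; norm_num) (by norm_num) R
    simpa using this
  have hRcomm : ∀ R : Sylow 3 G, ∀ a ∈ (R : Subgroup G), ∀ b ∈ (R : Subgroup G), a * b = b * a := fun R =>
    h8_comm_of_card_prime_sq 3 (R : Subgroup G) (by rw [hR9 R]; norm_num)
  have hRle : ∀ R : Sylow 3 G, x ∈ (R : Subgroup G) → (R : Subgroup G) ≤ Cz x := by
    intro R hxR r hr
    rw [Subgroup.mem_centralizer_singleton_iff]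
    exact hRcomm R r hr x hxR
  have hjx' : j⁻¹ * x * j = x⁻¹ := by
    have h := hjx
    rw [hjinv] at h ⊢
    exact h
  have hxR1 : x ∈ ((j • R0 : Sylow 3 G) : Subgroup G) := by
    rw [h8_mem_smul_sylow, hjx']
    exact (R0 : Subgroup G).inv_mem hxR0
  -- Step 5: j • R0 = u • R0 with u ∈ U
  obtain ⟨n, hnC, hn⟩ := h8_sylow_conj_in_subgroup 3 (Cz x) R0 (hRle R0 hxR0)
    ((j • R0 : Sylow 3 G) : Subgroup G) (j • R0 : Sylow 3 G).isPGroup' (hRle _ hxR1)
  have hR1eq : (j • R0 : Sylow 3 G) = n⁻¹ • R0 := by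
    have hle : ((n • (j • R0) : Sylow 3 G) : Subgroup G) ≤ (R0 : Subgroup G) := by
      intro y hy
      rw [h8_mem_smul_sylow] at hy
      have h := hn _ hy
      have e : n * (n⁻¹ * y * n) * n⁻¹ = y := by group
      rwa [e] at h
    have h := h8_sylow_eq_of_le 3 (n • (j • R0)) R0 hle
    have h' : n⁻¹ • (n • (j • R0 : Sylow 3 G)) = n⁻¹ • R0 := by rw [h]
    rw [smul_smul, inv_mul_cancel, one_smul] at h'
    exact h'
  have hUR : ∀ g ∈ U, g ∈ (R0 : Subgroup G) → g = 1 := by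
    intro g hgU hgR
    have h2 := hUexp g hgU
    have h3' := h3.expP R0 g hgR
    calc g = g ^ 3 * (g ^ 2)⁻¹ := by group
      _ = 1 := by rw [h2, h3']; simp
  obtain ⟨u, huU, r, hrR0, hnur⟩ := a7rh5_decomp (Cz x) U (R0 : Subgroup G) hUle (hRle R0 hxR0)
    (by rw [hU4, hR9 R0, hx3A.2]) (by rw [hU4, hR9 R0]; norm_num) n⁻¹ ((Cz x).inv_mem hnC)
  have hR1u : (j • R0 : Sylow 3 G) = u • R0 := by
    rw [hR1eq, hnur, mul_smul]
    congr 1
    exact Sylow.smul_eq_iff_mem_normalizer.mpr (Subgroup.le_normalizer hrR0)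
  -- Step 6: U ∩ N(R0) = 1
  have hUN : ∀ v ∈ U, v ∈ Nz (R0 : Subgroup G) → v = 1 := by
    intro v hvU hvN
    have hvC : v ∈ Cs (R0 : Subgroup G) := by
      rw [Subgroup.mem_centralizer_iff]
      intro r hr
      have hr' : r ∈ (R0 : Subgroup G) := hr
      have hrC : r ∈ Cz x := hRle R0 hxR0 hr'
      have m1 : v * r * v⁻¹ * r⁻¹ ∈ (R0 : Subgroup G) := by
        have h := (Subgroup.mem_normalizer_iff.mp hvN r).mp hr'
        exact (R0 : Subgroup G).mul_mem h ((R0 : Subgroup G).inv_mem hr')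
      have m2 : v * r * v⁻¹ * r⁻¹ ∈ U := by
        have h : r * v⁻¹ * r⁻¹ ∈ U := hUnorm r hrC v⁻¹ (U.inv_mem hvU)
        have e : v * r * v⁻¹ * r⁻¹ = v * (r * v⁻¹ * r⁻¹) := by group
        rw [e]; exact U.mul_mem hvU h
      have m3 : v * r * v⁻¹ * r⁻¹ = 1 := hUR _ m2 m1
      calc r * v = (v * r * v⁻¹ * r⁻¹)⁻¹ * (v * r) := by group
        _ = v * r := by rw [m3]; group
    rw [h3.centP R0] at hvC
    exact hUR v hvU hvC
  -- Step 7: u is fixed by j
  have hjj : j • (j • R0 : Sylow 3 G) = R0 := by rw [smul_smul, hjsq, one_smul]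
  have h8' : ((j * u * j⁻¹) * u) • R0 = R0 := by
    have e1 : j • (u • R0 : Sylow 3 G) = R0 := by rw [← hR1u]; exact hjj
    calc ((j * u * j⁻¹) * u) • R0 = (j * u * j⁻¹) • (u • R0) := by rw [mul_smul]
      _ = (j * u * j⁻¹) • (j • R0) := by rw [hR1u]
      _ = (j * u) • R0 := by rw [smul_smul]; congr 1; group
      _ = j • (u • R0) := by rw [mul_smul]
      _ = R0 := e1
  have hjuu : j * u * j⁻¹ = u := by
    have hmemN := Sylow.smul_eq_iff_mem_normalizer.mp h8'
    have h := hUN _ (U.mul_mem (hjU u huU) huU) hmemN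
    have h' := eq_inv_of_mul_eq_one_left h
    rw [h', hUinv' u huU]
  -- Step 8: conclusion
  rcases hfixU u huU hjuu with h | h
  · refine ⟨x, hxCt, hx3A, R0, hxR0, ?_⟩
    apply Sylow.smul_eq_iff_mem_normalizer.mp
    rw [hR1u, h, one_smul]
  · refine ⟨x, hxCt, hx3A, a • R0, ?_, ?_⟩
    · rw [h8_mem_smul_sylow]
      have hax := Subgroup.mem_centralizer_singleton_iff.mp (hUle haU)
      have e : a⁻¹ * x * a = x := by
        calc a⁻¹ * x * a = a⁻¹ * (x * a) := by group
          _ = a⁻¹ * (a * x) := by rw [hax]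
          _ = x := by group
      rw [e]; exact hxR0
    · apply Sylow.smul_eq_iff_mem_normalizer.mp
      have e2 : b * (a * b) = a := by
        calc b * (a * b) = b * (b * a) := by rw [hUcomm a haU b hbU]
          _ = (b * b) * a := by group
          _ = a := by rw [hUsq b hbU, one_mul]
      calc j • (a • R0) = (j * a) • R0 := by rw [mul_smul]
        _ = (b * j) • R0 := by congr 1; rw [hb]; group
        _ = b • (j • R0) := by rw [mul_smul]
        _ = b • (u • R0) := by rw [hR1u]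
        _ = (b * (a * b)) • R0 := by rw [h, ← mul_smul]
        _ = a • R0 := by rw [e2]

end Cfsg.Agent.Lib.helper8.A7R
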