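import Mathlib
import Cfsg.Agent.Lib.Lead.BCG.Defs
import Cfsg.Agent.Lib.Helper13.S5972MAXEL
import Cfsg.Agent.Lib.helper23.ONECYCLADDER
import Cfsg.Agent.Lib.helper17.ONENDPERPS
import Cfsg.Agent.Lib.helper15.S5972STDCTX
import Cfsg.Agent.Lib.Helper25.S5972OMEGAODD
import Cfsg.Agent.Lib.Helper24.S5972SPLIT
import Cfsg.Agent.Lib.Helper16.BCGA12h16
import Cfsg.Agent.Lib.Helper16.BCGA13
import Cfsg.Agent.Lib.Helper5.BCGA14
import Cfsg.Agent.Lib.Helper20.BCGA16
import Cfsg.Agent.Lib.Helper25.BCGX4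

/-!
# Project BCG (S2474), row O2 `o_ps_suf`, second copy under an own name (helper5), same statement:
`CritP q n s → InO n F (p * s)`.
-/

set_option autoImplicit false

namespace Cfsg.Agent.Lib.Lead.BCG

open Polynomial Module Matrix Cfsg.Agent.Lib.Helper13.S5955 Cfsg.Agent.Lib.helper15.S5972
  Cfsg.Agent.Lib.Helper18.ONE Cfsg.Agent.Lib.Lead.BCS

/-- an endomorphism preserving a quadratic form preserves its polar form -/
theorem bcgo2_polar_of_isom {F : Type*} [Field F] {V : Type*} [AddCommGroup V] [Module F V]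
    (Q : QuadraticForm F V) (u : Module.End F V) (hu : ∀ v, Q (u v) = Q v) (a b : V) :
    QuadraticMap.polar (⇑Q) (u a) (u b) = QuadraticMap.polar (⇑Q) a b := by
  unfold QuadraticMap.polar
  rw [← map_add, hu, hu, hu]

/-- order of an endomorphism `≠ 1` with `x ^ r = 1`, `r` prime -/
theorem bcgo2_order_prime {M : Type*} [Monoid M] (x : M) (r : ℕ) [hr : Fact r.Prime]
    (h1 : x ^ r = 1) (hx : x ≠ 1) : orderOf x = r :=
  orderOf_eq_prime h1 hx

theorem bcgo2_h5 {F : Type*} [Field F] [Fintype F] {p : ℕ} [Fact p.Prime] [CharP F p]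
    (hodd : Odd (Fintype.card F)) (n : ℕ) (hn : 3 ≤ n) (s : ℕ) [Fact s.Prime] (hsp : s ≠ p)
    (hs2 : s ≠ 2) (h : CritP (Fintype.card F) n s) : InO n F (p * s) := by
  classical
  have hpP : p.Prime := Fact.out
  have hsP : s.Prime := Fact.out
  have h2 : (2 : F) ≠ 0 := s5972omegaodd_two_ne hodd
  have hp2 : p ≠ 2 := by
    rintro rfl
    apply h2
    have := CharP.cast_eq_zero F 2
    exact_mod_cast this
  obtain ⟨hsymm, hnd, hself, -⟩ := stdO_facts (F := F) h2 n
  unfold CritP at h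
  -- the element `y` of order `s` with a small fixed space
  obtain ⟨y, hy, hy1, -⟩ := o_maxel (F := F) hp2 s hsp hs2 n
    (orderOf ((Fintype.card F : ℕ) : ZMod s)) (cOf (Fintype.card F) s) rfl rfl (by omega)
  obtain ⟨hcpos, hcdvd, hcsum⟩ := o_cyc_dim (p := p) hsp hs2 hy hy1
  have hcle : cOf (Fintype.card F) s ≤ finrank F (cycS s y) := Nat.le_of_dvd hcpos hcdvd
  obtain ⟨M, hMc, hMinv, hMnd, hMdim⟩ := o_nd_ladder (p := p) hsp hs2 hy
    (orderOf ((Fintype.card F : ℕ) : ZMod s)) (cOf (Fintype.card F) s) rfl rfl 1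
    (by rw [mul_one]; exact hcle)
  rw [mul_one] at hMdim
  obtain ⟨-, hsplit, -, -⟩ := o_split (p := p) hsp hy
  -- cut `y` down to `M`
  obtain ⟨y', hy', hy'M, hy'P⟩ := bcga12_h16 hy M hMinv hMnd
  have hc2 : 2 ≤ cOf (Fintype.card F) s := by
    unfold cOf
    have hpos : 0 < orderOf ((Fintype.card F : ℕ) : ZMod s) := by
      apply orderOf_pos_iff.mpr
      have hcop : Nat.Coprime (Fintype.card F) s := by
        obtain ⟨e, _, he⟩ := FiniteField.card F p
        rw [he]
        apply Nat.Coprime.pow_left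
        exact (Nat.coprime_primes hpP hsP).mpr (Ne.symm hsp)
      have hu : IsUnit ((Fintype.card F : ℕ) : ZMod s) := (ZMod.isUnit_iff_coprime _ _).mpr hcop
      haveI : NeZero s := ⟨hsP.ne_zero⟩
      exact hu.isOfFinOrder
    split_ifs with he
    · rcases he with ⟨k, hk⟩
      omega
    · omega
  have hy'1 : y' ≠ 1 := by
    intro hcon
    have hMne : M ≠ ⊥ := by
      intro hb
      rw [hb, finrank_bot] at hMdim
      omega
    obtain ⟨v, hvM, hv0⟩ := (Submodule.ne_bot_iff M).mp hMne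
    have h1 := hy'M v hvM
    rw [hcon, Module.End.one_apply] at h1
    have hvfix : v ∈ fixS y := by
      unfold fixS
      rw [LinearMap.mem_ker]
      simp only [map_sub, aeval_X, map_one, LinearMap.sub_apply, Module.End.one_apply]
      rw [← h1, sub_self]
    have hvcyc : v ∈ cycS s y := hMc hvM
    have : v ∈ fixS y ⊓ cycS s y := ⟨hvfix, hvcyc⟩
    rw [hsplit.1.eq_bot] at this
    exact hv0 ((Submodule.mem_bot F).mp this)
  -- the orthogonal complement of `M`
  have hSNDtop : SND (stdO n F) ⊤ := fun u _ hu => hnd u (fun v => hu v Submodule.mem_top)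
  obtain ⟨-, -, hUnd, -, hUdim⟩ := nd_perp_symm (stdO n F) hsymm ⊤ M hSNDtop le_top hMnd
  rw [finrank_top, hMdim] at hUdim
  have hVdim : finrank F (Unit ⊕ (Fin n ⊕ Fin n) → F) = 2 * n + 1 := by
    rw [Module.finrank_fintype_fun_eq_card]
    simp
    omega
  have hU3 : 3 ≤ finrank F ↥((⊤ : Submodule F (Unit ⊕ (Fin n ⊕ Fin n) → F)) ⊓
      (stdO n F).orthogonal M) := by
    omega
  obtain ⟨z, w, hzU, hwU, hz0, hzz, hzw, hww⟩ :=
    sing_pair h2 (stdO n F) hsymm _ hUnd hU3
  have hzP : z ∈ (stdO n F).orthogonal M := hzU.2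
  have hwP : w ∈ (stdO n F).orthogonal M := hwU.2
  -- the Siegel element
  have hQz : (Cfsg.Agent.Lib.Helper16.qfOdd n F) z = 0 := by
    have := hself z
    rw [hzz] at this
    rcases mul_eq_zero.mp this.symm with h' | h'
    · exact absurd h' h2
    · exact h'
  have hQw : (Cfsg.Agent.Lib.Helper16.qfOdd n F) w ≠ 0 := by
    intro h0
    apply hww
    rw [hself w]
    show 2 * (Cfsg.Agent.Lib.Helper16.qfOdd n F) w = 0
    rw [h0, mul_zero]
  have hpol : ∀ a b, QuadraticMap.polar (⇑(Cfsg.Agent.Lib.Helper16.qfOdd n F)) a b =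
      stdO n F a b := fun a b => rfl
  obtain ⟨u, huQ, hup, hu1, hucomm⟩ := siegel_elt (p := p) hp2
    (Cfsg.Agent.Lib.Helper16.qfOdd n F) (Cfsg.Agent.Lib.Helper16.OA.qfOdd_nondeg n h2) z w hz0 hQz
    (by rw [hpol]; exact hzw) hQw
  have hcomm : Commute y' u := by
    apply hucomm y'
    · intro a b
      rw [hpol, hpol]
      exact hy'.pres a b
    · exact hy'P z hzP
    · exact hy'P w hwP
  -- the product
  have hupres : ∀ a b, stdO n F (u a) (u b) = stdO n F a b := by
    intro a b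
    rw [← hpol, ← hpol]
    exact bcgo2_polar_of_isom _ u huQ a b
  have hx : OCtx (s * p) (stdO n F) (y' * u) := by
    refine ⟨hsymm, hnd, ?_, ?_⟩
    · intro a b
      rw [Module.End.mul_apply, Module.End.mul_apply, hy'.pres, hupres]
    · rw [hcomm.mul_pow, pow_mul, hy'.pow, one_pow, mul_comm s p, pow_mul, hup, one_pow, one_mul]
  obtain ⟨X, hXiso, hXlin, -⟩ := o_realize h2 n (s * p) (y' * u) hx
  have ho1 : orderOf y' = s := orderOf_eq_prime hy'.pow hy'1
  have ho2 : orderOf u = p := orderOf_eq_prime hup hu1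
  have hoX : orderOf X = p * s := by
    have h1 : orderOf X = orderOf (y' * u) := by
      rw [orderOf_eq_orderOf_iff]
      intro k
      rw [gl_same, hXlin]
    rw [h1, hcomm.orderOf_mul_eq_mul_orderOf_of_coprime, ho1, ho2, mul_comm]
    rw [ho1, ho2]
    exact (Nat.coprime_primes hsP hpP).mpr hsp
  refine ⟨X, ?_, hoX⟩
  apply omega_of_odd hodd n hn X hXiso
  rw [hoX]
  exact Odd.mul (hpP.odd_of_ne_two hp2) (hsP.odd_of_ne_two hs2)

end Cfsg.Agent.Lib.Lead.BCG
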