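import Mathlib
import Cfsg.Prelude.Def_ChevStructure
import Cfsg.Agent.Lib.helper8.BTT.Defs
import Cfsg.Agent.Lib.Helper5.BTTGRP12core
import Cfsg.Agent.Lib.helper8.BTTGEN1
import Cfsg.Agent.Lib.helper2.BTTGEN4
import Cfsg.Agent.Lib.Helper13.BTTGEN6
import Cfsg.Agent.Lib.Helper21.BTTGEN9
import Cfsg.Agent.Lib.Helper26.BTTGRP2
import Cfsg.Agent.Lib.Helper9.BTTROOT4
import Cfsg.Agent.Lib.Helper18.BTTGRP7
import Cfsg.Agent.Lib.helper23.BTTGRP10core
import Cfsg.Agent.Lib.helper23.BTTGRP11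

/-!
# BTT GRP12 `filP_eq_UJ` (verbatim), on `bttgrp12_core` and the landed rows GEN1 GEN4 GEN6 GEN9 GRP2
GRP7 GRP11 ROOT4, and helper23's GRP10 core (`bttgrp12_filP_le_U` = the statement of GRP10).
-/

set_option autoImplicit false

namespace Cfsg.Agent.Lib.helper8.BTT

open Cfsg.Lie Cfsg.Lie.ChevalleyDatum

universe u

section grp
variable {F : Type u} [Field F] (D : ChevalleyDatum)

/-- the statement of GRP10 (`filP_le_U`), from helper23's core and the landed rows. -/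
theorem bttgrp12_filP_le_U (hD : D ∈ [chevG2, chevB2, chevD4, chevF4, chevE6, chevE7, chevE8])
    [Fintype F] (p : ℕ) [Fact p.Prime] [CharP F p]
    (L : Fin D.nroots → ℝ) (hL : L ∈ levE D) (hdom : Dom D L) (q : GL D.Idx F)
    (hqG : q ∈ D.group F) (hq : FilP (lvl D L) (q : Matrix D.Idx D.Idx F)) :
    q ∈ D.posUnipotent F :=
  bttgrp10_core D hD p (lvl D L)
    (fun M M' h h' => filP_mul (lvl D L) M M' h h')
    (fun g h => filP_inv (lvl D L) g h)
    (fun g h => filP_pow_eq_one p (lvl D L) g h)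
    (fun u hu => B_par D hD L hL hdom u
      ((le_sup_left : D.posUnipotent F ≤ D.posUnipotent F ⊔ D.diagonalSubgroup F) hu))
    (fun b g hb hg => par_conj_filP (lvl D L) b g hb hg)
    q hqG hq

/-- GRP12 [M]: `G ∩ FilP ℓ_L = U_J` for dominant `L` with zero set `J` (see (END) in the header;
GRP10, GRP11, S1048, GRP2, ROOT4, GEN1, GEN2, GEN4, GEN8). -/
theorem filP_eq_UJ (hD : D ∈ [chevG2, chevB2, chevD4, chevF4, chevE6, chevE7, chevE8])
    [Fintype F] (p : ℕ) [Fact p.Prime] [CharP F p]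
    (L : Fin D.nroots → ℝ) (hL : L ∈ levE D) (hdom : Dom D L) (q : GL D.Idx F) :
    (q ∈ D.group F ∧ FilP (lvl D L) (q : Matrix D.Idx D.Idx F)) ↔
      q ∈ D.unipotentRadical F (zeroSet D L) :=
  bttgrp12_core (F := F) D hD L (fun g hg => filP_inv (lvl D L) g hg)
    (fun s hs t h0 => x_fil D hD L hL s hs t h0)
    (fun r hr hnot => dom_pos D hD L hL hdom r hr hnot)
    (fun q hqG hq => bttgrp12_filP_le_U D hD p L hL hdom q hqG hq)
    (fun l hl => levi_lev D hD L hL l hl) q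

end grp

end Cfsg.Agent.Lib.helper8.BTT
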