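import Mathlib
import Cfsg.Prelude.Def_ChevStructure
import Cfsg.Agent.Lib.helper8.BTT.Defs
import Cfsg.Agent.Lib.helper8.ChevNgen
import Cfsg.Agent.Lib.helper8.ChevBNAll
import Cfsg.Agent.Lib.helper8.ChevBaseAll
import Cfsg.Agent.Lib.helper8.ChevReflAll

/-!
# BTT GRP5 (core): every element of `N` carries the grading of a level function `L` to the grading
of a level function `L'` of the same norm.  The cited rows (GEN3 is reproved here, GEN5 `lev_inv`,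
GRP3 `H_lev`, GRP4 `n_lev`, ROOT5 `reflL_mem` / `reflL_invol` / `reflL_nsq`) enter as hypotheses.
-/

set_option autoImplicit false

namespace Cfsg.Agent.Lib.helper8.BTT

open Cfsg.Lie Cfsg.Lie.ChevalleyDatum Cfsg.Agent.Lib.helper8

universe u

section
variable {ι : Type*} [Fintype ι] [DecidableEq ι] {F : Type*} [Field F]

/-- own copy of GEN3 `lev_one` -/
theorem bttgrp5_lev_one (ℓ : ι → ℝ) : Lev ℓ ℓ (1 : Matrix ι ι F) := by
  intro i j h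
  by_cases hij : i = j
  · rw [hij]
  · exact absurd (Matrix.one_apply_ne hij) h

/-- own copy of GEN3 `lev_mul` -/
theorem bttgrp5_lev_mul (ℓ ℓ' ℓ'' : ι → ℝ) (M M' : Matrix ι ι F) (h : Lev ℓ ℓ' M)
    (h' : Lev ℓ' ℓ'' M') : Lev ℓ ℓ'' (M' * M) := by
  intro i j hne
  rw [Matrix.mul_apply] at hne
  obtain ⟨k, _, hk⟩ := Finset.exists_ne_zero_of_sum_ne_zero hne
  have h1 : M' i k ≠ 0 := left_ne_zero_of_mul hk
  have h2 : M k j ≠ 0 := right_ne_zero_of_mul hk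
  rw [h' i k h1, h k j h2]

end

section
variable {F : Type u} [Field F] (D : ChevalleyDatum)

/-- the two-sided form of the statement, for one element -/
def bttgrp5_Q (n : GL D.Idx F) : Prop :=
  ∀ L ∈ levE D,
    (∃ L' ∈ levE D, nsq L' = nsq L ∧ Lev (lvl D L) (lvl D L') (n : Matrix D.Idx D.Idx F)) ∧
    (∃ L' ∈ levE D, nsq L' = nsq L ∧ Lev (lvl D L') (lvl D L) (n : Matrix D.Idx D.Idx F))

theorem bttgrp5_Q_one : bttgrp5_Q (F := F) D 1 := by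
  intro L hL
  refine ⟨⟨L, hL, rfl, ?_⟩, ⟨L, hL, rfl, ?_⟩⟩ <;>
  · rw [Units.val_one]
    exact bttgrp5_lev_one _

theorem bttgrp5_Q_mul (x y : GL D.Idx F) (hx : bttgrp5_Q D x) (hy : bttgrp5_Q D y) :
    bttgrp5_Q D (x * y) := by
  intro L hL
  constructor
  · obtain ⟨L1, hL1, hn1, hl1⟩ := (hy L hL).1
    obtain ⟨L2, hL2, hn2, hl2⟩ := (hx L1 hL1).1
    refine ⟨L2, hL2, hn2.trans hn1, ?_⟩
    rw [Units.val_mul]
    exact bttgrp5_lev_mul _ _ _ _ _ hl1 hl2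
  · obtain ⟨L1, hL1, hn1, hl1⟩ := (hx L hL).2
    obtain ⟨L2, hL2, hn2, hl2⟩ := (hy L1 hL1).2
    refine ⟨L2, hL2, hn2.trans hn1, ?_⟩
    rw [Units.val_mul]
    exact bttgrp5_lev_mul _ _ _ _ _ hl2 hl1

theorem bttgrp5_Q_inv
    (hinv : ∀ (ℓ ℓ' : D.Idx → ℝ) (g : GL D.Idx F), Lev ℓ ℓ' (g : Matrix D.Idx D.Idx F) →
      Lev ℓ' ℓ ((g⁻¹ : GL D.Idx F) : Matrix D.Idx D.Idx F))
    (x : GL D.Idx F) (hx : bttgrp5_Q D x) : bttgrp5_Q D x⁻¹ := by
  intro L hL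
  constructor
  · obtain ⟨L1, hL1, hn1, hl1⟩ := (hx L hL).2
    exact ⟨L1, hL1, hn1, hinv _ _ _ hl1⟩
  · obtain ⟨L1, hL1, hn1, hl1⟩ := (hx L hL).1
    exact ⟨L1, hL1, hn1, hinv _ _ _ hl1⟩

/-- GRP5 core: the cited rows as hypotheses. -/
theorem bttgrp5_core (hD : D ∈ [chevG2, chevB2, chevD4, chevF4, chevE6, chevE7, chevE8])
    (hinv : ∀ (ℓ ℓ' : D.Idx → ℝ) (g : GL D.Idx F), Lev ℓ ℓ' (g : Matrix D.Idx D.Idx F) →
      Lev ℓ' ℓ ((g⁻¹ : GL D.Idx F) : Matrix D.Idx D.Idx F))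
    (hH : ∀ (ℓ : D.Idx → ℝ) (h : GL D.Idx F), h ∈ D.diagonalSubgroup F →
      Lev ℓ ℓ (h : Matrix D.Idx D.Idx F))
    (hn : ∀ i < D.rank, ∀ L : Fin D.nroots → ℝ,
      Lev (lvl D L) (lvl D (reflL D i L)) (D.nMat F (D.simple i) 1))
    (hmem : ∀ i < D.rank, ∀ L ∈ levE D, reflL D i L ∈ levE D)
    (hinvol : ∀ i < D.rank, ∀ L : Fin D.nroots → ℝ, reflL D i (reflL D i L) = L)
    (hnsq : ∀ i < D.rank, ∀ L : Fin D.nroots → ℝ, nsq (reflL D i L) = nsq L)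
    (n : GL D.Idx F) (hnN : n ∈ D.monomialSubgroup F) (L : Fin D.nroots → ℝ)
    (hL : L ∈ levE D) :
    ∃ L' ∈ levE D, nsq L' = nsq L ∧ Lev (lvl D L) (lvl D L') (n : Matrix D.Idx D.Idx F) := by
  have hB := h8base_all.{u} D hD
  have hA := h8reflAll D hD
  obtain ⟨dep, par, horb⟩ := (h8bn_all D hD).orb
  let T : Subgroup (GL D.Idx F) :=
    { carrier := {g | bttgrp5_Q D g}
      mul_mem' := fun {a b} ha hb => bttgrp5_Q_mul D a b ha hb
      one_mem' := bttgrp5_Q_one D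
      inv_mem' := fun {a} ha => bttgrp5_Q_inv D hinv a ha }
  have hNT : D.monomialSubgroup F ≤ T := by
    rw [h8N_eq (F := F) D hB hA dep par horb]
    apply sup_le
    · intro h hh L hL
      exact ⟨⟨L, hL, rfl, hH _ h hh⟩, ⟨L, hL, rfl, hH _ h hh⟩⟩
    · rw [Subgroup.closure_le]
      rintro g ⟨j, hj, rfl⟩ L hL
      refine ⟨⟨reflL D j L, hmem j hj L hL, hnsq j hj L, ?_⟩,
        ⟨reflL D j L, hmem j hj L hL, hnsq j hj L, ?_⟩⟩
      · rw [h8nU_val]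
        exact hn j hj L
      · rw [h8nU_val]
        have := hn j hj (reflL D j L)
        rwa [hinvol j hj L] at this
  exact ((hNT hnN) L hL).1

end

end Cfsg.Agent.Lib.helper8.BTT
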