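import Mathlib
import Cfsg.Prelude.Def_ChevStructure
import Cfsg.Agent.Lib.helper8.BTT.Defs
import Cfsg.Agent.Lib.Helper5.BTTGRP5core
import Cfsg.Agent.Lib.Helper25.BTTGEN5
import Cfsg.Agent.Lib.helper15.BTTGRP3
import Cfsg.Agent.Lib.Helper22.BTTGRP4
import Cfsg.Agent.Lib.helper4.BTTROOT5

/-!
# BTT GRP5 `N_lev` (verbatim), on `bttgrp5_core` and the landed rows GEN5, GRP3, GRP4, ROOT5.
-/

set_option autoImplicit false

namespace Cfsg.Agent.Lib.helper8.BTT

open Cfsg.Lie Cfsg.Lie.ChevalleyDatum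

universe u

section grp
variable {F : Type u} [Field F] (D : ChevalleyDatum)

/-- GRP5 [M]: every element of `N` carries the grading of `L` to that of some `L'` of the same norm
(`h8N_eq`, GRP3, GRP4, ROOT5, GEN3, GEN5; prove the symmetric statement by closure induction). -/
theorem N_lev (hD : D ∈ [chevG2, chevB2, chevD4, chevF4, chevE6, chevE7, chevE8])
    (n : GL D.Idx F) (hn : n ∈ D.monomialSubgroup F) (L : Fin D.nroots → ℝ)
    (hL : L ∈ levE D) :
    ∃ L' ∈ levE D, nsq L' = nsq L ∧ Lev (lvl D L) (lvl D L') (n : Matrix D.Idx D.Idx F) :=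
  bttgrp5_core D hD (fun ℓ ℓ' g h => lev_inv ℓ ℓ' g h)
    (fun ℓ h hh => H_lev D hD ℓ h hh) (fun i hi L => n_lev D hD i hi L)
    (fun i hi L hL => reflL_mem D hD i hi L hL) (fun i hi L => reflL_invol D hD i hi L)
    (fun i hi L => reflL_nsq D hD i hi L) n hn L hL

end grp

end Cfsg.Agent.Lib.helper8.BTT
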