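import Mathlib
import Cfsg.Prelude.Def_ChevStructure
import Cfsg.Agent.Lib.helper8.BTT.Defs
import Cfsg.Agent.Lib.Helper5.BTTGRP5core

/-!
# BTT GRP6 (core): every level function is `N`-conjugate to a dominant one.
Strong induction on the number of positive roots on which `L` is negative.  The cited rows
(ROOT6 `refl_count`, GRP4 `n_lev`, ROOT5 `reflL_mem` / `reflL_nsq`) enter as hypotheses;
GEN3 comes from `BTTGRP5core`.
-/

set_option autoImplicit false

namespace Cfsg.Agent.Lib.helper8.BTT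

open Cfsg.Lie Cfsg.Lie.ChevalleyDatum Cfsg.Agent.Lib.helper8

universe u

section
variable {F : Type u} [Field F] (D : ChevalleyDatum)

/-- GRP6 core: the cited rows as hypotheses. -/
theorem bttgrp6_core (hD : D ∈ [chevG2, chevB2, chevD4, chevF4, chevE6, chevE7, chevE8])
    (hcount : ∀ i < D.rank, ∀ L ∈ levE D, lv D L (D.simple i) < 0 →
      (Finset.univ.filter fun r : Fin D.nroots => D.IsPosRoot r ∧ reflL D i L r < 0).card <
        (Finset.univ.filter fun r : Fin D.nroots => D.IsPosRoot r ∧ L r < 0).card)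
    (hn : ∀ i < D.rank, ∀ L : Fin D.nroots → ℝ,
      Lev (lvl D L) (lvl D (reflL D i L)) (D.nMat F (D.simple i) 1))
    (hmem : ∀ i < D.rank, ∀ L ∈ levE D, reflL D i L ∈ levE D)
    (hnsq : ∀ i < D.rank, ∀ L : Fin D.nroots → ℝ, nsq (reflL D i L) = nsq L)
    (L : Fin D.nroots → ℝ) (hL : L ∈ levE D) :
    ∃ n ∈ D.monomialSubgroup F, ∃ L' ∈ levE D, Dom D L' ∧ nsq L' = nsq L ∧
      Lev (lvl D L) (lvl D L') (n : Matrix D.Idx D.Idx F) := by
  have hB := h8base_all.{u} D hD
  have hBN := h8bn_all D hD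
  have key : ∀ c : ℕ, ∀ L : Fin D.nroots → ℝ, L ∈ levE D →
      (Finset.univ.filter fun r : Fin D.nroots => D.IsPosRoot r ∧ L r < 0).card = c →
      ∃ n ∈ D.monomialSubgroup F, ∃ L' ∈ levE D, Dom D L' ∧ nsq L' = nsq L ∧
        Lev (lvl D L) (lvl D L') (n : Matrix D.Idx D.Idx F) := by
    intro c
    induction c using Nat.strong_induction_on with
    | _ c ih =>
      intro L hL hc
      by_cases hdom : Dom D L
      · refine ⟨1, Subgroup.one_mem _, L, hL, hdom, rfl, ?_⟩
        rw [Units.val_one]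
        exact bttgrp5_lev_one _
      · unfold Dom at hdom
        push Not at hdom
        obtain ⟨i, hi, hneg⟩ := hdom
        have hlt := hcount i hi L hL hneg
        rw [hc] at hlt
        obtain ⟨n1, hn1, L', hL', hdom', hnsq', hlev'⟩ :=
          ih _ hlt (reflL D i L) (hmem i hi L hL) rfl
        refine ⟨n1 * h8nU D hB (D.simple i) (1 : F), ?_, L', hL', hdom',
          hnsq'.trans (hnsq i hi L), ?_⟩
        · exact Subgroup.mul_mem _ hn1 (h8nU_mem_N D hB _ (h8simple_pos D hBN i hi).1)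
        · rw [Units.val_mul, h8nU_val]
          exact bttgrp5_lev_mul _ _ _ _ _ (hn i hi L) hlev'
  exact key _ L hL rfl

end

end Cfsg.Agent.Lib.helper8.BTT
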