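import Mathlib
import Cfsg.Prelude.Def_ChevStructure
import Cfsg.Agent.Lib.helper8.BTT.Defs
import Cfsg.Agent.Lib.Helper5.BTTGRP6core
import Cfsg.Agent.Lib.Helper22.BTTGRP4
import Cfsg.Agent.Lib.helper4.BTTROOT5

/-!
# BTT GRP6 `exists_dom` (verbatim), on `bttgrp6_core` and the landed rows GRP4, ROOT5, ROOT6.
-/

set_option autoImplicit false

namespace Cfsg.Agent.Lib.helper8.BTT

open Cfsg.Lie Cfsg.Lie.ChevalleyDatum

universe u

section grp
variable {F : Type u} [Field F] (D : ChevalleyDatum)

/-- GRP6 [M]: every level function is `N`-conjugate to a dominant one (strong induction on the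
number of positive roots on which `L` is negative; ROOT6, GRP4, ROOT5, GEN3). -/
theorem exists_dom (hD : D ∈ [chevG2, chevB2, chevD4, chevF4, chevE6, chevE7, chevE8])
    (L : Fin D.nroots → ℝ) (hL : L ∈ levE D) :
    ∃ n ∈ D.monomialSubgroup F, ∃ L' ∈ levE D, Dom D L' ∧ nsq L' = nsq L ∧
      Lev (lvl D L) (lvl D L') (n : Matrix D.Idx D.Idx F) :=
  bttgrp6_core (F := F) D hD
    (fun i hi L hL hneg => refl_count D hD i hi L hL hneg)
    (fun i hi L => n_lev D hD i hi L)
    (fun i hi L hL => reflL_mem D hD i hi L hL)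
    (fun i hi L => reflL_nsq D hD i hi L) L hL

end grp

end Cfsg.Agent.Lib.helper8.BTT
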