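import Mathlib
import Cfsg.Agent.Lib.Helper10.C3Q.Defs

set_option autoImplicit false
set_option linter.unusedVariables false
set_option linter.unusedSectionVars false

/-!
# C3Q row KGEN (`k_gen`), second writing by helper5: `c3qkgen_h5` (same statement).
-/

namespace Cfsg.Agent.Lib.Helper10.C3Q

open Matrix Module

universe u

variable {F : Type u} [Field F] {ι : Type} [Fintype ι] [DecidableEq ι]

theorem c3qkgen_h5 (h2 : (2 : F) ≠ 0) (K : Subalgebra F (Matrix ι ι F))
    (hK : Cfsg.Geo.IsFieldSubalgebra 2 K) :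
    ∃ (δ : F) (A : Matrix ι ι F), A ∈ K ∧ ¬ IsSquare δ ∧ A * A = δ • (1 : Matrix ι ι F) ∧
      ∀ M : Matrix ι ι F, M ∈ K ↔ ∃ α β : F, M = α • (1 : Matrix ι ι F) + β • A := by
  classical
  have hfr : finrank F K = 2 := hK.finrank_eq
  have hfd : FiniteDimensional F K := FiniteDimensional.of_finrank_pos (by rw [hfr]; norm_num)
  -- a non-scalar element
  obtain ⟨m, hm⟩ : ∃ m : K, m ∉ Submodule.span F {(1 : K)} := by
    by_contra hcon
    push Not at hcon
    have htop : Submodule.span F {(1 : K)} = ⊤ := by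
      rw [eq_top_iff]
      intro x _
      exact hcon x
    have h1 : finrank F (Submodule.span F {(1 : K)}) ≤ 1 := by
      by_cases h10 : (1 : K) = 0
      · rw [h10, Submodule.span_zero_singleton, finrank_bot]
        omega
      · rw [finrank_span_singleton h10]
    rw [htop, finrank_top, hfr] at h1
    omega
  have hone : (1 : K) ≠ 0 := by
    intro h0
    apply hm
    have : m = 0 := by rw [← mul_one m, h0, mul_zero]
    rw [this]
    exact Submodule.zero_mem _
  have hli : LinearIndependent F ![(1 : K), m] := by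
    rw [LinearIndependent.pair_iff]
    intro s t hst
    have ht : t = 0 := by
      by_contra ht
      apply hm
      have h3 : m = (-(s / t)) • (1 : K) := by
        have h4 : t • m = -(s • (1 : K)) := by
          rw [eq_neg_iff_add_eq_zero, add_comm]
          exact hst
        have h5 : m = t⁻¹ • (t • m) := by rw [smul_smul, inv_mul_cancel₀ ht, one_smul]
        rw [h5, h4, smul_neg, smul_smul, neg_smul, div_eq_inv_mul]
      rw [h3]
      exact Submodule.smul_mem _ _ (Submodule.mem_span_singleton_self _)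
    refine ⟨?_, ht⟩
    rw [ht, zero_smul, add_zero] at hst
    rcases smul_eq_zero.1 hst with h | h
    · exact h
    · exact absurd h hone
  have hspan : Submodule.span F (Set.range ![(1 : K), m]) = ⊤ :=
    hli.span_eq_top_of_card_eq_finrank' (by rw [hfr]; rfl)
  have hrep : ∀ x : K, ∃ s t : F, x = s • (1 : K) + t • m := by
    intro x
    have hx : x ∈ Submodule.span F (Set.range ![(1 : K), m]) := by rw [hspan]; trivial
    obtain ⟨c, hc⟩ := (Submodule.mem_span_range_iff_exists_fun F).1 hx
    refine ⟨c 0, c 1, ?_⟩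
    rw [← hc, Fin.sum_univ_two]
    rfl
  -- the matrix of `m`
  obtain ⟨M0, hM0⟩ : ∃ M0 : Matrix ι ι F, M0 = (m : Matrix ι ι F) := ⟨_, rfl⟩
  have hM0K : M0 ∈ K := by rw [hM0]; exact m.2
  have hrepM : ∀ M : Matrix ι ι F, M ∈ K → ∃ s t : F, M = s • (1 : Matrix ι ι F) + t • M0 := by
    intro M hM
    obtain ⟨s, t, hst⟩ := hrep ⟨M, hM⟩
    refine ⟨s, t, ?_⟩
    have := congrArg (fun x : K => (x : Matrix ι ι F)) hst
    simpa [hM0] using this
  have hnotscal : ∀ c : F, M0 ≠ c • (1 : Matrix ι ι F) := by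
    intro c hc
    apply hm
    have : m = c • (1 : K) := by
      apply Subtype.ext
      rw [← hM0, hc]
      rfl
    rw [this]
    exact Submodule.smul_mem _ _ (Submodule.mem_span_singleton_self _)
  obtain ⟨b, a, hsq⟩ := hrepM (M0 * M0) (K.mul_mem hM0K hM0K)
  obtain ⟨s, hs⟩ : ∃ s : F, a = 2 * s := ⟨a / 2, by field_simp⟩
  rw [hs] at hsq
  have hscalK : ∀ c : F, c • (1 : Matrix ι ι F) ∈ K := fun c => K.smul_mem K.one_mem c
  -- no zero divisors in `K`
  have hnzd : ∀ X Y : Matrix ι ι F, X ∈ K → Y ∈ K → X * Y = 0 → X = 0 ∨ Y = 0 := by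
    intro X Y hX hY hXY
    by_cases hX0 : X = 0
    · exact Or.inl hX0
    · right
      obtain ⟨X', hX', hXX'⟩ := hK.inv X hX hX0
      have h6 : X' * X = 1 := by rw [← hK.comm X hX X' hX']; exact hXX'
      calc Y = (X' * X) * Y := by rw [h6, Matrix.one_mul]
        _ = X' * (X * Y) := by rw [Matrix.mul_assoc]
        _ = 0 := by rw [hXY, Matrix.mul_zero]
  obtain ⟨A, hAdef⟩ : ∃ A : Matrix ι ι F, A = M0 - s • (1 : Matrix ι ι F) := ⟨_, rfl⟩
  have hAK : A ∈ K := by rw [hAdef]; exact K.sub_mem hM0K (hscalK _)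
  have hAA : A * A = (s ^ 2 + b) • (1 : Matrix ι ι F) := by
    rw [hAdef, Matrix.sub_mul, Matrix.mul_sub, Matrix.mul_sub, hsq]
    simp only [Matrix.smul_mul, Matrix.mul_smul, Matrix.one_mul, Matrix.mul_one, smul_smul]
    module
  refine ⟨s ^ 2 + b, A, hAK, ?_, hAA, ?_⟩
  · rintro ⟨c, hc⟩
    have h7 : (A - c • (1 : Matrix ι ι F)) * (A + c • (1 : Matrix ι ι F)) = 0 := by
      rw [Matrix.sub_mul, Matrix.mul_add, Matrix.mul_add, hAA, hc]
      simp only [Matrix.smul_mul, Matrix.mul_smul, Matrix.one_mul, Matrix.mul_one, smul_smul]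
      module
    rcases hnzd _ _ (K.sub_mem hAK (hscalK _)) (K.add_mem hAK (hscalK _)) h7 with h | h
    · apply hnotscal (s + c)
      rw [hAdef] at h
      rw [add_smul]
      rw [sub_sub, sub_eq_zero] at h
      exact h
    · apply hnotscal (s - c)
      rw [hAdef] at h
      rw [sub_smul]
      have : M0 = s • (1 : Matrix ι ι F) - c • (1 : Matrix ι ι F) := by
        rw [← sub_eq_zero, ← h]
        abel
      exact this
  · intro M
    constructor
    · intro hM
      obtain ⟨u, t, hst⟩ := hrepM M hM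
      refine ⟨u + t * s, t, ?_⟩
      rw [hst, hAdef]
      module
    · rintro ⟨α, β, rfl⟩
      exact K.add_mem (hscalK _) (K.smul_mem hAK β)

end Cfsg.Agent.Lib.Helper10.C3Q
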