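import Mathlib
import Cfsg.Agent.Lib.Helper10.C3Q.Defs
import Cfsg.Agent.Lib.helper14.C3QNPVEC
import Cfsg.Agent.Lib.helper7.C3QNPEXh7
import Cfsg.Agent.Lib.helper23.C3QNCOMM
import Cfsg.Agent.Lib.Helper5.C3QNPcore

set_option autoImplicit false
set_option linter.unusedVariables false
set_option linter.unusedSectionVars false

/-!
# C3Q row NP (`n_p`), verbatim (helper5): `c3qnp_core` + NPVEC (`n_p_vec`) + NPEX (helper7 `c3qnpex_h7`) + NCOMM / NRANK (helper23).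
-/

namespace Cfsg.Agent.Lib.Helper10.C3Q

open Matrix Module Cfsg.Agent.Lib.Helper13.OTS Cfsg.Agent.Lib.Helper16

universe u

variable {F : Type u} [Field F] {ι : Type} [Fintype ι] [DecidableEq ι]

theorem c3qnp_two_ne {p : ℕ} [Fact p.Prime] [CharP F p] (hp2 : p ≠ 2) : (2 : F) ≠ 0 := by
  intro h0
  have h1 : ((2 : ℕ) : F) = 0 := by exact_mod_cast h0
  have h2' := (CharP.cast_eq_zero_iff F p 2).mp h1
  exact hp2 ((Nat.prime_dvd_prime_iff_eq (Fact.out : p.Prime) Nat.prime_two).mp h2')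

/-- NP [M]: NPVEC, NPEX: `x`; `x^p = 1 • 1`; `x` is not scalar (`x = z • 1`, `z^p = 1` ⟹ `z = 1` in characteristic `p` ⟹ `x = 1`, rank `0`).  `AllConjA`: `g`, `y = g⁻¹ x g`, NCOMM: `y A = A y`, so
`(y-1)² A = A (y-1)²`, NRANK: even rank; but `(y-1)² = g⁻¹ (x-1)² g` has rank `1` (`Matrix.rank_mul_eq_left_of_isUnit_det`, `rank_mul_eq_right_of_isUnit_det`). -/
theorem n_p [Fintype F] {p : ℕ} [Fact p.Prime] [CharP F p] (hp2 : p ≠ 2) (Qs : QuadraticForm F (ι → F))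
    (d : ℕ) (τ : ℤ) (hs : QStd Qs d τ) (hd : 3 ≤ d) (δ : F) (A : Matrix ι ι F)
    (hA : Gen (⇑Qs) δ A) : ¬ AllConjA (⇑Qs) A p := by
  have h2 : (2 : F) ≠ 0 := c3qnp_two_ne hp2
  obtain ⟨z, w, hz0, hz, hzw, hw⟩ := n_p_vec Qs d τ hs (by omega)
  have hn : 5 ≤ Fintype.card ι := by rw [hs.card]; omega
  exact c3qnp_core hp2 (⇑Qs) A (by omega) (c3qnpex_h7 hp2 Qs hs.nd hn z w hz0 hz hzw hw)
    (fun y hy r hr z hz => n_comm h2 A y hy r hr z hz)
    (fun M hM => n_rank δ hA.ns A hA.sq M hM)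

end Cfsg.Agent.Lib.Helper10.C3Q
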