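import Mathlib
import Cfsg.Agent.Lib.Helper10.C6P.Defs
import Cfsg.Agent.Lib.Helper5.C6PG0
import Cfsg.Agent.Lib.Helper10.C6PNTF
import Cfsg.Agent.Lib.helper6.C6PNFIX
import Cfsg.Agent.Lib.helper6.C6PNCEN
import Cfsg.Agent.Lib.Helper29.C6PNSCAL
import Cfsg.Agent.Lib.Helper27.C6PEROOT

set_option autoImplicit false
set_option linter.unusedVariables false
set_option linter.unusedSectionVars false
set_option linter.unnecessarySeqFocus false

/-!
# Project C6P (S6000), row G5A (helper5): `p ≡ ±1 (mod 5)`: `x = [[0,-1],[1,τ]] ⊕ 1₂` is not conjugate into `N(R)` (trace formula).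
-/

namespace Cfsg.Agent.Lib.Helper10.C6P

open Polynomial Matrix

variable {F : Type*} [Field F]

/-- the element of order 5 -/
def c6pg5a_X (τ : F) : M4 F := !![0, -1, 0, 0; 1, τ, 0, 0; 0, 0, 1, 0; 0, 0, 0, 1]
/-- its square -/
def c6pg5a_X2 (τ : F) : M4 F := !![-1, -τ, 0, 0; τ, -τ, 0, 0; 0, 0, 1, 0; 0, 0, 0, 1]
/-- its inverse (= its fourth power) -/
def c6pg5a_Xi (τ : F) : M4 F := !![τ, 1, 0, 0; -1, 0, 0, 0; 0, 0, 1, 0; 0, 0, 0, 1]

theorem c6pg5a_det (τ : F) : (c6pg5a_X τ).det = 1 := by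
  unfold c6pg5a_X
  rw [Matrix.det_succ_row_zero]
  simp [Fin.sum_univ_succ, Matrix.det_fin_three, Fin.succAbove]

theorem c6pg5a_mul_inv (τ : F) : c6pg5a_X τ * c6pg5a_Xi τ = 1 := by
  unfold c6pg5a_X c6pg5a_Xi
  ext a b
  fin_cases a <;> fin_cases b <;> simp [Matrix.mul_apply, Fin.sum_univ_four]

theorem c6pg5a_inv_mul (τ : F) : c6pg5a_Xi τ * c6pg5a_X τ = 1 := by
  unfold c6pg5a_X c6pg5a_Xi
  ext a b
  fin_cases a <;> fin_cases b <;> simp [Matrix.mul_apply, Fin.sum_univ_four]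

theorem c6pg5a_sq (τ : F) (hτ : τ ^ 2 + τ = 1) : c6pg5a_X τ * c6pg5a_X τ = c6pg5a_X2 τ := by
  unfold c6pg5a_X c6pg5a_X2
  ext a b
  fin_cases a <;> fin_cases b <;> simp [Matrix.mul_apply, Fin.sum_univ_four] <;> linear_combination hτ

theorem c6pg5a_four (τ : F) (hτ : τ ^ 2 + τ = 1) : c6pg5a_X2 τ * c6pg5a_X2 τ = c6pg5a_Xi τ := by
  unfold c6pg5a_X2 c6pg5a_Xi
  ext a b
  fin_cases a <;> fin_cases b <;> simp [Matrix.mul_apply, Fin.sum_univ_four] <;>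
    first | linear_combination hτ | linear_combination (-1 : F) * hτ

theorem c6pg5a_pow (τ : F) (hτ : τ ^ 2 + τ = 1) : c6pg5a_X τ ^ 5 = 1 := by
  have e : c6pg5a_X τ ^ 5 = (c6pg5a_X τ * c6pg5a_X τ) * (c6pg5a_X τ * c6pg5a_X τ) * c6pg5a_X τ := by
    rw [pow_succ, pow_succ, pow_succ, pow_succ, pow_one]
    simp only [Matrix.mul_assoc]
  rw [e, c6pg5a_sq τ hτ, c6pg5a_four τ hτ, c6pg5a_inv_mul]

theorem c6pg5a_trace (τ : F) : Matrix.trace (c6pg5a_X τ) = τ + 2 := by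
  unfold c6pg5a_X
  simp [Matrix.trace, Fin.sum_univ_four]
  ring

theorem c6pg5a_trace_inv (τ : F) : Matrix.trace (c6pg5a_Xi τ) = τ + 2 := by
  unfold c6pg5a_Xi
  simp [Matrix.trace, Fin.sum_univ_four]
  ring

section fin

variable [Fintype F] {p : ℕ} [Fact p.Prime] [CharP F p]

/-- G5A [M] : `p ≡ ±1 (mod 5)`: `x = !![0,-1,0,0; 1,τ,0,0; 0,0,1,0; 0,0,0,1]`, `det x = 1`, `x^5 = 1`, `tr x = tr x⁻¹ = τ + 2`; `y = g⁻¹ x g`: NFIX + NCEN: `2^k ≡ 4 (mod 5)`, `k ∈ {2, 6}`, `k = 6` is NCTOP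
(`x` is not scalar); NTF: `4 (τ+2)² = 4`, so `(τ + 2)² = 1`; with `τ² + τ = 1`: `3τ = -4`, `5 = 0` in `F`: `p = 5`, contradiction. -/
theorem nec_five_a (hF : Fintype.card F = p) (hp4 : p % 4 = 1) (hp5 : p % 5 = 1 ∨ p % 5 = 4) {i : F} {R : Subgroup (GL (Fin 4) F)}
    (hctx : RCtx i R) : ¬ AllFix R 5 := by
  have hpp : p.Prime := Fact.out
  haveI : Fact (Nat.Prime 5) := ⟨by norm_num⟩
  obtain ⟨τ, hτ⟩ := exists_tau hF hp4 hp5
  set x : GL (Fin 4) F := ⟨c6pg5a_X τ, c6pg5a_Xi τ, c6pg5a_mul_inv τ, c6pg5a_inv_mul τ⟩ with hx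
  have hxval : (x : M4 F) = c6pg5a_X τ := rfl
  have hxinv : ((x⁻¹ : GL (Fin 4) F) : M4 F) = c6pg5a_Xi τ := rfl
  have hxSL : x ∈ Cfsg.Geo.specialLinear (Fin 4) F := by
    apply c6pg_mem_of_det
    rw [hxval]
    exact c6pg5a_det τ
  have hx5 : x ^ 5 = 1 := by
    apply Units.ext
    rw [Units.val_pow_eq_pow_val, hxval, Units.val_one]
    exact c6pg5a_pow τ hτ
  have hns : ∀ c : F, (x : M4 F) ≠ c • (1 : M4 F) := by
    intro c hc
    have h1 := congrFun (congrFun hc 0) 1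
    rw [hxval] at h1
    simp [c6pg5a_X] at h1
  apply c6pg_not_allfix R 5 x hxSL hx5 hns
  intro y hyN hyr hyns htr htri _
  have htf := trace_formula hctx y hyN 5 (by decide) hyr
  have hfc := fix_count hctx y hyN 5 ⟨1, by rw [hyr, one_smul]; rfl⟩
  obtain ⟨k, hk2, hk6, hk⟩ := cent_card hctx y
  rw [htr, htri, hxval, hxinv, c6pg5a_trace, c6pg5a_trace_inv, hk] at htf
  rw [hk] at hfc
  have hk26 : k = 2 ∨ k = 6 := by
    interval_cases k <;> simp [Nat.ModEq] at hfc <;> simp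
  rcases hk26 with rfl | rfl
  · have h20 : ((20 : ℕ) : F) = 0 := by
      have e : (4 : F) * (τ + 2) * (τ + 2) = 4 := by
        rw [htf]; norm_num
      push_cast
      linear_combination (3 * τ - 1) * e - (12 * τ + 32) * hτ
    have hdvd : p ∣ 20 := (CharP.cast_eq_zero_iff F p 20).mp h20
    have hle : p ≤ 20 := Nat.le_of_dvd (by norm_num) hdvd
    have h2 := hpp.two_le
    interval_cases p <;> omega
  · obtain ⟨c, hc⟩ := cent_top hctx y (by rw [hk]; norm_num)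
    exact hyns c hc

end fin

end Cfsg.Agent.Lib.Helper10.C6P
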