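import Mathlib
import Cfsg.Agent.Lib.helper3.C6U.Defs
import Cfsg.Agent.Lib.Lead.Unitary

set_option autoImplicit false
set_option linter.unusedVariables false
set_option linter.unusedSectionVars false

/-!
# C6U row E5 (`nf_five`), second writing by helper5: `c6ue5_h5` (same statement).
-/

namespace Cfsg.Agent.Lib.helper3.C6U

open Polynomial Matrix
open Cfsg.Agent.Lib.Helper10.C6P
open scoped MatrixGroups

variable {F : Type*} [Field F]

section poly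

variable {A : Type*} [Ring A] [Algebra F A]

/-- the component of `1` on `ker (x² - t x + 1)` (`x⁵ = 1`, `t² + t = 1`) -/
noncomputable def c6ue5h5_E (x : A) (t : F) : A :=
  (5⁻¹ : F) • ((2 : F) • (1 : A) + t • (x + x ^ 4) + (-1 - t) • (x ^ 2 + x ^ 3))

/-- the component of `1` on `ker (x - 1)` -/
noncomputable def c6ue5h5_E0 (x : A) : A := (5⁻¹ : F) • ((1 : A) + x + x ^ 2 + x ^ 3 + x ^ 4)

theorem c6ue5h5_kill (x : A) (hx : x ^ 5 = 1) (t : F) (ht : t ^ 2 + t = 1) :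
    (x ^ 2 - t • x + 1) * c6ue5h5_E x t = 0 := by
  have key : ((X : F[X]) ^ 2 - C t * X + 1) *
      (C (5⁻¹ : F) * (C 2 + C t * (X + X ^ 4) + C (-1 - t) * (X ^ 2 + X ^ 3)))
      = (C (5⁻¹ : F) * (C (-1 - t - t ^ 2) + C t * X)) * (X ^ 5 - 1) := by
    have h : (C t : F[X]) ^ 2 + C t = 1 := by rw [← C_pow, ← C_add, ht, C_1]
    have h2 : (C (2 : F) : F[X]) = 2 := rfl
    simp only [C_sub, C_neg, C_1, C_pow, h2]
    linear_combination (-(C (5⁻¹ : F)) * (1 + X ^ 2 - X ^ 3 - X ^ 4)) * h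
  have h1 := congrArg (aeval x) key
  simp only [map_mul, map_sub, map_add, map_pow, aeval_X, aeval_C, map_one, hx, sub_self,
    mul_zero] at h1
  rw [c6ue5h5_E]
  simpa [Algebra.smul_def] using h1

theorem c6ue5h5_kill0 (x : A) (hx : x ^ 5 = 1) : (x - 1) * c6ue5h5_E0 (F := F) x = 0 := by
  rw [c6ue5h5_E0, mul_smul_comm]
  have : (x - 1) * (1 + x + x ^ 2 + x ^ 3 + x ^ 4) = x ^ 5 - 1 := by noncomm_ring
  rw [this, hx, sub_self, smul_zero]

theorem c6ue5h5_sum (x : A) (t : F) (h5 : (5 : F) ≠ 0) :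
    c6ue5h5_E0 (F := F) x + c6ue5h5_E x t + c6ue5h5_E x (-1 - t) = 1 := by
  simp only [c6ue5h5_E, c6ue5h5_E0]
  match_scalars <;> field_simp <;> ring

end poly

section herm

variable {p : ℕ}

/-- the hermitian form `Σ x_l y_l ^ p` (= `Cfsg.hermForm 4 F p`) -/
def c6ue5h5_h (p : ℕ) (x y : Fin 4 → F) : F := ∑ l, x l * (y l) ^ p

theorem c6ue5h5_h_add_left (x x' y : Fin 4 → F) :
    c6ue5h5_h p (x + x') y = c6ue5h5_h p x y + c6ue5h5_h p x' y := by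
  simp only [c6ue5h5_h, Pi.add_apply, add_mul, Finset.sum_add_distrib]

theorem c6ue5h5_h_smul_left (c : F) (x y : Fin 4 → F) :
    c6ue5h5_h p (c • x) y = c * c6ue5h5_h p x y := by
  simp only [c6ue5h5_h, Pi.smul_apply, smul_eq_mul, mul_assoc, Finset.mul_sum]

theorem c6ue5h5_h_neg_left (x y : Fin 4 → F) :
    c6ue5h5_h p (-x) y = - c6ue5h5_h p x y := by
  simp only [c6ue5h5_h, Pi.neg_apply, neg_mul, Finset.sum_neg_distrib]

theorem c6ue5h5_h_sub_left (x x' y : Fin 4 → F) :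
    c6ue5h5_h p (x - x') y = c6ue5h5_h p x y - c6ue5h5_h p x' y := by
  rw [sub_eq_add_neg, c6ue5h5_h_add_left, c6ue5h5_h_neg_left, ← sub_eq_add_neg]

theorem c6ue5h5_h_smul_right (c : F) (x y : Fin 4 → F) :
    c6ue5h5_h p x (c • y) = c ^ p * c6ue5h5_h p x y := by
  simp only [c6ue5h5_h, Pi.smul_apply, smul_eq_mul, mul_pow, Finset.mul_sum]
  exact Finset.sum_congr rfl (fun i _ => by ring)

theorem c6ue5h5_h_single (hp : p ≠ 0) (x : Fin 4 → F) (l : Fin 4) :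
    c6ue5h5_h p x (Pi.single l 1) = x l := by
  classical
  unfold c6ue5h5_h
  rw [Finset.sum_eq_single l]
  · rw [Pi.single_eq_same, one_pow, mul_one]
  · intro i _ hil
    rw [Pi.single_eq_of_ne hil, zero_pow hp, mul_zero]
  · intro hh
    exact absurd (Finset.mem_univ l) hh

variable [Fact p.Prime] [CharP F p]

theorem c6ue5h5_h_add_right (x y y' : Fin 4 → F) :
    c6ue5h5_h p x (y + y') = c6ue5h5_h p x y + c6ue5h5_h p x y' := by
  simp only [c6ue5h5_h, Pi.add_apply, add_pow_char, mul_add, Finset.sum_add_distrib]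

theorem c6ue5h5_h_neg_right (x y : Fin 4 → F) :
    c6ue5h5_h p x (-y) = - c6ue5h5_h p x y := by
  have hp : p ≠ 0 := (Fact.out : p.Prime).ne_zero
  have h := c6ue5h5_h_add_right (p := p) x y (-y)
  rw [add_neg_cancel] at h
  have h0 : c6ue5h5_h p x 0 = 0 := by simp [c6ue5h5_h, zero_pow hp]
  rw [h0] at h
  linear_combination -h

theorem c6ue5h5_h_sub_right (x y y' : Fin 4 → F) :
    c6ue5h5_h p x (y - y') = c6ue5h5_h p x y - c6ue5h5_h p x y' := by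
  rw [sub_eq_add_neg, c6ue5h5_h_add_right, c6ue5h5_h_neg_right, ← sub_eq_add_neg]

theorem c6ue5h5_h_inv (u : M4 F) (hU : IsU p u) (x y : Fin 4 → F) :
    c6ue5h5_h p (u *ᵥ x) (u *ᵥ y) = c6ue5h5_h p x y := by
  have h1 := (Cfsg.Agent.Lib.Lead.preserves_iff (n := 4) (q := p) (frobenius F p)
    (fun a => frobenius_def p a) u).2
  have h2 : uᵀ * u.map (frobenius F p) = 1 := hU
  exact h1 h2 x y

variable [Fintype F]

theorem c6ue5h5_h_conj (hF : Fintype.card F = p ^ 2) (x y : Fin 4 → F) :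
    c6ue5h5_h p y x = (c6ue5h5_h p x y) ^ p := by
  unfold c6ue5h5_h
  rw [sum_pow_char]
  apply Finset.sum_congr rfl
  intro i _
  have h1 : (y i) ^ p ^ 2 = y i := by
    rw [← hF]
    exact FiniteField.pow_card (y i)
  rw [mul_pow, ← pow_mul, ← sq, h1, mul_comm]

end herm

section ker

/-- `x ∈ ker (u² - t u + 1)` -/
def c6ue5h5_K (u : M4 F) (t : F) (x : Fin 4 → F) : Prop := u *ᵥ (u *ᵥ x) = t • (u *ᵥ x) - x

theorem c6ue5h5_K_mulVec {u : M4 F} {t : F} {x : Fin 4 → F} (hx : c6ue5h5_K u t x) :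
    c6ue5h5_K u t (u *ᵥ x) := by
  unfold c6ue5h5_K at hx ⊢
  rw [hx, Matrix.mulVec_sub, Matrix.mulVec_smul, hx]

theorem c6ue5h5_K_smul {u : M4 F} {t : F} {x : Fin 4 → F} (c : F) (hx : c6ue5h5_K u t x) :
    c6ue5h5_K u t (c • x) := by
  unfold c6ue5h5_K at hx ⊢
  rw [Matrix.mulVec_smul, Matrix.mulVec_smul, hx]
  module

theorem c6ue5h5_K_add {u : M4 F} {t : F} {x y : Fin 4 → F} (hx : c6ue5h5_K u t x)
    (hy : c6ue5h5_K u t y) : c6ue5h5_K u t (x + y) := by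
  unfold c6ue5h5_K at hx hy ⊢
  rw [Matrix.mulVec_add, Matrix.mulVec_add, hx, hy]
  module

theorem c6ue5h5_K_neg {u : M4 F} {t : F} {x : Fin 4 → F} (hx : c6ue5h5_K u t x) :
    c6ue5h5_K u t (-x) := by
  have := c6ue5h5_K_smul (-1 : F) hx
  simpa using this

/-- `y = u (t y - u y)` for `y ∈ K` -/
theorem c6ue5h5_K_back {u : M4 F} {t : F} {y : Fin 4 → F} (hy : c6ue5h5_K u t y) :
    u *ᵥ (t • y - u *ᵥ y) = y := by
  unfold c6ue5h5_K at hy
  rw [Matrix.mulVec_sub, Matrix.mulVec_smul, hy]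
  module

theorem c6ue5h5_K_of_mul {u E : M4 F} {t : F} (hE : (u ^ 2 - t • u + 1) * E = 0) (w : Fin 4 → F) :
    c6ue5h5_K u t (E *ᵥ w) := by
  unfold c6ue5h5_K
  have h1 := congrArg (fun M : M4 F => M *ᵥ w) hE
  simp only [Matrix.zero_mulVec, ← Matrix.mulVec_mulVec, Matrix.add_mulVec, Matrix.sub_mulVec,
    Matrix.one_mulVec, Matrix.smul_mulVec, pow_two] at h1
  linear_combination (exp := 1) h1

end ker

section ti

variable {p : ℕ} [Fact p.Prime] [CharP F p]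

/-- `ker (u² - t u + 1)` is totally isotropic when `t ^ p ≠ t` -/
theorem c6ue5h5_ti {u : M4 F} (hU : IsU p u) {t : F} (htp : t ^ p ≠ t) {x y : Fin 4 → F}
    (hx : c6ue5h5_K u t x) (hy : c6ue5h5_K u t y) : c6ue5h5_h p x y = 0 := by
  have key : ∀ x y : Fin 4 → F, c6ue5h5_K u t x → c6ue5h5_K u t y →
      c6ue5h5_h p (u *ᵥ x) y = 0 := by
    intro x y hx hy
    have h1 : c6ue5h5_h p (u *ᵥ (u *ᵥ x)) y
        = t * c6ue5h5_h p (u *ᵥ x) y - c6ue5h5_h p x y := by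
      rw [hx, c6ue5h5_h_sub_left, c6ue5h5_h_smul_left]
    have h2 : c6ue5h5_h p (u *ᵥ (u *ᵥ x)) y
        = t ^ p * c6ue5h5_h p (u *ᵥ x) y - c6ue5h5_h p x y := by
      conv_lhs => rw [← c6ue5h5_K_back hy]
      rw [c6ue5h5_h_inv u hU, c6ue5h5_h_sub_right, c6ue5h5_h_smul_right, c6ue5h5_h_inv u hU]
    have h3 : (t ^ p - t) * c6ue5h5_h p (u *ᵥ x) y = 0 := by
      linear_combination h1 - h2
    rcases mul_eq_zero.1 h3 with h | h
    · exact absurd (sub_eq_zero.1 h) htp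
    · exact h
  rw [← c6ue5h5_h_inv u hU]
  exact key x _ hx (c6ue5h5_K_mulVec hy)

/-- `ker (u² - t u + 1) ⟂ ker (u - 1)` when `t ≠ 2` -/
theorem c6ue5h5_perp {u : M4 F} (hU : IsU p u) {t : F} (ht2 : (2 : F) - t ≠ 0) {x w : Fin 4 → F}
    (hx : c6ue5h5_K u t x) (hw : u *ᵥ w = w) : c6ue5h5_h p x w = 0 := by
  have h1 : c6ue5h5_h p (u *ᵥ x) w = c6ue5h5_h p x w := by
    conv_lhs => rw [← hw]
    rw [c6ue5h5_h_inv u hU]
  have h2 : c6ue5h5_h p (u *ᵥ (u *ᵥ x)) w = c6ue5h5_h p x w := by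
    conv_lhs => rw [← hw]
    rw [c6ue5h5_h_inv u hU, h1]
  rw [hx, c6ue5h5_h_sub_left, c6ue5h5_h_smul_left, h1] at h2
  have h3 : (2 - t) * c6ue5h5_h p x w = 0 := by linear_combination -h2
  rcases mul_eq_zero.1 h3 with h | h
  · exact absurd h ht2
  · exact h

end ti

section final

variable [Fintype F] {p : ℕ} [Fact p.Prime] [CharP F p]

theorem c6ue5h5_arith (τ c d : F) (hroot : ∀ a : F, a ^ 2 - τ * a + 1 ≠ 0) (hc : c ≠ 0) :
    ∃ a b : F, a * c + b * d = 0 ∧ a * (τ * c - d) + b * c = 1 := by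
  have hN : c ^ 2 - τ * c * d + d ^ 2 ≠ 0 := by
    by_cases hd : d = 0
    · rw [hd]
      simpa using hc
    · intro hN
      apply hroot (c / d)
      field_simp
      linear_combination hN
  obtain ⟨N, hNdef⟩ : ∃ N : F, N = c ^ 2 - τ * c * d + d ^ 2 := ⟨_, rfl⟩
  rw [← hNdef] at hN
  refine ⟨-d / N, c / N, ?_, ?_⟩
  · rw [div_mul_eq_mul_div, div_mul_eq_mul_div, ← add_div, div_eq_zero_iff]
    left
    ring
  · rw [div_mul_eq_mul_div, div_mul_eq_mul_div, ← add_div, div_eq_one_iff_eq hN, hNdef]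
    ring

theorem c6ue5h5_final (hF : Fintype.card F = p ^ 2) (τ : F) (hτp : τ ^ p = -1 - τ)
    (hne : τ ^ p ≠ τ) (u : M4 F) (hU : IsU p u) (e₁ f₂ : Fin 4 → F) (he : c6ue5h5_K u τ e₁)
    (hf : c6ue5h5_K u (-1 - τ) f₂) (h10 : c6ue5h5_h p e₁ f₂ = 0)
    (h21 : c6ue5h5_h p (u *ᵥ e₁) f₂ = 1) :
    ∃ B : GL (Fin 4) F, gram p (B : M4 F) = G5 F ∧
      ((B⁻¹ : GL (Fin 4) F) : M4 F) * u * (B : M4 F) = D5 τ := by
  classical
  have hp : p ≠ 0 := (Fact.out : p.Prime).ne_zero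
  have hτ'p : (-1 - τ) ^ p = τ := by
    rw [← hτp, ← pow_mul, ← sq, ← hF, FiniteField.pow_card]
  have hne' : (-1 - τ) ^ p ≠ -1 - τ := by
    rw [hτ'p]
    intro h
    apply hne
    rw [hτp]
    exact h.symm
  have he2K : c6ue5h5_K u τ (u *ᵥ e₁) := c6ue5h5_K_mulVec he
  have hf1K : c6ue5h5_K u (-1 - τ) (-(u *ᵥ f₂)) := c6ue5h5_K_neg (c6ue5h5_K_mulVec hf)
  have conj := c6ue5h5_h_conj (F := F) (p := p) hF
  have g00 : c6ue5h5_h p e₁ e₁ = 0 := c6ue5h5_ti hU hne he he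
  have g01 : c6ue5h5_h p e₁ (u *ᵥ e₁) = 0 := c6ue5h5_ti hU hne he he2K
  have g10 : c6ue5h5_h p (u *ᵥ e₁) e₁ = 0 := c6ue5h5_ti hU hne he2K he
  have g11 : c6ue5h5_h p (u *ᵥ e₁) (u *ᵥ e₁) = 0 := c6ue5h5_ti hU hne he2K he2K
  have g22 : c6ue5h5_h p (-(u *ᵥ f₂)) (-(u *ᵥ f₂)) = 0 := c6ue5h5_ti hU hne' hf1K hf1K
  have g23 : c6ue5h5_h p (-(u *ᵥ f₂)) f₂ = 0 := c6ue5h5_ti hU hne' hf1K hf
  have g32 : c6ue5h5_h p f₂ (-(u *ᵥ f₂)) = 0 := c6ue5h5_ti hU hne' hf hf1K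
  have g33 : c6ue5h5_h p f₂ f₂ = 0 := c6ue5h5_ti hU hne' hf hf
  have g02 : c6ue5h5_h p e₁ (-(u *ᵥ f₂)) = 1 := by
    rw [c6ue5h5_h_neg_right]
    have hb := c6ue5h5_K_back he
    have : c6ue5h5_h p e₁ (u *ᵥ f₂) = -1 := by
      calc c6ue5h5_h p e₁ (u *ᵥ f₂)
          = c6ue5h5_h p (u *ᵥ (τ • e₁ - u *ᵥ e₁)) (u *ᵥ f₂) := by rw [hb]
        _ = c6ue5h5_h p (τ • e₁ - u *ᵥ e₁) f₂ := c6ue5h5_h_inv u hU _ _
        _ = τ * c6ue5h5_h p e₁ f₂ - c6ue5h5_h p (u *ᵥ e₁) f₂ := by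
            rw [c6ue5h5_h_sub_left, c6ue5h5_h_smul_left]
        _ = -1 := by rw [h10, h21]; ring
    rw [this, neg_neg]
  have g12 : c6ue5h5_h p (u *ᵥ e₁) (-(u *ᵥ f₂)) = 0 := by
    rw [c6ue5h5_h_neg_right, c6ue5h5_h_inv u hU, h10, neg_zero]
  have g20 : c6ue5h5_h p (-(u *ᵥ f₂)) e₁ = 1 := by rw [conj e₁, g02, one_pow]
  have g21 : c6ue5h5_h p (-(u *ᵥ f₂)) (u *ᵥ e₁) = 0 := by rw [conj (u *ᵥ e₁), g12, zero_pow hp]
  have g30 : c6ue5h5_h p f₂ e₁ = 0 := by rw [conj e₁, h10, zero_pow hp]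
  have g31 : c6ue5h5_h p f₂ (u *ᵥ e₁) = 1 := by rw [conj (u *ᵥ e₁), h21, one_pow]
  -- the matrix
  let b : Fin 4 → (Fin 4 → F) := ![e₁, u *ᵥ e₁, -(u *ᵥ f₂), f₂]
  let B : M4 F := Matrix.of (fun l k => b k l)
  have hgr : ∀ j k, gram p B j k = c6ue5h5_h p (b j) (b k) := by
    intro j k
    rfl
  have hgram : gram p B = G5 F := by
    ext j k
    rw [hgr]
    fin_cases j <;> fin_cases k <;>
      simp [b, G5, g00, g01, g10, g11, g22, g23, g32, g33, g02, g12, g20, g21, g30, g31, h10, h21]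
  have c1 : u *ᵥ (u *ᵥ e₁) = -e₁ + τ • (u *ᵥ e₁) := by
    rw [he]
    module
  have c2 : u *ᵥ (-(u *ᵥ f₂)) = (-1 - τ) • (-(u *ᵥ f₂)) + f₂ := by
    rw [Matrix.mulVec_neg, hf]
    module
  have huB : u * B = B * D5 τ := by
    ext l k
    rw [Matrix.mul_apply, Matrix.mul_apply]
    have hk : ∑ m, u l m * B m k = (u *ᵥ b k) l := rfl
    rw [hk]
    fin_cases k
    · simp [Fin.sum_univ_four, D5, B, b]
    · have := congrFun c1 l
      simp [Fin.sum_univ_four, D5, B, b] at this ⊢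
      rw [this]
      ring
    · have := congrFun c2 l
      simp [Fin.sum_univ_four, D5, B, b] at this ⊢
      rw [this]
      ring
    · simp [Fin.sum_univ_four, D5, B, b]
  have hG : (G5 F) * (G5 F) = 1 := by
    ext i j
    fin_cases i <;> fin_cases j <;> simp [G5, Matrix.mul_apply, Fin.sum_univ_four]
  have hdG : (G5 F).det ≠ 0 := by
    intro h
    have := congrArg Matrix.det hG
    rw [Matrix.det_mul, h, zero_mul, Matrix.det_one] at this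
    exact zero_ne_one this
  have hdB : B.det ≠ 0 := by
    intro h
    apply hdG
    rw [← hgram, gram, Matrix.det_mul, Matrix.det_transpose, h, zero_mul]
  obtain ⟨G, hG'⟩ : ∃ G : GL (Fin 4) F, (G : M4 F) = B :=
    ⟨Matrix.GeneralLinearGroup.mkOfDetNeZero B hdB, rfl⟩
  refine ⟨G, by rw [hG']; exact hgram, ?_⟩
  have hinv : ((G⁻¹ : GL (Fin 4) F) : M4 F) * (G : M4 F) = 1 := by
    rw [← Units.val_mul, inv_mul_cancel, Units.val_one]
  rw [mul_assoc, hG', huB, ← hG', ← mul_assoc, hinv, one_mul]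

end final

section main

variable [Fintype F] {p : ℕ} [Fact p.Prime] [CharP F p]

/-- second writing of C6U row E5 (`nf_five`), same statement -/
theorem c6ue5_h5 (hF : Fintype.card F = p ^ 2) (τ : F) (hτ : τ ^ 2 + τ = 1) (hτp : τ ^ p = -1 - τ)
    (hirr : Irreducible (X ^ 2 - C τ * X + 1 : F[X])) (u : M4 F) (hU : IsU p u) (hu : u ^ 5 = 1)
    (hne : u ≠ 1) :
    ∃ B : GL (Fin 4) F, gram p (B : M4 F) = G5 F ∧
      ((B⁻¹ : GL (Fin 4) F) : M4 F) * u * (B : M4 F) = D5 τ := by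
  classical
  have hp : p ≠ 0 := (Fact.out : p.Prime).ne_zero
  have frob2 : ∀ a : F, (a ^ p) ^ p = a := by
    intro a
    rw [← pow_mul, ← sq, ← hF, FiniteField.pow_card]
  -- no roots
  have hroot : ∀ a : F, a ^ 2 - τ * a + 1 ≠ 0 := by
    intro a ha
    have hr : (X ^ 2 - C τ * X + 1 : F[X]).IsRoot a := by
      simp [IsRoot, ha]
    have hd := Polynomial.degree_eq_one_of_irreducible_of_root hirr hr
    have hd2 : (X ^ 2 - C τ * X + 1 : F[X]).degree = 2 := by compute_degree!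
    rw [hd2] at hd
    norm_num at hd
  have h5 : (5 : F) ≠ 0 := by
    intro h5
    have h1 : (2 * τ + 1) ^ 2 = 0 := by linear_combination 4 * hτ + h5
    have h2 : 2 * τ + 1 = 0 := by
      rcases pow_eq_zero_iff (two_ne_zero) |>.1 h1 with h
      exact h
    apply hroot 1
    linear_combination 2 * h2 - τ * h5
  have hne2 : τ ^ p ≠ τ := by
    rw [hτp]
    intro h
    apply h5
    linear_combination (-(2 * τ + 1)) * h - 4 * hτ
  have ht2 : (2 : F) - τ ≠ 0 := fun h => hroot 1 (by linear_combination h)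
  have ht2' : (2 : F) - (-1 - τ) ≠ 0 := by
    intro h
    apply h5
    linear_combination (2 - τ) * h + hτ
  have hτ' : (-1 - τ) ^ 2 + (-1 - τ) = 1 := by linear_combination hτ
  have hτ'p : (-1 - τ) ^ p = τ := by rw [← hτp, frob2]
  have hne2' : (-1 - τ) ^ p ≠ -1 - τ := by
    rw [hτ'p]
    intro h
    apply hne2
    rw [hτp]
    exact h.symm
  have hk1 := c6ue5h5_kill u hu τ hτ
  have hk2 := c6ue5h5_kill u hu (-1 - τ) hτ'
  have hk0 := c6ue5h5_kill0 (F := F) u hu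
  have hsum := c6ue5h5_sum u τ h5
  have hdec : ∀ w : Fin 4 → F, w = c6ue5h5_E0 (F := F) u *ᵥ w + c6ue5h5_E u τ *ᵥ w
      + c6ue5h5_E u (-1 - τ) *ᵥ w := by
    intro w
    rw [← Matrix.add_mulVec, ← Matrix.add_mulVec, hsum, Matrix.one_mulVec]
  have hfix : ∀ w : Fin 4 → F, u *ᵥ (c6ue5h5_E0 (F := F) u *ᵥ w) = c6ue5h5_E0 (F := F) u *ᵥ w := by
    intro w
    have h1 := congrArg (fun M : M4 F => M *ᵥ w) hk0
    simp only [Matrix.zero_mulVec, ← Matrix.mulVec_mulVec, Matrix.sub_mulVec,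
      Matrix.one_mulVec] at h1
    exact sub_eq_zero.1 h1
  have K1 : ∀ w, c6ue5h5_K u τ (c6ue5h5_E u τ *ᵥ w) := c6ue5h5_K_of_mul hk1
  have K2 : ∀ w, c6ue5h5_K u (-1 - τ) (c6ue5h5_E u (-1 - τ) *ᵥ w) := c6ue5h5_K_of_mul hk2
  -- a non-zero vector of `ker (u² - τ u + 1)`
  have hex : ∃ w, c6ue5h5_E u τ *ᵥ w ≠ 0 := by
    by_contra hcon
    push Not at hcon
    have hw : ∃ w, u *ᵥ w ≠ w := by
      by_contra h
      push Not at h
      apply hne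
      apply Matrix.ext_of_mulVec_single
      intro i
      rw [h, Matrix.one_mulVec]
    obtain ⟨w, hw⟩ := hw
    have hy : c6ue5h5_E u (-1 - τ) *ᵥ w ≠ 0 := by
      intro h0
      apply hw
      have h1 := hdec w
      rw [hcon w, h0, add_zero, add_zero] at h1
      rw [h1]
      exact hfix w
    obtain ⟨l, hl⟩ : ∃ l, (c6ue5h5_E u (-1 - τ) *ᵥ w) l ≠ 0 := by
      by_contra h
      push Not at h
      exact hy (funext h)
    have h1 := c6ue5h5_h_single (p := p) hp (c6ue5h5_E u (-1 - τ) *ᵥ w) l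
    have h2 : c6ue5h5_h p (c6ue5h5_E u (-1 - τ) *ᵥ w) (Pi.single l 1) = 0 := by
      rw [hdec (Pi.single l 1), hcon, add_zero, c6ue5h5_h_add_right,
        c6ue5h5_perp hU ht2' (K2 w) (hfix _), c6ue5h5_ti hU hne2' (K2 w) (K2 _), add_zero]
    exact hl (h1 ▸ h2)
  obtain ⟨w, hw⟩ := hex
  obtain ⟨l, hl⟩ : ∃ l, (c6ue5h5_E u τ *ᵥ w) l ≠ 0 := by
    by_contra h
    push Not at h
    exact hw (funext h)
  have he := K1 w
  obtain ⟨e₁, he₁⟩ : ∃ e₁, e₁ = c6ue5h5_E u τ *ᵥ w := ⟨_, rfl⟩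
  rw [← he₁] at he hl
  have hy := K2 (Pi.single l 1)
  have hc : c6ue5h5_h p e₁ (c6ue5h5_E u (-1 - τ) *ᵥ (Pi.single l 1)) = e₁ l := by
    have h1 := c6ue5h5_h_single (p := p) hp e₁ l
    rw [hdec (Pi.single l 1), c6ue5h5_h_add_right, c6ue5h5_h_add_right,
      c6ue5h5_perp hU ht2 he (hfix _), c6ue5h5_ti hU hne2 he (K1 _), zero_add, zero_add] at h1
    exact h1
  obtain ⟨y, hy'⟩ : ∃ y, y = c6ue5h5_E u (-1 - τ) *ᵥ (Pi.single l 1) := ⟨_, rfl⟩
  rw [← hy'] at hy hc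
  have hc0 : c6ue5h5_h p e₁ y ≠ 0 := by rw [hc]; exact hl
  obtain ⟨a, b, hab1, hab2⟩ := c6ue5h5_arith τ (c6ue5h5_h p e₁ y) (c6ue5h5_h p e₁ (u *ᵥ y)) hroot hc0
  have hf2K : c6ue5h5_K u (-1 - τ) ((a ^ p) • y + (b ^ p) • (u *ᵥ y)) :=
    c6ue5h5_K_add (c6ue5h5_K_smul _ hy) (c6ue5h5_K_smul _ (c6ue5h5_K_mulVec hy))
  have h10 : c6ue5h5_h p e₁ ((a ^ p) • y + (b ^ p) • (u *ᵥ y)) = 0 := by
    rw [c6ue5h5_h_add_right, c6ue5h5_h_smul_right, c6ue5h5_h_smul_right, frob2, frob2]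
    exact hab1
  have h21 : c6ue5h5_h p (u *ᵥ e₁) ((a ^ p) • y + (b ^ p) • (u *ᵥ y)) = 1 := by
    rw [c6ue5h5_h_add_right, c6ue5h5_h_smul_right, c6ue5h5_h_smul_right, frob2, frob2,
      c6ue5h5_h_inv u hU]
    have h1 : c6ue5h5_h p (u *ᵥ e₁) y
        = τ * c6ue5h5_h p e₁ y - c6ue5h5_h p e₁ (u *ᵥ y) := by
      conv_lhs => rw [← c6ue5h5_K_back hy]
      rw [c6ue5h5_h_inv u hU, c6ue5h5_h_sub_right, c6ue5h5_h_smul_right, hτ'p]
    rw [h1]
    exact hab2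
  exact c6ue5h5_final hF τ hτp hne2 u hU e₁ _ he hf2K h10 h21

end main

end Cfsg.Agent.Lib.helper3.C6U
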