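import Mathlib
import Cfsg.Agent.Lib.helper3.C6U.Defs
import Cfsg.Agent.Lib.Helper5.C6UE5h5

set_option autoImplicit false
set_option linter.unusedVariables false
set_option linter.unusedSectionVars false

/-!
# C6U row E5 (`nf_five`), verbatim statement (helper5), on `c6ue5_h5`.
-/

namespace Cfsg.Agent.Lib.helper3.C6U

open Polynomial Matrix
open Cfsg.Agent.Lib.Helper10.C6P
open scoped MatrixGroups

variable {F : Type*} [Field F]

section fin

variable [Fintype F] {p : ℕ} [Fact p.Prime] [CharP F p]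

/-- E5 [L] : normal form of a unitary element of order 5 when `ord_5(p) = 4`: `Φ_5 = f₁ f₂` over `F`, `f₁ = X² - τ X + 1`, `f₂ = X² - τ^p X + 1`; `W_k = ker f_k(u)` are t.i.
(`h(f₁(u) v, w) = …`: the adjoint of `u` is `u⁻¹`, and `f₁^σ(X⁻¹) X² = f₂`), paired, of dimension 2 (`V = W₁ ⊕ W₂`, each a module over the field `F[X]/(f_k)`); `e₁ ∈ W₁ \ 0`, `e₂ = u e₁`,
dual basis `f₁, f₂ ∈ W₂`; the matrix of `u` is then forced (`Dᵀ G5 σ(D) = G5`). -/
theorem nf_five (hF : Fintype.card F = p ^ 2) (τ : F) (hτ : τ ^ 2 + τ = 1) (hτp : τ ^ p = -1 - τ)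
    (hirr : Irreducible (X ^ 2 - C τ * X + 1 : F[X])) (u : M4 F) (hU : IsU p u) (hu : u ^ 5 = 1) (hne : u ≠ 1) :
    ∃ B : GL (Fin 4) F, gram p (B : M4 F) = G5 F ∧ ((B⁻¹ : GL (Fin 4) F) : M4 F) * u * (B : M4 F) = D5 τ :=
  c6ue5_h5 hF τ hτ hτp hirr u hU hu hne

end fin

end Cfsg.Agent.Lib.helper3.C6U
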