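import Mathlib
import Cfsg.Agent.Lib.helper7.CEC.Defs
import Cfsg.Agent.Lib.Helper11.CECY1
import Cfsg.Agent.Lib.Helper11.CECY2
import Cfsg.Agent.Lib.Helper22.STCF1

/-!
# CEC row Y3 (helper5): `Ys_B_torus`, verbatim (on Y1, Y2 of `Helper11`, and `HH.long` of `Helper22.STCF1`).
-/

set_option autoImplicit false

namespace Cfsg.Agent.Lib.helper7.CEC

open Cfsg.Agent.Lib.helper15.St2 Cfsg.Agent.Lib.helper7.Ce Cfsg.Agent.Lib.helper3.STC

section Y

variable {K : Type*} [Field K] {ι : Type*} {Γ G : Type*} [Group Γ] [Group G] {S : SysC K ι G} {σ : Γ →* G}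

/-- `ng` is an involution. -/
theorem cecy3_ng_ng (a : ι ⊕ ι) : ng (ng a) = a := by
  cases a <;> rfl

/-- Y3 [M]  model `Ce.B_torus` with `g := S.h a (ng a) v` (`hH.long`): it scales `x a c` by `v` and fixes `x c b`; `cm e (Ys s' t') = Ys ((v-1) s') t'` (`Ys_cj`, `Ys_add_left`), and
`cm e (Ys s t) = cm e (Ys (s t) 1)` by `IsCE.cm_congr` (`Ys_map`). -/
theorem Ys_B_torus [DecidableEq ι] (h : IsCE σ) (hC : HC S σ) (hH : S.HH) (v : K) (hv0 : v ≠ 0) (hv1 : v ≠ 1) : PB S h := by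
  intro a c b hac hcb hab s t
  have hv' : v - 1 ≠ 0 := sub_ne_zero.2 hv1
  obtain ⟨hac1, hac2⟩ := cecy1_ne hac
  obtain ⟨hcb1, hcb2⟩ := cecy1_ne hcb
  obtain ⟨hab1, hab2⟩ := cecy1_ne hab
  have hg : S.IsMon (S.h a (ng a) v) 1 (dhl a v) := SysC.HH.long S hH a v hv0
  have hca : c ≠ a := fun e => hac1 e.symm
  have hcna : c ≠ ng a := by
    intro e
    apply hac2
    rw [e, cecy3_ng_ng]
  have hba : b ≠ a := fun e => hab1 e.symm
  have hbna : b ≠ ng a := by
    intro e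
    apply hab2
    rw [e, cecy3_ng_ng]
  have da : dhl a v a = v := by simp [dhl]
  have dc : dhl a v c = 1 := by simp [dhl, hca, hcna]
  have db : dhl a v b = 1 := by simp [dhl, hba, hbna]
  set e := lf h (S.h a (ng a) v) with he
  have hme : σ e = S.h a (ng a) v := map_lf h _
  have key : ∀ s' t', cm e (Ys S h a c b s' t') = Ys S h a c b ((v - 1) * s') t' := by
    intro s' t'
    have e1 : cm e (Ys S h a c b s' t') = cj e (Ys S h a c b s' t') * (Ys S h a c b s' t')⁻¹ := by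
      unfold cm cj; group
    have e2 : cj e (Ys S h a c b s' t') = Ys S h a c b (v * s') t' := by
      rw [Ys_cj h hg hme hac1 hcb1 s' t', da, dc, db]
      simp
    have e3 : v * s' = (v - 1) * s' + s' := by ring
    rw [e1, e2, e3, Ys_add_left h hC hac hcb hab, mul_inv_cancel_right]
  have e4 : cm e (Ys S h a c b ((v - 1)⁻¹ * s) t) = cm e (Ys S h a c b ((v - 1)⁻¹ * s * t) 1) := by
    refine h.cm_congr rfl ?_
    rw [Ys_map h hac hcb hab, Ys_map h hac hcb hab, mul_one]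
  rw [key, key] at e4
  have e5 : (v - 1) * ((v - 1)⁻¹ * s) = s := by
    rw [← mul_assoc, mul_inv_cancel₀ hv', one_mul]
  have e6 : (v - 1) * ((v - 1)⁻¹ * s * t) = s * t := by
    rw [← mul_assoc, ← mul_assoc, mul_inv_cancel₀ hv', one_mul]
  rw [e5, e6] at e4
  exact e4

end Y

end Cfsg.Agent.Lib.helper7.CEC
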