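import Mathlib
import Cfsg.Agent.Lib.helper7.CEC.Defs
import Cfsg.Agent.Lib.Helper16.CECY4

/-!
# CEC row Y5 (helper5): `Ys_BI_four`, verbatim (on Y4 `Ys_milnor`, `Helper16.CECY4`).
-/

set_option autoImplicit false

namespace Cfsg.Agent.Lib.helper7.CEC

open Cfsg.Agent.Lib.helper15.St2 Cfsg.Agent.Lib.helper7.Ce Cfsg.Agent.Lib.helper3.STC

section Y

variable {K : Type*} [Field K] {ι : Type*} {Γ G : Type*} [Group Γ] [Group G] {S : SysC K ι G} {σ : Γ →* G}

/-- Y5 [S-M]  `m ≥ 4`: `PB`: `Ys_milnor` twice through `e` from `h4 a c b` (`Ys a c b s t = Ys a e b (s t) 1 = Ys a c b (s t) 1`, the second with `s := s t`, `t := 1`, `mul_one`).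
`PI`: if `ab c ≠ ab c'`, `Ys_milnor` (`mul_one`); if `ab c = ab c'`, through `e` from `h4 a c b` (`ab e ≠ ab c'`). -/
theorem Ys_BI_four (h : IsCE σ) (hC : HC S σ) (h4 : I4 ι) : PB S h ∧ PI S h := by
  constructor
  · intro a c b hac hcb hab t u
    obtain ⟨e, hea, hec, heb⟩ := h4 a c b
    have h1 := Ys_milnor h hC hac hea.symm hab hec.symm hcb heb t u
    have h2 := Ys_milnor h hC hac hea.symm hab hec.symm hcb heb (t * u) 1
    rw [mul_one] at h2
    rw [h1, h2]
  · intro a c c' b hac hcb hac' hc'b hab t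
    by_cases hcc : ab c = ab c'
    · obtain ⟨e, hea, hec, heb⟩ := h4 a c b
      have hec' : ab e ≠ ab c' := by rw [← hcc]; exact hec
      have h1 := Ys_milnor h hC hac hea.symm hab hec.symm hcb heb t 1
      have h2 := Ys_milnor h hC hac' hea.symm hab hec'.symm hc'b heb t 1
      rw [h1, h2]
    · have h1 := Ys_milnor h hC hac hac' hab hcc hcb hc'b t 1
      rw [mul_one] at h1
      exact h1

end Y

end Cfsg.Agent.Lib.helper7.CEC
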