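import Mathlib
import Cfsg.Agent.Lib.helper7.CED.Defs

/-!
# Project CED (designer helper7; S2096 + S2097), row S1 (`RootLift.X_zero X_neg cj3 cj3i`), VERBATIM (helper5).
-/

set_option autoImplicit false

namespace Cfsg.Agent.Lib.helper7.CED

open Cfsg.Agent.Lib.helper15.St2 Cfsg.Agent.Lib.helper7.Ce Cfsg.Agent.Lib.helper3.STC Cfsg.Agent.Lib.Lead.STD
  Cfsg.Agent.Lib.helper7.CEC

section S

variable {K : Type*} [Field K] {ι : Type*} {Γ G : Type*} [Group Γ] [Group G] {S : SysD K ι G} {σ : Γ →* G} {h : IsCE σ}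

/-- S1 [S-M]  consequences of `L.add`, `L.c3`, `L.sym` in conjugation form.  `X_zero`: `L.add a b hab 0 0`.  `X_neg`: `L.add` at `t + -t`.  `cj3`: `cm A B = A B A⁻¹ B⁻¹ = X a b (t u)`, so `A B A⁻¹ = X a b (t u) * B`.
`cj3i`: from `cj3` at `-t` (`X_neg`). -/
theorem RootLift.X_zero (L : RootLift S h) {a b : ι ⊕ ι} (hab : ab a ≠ ab b) : L.X a b 0 = 1 := by
  have h1 := L.add a b hab 0 0
  rw [add_zero] at h1
  exact (mul_eq_left (a := L.X a b 0) (b := L.X a b 0)).mp h1.symm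

theorem RootLift.X_neg (L : RootLift S h) {a b : ι ⊕ ι} (hab : ab a ≠ ab b) (t : K) : L.X a b (-t) = (L.X a b t)⁻¹ := by
  have h1 := L.add a b hab (-t) t
  rw [neg_add_cancel, RootLift.X_zero L hab] at h1
  exact eq_inv_of_mul_eq_one_left h1.symm

theorem RootLift.cj3 (L : RootLift S h) {a c b : ι ⊕ ι} (hac : ab a ≠ ab c) (hcb : ab c ≠ ab b) (hab : ab a ≠ ab b) (t u : K) :
    cj (L.X a c t) (L.X c b u) = L.X a b (t * u) * L.X c b u := by
  rw [← L.c3 a c b hac hcb hab t u]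
  unfold cj cm
  group

theorem RootLift.cj3i (L : RootLift S h) {a c b : ι ⊕ ι} (hac : ab a ≠ ab c) (hcb : ab c ≠ ab b) (hab : ab a ≠ ab b) (t u : K) :
    cj (L.X a c t)⁻¹ (L.X c b u) = L.X a b (-(t * u)) * L.X c b u := by
  rw [← RootLift.X_neg L hac, RootLift.cj3 L hac hcb hab, neg_mul]

end S

end Cfsg.Agent.Lib.helper7.CED
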