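import Mathlib
import Cfsg.Agent.Lib.Helper5.PcPF
import Cfsg.Agent.Lib.helper14.PgV

set_option autoImplicit false

/-! Elements given by coded tables and certified by sifting, for a chain with the basic checks. -/

namespace Cfsg.Agent.Lib.Helper5.PcP

open Subgroup Cfsg.Agent.Lib.helper23 Cfsg.Agent.Lib.helper14.PV Cfsg.Agent.Lib.Helper5.CP

theorem tabs_of_chk0 {n : ℕ} {look : ℕ → ℕ → ℕ} {C : List PgLvlW} (hchk : pgChk0W n C = true)
    (tabs : List (ℕ × ℕ)) (h : tabsChk look n (List.range n) C tabs = true) :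
    (∀ t ∈ tabs, (mkP look t).perm n ∈ pgGrpW n C) ∧ (∀ t ∈ tabs, (mkP look t).ok n = true) := by
  unfold tabsChk at h
  rw [List.all_eq_true] at h
  constructor
  · intro t ht
    have h1 := h t ht
    rw [Bool.and_eq_true] at h1
    exact pgSiftW_sound' C hchk (mkP look t).f ((mkP look t).perm n)
      (fun p => (PFun.perm_apply h1.1 p).symm) h1.2
  · intro t ht
    have h1 := h t ht
    rw [Bool.and_eq_true] at h1
    exact h1.1

end Cfsg.Agent.Lib.Helper5.PcP
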