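import Mathlib
import Cfsg.Agent.Lib.Helper5.PcPI
import Cfsg.Agent.Lib.Helper5.PcPH
import Cfsg.Agent.Lib.Helper5.PcPG
import Cfsg.Agent.Lib.Helper5.PcPJ
import Cfsg.Agent.Lib.Helper5.PcPK
import Cfsg.Agent.Lib.helper14.MSe
import Cfsg.Agent.Lib.Helper5.Co2Data2

set_option autoImplicit false
set_option maxRecDepth 1000000
set_option Elab.async false

/-! Checks of the certificates for a Sylow 2-subgroup of the second Conway group on 4600 points (generated). -/

namespace Cfsg.Agent.Lib.Helper5.Co2M

open Cfsg.Agent.Lib.helper14.MS Cfsg.Agent.Lib.helper23 Cfsg.Agent.Lib.Helper5.CP Cfsg.Agent.Lib.Helper5.PcT Cfsg.Agent.Lib.Helper5.PcP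
theorem chk_id : eqW mslk 4600 Uid [] = true := by decide +kernel

theorem gtabs2p0_chk : tabsChk mslk 4600 (List.range 4600) msC gtabs2p0 = true := by decide +kernel

theorem gtabs2p1_chk : tabsChk mslk 4600 (List.range 4600) msC gtabs2p1 = true := by decide +kernel

theorem gtabs2p2_chk : tabsChk mslk 4600 (List.range 4600) msC gtabs2p2 = true := by decide +kernel

theorem gtabs2p3_chk : tabsChk mslk 4600 (List.range 4600) msC gtabs2p3 = true := by decide +kernel

theorem gtabs2p4_chk : tabsChk mslk 4600 (List.range 4600) msC gtabs2p4 = true := by decide +kernel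

theorem gtabs2p5_chk : tabsChk mslk 4600 (List.range 4600) msC gtabs2p5 = true := by decide +kernel

theorem gtabs2_chk : tabsChk mslk 4600 (List.range 4600) msC gtabs2 = true :=
  tabsChk_append _ _ _ _ _ _ gtabs2p0_chk (tabsChk_append _ _ _ _ _ _ gtabs2p1_chk (tabsChk_append _ _ _ _ _ _ gtabs2p2_chk (tabsChk_append _ _ _ _ _ _ gtabs2p3_chk (tabsChk_append _ _ _ _ _ _ gtabs2p4_chk (gtabs2p5_chk)))))

theorem htabs2p0_chk : tabsChk mslk 4600 (List.range 4600) msC htabs2p0 = true := by decide +kernel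

theorem htabs2p1_chk : tabsChk mslk 4600 (List.range 4600) msC htabs2p1 = true := by decide +kernel

theorem htabs2p2_chk : tabsChk mslk 4600 (List.range 4600) msC htabs2p2 = true := by decide +kernel

theorem htabs2_chk : tabsChk mslk 4600 (List.range 4600) msC htabs2 = true :=
  tabsChk_append _ _ _ _ _ _ htabs2p0_chk (tabsChk_append _ _ _ _ _ _ htabs2p1_chk (htabs2p2_chk))

end Cfsg.Agent.Lib.Helper5.Co2M
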