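import Mathlib
import Cfsg.Agent.Lib.Helper5.PcPI
import Cfsg.Agent.Lib.Helper5.PcPH
import Cfsg.Agent.Lib.Helper5.PcPG
import Cfsg.Agent.Lib.Helper5.PcPJ
import Cfsg.Agent.Lib.Helper5.PcPK
import Cfsg.Agent.Lib.helper14.MSe
import Cfsg.Agent.Lib.Helper5.Co2Data2

set_option autoImplicit false
set_option maxRecDepth 1000000
set_option Elab.async false

/-! Checks of the certificates for a Sylow 2-subgroup of the second Conway group on 4600 points (generated). -/

namespace Cfsg.Agent.Lib.Helper5.Co2M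

open Cfsg.Agent.Lib.helper14.MS Cfsg.Agent.Lib.helper23 Cfsg.Agent.Lib.Helper5.CP Cfsg.Agent.Lib.Helper5.PcT Cfsg.Agent.Lib.Helper5.PcP
theorem data2_ok : dataOK 18 sqL2 cmL2 = true := by decide +kernel

theorem relpart2x0_ok : relsPart mslk 4600 Uid 2 (gtabs2.map Prod.fst) sqL2 cmL2 relpart2x0 = true := by
  decide +kernel

theorem relpart2x1_ok : relsPart mslk 4600 Uid 2 (gtabs2.map Prod.fst) sqL2 cmL2 relpart2x1 = true := by
  decide +kernel

theorem relpart2x2_ok : relsPart mslk 4600 Uid 2 (gtabs2.map Prod.fst) sqL2 cmL2 relpart2x2 = true := by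
  decide +kernel

theorem relpart2x3_ok : relsPart mslk 4600 Uid 2 (gtabs2.map Prod.fst) sqL2 cmL2 relpart2x3 = true := by
  decide +kernel

theorem relpart2x4_ok : relsPart mslk 4600 Uid 2 (gtabs2.map Prod.fst) sqL2 cmL2 relpart2x4 = true := by
  decide +kernel

theorem relpart2x5_ok : relsPart mslk 4600 Uid 2 (gtabs2.map Prod.fst) sqL2 cmL2 relpart2x5 = true := by
  decide +kernel

theorem relpart2x6_ok : relsPart mslk 4600 Uid 2 (gtabs2.map Prod.fst) sqL2 cmL2 relpart2x6 = true := by
  decide +kernel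

theorem rels2_ok : relsChkP mslk 4600 Uid 2 (gtabs2.map Prod.fst) 18 sqL2 cmL2 = true := by
  apply relsChkP_of_parts mslk 4600 Uid 2 _ 18 sqL2 cmL2 relparts2 (by decide +kernel)
  intro L hL
  simp only [relparts2, List.mem_cons, List.not_mem_nil, or_false] at hL
  rcases hL with rfl | rfl | rfl | rfl | rfl | rfl | rfl
  · exact relpart2x0_ok
  · exact relpart2x1_ok
  · exact relpart2x2_ok
  · exact relpart2x3_ok
  · exact relpart2x4_ok
  · exact relpart2x5_ok
  · exact relpart2x6_ok

end Cfsg.Agent.Lib.Helper5.Co2M
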