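import Mathlib
import Cfsg.Agent.Lib.Helper5.PcPI
import Cfsg.Agent.Lib.Helper5.PcPH
import Cfsg.Agent.Lib.Helper5.PcPG
import Cfsg.Agent.Lib.Helper5.PcPJ
import Cfsg.Agent.Lib.Helper5.PcPK
import Cfsg.Agent.Lib.helper14.MSe
import Cfsg.Agent.Lib.Helper5.Co2Data3
import Cfsg.Agent.Lib.Helper5.Co2Data2

set_option autoImplicit false
set_option maxRecDepth 1000000
set_option Elab.async false

/-! Checks of the certificates for a Sylow 3-subgroup of the second Conway group on 4600 points (generated). -/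

namespace Cfsg.Agent.Lib.Helper5.Co2M

open Cfsg.Agent.Lib.helper14.MS Cfsg.Agent.Lib.helper23 Cfsg.Agent.Lib.Helper5.CP Cfsg.Agent.Lib.Helper5.PcT Cfsg.Agent.Lib.Helper5.PcP
theorem gtabs3p0_chk : tabsChk mslk 4600 (List.range 4600) msC gtabs3p0 = true := by decide +kernel

theorem gtabs3p1_chk : tabsChk mslk 4600 (List.range 4600) msC gtabs3p1 = true := by decide +kernel

theorem gtabs3_chk : tabsChk mslk 4600 (List.range 4600) msC gtabs3 = true :=
  tabsChk_append _ _ _ _ _ _ gtabs3p0_chk (gtabs3p1_chk)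

theorem htabs3p0_chk : tabsChk mslk 4600 (List.range 4600) msC htabs3p0 = true := by decide +kernel

theorem htabs3_chk : tabsChk mslk 4600 (List.range 4600) msC htabs3 = true :=
  htabs3p0_chk

end Cfsg.Agent.Lib.Helper5.Co2M
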