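import Mathlib
import Cfsg.Agent.Lib.Helper5.PcPI
import Cfsg.Agent.Lib.Helper5.PcPH
import Cfsg.Agent.Lib.Helper5.PcPG
import Cfsg.Agent.Lib.Helper5.PcPJ
import Cfsg.Agent.Lib.Helper5.PcPK
import Cfsg.Agent.Lib.helper14.MSe
import Cfsg.Agent.Lib.Helper5.Co2Data5
import Cfsg.Agent.Lib.Helper5.Co2Data2

set_option autoImplicit false
set_option maxRecDepth 1000000
set_option Elab.async false

/-! Checks of the certificates for a Sylow 5-subgroup of the second Conway group on 4600 points (generated). -/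

namespace Cfsg.Agent.Lib.Helper5.Co2M

open Cfsg.Agent.Lib.helper14.MS Cfsg.Agent.Lib.helper23 Cfsg.Agent.Lib.Helper5.CP Cfsg.Agent.Lib.Helper5.PcT Cfsg.Agent.Lib.Helper5.PcP
theorem gtabs5p0_chk : tabsChk mslk 4600 (List.range 4600) msC gtabs5p0 = true := by decide +kernel

theorem gtabs5_chk : tabsChk mslk 4600 (List.range 4600) msC gtabs5 = true :=
  gtabs5p0_chk

theorem htabs5p0_chk : tabsChk mslk 4600 (List.range 4600) msC htabs5p0 = true := by decide +kernel

theorem htabs5_chk : tabsChk mslk 4600 (List.range 4600) msC htabs5 = true :=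
  htabs5p0_chk

end Cfsg.Agent.Lib.Helper5.Co2M
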