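import Mathlib
import Cfsg.Agent.Lib.Helper5.PcPI
import Cfsg.Agent.Lib.Helper5.PcPH
import Cfsg.Agent.Lib.Helper5.PcPG
import Cfsg.Agent.Lib.Helper5.PcPJ
import Cfsg.Agent.Lib.Helper5.PcPK
import Cfsg.Agent.Lib.helper14.MSe
import Cfsg.Agent.Lib.Helper5.Co2Data5
import Cfsg.Agent.Lib.Helper5.Co2Data2

set_option autoImplicit false
set_option maxRecDepth 1000000
set_option Elab.async false

/-! Checks of the certificates for a Sylow 5-subgroup of the second Conway group on 4600 points (generated). -/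

namespace Cfsg.Agent.Lib.Helper5.Co2M

open Cfsg.Agent.Lib.helper14.MS Cfsg.Agent.Lib.helper23 Cfsg.Agent.Lib.Helper5.CP Cfsg.Agent.Lib.Helper5.PcT Cfsg.Agent.Lib.Helper5.PcP
theorem data5_ok : dataOK 3 sqL5 cmL5 = true := by decide +kernel

theorem relpart5x0_ok : relsPart mslk 4600 Uid 5 (gtabs5.map Prod.fst) sqL5 cmL5 relpart5x0 = true := by
  decide +kernel

theorem rels5_ok : relsChkP mslk 4600 Uid 5 (gtabs5.map Prod.fst) 3 sqL5 cmL5 = true := by
  apply relsChkP_of_parts mslk 4600 Uid 5 _ 3 sqL5 cmL5 relparts5 (by decide +kernel)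
  intro L hL
  simp only [relparts5, List.mem_cons, List.not_mem_nil, or_false] at hL
  rcases hL with rfl
  · exact relpart5x0_ok

end Cfsg.Agent.Lib.Helper5.Co2M
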