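import Mathlib
import Cfsg.Agent.Lib.Helper5.PcPI
import Cfsg.Agent.Lib.Helper5.PcPH
import Cfsg.Agent.Lib.Helper5.PcPG
import Cfsg.Agent.Lib.Helper5.PcPJ
import Cfsg.Agent.Lib.Helper5.PcPK
import Cfsg.Agent.Lib.helper14.MSe
import Cfsg.Agent.Lib.Helper5.Co2Data5
import Cfsg.Agent.Lib.Helper5.Co2Data2

set_option autoImplicit false
set_option maxRecDepth 1000000
set_option Elab.async false

/-! Checks of the certificates for a Sylow 5-subgroup of the second Conway group on 4600 points (generated). -/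

namespace Cfsg.Agent.Lib.Helper5.Co2M

open Cfsg.Agent.Lib.helper14.MS Cfsg.Agent.Lib.helper23 Cfsg.Agent.Lib.Helper5.CP Cfsg.Agent.Lib.Helper5.PcT Cfsg.Agent.Lib.Helper5.PcP
theorem zv5_ok : (zformsP 5 (PcD.ofLists 3 sqL5 cmL5) 400 conL5
    (mkRel 5 (pwL5.map Prod.fst) [] (cmEL5.map Prod.fst) [])).map vecOf = ZV5 := by decide +kernel

theorem cert5_ok : certOKP 5 (PcD.ofLists 3 sqL5 cmL5) CC5
    (zformsP 5 (PcD.ofLists 3 sqL5 cmL5) 400 conL5
      (mkRel 5 (pwL5.map Prod.fst) [] (cmEL5.map Prod.fst) [])) certs5 = true := by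
  apply certOKP_of_certOKV
  unfold certOKV
  rw [zv5_ok]
  decide +kernel

theorem pwL5p0_ok : pwChk mslk 4600 Uid 5 (gtabs5.map Prod.fst) (htabs5.map Prod.fst) pwL5p0 = true := by
  decide +kernel

theorem pw5_ok : pwChk mslk 4600 Uid 5 (gtabs5.map Prod.fst) (htabs5.map Prod.fst) pwL5 = true :=
  pwL5p0_ok

theorem cmEL5p0_ok : cmChk mslk 4600 Uid (gtabs5.map Prod.fst) (htabs5.map Prod.fst) cmEL5p0 = true := by
  decide +kernel

theorem cm5_ok : cmChk mslk 4600 Uid (gtabs5.map Prod.fst) (htabs5.map Prod.fst) cmEL5 = true :=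
  cmEL5p0_ok

theorem levels5_ok : chainChk mslk 4600 Uid (gtabs5.map Prod.fst) [] levels5 = true := by
  decide +kernel

theorem levels5_prod : chainProd levels5 = 5 ^ 3 := by decide +kernel

end Cfsg.Agent.Lib.Helper5.Co2M
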