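import Mathlib
import Cfsg.Agent.Lib.Helper5.PcPG
import Cfsg.Agent.Lib.helper14.MQe
import Cfsg.Agent.Lib.Helper5.Co3Data

set_option autoImplicit false
set_option maxRecDepth 1000000

/-! Checks of the certificates for the Sylow subgroups of the third Conway group on 276 points (generated). -/

namespace Cfsg.Agent.Lib.Helper5.Co3M

open Cfsg.Agent.Lib.helper14.MQ Cfsg.Agent.Lib.helper23 Cfsg.Agent.Lib.Helper5.CP Cfsg.Agent.Lib.Helper5.PcT Cfsg.Agent.Lib.Helper5.PcP

theorem chk_id : eqW mqlk 276 Uid [] = true := by decide +kernel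

theorem sbase_lt : ∀ b ∈ sbase, b < 276 := by decide

theorem gtabs2_chk : tabsChk mqlk 276 (mqRigidTop 276).base mqC gtabs2 = true := by decide +kernel

theorem htabs2_chk : tabsChk mqlk 276 (mqRigidTop 276).base mqC htabs2 = true := by decide +kernel

theorem data2_ok : dataOK 10 sqL2 cmL2 = true := by decide +kernel

theorem rels2_ok : relsChkP mqlk 276 Uid 2 (gtabs2.map Prod.fst) 10 sqL2 cmL2 = true := by decide +kernel

theorem cert2_ok : certOKP 2 (PcD.ofLists 10 sqL2 cmL2) CC2
    (zformsP 2 (PcD.ofLists 10 sqL2 cmL2) 400 conL2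
      (mkRel 2 (pwL2.map Prod.fst) [] (cmEL2.map Prod.fst) [])) certs2 = true := by decide +kernel

theorem pw2_ok : pwChk mqlk 276 Uid 2 (gtabs2.map Prod.fst) (htabs2.map Prod.fst) pwL2 = true := by
  decide +kernel

theorem cm2_ok : cmChk mqlk 276 Uid (gtabs2.map Prod.fst) (htabs2.map Prod.fst) cmEL2 = true := by
  decide +kernel

theorem words2_inc : isStrictInc (words2.map fun l => sigW mqlk sbase
    (l.map fun i => (gtabs2.map Prod.fst).getD i Uid)) = true := by decide +kernel

theorem words2_length : words2.length = 2 ^ 10 := by decide +kernel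

theorem gtabs3_chk : tabsChk mqlk 276 (mqRigidTop 276).base mqC gtabs3 = true := by decide +kernel

theorem htabs3_chk : tabsChk mqlk 276 (mqRigidTop 276).base mqC htabs3 = true := by decide +kernel

theorem data3_ok : dataOK 7 sqL3 cmL3 = true := by decide +kernel

theorem rels3_ok : relsChkP mqlk 276 Uid 3 (gtabs3.map Prod.fst) 7 sqL3 cmL3 = true := by decide +kernel

theorem cert3_ok : certOKP 3 (PcD.ofLists 7 sqL3 cmL3) CC3
    (zformsP 3 (PcD.ofLists 7 sqL3 cmL3) 400 conL3
      (mkRel 3 (pwL3.map Prod.fst) [] (cmEL3.map Prod.fst) [])) certs3 = true := by decide +kernel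

theorem pw3_ok : pwChk mqlk 276 Uid 3 (gtabs3.map Prod.fst) (htabs3.map Prod.fst) pwL3 = true := by
  decide +kernel

theorem cm3_ok : cmChk mqlk 276 Uid (gtabs3.map Prod.fst) (htabs3.map Prod.fst) cmEL3 = true := by
  decide +kernel

theorem words3_inc : isStrictInc (words3.map fun l => sigW mqlk sbase
    (l.map fun i => (gtabs3.map Prod.fst).getD i Uid)) = true := by decide +kernel

theorem words3_length : words3.length = 3 ^ 7 := by decide +kernel

theorem gtabs5_chk : tabsChk mqlk 276 (mqRigidTop 276).base mqC gtabs5 = true := by decide +kernel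

theorem htabs5_chk : tabsChk mqlk 276 (mqRigidTop 276).base mqC htabs5 = true := by decide +kernel

theorem data5_ok : dataOK 3 sqL5 cmL5 = true := by decide +kernel

theorem rels5_ok : relsChkP mqlk 276 Uid 5 (gtabs5.map Prod.fst) 3 sqL5 cmL5 = true := by decide +kernel

theorem cert5_ok : certOKP 5 (PcD.ofLists 3 sqL5 cmL5) CC5
    (zformsP 5 (PcD.ofLists 3 sqL5 cmL5) 400 conL5
      (mkRel 5 (pwL5.map Prod.fst) [] (cmEL5.map Prod.fst) [])) certs5 = true := by decide +kernel

theorem pw5_ok : pwChk mqlk 276 Uid 5 (gtabs5.map Prod.fst) (htabs5.map Prod.fst) pwL5 = true := by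
  decide +kernel

theorem cm5_ok : cmChk mqlk 276 Uid (gtabs5.map Prod.fst) (htabs5.map Prod.fst) cmEL5 = true := by
  decide +kernel

theorem words5_inc : isStrictInc (words5.map fun l => sigW mqlk sbase
    (l.map fun i => (gtabs5.map Prod.fst).getD i Uid)) = true := by decide +kernel

theorem words5_length : words5.length = 5 ^ 3 := by decide +kernel

end Cfsg.Agent.Lib.Helper5.Co3M
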