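import Mathlib
import Cfsg.Agent.Lib.helper14.MQe
import Cfsg.Agent.Lib.Helper5.Co3Chk

set_option autoImplicit false

/-! Every finite stem extension of the third Conway group on 276 points has trivial kernel. -/

namespace Cfsg.Agent.Lib.Helper5.Co3M

open Cfsg Cfsg.Agent.Lib.helper14.MQ Cfsg.Agent.Lib.helper23 Cfsg.Agent.Lib.Helper5.CP Cfsg.Agent.Lib.Helper5.PcT Cfsg.Agent.Lib.Helper5.PcP Subgroup

/-- the group of the chain -/
abbrev KG : Subgroup (Equiv.Perm (Fin 276)) := pgGrpW 276 mqC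

/-- the group of the chain, as a type -/
abbrev HG : Type := ↥KG

theorem card_HG : Nat.card HG = 495766656000 := mqcard

instance : Finite HG := Nat.finite_of_card_ne_zero (by rw [card_HG]; norm_num)

/-- no finite stem extension has a kernel of order 2 -/
theorem no_stem_2 {Γ : Type*} [Group Γ] [Finite Γ] (σ : Γ →* HG) (hσ : Cfsg.IsStemExtension σ) :
    Nat.card σ.ker ≠ 2 := by
  obtain ⟨hg1, hg2⟩ := tabs_of_chk (mqRigidTop 276) mqchkC le_top rfl gtabs2 gtabs2_chk
  obtain ⟨hh1, hh2⟩ := tabs_of_chk (mqRigidTop 276) mqchkC le_top rfl htabs2 htabs2_chk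
  exact stem_card_ne_of_cert Uid chk_id 2 Nat.prime_two (gtabs2.map Prod.fst) (elList gtabs2 hg1)
    (elList_rep gtabs2 hg1 hg2) (htabs2.map Prod.fst) (elList htabs2 hh1)
    (elList_rep htabs2 hh1 hh2) 10 sqL2 cmL2 data2_ok (by rw [elList_length]; decide)
    rels2_ok 400 conL2 pwL2 [] cmEL2 [] CC2 certs2 cert2_ok pw2_ok cm2_ok sbase sbase_lt
    words2 words2_inc words2_length 495766656000 card_HG (by norm_num) σ hσ (by simp) (by simp)

/-- no finite stem extension has a kernel of order 3 -/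
theorem no_stem_3 {Γ : Type*} [Group Γ] [Finite Γ] (σ : Γ →* HG) (hσ : Cfsg.IsStemExtension σ) :
    Nat.card σ.ker ≠ 3 := by
  obtain ⟨hg1, hg2⟩ := tabs_of_chk (mqRigidTop 276) mqchkC le_top rfl gtabs3 gtabs3_chk
  obtain ⟨hh1, hh2⟩ := tabs_of_chk (mqRigidTop 276) mqchkC le_top rfl htabs3 htabs3_chk
  exact stem_card_ne_of_cert Uid chk_id 3 Nat.prime_three (gtabs3.map Prod.fst) (elList gtabs3 hg1)
    (elList_rep gtabs3 hg1 hg2) (htabs3.map Prod.fst) (elList htabs3 hh1)
    (elList_rep htabs3 hh1 hh2) 7 sqL3 cmL3 data3_ok (by rw [elList_length]; decide)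
    rels3_ok 400 conL3 pwL3 [] cmEL3 [] CC3 certs3 cert3_ok pw3_ok cm3_ok sbase sbase_lt
    words3 words3_inc words3_length 495766656000 card_HG (by norm_num) σ hσ (by simp) (by simp)

/-- no finite stem extension has a kernel of order 5 -/
theorem no_stem_5 {Γ : Type*} [Group Γ] [Finite Γ] (σ : Γ →* HG) (hσ : Cfsg.IsStemExtension σ) :
    Nat.card σ.ker ≠ 5 := by
  obtain ⟨hg1, hg2⟩ := tabs_of_chk (mqRigidTop 276) mqchkC le_top rfl gtabs5 gtabs5_chk
  obtain ⟨hh1, hh2⟩ := tabs_of_chk (mqRigidTop 276) mqchkC le_top rfl htabs5 htabs5_chk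
  exact stem_card_ne_of_cert Uid chk_id 5 Nat.prime_five (gtabs5.map Prod.fst) (elList gtabs5 hg1)
    (elList_rep gtabs5 hg1 hg2) (htabs5.map Prod.fst) (elList htabs5 hh1)
    (elList_rep htabs5 hh1 hh2) 3 sqL5 cmL5 data5_ok (by rw [elList_length]; decide)
    rels5_ok 400 conL5 pwL5 [] cmEL5 [] CC5 certs5 cert5_ok pw5_ok cm5_ok sbase sbase_lt
    words5 words5_inc words5_length 495766656000 card_HG (by norm_num) σ hσ (by simp) (by simp)

theorem sq_not_dvd (p : ℕ) (hp : p.Prime) (hmem : p ∉ [2, 3, 5]) : ¬ p ^ 2 ∣ 495766656000 := by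
  intro h
  have h2 : p ≠ 2 := fun e => hmem (by simp [e])
  have h3 : p ≠ 3 := fun e => hmem (by simp [e])
  have h5 : p ≠ 5 := fun e => hmem (by simp [e])
  have e : (495766656000 : ℕ) = (2 ^ 10 * 3 ^ 7 * 5 ^ 3) * 1771 := by norm_num
  rw [e] at h
  have hc2 : Nat.Coprime p 2 := (Nat.coprime_primes hp Nat.prime_two).mpr h2
  have hc3 : Nat.Coprime p 3 := (Nat.coprime_primes hp Nat.prime_three).mpr h3
  have hc5 : Nat.Coprime p 5 := (Nat.coprime_primes hp Nat.prime_five).mpr h5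
  have hc : Nat.Coprime (p ^ 2) (2 ^ 10 * 3 ^ 7 * 5 ^ 3) := by
    apply Nat.Coprime.pow_left
    apply Nat.Coprime.mul_right
    · apply Nat.Coprime.mul_right
      · exact Nat.Coprime.pow_right _ hc2
      · exact Nat.Coprime.pow_right _ hc3
    · exact Nat.Coprime.pow_right _ hc5
  have h1 : p ^ 2 ∣ 1771 := hc.dvd_of_dvd_mul_left h
  have hle : p ^ 2 ≤ 1771 := Nat.le_of_dvd (by norm_num) h1
  have hp43 : p < 43 := by
    by_contra hge
    push Not at hge
    have : 43 ^ 2 ≤ p ^ 2 := Nat.pow_le_pow_left hge 2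
    omega
  interval_cases p <;> first | exact absurd h1 (by decide) | exact absurd hp (by decide)

/-- every finite stem extension of the group on 276 points has trivial kernel -/
theorem stem_ker_trivial.{u} {Γ : Type u} [Group Γ] [Finite Γ] (σ : Γ →* HG)
    (hσ : Cfsg.IsStemExtension σ) : ∀ z ∈ σ.ker, z = 1 := by
  apply stem_ker_trivial_of_list 495766656000 card_HG [2, 3, 5] sq_not_dvd _ σ hσ
  intro p hp Γ' _ _ σ' hσ'
  simp only [List.mem_cons, List.not_mem_nil, or_false] at hp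
  rcases hp with rfl | rfl | rfl
  · exact no_stem_2 σ' hσ'
  · exact no_stem_3 σ' hσ'
  · exact no_stem_5 σ' hσ'

/-- the Schur multiplier of the third Conway group is trivial -/
theorem co3_multiplier : Cfsg.HasCyclicSchurMultiplier ↥Cfsg.Spor.Co3 1 := by
  obtain ⟨e⟩ := M276_equiv
  have e' : ↥Cfsg.Spor.Co3 ≃* HG := e.trans (MulEquiv.subgroupCongr M276_eq)
  exact hasCyclicSchurMultiplier_one_of_equiv e' (fun Γ _ _ σ hσ => stem_ker_trivial σ hσ)

end Cfsg.Agent.Lib.Helper5.Co3M
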