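import Mathlib
import Cfsg.Prelude.Def_Transfer
import Cfsg.Prelude.Def_Solvable
import Cfsg.Prelude.Def_CaseTheorems
import Cfsg.Agent.Lib.Helper1.Cores
import Cfsg.Agent.Lib.Helper5.InvSylow

set_option autoImplicit false

namespace Cfsg.Agent.Lib.Helper5

open scoped Pointwise

theorem eq_of_sup_eq_top_of_disjoint {X : Type*} [Group X] (L M T : Subgroup X) [L.Normal]
    (hLM : L ≤ M) (hMT : M ⊓ T = ⊥) (hsup : L ⊔ T = ⊤) : L = M := by
  apply le_antisymm hLM
  intro m hm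
  have h1 : m ∈ ((L ⊔ T : Subgroup X) : Set X) := by
    rw [hsup]; trivial
  rw [Subgroup.normal_mul] at h1
  obtain ⟨l, hl, t, ht, hlt⟩ := h1
  have hlt' : l * t = m := hlt
  have h2 : t ∈ M ⊓ T := by
    refine ⟨?_, ht⟩
    have : t = l⁻¹ * m := by rw [← hlt']; group
    rw [this]
    exact M.mul_mem (M.inv_mem (hLM hl)) hm
  rw [hMT, Subgroup.mem_bot] at h2
  rw [← hlt', h2, mul_one]
  exact hl

theorem two_elements_commute_of_coatom {Y : Type*} [Group Y] [Finite Y] {p : ℕ} [Fact p.Prime]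
    (hp : p ≠ 2) (Tb : Subgroup Y) (hTb : IsPGroup p Tb)
    (hco : ∀ Z : Subgroup Y, Tb ≤ Z → Z = Tb ∨ Z = ⊤)
    (M : Subgroup Y) [hMn : M.Normal] (hMcop : (Nat.card M).Coprime p) :
    ∀ a ∈ M, ∀ b ∈ M, (∃ k : ℕ, a ^ (2 ^ k) = 1) → (∃ k : ℕ, b ^ (2 ^ k) = 1) → a * b = b * a := by
  have hpp : p.Prime := Fact.out
  haveI : Fact (Nat.Prime 2) := ⟨Nat.prime_two⟩
  have hMT : M ⊓ Tb = ⊥ := by
    obtain ⟨j, hj⟩ := hTb.exists_card_eq
    have : (Nat.card M).Coprime (Nat.card Tb) := by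
      rw [hj]; exact Nat.Coprime.pow_right j hMcop
    exact (Subgroup.disjoint_of_coprime_natCard this).eq_bot
  have hAR : Tb ≤ Subgroup.normalizer (M : Set Y) := by
    rw [Subgroup.normalizer_eq_top_iff.mpr hMn]; exact le_top
  have hcop : (Nat.card Tb).Coprime (Nat.card M) := by
    obtain ⟨j, hj⟩ := hTb.exists_card_eq
    rw [hj]; exact Nat.Coprime.pow_left j hMcop.symm
  haveI : Group.IsNilpotent Tb := hTb.isNilpotent
  have hsolv : Group.IsSolvable Tb := inferInstance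
  obtain ⟨Q₂, hQM, hQp, hQn, hQc⟩ := exists_invariant_sylow_sub Tb M hAR hcop hsolv 2
  rcases hco (Q₂ ⊔ Tb) le_sup_right with h | h
  · have hQbot : Q₂ = ⊥ := by
      rw [eq_bot_iff, ← hMT]
      exact le_inf hQM (le_sup_left.trans h.le)
    rw [hQbot, Subgroup.card_bot] at hQc
    have hv : (Nat.card M).factorization 2 = 0 := by
      by_contra hne
      have : 2 ≤ 2 ^ (Nat.card M).factorization 2 :=
        le_self_pow₀ (by norm_num) hne
      omega
    have hodd : ¬ 2 ∣ Nat.card M := by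
      intro hdvd
      have := (Nat.Prime.pow_dvd_iff_le_factorization Nat.prime_two Nat.card_pos.ne').mp
        (by rw [pow_one]; exact hdvd : 2 ^ 1 ∣ Nat.card M)
      omega
    have htriv : ∀ a ∈ M, (∃ k : ℕ, a ^ (2 ^ k) = 1) → a = 1 := by
      intro a ha ⟨k, hk⟩
      have h1 : a ^ Nat.card M = 1 := by
        have := pow_card_eq_one' (G := M) (x := ⟨a, ha⟩)
        exact congrArg Subtype.val this
      have hc : Nat.Coprime (2 ^ k) (Nat.card M) :=
        Nat.Coprime.pow_left k ((Nat.Prime.coprime_iff_not_dvd Nat.prime_two).mpr hodd)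
      exact (pow_eq_one_iff_of_coprime hc).mp ⟨hk, h1⟩
    intro a ha b hb hak hbk
    rw [htriv a ha hak, htriv b hb hbk]
  · have hQnorm : Q₂.Normal := by
      rw [← Subgroup.normalizer_eq_top_iff, eq_top_iff, ← h]
      exact sup_le Subgroup.le_normalizer hQn
    have hQM' : Q₂ = M := eq_of_sup_eq_top_of_disjoint Q₂ M Tb hQM hMT h
    have hM2 : IsPGroup 2 M := hQM' ▸ hQp
    haveI hCn : (Subgroup.centralizer (M : Set Y)).Normal := Subgroup.normal_centralizer
    haveI hZn : (M ⊓ Subgroup.centralizer (M : Set Y)).Normal := Subgroup.normal_inf_normal _ _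
    rcases hco ((M ⊓ Subgroup.centralizer (M : Set Y)) ⊔ Tb) le_sup_right with h' | h'
    · have hZbot : M ⊓ Subgroup.centralizer (M : Set Y) = ⊥ := by
        rw [eq_bot_iff, ← hMT]
        exact le_inf inf_le_left (le_sup_left.trans h'.le)
      have hMbot : M = ⊥ := by
        by_contra hM1
        haveI : Nontrivial M := (Subgroup.nontrivial_iff_ne_bot _).mpr hM1
        haveI hZ : Nontrivial (Subgroup.center M) := hM2.center_nontrivial
        obtain ⟨⟨z, hzc⟩, hz1⟩ := exists_ne (1 : Subgroup.center M)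
        have hzmem : (z : Y) ∈ M ⊓ Subgroup.centralizer (M : Set Y) := by
          refine ⟨z.2, (?_ : (z : Y) ∈ Subgroup.centralizer (M : Set Y))⟩
          rw [Subgroup.mem_centralizer_iff]
          intro m hm
          rw [Subgroup.mem_center_iff] at hzc
          exact congrArg Subtype.val (hzc ⟨m, hm⟩)
        rw [hZbot, Subgroup.mem_bot] at hzmem
        apply hz1
        apply Subtype.ext
        apply Subtype.ext
        exact hzmem
      intro a ha b hb _ _
      rw [hMbot, Subgroup.mem_bot] at ha hb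
      rw [ha, hb]
    · have hZM : M ⊓ Subgroup.centralizer (M : Set Y) = M :=
        eq_of_sup_eq_top_of_disjoint _ M Tb inf_le_left hMT h'
      intro a ha b hb _ _
      have hb' : b ∈ M ⊓ Subgroup.centralizer (M : Set Y) := by rw [hZM]; exact hb
      have hb'' : b ∈ Subgroup.centralizer (M : Set Y) := hb'.2
      rw [Subgroup.mem_centralizer_iff] at hb''
      exact hb'' a ha

theorem sylow_two_comm_of_coatom {X : Type*} [Group X] [Finite X] {p : ℕ} [Fact p.Prime]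
    (hp : p ≠ 2) (T : Sylow p X) (hT : IsCoatom (T : Subgroup X))
    (hnpc : Cfsg.HasNormalPComplement p (X ⧸ Cfsg.pCore p X)) :
    ∀ D : Sylow 2 X, IsMulCommutative D := by
  have hpp : p.Prime := Fact.out
  haveI : Fact (Nat.Prime 2) := ⟨Nat.prime_two⟩
  have hsurj := QuotientGroup.mk'_surjective (Cfsg.pCore p X)
  have hOT : Cfsg.pCore p X ≤ T := Cfsg.Agent.Lib.Helper1.pCore_le_sylow p T
  have hOp : IsPGroup p ↥(Cfsg.pCore p X) := Cfsg.Agent.Lib.Helper1.pCore_isPGroup p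
  have hTb : IsPGroup p ((T : Subgroup X).map (QuotientGroup.mk' (Cfsg.pCore p X))) :=
    T.isPGroup'.map _
  have hco : ∀ Z : Subgroup (X ⧸ Cfsg.pCore p X),
      (T : Subgroup X).map (QuotientGroup.mk' (Cfsg.pCore p X)) ≤ Z →
      Z = (T : Subgroup X).map (QuotientGroup.mk' (Cfsg.pCore p X)) ∨ Z = ⊤ := by
    intro Z hZ
    have h1 : (T : Subgroup X) ≤ Z.comap (QuotientGroup.mk' (Cfsg.pCore p X)) :=
      (Subgroup.le_comap_map _ _).trans (Subgroup.comap_mono hZ)
    have h2 : Z = (Z.comap (QuotientGroup.mk' (Cfsg.pCore p X))).map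
        (QuotientGroup.mk' (Cfsg.pCore p X)) :=
      (Subgroup.map_comap_eq_self_of_surjective hsurj Z).symm
    rcases hT.le_iff.mp h1 with h | h
    · right
      rw [h2, h, Subgroup.map_top_of_surjective _ hsurj]
    · left
      rw [h2, h]
  obtain ⟨Pb, M, hMn, hM⟩ := hnpc
  haveI := hMn
  have hMcop : (Nat.card M).Coprime p := by
    have h1 : (Pb : Subgroup (X ⧸ Cfsg.pCore p X)).index = Nat.card M := hM.index_eq_card
    rw [← h1]
    exact ((Nat.Prime.coprime_iff_not_dvd hpp).mpr Pb.not_dvd_index).symm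
  have hMidx : M.index = Nat.card (Pb : Subgroup (X ⧸ Cfsg.pCore p X)) := hM.symm.index_eq_card
  obtain ⟨b, hb⟩ := Pb.isPGroup'.exists_card_eq
  have key := two_elements_commute_of_coatom hp _ hTb hco M hMcop
  have hmemM : ∀ x : X, (∃ k : ℕ, x ^ (2 ^ k) = 1) →
      QuotientGroup.mk' (Cfsg.pCore p X) x ∈ M := by
    rintro x ⟨k, hk⟩
    rw [← QuotientGroup.eq_one_iff]
    have h1 : ((QuotientGroup.mk' (Cfsg.pCore p X) x : X ⧸ Cfsg.pCore p X) :
        (X ⧸ Cfsg.pCore p X) ⧸ M) ^ (2 ^ k) = 1 := by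
      rw [← QuotientGroup.mk_pow, ← map_pow, hk, map_one]; rfl
    have h2 : ((QuotientGroup.mk' (Cfsg.pCore p X) x : X ⧸ Cfsg.pCore p X) :
        (X ⧸ Cfsg.pCore p X) ⧸ M) ^ (p ^ b) = 1 := by
      rw [← QuotientGroup.mk_pow, QuotientGroup.eq_one_iff, ← hb, ← hMidx]
      exact Subgroup.pow_index_mem M _
    have hc : Nat.Coprime (2 ^ k) (p ^ b) :=
      Nat.Coprime.pow _ _ ((Nat.coprime_primes Nat.prime_two hpp).mpr (Ne.symm hp))
    exact (pow_eq_one_iff_of_coprime hc).mp ⟨h1, h2⟩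
  intro D
  refine ⟨⟨fun x y => ?_⟩⟩
  apply Subtype.ext
  have h2x : ∃ k : ℕ, (x : X) ^ (2 ^ k) = 1 := by
    obtain ⟨k, hk⟩ := D.isPGroup' x
    exact ⟨k, by simpa using congrArg Subtype.val hk⟩
  have h2y : ∃ k : ℕ, (y : X) ^ (2 ^ k) = 1 := by
    obtain ⟨k, hk⟩ := D.isPGroup' y
    exact ⟨k, by simpa using congrArg Subtype.val hk⟩
  have hpow : ∀ z : X, (∃ k : ℕ, z ^ (2 ^ k) = 1) →
      ∃ k : ℕ, (QuotientGroup.mk' (Cfsg.pCore p X) z) ^ (2 ^ k) = 1 := by
    rintro z ⟨k, hk⟩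
    exact ⟨k, by rw [← map_pow, hk, map_one]⟩
  have h1 := key _ (hmemM _ h2x) _ (hmemM _ h2y) (hpow _ h2x) (hpow _ h2y)
  rw [← map_mul, ← map_mul] at h1
  have h3 : ((x : X) * y)⁻¹ * (y * x) ∈ Cfsg.pCore p X := by
    rw [← QuotientGroup.eq_one_iff]
    show QuotientGroup.mk' (Cfsg.pCore p X) (((x : X) * y)⁻¹ * (y * x)) = 1
    rw [map_mul, map_inv, h1, inv_mul_cancel]
  have h4 : ((x : X) * y)⁻¹ * (y * x) ∈ (D : Subgroup X) :=
    (D : Subgroup X).mul_mem ((D : Subgroup X).inv_mem ((D : Subgroup X).mul_mem x.2 y.2))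
      ((D : Subgroup X).mul_mem y.2 x.2)
  have hdis : Disjoint (D : Subgroup X) (Cfsg.pCore p X) :=
    IsPGroup.disjoint_of_ne 2 p (Ne.symm hp) _ _ D.isPGroup' hOp
  have h5 : ((x : X) * y)⁻¹ * (y * x) = 1 := by
    have := hdis.le_bot ⟨h4, h3⟩
    exact this
  have h6 : (y : X) * x = x * y := by
    have := inv_mul_eq_one.mp h5
    exact this.symm
  rw [Subgroup.coe_mul, Subgroup.coe_mul]
  exact h6.symm

end Cfsg.Agent.Lib.Helper5
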