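import Mathlib

set_option autoImplicit false

namespace Cfsg.Agent.Lib.Helper5.CycP

variable {P : Type*} [Group P]

theorem eq_one_of_sq {p : ℕ} (hp : p.Prime) (hp2 : p ≠ 2) (hP : IsPGroup p P) {x : P}
    (hx : x * x = 1) : x = 1 := by
  obtain ⟨k, hk⟩ := hP x
  have h2 : x ^ 2 = 1 := by rw [pow_two]; exact hx
  have hc : Nat.Coprime (p ^ k) 2 := by
    apply Nat.Coprime.pow_left
    rw [Nat.coprime_primes hp Nat.prime_two]
    exact hp2
  have := pow_gcd_eq_one.mpr ⟨hk, h2⟩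
  rw [hc.gcd_eq_one, pow_one] at this
  exact this

theorem exists_orderOf_eq {p : ℕ} (hp : p.Prime) (hP : IsPGroup p P) {x : P} (hx : x ≠ 1) :
    orderOf (x ^ (orderOf x / p)) = p := by
  haveI : Fact p.Prime := ⟨hp⟩
  obtain ⟨k, hk⟩ := (IsPGroup.iff_orderOf.mp hP) x
  have hk0 : k ≠ 0 := by
    rintro rfl
    rw [pow_zero, orderOf_eq_one_iff] at hk
    exact hx hk
  have h0 : orderOf x ≠ 0 := by
    rw [hk]; exact pow_ne_zero _ hp.ne_zero
  have hdvd : p ∣ orderOf x := by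
    rw [hk]; exact dvd_pow_self p hk0
  exact orderOf_pow_orderOf_div h0 hdvd

theorem bottom_mem {p : ℕ} (hp : p.Prime) (hP : IsPGroup p P) (g : P) (A : Subgroup P)
    (hA : A ≤ Subgroup.zpowers g) (hne : A ≠ ⊥) : g ^ (orderOf g / p) ∈ A := by
  haveI : Fact p.Prime := ⟨hp⟩
  obtain ⟨a, ha1⟩ := (Subgroup.ne_bot_iff_exists_ne_one).mp hne
  have ha1' : (a : P) ≠ 1 := fun h => ha1 (Subtype.ext h)
  have hg1 : g ≠ 1 := by
    rintro rfl
    have := hA a.2
    rw [Subgroup.zpowers_one_eq_bot, Subgroup.mem_bot] at this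
    exact ha1' this
  set w := g ^ (orderOf g / p) with hw
  have how : orderOf w = p := exists_orderOf_eq hp hP hg1
  set u := (a : P) ^ (orderOf (a : P) / p) with hu
  have hou : orderOf u = p := exists_orderOf_eq hp hP ha1'
  have huA : u ∈ A := A.pow_mem a.2 _
  obtain ⟨k, hk⟩ := (IsPGroup.iff_orderOf.mp hP) g
  have hk0 : k ≠ 0 := by
    rintro rfl
    rw [pow_zero, orderOf_eq_one_iff] at hk
    exact hg1 hk
  have hNp : orderOf g = (orderOf g / p) * p := by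
    rw [Nat.div_mul_cancel]
    rw [hk]; exact dvd_pow_self p hk0
  have huw : u ∈ Subgroup.zpowers w := by
    obtain ⟨m, hm⟩ := Subgroup.mem_zpowers_iff.mp (hA huA)
    have h1 : g ^ (m * (p : ℤ)) = 1 := by
      rw [zpow_mul, hm, zpow_natCast, ← hou, pow_orderOf_eq_one]
    have h2 : ((orderOf g : ℕ) : ℤ) ∣ m * p := orderOf_dvd_iff_zpow_eq_one.mpr h1
    have h3 : ((orderOf g / p : ℕ) : ℤ) ∣ m := by
      have hp0 : (p : ℤ) ≠ 0 := by exact_mod_cast hp.ne_zero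
      have h4 : ((orderOf g / p : ℕ) : ℤ) * (p : ℤ) ∣ m * p := by
        have : ((orderOf g / p : ℕ) : ℤ) * (p : ℤ) = ((orderOf g : ℕ) : ℤ) := by
          exact_mod_cast hNp.symm
        rw [this]; exact h2
      exact (mul_dvd_mul_iff_right hp0).mp h4
    obtain ⟨t, ht⟩ := h3
    rw [Subgroup.mem_zpowers_iff]
    refine ⟨t, ?_⟩
    rw [← hm, ht, zpow_mul, hw, zpow_natCast]
  have hle : Subgroup.zpowers u ≤ Subgroup.zpowers w := by
    rw [Subgroup.zpowers_le]; exact huw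
  have hfin : Finite ↥(Subgroup.zpowers w) := by
    have h1 : Nat.card ↥(Subgroup.zpowers w) = p := by rw [Nat.card_zpowers, how]
    have h2 : Nat.card ↥(Subgroup.zpowers w) ≠ 0 := by rw [h1]; exact hp.ne_zero
    exact Nat.finite_of_card_ne_zero h2
  have heq : Subgroup.zpowers u = Subgroup.zpowers w := by
    apply Subgroup.eq_of_le_of_card_ge hle
    rw [Nat.card_zpowers, Nat.card_zpowers, how, hou]
  have : w ∈ Subgroup.zpowers u := by rw [heq]; exact Subgroup.mem_zpowers w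
  exact (Subgroup.zpowers_le.mpr huA) this

theorem bottom_ne_one {p : ℕ} (hp : p.Prime) (hP : IsPGroup p P) (g : P) (hg : g ≠ 1) :
    g ^ (orderOf g / p) ≠ 1 := by
  intro h
  have := exists_orderOf_eq hp hP hg
  rw [h, orderOf_one] at this
  exact hp.one_lt.ne this

theorem inf_ne_bot {p : ℕ} (hp : p.Prime) (hP : IsPGroup p P) (g : P) (A B : Subgroup P)
    (hA : A ≤ Subgroup.zpowers g) (hB : B ≤ Subgroup.zpowers g) (hAne : A ≠ ⊥) (hBne : B ≠ ⊥) :
    A ⊓ B ≠ ⊥ := by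
  have h1 := bottom_mem hp hP g A hA hAne
  have h2 := bottom_mem hp hP g B hB hBne
  have hg1 : g ≠ 1 := by
    rintro rfl
    rw [Subgroup.zpowers_one_eq_bot, le_bot_iff] at hA
    exact hAne hA
  intro h
  have : g ^ (orderOf g / p) ∈ A ⊓ B := ⟨h1, h2⟩
  rw [h, Subgroup.mem_bot] at this
  exact bottom_ne_one hp hP g hg1 this

theorem fix_or_inv {p : ℕ} (hp : p.Prime) (hp2 : p ≠ 2) (hP : IsPGroup p P) (g : P)
    (t : MulAut P) (ht : ∀ x, t (t x) = x) (hinv : t g ∈ Subgroup.zpowers g) :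
    t g = g ∨ t g = g⁻¹ := by
  by_contra hcon
  push Not at hcon
  obtain ⟨h1, h2⟩ := hcon
  obtain ⟨m, hm⟩ := Subgroup.mem_zpowers_iff.mp hinv
  have hcomm : g * t g = t g * g := by
    rw [← hm]
    exact ((Commute.refl g).zpow_right m).eq
  obtain ⟨u, hu⟩ : ∃ u, u = g * t g := ⟨_, rfl⟩
  obtain ⟨v, hv⟩ : ∃ v, v = g⁻¹ * t g := ⟨_, rfl⟩
  have hu1 : u ≠ 1 := by
    intro h
    apply h2
    rw [hu] at h
    exact (eq_inv_of_mul_eq_one_right h)
  have hv1 : v ≠ 1 := by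
    intro h
    apply h1
    rw [hv] at h
    have := inv_mul_eq_one.mp h
    exact this.symm
  have htu : t u = u := by
    rw [hu, map_mul, ht, hcomm]
  have htv : t v = v⁻¹ := by
    rw [hv, map_mul, map_inv, ht, mul_inv_rev, inv_inv]
  have huz : u ∈ Subgroup.zpowers g := by
    rw [hu]; exact (Subgroup.zpowers g).mul_mem (Subgroup.mem_zpowers g) hinv
  have hvz : v ∈ Subgroup.zpowers g := by
    rw [hv]
    exact (Subgroup.zpowers g).mul_mem ((Subgroup.zpowers g).inv_mem (Subgroup.mem_zpowers g)) hinv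
  have hA : Subgroup.zpowers u ≠ ⊥ := by
    rw [Ne, Subgroup.zpowers_eq_bot]; exact hu1
  have hB : Subgroup.zpowers v ≠ ⊥ := by
    rw [Ne, Subgroup.zpowers_eq_bot]; exact hv1
  have hne := inf_ne_bot hp hP g _ _ (Subgroup.zpowers_le.mpr huz) (Subgroup.zpowers_le.mpr hvz) hA hB
  apply hne
  rw [eq_bot_iff]
  rintro w ⟨hwu, hwv⟩
  rw [Subgroup.mem_bot]
  obtain ⟨i, hi⟩ := Subgroup.mem_zpowers_iff.mp hwu
  obtain ⟨j, hj⟩ := Subgroup.mem_zpowers_iff.mp hwv
  have e1 : t w = w := by rw [← hi, map_zpow, htu]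
  have e2 : t w = w⁻¹ := by rw [← hj, map_zpow, htv, inv_zpow]
  apply eq_one_of_sq hp hp2 hP
  have : w = w⁻¹ := e1.symm.trans e2
  exact mul_eq_one_iff_eq_inv.mpr this

theorem fix_or_inv_all {p : ℕ} (hp : p.Prime) (hp2 : p ≠ 2) (hP : IsPGroup p P) (g : P)
    (t : MulAut P) (ht : ∀ x, t (t x) = x) (hinv : t g ∈ Subgroup.zpowers g) :
    (∀ x ∈ Subgroup.zpowers g, t x = x) ∨ (∀ x ∈ Subgroup.zpowers g, t x = x⁻¹) := by
  rcases fix_or_inv hp hp2 hP g t ht hinv with h | h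
  · left
    intro x hx
    obtain ⟨i, rfl⟩ := Subgroup.mem_zpowers_iff.mp hx
    rw [map_zpow, h]
  · right
    intro x hx
    obtain ⟨i, rfl⟩ := Subgroup.mem_zpowers_iff.mp hx
    rw [map_zpow, h, inv_zpow]

end Cfsg.Agent.Lib.Helper5.CycP
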