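import Mathlib
import Cfsg.Prelude.Def_Solvable
import Cfsg.Prelude.Def_PLocal
import Cfsg.Prelude.Def_DStar
import Cfsg.Agent.Lib.Helper1.Cores
import Cfsg.Agent.S3061

set_option autoImplicit false

namespace Cfsg.Agent.Lib.Helper5.DStar

open scoped commutatorElement Pointwise

variable {G : Type*} [Group G]

theorem cl2_map (H : Subgroup G) (A : Subgroup H) (x : H) :
    ⁅⁅A ⊔ Subgroup.zpowers x, A ⊔ Subgroup.zpowers x⁆, A ⊔ Subgroup.zpowers x⁆ = ⊥ ↔
    ⁅⁅A.map H.subtype ⊔ Subgroup.zpowers (x : G), A.map H.subtype ⊔ Subgroup.zpowers (x : G)⁆,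
      A.map H.subtype ⊔ Subgroup.zpowers (x : G)⁆ = ⊥ := by
  have h : (A ⊔ Subgroup.zpowers x).map H.subtype = A.map H.subtype ⊔ Subgroup.zpowers (x : G) := by
    rw [Subgroup.map_sup, MonoidHom.map_zpowers]; rfl
  rw [← h, ← Subgroup.map_commutator, ← Subgroup.map_commutator,
    Subgroup.map_eq_bot_iff_of_injective _ H.subtype_injective]

theorem commutator_le_left_of_le_normalizer (A H : Subgroup G)
    (h : H ≤ Subgroup.normalizer (A : Set G)) : ⁅A, H⁆ ≤ A := by
  rw [Subgroup.commutator_le]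
  intro a ha b hb
  have hb' := h hb
  rw [Subgroup.mem_normalizer_iff] at hb'
  have : ⁅a, b⁆ = a * (b * a⁻¹ * b⁻¹) := by
    simp [commutatorElement_def, mul_assoc]
  rw [this]
  exact A.mul_mem ha ((hb' a⁻¹).mp (A.inv_mem ha))

theorem cl2_of_quadratic (A : Subgroup G) (hA : IsMulCommutative A) (x : G)
    (hx : x ∈ Subgroup.normalizer (A : Set G))
    (hq : ⁅⁅A, Subgroup.zpowers x⁆, Subgroup.zpowers x⁆ = ⊥) :
    ⁅⁅A ⊔ Subgroup.zpowers x, A ⊔ Subgroup.zpowers x⁆, A ⊔ Subgroup.zpowers x⁆ = ⊥ := by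
  set Zx := Subgroup.zpowers x with hZx
  set K := ⁅A, Zx⁆ with hK
  have hZN : Zx ≤ Subgroup.normalizer (A : Set G) := by
    rw [hZx, Subgroup.zpowers_le]; exact hx
  have hKA : K ≤ A := commutator_le_left_of_le_normalizer A Zx hZN
  have hAc : A ≤ Subgroup.centralizer (A : Set G) :=
    Subgroup.le_centralizer_iff_isMulCommutative.mpr hA
  have hKZ : K ≤ Subgroup.centralizer (Zx : Set G) :=
    Subgroup.commutator_eq_bot_iff_le_centralizer.mp hq
  have hZK : Zx ≤ Subgroup.centralizer (K : Set G) := Subgroup.le_centralizer_iff.mp hKZ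
  have hZZ : Zx ≤ Subgroup.centralizer (Zx : Set G) := by
    rw [Subgroup.le_centralizer_iff_isMulCommutative]
    infer_instance
  have hAK : A ≤ Subgroup.centralizer (K : Set G) :=
    le_trans hAc (Subgroup.centralizer_le (by exact_mod_cast hKA))
  have hKK : K ≤ Subgroup.centralizer (K : Set G) := le_trans hKA hAK
  set Y := Zx ⊔ K with hY
  have hYc : IsMulCommutative Y := by
    rw [← Subgroup.le_centralizer_iff_isMulCommutative]
    apply sup_le
    · rw [Subgroup.le_centralizer_iff]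
      exact sup_le hZZ hKZ
    · rw [Subgroup.le_centralizer_iff]
      exact sup_le hZK hKK
  have hconj : ∀ a ∈ A, ∀ y ∈ Y, a * y * a⁻¹ ∈ Y := by
    intro a ha y hy
    have hmap : Y.map (MulAut.conj a).toMonoidHom ≤ Y := by
      rw [hY, Subgroup.map_sup]
      apply sup_le
      · rw [hZx, MonoidHom.map_zpowers, Subgroup.zpowers_le]
        have : (MulAut.conj a).toMonoidHom x = ⁅a, x⁆ * x := by
          simp [commutatorElement_def, mul_assoc]
        rw [this]
        refine Y.mul_mem (le_sup_right (a := Zx) ?_) (le_sup_left (b := K) (Subgroup.mem_zpowers x))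
        exact Subgroup.commutator_mem_commutator ha (Subgroup.mem_zpowers x)
      · rintro _ ⟨k, hk, rfl⟩
        have hkc := hAK ha
        rw [Subgroup.mem_centralizer_iff] at hkc
        have : (MulAut.conj a).toMonoidHom k = k := by
          show a * k * a⁻¹ = k
          rw [← hkc k hk]; simp
        rw [this]
        exact le_sup_right (a := Zx) hk
    exact hmap ⟨y, hy, rfl⟩
  have hAY : A ≤ Subgroup.normalizer (Y : Set G) := by
    intro a ha
    rw [Subgroup.mem_normalizer_iff]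
    intro y
    constructor
    · exact hconj a ha y
    · intro h
      have := hconj a⁻¹ (A.inv_mem ha) _ h
      simpa [mul_assoc] using this
  refine Cfsg.Agent.S3061.class_two_of_sup (A ⊔ Zx) A Y le_sup_left
    (sup_le le_sup_right (le_trans hKA le_sup_left)) hA hYc
    (sup_le Subgroup.le_normalizer hZN)
    (sup_le hAY (le_trans le_sup_left Subgroup.le_normalizer)) ?_
  apply le_antisymm
  · exact sup_le le_sup_left (sup_le le_sup_right (le_trans hKA le_sup_left))
  · exact sup_le_sup_left le_sup_left _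


theorem commutator_sup_centralizing (X H C : Subgroup G) [C.Normal]
    (hC : C ≤ Subgroup.centralizer (X : Set G)) : ⁅X, H ⊔ C⁆ = ⁅X, H⁆ := by
  apply le_antisymm
  · rw [Subgroup.commutator_le]
    intro x hx g hg
    have hg' : g ∈ (H : Set G) * (C : Set G) := by
      rw [← Subgroup.mul_normal]; exact hg
    obtain ⟨h, hh, c, hc, rfl⟩ := hg'
    have hcx := hC hc
    rw [Subgroup.mem_centralizer_iff] at hcx
    have h1 : c * x⁻¹ = x⁻¹ * c := by
      have := hcx x hx
      calc c * x⁻¹ = x⁻¹ * (x * c) * x⁻¹ := by simp [mul_assoc]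
        _ = x⁻¹ * (c * x) * x⁻¹ := by rw [this]
        _ = x⁻¹ * c := by simp [mul_assoc]
    have : ⁅x, h * c⁆ = ⁅x, h⁆ := by
      simp only [commutatorElement_def, mul_inv_rev]
      calc x * (h * c) * x⁻¹ * (c⁻¹ * h⁻¹) = x * h * (c * x⁻¹) * c⁻¹ * h⁻¹ := by simp [mul_assoc]
        _ = x * h * (x⁻¹ * c) * c⁻¹ * h⁻¹ := by rw [h1]
        _ = x * h * x⁻¹ * h⁻¹ := by simp [mul_assoc]
    rw [this]
    exact Subgroup.commutator_mem_commutator hx hh
  · exact Subgroup.commutator_mono le_rfl le_sup_left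

theorem quadratic_of_same_action (L : Subgroup G) [L.Normal] (a b : G)
    (hab : a⁻¹ * b ∈ Subgroup.centralizer (L : Set G))
    (hq : ⁅⁅L, Subgroup.zpowers a⁆, Subgroup.zpowers a⁆ = ⊥) :
    ⁅⁅L, Subgroup.zpowers b⁆, Subgroup.zpowers b⁆ = ⊥ := by
  set C := Subgroup.centralizer (L : Set G) with hC
  haveI : C.Normal := by rw [hC]; infer_instance
  have hsup : Subgroup.zpowers a ⊔ C = Subgroup.zpowers b ⊔ C := by
    apply le_antisymm
    · apply sup_le _ le_sup_right
      rw [Subgroup.zpowers_le]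
      have : a = b * (a⁻¹ * b)⁻¹ := by simp
      rw [this]
      exact (Subgroup.zpowers b ⊔ C).mul_mem (le_sup_left (b := C) (Subgroup.mem_zpowers b))
        (le_sup_right (a := Subgroup.zpowers b) (C.inv_mem hab))
    · apply sup_le _ le_sup_right
      rw [Subgroup.zpowers_le]
      have : b = a * (a⁻¹ * b) := by simp
      rw [this]
      exact (Subgroup.zpowers a ⊔ C).mul_mem (le_sup_left (b := C) (Subgroup.mem_zpowers a))
        (le_sup_right (a := Subgroup.zpowers a) hab)
  have hCL : C ≤ Subgroup.centralizer (L : Set G) := le_rfl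
  have hK : ⁅L, Subgroup.zpowers b⁆ = ⁅L, Subgroup.zpowers a⁆ := by
    rw [← commutator_sup_centralizing L (Subgroup.zpowers b) C hCL,
      ← commutator_sup_centralizing L (Subgroup.zpowers a) C hCL, hsup]
  have hKL : ⁅L, Subgroup.zpowers a⁆ ≤ L := Subgroup.commutator_le_left L _
  have hCK : C ≤ Subgroup.centralizer ((⁅L, Subgroup.zpowers a⁆ : Subgroup G) : Set G) :=
    le_trans hCL (Subgroup.centralizer_le (by exact_mod_cast hKL))
  rw [hK, ← commutator_sup_centralizing _ (Subgroup.zpowers b) C hCK, ← hsup,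
    commutator_sup_centralizing _ (Subgroup.zpowers a) C hCK]
  exact hq

theorem quadratic_conj (L : Subgroup G) [L.Normal] (x g : G)
    (hq : ⁅⁅L, Subgroup.zpowers x⁆, Subgroup.zpowers x⁆ = ⊥) :
    ⁅⁅L, Subgroup.zpowers (g * x * g⁻¹)⁆, Subgroup.zpowers (g * x * g⁻¹)⁆ = ⊥ := by
  have hL : L.map (MulAut.conj g).toMonoidHom = L := by
    apply le_antisymm
    · rintro _ ⟨l, hl, rfl⟩
      exact ‹L.Normal›.conj_mem l hl g
    · intro l hl
      refine ⟨g⁻¹ * l * g, ?_, by simp [mul_assoc]⟩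
      have := ‹L.Normal›.conj_mem l hl g⁻¹
      simpa using this
  have hZ : (Subgroup.zpowers x).map (MulAut.conj g).toMonoidHom = Subgroup.zpowers (g * x * g⁻¹) := by
    rw [MonoidHom.map_zpowers]; rfl
  have := congrArg (Subgroup.map (MulAut.conj g).toMonoidHom) hq
  rw [Subgroup.map_commutator, Subgroup.map_commutator, hL, hZ, Subgroup.map_bot] at this
  exact this

theorem mem_pCore_of_mk_mem [Finite G] {p : ℕ} [Fact p.Prime] (C : Subgroup G) [C.Normal]
    (hC : IsPGroup p C) (a : G)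
    (ha : (QuotientGroup.mk a : G ⧸ C) ∈ Cfsg.pCore p (G ⧸ C)) : a ∈ Cfsg.pCore p G := by
  set R := (Cfsg.pCore p (G ⧸ C)).comap (QuotientGroup.mk' C) with hR
  haveI : (Cfsg.pCore p (G ⧸ C)).Normal := Cfsg.Agent.Lib.Helper1.pCore_normal p
  have hRn : R.Normal := by rw [hR]; infer_instance
  have hRp : IsPGroup p R := by
    rw [hR]
    apply IsPGroup.comap_of_ker_isPGroup (Cfsg.Agent.Lib.Helper1.pCore_isPGroup p)
    rw [QuotientGroup.ker_mk']
    exact hC
  exact Cfsg.Agent.Lib.Helper1.le_pCore hRn hRp ha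

theorem exists_sylow_rep [Finite G] {p : ℕ} [Fact p.Prime] (C : Subgroup G) [C.Normal]
    (S : Sylow p G) (y : G)
    (hy : (QuotientGroup.mk y : G ⧸ C) ∈ Cfsg.pCore p (G ⧸ C)) :
    ∃ s ∈ (S : Subgroup G), s⁻¹ * y ∈ C := by
  have h1 := Cfsg.Agent.Lib.Helper1.pCore_le_sylow p
    (S.mapSurjective (QuotientGroup.mk'_surjective C)) hy
  rw [← SetLike.mem_coe, Sylow.coe_mapSurjective] at h1
  obtain ⟨s, hs, hsy⟩ := h1
  refine ⟨s, hs, ?_⟩
  have : (QuotientGroup.mk s : G ⧸ C) = QuotientGroup.mk y := hsy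
  exact QuotientGroup.eq.mp this


theorem dstar_normal [Finite G] {p : ℕ} [Fact p.Prime]
    (hc : Subgroup.centralizer (Cfsg.pCore p G : Set G) ≤ Cfsg.pCore p G)
    (hst : ∀ (P : Subgroup G) [P.Normal], IsPGroup p P → Cfsg.IsPStableOn p P) (S : Sylow p G) :
    (Cfsg.dStarOf (S : Subgroup G)).Normal := by
  set T := (S : Subgroup G) with hT
  have hTp : IsPGroup p T := S.isPGroup'
  set D' := Cfsg.dStar T with hD'
  have F1 : D' ∈ Cfsg.dStarFamily T := Cfsg.Agent.S3061.result hTp
  set D := Cfsg.dStarOf T with hD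
  have hDmap : D = D'.map T.subtype := rfl
  have hDS : D ≤ T := by rw [hDmap]; exact Subgroup.map_subtype_le _
  have hDc : IsMulCommutative D := by
    haveI := F1.1
    rw [hDmap]; exact Subgroup.map_isMulCommutative _ _
  have F2 : ∀ t : T, D'.map (MulAut.conj t).toMonoidHom ≤ D' := by
    intro t
    have h0 : Cfsg.Agent.S3061.InD ⊤ D' := ⟨le_top, F1.1, fun x _ => F1.2 x⟩
    have h1 := h0.conj (g := t) (Subgroup.mem_top t)
    apply le_sSup
    exact ⟨h1.2.1, fun x => h1.2.2 x (Subgroup.mem_top x)⟩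
  have hconjD : ∀ t ∈ T, ∀ d ∈ D, t * d * t⁻¹ ∈ D := by
    intro t ht d hd
    obtain ⟨a, ha, rfl⟩ := hd
    have := F2 ⟨t, ht⟩ ⟨a, ha, rfl⟩
    exact ⟨_, this, rfl⟩
  have hSN : T ≤ Subgroup.normalizer (D : Set G) := by
    intro t ht
    rw [Subgroup.mem_normalizer_iff]
    intro n
    constructor
    · exact hconjD t ht n
    · intro h
      have := hconjD t⁻¹ (T.inv_mem ht) _ h
      simpa [mul_assoc] using this
  have F3 : ∀ x ∈ T, ⁅⁅D ⊔ Subgroup.zpowers x, D ⊔ Subgroup.zpowers x⁆, D ⊔ Subgroup.zpowers x⁆ = ⊥ →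
      ∀ d ∈ D, d * x = x * d := by
    intro x hx hcl d hd
    have h1 := (cl2_map T D' ⟨x, hx⟩).mpr hcl
    obtain ⟨a, ha, rfl⟩ := hd
    have := F1.2 ⟨x, hx⟩ h1 a ha
    exact congrArg Subtype.val this
  set Q := Cfsg.pCore p G with hQ
  have hQS : Q ≤ T := Cfsg.Agent.Lib.Helper1.pCore_le_sylow p S
  have hQn : Q.Normal := Cfsg.Agent.Lib.Helper1.pCore_normal p
  have hQp : IsPGroup p Q := Cfsg.Agent.Lib.Helper1.pCore_isPGroup p
  have hDD : ⁅D, D⁆ = ⊥ := by
    rw [Subgroup.commutator_eq_bot_iff_le_centralizer]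
    exact Subgroup.le_centralizer_iff_isMulCommutative.mpr hDc
  have hDQ : D ≤ Q := by
    intro a ha
    have h1 : ⁅Q, D⁆ ≤ D := by
      rw [Subgroup.commutator_comm]
      exact commutator_le_left_of_le_normalizer D Q (le_trans hQS hSN)
    have hza : Subgroup.zpowers a ≤ D := by rw [Subgroup.zpowers_le]; exact ha
    have hquad : ⁅⁅Q, Subgroup.zpowers a⁆, Subgroup.zpowers a⁆ = ⊥ := by
      rw [eq_bot_iff, ← hDD]
      exact Subgroup.commutator_mono (le_trans (Subgroup.commutator_mono le_rfl hza) h1) hza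
    have hmk := @hst Q hQn hQp a hquad
    exact mem_pCore_of_mk_mem (Subgroup.centralizer (Q : Set G)) (hQp.to_le hc) a hmk
  have hcore : ∀ g : G, ∀ d ∈ D, ∀ e ∈ D, (g * d * g⁻¹) * e = e * (g * d * g⁻¹) := by
    intro g d hd e he
    set R : Subgroup T := Q.subgroupOf T with hR
    set Dg : Subgroup G := D.map (MulAut.conj g).toMonoidHom with hDg
    have hDgQ : Dg ≤ Q := by
      rintro _ ⟨d', hd', rfl⟩
      exact hQn.conj_mem d' (hDQ hd') g
    set B : Subgroup T := Dg.subgroupOf T with hB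
    have hA : Cfsg.Agent.S3061.InD R D' := by
      refine ⟨?_, F1.1, fun x _ => F1.2 x⟩
      intro a ha
      rw [hR, Subgroup.mem_subgroupOf]
      exact hDQ ⟨a, ha, rfl⟩
    have hBmap : B.map T.subtype = Dg := Subgroup.map_subgroupOf_eq_of_le (le_trans hDgQ hQS)
    have hBI : Cfsg.Agent.S3061.InD R B := by
      refine ⟨?_, ?_, ?_⟩
      · intro b hb
        rw [hB, Subgroup.mem_subgroupOf] at hb
        rw [hR, Subgroup.mem_subgroupOf]
        exact hDgQ hb
      · haveI : IsMulCommutative Dg := by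
          haveI := hDc
          exact Subgroup.map_isMulCommutative _ _
        rw [hB]; infer_instance
      · intro x hx hcl b hb
        rw [cl2_map, hBmap] at hcl
        have hxQ : (x : G) ∈ Q := by
          rw [hR, Subgroup.mem_subgroupOf] at hx; exact hx
        set y : G := g⁻¹ * x * g with hy
        have hyQ : y ∈ Q := by
          have := hQn.conj_mem (x : G) hxQ g⁻¹
          simpa [hy] using this
        have hmap : Dg ⊔ Subgroup.zpowers (x : G) =
            (D ⊔ Subgroup.zpowers y).map (MulAut.conj g).toMonoidHom := by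
          rw [Subgroup.map_sup, MonoidHom.map_zpowers]
          congr 2
          simp [hy, mul_assoc]
        rw [hmap, ← Subgroup.map_commutator, ← Subgroup.map_commutator,
          Subgroup.map_eq_bot_iff_of_injective _ (MulAut.conj g).injective] at hcl
        have hyc := F3 y (hQS hyQ) hcl
        rw [hB, Subgroup.mem_subgroupOf] at hb
        obtain ⟨d', hd', hbd⟩ := hb
        apply Subtype.ext
        show (b : G) * (x : G) = (x : G) * (b : G)
        rw [← hbd]
        have := hyc d' hd'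
        show g * d' * g⁻¹ * x = x * (g * d' * g⁻¹)
        calc g * d' * g⁻¹ * x = g * (d' * y) * g⁻¹ := by simp [hy, mul_assoc]
          _ = g * (y * d') * g⁻¹ := by rw [this]
          _ = x * (g * d' * g⁻¹) := by simp [hy, mul_assoc]
    have hBA := Cfsg.Agent.S3061.comm_of_InD hTp _ R rfl D' B hA hBI
    obtain ⟨e', he', rfl⟩ := he
    have hgd : g * d * g⁻¹ ∈ Dg := ⟨d, hd, rfl⟩
    have hb : (⟨g * d * g⁻¹, hQS (hDgQ hgd)⟩ : T) ∈ B := by
      rw [hB, Subgroup.mem_subgroupOf]; exact hgd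
    have := hBA hb
    rw [Subgroup.mem_centralizer_iff] at this
    have h2 := this e' he'
    exact (congrArg Subtype.val h2).symm
  set L := Subgroup.normalClosure (D : Set G) with hL
  have hLn : L.Normal := Subgroup.normalClosure_normal
  have hDL : D ≤ L := Subgroup.subset_normalClosure
  have hLQ : L ≤ Q := Subgroup.normalClosure_le_normal hDQ
  have hLc : IsMulCommutative L := by
    rw [hL, Subgroup.normalClosure]
    apply Subgroup.isMulCommutative_closure
    intro u hu v hv
    rw [Group.mem_conjugatesOfSet_iff] at hu hv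
    obtain ⟨d, hd, hdu⟩ := hu
    obtain ⟨e, he, hev⟩ := hv
    obtain ⟨g, rfl⟩ := isConj_iff.mp hdu
    obtain ⟨h, rfl⟩ := isConj_iff.mp hev
    have := hcore (h⁻¹ * g) d hd e he
    calc g * d * g⁻¹ * (h * e * h⁻¹) = h * ((h⁻¹ * g) * d * (h⁻¹ * g)⁻¹ * e) * h⁻¹ := by
          simp [mul_assoc]
      _ = h * (e * ((h⁻¹ * g) * d * (h⁻¹ * g)⁻¹)) * h⁻¹ := by rw [this]
      _ = h * e * h⁻¹ * (g * d * g⁻¹) := by simp [mul_assoc]
  set L' : Subgroup T := L.subgroupOf T with hL'
  have hL'map : L'.map T.subtype = L := Subgroup.map_subgroupOf_eq_of_le (le_trans hLQ hQS)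
  have hLp : IsPGroup p L := hQp.to_le hLQ
  have hLfam : L' ∈ Cfsg.dStarFamily T := by
    refine ⟨by rw [hL']; infer_instance, ?_⟩
    intro x hcl
    rw [cl2_map, hL'map] at hcl
    have hq : ⁅⁅L, Subgroup.zpowers (x : G)⁆, Subgroup.zpowers (x : G)⁆ = ⊥ := by
      rw [eq_bot_iff, ← hcl]
      exact Subgroup.commutator_mono (Subgroup.commutator_mono le_sup_left le_sup_right) le_sup_right
    have hmk := @hst L hLn hLp (x : G) hq
    set C := Subgroup.centralizer (L : Set G) with hC
    have hxc : ∀ g : G, ∀ d ∈ D, (g * d * g⁻¹) * (x : G) = (x : G) * (g * d * g⁻¹) := by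
      intro g d hd
      set y : G := g⁻¹ * x * g with hy
      have hyq : ⁅⁅L, Subgroup.zpowers y⁆, Subgroup.zpowers y⁆ = ⊥ := by
        have := quadratic_conj L (x : G) g⁻¹ hq
        simpa [hy] using this
      have hmky : (QuotientGroup.mk y : G ⧸ C) ∈ Cfsg.pCore p (G ⧸ C) := by
        have hn : (Cfsg.pCore p (G ⧸ C)).Normal := Cfsg.Agent.Lib.Helper1.pCore_normal p
        have : (QuotientGroup.mk y : G ⧸ C) =
            (QuotientGroup.mk g⁻¹ : G ⧸ C) * (QuotientGroup.mk (x : G)) * (QuotientGroup.mk g⁻¹ : G ⧸ C)⁻¹ := by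
          rw [hy, QuotientGroup.mk_mul, QuotientGroup.mk_mul, ← QuotientGroup.mk_inv, inv_inv]
        rw [this]
        exact hn.conj_mem _ hmk _
      obtain ⟨s, hs, hsy⟩ := exists_sylow_rep C S y hmky
      have hys : y⁻¹ * s ∈ C := by
        have := C.inv_mem hsy
        simpa using this
      have hsq := quadratic_of_same_action L y s hys hyq
      have hsqD : ⁅⁅D, Subgroup.zpowers s⁆, Subgroup.zpowers s⁆ = ⊥ := by
        rw [eq_bot_iff, ← hsq]
        exact Subgroup.commutator_mono (Subgroup.commutator_mono hDL le_rfl) le_rfl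
      have hcl2 := cl2_of_quadratic D hDc s (hSN hs) hsqD
      have hsD := F3 s hs hcl2
      have hcd : (s⁻¹ * y) * d = d * (s⁻¹ * y) := by
        have := hsy
        rw [hC, Subgroup.mem_centralizer_iff] at this
        exact (this d (hDL hd)).symm
      have hyd : d * y = y * d := by
        calc d * y = d * s * (s⁻¹ * y) := by simp [mul_assoc]
          _ = s * d * (s⁻¹ * y) := by rw [hsD d hd]
          _ = s * ((s⁻¹ * y) * d) := by rw [mul_assoc, hcd]
          _ = y * d := by simp [mul_assoc]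
      calc g * d * g⁻¹ * x = g * (d * y) * g⁻¹ := by simp [hy, mul_assoc]
        _ = g * (y * d) * g⁻¹ := by rw [hyd]
        _ = x * (g * d * g⁻¹) := by simp [hy, mul_assoc]
    have hLx : L ≤ Subgroup.centralizer ({(x : G)} : Set G) := by
      rw [hL, Subgroup.normalClosure, Subgroup.closure_le]
      intro u hu
      rw [Group.mem_conjugatesOfSet_iff] at hu
      obtain ⟨d, hd, hdu⟩ := hu
      obtain ⟨g, rfl⟩ := isConj_iff.mp hdu
      rw [SetLike.mem_coe, Subgroup.mem_centralizer_iff]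
      intro z hz
      rw [Set.mem_singleton_iff] at hz
      rw [hz]
      exact (hxc g d hd).symm
    intro l hl
    rw [hL', Subgroup.mem_subgroupOf] at hl
    have := hLx hl
    rw [Subgroup.mem_centralizer_iff] at this
    have h3 := this (x : G) (Set.mem_singleton _)
    apply Subtype.ext
    exact h3.symm
  have hLD : L ≤ D := by
    intro l hl
    have hlT : l ∈ T := hQS (hLQ hl)
    have h1 : (⟨l, hlT⟩ : T) ∈ L' := by
      rw [hL', Subgroup.mem_subgroupOf]; exact hl
    have h2 := (le_sSup hLfam : L' ≤ D') h1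
    exact ⟨⟨l, hlT⟩, h2, rfl⟩
  have hEq : D = L := le_antisymm hDL hLD
  rw [hEq]
  exact hLn

end Cfsg.Agent.Lib.Helper5.DStar
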