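import Mathlib
import Cfsg.Agent.Lib.Helper28.Gen4A

set_option autoImplicit false

namespace Cfsg.Agent.Lib.Helper5.Inv4

open Cfsg.Agent.Lib.Helper28

variable {K : Type*} [Group K]

def fixSub (α : MulAut K) : Subgroup K where
  carrier := {x | α x = x}
  mul_mem' := by
    intro a b ha hb
    simp only [Set.mem_setOf_eq] at *
    rw [map_mul, ha, hb]
  one_mem' := map_one α
  inv_mem' := by
    intro a ha
    simp only [Set.mem_setOf_eq] at *
    rw [map_inv, ha]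

theorem mem_fixSub {α : MulAut K} {x : K} : x ∈ fixSub α ↔ α x = x := Iff.rfl

def restr (α : MulAut K) (hα : ∀ k, α (α k) = k) (L : Subgroup K) (hL : ∀ x ∈ L, α x ∈ L) :
    ↥L ≃* ↥L where
  toFun x := ⟨α x, hL x x.2⟩
  invFun x := ⟨α x, hL x x.2⟩
  left_inv x := Subtype.ext (hα x)
  right_inv x := Subtype.ext (hα x)
  map_mul' x y := Subtype.ext (map_mul α (x : K) (y : K))

theorem restr_coe (α : MulAut K) (hα : ∀ k, α (α k) = k) (L : Subgroup K)
    (hL : ∀ x ∈ L, α x ∈ L) (x : ↥L) : ((restr α hα L hL x : ↥L) : K) = α x := rfl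

theorem map_commutator_le (α : MulAut K) (L : Subgroup K) (hL : ∀ x ∈ L, α x ∈ L) :
    ∀ x ∈ ⁅L, L⁆, α x ∈ ⁅L, L⁆ := by
  intro x hx
  have h1 : (⁅L, L⁆).map α.toMonoidHom ≤ ⁅L, L⁆ := by
    rw [Subgroup.map_commutator]
    apply Subgroup.commutator_mono
    · rintro _ ⟨y, hy, rfl⟩; exact hL y hy
    · rintro _ ⟨y, hy, rfl⟩; exact hL y hy
  exact h1 ⟨x, hx, rfl⟩

theorem gen4 [Finite K] (hodd : Odd (Nat.card K)) [Group.IsSolvable K] (α β : MulAut K)
    (hα : ∀ k, α (α k) = k) (hβ : ∀ k, β (β k) = k) (hαβ : ∀ k, α (β k) = β (α k)) :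
    ∀ (d : ℕ) (L : Subgroup K), Nat.card L = d → (∀ x ∈ L, α x ∈ L) → (∀ x ∈ L, β x ∈ L) →
      L ≤ (L ⊓ fixSub α) ⊔ (L ⊓ fixSub β) ⊔ (L ⊓ fixSub (α * β)) := by
  intro d
  induction d using Nat.strong_induction_on with
  | _ d ih =>
  intro L hd hLα hLβ
  by_cases htriv : L = ⊥
  · rw [htriv]; exact bot_le
  have : Nontrivial ↥L := (Subgroup.nontrivial_iff_ne_bot L).mpr htriv
  have hlt : ⁅L, L⁆ < L := by
    have h1 := Group.IsSolvable.commutator_lt_top_of_nontrivial ↥L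
    rw [← Subgroup.map_subtype_commutator]
    have h2 : (commutator ↥L).map L.subtype < (⊤ : Subgroup ↥L).map L.subtype :=
      (Subgroup.map_lt_map_iff_of_injective L.subtype_injective).mpr h1
    rwa [← MonoidHom.range_eq_map, Subgroup.range_subtype] at h2
  have hNcard : Nat.card ↥(⁅L, L⁆ : Subgroup K) < d := by
    rw [← hd]
    exact Set.Finite.card_lt_card (Set.toFinite _) hlt
  have hN := ih _ hNcard ⁅L, L⁆ rfl (map_commutator_le α L hLα) (map_commutator_le β L hLβ)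
  have hoddL : Odd (Nat.card ↥L) := Odd.of_dvd_nat hodd (Subgroup.card_subgroup_dvd_card L)
  set X := (L ⊓ fixSub α) ⊔ (L ⊓ fixSub β) ⊔ (L ⊓ fixSub (α * β)) with hX
  have hNX : ⁅L, L⁆ ≤ X := by
    refine hN.trans ?_
    refine sup_le (sup_le ?_ ?_) ?_
    · exact le_sup_of_le_left (le_sup_of_le_left (inf_le_inf_right _ hlt.le))
    · exact le_sup_of_le_left (le_sup_of_le_right (inf_le_inf_right _ hlt.le))
    · exact le_sup_of_le_right (inf_le_inf_right _ hlt.le)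
  intro k hk
  obtain ⟨c₁, c₂, c₃, n, h1, h2, h3, hn, hkk⟩ :=
    Gen4.decomp3 hoddL (restr α hα L hLα) (restr β hβ L hLβ)
      (fun x => Subtype.ext (hα x)) (fun x => Subtype.ext (hβ x))
      (fun x => Subtype.ext (hαβ x)) (commutator ↥L) le_rfl ⟨k, hk⟩
  have e1 : (c₁ : K) ∈ X := by
    apply Subgroup.mem_sup_left; apply Subgroup.mem_sup_left
    exact ⟨c₁.2, congrArg Subtype.val h1⟩
  have e2 : (c₂ : K) ∈ X := by
    apply Subgroup.mem_sup_left; apply Subgroup.mem_sup_right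
    exact ⟨c₂.2, congrArg Subtype.val h2⟩
  have e3 : (c₃ : K) ∈ X := by
    apply Subgroup.mem_sup_right
    exact ⟨c₃.2, congrArg Subtype.val h3⟩
  have e4 : (n : K) ∈ X := by
    apply hNX
    rw [← Subgroup.map_subtype_commutator]
    exact ⟨n, hn, rfl⟩
  have e5 : k = (c₁ : K) * c₂ * c₃ * n := by
    have := congrArg Subtype.val hkk
    simpa using this
  rw [e5]
  exact X.mul_mem (X.mul_mem (X.mul_mem e1 e2) e3) e4

end Cfsg.Agent.Lib.Helper5.Inv4
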