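import Mathlib
import Cfsg.Agent.Lib.Helper5.Inv4
import Cfsg.Agent.Lib.Helper5.CycP

set_option autoImplicit false

namespace Cfsg.Agent.Lib.Helper5.E8

open Cfsg.Agent.Lib.Helper5 Cfsg.Agent.Lib.Helper5.Inv4

variable {P : Type*} [Group P]

def NB (T : MulAut P) : Prop := ∃ g : P, ∀ x : P, (T x = x ↔ x ∈ Subgroup.zpowers g)

theorem nb_iff (T : MulAut P) : NB T ↔ ∃ g, fixSub T = Subgroup.zpowers g := by
  constructor
  · rintro ⟨g, hg⟩
    exact ⟨g, by ext x; exact hg x⟩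
  · rintro ⟨g, hg⟩
    refine ⟨g, fun x => ?_⟩
    rw [← hg]; rfl

structure Ctx (p : ℕ) (I I₀ : Subgroup (MulAut P)) : Prop where
  hp : p.Prime
  hp2 : p ≠ 2
  hP : IsPGroup p P
  hcomm : ∀ a ∈ I, ∀ b ∈ I, a * b = b * a
  hsq : ∀ a ∈ I, a * a = 1
  h8 : Nat.card ↥I = 8
  hle : I₀ ≤ I
  hdisj : ∀ T ∈ I₀, T ≠ 1 → NB T
  hprod : ∀ T ∈ I, ∀ T' ∈ I, T ≠ 1 → T' ≠ 1 → ¬ NB T → ¬ NB T' → T * T' ∈ I₀

variable {p : ℕ} {I I₀ : Subgroup (MulAut P)}

theorem Ctx.invol (c : Ctx p I I₀) {T : MulAut P} (hT : T ∈ I) (x : P) : T (T x) = x := by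
  have := c.hsq T hT
  have h2 := congrArg (fun f : MulAut P => f x) this
  simpa using h2

theorem Ctx.comm (c : Ctx p I I₀) {T R : MulAut P} (hT : T ∈ I) (hR : R ∈ I) (x : P) :
    T (R x) = R (T x) := by
  have := c.hcomm T hT R hR
  have h2 := congrArg (fun f : MulAut P => f x) this
  simpa using h2

theorem Ctx.fix_inv (c : Ctx p I I₀) {T R : MulAut P} (hT : T ∈ I) (hR : R ∈ I) :
    ∀ x ∈ fixSub T, R x ∈ fixSub T := by
  intro x hx
  rw [mem_fixSub] at hx ⊢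
  rw [c.comm hT hR, hx]

theorem Ctx.inv_eq (c : Ctx p I I₀) {T : MulAut P} (hT : T ∈ I) : T⁻¹ = T :=
  inv_eq_of_mul_eq_one_left (c.hsq T hT)

theorem Ctx.mul_ne_one (c : Ctx p I I₀) {T R : MulAut P} (hR : R ∈ I) (h : T ≠ R) :
    T * R ≠ 1 := by
  intro h1
  apply h
  have := eq_inv_of_mul_eq_one_left h1
  rw [c.inv_eq hR] at this
  exact this

theorem Ctx.odd [Finite P] (c : Ctx p I I₀) : Odd (Nat.card P) := by
  haveI : Fact p.Prime := ⟨c.hp⟩
  obtain ⟨n, hn⟩ := IsPGroup.iff_card.mp c.hP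
  rw [hn]
  exact Odd.pow (c.hp.odd_of_ne_two c.hp2)

theorem Ctx.solv [Finite P] (c : Ctx p I I₀) : Group.IsSolvable P := by
  haveI : Fact p.Prime := ⟨c.hp⟩
  haveI := c.hP.isNilpotent
  infer_instance

def IsCell (I : Subgroup (MulAut P)) (C : Subgroup P) : Prop :=
  (∃ g, C = Subgroup.zpowers g) ∧ ∀ R ∈ I, ∀ x ∈ C, R x ∈ C

theorem Ctx.cell_dich (c : Ctx p I I₀) {C : Subgroup P} (hC : IsCell I C) {R : MulAut P}
    (hR : R ∈ I) : (∀ x ∈ C, R x = x) ∨ (∀ x ∈ C, R x = x⁻¹) := by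
  obtain ⟨⟨g, rfl⟩, hinv⟩ := hC
  exact CycP.fix_or_inv_all c.hp c.hp2 c.hP g R (c.invol hR)
    (hinv R hR g (Subgroup.mem_zpowers g))

theorem Ctx.eq_one_of_inv (c : Ctx p I I₀) {x : P} (h : x = x⁻¹) : x = 1 :=
  CycP.eq_one_of_sq c.hp c.hp2 c.hP (mul_eq_one_iff_eq_inv.mpr h)

theorem exists_eq_zpowers_of_le {H : Subgroup P} {g : P} (h : H ≤ Subgroup.zpowers g) :
    ∃ k, H = Subgroup.zpowers k := by
  haveI : IsCyclic ↥H := Subgroup.isCyclic_of_le h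
  obtain ⟨k, hk⟩ := IsCyclic.exists_generator (α := ↥H)
  refine ⟨(k : P), le_antisymm ?_ ?_⟩
  · intro x hx
    obtain ⟨m, hm⟩ := Subgroup.mem_zpowers_iff.mp (hk ⟨x, hx⟩)
    rw [Subgroup.mem_zpowers_iff]
    refine ⟨m, ?_⟩
    have := congrArg Subtype.val hm
    simpa using this
  · rw [Subgroup.zpowers_le]; exact k.2

theorem Ctx.pair_cell (c : Ctx p I I₀) {T R : MulAut P} (hT : T ∈ I) (hR : R ∈ I)
    (hT1 : T ≠ 1) (hR1 : R ≠ 1) (hTR : T ≠ R) : IsCell I (fixSub T ⊓ fixSub R) := by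
  refine ⟨?_, ?_⟩
  · by_cases h1 : NB T
    · obtain ⟨g, hg⟩ := (nb_iff T).mp h1
      exact exists_eq_zpowers_of_le (g := g) (hg ▸ inf_le_left)
    by_cases h2 : NB R
    · obtain ⟨g, hg⟩ := (nb_iff R).mp h2
      exact exists_eq_zpowers_of_le (g := g) (hg ▸ inf_le_right)
    have h3 := c.hprod T hT R hR hT1 hR1 h1 h2
    have h4 := c.hdisj _ h3 (c.mul_ne_one hR hTR)
    obtain ⟨g, hg⟩ := (nb_iff _).mp h4
    apply exists_eq_zpowers_of_le (g := g)
    rw [← hg]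
    rintro x ⟨hx1, hx2⟩
    rw [mem_fixSub] at *
    rw [MulAut.mul_apply, hx2, hx1]
  · rintro S hS x ⟨hx1, hx2⟩
    exact ⟨c.fix_inv hT hS x hx1, c.fix_inv hR hS x hx2⟩

def cellSpan (I : Subgroup (MulAut P)) : Subgroup P := sSup {C | IsCell I C}

theorem le_cellSpan {C : Subgroup P} (hC : IsCell I C) : C ≤ cellSpan I := le_sSup hC

theorem exists_notMem (c : Ctx p I I₀) (s : Finset (MulAut P)) (hs : s.card < 8) :
    ∃ x ∈ I, x ∉ s := by
  by_contra hcon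
  push Not at hcon
  have hsub : (I : Set (MulAut P)) ⊆ (s : Set (MulAut P)) := fun x hx => hcon x hx
  have h1 : Nat.card ↥I ≤ s.card := by
    have := Set.ncard_le_ncard hsub (Finset.finite_toSet s)
    rw [Set.ncard_coe_finset] at this
    exact this
  rw [c.h8] at h1
  omega

theorem Ctx.fix_le_span [Finite P] (c : Ctx p I I₀) {T : MulAut P} (hT : T ∈ I) (hT1 : T ≠ 1) :
    fixSub T ≤ cellSpan I := by
  classical
  obtain ⟨b, hb, hb'⟩ := exists_notMem c {1, T} (by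
    refine lt_of_le_of_lt (Finset.card_insert_le _ _) ?_
    simp)
  obtain ⟨d, hd, hd'⟩ := exists_notMem c {1, T, b, T * b} (by
    refine lt_of_le_of_lt (Finset.card_le_four) ?_
    norm_num)
  simp only [Finset.mem_insert, Finset.mem_singleton, not_or] at hb' hd'
  haveI := c.solv
  have hgen := gen4 c.odd b d (c.invol hb) (c.invol hd) (fun k => c.comm hb hd k) _ (fixSub T) rfl
    (c.fix_inv hT hb) (c.fix_inv hT hd)
  refine hgen.trans (sup_le (sup_le ?_ ?_) ?_)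
  · exact le_cellSpan (c.pair_cell hT hb hT1 hb'.1 (Ne.symm hb'.2))
  · exact le_cellSpan (c.pair_cell hT hd hT1 hd'.1 (Ne.symm hd'.2.1))
  · apply le_cellSpan
    refine c.pair_cell hT (I.mul_mem hb hd) hT1 (c.mul_ne_one hd (Ne.symm hd'.2.2.1)) ?_
    intro h
    apply hd'.2.2.2
    rw [h, c.hcomm b hb d hd, mul_assoc, c.hsq b hb, mul_one]

theorem Ctx.span_top [Finite P] (c : Ctx p I I₀) : cellSpan I = ⊤ := by
  classical
  obtain ⟨a, ha, ha'⟩ := exists_notMem c {1} (by simp)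
  obtain ⟨b, hb, hb'⟩ := exists_notMem c {1, a} (by
    refine lt_of_le_of_lt (Finset.card_insert_le _ _) ?_
    simp)
  simp only [Finset.mem_insert, Finset.mem_singleton, not_or] at ha' hb'
  haveI := c.solv
  have hgen := gen4 c.odd a b (c.invol ha) (c.invol hb) (fun k => c.comm ha hb k) _ ⊤ rfl
    (fun _ _ => Subgroup.mem_top _) (fun _ _ => Subgroup.mem_top _)
  rw [eq_top_iff]
  refine hgen.trans (sup_le (sup_le ?_ ?_) ?_)
  · exact inf_le_right.trans (c.fix_le_span ha ha')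
  · exact inf_le_right.trans (c.fix_le_span hb hb'.1)
  · exact inf_le_right.trans (c.fix_le_span (I.mul_mem ha hb) (c.mul_ne_one hb (Ne.symm hb'.2)))

theorem Ctx.faithful [Finite P] (c : Ctx p I I₀) {R : MulAut P}
    (h : ∀ C, IsCell I C → ∀ x ∈ C, R x = x) : R = 1 := by
  have h1 : cellSpan I ≤ fixSub R := by
    apply sSup_le
    intro C hC x hx
    exact h C hC x hx
  rw [c.span_top] at h1
  ext x
  exact h1 (Subgroup.mem_top x)

theorem Ctx.exists_cell_inv [Finite P] (c : Ctx p I I₀) {R : MulAut P} (hR : R ∈ I) (hR1 : R ≠ 1) :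
    ∃ C, IsCell I C ∧ C ≠ ⊥ ∧ ∀ x ∈ C, R x = x⁻¹ := by
  by_contra hcon
  push Not at hcon
  apply hR1
  apply c.faithful
  intro C hC
  rcases c.cell_dich hC hR with h | h
  · exact h
  · by_cases hb : C = ⊥
    · intro x hx
      rw [hb, Subgroup.mem_bot] at hx
      rw [hx, map_one]
    · obtain ⟨x, hx, hx'⟩ := hcon C hC hb
      exact absurd (h x hx) hx'

end Cfsg.Agent.Lib.Helper5.E8
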