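import Mathlib
import Cfsg.Agent.Lib.Helper5.E8A

set_option autoImplicit false

namespace Cfsg.Agent.Lib.Helper5.E8

open Cfsg.Agent.Lib.Helper5 Cfsg.Agent.Lib.Helper5.Inv4

variable {P : Type*} [Group P]

def fixer (C : Subgroup P) : Subgroup (MulAut P) where
  carrier := {R | ∀ x ∈ C, R x = x}
  mul_mem' := by
    intro a b ha hb x hx
    rw [MulAut.mul_apply, hb x hx, ha x hx]
  one_mem' := fun x _ => rfl
  inv_mem' := by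
    intro a ha x hx
    rw [MulAut.inv_apply, MulEquiv.symm_apply_eq]
    exact (ha x hx).symm

theorem mem_fixer {C : Subgroup P} {R : MulAut P} : R ∈ fixer C ↔ ∀ x ∈ C, R x = x := Iff.rfl

variable {p : ℕ} {I I₀ : Subgroup (MulAut P)}

theorem Ctx.relIndex_fixer_le (c : Ctx p I I₀) {C : Subgroup P} (hC : IsCell I C) :
    (fixer C).relIndex I ≤ 2 := by
  by_cases h : I ≤ fixer C
  · rw [Subgroup.relIndex_eq_one.mpr h]; norm_num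
  obtain ⟨a, ha, ha'⟩ := SetLike.not_le_iff_exists.mp h
  have hainv : ∀ x ∈ C, a x = x⁻¹ := by
    rcases c.cell_dich hC ha with h1 | h1
    · exact absurd h1 ha'
    · exact h1
  apply le_of_eq
  unfold Subgroup.relIndex
  rw [Subgroup.index_eq_two_iff]
  refine ⟨⟨a, ha⟩, fun b => ?_⟩
  rw [Subgroup.mem_subgroupOf, Subgroup.mem_subgroupOf]
  by_cases hb : (b : MulAut P) ∈ fixer C
  · refine Or.inr ⟨hb, fun hba => ha' ?_⟩
    have := (fixer C).mul_mem ((fixer C).inv_mem hb) hba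
    simpa using this
  · refine Or.inl ⟨?_, hb⟩
    have hbinv : ∀ x ∈ C, (b : MulAut P) x = x⁻¹ := by
      rcases c.cell_dich hC b.2 with h1 | h1
      · exact absurd h1 hb
      · exact h1
    intro x hx
    show ((b : MulAut P) * a) x = x
    rw [MulAut.mul_apply, hainv x hx, map_inv, hbinv x hx, inv_inv]

theorem Ctx.exists_ne_one (c : Ctx p I I₀) (H : Subgroup (MulAut P)) (h : H.relIndex I < 8) :
    ∃ R ∈ I, R ∈ H ∧ R ≠ 1 := by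
  haveI : Finite ↥I := Nat.finite_of_card_ne_zero (by rw [c.h8]; norm_num)
  have h1 := Subgroup.card_mul_index (H.subgroupOf I)
  rw [c.h8] at h1
  have h2 : Nat.card ↥(H.subgroupOf I) ≠ 1 := by
    intro h3
    rw [h3, one_mul] at h1
    unfold Subgroup.relIndex at h
    omega
  have h3 : H.subgroupOf I ≠ ⊥ := by
    intro h4
    apply h2
    rw [h4]
    exact Subgroup.card_bot
  obtain ⟨x, hx1⟩ := (Subgroup.ne_bot_iff_exists_ne_one).mp h3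
  refine ⟨((x : ↥I) : MulAut P), (x : ↥I).2, ?_, ?_⟩
  · exact Subgroup.mem_subgroupOf.mp x.2
  · intro h5
    apply hx1
    exact Subtype.ext (Subtype.ext h5)

theorem Ctx.disj_of_fix_inv (c : Ctx p I I₀) {C C' : Subgroup P} {R : MulAut P}
    (h1 : ∀ x ∈ C, R x = x) (h2 : ∀ x ∈ C', R x = x⁻¹) : C ⊓ C' = ⊥ := by
  rw [eq_bot_iff]
  rintro x ⟨hx1, hx2⟩
  rw [Subgroup.mem_bot]
  apply c.eq_one_of_inv
  exact (h1 x hx1).symm.trans (h2 x hx2)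

theorem Ctx.not_fix_and_inv (c : Ctx p I I₀) {C : Subgroup P} (hC : C ≠ ⊥) {R : MulAut P}
    (h1 : ∀ x ∈ C, R x = x) (h2 : ∀ x ∈ C, R x = x⁻¹) : False := by
  apply hC
  have := c.disj_of_fix_inv h1 h2
  rwa [inf_idem] at this

theorem Ctx.broad_of_cells (c : Ctx p I I₀) {T : MulAut P} {C C' : Subgroup P} (hC : C ≠ ⊥)
    (hC' : C' ≠ ⊥) (hd : C ⊓ C' = ⊥) (h1 : T ∈ fixer C) (h2 : T ∈ fixer C') : ¬ NB T := by
  intro hnb
  obtain ⟨g, hg⟩ := (nb_iff T).mp hnb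
  have e1 : C ≤ Subgroup.zpowers g := by
    rw [← hg]; intro x hx; exact h1 x hx
  have e2 : C' ≤ Subgroup.zpowers g := by
    rw [← hg]; intro x hx; exact h2 x hx
  exact CycP.inf_ne_bot c.hp c.hP g C C' e1 e2 hC hC' hd

theorem Ctx.stage1 [Finite P] (c : Ctx p I I₀) :
    ∃ e₁ e₂ e₃ : MulAut P, ∃ C₁ C₂ C₃ : Subgroup P, e₁ ∈ I ∧ e₂ ∈ I ∧ e₃ ∈ I ∧
      e₁ ≠ 1 ∧ e₂ ≠ 1 ∧ e₃ ≠ 1 ∧ IsCell I C₁ ∧ IsCell I C₂ ∧ IsCell I C₃ ∧
      C₁ ≠ ⊥ ∧ C₂ ≠ ⊥ ∧ C₃ ≠ ⊥ ∧ C₁ ⊓ C₂ = ⊥ ∧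
      e₁ ∈ fixer C₂ ∧ e₁ ∈ fixer C₃ ∧ e₂ ∈ fixer C₁ ∧ e₂ ∈ fixer C₃ ∧
      e₃ ∈ fixer C₁ ∧ e₃ ∈ fixer C₂ ∧ (∀ x ∈ C₃, e₃ x = x⁻¹) := by
  classical
  obtain ⟨R₀, hR₀, hR₀'⟩ := exists_notMem c {1} (by simp)
  rw [Finset.mem_singleton] at hR₀'
  obtain ⟨C₁, hC₁, hC₁ne, -⟩ := c.exists_cell_inv hR₀ hR₀'
  have i1 := c.relIndex_fixer_le hC₁
  obtain ⟨R, hR, hRf, hR1⟩ := c.exists_ne_one (fixer C₁) (by omega)
  obtain ⟨C₂, hC₂, hC₂ne, hRinv⟩ := c.exists_cell_inv hR hR1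
  have i2 := c.relIndex_fixer_le hC₂
  have i12 : (fixer C₁ ⊓ fixer C₂).relIndex I ≤ 4 := by
    refine (Subgroup.relIndex_inf_le).trans ?_
    calc (fixer C₁).relIndex I * (fixer C₂).relIndex I ≤ 2 * 2 := Nat.mul_le_mul i1 i2
      _ = 4 := by norm_num
  obtain ⟨e₃, he₃, he₃f, he₃1⟩ := c.exists_ne_one _ (lt_of_le_of_lt i12 (by norm_num))
  obtain ⟨C₃, hC₃, hC₃ne, he₃inv⟩ := c.exists_cell_inv he₃ he₃1
  have i3 := c.relIndex_fixer_le hC₃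
  have i13 : (fixer C₁ ⊓ fixer C₃).relIndex I ≤ 4 := by
    refine (Subgroup.relIndex_inf_le).trans ?_
    calc (fixer C₁).relIndex I * (fixer C₃).relIndex I ≤ 2 * 2 := Nat.mul_le_mul i1 i3
      _ = 4 := by norm_num
  have i23 : (fixer C₂ ⊓ fixer C₃).relIndex I ≤ 4 := by
    refine (Subgroup.relIndex_inf_le).trans ?_
    calc (fixer C₂).relIndex I * (fixer C₃).relIndex I ≤ 2 * 2 := Nat.mul_le_mul i2 i3
      _ = 4 := by norm_num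
  obtain ⟨e₂, he₂, he₂f, he₂1⟩ := c.exists_ne_one _ (lt_of_le_of_lt i13 (by norm_num))
  obtain ⟨e₁, he₁, he₁f, he₁1⟩ := c.exists_ne_one _ (lt_of_le_of_lt i23 (by norm_num))
  exact ⟨e₁, e₂, e₃, C₁, C₂, C₃, he₁, he₂, he₃, he₁1, he₂1, he₃1, hC₁, hC₂, hC₃, hC₁ne, hC₂ne,
    hC₃ne, c.disj_of_fix_inv hRf hRinv, he₁f.1, he₁f.2, he₂f.1, he₂f.2, he₃f.1, he₃f.2, he₃inv⟩

end Cfsg.Agent.Lib.Helper5.E8
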