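import Mathlib
import Cfsg.Agent.Lib.Helper5.E8B

set_option autoImplicit false

namespace Cfsg.Agent.Lib.Helper5.E8

open Cfsg.Agent.Lib.Helper5 Cfsg.Agent.Lib.Helper5.Inv4

variable {P : Type*} [Group P] {p : ℕ} {I I₀ : Subgroup (MulAut P)}

structure Basis (I I₀ : Subgroup (MulAut P)) (e₁ e₂ e₃ : MulAut P) (g₁ g₂ g₃ : P) : Prop where
  he₁ : e₁ ∈ I
  he₂ : e₂ ∈ I
  he₃ : e₃ ∈ I
  hg₁ : g₁ ≠ 1
  hg₂ : g₂ ≠ 1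
  hg₃ : g₃ ≠ 1
  a11 : e₁ g₁ = g₁⁻¹
  a12 : e₁ g₂ = g₂
  a13 : e₁ g₃ = g₃
  a21 : e₂ g₁ = g₁
  a22 : e₂ g₂ = g₂⁻¹
  a23 : e₂ g₃ = g₃
  a31 : e₃ g₁ = g₁
  a32 : e₃ g₂ = g₂
  a33 : e₃ g₃ = g₃⁻¹
  z1 : fixSub (e₂ * e₃) = Subgroup.zpowers g₁
  z2 : fixSub (e₁ * e₃) = Subgroup.zpowers g₂
  z3 : fixSub (e₁ * e₂) = Subgroup.zpowers g₃
  b1 : ¬ NB e₁
  b2 : ¬ NB e₂
  b3 : ¬ NB e₃
  p12 : e₁ * e₂ ∈ I₀
  p13 : e₁ * e₃ ∈ I₀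
  p23 : e₂ * e₃ ∈ I₀
  top : Subgroup.zpowers g₁ ⊔ Subgroup.zpowers g₂ ⊔ Subgroup.zpowers g₃ = ⊤

theorem Ctx.fix_cell (c : Ctx p I I₀) {T : MulAut P} (hT : T ∈ I) (hnb : NB T) :
    IsCell I (fixSub T) := by
  obtain ⟨g, hg⟩ := (nb_iff T).mp hnb
  exact ⟨⟨g, hg⟩, fun R hR => c.fix_inv hT hR⟩

theorem Ctx.sign_fix (c : Ctx p I I₀) {C Z : Subgroup P} (hZ : IsCell I Z) (hCZ : C ≤ Z)
    (hC : C ≠ ⊥) {R : MulAut P} (hR : R ∈ I) (h : ∀ x ∈ C, R x = x) : ∀ x ∈ Z, R x = x := by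
  rcases c.cell_dich hZ hR with h1 | h1
  · exact h1
  · exact (c.not_fix_and_inv hC h (fun x hx => h1 x (hCZ hx))).elim

theorem Ctx.sign_inv (c : Ctx p I I₀) {C Z : Subgroup P} (hZ : IsCell I Z) (hCZ : C ≤ Z)
    (hC : C ≠ ⊥) {R : MulAut P} (hR : R ∈ I) (h : ∀ x ∈ C, R x = x⁻¹) :
    ∀ x ∈ Z, R x = x⁻¹ := by
  rcases c.cell_dich hZ hR with h1 | h1
  · exact (c.not_fix_and_inv hC (fun x hx => h1 x (hCZ hx)) h).elim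
  · exact h1

theorem mul_fix {C : Subgroup P} {T R : MulAut P} (hT : T ∈ fixer C) (hR : R ∈ fixer C) :
    T * R ∈ fixer C := (fixer C).mul_mem hT hR

theorem Ctx.stage2 [Finite P] (c : Ctx p I I₀) :
    ∃ (e₁ e₂ e₃ : MulAut P) (g₁ g₂ g₃ : P), Basis I I₀ e₁ e₂ e₃ g₁ g₂ g₃ := by
  obtain ⟨e₁, e₂, e₃, C₁, C₂, C₃, he₁, he₂, he₃, he₁1, he₂1, he₃1, hC₁, hC₂, hC₃, hC₁ne, hC₂ne,
    hC₃ne, hd12, f12, f13, f21, f23, f31, f32, i33⟩ := c.stage1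
  have hd13 : C₁ ⊓ C₃ = ⊥ := c.disj_of_fix_inv f31 i33
  have hd23 : C₂ ⊓ C₃ = ⊥ := c.disj_of_fix_inv f32 i33
  have b1 : ¬ NB e₁ := c.broad_of_cells hC₂ne hC₃ne hd23 f12 f13
  have b2 : ¬ NB e₂ := c.broad_of_cells hC₁ne hC₃ne hd13 f21 f23
  have b3 : ¬ NB e₃ := c.broad_of_cells hC₁ne hC₂ne hd12 f31 f32
  have n13 : e₁ ≠ e₃ := by
    intro h
    rw [h] at f13
    exact c.not_fix_and_inv hC₃ne f13 i33
  have n23 : e₂ ≠ e₃ := by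
    intro h
    rw [h] at f23
    exact c.not_fix_and_inv hC₃ne f23 i33
  have p13 : e₁ * e₃ ∈ I₀ := c.hprod e₁ he₁ e₃ he₃ he₁1 he₃1 b1 b3
  have p23 : e₂ * e₃ ∈ I₀ := c.hprod e₂ he₂ e₃ he₃ he₂1 he₃1 b2 b3
  have n12 : e₁ ≠ e₂ := by
    intro h
    rw [← h] at f21
    have h1 : NB (e₁ * e₃) := c.hdisj _ p13 (c.mul_ne_one he₃ n13)
    exact c.broad_of_cells hC₁ne hC₂ne hd12 (mul_fix f21 f31) (mul_fix f12 f32) h1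
  have p12 : e₁ * e₂ ∈ I₀ := c.hprod e₁ he₁ e₂ he₂ he₁1 he₂1 b1 b2
  have nb12 : NB (e₁ * e₂) := c.hdisj _ p12 (c.mul_ne_one he₂ n12)
  have nb13 : NB (e₁ * e₃) := c.hdisj _ p13 (c.mul_ne_one he₃ n13)
  have nb23 : NB (e₂ * e₃) := c.hdisj _ p23 (c.mul_ne_one he₃ n23)
  have he12 : e₁ * e₂ ∈ I := I.mul_mem he₁ he₂
  have he13 : e₁ * e₃ ∈ I := I.mul_mem he₁ he₃
  have he23 : e₂ * e₃ ∈ I := I.mul_mem he₂ he₃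
  -- the product e₁e₂ inverts C₁ and C₂
  have j1 : ∀ x ∈ C₁, (e₁ * e₂) x = x⁻¹ := by
    rcases c.cell_dich hC₁ he12 with h | h
    · exact (c.broad_of_cells hC₁ne hC₃ne hd13 h (mul_fix f13 f23) nb12).elim
    · exact h
  have j2 : ∀ x ∈ C₂, (e₁ * e₂) x = x⁻¹ := by
    rcases c.cell_dich hC₂ he12 with h | h
    · exact (c.broad_of_cells hC₂ne hC₃ne hd23 h (mul_fix f13 f23) nb12).elim
    · exact h
  have i11 : ∀ x ∈ C₁, e₁ x = x⁻¹ := by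
    intro x hx
    have := j1 x hx
    rwa [MulAut.mul_apply, f21 x hx] at this
  have i22 : ∀ x ∈ C₂, e₂ x = x⁻¹ := by
    intro x hx
    have := j2 x hx
    rwa [MulAut.mul_apply, c.comm he₁ he₂, f12 x hx] at this
  -- the big cells
  have hZ₁ : IsCell I (fixSub (e₂ * e₃)) := c.fix_cell he23 nb23
  have hZ₂ : IsCell I (fixSub (e₁ * e₃)) := c.fix_cell he13 nb13
  have hZ₃ : IsCell I (fixSub (e₁ * e₂)) := c.fix_cell he12 nb12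
  have l1 : C₁ ≤ fixSub (e₂ * e₃) := fun x hx => mul_fix f21 f31 x hx
  have l2 : C₂ ≤ fixSub (e₁ * e₃) := fun x hx => mul_fix f12 f32 x hx
  have l3 : C₃ ≤ fixSub (e₁ * e₂) := fun x hx => mul_fix f13 f23 x hx
  obtain ⟨g₁, z1⟩ := (nb_iff _).mp nb23
  obtain ⟨g₂, z2⟩ := (nb_iff _).mp nb13
  obtain ⟨g₃, z3⟩ := (nb_iff _).mp nb12
  have m1 : g₁ ∈ fixSub (e₂ * e₃) := by rw [z1]; exact Subgroup.mem_zpowers g₁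
  have m2 : g₂ ∈ fixSub (e₁ * e₃) := by rw [z2]; exact Subgroup.mem_zpowers g₂
  have m3 : g₃ ∈ fixSub (e₁ * e₂) := by rw [z3]; exact Subgroup.mem_zpowers g₃
  have hg₁ : g₁ ≠ 1 := by
    rintro rfl
    rw [Subgroup.zpowers_one_eq_bot] at z1
    rw [z1, le_bot_iff] at l1
    exact hC₁ne l1
  have hg₂ : g₂ ≠ 1 := by
    rintro rfl
    rw [Subgroup.zpowers_one_eq_bot] at z2
    rw [z2, le_bot_iff] at l2
    exact hC₂ne l2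
  have hg₃ : g₃ ≠ 1 := by
    rintro rfl
    rw [Subgroup.zpowers_one_eq_bot] at z3
    rw [z3, le_bot_iff] at l3
    exact hC₃ne l3
  have htop : Subgroup.zpowers g₁ ⊔ Subgroup.zpowers g₂ ⊔ Subgroup.zpowers g₃ = ⊤ := by
    haveI := c.solv
    have hgen := gen4 c.odd (e₁ * e₂) (e₁ * e₃) (c.invol he12) (c.invol he13)
      (fun k => c.comm he12 he13 k) _ ⊤ rfl (fun _ _ => Subgroup.mem_top _)
      (fun _ _ => Subgroup.mem_top _)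
    have hmul : e₁ * e₂ * (e₁ * e₃) = e₂ * e₃ := by
      rw [c.hcomm e₁ he₁ e₂ he₂, mul_assoc, ← mul_assoc e₁ e₁ e₃, c.hsq e₁ he₁, one_mul]
    rw [hmul, z1, z2, z3] at hgen
    rw [eq_top_iff]
    refine hgen.trans (sup_le (sup_le ?_ ?_) ?_)
    · exact inf_le_right.trans le_sup_right
    · exact inf_le_right.trans (le_sup_of_le_left le_sup_right)
    · exact inf_le_right.trans (le_sup_of_le_left le_sup_left)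
  exact ⟨e₁, e₂, e₃, g₁, g₂, g₃, he₁, he₂, he₃, hg₁, hg₂, hg₃,
    c.sign_inv hZ₁ l1 hC₁ne he₁ i11 g₁ m1, c.sign_fix hZ₂ l2 hC₂ne he₁ f12 g₂ m2,
    c.sign_fix hZ₃ l3 hC₃ne he₁ f13 g₃ m3,
    c.sign_fix hZ₁ l1 hC₁ne he₂ f21 g₁ m1, c.sign_inv hZ₂ l2 hC₂ne he₂ i22 g₂ m2,
    c.sign_fix hZ₃ l3 hC₃ne he₂ f23 g₃ m3,
    c.sign_fix hZ₁ l1 hC₁ne he₃ f31 g₁ m1, c.sign_fix hZ₂ l2 hC₂ne he₃ f32 g₂ m2,
    c.sign_inv hZ₃ l3 hC₃ne he₃ i33 g₃ m3, z1, z2, z3, b1, b2, b3, p12, p13, p23, htop⟩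

end Cfsg.Agent.Lib.Helper5.E8
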