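import Mathlib
import Cfsg.Agent.Lib.Helper5.E8C

set_option autoImplicit false

namespace Cfsg.Agent.Lib.Helper5.E8

open Cfsg.Agent.Lib.Helper5 Cfsg.Agent.Lib.Helper5.Inv4

variable {P : Type*} [Group P] {p : ℕ} {I I₀ : Subgroup (MulAut P)}
  {e₁ e₂ e₃ : MulAut P} {g₁ g₂ g₃ : P}

theorem inv_on {T : MulAut P} {g : P} (h : T g = g⁻¹) : ∀ x ∈ Subgroup.zpowers g, T x = x⁻¹ := by
  intro x hx
  obtain ⟨i, rfl⟩ := Subgroup.mem_zpowers_iff.mp hx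
  rw [map_zpow, h, inv_zpow]

theorem fix_on {T : MulAut P} {g : P} (h : T g = g) : ∀ x ∈ Subgroup.zpowers g, T x = x := by
  intro x hx
  obtain ⟨i, rfl⟩ := Subgroup.mem_zpowers_iff.mp hx
  rw [map_zpow, h]

theorem Basis.z_mem (b : Basis I I₀ e₁ e₂ e₃ g₁ g₂ g₃) : e₁ * e₂ * e₃ ∈ I :=
  I.mul_mem (I.mul_mem b.he₁ b.he₂) b.he₃

theorem Basis.z1' (b : Basis I I₀ e₁ e₂ e₃ g₁ g₂ g₃) : (e₁ * e₂ * e₃) g₁ = g₁⁻¹ := by
  rw [MulAut.mul_apply, MulAut.mul_apply, b.a31, b.a21, b.a11]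

theorem Basis.z2' (b : Basis I I₀ e₁ e₂ e₃ g₁ g₂ g₃) : (e₁ * e₂ * e₃) g₂ = g₂⁻¹ := by
  rw [MulAut.mul_apply, MulAut.mul_apply, b.a32, b.a22, map_inv, b.a12]

theorem Basis.z3' (b : Basis I I₀ e₁ e₂ e₃ g₁ g₂ g₃) : (e₁ * e₂ * e₃) g₃ = g₃⁻¹ := by
  rw [MulAut.mul_apply, MulAut.mul_apply, b.a33, map_inv, map_inv, b.a23, b.a13]

theorem Basis.fix_z [Finite P] (c : Ctx p I I₀) (b : Basis I I₀ e₁ e₂ e₃ g₁ g₂ g₃) :
    fixSub (e₁ * e₂ * e₃) = ⊥ := by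
  haveI := c.solv
  have hz := b.z_mem
  have hgen := gen4 c.odd e₁ e₂ (c.invol b.he₁) (c.invol b.he₂) (fun k => c.comm b.he₁ b.he₂ k) _
    (fixSub (e₁ * e₂ * e₃)) rfl (c.fix_inv hz b.he₁) (c.fix_inv hz b.he₂)
  rw [eq_bot_iff]
  refine hgen.trans (sup_le (sup_le ?_ ?_) ?_)
  · intro x hx
    obtain ⟨hx1, hx2⟩ := Subgroup.mem_inf.mp hx
    rw [mem_fixSub] at hx1 hx2
    rw [Subgroup.mem_bot]
    have h1 : e₁ (e₂ (e₃ x)) = x := by
      rw [← MulAut.mul_apply, ← MulAut.mul_apply]; exact hx1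
    have h2 : (e₂ * e₃) x = x := by
      rw [MulAut.mul_apply]
      have := congrArg e₁ h1
      rw [c.invol b.he₁, hx2] at this
      exact this
    have h3 : x ∈ Subgroup.zpowers g₁ := by rw [← b.z1]; exact h2
    have h4 := inv_on b.z1' x h3
    exact c.eq_one_of_inv (hx1.symm.trans h4)
  · intro x hx
    obtain ⟨hx1, hx2⟩ := Subgroup.mem_inf.mp hx
    rw [mem_fixSub] at hx1 hx2
    rw [Subgroup.mem_bot]
    have h1 : e₁ (e₂ (e₃ x)) = x := by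
      rw [← MulAut.mul_apply, ← MulAut.mul_apply]; exact hx1
    have h2 : (e₁ * e₃) x = x := by
      rw [MulAut.mul_apply]
      rw [c.comm b.he₂ b.he₃, hx2] at h1
      exact h1
    have h3 : x ∈ Subgroup.zpowers g₂ := by rw [← b.z2]; exact h2
    have h4 := inv_on b.z2' x h3
    exact c.eq_one_of_inv (hx1.symm.trans h4)
  · intro x hx
    obtain ⟨hx1, hx2⟩ := Subgroup.mem_inf.mp hx
    rw [mem_fixSub] at hx1 hx2
    rw [Subgroup.mem_bot]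
    have h1 : (e₁ * e₂) (e₃ x) = x := by
      rw [← MulAut.mul_apply]; exact hx1
    have h2 : e₃ x = x := by
      rw [c.comm (I.mul_mem b.he₁ b.he₂) b.he₃, hx2] at h1
      exact h1
    have h3 : x ∈ Subgroup.zpowers g₃ := by rw [← b.z3]; exact hx2
    have h4 := inv_on b.a33 x h3
    exact c.eq_one_of_inv (h2.symm.trans h4)

theorem Basis.comm [Finite P] (c : Ctx p I I₀) (b : Basis I I₀ e₁ e₂ e₃ g₁ g₂ g₃) (x y : P) :
    x * y = y * x := by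
  have hfpf : MonoidHom.FixedPointFree (e₁ * e₂ * e₃ : MulAut P) := by
    intro g hg
    have : g ∈ fixSub (e₁ * e₂ * e₃) := hg
    rw [b.fix_z c, Subgroup.mem_bot] at this
    exact this
  have hinv : Function.Involutive (e₁ * e₂ * e₃ : MulAut P) := fun x => c.invol b.z_mem x
  exact (MonoidHom.FixedPointFree.commute_all_of_involutive hfpf hinv x y).eq

theorem Basis.nb_z [Finite P] (c : Ctx p I I₀) (b : Basis I I₀ e₁ e₂ e₃ g₁ g₂ g₃) :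
    NB (e₁ * e₂ * e₃) := by
  rw [nb_iff]
  exact ⟨1, by rw [b.fix_z c, Subgroup.zpowers_one_eq_bot]⟩

theorem Basis.eq_one_of_fix (b : Basis I I₀ e₁ e₂ e₃ g₁ g₂ g₃) {R : MulAut P} (h1 : R g₁ = g₁)
    (h2 : R g₂ = g₂) (h3 : R g₃ = g₃) : R = 1 := by
  have hle : Subgroup.zpowers g₁ ⊔ Subgroup.zpowers g₂ ⊔ Subgroup.zpowers g₃ ≤ fixSub R := by
    refine sup_le (sup_le ?_ ?_) ?_
    · rw [Subgroup.zpowers_le]; exact h1
    · rw [Subgroup.zpowers_le]; exact h2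
    · rw [Subgroup.zpowers_le]; exact h3
  rw [b.top] at hle
  ext x
  exact hle (Subgroup.mem_top x)

theorem Basis.eq_of_agree (b : Basis I I₀ e₁ e₂ e₃ g₁ g₂ g₃) {T E : MulAut P}
    (h1 : T g₁ = E g₁) (h2 : T g₂ = E g₂) (h3 : T g₃ = E g₃) : T = E := by
  have : E⁻¹ * T = 1 := by
    apply b.eq_one_of_fix
    · rw [MulAut.mul_apply, h1, MulAut.inv_apply, MulEquiv.symm_apply_apply]
    · rw [MulAut.mul_apply, h2, MulAut.inv_apply, MulEquiv.symm_apply_apply]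
    · rw [MulAut.mul_apply, h3, MulAut.inv_apply, MulEquiv.symm_apply_apply]
  exact (inv_mul_eq_one.mp this).symm

theorem Basis.gen_dich (c : Ctx p I I₀) (b : Basis I I₀ e₁ e₂ e₃ g₁ g₂ g₃) {T : MulAut P}
    (hT : T ∈ I) : (T g₁ = g₁ ∨ T g₁ = g₁⁻¹) ∧ (T g₂ = g₂ ∨ T g₂ = g₂⁻¹) ∧
      (T g₃ = g₃ ∨ T g₃ = g₃⁻¹) := by
  refine ⟨?_, ?_, ?_⟩
  · apply CycP.fix_or_inv c.hp c.hp2 c.hP g₁ T (c.invol hT)
    rw [← b.z1]
    apply c.fix_inv (I.mul_mem b.he₂ b.he₃) hT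
    rw [b.z1]; exact Subgroup.mem_zpowers g₁
  · apply CycP.fix_or_inv c.hp c.hp2 c.hP g₂ T (c.invol hT)
    rw [← b.z2]
    apply c.fix_inv (I.mul_mem b.he₁ b.he₃) hT
    rw [b.z2]; exact Subgroup.mem_zpowers g₂
  · apply CycP.fix_or_inv c.hp c.hp2 c.hP g₃ T (c.invol hT)
    rw [← b.z3]
    apply c.fix_inv (I.mul_mem b.he₁ b.he₂) hT
    rw [b.z3]; exact Subgroup.mem_zpowers g₃

theorem Basis.classify (c : Ctx p I I₀) (b : Basis I I₀ e₁ e₂ e₃ g₁ g₂ g₃) {T : MulAut P}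
    (hT : T ∈ I) : T = 1 ∨ T = e₁ ∨ T = e₂ ∨ T = e₃ ∨ T = e₁ * e₂ ∨ T = e₁ * e₃ ∨ T = e₂ * e₃ ∨
      T = e₁ * e₂ * e₃ := by
  obtain ⟨h1, h2, h3⟩ := b.gen_dich c hT
  rcases h1 with h1 | h1 <;> rcases h2 with h2 | h2 <;> rcases h3 with h3 | h3
  · left
    exact b.eq_one_of_fix h1 h2 h3
  · right; right; right; left
    apply b.eq_of_agree
    · rw [h1, b.a31]
    · rw [h2, b.a32]
    · rw [h3, b.a33]
  · right; right; left
    apply b.eq_of_agree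
    · rw [h1, b.a21]
    · rw [h2, b.a22]
    · rw [h3, b.a23]
  · right; right; right; right; right; right; left
    apply b.eq_of_agree
    · rw [h1, MulAut.mul_apply, b.a31, b.a21]
    · rw [h2, MulAut.mul_apply, b.a32, b.a22]
    · rw [h3, MulAut.mul_apply, b.a33, map_inv, b.a23]
  · right; left
    apply b.eq_of_agree
    · rw [h1, b.a11]
    · rw [h2, b.a12]
    · rw [h3, b.a13]
  · right; right; right; right; right; left
    apply b.eq_of_agree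
    · rw [h1, MulAut.mul_apply, b.a31, b.a11]
    · rw [h2, MulAut.mul_apply, b.a32, b.a12]
    · rw [h3, MulAut.mul_apply, b.a33, map_inv, b.a13]
  · right; right; right; right; left
    apply b.eq_of_agree
    · rw [h1, MulAut.mul_apply, b.a21, b.a11]
    · rw [h2, MulAut.mul_apply, b.a22, map_inv, b.a12]
    · rw [h3, MulAut.mul_apply, b.a23, b.a13]
  · right; right; right; right; right; right; right
    apply b.eq_of_agree
    · rw [h1, b.z1']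
    · rw [h2, b.z2']
    · rw [h3, b.z3']

theorem Basis.ne_inv (c : Ctx p I I₀) {g : P} (hg : g ≠ 1) : g ≠ g⁻¹ :=
  fun h => hg (c.eq_one_of_inv h)

theorem Basis.ne12 (c : Ctx p I I₀) (b : Basis I I₀ e₁ e₂ e₃ g₁ g₂ g₃) : e₁ ≠ e₂ := by
  intro h
  have h1 := b.a11
  rw [h, b.a21] at h1
  exact Basis.ne_inv c b.hg₁ h1

theorem Basis.ne13 (c : Ctx p I I₀) (b : Basis I I₀ e₁ e₂ e₃ g₁ g₂ g₃) : e₁ ≠ e₃ := by
  intro h
  have h1 := b.a11
  rw [h, b.a31] at h1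
  exact Basis.ne_inv c b.hg₁ h1

theorem Basis.ne23 (c : Ctx p I I₀) (b : Basis I I₀ e₁ e₂ e₃ g₁ g₂ g₃) : e₂ ≠ e₃ := by
  intro h
  have h1 := b.a22
  rw [h, b.a32] at h1
  exact Basis.ne_inv c b.hg₂ h1

theorem Basis.ne1 (c : Ctx p I I₀) (b : Basis I I₀ e₁ e₂ e₃ g₁ g₂ g₃) : e₁ ≠ 1 := by
  intro h
  have h1 := b.a11
  rw [h, MulAut.one_apply] at h1
  exact Basis.ne_inv c b.hg₁ h1

theorem Basis.ne2 (c : Ctx p I I₀) (b : Basis I I₀ e₁ e₂ e₃ g₁ g₂ g₃) : e₂ ≠ 1 := by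
  intro h
  have h1 := b.a22
  rw [h, MulAut.one_apply] at h1
  exact Basis.ne_inv c b.hg₂ h1

theorem Basis.ne3 (c : Ctx p I I₀) (b : Basis I I₀ e₁ e₂ e₃ g₁ g₂ g₃) : e₃ ≠ 1 := by
  intro h
  have h1 := b.a33
  rw [h, MulAut.one_apply] at h1
  exact Basis.ne_inv c b.hg₃ h1

end Cfsg.Agent.Lib.Helper5.E8
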