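import Mathlib
import Cfsg.Agent.Lib.Helper5.E8D

set_option autoImplicit false

namespace Cfsg.Agent.Lib.Helper5.E8

open Cfsg.Agent.Lib.Helper5 Cfsg.Agent.Lib.Helper5.Inv4

theorem card_ker_pow_le {A : Type*} [CommGroup A] [Finite A] (p : ℕ) (hp : 0 < p) (a b : A)
    (h : Subgroup.closure {a, b} = ⊤) : Nat.card (powMonoidHom p : A →* A).ker ≤ p ^ 2 := by
  set π : A →* A := powMonoidHom p with hπ
  let f : (Fin p × Fin p) × ↥π.range → A := fun t => a ^ (t.1.1 : ℕ) * b ^ (t.1.2 : ℕ) * (t.2 : A)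
  have hsurj : Function.Surjective f := by
    intro x
    have hx : x ∈ Subgroup.closure {a, b} := by rw [h]; exact Subgroup.mem_top x
    obtain ⟨m, n, hmn⟩ := Subgroup.mem_closure_pair.mp hx
    have hp' : (0 : ℤ) < p := by exact_mod_cast hp
    have hm1 : 0 ≤ m % p := Int.emod_nonneg _ hp'.ne'
    have hm2 : m % p < p := Int.emod_lt_of_pos _ hp'
    have hn1 : 0 ≤ n % p := Int.emod_nonneg _ hp'.ne'
    have hn2 : n % p < p := Int.emod_lt_of_pos _ hp'
    have hi : (m % p).toNat < p := by omega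
    have hj : (n % p).toNat < p := by omega
    have hy : (a ^ (m / p) * b ^ (n / p)) ^ p ∈ π.range := ⟨a ^ (m / p) * b ^ (n / p), rfl⟩
    refine ⟨((⟨(m % p).toNat, hi⟩, ⟨(n % p).toNat, hj⟩), ⟨_, hy⟩), ?_⟩
    show a ^ ((m % p).toNat) * b ^ ((n % p).toNat) * (a ^ (m / p) * b ^ (n / p)) ^ p = x
    have e1 : a ^ ((m % p).toNat) = a ^ (m % p) := by
      rw [← zpow_natCast, Int.toNat_of_nonneg hm1]
    have e2 : b ^ ((n % p).toNat) = b ^ (n % p) := by
      rw [← zpow_natCast, Int.toNat_of_nonneg hn1]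
    have e3 : (a ^ (m / p) * b ^ (n / p)) ^ p = a ^ ((p : ℤ) * (m / p)) * b ^ ((p : ℤ) * (n / p)) := by
      rw [mul_pow, ← zpow_natCast, ← zpow_natCast, ← zpow_mul, ← zpow_mul, mul_comm (m / p),
        mul_comm (n / p)]
    rw [e1, e2, e3, ← hmn]
    have e4 : a ^ m = a ^ (m % p) * a ^ ((p : ℤ) * (m / p)) := by
      rw [← zpow_add, Int.emod_add_mul_ediv]
    have e5 : b ^ n = b ^ (n % p) * b ^ ((p : ℤ) * (n / p)) := by
      rw [← zpow_add, Int.emod_add_mul_ediv]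
    rw [e4, e5]
    exact mul_mul_mul_comm _ _ _ _
  have h1 : Nat.card A ≤ p * p * Nat.card ↥π.range := by
    have := Nat.card_le_card_of_surjective f hsurj
    rw [Nat.card_prod, Nat.card_prod, Nat.card_fin] at this
    exact this
  have h2 : Nat.card ↥π.ker * Nat.card ↥π.range = Nat.card A := by
    rw [← Subgroup.index_ker]
    exact Subgroup.card_mul_index π.ker
  have h3 : 0 < Nat.card ↥π.range := Nat.card_pos
  rw [← h2] at h1
  have h4 : Nat.card ↥π.ker ≤ p * p := Nat.le_of_mul_le_mul_right h1 h3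
  rw [pow_two]
  exact h4

theorem two_gen_bound {A : Type*} [Group A] [Finite A] (hcomm : ∀ x y : A, x * y = y * x)
    (p : ℕ) (hp : 0 < p) (a b : A) (h : Subgroup.closure {a, b} = ⊤) (K : Subgroup A)
    (hK : ∀ x ∈ K, x ^ p = 1) : Nat.card K ≤ p ^ 2 := by
  letI cg : CommGroup A := { ‹Group A› with mul_comm := hcomm }
  have h1 := card_ker_pow_le (A := A) p hp a b h
  have h2 : K ≤ (powMonoidHom p : A →* A).ker := by
    intro x hx
    rw [MonoidHom.mem_ker]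
    exact hK x hx
  exact (Subgroup.card_le_of_le h2).trans h1

theorem mul_card_le_of_lt {A : Type*} [Group A] [Finite A] {p : ℕ} (hp : p.Prime)
    (hA : IsPGroup p A) {H K : Subgroup A} (h : H < K) : p * Nat.card H ≤ Nat.card K := by
  haveI : Fact p.Prime := ⟨hp⟩
  obtain ⟨a, ha⟩ := IsPGroup.iff_card.mp (hA.to_subgroup H)
  obtain ⟨b, hb⟩ := IsPGroup.iff_card.mp (hA.to_subgroup K)
  have hlt : Nat.card H < Nat.card K := Set.Finite.card_lt_card (Set.toFinite _) h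
  rw [ha, hb] at hlt ⊢
  have hab : a < b := (Nat.pow_lt_pow_iff_right hp.one_lt).mp hlt
  rw [← pow_succ']
  exact Nat.pow_le_pow_right hp.pos hab

theorem three_chain {A : Type*} [Group A] [Finite A] {p : ℕ} (hp : p.Prime) (hA : IsPGroup p A)
    (K : Subgroup A) (w₁ w₂ w₃ : A) (h1 : w₁ ∈ K) (h2 : w₂ ∈ K) (h3 : w₃ ∈ K) (n1 : w₁ ≠ 1)
    (n2 : w₂ ∉ Subgroup.zpowers w₁) (n3 : w₃ ∉ Subgroup.zpowers w₁ ⊔ Subgroup.zpowers w₂) :
    p ^ 3 ≤ Nat.card K := by
  have l1 : (⊥ : Subgroup A) < Subgroup.zpowers w₁ := by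
    rw [bot_lt_iff_ne_bot, Ne, Subgroup.zpowers_eq_bot]; exact n1
  have l2 : Subgroup.zpowers w₁ < Subgroup.zpowers w₁ ⊔ Subgroup.zpowers w₂ := by
    apply lt_of_le_of_ne le_sup_left
    intro h
    apply n2
    rw [h]
    exact Subgroup.mem_sup_right (Subgroup.mem_zpowers w₂)
  have l3 : Subgroup.zpowers w₁ ⊔ Subgroup.zpowers w₂ <
      Subgroup.zpowers w₁ ⊔ Subgroup.zpowers w₂ ⊔ Subgroup.zpowers w₃ := by
    apply lt_of_le_of_ne le_sup_left
    intro h
    apply n3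
    rw [h]
    exact Subgroup.mem_sup_right (Subgroup.mem_zpowers w₃)
  have l4 : Subgroup.zpowers w₁ ⊔ Subgroup.zpowers w₂ ⊔ Subgroup.zpowers w₃ ≤ K := by
    refine sup_le (sup_le ?_ ?_) ?_
    · rw [Subgroup.zpowers_le]; exact h1
    · rw [Subgroup.zpowers_le]; exact h2
    · rw [Subgroup.zpowers_le]; exact h3
  have c1 := mul_card_le_of_lt hp hA l1
  have c2 := mul_card_le_of_lt hp hA l2
  have c3 := mul_card_le_of_lt hp hA l3
  have c4 := Subgroup.card_le_of_le l4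
  rw [Subgroup.card_bot, mul_one] at c1
  calc p ^ 3 = p * (p * p) := by ring
    _ ≤ p * (p * Nat.card ↥(Subgroup.zpowers w₁)) := by gcongr
    _ ≤ p * Nat.card ↥(Subgroup.zpowers w₁ ⊔ Subgroup.zpowers w₂) := by gcongr
    _ ≤ Nat.card ↥(Subgroup.zpowers w₁ ⊔ Subgroup.zpowers w₂ ⊔ Subgroup.zpowers w₃) := c3
    _ ≤ Nat.card K := c4

variable {P : Type*} [Group P] {p : ℕ} {I I₀ : Subgroup (MulAut P)}
  {e₁ e₂ e₃ : MulAut P} {g₁ g₂ g₃ : P}

theorem Basis.not_two_gen [Finite P] (c : Ctx p I I₀) (b : Basis I I₀ e₁ e₂ e₃ g₁ g₂ g₃) :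
    ¬ ∃ x y : P, Subgroup.closure {x, y} = ⊤ := by
  rintro ⟨x, y, hxy⟩
  let K : Subgroup P :=
    { carrier := {u | u ^ p = 1}
      mul_mem' := by
        intro u v hu hv
        simp only [Set.mem_setOf_eq] at *
        rw [(Commute.mul_pow (b.comm c u v) p), hu, hv, one_mul]
      one_mem' := one_pow p
      inv_mem' := by
        intro u hu
        simp only [Set.mem_setOf_eq] at *
        rw [inv_pow, hu, inv_one] }
  have hK : ∀ u ∈ K, u ^ p = 1 := fun u hu => hu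
  have hub := two_gen_bound (b.comm c) p c.hp.pos x y hxy K hK
  have hw : ∀ g : P, g ≠ 1 → (g ^ (orderOf g / p)) ∈ K := by
    intro g hg
    show (g ^ (orderOf g / p)) ^ p = 1
    have := CycP.exists_orderOf_eq c.hp c.hP hg
    have h2 := pow_orderOf_eq_one (g ^ (orderOf g / p))
    rwa [this] at h2
  have hlb := three_chain c.hp c.hP K _ _ _ (hw g₁ b.hg₁) (hw g₂ b.hg₂) (hw g₃ b.hg₃)
    (CycP.bottom_ne_one c.hp c.hP g₁ b.hg₁) ?_ ?_
  · have : p ^ 3 ≤ p ^ 2 := hlb.trans hub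
    have h2 := (Nat.pow_le_pow_iff_right c.hp.one_lt).mp this
    omega
  · intro hmem
    have hz1 : g₂ ^ (orderOf g₂ / p) ∈ Subgroup.zpowers g₁ :=
      (Subgroup.zpowers_le.mpr ((Subgroup.zpowers g₁).pow_mem (Subgroup.mem_zpowers g₁) _)) hmem
    have hz2 : g₂ ^ (orderOf g₂ / p) ∈ Subgroup.zpowers g₂ :=
      (Subgroup.zpowers g₂).pow_mem (Subgroup.mem_zpowers g₂) _
    have e1 := fix_on b.a21 _ hz1
    have e2 := inv_on b.a22 _ hz2
    exact CycP.bottom_ne_one c.hp c.hP g₂ b.hg₂ (c.eq_one_of_inv (e1.symm.trans e2))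
  · intro hmem
    have hle : Subgroup.zpowers (g₁ ^ (orderOf g₁ / p)) ⊔ Subgroup.zpowers (g₂ ^ (orderOf g₂ / p)) ≤
        fixSub e₃ := by
      refine sup_le ?_ ?_
      · rw [Subgroup.zpowers_le, mem_fixSub, map_pow, b.a31]
      · rw [Subgroup.zpowers_le, mem_fixSub, map_pow, b.a32]
    have e1 : e₃ (g₃ ^ (orderOf g₃ / p)) = g₃ ^ (orderOf g₃ / p) := hle hmem
    have e2 : e₃ (g₃ ^ (orderOf g₃ / p)) = (g₃ ^ (orderOf g₃ / p))⁻¹ := by
      rw [map_pow, b.a33, inv_pow]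
    exact CycP.bottom_ne_one c.hp c.hP g₃ b.hg₃ (c.eq_one_of_inv (e1.symm.trans e2))

theorem Basis.three_gen (b : Basis I I₀ e₁ e₂ e₃ g₁ g₂ g₃) :
    Subgroup.closure {g₁, g₂, g₃} = ⊤ := by
  rw [eq_top_iff, ← b.top]
  refine sup_le (sup_le ?_ ?_) ?_
  · rw [Subgroup.zpowers_le]; exact Subgroup.subset_closure (by simp)
  · rw [Subgroup.zpowers_le]; exact Subgroup.subset_closure (by simp)
  · rw [Subgroup.zpowers_le]; exact Subgroup.subset_closure (by simp)

end Cfsg.Agent.Lib.Helper5.E8
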