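import Mathlib
import Cfsg.Agent.Lib.helper3.DicksonConcB
import Cfsg.Agent.Lib.helper3.DicksonAsm
import Cfsg.Agent.Lib.helper6.DicksonMain
import Cfsg.Agent.Lib.helper6.PSL2TorA
import Cfsg.Agent.Lib.helper6.PSL2Index

set_option autoImplicit false

namespace Cfsg.Agent.Lib.Helper5.Ex3Lin

open Matrix
open scoped MatrixGroups

section PPrime

variable {F : Type} [Field F] [Fintype F] {p : ℕ} [Fact p.Prime] [CharP F p]

theorem no_p_of_iso {H K : Type*} [Group H] [Group K] [Finite K] (e : H ≃* K)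
    (hH : ∀ h : H, h ^ p = 1 → h = 1) (hK : p ∣ Nat.card K) : False := by
  obtain ⟨k, hk⟩ := exists_prime_orderOf_dvd_card' p hK
  have h1 : (e.symm k) ^ p = 1 := by
    rw [← map_pow, ← hk, pow_orderOf_eq_one, map_one]
  have h2 := hH _ h1
  have h3 : k = 1 := by
    have := congrArg e h2
    rwa [MulEquiv.apply_symm_apply, map_one] at this
  rw [h3, orderOf_one] at hk
  exact (Fact.out : p.Prime).one_lt.ne hk

theorem pprime_dickson (hp2 : p ≠ 2) (H : Subgroup (Matrix.ProjectiveSpecialLinearGroup (Fin 2) F))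
    (hH : ∀ h ∈ H, h ^ p = 1 → h = 1) :
    (∀ x y : H, x ^ 2 = 1 ∨ y ^ 2 = 1 ∨ x * y = y * x) ∨
    (∀ x : H, x ^ 2 = 1 ∨ x ^ 3 = 1) ∨
    Nonempty (H ≃* Equiv.Perm (Fin 4)) ∨
    (∀ x : H, x ^ 2 = 1 ∨ x ^ 3 = 1 ∨ x ^ 5 = 1) := by
  classical
  have hpP : p.Prime := Fact.out
  have hH' : ∀ h : H, h ^ p = 1 → h = 1 := by
    intro h hh
    apply Subtype.ext
    apply hH _ h.2
    have := congrArg Subtype.val hh
    simpa using this
  obtain ⟨X, inst, D⟩ := Cfsg.Agent.Lib.helper3.psl2_dact (F := F) p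
  letI : MulAction (Matrix.ProjectiveSpecialLinearGroup (Fin 2) F) X := inst
  have DH := Cfsg.Agent.Lib.helper3.dk_restrict D H
  rcases Cfsg.Agent.Lib.helper6.Dickson.dickson_abstract DH with h | h | h | h | h | h | h
  · left
    obtain ⟨hcyc, -⟩ := h
    intro x y
    right; right
    haveI := hcyc
    exact IsCyclic.commGroup.mul_comm x y
  · left
    obtain ⟨s₀, ⟨e⟩, -⟩ := h
    intro x y
    by_cases hx : x ^ 2 = 1
    · left; exact hx
    by_cases hy : y ^ 2 = 1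
    · right; left; exact hy
    right; right
    have key : ∀ z : H, z ^ 2 ≠ 1 → ∃ i, e z = DihedralGroup.r i := by
      intro z hz
      cases hez : e z with
      | r i => exact ⟨i, rfl⟩
      | sr i =>
        exfalso
        apply hz
        apply e.injective
        rw [map_pow, hez, pow_two, DihedralGroup.sr_mul_self, map_one]
    obtain ⟨i, hi⟩ := key x hx
    obtain ⟨j, hj⟩ := key y hy
    apply e.injective
    rw [map_mul, map_mul, hi, hj, DihedralGroup.r_mul_r, DihedralGroup.r_mul_r, add_comm]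
  · exfalso
    obtain ⟨r, -, hQ⟩ := h
    obtain ⟨u, hu1⟩ := (Subgroup.ne_bot_iff_exists_ne_one).mp hQ
    have h1 : ((u : H)) ^ p = 1 := DH.Q_pow u.2
    have h2 := hH' _ h1
    exact hu1 (Subtype.ext h2)
  · right; left
    obtain ⟨e⟩ := h
    intro x
    rcases Cfsg.Agent.Lib.helper6.PSL2Tor.pow_A4 (e x) with h1 | h1
    · left; apply e.injective; rw [map_pow, h1, map_one]
    · right; apply e.injective; rw [map_pow, h1, map_one]
  · right; right; left; exact h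
  · right; right; right
    obtain ⟨e⟩ := h
    intro x
    rcases Cfsg.Agent.Lib.helper6.PSL2Tor.pow_A5 (e x) with h1 | h1 | h1
    · left; apply e.injective; rw [map_pow, h1, map_one]
    · right; left; apply e.injective; rw [map_pow, h1, map_one]
    · right; right; apply e.injective; rw [map_pow, h1, map_one]
  · exfalso
    obtain ⟨K, instK, instKt, a, h0, hcard, hh⟩ := h
    have ha : 1 ≤ a := by
      by_contra hlt
      have h0 : a = 0 := by omega
      rw [h0, pow_zero] at hcard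
      have := Fintype.one_lt_card (α := K)
      omega
    have hpq : p ∣ Fintype.card K * (Fintype.card K ^ 2 - 1) := by
      rw [hcard]
      exact Dvd.dvd.mul_right (dvd_pow_self p (by omega)) _
    rcases hh with ⟨⟨e⟩, -⟩ | ⟨⟨e⟩, -⟩
    · have h1 := Cfsg.Agent.Lib.helper6.PSL2Index.card_PSL2_mul (F := K)
      rw [← h1] at hpq
      have h2 : p ∣ Nat.card (Matrix.ProjectiveSpecialLinearGroup (Fin 2) K) := by
        rcases (Nat.Prime.dvd_mul hpP).mp hpq with h | h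
        · exact h
        · exfalso
          have h3 : Nat.gcd 2 (Fintype.card K - 1) ∣ 2 := Nat.gcd_dvd_left _ _
          have h4 := (Nat.prime_dvd_prime_iff_eq hpP Nat.prime_two).mp (h.trans h3)
          exact hp2 h4
      exact no_p_of_iso e hH' h2
    · have h1 := Cfsg.Agent.Lib.helper6.PSL2Index.card_PGL2 (F := K)
      rw [← h1] at hpq
      haveI : Finite (Matrix.ProjGenLinGroup (Fin 2) K) := by
        unfold Matrix.ProjGenLinGroup
        infer_instance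
      exact no_p_of_iso e hH' hpq

end PPrime



section Lift

variable {p : ℕ} [Fact p.Prime] {F : Type} [Field F] [Algebra (ZMod p) F]

def liftM (F : Type) [Field F] [Algebra (ZMod p) F] (M : Matrix (Fin 2) (Fin 2) (ZMod p)) :
    Matrix (Fin 2) (Fin 2) F :=
  (algebraMap (ZMod p) F).mapMatrix M

theorem liftM_apply (M : Matrix (Fin 2) (Fin 2) (ZMod p)) (i j : Fin 2) :
    liftM F M i j = algebraMap (ZMod p) F (M i j) := rfl

theorem liftM_mul (M N : Matrix (Fin 2) (Fin 2) (ZMod p)) :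
    liftM F (M * N) = liftM F M * liftM F N := by
  unfold liftM
  rw [map_mul]

theorem liftM_one : liftM F (1 : Matrix (Fin 2) (Fin 2) (ZMod p)) = 1 := by
  unfold liftM
  rw [map_one]

theorem liftM_pow (M : Matrix (Fin 2) (Fin 2) (ZMod p)) (k : ℕ) :
    liftM F (M ^ k) = liftM F M ^ k := by
  unfold liftM
  rw [map_pow]

theorem liftM_injective : Function.Injective (liftM (p := p) F) := by
  intro M N h
  ext i j
  have h1 := congrFun (congrFun h i) j
  rw [liftM_apply, liftM_apply] at h1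
  exact (algebraMap (ZMod p) F).injective h1

theorem liftM_det (M : Matrix (Fin 2) (Fin 2) (ZMod p)) :
    (liftM F M).det = algebraMap (ZMod p) F M.det := by
  unfold liftM
  rw [← RingHom.map_det]

/-- the subgroup of `SL₂(F)` of scalar multiples of lifts of elements of `H` -/
def tildeH (F : Type) [Field F] [Algebra (ZMod p) F] (H : Subgroup (GL (Fin 2) (ZMod p))) :
    Subgroup (SL(2, F)) where
  carrier := {A | ∃ γ ∈ H, ∃ c : F, c ≠ 0 ∧
    (A : Matrix (Fin 2) (Fin 2) F) = c • liftM F (γ : Matrix (Fin 2) (Fin 2) (ZMod p))}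
  mul_mem' := by
    rintro A B ⟨γ, hγ, c, hc, hA⟩ ⟨δ, hδ, d, hd, hB⟩
    refine ⟨γ * δ, H.mul_mem hγ hδ, c * d, mul_ne_zero hc hd, ?_⟩
    rw [Matrix.SpecialLinearGroup.coe_mul, hA, hB, Matrix.GeneralLinearGroup.coe_mul, liftM_mul,
      Matrix.smul_mul, Matrix.mul_smul, smul_smul]
  one_mem' := by
    refine ⟨1, H.one_mem, 1, one_ne_zero, ?_⟩
    rw [one_smul]
    show ((1 : SL(2, F)) : Matrix (Fin 2) (Fin 2) F) = liftM F ((1 : GL (Fin 2) (ZMod p)) : Matrix (Fin 2) (Fin 2) (ZMod p))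
    rw [Matrix.SpecialLinearGroup.coe_one, Units.val_one, liftM_one]
  inv_mem' := by
    rintro A ⟨γ, hγ, c, hc, hA⟩
    refine ⟨γ⁻¹, H.inv_mem hγ, c⁻¹, inv_ne_zero hc, ?_⟩
    have h1 : (c⁻¹ • liftM F ((γ⁻¹ : GL (Fin 2) (ZMod p)) : Matrix (Fin 2) (Fin 2) (ZMod p))) *
        (A : Matrix (Fin 2) (Fin 2) F) = 1 := by
      rw [hA, Matrix.smul_mul, Matrix.mul_smul, smul_smul, inv_mul_cancel₀ hc, one_smul, ← liftM_mul,
        ← Matrix.GeneralLinearGroup.coe_mul, inv_mul_cancel, Units.val_one, liftM_one]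
    have h2 : ((A⁻¹ : SL(2, F)) : Matrix (Fin 2) (Fin 2) F) * (A : Matrix (Fin 2) (Fin 2) F) = 1 := by
      rw [← Matrix.SpecialLinearGroup.coe_mul, inv_mul_cancel, Matrix.SpecialLinearGroup.coe_one]
    rw [← Matrix.inv_eq_left_inv h2, Matrix.inv_eq_left_inv h1]

theorem mem_tildeH (H : Subgroup (GL (Fin 2) (ZMod p))) (A : SL(2, F)) :
    A ∈ tildeH F H ↔ ∃ γ ∈ H, ∃ c : F, c ≠ 0 ∧
      (A : Matrix (Fin 2) (Fin 2) F) = c • liftM F (γ : Matrix (Fin 2) (Fin 2) (ZMod p)) := Iff.rfl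

end Lift



section Center

variable {F : Type} [Field F]

theorem center_scalar (A : SL(2, F)) (hA : A ∈ Subgroup.center (SL(2, F))) :
    ∃ r : F, r ^ 2 = 1 ∧ (A : Matrix (Fin 2) (Fin 2) F) = r • (1 : Matrix (Fin 2) (Fin 2) F) := by
  obtain ⟨r, hr, hA⟩ := Matrix.SpecialLinearGroup.mem_center_iff.mp hA
  refine ⟨r, by simpa using hr, ?_⟩
  rw [← hA, Matrix.scalar_apply, Matrix.smul_one_eq_diagonal]

theorem mem_center_of_scalar (A : SL(2, F)) (r : F)
    (hA : (A : Matrix (Fin 2) (Fin 2) F) = r • (1 : Matrix (Fin 2) (Fin 2) F)) :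
    A ∈ Subgroup.center (SL(2, F)) := by
  rw [Matrix.SpecialLinearGroup.mem_center_iff]
  refine ⟨r, ?_, ?_⟩
  · have h1 := A.det_coe
    rw [hA, Matrix.det_smul, Matrix.det_one, mul_one] at h1
    exact h1
  · rw [hA, Matrix.scalar_apply, Matrix.smul_one_eq_diagonal]

end Center



theorem mulVec_fin_two' {K : Type*} [Field K] (M : Matrix (Fin 2) (Fin 2) K) (v : Fin 2 → K) :
    M.mulVec v = ![M 0 0 * v 0 + M 0 1 * v 1, M 1 0 * v 0 + M 1 1 * v 1] := by
  ext i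
  fin_cases i <;> simp [Matrix.mulVec, dotProduct, Fin.sum_univ_two]

section TorSec

variable {p : ℕ} [Fact p.Prime]

structure Tor (a : (ZMod p)ˣ) (γ : GL (Fin 2) (ZMod p)) (v : Fin 2 → ZMod p) : Prop where
  ne : v ≠ 0
  eig : (γ : Matrix (Fin 2) (Fin 2) (ZMod p)).mulVec v = ((a⁻¹ : (ZMod p)ˣ) : ZMod p) • v
  det : (γ : Matrix (Fin 2) (Fin 2) (ZMod p)).det = (a : ZMod p)

variable {a : (ZMod p)ˣ} {γ : GL (Fin 2) (ZMod p)} {v : Fin 2 → ZMod p}

theorem Tor.trace (h : Tor a γ v) :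
    (γ : Matrix (Fin 2) (Fin 2) (ZMod p)).trace = ((a⁻¹ : (ZMod p)ˣ) : ZMod p) + (a : ZMod p) ^ 2 := by
  obtain ⟨lam, hlam⟩ : ∃ lam : ZMod p, lam = ((a⁻¹ : (ZMod p)ˣ) : ZMod p) := ⟨_, rfl⟩
  have hla : lam * (a : ZMod p) = 1 := by
    rw [hlam, ← Units.val_mul, inv_mul_cancel, Units.val_one]
  have h1 : ((γ : Matrix (Fin 2) (Fin 2) (ZMod p)) - lam • 1).det = 0 := by
    rw [← Matrix.exists_mulVec_eq_zero_iff]
    refine ⟨v, h.ne, ?_⟩
    rw [Matrix.sub_mulVec, h.eig, ← hlam, Matrix.smul_mulVec, Matrix.one_mulVec, sub_self]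
  rw [Matrix.det_fin_two] at h1
  have hd := h.det
  rw [Matrix.det_fin_two] at hd
  rw [Matrix.trace_fin_two, ← hlam]
  simp only [Matrix.sub_apply, Matrix.smul_apply, Matrix.one_apply_eq, smul_eq_mul, mul_one,
    Matrix.one_apply_ne (show (0 : Fin 2) ≠ 1 by decide), Matrix.one_apply_ne (show (1 : Fin 2) ≠ 0 by decide),
    mul_zero, sub_zero] at h1
  linear_combination (-(a : ZMod p)) * h1 + (a : ZMod p) * hd - (γ.1 0 0 + γ.1 1 1 - lam) * hla

theorem Tor.pow_eig (h : Tor a γ v) (k : ℕ) :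
    ((γ : Matrix (Fin 2) (Fin 2) (ZMod p)) ^ k).mulVec v = (((a⁻¹ : (ZMod p)ˣ) : ZMod p) ^ k) • v := by
  induction k with
  | zero => rw [pow_zero, pow_zero, Matrix.one_mulVec, one_smul]
  | succ k ih =>
    rw [pow_succ, ← Matrix.mulVec_mulVec, h.eig, Matrix.mulVec_smul, ih, smul_smul, pow_succ, mul_comm]

theorem Tor.pow_scalar (h : Tor a γ v) (k : ℕ) (t : ZMod p)
    (ht : (γ : Matrix (Fin 2) (Fin 2) (ZMod p)) ^ k = t • 1) : a ^ (3 * k) = 1 := by
  have h1 := h.pow_eig k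
  rw [ht, Matrix.smul_mulVec, Matrix.one_mulVec] at h1
  have h2 : t = ((a⁻¹ : (ZMod p)ˣ) : ZMod p) ^ k := by
    have hv := h.ne
    by_contra hne
    apply hv
    have h3 : (t - ((a⁻¹ : (ZMod p)ˣ) : ZMod p) ^ k) • v = 0 := by
      rw [sub_smul, h1, sub_self]
    rcases smul_eq_zero.mp h3 with h4 | h4
    · exact absurd (sub_eq_zero.mp h4) hne
    · exact h4
  have h3 : ((γ : Matrix (Fin 2) (Fin 2) (ZMod p)) ^ k).det = (a : ZMod p) ^ k := by
    rw [Matrix.det_pow, h.det]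
  rw [ht, Matrix.det_smul, Matrix.det_one, mul_one, h2] at h3
  simp only [Fintype.card_fin] at h3
  apply Units.ext
  rw [Units.val_pow_eq_pow_val, Units.val_one]
  have hla : ((a⁻¹ : (ZMod p)ˣ) : ZMod p) * (a : ZMod p) = 1 := by
    rw [← Units.val_mul, inv_mul_cancel, Units.val_one]
  have h4 : (((a⁻¹ : (ZMod p)ˣ) : ZMod p) ^ k * (a : ZMod p) ^ k) = 1 := by
    rw [← mul_pow, hla, one_pow]
  calc (a : ZMod p) ^ (3 * k) = ((a : ZMod p) ^ k) * ((a : ZMod p) ^ k) ^ 2 := by ring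
    _ = ((((a⁻¹ : (ZMod p)ˣ) : ZMod p) ^ k) ^ 2) * ((a : ZMod p) ^ k) ^ 2 := by rw [← h3]
    _ = 1 := by rw [← mul_pow, h4, one_pow]

theorem Tor.eigenline (h : Tor a γ v) (ha3 : a ^ 3 ≠ 1) (u : Fin 2 → ZMod p)
    (hu : (γ : Matrix (Fin 2) (Fin 2) (ZMod p)).mulVec u = ((a⁻¹ : (ZMod p)ˣ) : ZMod p) • u) :
    ∃ μ : ZMod p, u = μ • v := by
  by_contra hne
  have hD : v 0 * u 1 - v 1 * u 0 ≠ 0 := by
    by_contra hD
    apply hne
    by_cases h0 : v 0 = 0
    · have h1 : v 1 ≠ 0 := by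
        intro h1
        apply h.ne
        ext i
        fin_cases i
        · exact h0
        · exact h1
      refine ⟨u 1 / v 1, ?_⟩
      ext i
      fin_cases i
      · simp only [Fin.zero_eta, Pi.smul_apply, smul_eq_mul, h0, mul_zero]
        rw [h0, zero_mul, zero_sub, neg_eq_zero] at hD
        rcases mul_eq_zero.mp hD with h | h
        · exact absurd h h1
        · exact h
      · simp only [Fin.mk_one, Pi.smul_apply, smul_eq_mul]
        field_simp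
    · refine ⟨u 0 / v 0, ?_⟩
      ext i
      fin_cases i
      · simp only [Fin.zero_eta, Pi.smul_apply, smul_eq_mul]
        field_simp
      · simp only [Fin.mk_one, Pi.smul_apply, smul_eq_mul]
        field_simp
        linear_combination hD
  have hw := h.eig
  rw [mulVec_fin_two'] at hw hu
  have hw0 := congrFun hw 0
  have hw1 := congrFun hw 1
  have hu0 := congrFun hu 0
  have hu1 := congrFun hu 1
  simp only [Matrix.cons_val_zero, Matrix.cons_val_one, Pi.smul_apply, smul_eq_mul] at hw0 hw1 hu0 hu1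
  obtain ⟨lam, hlam⟩ : ∃ lam : ZMod p, lam = ((a⁻¹ : (ZMod p)ˣ) : ZMod p) := ⟨_, rfl⟩
  rw [← hlam] at hw0 hw1 hu0 hu1
  have e00 : (γ.1 0 0 - lam) * (v 0 * u 1 - v 1 * u 0) = 0 := by
    linear_combination u 1 * hw0 - v 1 * hu0
  have e01 : γ.1 0 1 * (v 0 * u 1 - v 1 * u 0) = 0 := by
    linear_combination v 0 * hu0 - u 0 * hw0
  have e10 : γ.1 1 0 * (v 0 * u 1 - v 1 * u 0) = 0 := by
    linear_combination u 1 * hw1 - v 1 * hu1
  have e11 : (γ.1 1 1 - lam) * (v 0 * u 1 - v 1 * u 0) = 0 := by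
    linear_combination v 0 * hu1 - u 0 * hw1
  have f00 := sub_eq_zero.mp ((mul_eq_zero.mp e00).resolve_right hD)
  have f01 := (mul_eq_zero.mp e01).resolve_right hD
  have f10 := (mul_eq_zero.mp e10).resolve_right hD
  have f11 := sub_eq_zero.mp ((mul_eq_zero.mp e11).resolve_right hD)
  have hd := h.det
  rw [Matrix.det_fin_two, f00, f01, f10, f11] at hd
  have hla : lam * (a : ZMod p) = 1 := by
    rw [hlam, ← Units.val_mul, inv_mul_cancel, Units.val_one]
  apply ha3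
  apply Units.ext
  rw [Units.val_pow_eq_pow_val, Units.val_one]
  linear_combination (-(a:ZMod p)^2) * hd + (lam * (a : ZMod p) + 1) * hla

theorem Tor.comm_eig {δ : GL (Fin 2) (ZMod p)} {w : Fin 2 → ZMod p} (h : Tor a γ v) (h' : Tor a δ w)
    (ha3 : a ^ 3 ≠ 1) (hc : γ * δ = δ * γ) :
    ∃ μ : ZMod p, (γ : Matrix (Fin 2) (Fin 2) (ZMod p)).mulVec w = μ • w := by
  apply h'.eigenline ha3
  rw [Matrix.mulVec_mulVec, ← Matrix.GeneralLinearGroup.coe_mul, ← hc, Matrix.GeneralLinearGroup.coe_mul,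
    ← Matrix.mulVec_mulVec, h'.eig, Matrix.mulVec_smul]

end TorSec

section MainSec

variable {p : ℕ} [Fact p.Prime] {F : Type} [Field F] [Algebra (ZMod p) F]

theorem eq_smul_one_of_lift (M : Matrix (Fin 2) (Fin 2) (ZMod p)) (c s : F) (hc : c ≠ 0)
    (h : c • liftM F M = s • (1 : Matrix (Fin 2) (Fin 2) F)) :
    M = (M 0 0) • (1 : Matrix (Fin 2) (Fin 2) (ZMod p)) := by
  have hinj := (algebraMap (ZMod p) F).injective
  have h00 := congrFun (congrFun h 0) 0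
  have h01 := congrFun (congrFun h 0) 1
  have h10 := congrFun (congrFun h 1) 0
  have h11 := congrFun (congrFun h 1) 1
  simp only [Matrix.smul_apply, liftM_apply, smul_eq_mul, Matrix.one_apply_eq, mul_one,
    Matrix.one_apply_ne (show (0 : Fin 2) ≠ 1 by decide),
    Matrix.one_apply_ne (show (1 : Fin 2) ≠ 0 by decide), mul_zero] at h00 h01 h10 h11
  have e01 : M 0 1 = 0 := by
    apply hinj
    rw [map_zero]
    exact (mul_eq_zero.mp h01).resolve_left hc
  have e10 : M 1 0 = 0 := by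
    apply hinj
    rw [map_zero]
    exact (mul_eq_zero.mp h10).resolve_left hc
  have e11 : M 1 1 = M 0 0 := by
    apply hinj
    apply mul_left_cancel₀ hc
    rw [h11, h00]
  ext i j
  fin_cases i <;> fin_cases j <;> simp [e01, e10, e11]

abbrev piC (F : Type) [Field F] : SL(2, F) →* Matrix.ProjectiveSpecialLinearGroup (Fin 2) F :=
  QuotientGroup.mk' (Subgroup.center (SL(2, F)))

/-- the image of `H` in `PSL₂(F)` -/
def projH (F : Type) [Field F] [Algebra (ZMod p) F] (H : Subgroup (GL (Fin 2) (ZMod p))) :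
    Subgroup (Matrix.ProjectiveSpecialLinearGroup (Fin 2) F) :=
  (tildeH F H).map (piC F)

theorem pow_scalar_of_proj {A : SL(2, F)} {γ : GL (Fin 2) (ZMod p)} {c : F} (hc : c ≠ 0)
    (hA : (A : Matrix (Fin 2) (Fin 2) F) = c • liftM F (γ : Matrix (Fin 2) (Fin 2) (ZMod p))) (k : ℕ)
    (hk : (piC F A) ^ k = 1) :
    ∃ t : ZMod p, (γ : Matrix (Fin 2) (Fin 2) (ZMod p)) ^ k = t • 1 := by
  rw [← map_pow] at hk
  have h1 : A ^ k ∈ Subgroup.center (SL(2, F)) := (QuotientGroup.eq_one_iff _).mp hk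
  obtain ⟨r, -, hr⟩ := center_scalar _ h1
  rw [Matrix.SpecialLinearGroup.coe_pow, hA, smul_pow, ← liftM_pow] at hr
  exact ⟨_, eq_smul_one_of_lift _ _ _ (pow_ne_zero k hc) hr⟩

theorem proj_eq_one_of_scalar {A : SL(2, F)} {γ : GL (Fin 2) (ZMod p)} {c : F}
    (hA : (A : Matrix (Fin 2) (Fin 2) F) = c • liftM F (γ : Matrix (Fin 2) (Fin 2) (ZMod p)))
    (t : ZMod p) (ht : (γ : Matrix (Fin 2) (Fin 2) (ZMod p)) = t • 1) : piC F A = 1 := by
  apply (QuotientGroup.eq_one_iff _).mpr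
  apply mem_center_of_scalar A (c * algebraMap (ZMod p) F t)
  rw [hA, ht]
  ext i j
  fin_cases i <;> fin_cases j <;> simp [liftM_apply]

theorem no_p_projH (H : Subgroup (GL (Fin 2) (ZMod p)))
    (hH : ∀ γ ∈ H, ∃ k : ℕ, k.Coprime p ∧ γ ^ k = 1) :
    ∀ h ∈ projH F H, h ^ p = 1 → h = 1 := by
  rintro _ ⟨A, ⟨γ, hγ, c, hc, hA⟩, rfl⟩ hp
  obtain ⟨t, ht⟩ := pow_scalar_of_proj hc hA p hp
  obtain ⟨k, hk, hγk⟩ := hH γ hγ
  have hord : p.Coprime (orderOf γ) :=
    (Nat.Coprime.coprime_dvd_left (orderOf_dvd_of_pow_eq_one hγk) hk).symm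
  obtain ⟨m, hm⟩ := exists_pow_eq_self_of_coprime hord
  have h1 : (γ : Matrix (Fin 2) (Fin 2) (ZMod p)) = (t ^ m) • 1 := by
    have := congrArg (fun g : GL (Fin 2) (ZMod p) => (g : Matrix (Fin 2) (Fin 2) (ZMod p))) hm
    simp only [Units.val_pow_eq_pow_val] at this
    rw [← this, ht, smul_pow, one_pow]
  exact proj_eq_one_of_scalar hA _ h1

theorem exists_lift (hsq : ∀ c : ZMod p, IsSquare (algebraMap (ZMod p) F c))
    (H : Subgroup (GL (Fin 2) (ZMod p))) {γ : GL (Fin 2) (ZMod p)} (hγ : γ ∈ H) :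
    ∃ A : SL(2, F), A ∈ tildeH F H ∧ ∃ c : F, c ≠ 0 ∧
      (A : Matrix (Fin 2) (Fin 2) F) = c • liftM F (γ : Matrix (Fin 2) (Fin 2) (ZMod p)) := by
  obtain ⟨s, hs⟩ := hsq (γ : Matrix (Fin 2) (Fin 2) (ZMod p)).det
  have hdet : (γ : Matrix (Fin 2) (Fin 2) (ZMod p)).det ≠ 0 := by
    have := Matrix.GeneralLinearGroup.det γ
    exact ((Matrix.isUnit_iff_isUnit_det _).mp γ.isUnit).ne_zero
  have hs0 : s ≠ 0 := by
    intro h0
    rw [h0, mul_zero] at hs
    exact hdet ((algebraMap (ZMod p) F).injective (by rw [hs, map_zero]))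
  have hd : (s⁻¹ • liftM F (γ : Matrix (Fin 2) (Fin 2) (ZMod p))).det = 1 := by
    rw [Matrix.det_smul, liftM_det, hs]
    simp only [Fintype.card_fin]
    field_simp
  refine ⟨⟨_, hd⟩, ⟨γ, hγ, s⁻¹, inv_ne_zero hs0, rfl⟩, s⁻¹, inv_ne_zero hs0, rfl⟩

theorem comm_of_proj_comm (hp2 : p ≠ 2) {a : (ZMod p)ˣ} (ha6 : a ^ 6 ≠ 1)
    {γ δ : GL (Fin 2) (ZMod p)} {w : Fin 2 → ZMod p} (hδ : Tor a δ w)
    {A B : SL(2, F)} {c d : F} (hc : c ≠ 0) (hd : d ≠ 0)
    (hA : (A : Matrix (Fin 2) (Fin 2) F) = c • liftM F (γ : Matrix (Fin 2) (Fin 2) (ZMod p)))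
    (hB : (B : Matrix (Fin 2) (Fin 2) F) = d • liftM F (δ : Matrix (Fin 2) (Fin 2) (ZMod p)))
    (hcomm : piC F A * piC F B = piC F B * piC F A) : γ * δ = δ * γ := by
  rw [← map_mul, ← map_mul] at hcomm
  have h1 : (A * B)⁻¹ * (B * A) ∈ Subgroup.center (SL(2, F)) := QuotientGroup.eq.mp hcomm
  obtain ⟨r, hr2, hr⟩ := center_scalar _ h1
  have h2 : ((B * A : SL(2, F)) : Matrix (Fin 2) (Fin 2) F) =
      r • ((A * B : SL(2, F)) : Matrix (Fin 2) (Fin 2) F) := by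
    have e : B * A = (A * B) * ((A * B)⁻¹ * (B * A)) := by group
    rw [e, Matrix.SpecialLinearGroup.coe_mul, hr, Matrix.mul_smul, Matrix.mul_one]
  rw [Matrix.SpecialLinearGroup.coe_mul, Matrix.SpecialLinearGroup.coe_mul, hA, hB,
    Matrix.smul_mul, Matrix.mul_smul, Matrix.smul_mul, Matrix.mul_smul, ← liftM_mul, ← liftM_mul] at h2
  have h3 : liftM F ((δ : Matrix (Fin 2) (Fin 2) (ZMod p)) * (γ : Matrix (Fin 2) (Fin 2) (ZMod p))) =
      r • liftM F ((γ : Matrix (Fin 2) (Fin 2) (ZMod p)) * (δ : Matrix (Fin 2) (Fin 2) (ZMod p))) := by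
    ext i j
    have h4 := congrFun (congrFun h2 i) j
    simp only [Matrix.smul_apply, smul_eq_mul] at h4 ⊢
    have hcd : d * c ≠ 0 := mul_ne_zero hd hc
    apply mul_left_cancel₀ hcd
    linear_combination h4
  have hr' : r = 1 ∨ r = -1 := by
    have : (r - 1) * (r + 1) = 0 := by linear_combination hr2
    rcases mul_eq_zero.mp this with h | h
    · left; exact sub_eq_zero.mp h
    · right; exact eq_neg_of_add_eq_zero_left h
  rcases hr' with hr1 | hr1
  · rw [hr1, one_smul] at h3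
    have h4 := liftM_injective h3
    apply Units.ext
    rw [Matrix.GeneralLinearGroup.coe_mul, Matrix.GeneralLinearGroup.coe_mul]
    exact h4.symm
  · exfalso
    have h4 : (δ : Matrix (Fin 2) (Fin 2) (ZMod p)) * (γ : Matrix (Fin 2) (Fin 2) (ZMod p)) =
        -((γ : Matrix (Fin 2) (Fin 2) (ZMod p)) * (δ : Matrix (Fin 2) (Fin 2) (ZMod p))) := by
      apply liftM_injective (F := F)
      rw [h3, hr1]
      ext i j
      simp [liftM_apply]
    have h5 : (δ : Matrix (Fin 2) (Fin 2) (ZMod p)).trace = -(δ : Matrix (Fin 2) (Fin 2) (ZMod p)).trace := by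
      have e1 : (δ : Matrix (Fin 2) (Fin 2) (ZMod p)) =
          ((γ⁻¹ : GL (Fin 2) (ZMod p)) : Matrix (Fin 2) (Fin 2) (ZMod p)) *
            ((γ : Matrix (Fin 2) (Fin 2) (ZMod p)) * (δ : Matrix (Fin 2) (Fin 2) (ZMod p))) := by
        rw [← Matrix.mul_assoc, ← Matrix.GeneralLinearGroup.coe_mul, inv_mul_cancel, Units.val_one,
          Matrix.one_mul]
      have e2 : ((γ : Matrix (Fin 2) (Fin 2) (ZMod p)) * (δ : Matrix (Fin 2) (Fin 2) (ZMod p))) =
          -((δ : Matrix (Fin 2) (Fin 2) (ZMod p)) * (γ : Matrix (Fin 2) (Fin 2) (ZMod p))) := by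
        rw [h4, neg_neg]
      conv_lhs => rw [e1, e2]
      rw [Matrix.mul_neg, Matrix.trace_neg, Matrix.trace_mul_comm, Matrix.mul_assoc,
        ← Matrix.GeneralLinearGroup.coe_mul, mul_inv_cancel, Units.val_one, Matrix.mul_one]
    have h6 : (δ : Matrix (Fin 2) (Fin 2) (ZMod p)).trace = 0 := by
      have h7 : (2 : ZMod p) * (δ : Matrix (Fin 2) (Fin 2) (ZMod p)).trace = 0 := by
        linear_combination h5
      have h8 : (2 : ZMod p) ≠ 0 := by
        intro h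
        have h9 : ((2 : ℕ) : ZMod p) = 0 := by exact_mod_cast h
        rw [ZMod.natCast_eq_zero_iff] at h9
        have := (Nat.prime_dvd_prime_iff_eq (Fact.out : p.Prime) Nat.prime_two).mp h9
        exact hp2 this
      exact (mul_eq_zero.mp h7).resolve_left h8
    rw [hδ.trace] at h6
    apply ha6
    apply Units.ext
    rw [Units.val_pow_eq_pow_val, Units.val_one]
    have hla : ((a⁻¹ : (ZMod p)ˣ) : ZMod p) * (a : ZMod p) = 1 := by
      rw [← Units.val_mul, inv_mul_cancel, Units.val_one]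
    have h7 : (a : ZMod p) ^ 3 = -1 := by
      linear_combination (a : ZMod p) * h6 - hla
    calc (a : ZMod p) ^ 6 = ((a : ZMod p) ^ 3) ^ 2 := by ring
      _ = 1 := by rw [h7]; ring

end MainSec

section Arith

theorem not_dvd_six {p : ℕ} (h7 : 7 < p) : ¬ (p - 1 ∣ 6) := by
  intro h
  have := Nat.le_of_dvd (by norm_num) h
  omega

theorem not_dvd_three {p : ℕ} (h7 : 7 < p) : ¬ (p - 1 ∣ 3) := by
  intro h
  have := Nat.le_of_dvd (by norm_num) h
  omega

theorem not_dvd_nine {p : ℕ} (hp : p.Prime) (h7 : 7 < p) : ¬ (p - 1 ∣ 9) := by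
  intro h
  have h1 := Nat.le_of_dvd (by norm_num) h
  have h2 : p ≤ 10 := by omega
  interval_cases p
  · omega
  · omega
  · exact absurd hp (by norm_num)

theorem not_dvd_fifteen {p : ℕ} (hp : p.Prime) (h7 : 7 < p) : ¬ (p - 1 ∣ 15) := by
  intro h
  have h1 := Nat.le_of_dvd (by norm_num) h
  have h2 : p ≤ 16 := by omega
  interval_cases p <;> first | omega | exact absurd hp (by norm_num)

theorem eq_thirteen {p : ℕ} (hp : p.Prime) (h7 : 7 < p) (h : p - 1 ∣ 12) : p = 13 := by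
  have h1 := Nat.le_of_dvd (by norm_num) h
  have h2 : p ≤ 13 := by omega
  interval_cases p <;> first | omega | rfl | exact absurd hp (by norm_num)

end Arith

section S4

set_option maxRecDepth 100000 in
theorem s4_sq : ∀ g : Equiv.Perm (Fin 4), g ^ 4 = 1 → g ^ 2 ≠ 1 →
    (g ^ 2 = Equiv.swap 0 1 * Equiv.swap 2 3 ∨ g ^ 2 = Equiv.swap 0 2 * Equiv.swap 1 3 ∨
      g ^ 2 = Equiv.swap 0 3 * Equiv.swap 1 2) := by decide

set_option maxRecDepth 100000 in
theorem s4_comm : ∀ g : Equiv.Perm (Fin 4), ∀ h : Equiv.Perm (Fin 4),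
    (g ^ 4 = 1 ∧ g ^ 2 ≠ 1 ∧ h ^ 4 = 1 ∧ h ^ 2 ≠ 1 ∧ g ^ 2 = h ^ 2) → g * h = h * g := by decide

theorem s4_four (g : Fin 4 → Equiv.Perm (Fin 4)) (h4 : ∀ i, g i ^ 4 = 1) (h2 : ∀ i, g i ^ 2 ≠ 1) :
    ∃ i j, i ≠ j ∧ g i * g j = g j * g i := by
  classical
  let T : Finset (Equiv.Perm (Fin 4)) :=
    {Equiv.swap 0 1 * Equiv.swap 2 3, Equiv.swap 0 2 * Equiv.swap 1 3, Equiv.swap 0 3 * Equiv.swap 1 2}
  have hT : T.card ≤ 3 := Finset.card_le_three
  have hmaps : ∀ i ∈ (Finset.univ : Finset (Fin 4)), (g i) ^ 2 ∈ T := by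
    intro i _
    rcases s4_sq (g i) (h4 i) (h2 i) with h | h | h
    · rw [h]; simp [T]
    · rw [h]; simp [T]
    · rw [h]; simp [T]
  have hlt : T.card < (Finset.univ : Finset (Fin 4)).card := by
    rw [Finset.card_univ, Fintype.card_fin]; omega
  obtain ⟨i, -, j, -, hij, he⟩ := Finset.exists_ne_map_eq_of_card_lt_of_maps_to hlt hmaps
  exact ⟨i, j, hij, s4_comm _ _ ⟨h4 i, h2 i, h4 j, h2 j, he⟩⟩

end S4

section Pick

variable {K : Type*} [Field K]

def IsEigV (M : Matrix (Fin 2) (Fin 2) K) (v : Fin 2 → K) : Prop := ∃ μ : K, M.mulVec v = μ • v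

theorem quad_three_roots (α β γ t1 t2 t3 : K) (h12 : t1 ≠ t2) (h13 : t1 ≠ t3) (h23 : t2 ≠ t3)
    (e1 : α * t1 ^ 2 + β * t1 + γ = 0) (e2 : α * t2 ^ 2 + β * t2 + γ = 0)
    (e3 : α * t3 ^ 2 + β * t3 + γ = 0) : α = 0 ∧ β = 0 ∧ γ = 0 := by
  have f1 : (t1 - t2) * (α * (t1 + t2) + β) = 0 := by linear_combination e1 - e2
  have f2 : (t1 - t3) * (α * (t1 + t3) + β) = 0 := by linear_combination e1 - e3
  have g1 := (mul_eq_zero.mp f1).resolve_left (sub_ne_zero.mpr h12)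
  have g2 := (mul_eq_zero.mp f2).resolve_left (sub_ne_zero.mpr h13)
  have f3 : α * (t2 - t3) = 0 := by linear_combination g1 - g2
  have hα := (mul_eq_zero.mp f3).resolve_right (sub_ne_zero.mpr h23)
  have hβ : β = 0 := by rw [hα] at g1; linear_combination g1
  refine ⟨hα, hβ, ?_⟩
  rw [hα, hβ] at e1
  linear_combination e1

theorem eig_quad (M : Matrix (Fin 2) (Fin 2) K) (t : K) (h : IsEigV M ![1, t]) :
    M 0 1 * t ^ 2 + (M 0 0 - M 1 1) * t + (- M 1 0) = 0 := by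
  obtain ⟨μ, hμ⟩ := h
  rw [mulVec_fin_two'] at hμ
  have h0 := congrFun hμ 0
  have h1 := congrFun hμ 1
  simp only [Matrix.cons_val_zero, Matrix.cons_val_one, Pi.smul_apply, smul_eq_mul, mul_one] at h0 h1
  linear_combination t * h0 - h1

theorem bad_card_le [Fintype K] [DecidableEq K] (M : Matrix (Fin 2) (Fin 2) K)
    (hM : ¬ ∃ t : K, M = t • (1 : Matrix (Fin 2) (Fin 2) K)) (B : Finset K)
    (hB : ∀ t ∈ B, IsEigV M ![1, t]) : B.card ≤ 2 := by
  by_contra hlt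
  push Not at hlt
  obtain ⟨t1, t2, t3, h1, h2, h3, h12, h13, h23⟩ := Finset.two_lt_card_iff.mp hlt
  obtain ⟨hα, hβ, hγ⟩ := quad_three_roots _ _ _ t1 t2 t3 h12 h13 h23
    (eig_quad M t1 (hB t1 h1)) (eig_quad M t2 (hB t2 h2)) (eig_quad M t3 (hB t3 h3))
  apply hM
  refine ⟨M 0 0, ?_⟩
  ext i j
  fin_cases i <;> fin_cases j <;> simp
  · exact hα
  · exact neg_eq_zero.mp hγ
  · exact (sub_eq_zero.mp hβ).symm

theorem pick3 [Fintype K] (h6 : 6 < Fintype.card K) (M1 M2 M3 : Matrix (Fin 2) (Fin 2) K)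
    (h1 : ¬ ∃ t : K, M1 = t • (1 : Matrix (Fin 2) (Fin 2) K))
    (h2 : ¬ ∃ t : K, M2 = t • (1 : Matrix (Fin 2) (Fin 2) K))
    (h3 : ¬ ∃ t : K, M3 = t • (1 : Matrix (Fin 2) (Fin 2) K)) :
    ∃ t : K, ¬ IsEigV M1 ![1, t] ∧ ¬ IsEigV M2 ![1, t] ∧ ¬ IsEigV M3 ![1, t] := by
  classical
  let B1 := Finset.univ.filter (fun t : K => IsEigV M1 ![1, t])
  let B2 := Finset.univ.filter (fun t : K => IsEigV M2 ![1, t])
  let B3 := Finset.univ.filter (fun t : K => IsEigV M3 ![1, t])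
  have c1 : B1.card ≤ 2 := bad_card_le M1 h1 B1 (fun t ht => (Finset.mem_filter.mp ht).2)
  have c2 : B2.card ≤ 2 := bad_card_le M2 h2 B2 (fun t ht => (Finset.mem_filter.mp ht).2)
  have c3 : B3.card ≤ 2 := bad_card_le M3 h3 B3 (fun t ht => (Finset.mem_filter.mp ht).2)
  have hU : (B1 ∪ B2 ∪ B3).card ≤ 6 := by
    have := Finset.card_union_le (B1 ∪ B2) B3
    have := Finset.card_union_le B1 B2
    omega
  have hne : (B1 ∪ B2 ∪ B3) ≠ Finset.univ := by
    intro h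
    rw [h, Finset.card_univ] at hU
    omega
  obtain ⟨t, ht⟩ : ∃ t, t ∉ B1 ∪ B2 ∪ B3 := by
    by_contra hall
    push Not at hall
    exact hne (Finset.eq_univ_iff_forall.mpr hall)
  simp only [Finset.mem_union, not_or] at ht
  refine ⟨t, ?_, ?_, ?_⟩
  · intro h; exact ht.1.1 (Finset.mem_filter.mpr ⟨Finset.mem_univ _, h⟩)
  · intro h; exact ht.1.2 (Finset.mem_filter.mpr ⟨Finset.mem_univ _, h⟩)
  · intro h; exact ht.2 (Finset.mem_filter.mpr ⟨Finset.mem_univ _, h⟩)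

end Pick

section Final

variable {p : ℕ} [Fact p.Prime] {F : Type} [Field F] [Fintype F] [Algebra (ZMod p) F] [CharP F p]

omit [Fintype F] [CharP F p] in
theorem tor_proj_pow {a : (ZMod p)ˣ} {γ : GL (Fin 2) (ZMod p)} {v : Fin 2 → ZMod p} (hγ : Tor a γ v)
    {A : SL(2, F)} {c : F} (hc : c ≠ 0)
    (hA : (A : Matrix (Fin 2) (Fin 2) F) = c • liftM F (γ : Matrix (Fin 2) (Fin 2) (ZMod p))) (k : ℕ)
    (hk : (piC F A) ^ k = 1) : a ^ (3 * k) = 1 := by
  obtain ⟨t, ht⟩ := pow_scalar_of_proj hc hA k hk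
  exact hγ.pow_scalar k t ht

theorem core (hp2 : p ≠ 2) (hsq : ∀ c : ZMod p, IsSquare (algebraMap (ZMod p) F c))
    (H : Subgroup (GL (Fin 2) (ZMod p))) (hH : ∀ γ ∈ H, ∃ k : ℕ, k.Coprime p ∧ γ ^ k = 1)
    {a : (ZMod p)ˣ} (ha : orderOf a = p - 1) (hp7 : 7 < p)
    {γ δ : GL (Fin 2) (ZMod p)} {v w : Fin 2 → ZMod p} (hγH : γ ∈ H) (hδH : δ ∈ H)
    (hγ : Tor a γ v) (hδ : Tor a δ w) (hnc : γ * δ ≠ δ * γ) :
    p = 13 ∧ Nonempty (↥(projH F H) ≃* Equiv.Perm (Fin 4)) := by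
  have hpP : p.Prime := Fact.out
  have hak : ∀ k : ℕ, a ^ k = 1 → p - 1 ∣ k := fun k h => ha ▸ orderOf_dvd_of_pow_eq_one h
  have ha6 : a ^ 6 ≠ 1 := fun h => not_dvd_six hp7 (hak 6 h)
  have ha9 : a ^ 9 ≠ 1 := fun h => not_dvd_nine hpP hp7 (hak 9 h)
  have ha15 : a ^ 15 ≠ 1 := fun h => not_dvd_fifteen hpP hp7 (hak 15 h)
  obtain ⟨A, hAm, c, hc, hA⟩ := exists_lift hsq H hγH
  obtain ⟨B, hBm, d, hd, hB⟩ := exists_lift hsq H hδH
  let x : ↥(projH F H) := ⟨piC F A, ⟨A, hAm, rfl⟩⟩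
  let y : ↥(projH F H) := ⟨piC F B, ⟨B, hBm, rfl⟩⟩
  have hxpow : ∀ k : ℕ, x ^ k = 1 → a ^ (3 * k) = 1 := by
    intro k hk
    have h1 : (piC F A) ^ k = 1 := by
      have := congrArg Subtype.val hk
      simpa [x] using this
    exact tor_proj_pow hγ hc hA k h1
  have hypow : ∀ k : ℕ, y ^ k = 1 → a ^ (3 * k) = 1 := by
    intro k hk
    have h1 : (piC F B) ^ k = 1 := by
      have := congrArg Subtype.val hk
      simpa [y] using this
    exact tor_proj_pow hδ hd hB k h1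
  rcases pprime_dickson hp2 (projH F H) (no_p_projH H hH) with h | h | h | h
  · exfalso
    rcases h x y with h1 | h1 | h1
    · exact ha6 (hxpow 2 h1)
    · exact ha6 (hypow 2 h1)
    · apply hnc
      have h2 : piC F A * piC F B = piC F B * piC F A := by
        have := congrArg Subtype.val h1
        simpa [x, y] using this
      exact comm_of_proj_comm hp2 ha6 hδ hc hd hA hB h2
  · exfalso
    rcases h x with h1 | h1
    · exact ha6 (hxpow 2 h1)
    · exact ha9 (hxpow 3 h1)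
  · obtain ⟨e⟩ := h
    refine ⟨?_, ⟨e⟩⟩
    rcases Cfsg.Agent.Lib.helper6.PSL2Tor.pow_S4 (e x) with h1 | h1
    · have h2 : x ^ 4 = 1 := by
        apply e.injective
        rw [map_pow, h1, map_one]
      exact eq_thirteen hpP hp7 (hak 12 (hxpow 4 h2))
    · exfalso
      have h2 : x ^ 3 = 1 := by
        apply e.injective
        rw [map_pow, h1, map_one]
      exact ha9 (hxpow 3 h2)
  · exfalso
    rcases h x with h1 | h1 | h1
    · exact ha6 (hxpow 2 h1)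
    · exact ha9 (hxpow 3 h1)
    · exact ha15 (hxpow 5 h1)

theorem lin_le13 (hp2 : p ≠ 2) (hsq : ∀ c : ZMod p, IsSquare (algebraMap (ZMod p) F c))
    (H : Subgroup (GL (Fin 2) (ZMod p))) (hH : ∀ γ ∈ H, ∃ k : ℕ, k.Coprime p ∧ γ ^ k = 1)
    {a : (ZMod p)ˣ} (ha : orderOf a = p - 1)
    {γ δ : GL (Fin 2) (ZMod p)} {v w : Fin 2 → ZMod p} (hγH : γ ∈ H) (hδH : δ ∈ H)
    (hγ : Tor a γ v) (hδ : Tor a δ w) (hnc : γ * δ ≠ δ * γ) : p ≤ 13 := by
  by_contra hlt
  have hp7 : 7 < p := by omega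
  have := (core (F := F) hp2 hsq H hH ha hp7 hγH hδH hγ hδ hnc).1
  omega

theorem four_contra (hp2 : p ≠ 2) (hsq : ∀ c : ZMod p, IsSquare (algebraMap (ZMod p) F c))
    (H : Subgroup (GL (Fin 2) (ZMod p))) (hH : ∀ γ ∈ H, ∃ k : ℕ, k.Coprime p ∧ γ ^ k = 1)
    {a : (ZMod p)ˣ} (ha : orderOf a = p - 1) (hp7 : 7 < p)
    (Γ : Fin 4 → GL (Fin 2) (ZMod p)) (V : Fin 4 → Fin 2 → ZMod p) (hΓH : ∀ i, Γ i ∈ H)
    (hT : ∀ i, Tor a (Γ i) (V i)) (hNC : ∀ i j, i ≠ j → Γ i * Γ j ≠ Γ j * Γ i) : False := by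
  have hpP : p.Prime := Fact.out
  have hak : ∀ k : ℕ, a ^ k = 1 → p - 1 ∣ k := fun k h => ha ▸ orderOf_dvd_of_pow_eq_one h
  have ha6 : a ^ 6 ≠ 1 := fun h => not_dvd_six hp7 (hak 6 h)
  have ha9 : a ^ 9 ≠ 1 := fun h => not_dvd_nine hpP hp7 (hak 9 h)
  obtain ⟨-, ⟨e⟩⟩ := core (F := F) hp2 hsq H hH ha hp7 (hΓH 0) (hΓH 1) (hT 0) (hT 1)
    (hNC 0 1 (by decide))
  choose A hAm c hc hA using fun i => exists_lift (F := F) hsq H (hΓH i)
  let x : Fin 4 → ↥(projH F H) := fun i => ⟨piC F (A i), ⟨A i, hAm i, rfl⟩⟩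
  have hxpow : ∀ i (k : ℕ), x i ^ k = 1 → a ^ (3 * k) = 1 := by
    intro i k hk
    have h1 : (piC F (A i)) ^ k = 1 := by
      have := congrArg Subtype.val hk
      simpa [x] using this
    exact tor_proj_pow (hT i) (hc i) (hA i) k h1
  have h4 : ∀ i, (e (x i)) ^ 4 = 1 := by
    intro i
    rcases Cfsg.Agent.Lib.helper6.PSL2Tor.pow_S4 (e (x i)) with h1 | h1
    · exact h1
    · exfalso
      have h2 : x i ^ 3 = 1 := by
        apply e.injective
        rw [map_pow, h1, map_one]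
      exact ha9 (hxpow i 3 h2)
  have h2 : ∀ i, (e (x i)) ^ 2 ≠ 1 := by
    intro i h1
    have h2 : x i ^ 2 = 1 := by
      apply e.injective
      rw [map_pow, h1, map_one]
    exact ha6 (hxpow i 2 h2)
  obtain ⟨i, j, hij, hcomm⟩ := s4_four (fun i => e (x i)) h4 h2
  have h5 : x i * x j = x j * x i := by
    apply e.injective
    rw [map_mul, map_mul]
    exact hcomm
  have h6 : piC F (A i) * piC F (A j) = piC F (A j) * piC F (A i) := by
    have := congrArg Subtype.val h5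
    simpa [x] using this
  exact hNC i j hij (comm_of_proj_comm hp2 ha6 (hT j) (hc i) (hc j) (hA i) (hA j) h6)

theorem lin_le7 (hp2 : p ≠ 2) (hsq : ∀ c : ZMod p, IsSquare (algebraMap (ZMod p) F c))
    (H : Subgroup (GL (Fin 2) (ZMod p))) (hH : ∀ γ ∈ H, ∃ k : ℕ, k.Coprime p ∧ γ ^ k = 1)
    {a : (ZMod p)ˣ} (ha : orderOf a = p - 1)
    (hall : ∀ v : Fin 2 → ZMod p, v ≠ 0 → ∃ γ ∈ H, Tor a γ v) : p ≤ 7 := by
  by_contra hlt
  have hp7 : 7 < p := by omega
  have hpP : p.Prime := Fact.out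
  have hak : ∀ k : ℕ, a ^ k = 1 → p - 1 ∣ k := fun k h => ha ▸ orderOf_dvd_of_pow_eq_one h
  have ha3 : a ^ 3 ≠ 1 := fun h => not_dvd_three hp7 (hak 3 h)
  have hns : ∀ {γ : GL (Fin 2) (ZMod p)} {v : Fin 2 → ZMod p}, Tor a γ v →
      ¬ ∃ t : ZMod p, (γ : Matrix (Fin 2) (Fin 2) (ZMod p)) = t • 1 := by
    rintro γ v hγ ⟨t, ht⟩
    apply ha3
    have := hγ.pow_scalar 1 t (by rw [pow_one]; exact ht)
    simpa using this
  have hvne : ∀ t : ZMod p, (![1, t] : Fin 2 → ZMod p) ≠ 0 := by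
    intro t h
    have := congrFun h 0
    simp at this
  have h6 : 6 < Fintype.card (ZMod p) := by rw [ZMod.card]; omega
  have hnc : ∀ {γ δ : GL (Fin 2) (ZMod p)} {v w : Fin 2 → ZMod p}, Tor a γ v → Tor a δ w →
      ¬ IsEigV (γ : Matrix (Fin 2) (Fin 2) (ZMod p)) w → γ * δ ≠ δ * γ := by
    intro γ δ v w hγ hδ hne hc
    exact hne (hγ.comm_eig hδ ha3 hc)
  obtain ⟨γ1, hγ1H, hγ1⟩ := hall ![1, 0] (hvne 0)
  obtain ⟨t2, ht2, -, -⟩ := pick3 h6 (γ1 : Matrix (Fin 2) (Fin 2) (ZMod p)) γ1 γ1 (hns hγ1) (hns hγ1) (hns hγ1)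
  obtain ⟨γ2, hγ2H, hγ2⟩ := hall ![1, t2] (hvne t2)
  obtain ⟨t3, ht31, ht32, -⟩ := pick3 h6 (γ1 : Matrix (Fin 2) (Fin 2) (ZMod p)) γ2 γ2 (hns hγ1) (hns hγ2) (hns hγ2)
  obtain ⟨γ3, hγ3H, hγ3⟩ := hall ![1, t3] (hvne t3)
  obtain ⟨t4, ht41, ht42, ht43⟩ := pick3 h6 (γ1 : Matrix (Fin 2) (Fin 2) (ZMod p)) γ2 γ3 (hns hγ1) (hns hγ2) (hns hγ3)
  obtain ⟨γ4, hγ4H, hγ4⟩ := hall ![1, t4] (hvne t4)
  have n12 := hnc hγ1 hγ2 ht2
  have n13 := hnc hγ1 hγ3 ht31
  have n23 := hnc hγ2 hγ3 ht32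
  have n14 := hnc hγ1 hγ4 ht41
  have n24 := hnc hγ2 hγ4 ht42
  have n34 := hnc hγ3 hγ4 ht43
  apply four_contra (F := F) hp2 hsq H hH ha hp7 ![γ1, γ2, γ3, γ4] ![![1, 0], ![1, t2], ![1, t3], ![1, t4]]
  · intro i; fin_cases i <;> assumption
  · intro i; fin_cases i <;> assumption
  · intro i j hij
    fin_cases i <;> fin_cases j <;> first | exact absurd rfl hij | assumption | (exact fun h => by first | exact n12 h.symm | exact n13 h.symm | exact n23 h.symm | exact n14 h.symm | exact n24 h.symm | exact n34 h.symm)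

end Final

section Vec

variable {K : Type*} [Field K]

theorem prop_or_indep (w u : Fin 2 → K) (hw : w ≠ 0) :
    (∃ μ : K, u = μ • w) ∨ w 0 * u 1 - w 1 * u 0 ≠ 0 := by
  by_cases hD : w 0 * u 1 - w 1 * u 0 = 0
  · left
    by_cases h0 : w 0 = 0
    · have h1 : w 1 ≠ 0 := by
        intro h1
        apply hw
        ext i
        fin_cases i
        · exact h0
        · exact h1
      refine ⟨u 1 / w 1, ?_⟩
      ext i
      fin_cases i
      · simp only [Fin.zero_eta, Pi.smul_apply, smul_eq_mul, h0, mul_zero]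
        rw [h0, zero_mul, zero_sub, neg_eq_zero] at hD
        rcases mul_eq_zero.mp hD with h | h
        · exact absurd h h1
        · exact h
      · simp only [Fin.mk_one, Pi.smul_apply, smul_eq_mul]
        field_simp
    · refine ⟨u 0 / w 0, ?_⟩
      ext i
      fin_cases i
      · simp only [Fin.zero_eta, Pi.smul_apply, smul_eq_mul]
        field_simp
      · simp only [Fin.mk_one, Pi.smul_apply, smul_eq_mul]
        field_simp
        linear_combination hD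
  · right; exact hD

theorem mulVec_fin_two (M : Matrix (Fin 2) (Fin 2) K) (v : Fin 2 → K) :
    M.mulVec v = ![M 0 0 * v 0 + M 0 1 * v 1, M 1 0 * v 0 + M 1 1 * v 1] := by
  ext i
  fin_cases i <;> simp [Matrix.mulVec, dotProduct, Fin.sum_univ_two]

theorem eq_scalar_of_two_eig (M : Matrix (Fin 2) (Fin 2) K) (lam : K) (w u : Fin 2 → K)
    (hD : w 0 * u 1 - w 1 * u 0 ≠ 0) (hw : M.mulVec w = lam • w) (hu : M.mulVec u = lam • u) :
    M = lam • (1 : Matrix (Fin 2) (Fin 2) K) := by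
  rw [mulVec_fin_two] at hw hu
  have hw0 := congrFun hw 0
  have hw1 := congrFun hw 1
  have hu0 := congrFun hu 0
  have hu1 := congrFun hu 1
  simp only [Matrix.cons_val_zero, Matrix.cons_val_one, Pi.smul_apply, smul_eq_mul] at hw0 hw1 hu0 hu1
  have e00 : (M 0 0 - lam) * (w 0 * u 1 - w 1 * u 0) = 0 := by
    linear_combination u 1 * hw0 - w 1 * hu0
  have e01 : M 0 1 * (w 0 * u 1 - w 1 * u 0) = 0 := by
    linear_combination w 0 * hu0 - u 0 * hw0
  have e10 : M 1 0 * (w 0 * u 1 - w 1 * u 0) = 0 := by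
    linear_combination u 1 * hw1 - w 1 * hu1
  have e11 : (M 1 1 - lam) * (w 0 * u 1 - w 1 * u 0) = 0 := by
    linear_combination w 0 * hu1 - u 0 * hw1
  have f00 := (mul_eq_zero.mp e00).resolve_right hD
  have f01 := (mul_eq_zero.mp e01).resolve_right hD
  have f10 := (mul_eq_zero.mp e10).resolve_right hD
  have f11 := (mul_eq_zero.mp e11).resolve_right hD
  ext i j
  fin_cases i <;> fin_cases j <;> simp [Matrix.one_apply]
  · exact sub_eq_zero.mp f00
  · exact f01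
  · exact f10
  · exact sub_eq_zero.mp f11

end Vec

end Cfsg.Agent.Lib.Helper5.Ex3Lin
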