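import Mathlib
import Cfsg.Agent.Lib.Helper5.Ex3Lin

set_option autoImplicit false

namespace Cfsg.Agent.Lib.Helper5.Ex3Br

open Matrix Cfsg.Agent.Lib.Helper5.Ex3Lin

section Bridge

variable {p : ℕ} [Fact p.Prime] {E : Type*} [CommGroup E] [Finite E]

theorem coord_of_module [Module (ZMod p) (Additive E)] (hc : Nat.card E = p ^ 2) :
    ∃ (Φ : MulAut E →* GL (Fin 2) (ZMod p)) (κ : E → (Fin 2 → ZMod p)),
      Function.Injective Φ ∧ Function.Bijective κ ∧ (∀ x y, κ (x * y) = κ x + κ y) ∧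
      (∀ (φ : MulAut E) (x : E), κ (φ x) = (Φ φ : Matrix (Fin 2) (Fin 2) (ZMod p)).mulVec (κ x)) := by
  classical
  haveI : Fintype (Additive E) := Fintype.ofFinite _
  have hfin : Module.finrank (ZMod p) (Additive E) = 2 := by
    have h1 := Module.card_eq_pow_finrank (K := ZMod p) (V := Additive E)
    rw [ZMod.card] at h1
    have h2 : Fintype.card (Additive E) = p ^ 2 := by
      rw [← Nat.card_eq_fintype_card]
      exact hc
    rw [h2] at h1
    exact (Nat.pow_right_injective (Fact.out : p.Prime).two_le h1).symm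
  let b : Module.Basis (Fin 2) (ZMod p) (Additive E) :=
    Module.finBasisOfFinrankEq (ZMod p) (Additive E) hfin
  let toLin : MulAut E → (Additive E →ₗ[ZMod p] Additive E) := fun φ =>
    (MulEquiv.toAdditive φ : Additive E ≃+ Additive E).toAddMonoidHom.toZModLinearMap p
  have toLin_apply : ∀ (φ : MulAut E) (x : Additive E),
      toLin φ x = Additive.ofMul (φ (Additive.toMul x)) := fun φ x => rfl
  let M : MulAut E →* Matrix (Fin 2) (Fin 2) (ZMod p) :=
    { toFun := fun φ => LinearMap.toMatrix b b (toLin φ)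
      map_one' := by
        have : toLin 1 = LinearMap.id := by
          ext x
          rfl
        rw [this, LinearMap.toMatrix_id]
      map_mul' := by
        intro φ ψ
        have : toLin (φ * ψ) = (toLin φ).comp (toLin ψ) := by
          ext x
          rfl
        rw [this, LinearMap.toMatrix_comp b b b] }
  refine ⟨M.toHomUnits, fun x => b.equivFun (Additive.ofMul x), ?_, ?_, ?_, ?_⟩
  · intro φ ψ h
    have h1 : M φ = M ψ := by
      have := congrArg (fun u : (Matrix (Fin 2) (Fin 2) (ZMod p))ˣ => (u : Matrix (Fin 2) (Fin 2) (ZMod p))) h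
      simpa using this
    have h2 : toLin φ = toLin ψ := (LinearMap.toMatrix b b).injective h1
    ext x
    have := congrArg (fun f => Additive.toMul (f (Additive.ofMul x))) h2
    simpa [toLin_apply] using this
  · constructor
    · intro x y h
      have := b.equivFun.injective h
      exact Additive.ofMul.injective this
    · intro v
      refine ⟨Additive.toMul (b.equivFun.symm v), ?_⟩
      show b.equivFun (Additive.ofMul (Additive.toMul (b.equivFun.symm v))) = v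
      rw [ofMul_toMul]
      exact b.equivFun.apply_symm_apply v
  · intro x y
    show b.equivFun (Additive.ofMul (x * y)) = _
    rw [ofMul_mul, map_add]
  · intro φ x
    show b.equivFun (Additive.ofMul (φ x)) = (M φ).mulVec (b.equivFun (Additive.ofMul x))
    have := LinearMap.toMatrix_mulVec_repr b b (toLin φ) (Additive.ofMul x)
    rw [Module.Basis.equivFun_apply, Module.Basis.equivFun_apply]
    exact this.symm

theorem exists_coord (hE : ∀ x : E, x ^ p = 1) (hc : Nat.card E = p ^ 2) :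
    ∃ (Φ : MulAut E →* GL (Fin 2) (ZMod p)) (κ : E → (Fin 2 → ZMod p)),
      Function.Injective Φ ∧ Function.Bijective κ ∧ (∀ x y, κ (x * y) = κ x + κ y) ∧
      (∀ (φ : MulAut E) (x : E), κ (φ x) = (Φ φ : Matrix (Fin 2) (Fin 2) (ZMod p)).mulVec (κ x)) := by
  have h : ∀ x : Additive E, p • x = 0 := by
    intro x
    have : Additive.ofMul ((Additive.toMul x) ^ p) = 0 := by rw [hE]; rfl
    rw [ofMul_pow] at this
    exact this
  exact @coord_of_module p _ E _ _ (AddCommGroup.zmodModule (n := p) h) hc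

end Bridge

section Tri

variable {K : Type*} [Field K]

theorem det_of_triangular (M : Matrix (Fin 2) (Fin 2) K) (v : Fin 2 → K) (hv0 : v ≠ 0) (lam mu : K)
    (hv : M.mulVec v = lam • v) (hw : ∀ w : Fin 2 → K, ∃ k : K, M.mulVec w = mu • w + k • v) :
    M.det = lam * mu := by
  obtain ⟨k0, h0⟩ := hw ![1, 0]
  obtain ⟨k1, h1⟩ := hw ![0, 1]
  rw [mulVec_fin_two'] at h0 h1 hv
  have a00 := congrFun h0 0
  have a10 := congrFun h0 1
  have a01 := congrFun h1 0
  have a11 := congrFun h1 1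
  have b0 := congrFun hv 0
  have b1 := congrFun hv 1
  simp only [Matrix.cons_val_zero, Matrix.cons_val_one, Pi.smul_apply, Pi.add_apply, smul_eq_mul,
    mul_one, mul_zero, add_zero, zero_add] at a00 a10 a01 a11 b0 b1
  rw [Matrix.det_fin_two, a00, a10, a01, a11]
  rw [a00, a01] at b0
  rw [a10, a11] at b1
  have hne : v 0 ≠ 0 ∨ v 1 ≠ 0 := by
    by_contra h
    push Not at h
    apply hv0
    ext i
    fin_cases i
    · exact h.1
    · exact h.2
  have key : k0 * v 0 + k1 * v 1 = lam - mu := by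
    rcases hne with h | h
    · apply mul_right_cancel₀ h
      linear_combination b0
    · apply mul_right_cancel₀ h
      linear_combination b1
  linear_combination mu * key

end Tri

section Grp

variable {p : ℕ} [Fact p.Prime] {E : Type*} [CommGroup E] [Finite E]

/-- group-theoretic torus condition -/
def GTor (u u' : ℕ) (φ : MulAut E) (x : E) : Prop :=
  x ≠ 1 ∧ φ x = x ^ u' ∧ ∀ y : E, ∃ k : ℕ, φ y = y ^ (u ^ 2) * x ^ k

theorem kappa_one {κ : E → (Fin 2 → ZMod p)} (hadd : ∀ x y, κ (x * y) = κ x + κ y) : κ 1 = 0 := by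
  have := hadd 1 1
  rw [mul_one] at this
  exact left_eq_add.mp this

theorem kappa_pow {κ : E → (Fin 2 → ZMod p)} (hadd : ∀ x y, κ (x * y) = κ x + κ y) (x : E) (n : ℕ) :
    κ (x ^ n) = (n : ZMod p) • κ x := by
  induction n with
  | zero => rw [pow_zero, kappa_one hadd, Nat.cast_zero, zero_smul]
  | succ n ih => rw [pow_succ, hadd, ih, Nat.cast_succ, add_smul, one_smul]

theorem gtor_tor {Φ : MulAut E →* GL (Fin 2) (ZMod p)} {κ : E → (Fin 2 → ZMod p)}
    (hκ : Function.Bijective κ) (hadd : ∀ x y, κ (x * y) = κ x + κ y)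
    (hact : ∀ (φ : MulAut E) (x : E), κ (φ x) = (Φ φ : Matrix (Fin 2) (Fin 2) (ZMod p)).mulVec (κ x))
    {a : (ZMod p)ˣ} {u u' : ℕ} (hu : (u : ZMod p) = (a : ZMod p))
    (hu' : (u' : ZMod p) = ((a⁻¹ : (ZMod p)ˣ) : ZMod p)) {φ : MulAut E} {x : E}
    (h : GTor u u' φ x) : Tor a (Φ φ) (κ x) := by
  obtain ⟨hx1, hφx, hφy⟩ := h
  have hκx : κ x ≠ 0 := by
    intro h0
    apply hx1
    apply hκ.1
    rw [h0, kappa_one hadd]
  have heig : (Φ φ : Matrix (Fin 2) (Fin 2) (ZMod p)).mulVec (κ x) =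
      ((a⁻¹ : (ZMod p)ˣ) : ZMod p) • κ x := by
    rw [← hact, hφx, kappa_pow hadd, hu']
  refine ⟨hκx, heig, ?_⟩
  have hla : ((a⁻¹ : (ZMod p)ˣ) : ZMod p) * (a : ZMod p) = 1 := by
    rw [← Units.val_mul, inv_mul_cancel, Units.val_one]
  have hdet := det_of_triangular (Φ φ : Matrix (Fin 2) (Fin 2) (ZMod p)) (κ x) hκx
    (((a⁻¹ : (ZMod p)ˣ) : ZMod p)) ((a : ZMod p) ^ 2) heig (by
      intro w
      obtain ⟨y, rfl⟩ := hκ.2 w
      obtain ⟨k, hk⟩ := hφy y
      refine ⟨(k : ZMod p), ?_⟩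
      rw [← hact, hk, hadd, kappa_pow hadd, kappa_pow hadd, Nat.cast_pow, hu])
  rw [hdet]
  linear_combination (a : ZMod p) * hla

end Grp

section Gal

variable {p : ℕ} [Fact p.Prime]

theorem galois_sq (hp2 : p ≠ 2) [Fintype (GaloisField p 2)] (c : ZMod p) :
    IsSquare (algebraMap (ZMod p) (GaloisField p 2) c) := by
  have hpP : p.Prime := Fact.out
  by_cases hc : c = 0
  · rw [hc, map_zero]
    exact ⟨0, by rw [mul_zero]⟩
  have hcard : Fintype.card (GaloisField p 2) = p ^ 2 := by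
    rw [← Nat.card_eq_fintype_card]
    exact GaloisField.card p 2 (by norm_num)
  have hchar : ringChar (GaloisField p 2) ≠ 2 := by
    rw [ringChar.eq (GaloisField p 2) p]
    exact hp2
  have hne : algebraMap (ZMod p) (GaloisField p 2) c ≠ 0 := by
    intro h
    apply hc
    apply (algebraMap (ZMod p) (GaloisField p 2)).injective
    rw [h, map_zero]
  rw [FiniteField.isSquare_iff hchar hne, hcard, ← map_pow]
  have hodd : p % 2 = 1 := by
    rcases hpP.eq_two_or_odd with h | h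
    · exact absurd h hp2
    · exact h
  obtain ⟨m, hm⟩ : ∃ m, p = 2 * m + 1 := ⟨p / 2, by omega⟩
  have e : p ^ 2 / 2 = (p - 1) * (m + 1) := by
    rw [hm]
    have : (2 * m + 1) ^ 2 = 2 * (2 * m * (m + 1)) + 1 := by ring
    rw [this]
    have h2 : (2 * (2 * m * (m + 1)) + 1) / 2 = 2 * m * (m + 1) := by omega
    rw [h2]
    have h3 : 2 * m + 1 - 1 = 2 * m := by omega
    rw [h3]
  rw [e, pow_mul, ZMod.pow_card_sub_one_eq_one hc, one_pow, map_one]

end Gal

section Fin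

variable {p : ℕ} [Fact p.Prime]

theorem tor_eig_val {a : (ZMod p)ˣ} {γ : GL (Fin 2) (ZMod p)} {v : Fin 2 → ZMod p} (h : Tor a γ v)
    (w : Fin 2 → ZMod p) (hw0 : w ≠ 0) (ν : ZMod p)
    (hw : (γ : Matrix (Fin 2) (Fin 2) (ZMod p)).mulVec w = ν • w) :
    ν = ((a⁻¹ : (ZMod p)ˣ) : ZMod p) ∨ ν = (a : ZMod p) ^ 2 := by
  have h1 : ((γ : Matrix (Fin 2) (Fin 2) (ZMod p)) - ν • 1).det = 0 := by
    rw [← Matrix.exists_mulVec_eq_zero_iff]
    refine ⟨w, hw0, ?_⟩
    rw [Matrix.sub_mulVec, hw, Matrix.smul_mulVec, Matrix.one_mulVec, sub_self]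
  have htr := h.trace
  have hd := h.det
  rw [Matrix.trace_fin_two] at htr
  rw [Matrix.det_fin_two] at hd h1
  simp only [Matrix.sub_apply, Matrix.smul_apply, Matrix.one_apply_eq, smul_eq_mul, mul_one,
    Matrix.one_apply_ne (show (0 : Fin 2) ≠ 1 by decide), Matrix.one_apply_ne (show (1 : Fin 2) ≠ 0 by decide),
    mul_zero, sub_zero] at h1
  have hla : ((a⁻¹ : (ZMod p)ˣ) : ZMod p) * (a : ZMod p) = 1 := by
    rw [← Units.val_mul, inv_mul_cancel, Units.val_one]
  have key : (ν - ((a⁻¹ : (ZMod p)ˣ) : ZMod p)) * (ν - (a : ZMod p) ^ 2) = 0 := by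
    linear_combination h1 - hd + ν * htr + (a : ZMod p) * hla
  rcases mul_eq_zero.mp key with h2 | h2
  · left; exact sub_eq_zero.mp h2
  · right; exact sub_eq_zero.mp h2

end Fin

section GrpMain

variable {p : ℕ} [Fact p.Prime] {E : Type*} [CommGroup E] [Finite E]

theorem grp_le7 (hp2 : p ≠ 2) (hE : ∀ x : E, x ^ p = 1) (hc : Nat.card E = p ^ 2)
    (HE : Subgroup (MulAut E)) (hHE : ∀ φ ∈ HE, ∃ k : ℕ, k.Coprime p ∧ φ ^ k = 1)
    {a : (ZMod p)ˣ} (ha : orderOf a = p - 1) {u u' : ℕ} (hu : (u : ZMod p) = (a : ZMod p))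
    (hu' : (u' : ZMod p) = ((a⁻¹ : (ZMod p)ˣ) : ZMod p))
    (hall : ∀ x : E, x ≠ 1 → ∃ φ ∈ HE, GTor u u' φ x) : p ≤ 7 := by
  obtain ⟨Φ, κ, hinj, hκ, hadd, hact⟩ := exists_coord (p := p) hE hc
  letI : Fintype (GaloisField p 2) := Fintype.ofFinite _
  apply lin_le7 (F := GaloisField p 2) hp2 (galois_sq hp2) (HE.map Φ) ?_ ha ?_
  · rintro _ ⟨φ, hφ, rfl⟩
    obtain ⟨k, hk, hφk⟩ := hHE φ hφ
    exact ⟨k, hk, by rw [← map_pow, hφk, map_one]⟩
  · intro v hv
    obtain ⟨x, rfl⟩ := hκ.2 v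
    have hx : x ≠ 1 := by
      intro h
      apply hv
      rw [h, kappa_one hadd]
    obtain ⟨φ, hφ, hT⟩ := hall x hx
    exact ⟨Φ φ, ⟨φ, hφ, rfl⟩, gtor_tor hκ hadd hact hu hu' hT⟩

theorem grp_le13 (hp2 : p ≠ 2) (hE : ∀ x : E, x ^ p = 1) (hc : Nat.card E = p ^ 2)
    (HE : Subgroup (MulAut E)) (hHE : ∀ φ ∈ HE, ∃ k : ℕ, k.Coprime p ∧ φ ^ k = 1)
    {a : (ZMod p)ˣ} (ha : orderOf a = p - 1) {u u' : ℕ} (hu : (u : ZMod p) = (a : ZMod p))
    (hu' : (u' : ZMod p) = ((a⁻¹ : (ZMod p)ˣ) : ZMod p))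
    (φ : Fin 3 → MulAut E) (x : Fin 3 → E) (hφ : ∀ i, φ i ∈ HE) (hT : ∀ i, GTor u u' (φ i) (x i))
    (hdist : ∀ i j, i ≠ j → ∀ k : ℕ, x j ≠ x i ^ k) : p ≤ 13 := by
  obtain ⟨Φ, κ, hinj, hκ, hadd, hact⟩ := exists_coord (p := p) hE hc
  letI : Fintype (GaloisField p 2) := Fintype.ofFinite _
  have hH : ∀ γ ∈ HE.map Φ, ∃ k : ℕ, k.Coprime p ∧ γ ^ k = 1 := by
    rintro _ ⟨ψ, hψ, rfl⟩
    obtain ⟨k, hk, hψk⟩ := hHE ψ hψ
    exact ⟨k, hk, by rw [← map_pow, hψk, map_one]⟩
  have hTor : ∀ i, Tor a (Φ (φ i)) (κ (x i)) := fun i => gtor_tor hκ hadd hact hu hu' (hT i)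
  have hmem : ∀ i, Φ (φ i) ∈ HE.map Φ := fun i => ⟨φ i, hφ i, rfl⟩
  by_contra hlt
  have hp7 : 7 < p := by omega
  have hak : ∀ k : ℕ, a ^ k = 1 → p - 1 ∣ k := fun k h => ha ▸ orderOf_dvd_of_pow_eq_one h
  have ha3 : a ^ 3 ≠ 1 := fun h => not_dvd_three hp7 (hak 3 h)
  have hprop : ∀ i j, i ≠ j → ∀ c : ZMod p, κ (x j) ≠ c • κ (x i) := by
    intro i j hij c h
    apply hdist i j hij c.val
    apply hκ.1
    rw [kappa_pow hadd, ZMod.natCast_zmod_val, h]
  by_cases h01 : Φ (φ 0) * Φ (φ 1) = Φ (φ 1) * Φ (φ 0)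
  · by_cases h02 : Φ (φ 0) * Φ (φ 2) = Φ (φ 2) * Φ (φ 0)
    · obtain ⟨μ1, hμ1⟩ := (hTor 0).comm_eig (hTor 1) ha3 h01
      obtain ⟨μ2, hμ2⟩ := (hTor 0).comm_eig (hTor 2) ha3 h02
      have e1 : μ1 = (a : ZMod p) ^ 2 := by
        rcases tor_eig_val (hTor 0) _ (hTor 1).ne μ1 hμ1 with h | h
        · exfalso
          rw [h] at hμ1
          obtain ⟨c, hc⟩ := (hTor 0).eigenline ha3 _ hμ1
          exact hprop 0 1 (by decide) c hc
        · exact h
      have e2 : μ2 = (a : ZMod p) ^ 2 := by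
        rcases tor_eig_val (hTor 0) _ (hTor 2).ne μ2 hμ2 with h | h
        · exfalso
          rw [h] at hμ2
          obtain ⟨c, hc⟩ := (hTor 0).eigenline ha3 _ hμ2
          exact hprop 0 2 (by decide) c hc
        · exact h
      rw [e1] at hμ1
      rw [e2] at hμ2
      rcases prop_or_indep (κ (x 1)) (κ (x 2)) (hTor 1).ne with ⟨c, hc⟩ | hD
      · exact hprop 1 2 (by decide) c hc
      · have hs := eq_scalar_of_two_eig _ _ _ _ hD hμ1 hμ2
        apply ha3
        have := (hTor 0).pow_scalar 1 _ (by rw [pow_one]; exact hs)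
        simpa using this
    · have := lin_le13 (F := GaloisField p 2) hp2 (galois_sq hp2) (HE.map Φ) hH ha (hmem 0) (hmem 2)
        (hTor 0) (hTor 2) h02
      omega
  · have := lin_le13 (F := GaloisField p 2) hp2 (galois_sq hp2) (HE.map Φ) hH ha (hmem 0) (hmem 1)
      (hTor 0) (hTor 1) h01
    omega

end GrpMain

end Cfsg.Agent.Lib.Helper5.Ex3Br
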