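import Mathlib
import Cfsg.Prelude.Def_Transfer

set_option autoImplicit false

namespace Cfsg.Agent.Lib.Helper5.Ex3Grp

open scoped Pointwise commutatorElement

variable {G : Type*} [Group G]

theorem conj_into_sylow [Finite G] {p : ℕ} [Fact p.Prime] (K : Subgroup G) (R : Sylow p G)
    (hRK : (R : Subgroup G) ≤ K) (U : Subgroup G) (hUK : U ≤ K) (hU : IsPGroup p U) :
    ∃ c ∈ K, ∀ v ∈ U, c * v * c⁻¹ ∈ (R : Subgroup G) := by
  have hU' : IsPGroup p (U.subgroupOf K) := hU.comap_subtype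
  obtain ⟨Q, hQ⟩ := hU'.exists_le_sylow
  obtain ⟨g, hg⟩ := MulAction.exists_smul_eq ↥K Q (R.subtype hRK)
  refine ⟨g, g.2, ?_⟩
  intro v hv
  have h1 : (⟨v, hUK hv⟩ : K) ∈ (Q : Subgroup ↥K) := hQ (Subgroup.mem_subgroupOf.mpr hv)
  have h2 : MulAut.conj g • (⟨v, hUK hv⟩ : K) ∈ MulAut.conj g • (Q : Subgroup ↥K) :=
    Subgroup.smul_mem_pointwise_smul _ _ _ h1
  have h3 : ((g • Q : Sylow p ↥K) : Subgroup ↥K) = MulAut.conj g • (Q : Subgroup ↥K) :=
    Sylow.pointwise_smul_def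
  rw [← h3, hg, Sylow.coe_subtype, Subgroup.mem_subgroupOf] at h2
  exact h2

/-- an extraspecial group of order `p³` and exponent `p`, with its centre, inside `G` -/
structure Ex3 (p : ℕ) (S Z : Subgroup G) : Prop where
  le : Z ≤ S
  central : ∀ z ∈ Z, ∀ y ∈ S, y * z = z * y
  comm : ∀ x ∈ S, ∀ y ∈ S, x * y * x⁻¹ * y⁻¹ ∈ Z
  center : ∀ x ∈ S, (∀ y ∈ S, y * x = x * y) → x ∈ Z
  cardZ : Nat.card Z = p
  cardS : Nat.card S = p ^ 3
  exp : ∀ x ∈ S, x ^ p = 1

/-- the commutator `x y x⁻¹ y⁻¹` -/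
def cm (x y : G) : G := x * y * x⁻¹ * y⁻¹

theorem cm_eq_one_iff (x y : G) : cm x y = 1 ↔ x * y = y * x := by
  unfold cm
  constructor
  · intro h
    have : x * y * x⁻¹ = y := by
      have := mul_inv_eq_one.mp h
      exact this
    calc x * y = x * y * x⁻¹ * x := by group
      _ = y * x := by rw [this]
  · intro h
    rw [h]; group

theorem conj_eq_cm_mul (x y : G) : x * y * x⁻¹ = cm x y * y := by
  unfold cm; group

theorem conj_cm (g x y : G) : g * cm x y * g⁻¹ = cm (g * x * g⁻¹) (g * y * g⁻¹) := by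
  unfold cm; group

section Basic

variable {p : ℕ} [Fact p.Prime] {S Z : Subgroup G} (hS : Ex3 p S Z)
include hS

theorem Ex3.cm_mem {x y : G} (hx : x ∈ S) (hy : y ∈ S) : cm x y ∈ Z := hS.comm x hx y hy

theorem Ex3.Z_comm {z w : G} (hz : z ∈ Z) (hw : w ∈ Z) : z * w = w * z :=
  hS.central w hw z (hS.le hz)

theorem Ex3.cm_mul_right {x y y' : G} (hx : x ∈ S) (hy : y ∈ S) (hy' : y' ∈ S) :
    cm x (y * y') = cm x y * cm x y' := by
  have h1 := hS.cm_mem hx hy'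
  have h2 : (x * y * x⁻¹) * cm x y' = cm x y' * (x * y * x⁻¹) :=
    hS.central _ h1 _ (S.mul_mem (S.mul_mem hx hy) (S.inv_mem hx))
  have e : cm x (y * y') = (x * y * x⁻¹) * cm x y' * y⁻¹ := by
    unfold cm; group
  rw [e, h2, hS.Z_comm (hS.cm_mem hx hy) h1]
  unfold cm; group

theorem Ex3.cm_mul_left {x x' y : G} (hx : x ∈ S) (hx' : x' ∈ S) (hy : y ∈ S) :
    cm (x * x') y = cm x y * cm x' y := by
  have h1 := hS.cm_mem hx' hy
  have h2 : x * cm x' y = cm x' y * x := hS.central _ h1 _ hx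
  have e : cm (x * x') y = x * cm x' y * y * x⁻¹ * y⁻¹ := by
    unfold cm; group
  rw [e, h2, hS.Z_comm (hS.cm_mem hx hy) h1]
  unfold cm; group

theorem Ex3.cm_pow_left {x y : G} (hx : x ∈ S) (hy : y ∈ S) (k : ℕ) :
    cm (x ^ k) y = cm x y ^ k := by
  induction k with
  | zero => simp [cm]
  | succ k ih => rw [pow_succ, hS.cm_mul_left (S.pow_mem hx k) hx hy, ih, pow_succ]

theorem Ex3.cm_pow_right {x y : G} (hx : x ∈ S) (hy : y ∈ S) (k : ℕ) :
    cm x (y ^ k) = cm x y ^ k := by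
  induction k with
  | zero => simp [cm]
  | succ k ih => rw [pow_succ, hS.cm_mul_right hx (S.pow_mem hy k) hy, ih, pow_succ]

theorem Ex3.cm_central_left {z y : G} (hz : z ∈ Z) (hy : y ∈ S) : cm z y = 1 := by
  rw [cm_eq_one_iff]
  exact (hS.central z hz y hy).symm

theorem Ex3.cm_inv_right {x y : G} (hx : x ∈ S) (hy : y ∈ S) : cm x y⁻¹ = (cm x y)⁻¹ := by
  have h := hS.cm_mul_right hx hy (S.inv_mem hy)
  rw [mul_inv_cancel] at h
  have h1 : cm x (1 : G) = 1 := by simp [cm]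
  rw [h1] at h
  exact (inv_eq_of_mul_eq_one_right h.symm).symm

/-- every element of `Z` is a power of a given non-identity element -/
theorem Ex3.gen {z0 : G} (hz0 : z0 ∈ Z) (h1 : z0 ≠ 1) {z : G} (hz : z ∈ Z) : ∃ k : ℕ, z = z0 ^ k := by
  have hmem := mem_zpowers_of_prime_card (G := ↥Z) (p := p) hS.cardZ (g := ⟨z0, hz0⟩) (g' := ⟨z, hz⟩)
    (by intro h; exact h1 (congrArg Subtype.val h))
  have hfin : IsOfFinOrder (⟨z0, hz0⟩ : ↥Z) := by
    haveI : Finite ↥Z := Nat.finite_of_card_ne_zero (by rw [hS.cardZ]; exact (Fact.out : p.Prime).ne_zero)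
    exact isOfFinOrder_of_finite _
  rw [← hfin.mem_powers_iff_mem_zpowers] at hmem
  obtain ⟨k, hk⟩ := hmem
  exact ⟨k, by have := congrArg Subtype.val hk; simpa using this.symm⟩

theorem Ex3.Z_pow {z : G} (hz : z ∈ Z) : z ^ p = 1 := hS.exp z (hS.le hz)

/-- for a non-central `x`, conjugation by `S` multiplies `x` by arbitrary central elements -/
theorem Ex3.exists_conj {x : G} (hx : x ∈ S) (hxZ : x ∉ Z) {z : G} (hz : z ∈ Z) :
    ∃ s ∈ S, s * x * s⁻¹ = x * z := by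
  have h1 : ∃ s ∈ S, cm s x ≠ 1 := by
    by_contra h
    push Not at h
    apply hxZ
    apply hS.center x hx
    intro y hy
    exact (cm_eq_one_iff y x).mp (h y hy)
  obtain ⟨s, hs, hsx⟩ := h1
  obtain ⟨k, hk⟩ := hS.gen (hS.cm_mem hs hx) hsx hz
  refine ⟨s ^ k, S.pow_mem hs k, ?_⟩
  rw [conj_eq_cm_mul, hS.cm_pow_left hs hx, ← hk]
  exact (hS.central z hz x hx).symm

end Basic

/-- the subgroup `Z ⟨x⟩` for an element `x` commuting with `Z` -/
def Vsub (Z : Subgroup G) (x : G) (hc : ∀ z ∈ Z, x * z = z * x) : Subgroup G where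
  carrier := {v | ∃ z ∈ Z, ∃ k : ℤ, v = z * x ^ k}
  one_mem' := ⟨1, Z.one_mem, 0, by simp⟩
  mul_mem' := by
    rintro _ _ ⟨z, hz, k, rfl⟩ ⟨z', hz', k', rfl⟩
    refine ⟨z * z', Z.mul_mem hz hz', k + k', ?_⟩
    have h1 : x ^ k * z' = z' * x ^ k := by
      have : Commute x z' := hc z' hz'
      exact (this.zpow_left k)
    calc z * x ^ k * (z' * x ^ k') = z * (x ^ k * z') * x ^ k' := by group
      _ = z * z' * x ^ (k + k') := by rw [h1, zpow_add]; group
  inv_mem' := by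
    rintro _ ⟨z, hz, k, rfl⟩
    refine ⟨z⁻¹, Z.inv_mem hz, -k, ?_⟩
    have h4 : x ^ (-k) * z⁻¹ = z⁻¹ * x ^ (-k) := by
      have : Commute x z⁻¹ := (show Commute x z from hc z hz).inv_right
      exact this.zpow_left _
    rw [mul_inv_rev, ← zpow_neg, h4]

theorem mem_Vsub {Z : Subgroup G} {x : G} {hc : ∀ z ∈ Z, x * z = z * x}
    {v : G} : v ∈ Vsub Z x hc ↔ ∃ z ∈ Z, ∃ k : ℤ, v = z * x ^ k := Iff.rfl

theorem le_normalizer_of_conj_mem (T V : Subgroup G) (h : ∀ t ∈ T, ∀ v ∈ V, t * v * t⁻¹ ∈ V) :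
    T ≤ Subgroup.normalizer (V : Set G) := by
  intro t ht
  rw [Subgroup.mem_normalizer_iff]
  intro v
  constructor
  · exact h t ht v
  · intro hv
    have := h t⁻¹ (T.inv_mem ht) _ hv
    have e : t⁻¹ * (t * v * t⁻¹) * t⁻¹⁻¹ = v := by group
    rwa [e] at this

section Basic2

variable [Finite G] {p : ℕ} [Fact p.Prime] {S Z : Subgroup G} (hS : Ex3 p S Z)
include hS

theorem Ex3.comm_x {x : G} (hx : x ∈ S) : ∀ z ∈ Z, x * z = z * x := fun z hz => hS.central z hz x hx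

theorem Ex3.Vsub_le {x : G} (hx : x ∈ S) : Vsub Z x (hS.comm_x hx) ≤ S := by
  rintro _ ⟨z, hz, k, rfl⟩
  exact S.mul_mem (hS.le hz) (S.zpow_mem hx k)

theorem Ex3.Z_le_Vsub {x : G} (hx : x ∈ S) : Z ≤ Vsub Z x (hS.comm_x hx) := by
  intro z hz
  exact ⟨z, hz, 0, by simp⟩

theorem Ex3.self_mem_Vsub {x : G} (hx : x ∈ S) : x ∈ Vsub Z x (hS.comm_x hx) :=
  ⟨1, Z.one_mem, 1, by simp⟩

theorem Ex3.Vsub_comm {x : G} (hx : x ∈ S) {v : G} (hv : v ∈ Vsub Z x (hS.comm_x hx)) :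
    v * x = x * v := by
  obtain ⟨z, hz, k, rfl⟩ := hv
  have h1 : x * z = z * x := hS.comm_x hx z hz
  calc z * x ^ k * x = (z * x) * x ^ k := by group
    _ = x * (z * x ^ k) := by rw [← h1]; group

/-- the centralizer of a non-central element `x` of `S` is `Z⟨x⟩` -/
theorem Ex3.centralizer_eq {x : G} (hx : x ∈ S) (hxZ : x ∉ Z) {w : G} (hw : w ∈ S)
    (hwx : w * x = x * w) : w ∈ Vsub Z x (hS.comm_x hx) := by
  have hpP : p.Prime := Fact.out
  set W := Vsub Z x (hS.comm_x hx) with hW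
  set C := S ⊓ Subgroup.centralizer ({x} : Set G) with hC
  have hWC : W ≤ C := by
    intro v hv
    refine Subgroup.mem_inf.mpr ⟨hS.Vsub_le hx hv, ?_⟩
    rw [Subgroup.mem_centralizer_iff]
    intro y hy
    rw [Set.mem_singleton_iff] at hy
    rw [hy]
    exact (hS.Vsub_comm hx hv).symm
  have hCS : C ≤ S := inf_le_left
  have hCne : C ≠ S := by
    intro h
    apply hxZ
    apply hS.center x hx
    intro y hy
    have : y ∈ C := by rw [h]; exact hy
    have h2 := (Subgroup.mem_inf.mp this).2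
    rw [Subgroup.mem_centralizer_iff] at h2
    exact (h2 x rfl).symm
  have hcardC : Nat.card C ≤ p ^ 2 := by
    have h1 : Nat.card C ∣ p ^ 3 := hS.cardS ▸ Subgroup.card_dvd_of_le hCS
    obtain ⟨j, hj, hj2⟩ := (Nat.dvd_prime_pow hpP).mp h1
    have hj3 : j ≠ 3 := by
      intro h3
      apply hCne
      apply Subgroup.eq_of_le_of_card_ge hCS
      rw [hj2, h3, hS.cardS]
    rw [hj2]
    exact Nat.pow_le_pow_right hpP.pos (by omega)
  have hcardW : p ^ 2 ≤ Nat.card W := by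
    have h1 : Nat.card W ∣ p ^ 3 := hS.cardS ▸ Subgroup.card_dvd_of_le (hS.Vsub_le hx)
    obtain ⟨j, hj, hj2⟩ := (Nat.dvd_prime_pow hpP).mp h1
    have hZW : Z ≤ W := hS.Z_le_Vsub hx
    have hlt : Nat.card Z < Nat.card W := by
      by_contra hle
      push Not at hle
      have h := Subgroup.eq_of_le_of_card_ge hZW hle
      apply hxZ
      rw [h]
      exact hS.self_mem_Vsub hx
    rw [hS.cardZ, hj2] at hlt
    rw [hj2]
    have : 2 ≤ j := by
      by_contra hlt2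
      have h1 : j ≤ 1 := by omega
      have h2 := Nat.pow_le_pow_right hpP.pos h1
      rw [pow_one] at h2
      omega
    exact Nat.pow_le_pow_right hpP.pos this
  have hEq : W = C := Subgroup.eq_of_le_of_card_ge hWC (hcardC.trans hcardW)
  rw [hEq]
  refine Subgroup.mem_inf.mpr ⟨hw, ?_⟩
  rw [Subgroup.mem_centralizer_iff]
  intro y hy
  rw [Set.mem_singleton_iff] at hy
  rw [hy]
  exact hwx.symm

/-- elements normalizing `S` normalize `Z` -/
theorem Ex3.conj_Z_mem {q : G} (h1 : ∀ s ∈ S, q * s * q⁻¹ ∈ S) (h2 : ∀ s ∈ S, q⁻¹ * s * q ∈ S)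
    {z : G} (hz : z ∈ Z) : q * z * q⁻¹ ∈ Z := by
  apply hS.center _ (h1 z (hS.le hz))
  intro y hy
  have h3 := hS.central z hz _ (h2 y hy)
  calc y * (q * z * q⁻¹) = q * ((q⁻¹ * y * q) * z) * q⁻¹ := by group
    _ = q * (z * (q⁻¹ * y * q)) * q⁻¹ := by rw [h3]
    _ = q * z * q⁻¹ * y := by group

end Basic2

/-- the structure `Ex3` from the hypotheses on a Sylow subgroup -/
theorem ex3_of_sylow {p : ℕ} [Fact p.Prime] (P : Sylow p G) (hE : Cfsg.IsExtraspecial p ↥P)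
    (hcard : Nat.card P = p ^ 3) (hexp : Monoid.exponent ↥P = p) :
    Ex3 p (P : Subgroup G) ((Subgroup.center ↥P).map (P : Subgroup G).subtype) := by
  obtain ⟨⟨-, -, hcomm⟩, hcz⟩ := hE
  refine ⟨Subgroup.map_subtype_le _, ?_, ?_, ?_, ?_, hcard, ?_⟩
  · rintro _ ⟨z, hz, rfl⟩ y hy
    have := (Subgroup.mem_center_iff.mp hz) ⟨y, hy⟩
    exact congrArg Subtype.val this
  · intro x hx y hy
    have h1 : ⁅(⟨x, hx⟩ : ↥(P : Subgroup G)), (⟨y, hy⟩ : ↥(P : Subgroup G))⁆ ∈ commutator ↥P := by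
      rw [commutator_def]
      exact Subgroup.commutator_mem_commutator (Subgroup.mem_top _) (Subgroup.mem_top _)
    rw [hcomm] at h1
    refine ⟨_, h1, ?_⟩
    rw [commutatorElement_def]
    rfl
  · intro x hx h
    refine ⟨⟨x, hx⟩, Subgroup.mem_center_iff.mpr ?_, rfl⟩
    intro y
    exact Subtype.ext (h y y.2)
  · rw [Nat.card_congr (Subgroup.equivMapOfInjective _ _ (Subgroup.subtype_injective _)).toEquiv.symm]
    exact hcz
  · intro x hx
    have := Monoid.pow_exponent_eq_one (⟨x, hx⟩ : ↥P)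
    rw [hexp] at this
    exact congrArg Subtype.val this

section Torus

variable (z0 x1 : G)

/-- `z0^i x1^j` -/
def ee (i j : ℤ) : G := z0 ^ i * x1 ^ j

def Act (g : G) (a b c d : ℤ) : Prop :=
  ∀ i j : ℤ, g * ee z0 x1 i j * g⁻¹ = ee z0 x1 (a * i + b * j) (c * i + d * j)

variable {z0 x1} (hc : z0 * x1 = x1 * z0)
include hc

theorem ee_mul (i j i' j' : ℤ) : ee z0 x1 i j * ee z0 x1 i' j' = ee z0 x1 (i + i') (j + j') := by
  unfold ee
  have h1 : x1 ^ j * z0 ^ i' = z0 ^ i' * x1 ^ j := by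
    have : Commute x1 z0 := hc.symm
    exact (this.zpow_zpow j i')
  calc z0 ^ i * x1 ^ j * (z0 ^ i' * x1 ^ j') = z0 ^ i * (x1 ^ j * z0 ^ i') * x1 ^ j' := by group
    _ = z0 ^ (i + i') * x1 ^ (j + j') := by rw [h1, zpow_add, zpow_add]; group

theorem ee_zpow (i j n : ℤ) : (ee z0 x1 i j) ^ n = ee z0 x1 (i * n) (j * n) := by
  unfold ee
  have : Commute (z0 ^ i) (x1 ^ j) := (show Commute z0 x1 from hc).zpow_zpow i j
  rw [this.mul_zpow, ← zpow_mul, ← zpow_mul]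

theorem act_of_gens {g : G} {a b c d : ℤ} (h0 : g * z0 * g⁻¹ = ee z0 x1 a c)
    (h1 : g * x1 * g⁻¹ = ee z0 x1 b d) : Act z0 x1 g a b c d := by
  intro i j
  have e1 : g * ee z0 x1 i j * g⁻¹ = (g * z0 * g⁻¹) ^ i * (g * x1 * g⁻¹) ^ j := by
    unfold ee
    rw [conj_zpow, conj_zpow]
    group
  rw [e1, h0, h1, ee_zpow hc, ee_zpow hc, ee_mul hc]

omit hc in
theorem act_mul {g g' : G} {a b c d a' b' c' d' : ℤ} (h : Act z0 x1 g a b c d)
    (h' : Act z0 x1 g' a' b' c' d') :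
    Act z0 x1 (g * g') (a * a' + b * c') (a * b' + b * d') (c * a' + d * c') (c * b' + d * d') := by
  intro i j
  have e1 : g * g' * ee z0 x1 i j * (g * g')⁻¹ = g * (g' * ee z0 x1 i j * g'⁻¹) * g⁻¹ := by group
  rw [e1, h' i j, h]
  congr 1 <;> ring

omit hc in
theorem act_inv {g : G} {a b c d : ℤ} (h : Act z0 x1 g a b c d) (hdet : a * d - b * c = 1) :
    Act z0 x1 g⁻¹ d (-b) (-c) a := by
  intro i j
  have h1 := h (d * i + -b * j) (-c * i + a * j)
  have e1 : a * (d * i + -b * j) + b * (-c * i + a * j) = i := by linear_combination i * hdet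
  have e2 : c * (d * i + -b * j) + d * (-c * i + a * j) = j := by linear_combination j * hdet
  rw [e1, e2] at h1
  rw [← h1]
  group

omit hc in
theorem act_one : Act z0 x1 (1 : G) 1 0 0 1 := by
  intro i j
  simp

omit hc in
theorem act_pow_upper {g : G} (h : Act z0 x1 g 1 1 0 1) (n : ℕ) : Act z0 x1 (g ^ n) 1 n 0 1 := by
  induction n with
  | zero =>
    intro i j
    simp
  | succ n ih =>
    intro i j
    have := act_mul ih h i j
    rw [pow_succ]
    rw [this]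
    congr 1 <;> push_cast <;> ring

omit hc in
theorem act_pow_lower {g : G} (h : Act z0 x1 g 1 0 (-1) 1) (n : ℕ) : Act z0 x1 (g ^ n) 1 0 (-n) 1 := by
  induction n with
  | zero =>
    intro i j
    simp
  | succ n ih =>
    intro i j
    have := act_mul ih h i j
    rw [pow_succ]
    rw [this]
    congr 1 <;> push_cast <;> ring

omit hc in
theorem ee_mod {p : ℕ} (hz : z0 ^ p = 1) (hx : x1 ^ p = 1) (i j i' j' : ℤ) :
    ee z0 x1 (i + p * i') (j + p * j') = ee z0 x1 i j := by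
  unfold ee
  rw [zpow_add, zpow_add, zpow_mul, zpow_mul, zpow_natCast, zpow_natCast, hz, hx, one_zpow, one_zpow,
    mul_one, mul_one]

/-- the torus element -/
theorem exists_torus {p : ℕ} (hz : z0 ^ p = 1) (hx : x1 ^ p = 1) {s t : G}
    (hs0 : s * z0 * s⁻¹ = z0) (hs1 : s * x1 * s⁻¹ = x1 * z0)
    (ht0 : t * z0 * t⁻¹ = z0 * x1) (ht1 : t * x1 * t⁻¹ = x1)
    {u u' : ℕ} {k : ℤ} (hk : (u : ℤ) * u' = 1 + p * k) :
    ∃ m : G, m * z0 * m⁻¹ = z0 ^ u ∧ m * x1 * m⁻¹ = x1 ^ u' := by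
  have As : Act z0 x1 s 1 1 0 1 := by
    apply act_of_gens hc
    · rw [hs0]; simp [ee]
    · rw [hs1, hc.symm]; simp [ee]
  have At : Act z0 x1 t 1 0 1 1 := by
    apply act_of_gens hc
    · rw [ht0]; simp [ee]
    · rw [ht1]; simp [ee]
  have Asi : Act z0 x1 s⁻¹ 1 (-1) 0 1 := by
    have := act_inv As (by norm_num)
    simpa using this
  have Ati : Act z0 x1 t⁻¹ 1 0 (-1) 1 := by
    have := act_inv At (by norm_num)
    simpa using this
  have A1 := act_pow_upper As u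
  have A2 := act_pow_lower Ati u'
  have A3 := act_mul (act_mul A1 A2) A1
  have A4 := act_mul (act_mul Asi At) Asi
  have A5 := act_mul A3 A4
  refine ⟨s ^ u * t⁻¹ ^ u' * s ^ u * (s⁻¹ * t * s⁻¹), ?_, ?_⟩
  · have h := A5 1 0
    have e0 : ee z0 x1 1 0 = z0 := by simp [ee]
    rw [e0] at h
    rw [h]
    have e1 : ee z0 x1 ((u : ℤ) + p * (-(u : ℤ) * k)) (0 + p * (-k)) = z0 ^ u := by
      rw [ee_mod hz hx]
      simp [ee]
    rw [← e1]
    congr 1
    · linear_combination (-(u : ℤ)) * hk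
    · linear_combination (-1 : ℤ) * hk
  · have h := A5 0 1
    have e0 : ee z0 x1 0 1 = x1 := by simp [ee]
    rw [e0] at h
    rw [h]
    have e1 : ee z0 x1 (0 + p * k) ((u' : ℤ) + p * 0) = x1 ^ u' := by
      rw [ee_mod hz hx]
      simp [ee]
    rw [← e1]
    congr 1
    · linear_combination hk
    · ring

end Torus

end Cfsg.Agent.Lib.Helper5.Ex3Grp
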