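import Mathlib
import Cfsg.Agent.Lib.Helper5.Ex3Grp

set_option autoImplicit false

namespace Cfsg.Agent.Lib.Helper5.Ex3Grp

open scoped Pointwise

variable {G : Type*} [Group G]

theorem mem_normalizer_of_finite (H : Subgroup G) [Finite H] (g : G)
    (h : ∀ v ∈ H, g * v * g⁻¹ ∈ H) : g ∈ Subgroup.normalizer (H : Set G) := by
  have hinj : Function.Injective (fun v : H => (⟨g * v * g⁻¹, h v v.2⟩ : H)) := by
    intro a b hab
    have := congrArg Subtype.val hab
    simp only at this
    apply Subtype.ext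
    have h2 : g⁻¹ * (g * a * g⁻¹) * g = g⁻¹ * (g * b * g⁻¹) * g := by rw [this]
    simpa [mul_assoc] using h2
  have hsurj := Finite.surjective_of_injective hinj
  rw [Subgroup.mem_normalizer_iff]
  intro v
  constructor
  · exact h v
  · intro hv
    obtain ⟨w, hw⟩ := hsurj ⟨_, hv⟩
    have := congrArg Subtype.val hw
    simp only at this
    have e : (w : G) = v := by
      have h2 : g⁻¹ * (g * w * g⁻¹) * g = g⁻¹ * (g * v * g⁻¹) * g := by rw [this]
      simpa [mul_assoc] using h2
    rw [← e]; exact w.2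

theorem mem_smul_sylow {p : ℕ} (P : Sylow p G) (m v : G) :
    v ∈ ((m • P : Sylow p G) : Subgroup G) ↔ m⁻¹ * v * m ∈ (P : Subgroup G) := by
  have h3 : ((m • P : Sylow p G) : Subgroup G) = MulAut.conj m • (P : Subgroup G) :=
    Sylow.pointwise_smul_def
  rw [h3, Subgroup.mem_pointwise_smul_iff_inv_smul_mem]
  simp [MulAut.smul_def]

theorem frattini_adjust [Finite G] {p : ℕ} [Fact p.Prime] (K : Subgroup G) (P : Sylow p G)
    (hPK : (P : Subgroup G) ≤ K) (m : G) (hm : ∀ s ∈ (P : Subgroup G), m * s * m⁻¹ ∈ K) :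
    ∃ c ∈ K, c * m ∈ Subgroup.normalizer ((P : Subgroup G) : Set G) := by
  have hUK : ((m • P : Sylow p G) : Subgroup G) ≤ K := by
    intro v hv
    rw [mem_smul_sylow] at hv
    have := hm _ hv
    have e : m * (m⁻¹ * v * m) * m⁻¹ = v := by group
    rwa [e] at this
  obtain ⟨c, hcK, hc⟩ := conj_into_sylow K P hPK _ hUK (m • P : Sylow p G).isPGroup'
  refine ⟨c, hcK, ?_⟩
  apply mem_normalizer_of_finite
  intro s hs
  have h1 : m * s * m⁻¹ ∈ ((m • P : Sylow p G) : Subgroup G) := by
    rw [mem_smul_sylow]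
    have e : m⁻¹ * (m * s * m⁻¹) * m = s := by group
    rwa [e]
  have := hc _ h1
  have e : c * m * s * (c * m)⁻¹ = c * (m * s * m⁻¹) * c⁻¹ := by group
  rwa [e]

section Abel

variable (S : Subgroup G)

/-- conjugation by a normalizing element, as an automorphism of the subgroup -/
def conjS (n : G) (hn : n ∈ Subgroup.normalizer (S : Set G)) : ↥S ≃* ↥S where
  toFun s := ⟨n * s * n⁻¹, (Subgroup.mem_normalizer_iff.mp hn s).mp s.2⟩
  invFun s := ⟨n⁻¹ * s * n, by
    rw [Subgroup.mem_normalizer_iff.mp hn (n⁻¹ * s * n)]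
    have e : n * (n⁻¹ * ↑s * n) * n⁻¹ = s := by group
    rw [e]; exact s.2⟩
  left_inv s := by apply Subtype.ext; simp [mul_assoc]
  right_inv s := by apply Subtype.ext; simp [mul_assoc]
  map_mul' a b := by apply Subtype.ext; simp [mul_assoc]

/-- the induced automorphism of the abelianization -/
def actE (n : G) (hn : n ∈ Subgroup.normalizer (S : Set G)) : MulAut (Abelianization ↥S) :=
  (conjS S n hn).abelianizationCongr

variable {S}

theorem of_surj : Function.Surjective (Abelianization.of : ↥S →* Abelianization ↥S) :=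
  QuotientGroup.mk_surjective

theorem actE_of {n : G} (hn : n ∈ Subgroup.normalizer (S : Set G)) (s s' : ↥S)
    (h : (s' : G) = n * s * n⁻¹) :
    actE S n hn (Abelianization.of s) = Abelianization.of s' := by
  unfold actE
  rw [abelianizationCongr_of]
  congr 1
  apply Subtype.ext
  rw [h]
  rfl

theorem abel_ext {φ ψ : MulAut (Abelianization ↥S)}
    (h : ∀ s : ↥S, φ (Abelianization.of s) = ψ (Abelianization.of s)) : φ = ψ := by
  apply MulEquiv.ext
  intro e
  obtain ⟨s, rfl⟩ := of_surj e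
  exact h s

theorem exists_conj_mem {n : G} (hn : n ∈ Subgroup.normalizer (S : Set G)) (s : ↥S) :
    ∃ s' : ↥S, (s' : G) = n * s * n⁻¹ :=
  ⟨⟨n * s * n⁻¹, (Subgroup.mem_normalizer_iff.mp hn s).mp s.2⟩, rfl⟩

variable (S)

/-- the automorphisms of the abelianization induced by the normalizer -/
def HE : Subgroup (MulAut (Abelianization ↥S)) where
  carrier := {φ | ∃ n, ∃ hn : n ∈ Subgroup.normalizer (S : Set G), φ = actE S n hn}
  one_mem' := by
    refine ⟨1, Subgroup.one_mem _, ?_⟩
    apply abel_ext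
    intro s
    rw [actE_of _ s s (by simp)]
    rfl
  mul_mem' := by
    rintro _ _ ⟨n, hn, rfl⟩ ⟨n', hn', rfl⟩
    refine ⟨n * n', Subgroup.mul_mem _ hn hn', ?_⟩
    apply abel_ext
    intro s
    obtain ⟨s1, hs1⟩ := exists_conj_mem hn' s
    obtain ⟨s2, hs2⟩ := exists_conj_mem hn s1
    rw [MulAut.mul_apply, actE_of hn' s s1 hs1, actE_of hn s1 s2 hs2,
      actE_of (Subgroup.mul_mem _ hn hn') s s2 (by rw [hs2, hs1]; group)]
  inv_mem' := by
    rintro _ ⟨n, hn, rfl⟩
    refine ⟨n⁻¹, Subgroup.inv_mem _ hn, ?_⟩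
    apply abel_ext
    intro s
    obtain ⟨s1, hs1⟩ := exists_conj_mem (Subgroup.inv_mem _ hn) s
    rw [actE_of (Subgroup.inv_mem _ hn) s s1 hs1, MulAut.inv_apply, MulEquiv.symm_apply_eq,
      actE_of hn s1 s (by rw [hs1]; group)]

variable {S}

theorem actE_mem_HE {n : G} (hn : n ∈ Subgroup.normalizer (S : Set G)) : actE S n hn ∈ HE S :=
  ⟨n, hn, rfl⟩

theorem actE_pow_of {n : G} (hn : n ∈ Subgroup.normalizer (S : Set G)) (k : ℕ) :
    ∀ (s s' : ↥S), (s' : G) = n ^ k * s * (n ^ k)⁻¹ →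
      ((actE S n hn) ^ k) (Abelianization.of s) = Abelianization.of s' := by
  induction k with
  | zero =>
    intro s s' h
    rw [pow_zero, MulAut.one_apply]
    congr 1
    apply Subtype.ext
    rw [h]; simp
  | succ k ih =>
    intro s s' h
    obtain ⟨s1, hs1⟩ := exists_conj_mem hn s
    rw [pow_succ, MulAut.mul_apply, actE_of hn s s1 hs1]
    apply ih
    rw [h, hs1, pow_succ]; group

theorem of_conj_eq (a s s' : ↥S) (h : (s' : G) = a * s * (a : G)⁻¹) :
    (Abelianization.of s' : Abelianization ↥S) = Abelianization.of s := by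
  have e : s' = a * s * a⁻¹ := by
    apply Subtype.ext
    rw [h]; rfl
  rw [e, map_mul, map_mul, map_inv, mul_comm (Abelianization.of a), mul_inv_cancel_right]

theorem HE_coprime [Finite G] {p : ℕ} [Fact p.Prime] (P : Sylow p G) :
    ∀ φ ∈ HE (P : Subgroup G), ∃ k : ℕ, k.Coprime p ∧ φ ^ k = 1 := by
  rintro _ ⟨n, hn, rfl⟩
  haveI : ((P : Subgroup G).subgroupOf (Subgroup.normalizer ((P : Subgroup G) : Set G))).Normal :=
    Subgroup.normal_in_normalizer
  refine ⟨((P : Subgroup G).subgroupOf (Subgroup.normalizer ((P : Subgroup G) : Set G))).index, ?_, ?_⟩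
  · have h1 : (P : Subgroup G).relIndex (Subgroup.normalizer ((P : Subgroup G) : Set G)) ∣
        (P : Subgroup G).index := Subgroup.relIndex_dvd_index_of_le Subgroup.le_normalizer
    have h2 : ¬ p ∣ (P : Subgroup G).index := P.not_dvd_index
    have h3 : ¬ p ∣ (P : Subgroup G).relIndex (Subgroup.normalizer ((P : Subgroup G) : Set G)) :=
      fun h => h2 (h.trans h1)
    exact ((Nat.Prime.coprime_iff_not_dvd Fact.out).mpr h3).symm
  · have h3 := Subgroup.pow_index_mem
      ((P : Subgroup G).subgroupOf (Subgroup.normalizer ((P : Subgroup G) : Set G)))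
      (⟨n, hn⟩ : ↥(Subgroup.normalizer ((P : Subgroup G) : Set G)))
    rw [Subgroup.mem_subgroupOf] at h3
    set k := ((P : Subgroup G).subgroupOf (Subgroup.normalizer ((P : Subgroup G) : Set G))).index
    have h4 : n ^ k ∈ (P : Subgroup G) := by simpa using h3
    apply abel_ext
    intro s
    have hk := (Subgroup.pow_mem _ hn k : n ^ k ∈ Subgroup.normalizer ((P : Subgroup G) : Set G))
    obtain ⟨s1, hs1⟩ := exists_conj_mem hk s
    rw [actE_pow_of hn k s s1 hs1, MulAut.one_apply]
    exact of_conj_eq ⟨n ^ k, h4⟩ s s1 hs1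

end Abel

end Cfsg.Agent.Lib.Helper5.Ex3Grp
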