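import Mathlib
import Cfsg.Agent.Lib.Helper5.Ex3Grp2

set_option autoImplicit false

namespace Cfsg.Agent.Lib.Helper5.Ex3Grp

open scoped Pointwise

variable {G : Type*} [Group G]


theorem conj_pow' (g x : G) (k : ℕ) : g * x ^ k * g⁻¹ = (g * x * g⁻¹) ^ k := (conj_pow).symm

section B1

variable [Finite G] {p : ℕ} [Fact p.Prime] {P : Sylow p G} {Z : Subgroup G}
  (hS : Ex3 p (P : Subgroup G) Z)
include hS

theorem Ex3.conj_Vsub_mem {x : G} (hx : x ∈ (P : Subgroup G)) {s v : G} (hs : s ∈ (P : Subgroup G))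
    (hv : v ∈ Vsub Z x (hS.comm_x hx)) : s * v * s⁻¹ ∈ Vsub Z x (hS.comm_x hx) := by
  rw [conj_eq_cm_mul]
  exact Subgroup.mul_mem _ (hS.Z_le_Vsub hx (hS.cm_mem hs (hS.Vsub_le hx hv))) hv

theorem Ex3.exists_t_of_conj {x : G} (hx : x ∈ (P : Subgroup G)) (hxZ : x ∉ Z) {z' : G} (hz' : z' ∈ Z)
    (hz'1 : z' ≠ 1) {h : G} (hh : h * z' * h⁻¹ = x) :
    ∃ z0 ∈ Z, z0 ≠ 1 ∧ ∃ t : G, t * z0 * t⁻¹ = z0 * x ∧ t * x * t⁻¹ = x := by
  set V := Vsub Z x (hS.comm_x hx) with hV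
  set K := Subgroup.centralizer ({x} : Set G) with hK
  have hTK : ((h • P : Sylow p G) : Subgroup G) ≤ K := by
    intro v hv
    rw [mem_smul_sylow] at hv
    rw [hK, Subgroup.mem_centralizer_iff]
    intro y hy
    rw [Set.mem_singleton_iff] at hy
    rw [hy, ← hh]
    have h1 := hS.central z' hz' _ hv
    calc h * z' * h⁻¹ * v = h * (z' * (h⁻¹ * v * h)) * h⁻¹ := by group
      _ = h * ((h⁻¹ * v * h) * z') * h⁻¹ := by rw [h1]
      _ = v * (h * z' * h⁻¹) := by group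
  have hVK : V ≤ K := by
    intro v hv
    rw [hK, Subgroup.mem_centralizer_iff]
    intro y hy
    rw [Set.mem_singleton_iff] at hy
    rw [hy]
    exact (hS.Vsub_comm hx hv).symm
  have hVp : IsPGroup p V := P.isPGroup'.to_le (hS.Vsub_le hx)
  obtain ⟨c0, hc0K, hc0⟩ := conj_into_sylow K (h • P : Sylow p G) hTK V hVK hVp
  have hc0x : c0 * x = x * c0 := by
    rw [hK, Subgroup.mem_centralizer_iff] at hc0K
    exact (hc0K x rfl).symm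
  set h1 := c0⁻¹ * h with hh1
  have hh1x : h1 * z' * h1⁻¹ = x := by
    have e : h1 * z' * h1⁻¹ = c0⁻¹ * (h * z' * h⁻¹) * c0 := by rw [hh1]; group
    rw [e, hh]
    calc c0⁻¹ * x * c0 = c0⁻¹ * (x * c0) := by group
      _ = x := by rw [← hc0x]; group
  have hV1 : ∀ v ∈ V, h1⁻¹ * v * h1 ∈ (P : Subgroup G) := by
    intro v hv
    have := hc0 v hv
    rw [mem_smul_sylow] at this
    have e : h1⁻¹ * v * h1 = h⁻¹ * (c0 * v * c0⁻¹) * h := by rw [hh1]; group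
    rwa [e]
  set K2 := Subgroup.normalizer (V : Set G) with hK2
  have hSK2 : (P : Subgroup G) ≤ K2 :=
    le_normalizer_of_conj_mem _ _ (fun s hs v hv => hS.conj_Vsub_mem hx hs hv)
  haveI : Finite V := inferInstance
  have hm : ∀ s ∈ (P : Subgroup G), h1 * s * h1⁻¹ ∈ K2 := by
    intro s hs
    apply mem_normalizer_of_finite
    intro v hv
    have hv' := hV1 v hv
    obtain ⟨j, hj⟩ := hS.gen hz' hz'1 (hS.cm_mem hs hv')
    have e : h1 * s * h1⁻¹ * v * (h1 * s * h1⁻¹)⁻¹ =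
        (h1 * cm s (h1⁻¹ * v * h1) * h1⁻¹) * v := by
      unfold cm; group
    rw [e, hj, conj_pow', hh1x]
    exact Subgroup.mul_mem _ (Subgroup.pow_mem _ (hS.self_mem_Vsub hx) j) hv
  obtain ⟨c, hcK2, hq⟩ := frattini_adjust K2 P hSK2 h1 hm
  set q := c * h1 with hqdef
  have hq1 : ∀ s ∈ (P : Subgroup G), q * s * q⁻¹ ∈ (P : Subgroup G) :=
    fun s hs => (Subgroup.mem_normalizer_iff.mp hq s).mp hs
  have hq2 : ∀ s ∈ (P : Subgroup G), q⁻¹ * s * q ∈ (P : Subgroup G) := by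
    intro s hs
    rw [Subgroup.mem_normalizer_iff.mp hq (q⁻¹ * s * q)]
    have e : q * (q⁻¹ * s * q) * q⁻¹ = s := by group
    rwa [e]
  have hz0 : q * z' * q⁻¹ ∈ Z := hS.conj_Z_mem hq1 hq2 hz'
  set z0 := q * z' * q⁻¹ with hz0def
  have hz01 : z0 ≠ 1 := by
    intro h0
    apply hz'1
    have : q⁻¹ * z0 * q = 1 := by rw [h0]; group
    rw [hz0def] at this
    rw [← this]; group
  have hcx : c * x * c⁻¹ = z0 := by
    rw [hz0def, hqdef, ← hh1x]; group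
  have hcx' : c⁻¹ * z0 * c = x := by rw [← hcx]; group
  have hyV : c * z0 * c⁻¹ ∈ V := (Subgroup.mem_normalizer_iff.mp hcK2 z0).mp (hS.Z_le_Vsub hx hz0)
  set y := c * z0 * c⁻¹ with hydef
  have hcy : c⁻¹ * y * c = z0 := by rw [hydef]; group
  have hyZ : y ∉ Z := by
    intro hyZ
    have hy1 : y ≠ 1 := by
      intro h0
      apply hz01
      rw [← hcy, h0]; group
    obtain ⟨i, hi⟩ := hS.gen hyZ hy1 hz0
    apply hxZ
    have : x = z0 ^ i := by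
      rw [← hcx', hi]
      have e : c⁻¹ * y ^ i * c = (c⁻¹ * y * c) ^ i := by
        have := conj_pow' c⁻¹ y i
        rw [inv_inv] at this
        exact this
      rw [e, hcy, ← hi]
    rw [this]
    exact Subgroup.pow_mem _ hz0 i
  obtain ⟨s1, hs1, hs1y⟩ := hS.exists_conj (hS.Vsub_le hx hyV) hyZ hz0
  have hs1z : s1 * z0 * s1⁻¹ = z0 := by
    have := hS.central z0 hz0 s1 hs1
    rw [this]; group
  refine ⟨z0, hz0, hz01, c⁻¹ * s1 * c, ?_, ?_⟩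
  · calc c⁻¹ * s1 * c * z0 * (c⁻¹ * s1 * c)⁻¹ = c⁻¹ * (s1 * (c * z0 * c⁻¹) * s1⁻¹) * c := by group
      _ = c⁻¹ * (y * z0) * c := by rw [← hydef, hs1y]
      _ = (c⁻¹ * y * c) * (c⁻¹ * z0 * c) := by group
      _ = z0 * x := by rw [hcy, hcx']
  · calc c⁻¹ * s1 * c * x * (c⁻¹ * s1 * c)⁻¹ = c⁻¹ * (s1 * (c * x * c⁻¹) * s1⁻¹) * c := by group
      _ = c⁻¹ * z0 * c := by rw [hcx, hs1z]
      _ = x := hcx'

end B1




theorem pow_uu {p : ℕ} {u u' : ℕ} {k : ℤ} (hk : (u : ℤ) * u' = 1 + p * k) {g : G} (hg : g ^ p = 1) :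
    g ^ (u * u') = g := by
  have h1 : g ^ ((u * u' : ℕ) : ℤ) = g := by
    rw [Nat.cast_mul, hk, zpow_add, zpow_one, zpow_mul, zpow_natCast, hg, one_zpow, mul_one]
  rw [zpow_natCast] at h1
  exact h1

section B2

variable [Finite G] {p : ℕ} [Fact p.Prime] {P : Sylow p G} {Z : Subgroup G}
  (hS : Ex3 p (P : Subgroup G) Z)
include hS

theorem Ex3.conj_fix_Z {z0 : G} (hz0 : z0 ∈ Z) (hz01 : z0 ≠ 1) {c : G} (hc : c * z0 * c⁻¹ = z0)
    {z : G} (hz : z ∈ Z) : c * z * c⁻¹ = z := by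
  obtain ⟨j, rfl⟩ := hS.gen hz0 hz01 hz
  rw [conj_pow', hc]

theorem Ex3.conj_Z_of_gen {z0 : G} (hz0 : z0 ∈ Z) (hz01 : z0 ≠ 1) {c : G} (hc : c * z0 * c⁻¹ ∈ Z)
    {z : G} (hz : z ∈ Z) : c * z * c⁻¹ ∈ Z := by
  obtain ⟨j, rfl⟩ := hS.gen hz0 hz01 hz
  rw [conj_pow']
  exact Subgroup.pow_mem _ hc j

theorem Ex3.exists_normalizing_torus {x z0 : G} (hx : x ∈ (P : Subgroup G)) (hxZ : x ∉ Z) (hz0 : z0 ∈ Z)
    (hz01 : z0 ≠ 1) {t : G} (ht0 : t * z0 * t⁻¹ = z0 * x) (ht1 : t * x * t⁻¹ = x) {u u' : ℕ} {k : ℤ}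
    (hk : (u : ℤ) * u' = 1 + p * k) :
    ∃ m ∈ Subgroup.normalizer ((P : Subgroup G) : Set G), m * z0 * m⁻¹ = z0 ^ u ∧
      ∃ z ∈ Z, m * x * m⁻¹ = x ^ u' * z := by
  obtain ⟨s, hs, hsx⟩ := hS.exists_conj hx hxZ hz0
  have hsz : s * z0 * s⁻¹ = z0 := by
    have := hS.central z0 hz0 s hs
    rw [this]; group
  have hcz : z0 * x = x * z0 := (hS.central z0 hz0 x hx).symm
  have hzp : z0 ^ p = 1 := hS.Z_pow hz0
  have hxp : x ^ p = 1 := hS.exp x hx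
  obtain ⟨m0, hm0z, hm0x⟩ := exists_torus hcz hzp hxp hsz hsx ht0 ht1 hk
  have hm0z' : m0⁻¹ * z0 * m0 = z0 ^ u' := by
    have h1 : m0 * z0 ^ u' * m0⁻¹ = z0 := by
      rw [conj_pow', hm0z, ← pow_mul, pow_uu hk hzp]
    calc m0⁻¹ * z0 * m0 = m0⁻¹ * (m0 * z0 ^ u' * m0⁻¹) * m0 := by rw [h1]
      _ = z0 ^ u' := by group
  have hm0x' : m0⁻¹ * x * m0 = x ^ u := by
    have h1 : m0 * x ^ u * m0⁻¹ = x := by
      rw [conj_pow', hm0x, ← pow_mul, mul_comm, pow_uu hk hxp]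
    calc m0⁻¹ * x * m0 = m0⁻¹ * (m0 * x ^ u * m0⁻¹) * m0 := by rw [h1]
      _ = x ^ u := by group
  let C : Subgroup G :=
    { carrier := {c | c * z0 * c⁻¹ = z0 ∧ ∃ z ∈ Z, c * x * c⁻¹ = x * z}
      one_mem' := ⟨by simp, 1, Z.one_mem, by simp⟩
      mul_mem' := by
        rintro c c' ⟨hc0, z, hz, hcx⟩ ⟨hc'0, z', hz', hc'x⟩
        refine ⟨?_, z * z', Z.mul_mem hz hz', ?_⟩
        · calc c * c' * z0 * (c * c')⁻¹ = c * (c' * z0 * c'⁻¹) * c⁻¹ := by group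
            _ = z0 := by rw [hc'0, hc0]
        · calc c * c' * x * (c * c')⁻¹ = c * (c' * x * c'⁻¹) * c⁻¹ := by group
            _ = (c * x * c⁻¹) * (c * z' * c⁻¹) := by rw [hc'x]; group
            _ = x * (z * z') := by rw [hcx, hS.conj_fix_Z hz0 hz01 hc0 hz', mul_assoc]
      inv_mem' := by
        rintro c ⟨hc0, z, hz, hcx⟩
        have hc0' : c⁻¹ * z0 * c⁻¹⁻¹ = z0 := by
          nth_rewrite 1 [← hc0]; group
        refine ⟨hc0', z⁻¹, Z.inv_mem hz, ?_⟩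
        have h1 : c⁻¹ * z * c⁻¹⁻¹ = z := hS.conj_fix_Z hz0 hz01 hc0' hz
        have h2 : c⁻¹ * (x * z) * c⁻¹⁻¹ = x := by rw [← hcx]; group
        have h3 : c⁻¹ * (x * z) * c⁻¹⁻¹ = (c⁻¹ * x * c⁻¹⁻¹) * (c⁻¹ * z * c⁻¹⁻¹) := by group
        rw [h3, h1] at h2
        exact eq_mul_inv_of_mul_eq h2 }
  have hCmem : ∀ c, c ∈ C ↔ (c * z0 * c⁻¹ = z0 ∧ ∃ z ∈ Z, c * x * c⁻¹ = x * z) := fun c => Iff.rfl
  have hSC : (P : Subgroup G) ≤ C := by
    intro s' hs'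
    rw [hCmem]
    refine ⟨?_, cm s' x, hS.cm_mem hs' hx, ?_⟩
    · have := hS.central z0 hz0 s' hs'
      rw [this]; group
    · rw [conj_eq_cm_mul]
      exact (hS.central _ (hS.cm_mem hs' hx) x hx).symm
  have hm : ∀ s' ∈ (P : Subgroup G), m0 * s' * m0⁻¹ ∈ C := by
    intro s' hs'
    rw [hCmem]
    constructor
    · have h1 : s' * z0 ^ u' * s'⁻¹ = z0 ^ u' := by
        have := hS.central _ (Z.pow_mem hz0 u') s' hs'
        rw [this]; group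
      calc m0 * s' * m0⁻¹ * z0 * (m0 * s' * m0⁻¹)⁻¹ = m0 * (s' * (m0⁻¹ * z0 * m0) * s'⁻¹) * m0⁻¹ := by group
        _ = m0 * z0 ^ u' * m0⁻¹ := by rw [hm0z', h1]
        _ = z0 := by rw [← hm0z']; group
    · have hzs : cm s' x ∈ Z := hS.cm_mem hs' hx
      have h1 : s' * x ^ u * s'⁻¹ = x ^ u * (cm s' x) ^ u := by
        rw [conj_pow', conj_eq_cm_mul]
        have hcomm : Commute (cm s' x) x := (hS.central _ hzs x hx).symm
        rw [hcomm.mul_pow, (hcomm.pow_pow u u).eq]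
      refine ⟨m0 * (cm s' x) ^ u * m0⁻¹, ?_, ?_⟩
      · apply hS.conj_Z_of_gen hz0 hz01 _ (Z.pow_mem hzs u)
        rw [hm0z]
        exact Z.pow_mem hz0 u
      · calc m0 * s' * m0⁻¹ * x * (m0 * s' * m0⁻¹)⁻¹ = m0 * (s' * (m0⁻¹ * x * m0) * s'⁻¹) * m0⁻¹ := by group
          _ = m0 * (x ^ u * (cm s' x) ^ u) * m0⁻¹ := by rw [hm0x', h1]
          _ = (m0 * x ^ u * m0⁻¹) * (m0 * (cm s' x) ^ u * m0⁻¹) := by group
          _ = x * (m0 * (cm s' x) ^ u * m0⁻¹) := by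
            congr 1
            rw [← hm0x']; group
  obtain ⟨c, hcC, hcm⟩ := frattini_adjust C P hSC m0 hm
  obtain ⟨hc0, z, hz, hcx⟩ := (hCmem c).mp hcC
  refine ⟨c * m0, hcm, ?_, z ^ u', Z.pow_mem hz u', ?_⟩
  · calc c * m0 * z0 * (c * m0)⁻¹ = c * (m0 * z0 * m0⁻¹) * c⁻¹ := by group
      _ = z0 ^ u := by rw [hm0z, conj_pow', hc0]
  · calc c * m0 * x * (c * m0)⁻¹ = c * (m0 * x * m0⁻¹) * c⁻¹ := by group
      _ = (x * z) ^ u' := by rw [hm0x, conj_pow', hcx]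
      _ = x ^ u' * z ^ u' := by
        have hcomm : Commute x z := (hS.central z hz x hx)
        exact hcomm.mul_pow u'

end B2




theorem zpow_to_nat {p : ℕ} [Fact p.Prime] {g : G} (hg : g ^ p = 1) (k : ℤ) : ∃ n : ℕ, g ^ k = g ^ n := by
  have hp : (p : ℤ) ≠ 0 := by
    have := (Fact.out : p.Prime).pos
    omega
  refine ⟨(k % p).toNat, ?_⟩
  have h1 : g ^ (p : ℤ) = 1 := by rw [zpow_natCast, hg]
  rw [zpow_eq_zpow_emod k h1, ← zpow_natCast, Int.toNat_of_nonneg (Int.emod_nonneg k hp)]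

section B3

variable [Finite G] {p : ℕ} [Fact p.Prime] {P : Sylow p G} {Z : Subgroup G}
  (hS : Ex3 p (P : Subgroup G) Z)
include hS

theorem Ex3.of_eq_one (hcomm : commutator ↥(P : Subgroup G) = Z.subgroupOf (P : Subgroup G))
    (s : ↥(P : Subgroup G)) : Abelianization.of s = 1 ↔ (s : G) ∈ Z := by
  rw [← MonoidHom.mem_ker, Abelianization.ker_of, hcomm, Subgroup.mem_subgroupOf]

theorem Ex3.abel_exp (e : Abelianization ↥(P : Subgroup G)) : e ^ p = 1 := by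
  obtain ⟨s, rfl⟩ := of_surj e
  rw [← map_pow]
  have : s ^ p = 1 := by
    apply Subtype.ext
    rw [Subgroup.coe_pow]
    exact hS.exp s s.2
  rw [this, map_one]

theorem Ex3.abel_card (hcomm : commutator ↥(P : Subgroup G) = Z.subgroupOf (P : Subgroup G)) :
    Nat.card (Abelianization ↥(P : Subgroup G)) = p ^ 2 := by
  have hpP : p.Prime := Fact.out
  have h1 := Subgroup.card_eq_card_quotient_mul_card_subgroup (commutator ↥(P : Subgroup G))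
  have h2 : Nat.card ↥(commutator ↥(P : Subgroup G)) = p := by
    rw [hcomm, Nat.card_congr (Subgroup.subgroupOfEquivOfLe hS.le).toEquiv, hS.cardZ]
  rw [h2, hS.cardS] at h1
  have h3 : p ^ 3 = p ^ 2 * p := by ring
  rw [h3] at h1
  exact (Nat.eq_of_mul_eq_mul_right hpP.pos h1).symm

theorem Ex3.gtor (hcomm : commutator ↥(P : Subgroup G) = Z.subgroupOf (P : Subgroup G))
    {x z0 : G} (hx : x ∈ (P : Subgroup G)) (hxZ : x ∉ Z) (hz0 : z0 ∈ Z) (hz01 : z0 ≠ 1)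
    {m : G} (hm : m ∈ Subgroup.normalizer ((P : Subgroup G) : Set G)) {u u' : ℕ} {k : ℤ}
    (hk : (u : ℤ) * u' = 1 + p * k) (hm0 : m * z0 * m⁻¹ = z0 ^ u) {z : G} (hz : z ∈ Z)
    (hm1 : m * x * m⁻¹ = x ^ u' * z) :
    Abelianization.of (⟨x, hx⟩ : ↥(P : Subgroup G)) ≠ 1 ∧
    actE (P : Subgroup G) m hm (Abelianization.of ⟨x, hx⟩) = (Abelianization.of ⟨x, hx⟩) ^ u' ∧
    ∀ y : Abelianization ↥(P : Subgroup G), ∃ n : ℕ,
      actE (P : Subgroup G) m hm y = y ^ (u ^ 2) * (Abelianization.of ⟨x, hx⟩) ^ n := by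
  have hofZ : ∀ (w : G) (hw : w ∈ Z), Abelianization.of (⟨w, hS.le hw⟩ : ↥(P : Subgroup G)) = 1 :=
    fun w hw => (hS.of_eq_one hcomm _).mpr hw
  refine ⟨?_, ?_, ?_⟩
  · intro h
    exact hxZ ((hS.of_eq_one hcomm _).mp h)
  · have hmem : x ^ u' * z ∈ (P : Subgroup G) :=
      Subgroup.mul_mem _ (Subgroup.pow_mem _ hx u') (hS.le hz)
    rw [actE_of hm ⟨x, hx⟩ ⟨x ^ u' * z, hmem⟩ hm1.symm]
    have e : (⟨x ^ u' * z, hmem⟩ : ↥(P : Subgroup G)) = ⟨x, hx⟩ ^ u' * ⟨z, hS.le hz⟩ := by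
      apply Subtype.ext
      simp
    rw [e, map_mul, map_pow, hofZ z hz, mul_one]
  · intro e
    obtain ⟨⟨y, hy⟩, rfl⟩ := of_surj e
    obtain ⟨⟨y', hy'⟩, hy'e⟩ := exists_conj_mem hm ⟨y, hy⟩
    simp only at hy'e
    rw [actE_of hm ⟨y, hy⟩ ⟨y', hy'⟩ hy'e]
    have hc0 : cm x y ∈ Z := hS.cm_mem hx hy
    have hzp : ∀ w ∈ Z, w ^ p = 1 := fun w hw => hS.Z_pow hw
    have h1 : m * cm x y * m⁻¹ = (cm x y) ^ u := by
      obtain ⟨j, hj⟩ := hS.gen hz0 hz01 hc0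
      rw [hj, conj_pow', hm0, ← pow_mul, ← pow_mul, mul_comm]
    have h2 : m * cm x y * m⁻¹ = (cm x y') ^ u' := by
      rw [conj_cm, hm1, ← hy'e, hS.cm_mul_left (Subgroup.pow_mem _ hx u') (hS.le hz) hy',
        hS.cm_pow_left hx hy', hS.cm_central_left hz hy', mul_one]
    have h3 : cm x y' = (cm x y) ^ (u ^ 2) := by
      have h4 : (cm x y') ^ u' = (cm x y) ^ u := by rw [← h2, h1]
      have h5 := congrArg (fun g => g ^ u) h4
      rw [← pow_mul, mul_comm, pow_uu hk (hzp _ (hS.cm_mem hx hy')), ← pow_mul] at h5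
      rw [h5, sq]
    have hyu : y ^ (u ^ 2) ∈ (P : Subgroup G) := Subgroup.pow_mem _ hy _
    have hw : y' * (y ^ (u ^ 2))⁻¹ ∈ (P : Subgroup G) :=
      Subgroup.mul_mem _ hy' (Subgroup.inv_mem _ hyu)
    have h6 : cm x (y' * (y ^ (u ^ 2))⁻¹) = 1 := by
      rw [hS.cm_mul_right hx hy' (Subgroup.inv_mem _ hyu), hS.cm_inv_right hx hyu,
        hS.cm_pow_right hx hy, h3, mul_inv_cancel]
    have h7 : (y' * (y ^ (u ^ 2))⁻¹) * x = x * (y' * (y ^ (u ^ 2))⁻¹) :=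
      ((cm_eq_one_iff _ _).mp h6).symm
    obtain ⟨z1, hz1, k1, hk1⟩ := mem_Vsub.mp (hS.centralizer_eq hx hxZ hw h7)
    obtain ⟨n, hn⟩ := zpow_to_nat (hS.exp x hx) k1
    refine ⟨n, ?_⟩
    have e : (⟨y', hy'⟩ : ↥(P : Subgroup G)) = ⟨z1, hS.le hz1⟩ * ⟨x, hx⟩ ^ n * ⟨y, hy⟩ ^ (u ^ 2) := by
      apply Subtype.ext
      simp only [Subgroup.coe_mul, Subgroup.coe_pow]
      rw [← hn, ← hk1]
      group
    rw [e, map_mul, map_mul, map_pow, map_pow, hofZ z1 hz1, one_mul, mul_comm]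

end B3

theorem exists_prim {p : ℕ} [Fact p.Prime] :
    ∃ (a : (ZMod p)ˣ) (u u' : ℕ) (k : ℤ), orderOf a = p - 1 ∧ (u : ZMod p) = (a : ZMod p) ∧
      (u' : ZMod p) = ((a⁻¹ : (ZMod p)ˣ) : ZMod p) ∧ (u : ℤ) * u' = 1 + p * k := by
  obtain ⟨a, ha⟩ := IsCyclic.exists_ofOrder_eq_natCard (α := (ZMod p)ˣ)
  have hu : (((a : ZMod p).val : ℕ) : ZMod p) = (a : ZMod p) := ZMod.natCast_zmod_val _
  have hu' : (((((a⁻¹ : (ZMod p)ˣ) : ZMod p)).val : ℕ) : ZMod p) = ((a⁻¹ : (ZMod p)ˣ) : ZMod p) :=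
    ZMod.natCast_zmod_val _
  have h1 : (((1 : ℤ)) : ZMod p) =
      ((((a : ZMod p).val : ℤ) * ((((a⁻¹ : (ZMod p)ˣ) : ZMod p)).val : ℤ) : ℤ) : ZMod p) := by
    rw [Int.cast_mul, Int.cast_natCast, Int.cast_natCast, Int.cast_one, hu, hu', ← Units.val_mul,
      mul_inv_cancel, Units.val_one]
  rw [ZMod.intCast_eq_intCast_iff_dvd_sub] at h1
  obtain ⟨k, hk⟩ := h1
  refine ⟨a, (a : ZMod p).val, (((a⁻¹ : (ZMod p)ˣ) : ZMod p)).val, k, ?_, hu, hu', ?_⟩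
  · rw [ha, Nat.card_eq_fintype_card, ZMod.card_units]
  · linarith

end Cfsg.Agent.Lib.Helper5.Ex3Grp
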