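import Mathlib
import Cfsg.Agent.Lib.Helper5.Ex3Br

set_option autoImplicit false

namespace Cfsg.Agent.Lib.Helper5.Ex3Br

open Matrix Cfsg.Agent.Lib.Helper5.Ex3Lin

section Transv

variable {p : ℕ} [Fact p.Prime] {E : Type*} [CommGroup E] [Finite E]

omit [Finite E] in
theorem pow_val_add {x : E} (hx : x ^ p = 1) (a b : ZMod p) :
    x ^ (a + b).val = x ^ a.val * x ^ b.val := by
  rw [ZMod.val_add, ← pow_eq_pow_mod _ hx, pow_add]

theorem exists_functional (hE : ∀ x : E, x ^ p = 1) (hc : Nat.card E = p ^ 2) (x z0 : E) (hz0 : z0 ≠ 1)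
    (hind : ∀ k : ℕ, x ≠ z0 ^ k) :
    ∃ ℓ : E → ZMod p, (∀ a b, ℓ (a * b) = ℓ a + ℓ b) ∧ ℓ x = 0 ∧ ℓ z0 = 1 := by
  obtain ⟨Φ, κ, -, hκ, hadd, -⟩ := exists_coord (p := p) hE hc
  have hv0 : κ z0 ≠ 0 := by
    intro h0
    apply hz0
    apply hκ.1
    rw [h0, kappa_one hadd]
  rcases prop_or_indep (κ z0) (κ x) hv0 with ⟨μ, hμ⟩ | hD
  · exfalso
    apply hind μ.val
    apply hκ.1
    rw [kappa_pow hadd, ZMod.natCast_zmod_val, hμ]
  · refine ⟨fun a => (κ a 0 * κ x 1 - κ a 1 * κ x 0) / (κ z0 0 * κ x 1 - κ z0 1 * κ x 0), ?_, ?_, ?_⟩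
    · intro a b
      simp only [hadd, Pi.add_apply]
      field_simp
      ring
    · simp only
      rw [mul_comm (κ x 0), sub_self, zero_div]
    · exact div_self hD

theorem exists_transvection (hE : ∀ x : E, x ^ p = 1) (hc : Nat.card E = p ^ 2) (x z0 : E)
    (hz0 : z0 ≠ 1) (hind : ∀ k : ℕ, x ≠ z0 ^ k) :
    ∃ φ : MulAut E, φ x = x ∧ φ z0 = z0 * x ∧ orderOf φ = p := by
  obtain ⟨ℓ, hℓadd, hℓx, hℓz⟩ := exists_functional hE hc x z0 hz0 hind
  have hxp := hE x
  have hℓ1 : ℓ 1 = 0 := by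
    have := hℓadd 1 1
    rw [mul_one] at this
    exact left_eq_add.mp this
  have hℓpow : ∀ n : ℕ, ℓ (x ^ n) = 0 := by
    intro n
    induction n with
    | zero => rw [pow_zero, hℓ1]
    | succ n ih => rw [pow_succ, hℓadd, ih, hℓx, add_zero]
  let f : E → E := fun a => x ^ (ℓ a).val
  have hfdef : ∀ a, f a = x ^ (ℓ a).val := fun a => rfl
  have hfmul : ∀ a b, f (a * b) = f a * f b := fun a b => by
    rw [hfdef, hℓadd, pow_val_add hxp]
  have hff : ∀ a, f (f a) = 1 := fun a => by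
    rw [hfdef (f a), hfdef a, hℓpow, ZMod.val_zero, pow_zero]
  have hf1 : f 1 = 1 := by rw [hfdef, hℓ1, ZMod.val_zero, pow_zero]
  have hfinv : ∀ a, f a⁻¹ = (f a)⁻¹ := fun a => by
    have := hfmul a a⁻¹
    rw [mul_inv_cancel, hf1] at this
    exact (inv_eq_of_mul_eq_one_right this.symm).symm
  let φ : E ≃* E :=
    { toFun := fun a => a * f a
      invFun := fun a => a * (f a)⁻¹
      left_inv := fun a => by
        show a * f a * (f (a * f a))⁻¹ = a
        rw [hfmul, hff, mul_one, mul_inv_cancel_right]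
      right_inv := fun a => by
        show a * (f a)⁻¹ * f (a * (f a)⁻¹) = a
        rw [hfmul, hfinv (f a), hff, inv_one, mul_one, inv_mul_cancel_right]
      map_mul' := fun a b => by
        show a * b * f (a * b) = a * f a * (b * f b)
        rw [hfmul]
        exact mul_mul_mul_comm a b (f a) (f b) }
  have hφ : ∀ a, φ a = a * f a := fun a => rfl
  have hpow : ∀ (n : ℕ) (a : E), (φ ^ n) a = a * (f a) ^ n := by
    intro n
    induction n with
    | zero => intro a; simp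
    | succ n ih =>
      intro a
      rw [pow_succ, MulAut.mul_apply, hφ, ih, hfmul, hff, mul_one, pow_succ', mul_assoc]
  have hx1 : x ≠ 1 := by
    have := hind 0
    rwa [pow_zero] at this
  refine ⟨φ, ?_, ?_, ?_⟩
  · rw [hφ, hfdef, hℓx, ZMod.val_zero, pow_zero, mul_one]
  · rw [hφ, hfdef, hℓz, ZMod.val_one, pow_one]
  · apply orderOf_eq_prime
    · apply MulEquiv.ext
      intro a
      rw [hpow, MulAut.one_apply]
      have : (f a) ^ p = 1 := hE _
      rw [this, mul_one]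
    · intro h1
      have h2 : φ z0 = z0 := by rw [h1, MulAut.one_apply]
      rw [hφ, hfdef, hℓz, ZMod.val_one, pow_one] at h2
      exact hx1 (mul_eq_left.mp h2)

end Transv

end Cfsg.Agent.Lib.Helper5.Ex3Br
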