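import Mathlib
import Cfsg.Agent.Lib.Helper5.Ex3Grp3
import Cfsg.Agent.Lib.Helper5.Ex3Tr

set_option autoImplicit false

namespace Cfsg.Agent.Lib.Helper5.Ex3Grp

open scoped Pointwise
open Cfsg.Agent.Lib.Helper5.Ex3Br

variable {G : Type*} [Group G]

section B4

variable [Finite G] {p : ℕ} [Fact p.Prime] {P : Sylow p G} {Z : Subgroup G}
  (hS : Ex3 p (P : Subgroup G) Z)
include hS

theorem Ex3.card_Vsub_le {x : G} (hx : x ∈ (P : Subgroup G)) (hxZ : x ∉ Z) :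
    Nat.card (Vsub Z x (hS.comm_x hx)) ≤ p ^ 2 := by
  have hpP : p.Prime := Fact.out
  have h1 : Nat.card (Vsub Z x (hS.comm_x hx)) ∣ p ^ 3 :=
    hS.cardS ▸ Subgroup.card_dvd_of_le (hS.Vsub_le hx)
  obtain ⟨j, hj, hj2⟩ := (Nat.dvd_prime_pow hpP).mp h1
  have hj3 : j ≠ 3 := by
    intro h3
    apply hxZ
    apply hS.center x hx
    intro y hy
    have hEq : Vsub Z x (hS.comm_x hx) = (P : Subgroup G) := by
      apply Subgroup.eq_of_le_of_card_ge (hS.Vsub_le hx)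
      rw [hj2, h3, hS.cardS]
    have : y ∈ Vsub Z x (hS.comm_x hx) := by rw [hEq]; exact hy
    exact hS.Vsub_comm hx this
  rw [hj2]
  exact Nat.pow_le_pow_right hpP.pos (by omega)

theorem Ex3.eq_Vsub_of_card (A : Subgroup G) (hAS : A ≤ (P : Subgroup G)) (hAcard : Nat.card A = p ^ 2)
    {x : G} (hxA : x ∈ A) (hxZ : x ∉ Z) : A = Vsub Z x (hS.comm_x (hAS hxA)) := by
  apply Subgroup.eq_of_le_of_card_ge
  · intro a ha
    apply hS.centralizer_eq (hAS hxA) hxZ (hAS ha)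
    have := IsPGroup.commutative_of_card_eq_prime_sq hAcard ⟨a, ha⟩ ⟨x, hxA⟩
    exact congrArg Subtype.val this
  · rw [hAcard]
    exact hS.card_Vsub_le (hAS hxA) hxZ

theorem Ex3.plane_gtor (hcomm : commutator ↥(P : Subgroup G) = Z.subgroupOf (P : Subgroup G))
    (A : Subgroup G) (hAS : A ≤ (P : Subgroup G)) (hAcard : Nat.card A = p ^ 2)
    (hSL : ∀ φ : MulAut ↥A, orderOf φ = p → ∃ g : G, ∀ a : ↥A, (φ a : G) = g * (a : G) * g⁻¹)
    {u u' : ℕ} {k : ℤ} (hk : (u : ℤ) * u' = 1 + p * k) :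
    ∃ (x : G) (hx : x ∈ (P : Subgroup G)), x ∈ A ∧ x ∉ Z ∧
      ∃ φ ∈ HE (P : Subgroup G), GTor u u' φ (Abelianization.of ⟨x, hx⟩) := by
  have hpP : p.Prime := Fact.out
  obtain ⟨x, hxA, hxZ⟩ : ∃ x ∈ A, x ∉ Z := by
    by_contra hcon
    push Not at hcon
    have hle : A ≤ Z := hcon
    have := Subgroup.card_le_of_le hle
    rw [hAcard, hS.cardZ] at this
    have h2 : p * 2 ≤ p * p := Nat.mul_le_mul_left p hpP.two_le
    have h3 : 0 < p := hpP.pos
    nlinarith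
  have hx : x ∈ (P : Subgroup G) := hAS hxA
  have hAV := hS.eq_Vsub_of_card A hAS hAcard hxA hxZ
  obtain ⟨z0, hz0, hz01⟩ : ∃ z0 ∈ Z, z0 ≠ 1 := by
    have h1 : 1 < Nat.card ↥Z := by rw [hS.cardZ]; exact hpP.one_lt
    haveI : Finite ↥Z := inferInstance
    rw [Finite.one_lt_card_iff_nontrivial] at h1
    obtain ⟨w, hw⟩ := exists_ne (1 : ↥Z)
    exact ⟨w, w.2, fun h => hw (Subtype.ext h)⟩
  have hz0A : z0 ∈ A := by
    rw [hAV]
    exact hS.Z_le_Vsub hx hz0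
  letI : CommGroup ↥A :=
    { (inferInstance : Group ↥A) with
      mul_comm := IsPGroup.commutative_of_card_eq_prime_sq hAcard }
  have hEA : ∀ a : ↥A, a ^ p = 1 := by
    intro a
    apply Subtype.ext
    rw [Subgroup.coe_pow]
    exact hS.exp a (hAS a.2)
  obtain ⟨φ, hφx, hφz, hφo⟩ := exists_transvection (p := p) (E := ↥A) hEA hAcard ⟨x, hxA⟩ ⟨z0, hz0A⟩
    (fun h => hz01 (congrArg Subtype.val h)) (by
      intro n h
      apply hxZ
      have := congrArg Subtype.val h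
      rw [Subgroup.coe_pow] at this
      simp only at this
      rw [this]
      exact Subgroup.pow_mem _ hz0 n)
  obtain ⟨t, ht⟩ := hSL φ hφo
  have ht1 : t * x * t⁻¹ = x := by
    have := ht ⟨x, hxA⟩
    rw [hφx] at this
    exact this.symm
  have ht0 : t * z0 * t⁻¹ = z0 * x := by
    have := ht ⟨z0, hz0A⟩
    rw [hφz] at this
    exact this.symm
  obtain ⟨m, hm, hm0, z, hz, hm1⟩ := hS.exists_normalizing_torus hx hxZ hz0 hz01 ht0 ht1 hk
  exact ⟨x, hx, hxA, hxZ, actE (P : Subgroup G) m hm, actE_mem_HE hm,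
    hS.gtor hcomm hx hxZ hz0 hz01 hm hk hm0 hz hm1⟩

end B4

end Cfsg.Agent.Lib.Helper5.Ex3Grp
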