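import Mathlib
import Cfsg.Agent.Lib.Helper5.Hol2

set_option autoImplicit false

namespace Cfsg.Agent.Lib.Helper5

open scoped commutatorElement Pointwise

section HolOp

variable {G : Type*} [Group G] (V : Subgroup G) [V.Characteristic]

noncomputable def holXi : MulAut G →* HolG V :=
  SemidirectProduct.inr.comp (MulAut.characteristic V)

theorem holXi_conj (φ : MulAut G) (k : G) :
    holXi V φ * holPsi V k * (holXi V φ)⁻¹ = holPsi V (φ k) := by
  unfold holXi holPsi
  simp only [MonoidHom.comp_apply]
  rw [← map_inv, ← map_mul, ← map_mul]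
  congr 1
  ext v
  rw [MulAut.mul_apply, MulAut.mul_apply, MulAut.conjNormal_apply]
  have h1 : ((MulAut.characteristic V φ)⁻¹ v : G) = φ⁻¹ (v : G) := rfl
  have h2 : ∀ w : V, ((MulAut.characteristic V φ w : V) : G) = φ (w : G) := fun w => rfl
  rw [h2, MulAut.conjNormal_apply, map_mul, map_mul, h1, map_inv]
  simp

end HolOp

end Cfsg.Agent.Lib.Helper5
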