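import Mathlib
import Cfsg.Agent.Lib.Helper5.FFOp
import Cfsg.Agent.Lib.Helper5.HolOp
import Cfsg.Agent.S0600
import Cfsg.Agent.S0601
import Cfsg.Agent.S0602
import Cfsg.Agent.S0606
import Cfsg.Agent.S0608

set_option autoImplicit false

namespace Cfsg.Agent.Lib.Helper5

open scoped commutatorElement Pointwise

section FFOp2

abbrev omZ (p : ℕ) (K : Type*) [Group K] : Subgroup K :=
  ⨆ S : Sylow p K, Cfsg.omegaOne p ((S : Subgroup K) ⊓ Subgroup.centralizer ((S : Subgroup K) : Set K))

theorem aut_omegaZ {K : Type*} [Group K] {p : ℕ} (φ : MulAut K) (S : Sylow p K) :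
    (Cfsg.omegaOne p ((S : Subgroup K) ⊓ Subgroup.centralizer ((S : Subgroup K) : Set K))).map
      φ.toMonoidHom ≤
    Cfsg.omegaOne p (((φ • S : Sylow p K) : Subgroup K) ⊓
      Subgroup.centralizer (((φ • S : Sylow p K) : Subgroup K) : Set K)) := by
  unfold Cfsg.omegaOne
  rw [MonoidHom.map_closure]
  apply Subgroup.closure_mono
  rintro _ ⟨x, ⟨hx, hxp⟩, rfl⟩
  obtain ⟨hxS, hxC⟩ := Subgroup.mem_inf.mp hx
  have hS : ((φ • S : Sylow p K) : Subgroup K) = (S : Subgroup K).map φ.toMonoidHom := by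
    rw [Sylow.pointwise_smul_def]; rfl
  rw [hS]
  refine ⟨Subgroup.mem_inf.mpr ⟨Subgroup.mem_map_of_mem _ hxS, ?_⟩, ?_⟩
  · rw [Subgroup.mem_centralizer_iff]
    rintro _ ⟨y, hy, rfl⟩
    have hc := (Subgroup.mem_centralizer_iff.mp hxC) y hy
    show φ y * φ x = φ x * φ y
    rw [← map_mul, ← map_mul, hc]
  · show φ x ^ p = 1
    rw [← map_pow, hxp, map_one]

instance omZ_characteristic (p : ℕ) (K : Type*) [Group K] : (omZ p K).Characteristic := by
  rw [Subgroup.characteristic_iff_map_le]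
  intro φ
  rw [Subgroup.map_iSup]
  apply iSup_le
  intro S
  exact (aut_omegaZ φ S).trans (le_iSup (fun S : Sylow p K => Cfsg.omegaOne p
    ((S : Subgroup K) ⊓ Subgroup.centralizer ((S : Subgroup K) : Set K))) (φ • S))

theorem thompson_map_le_sylow_cent {K : Type*} [Group K] [Finite K] {p q : ℕ} [Fact p.Prime]
    [Fact q.Prime] (hsep : Cfsg.IsPSolvable p K) (hO : Cfsg.pPrimeCore p K = ⊥)
    (hq : ¬ q ∣ Nat.card K) (S : Sylow p K) (X' : Subgroup (HolG (omZ p K)))
    (hXJ : X' ≤ Subgroup.normalizer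
      (((Cfsg.thompsonSubgroup p K).map (holPsi (omZ p K)) : Subgroup (HolG (omZ p K))) :
        Set (HolG (omZ p K))))
    (hXq : IsPGroup q X') :
    (Cfsg.thompsonSubgroup p K).map (holPsi (omZ p K)) ≤
      ((S : Subgroup K) ⊓ Cfsg.thompsonSubgroup p K).map (holPsi (omZ p K)) ⊔
        ((Cfsg.thompsonSubgroup p K).map (holPsi (omZ p K)) ⊓
          Subgroup.centralizer (X' : Set (HolG (omZ p K)))) := by
  have hc := h5_centralizer_pCore_le hsep hO
  obtain ⟨-, hVe, -⟩ := Cfsg.Agent.S0601.result hc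
  have hgen : omZ p K = ⨆ S : Sylow p K, omZ p K ⊓ Subgroup.centralizer ((S : Subgroup K) : Set K) := by
    apply le_antisymm
    · apply iSup_le
      intro S
      refine le_trans ?_ (le_iSup _ S)
      apply le_inf (le_iSup (fun S : Sylow p K => Cfsg.omegaOne p ((S : Subgroup K) ⊓ Subgroup.centralizer ((S : Subgroup K) : Set K))) S)
      unfold Cfsg.omegaOne
      rw [Subgroup.closure_le]
      rintro x ⟨hx, -⟩
      exact (Subgroup.mem_inf.mp hx).2
    · exact iSup_le (fun S => inf_le_left)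
  have hOC := Cfsg.Agent.S0600.result (omZ p K) hVe hgen
  haveI hJchar := (Cfsg.Agent.S0602.result (G := K) (p := p)).1
  have hV' := holV_elemAb (omZ p K) hVe
  haveI := holV_normal (omZ p K)
  have hHV' : (Cfsg.thompsonSubgroup p K).map (holPsi (omZ p K)) ≤
      Subgroup.normalizer ((holV (omZ p K) : Subgroup (HolG (omZ p K))) : Set (HolG (omZ p K))) :=
    Subgroup.le_normalizer_of_normal
  have hmr : (Cfsg.thompsonSubgroup p K).map (holPsi (omZ p K)) ≤ (holPsi (omZ p K)).range := by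
    rw [MonoidHom.range_eq_map]; exact Subgroup.map_mono le_top
  have hf' : (Cfsg.thompsonSubgroup p K).map (holPsi (omZ p K)) ⊓
      Subgroup.centralizer ((holV (omZ p K) : Subgroup (HolG (omZ p K))) : Set (HolG (omZ p K))) = ⊥ := by
    rw [eq_bot_iff, ← hol_faithful (omZ p K)]
    exact inf_le_inf_right _ hmr
  have hS1' := hol_map_hS1 (omZ p K) hsep hOC (Cfsg.thompsonSubgroup p K)
  have hS3' : (Cfsg.thompsonSubgroup p K).map (holPsi (omZ p K)) =
      ⨆ A : {A : Subgroup (HolG (omZ p K)) // A ≤ (Cfsg.thompsonSubgroup p K).map (holPsi (omZ p K)) ∧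
        Cfsg.IsBestOffenderOn p (holV (omZ p K)) A}, (A : Subgroup (HolG (omZ p K))) := by
    apply le_antisymm
    · have h1 : (Cfsg.thompsonSubgroup p K).map (holPsi (omZ p K)) =
          ⨆ A : ↥(Cfsg.maxElementaryAbelianSubgroups p K), (A : Subgroup K).map (holPsi (omZ p K)) := by
        unfold Cfsg.thompsonSubgroup
        rw [sSup_eq_iSup', Subgroup.map_iSup]
      refine h1.le.trans ?_
      apply iSup_le
      intro A
      exact le_iSup (fun A : {A : Subgroup (HolG (omZ p K)) //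
        A ≤ (Cfsg.thompsonSubgroup p K).map (holPsi (omZ p K)) ∧
        Cfsg.IsBestOffenderOn p (holV (omZ p K)) A} => (A : Subgroup (HolG (omZ p K))))
        ⟨A.1.map (holPsi (omZ p K)), Subgroup.map_mono (le_sSup A.2),
          hol_bestOffender (omZ p K) A.1 (Cfsg.Agent.S0606.result (omZ p K) hVe A.1 A.2)⟩
    · exact iSup_le (fun A => A.2.1)
  have hS := FFSetup.of_hyp hV' hHV' hf' hS1' hS3'
  have hq' : ¬ q ∣ Nat.card ((Cfsg.thompsonSubgroup p K).map (holPsi (omZ p K))) := by
    intro h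
    apply hq
    have h1 := card_map_psi (omZ p K) (Cfsg.thompsonSubgroup p K)
    exact (h.trans (Dvd.intro _ h1)).trans (Subgroup.card_subgroup_dvd_card _)
  have hXV : X' ≤ Subgroup.normalizer
      ((holV (omZ p K) : Subgroup (HolG (omZ p K))) : Set (HolG (omZ p K))) :=
    Subgroup.le_normalizer_of_normal
  have hT : ∀ A : Subgroup (HolG (omZ p K)),
      A ≤ (Cfsg.thompsonSubgroup p K).map (holPsi (omZ p K)) → IsPGroup p A →
      ∃ h ∈ (Cfsg.thompsonSubgroup p K).map (holPsi (omZ p K)),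
        A.map (MulAut.conj h).toMonoidHom ≤
          ((S : Subgroup K) ⊓ Cfsg.thompsonSubgroup p K).map (holPsi (omZ p K)) := by
    intro A hAH hA
    have hsurj := (holPsi (omZ p K)).subgroupMap_surjective (Cfsg.thompsonSubgroup p K)
    obtain ⟨h, hh, hle⟩ := sylow_conj_into
      ((Cfsg.Agent.Lib.helper17.sylowInfNormal S (Cfsg.thompsonSubgroup p K)).mapSurjective hsurj)
      A hAH hA
    refine ⟨h, hh, hle.trans ?_⟩
    rw [Sylow.coe_mapSurjective, Cfsg.Agent.Lib.helper17.sylowInfNormal_coe, Subgroup.map_map]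
    have h1 : ((Cfsg.thompsonSubgroup p K).map (holPsi (omZ p K))).subtype.comp
        ((holPsi (omZ p K)).subgroupMap (Cfsg.thompsonSubgroup p K)) =
        (holPsi (omZ p K)).comp (Cfsg.thompsonSubgroup p K).subtype := rfl
    rw [h1, ← Subgroup.map_map, Subgroup.subgroupOf_map_subtype]
  exact gen_by_sylow_cent hS X' _ hXJ hXV hXq hq' hT

end FFOp2

end Cfsg.Agent.Lib.Helper5
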