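import Mathlib
import Cfsg.Agent.Lib.Helper5.FFOp2
import Cfsg.Agent.Lib.Helper5.FFPlane

set_option autoImplicit false

namespace Cfsg.Agent.Lib.Helper5

open scoped commutatorElement Pointwise

section FFOp3

theorem thompson_ffSetup {K : Type*} [Group K] [Finite K] {p : ℕ} [Fact p.Prime]
    (hsep : Cfsg.IsPSolvable p K) (hO : Cfsg.pPrimeCore p K = ⊥) :
    FFSetup p (holV (omZ p K)) ((Cfsg.thompsonSubgroup p K).map (holPsi (omZ p K))) := by
  have hc := h5_centralizer_pCore_le hsep hO
  obtain ⟨-, hVe, -⟩ := Cfsg.Agent.S0601.result hc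
  have hgen : omZ p K = ⨆ S : Sylow p K, omZ p K ⊓ Subgroup.centralizer ((S : Subgroup K) : Set K) := by
    apply le_antisymm
    · apply iSup_le
      intro S
      refine le_trans ?_ (le_iSup _ S)
      apply le_inf (le_iSup (fun S : Sylow p K => Cfsg.omegaOne p ((S : Subgroup K) ⊓ Subgroup.centralizer ((S : Subgroup K) : Set K))) S)
      unfold Cfsg.omegaOne
      rw [Subgroup.closure_le]
      rintro x ⟨hx, -⟩
      exact (Subgroup.mem_inf.mp hx).2
    · exact iSup_le (fun S => inf_le_left)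
  have hOC := Cfsg.Agent.S0600.result (omZ p K) hVe hgen
  haveI hJchar := (Cfsg.Agent.S0602.result (G := K) (p := p)).1
  have hV' := holV_elemAb (omZ p K) hVe
  haveI := holV_normal (omZ p K)
  have hHV' : (Cfsg.thompsonSubgroup p K).map (holPsi (omZ p K)) ≤
      Subgroup.normalizer ((holV (omZ p K) : Subgroup (HolG (omZ p K))) : Set (HolG (omZ p K))) :=
    Subgroup.le_normalizer_of_normal
  have hmr : (Cfsg.thompsonSubgroup p K).map (holPsi (omZ p K)) ≤ (holPsi (omZ p K)).range := by
    rw [MonoidHom.range_eq_map]; exact Subgroup.map_mono le_top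
  have hf' : (Cfsg.thompsonSubgroup p K).map (holPsi (omZ p K)) ⊓
      Subgroup.centralizer ((holV (omZ p K) : Subgroup (HolG (omZ p K))) : Set (HolG (omZ p K))) = ⊥ := by
    rw [eq_bot_iff, ← hol_faithful (omZ p K)]
    exact inf_le_inf_right _ hmr
  have hS1' := hol_map_hS1 (omZ p K) hsep hOC (Cfsg.thompsonSubgroup p K)
  have hS3' : (Cfsg.thompsonSubgroup p K).map (holPsi (omZ p K)) =
      ⨆ A : {A : Subgroup (HolG (omZ p K)) // A ≤ (Cfsg.thompsonSubgroup p K).map (holPsi (omZ p K)) ∧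
        Cfsg.IsBestOffenderOn p (holV (omZ p K)) A}, (A : Subgroup (HolG (omZ p K))) := by
    apply le_antisymm
    · have h1 : (Cfsg.thompsonSubgroup p K).map (holPsi (omZ p K)) =
          ⨆ A : ↥(Cfsg.maxElementaryAbelianSubgroups p K), (A : Subgroup K).map (holPsi (omZ p K)) := by
        unfold Cfsg.thompsonSubgroup
        rw [sSup_eq_iSup', Subgroup.map_iSup]
      refine h1.le.trans ?_
      apply iSup_le
      intro A
      exact le_iSup (fun A : {A : Subgroup (HolG (omZ p K)) //
        A ≤ (Cfsg.thompsonSubgroup p K).map (holPsi (omZ p K)) ∧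
        Cfsg.IsBestOffenderOn p (holV (omZ p K)) A} => (A : Subgroup (HolG (omZ p K))))
        ⟨A.1.map (holPsi (omZ p K)), Subgroup.map_mono (le_sSup A.2),
          hol_bestOffender (omZ p K) A.1 (Cfsg.Agent.S0606.result (omZ p K) hVe A.1 A.2)⟩
    · exact iSup_le (fun A => A.2.1)
  exact FFSetup.of_hyp hV' hHV' hf' hS1' hS3'

theorem thompson_plane {K : Type*} [Group K] [Finite K] {p q : ℕ} [Fact p.Prime]
    [Fact q.Prime] (hsep : Cfsg.IsPSolvable p K) (hO : Cfsg.pPrimeCore p K = ⊥)
    (hq : ¬ q ∣ Nat.card K) (hnf : ¬ Cfsg.IsThompsonFactorizable p K)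
    (X' : Subgroup (HolG (omZ p K)))
    (hXJ : X' ≤ Subgroup.normalizer
      (((Cfsg.thompsonSubgroup p K).map (holPsi (omZ p K)) : Subgroup (HolG (omZ p K))) :
        Set (HolG (omZ p K))))
    (hXq : IsPGroup q X') :
    (p = 2 ∨ p = 3) ∧ ∃ W' : Subgroup (HolG (omZ p K)),
      W' ≤ holV (omZ p K) ⊓ Subgroup.centralizer (X' : Set (HolG (omZ p K))) ∧
      Nat.card W' = p ^ 2 ∧
      (Cfsg.thompsonSubgroup p K).map (holPsi (omZ p K)) ⊓
        Subgroup.centralizer (X' : Set (HolG (omZ p K))) ≤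
          Subgroup.normalizer (W' : Set (HolG (omZ p K))) ∧
      ∃ hn : ((Subgroup.centralizer (W' : Set (HolG (omZ p K)))).subgroupOf
          ((Cfsg.thompsonSubgroup p K).map (holPsi (omZ p K)) ⊓
            Subgroup.centralizer (X' : Set (HolG (omZ p K))))).Normal,
        Nonempty ((↥((Cfsg.thompsonSubgroup p K).map (holPsi (omZ p K)) ⊓
            Subgroup.centralizer (X' : Set (HolG (omZ p K)))) ⧸
          (Subgroup.centralizer (W' : Set (HolG (omZ p K)))).subgroupOf
            ((Cfsg.thompsonSubgroup p K).map (holPsi (omZ p K)) ⊓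
              Subgroup.centralizer (X' : Set (HolG (omZ p K))))) ≃*
          Matrix.SpecialLinearGroup (Fin 2) (ZMod p)) := by
  have hS := thompson_ffSetup (p := p) hsep hO
  have hJC : ¬ Cfsg.thompsonSubgroup p K ≤
      Subgroup.centralizer ((omZ p K : Subgroup K) : Set K) :=
    fun h => hnf ((Cfsg.Agent.S0608.result hO).mpr h)
  have hH1 : (Cfsg.thompsonSubgroup p K).map (holPsi (omZ p K)) ≠ ⊥ := by
    intro h
    apply hJC
    rw [Subgroup.map_eq_bot_iff, holPsi_ker] at h
    exact h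
  have hq' : ¬ q ∣ Nat.card ((Cfsg.thompsonSubgroup p K).map (holPsi (omZ p K))) := by
    intro h
    apply hq
    have h1 := card_map_psi (omZ p K) (Cfsg.thompsonSubgroup p K)
    exact (h.trans (Dvd.intro _ h1)).trans (Subgroup.card_subgroup_dvd_card _)
  haveI := holV_normal (omZ p K)
  have hXV : X' ≤ Subgroup.normalizer
      ((holV (omZ p K) : Subgroup (HolG (omZ p K))) : Set (HolG (omZ p K))) :=
    Subgroup.le_normalizer_of_normal
  exact ffop_plane hS hH1 X' hXJ hXV hXq hq'

end FFOp3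

end Cfsg.Agent.Lib.Helper5
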