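import Mathlib
import Cfsg.Agent.Lib.Helper5.FqA

set_option autoImplicit false

namespace Cfsg.Agent.Lib.Helper5.Fq

theorem nat_sq_mod (m k : ℕ) (hk : k < 2 ^ (m + 2)) (hk1 : 1 ≤ k) (h : 2 ^ (m + 2) ∣ k ^ 2 - 1) :
    k = 1 ∨ k = 2 ^ (m + 1) + 1 ∨ k = 2 ^ (m + 1) - 1 ∨ k = 2 ^ (m + 2) - 1 := by
  have hodd : k % 2 = 1 := by
    by_contra hne
    have hev : k % 2 = 0 := by omega
    have h2 : 2 ∣ k ^ 2 - 1 := dvd_trans (dvd_pow_self 2 (by omega)) h
    have h3 : 2 ∣ k ^ 2 := by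
      have : 2 ∣ k := Nat.dvd_of_mod_eq_zero hev
      exact dvd_pow this (by norm_num)
    have h4 : 1 ≤ k ^ 2 := Nat.one_le_pow _ _ hk1
    omega
  obtain ⟨j, rfl⟩ : ∃ j, k = 2 * j + 1 := ⟨k / 2, by omega⟩
  have he : (2 * j + 1) ^ 2 - 1 = 4 * (j * (j + 1)) := by
    have : (2 * j + 1) ^ 2 = 4 * (j * (j + 1)) + 1 := by ring
    omega
  rw [he] at h
  have hp : (2 : ℕ) ^ (m + 2) = 4 * 2 ^ m := by ring
  have hp1 : (2 : ℕ) ^ (m + 1) = 2 * 2 ^ m := by ring
  rw [hp] at h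
  have h5 : 2 ^ m ∣ j * (j + 1) := Nat.dvd_of_mul_dvd_mul_left (by norm_num) h
  have hpos : 0 < 2 ^ m := Nat.pos_of_ne_zero (by positivity)
  rw [hp] at hk
  rcases Nat.even_or_odd j with hj | hj
  · have hc : Nat.Coprime (2 ^ m) (j + 1) := by
      apply Nat.Coprime.pow_left
      exact Nat.coprime_two_left.mpr hj.add_one
    have h6 : 2 ^ m ∣ j := hc.dvd_of_dvd_mul_right h5
    obtain ⟨t, ht⟩ := h6
    have ht2 : t < 2 := by
      by_contra hge
      have : 2 ^ m * 2 ≤ 2 ^ m * t := Nat.mul_le_mul_left _ (by omega)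
      omega
    interval_cases t
    · left; omega
    · right; left; omega
  · have hc : Nat.Coprime (2 ^ m) j := by
      apply Nat.Coprime.pow_left
      exact Nat.coprime_two_left.mpr hj
    have h6 : 2 ^ m ∣ j + 1 := hc.dvd_of_dvd_mul_left h5
    obtain ⟨t, ht⟩ := h6
    have ht2 : t < 3 := by
      by_contra hge
      have : 2 ^ m * 3 ≤ 2 ^ m * t := Nat.mul_le_mul_left _ (by omega)
      omega
    have ht0 : t ≠ 0 := by
      rintro rfl
      simp at ht
    have ht12 : t = 1 ∨ t = 2 := by omega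
    rcases ht12 with rfl | rfl
    · right; right; left; omega
    · right; right; right; omega

theorem card_units_sq_le (N n : ℕ) (hN : N = 2 ^ n) :
    Nat.card {u : (ZMod N)ˣ | u ^ 2 = 1} ≤ 4 := by
  subst hN
  by_cases hn : n < 2
  · have h1 : Nat.card {u : (ZMod (2 ^ n))ˣ | u ^ 2 = 1} ≤ Nat.card (ZMod (2 ^ n))ˣ :=
      Nat.card_le_card_of_injective _ Subtype.val_injective
    haveI : NeZero (2 ^ n) := ⟨by positivity⟩
    have h2 : Nat.card (ZMod (2 ^ n))ˣ = Nat.totient (2 ^ n) := by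
      rw [Nat.card_eq_fintype_card, ZMod.card_units_eq_totient]
    have h3 : Nat.totient (2 ^ n) ≤ 2 ^ n := Nat.totient_le _
    have h4 : 2 ^ n ≤ 2 ^ 1 := Nat.pow_le_pow_right (by norm_num) (by omega)
    omega
  · obtain ⟨m, rfl⟩ : ∃ m, n = m + 2 := ⟨n - 2, by omega⟩
    haveI : NeZero (2 ^ (m + 2)) := ⟨by positivity⟩
    set S : Finset ℕ := {1, 2 ^ (m + 1) + 1, 2 ^ (m + 1) - 1, 2 ^ (m + 2) - 1} with hS
    have hf : ∀ u : {u : (ZMod (2 ^ (m + 2)))ˣ | u ^ 2 = 1},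
        ((u : (ZMod (2 ^ (m + 2)))ˣ) : ZMod (2 ^ (m + 2))).val ∈ S := by
      rintro ⟨u, hu⟩
      have hu' : u ^ 2 = 1 := hu
      set k := ((u : (ZMod (2 ^ (m + 2)))ˣ) : ZMod (2 ^ (m + 2))).val with hk
      have hklt : k < 2 ^ (m + 2) := ZMod.val_lt _
      have hcast : ((k : ℕ) : ZMod (2 ^ (m + 2))) = (u : ZMod (2 ^ (m + 2))) := ZMod.natCast_zmod_val _
      have hsq : (((k ^ 2 : ℕ)) : ZMod (2 ^ (m + 2))) = ((1 : ℕ) : ZMod (2 ^ (m + 2))) := by
        push_cast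
        rw [hcast]
        have := congrArg (fun w : (ZMod (2 ^ (m + 2)))ˣ => (w : ZMod (2 ^ (m + 2)))) hu'
        simpa using this
      have hk1 : 1 ≤ k := by
        by_contra h0
        have hk0 : k = 0 := by omega
        have h4 : (2 : ℕ) ^ (m + 2) ≥ 4 := by
          calc (2 : ℕ) ^ (m + 2) = 4 * 2 ^ m := by ring
            _ ≥ 4 * 1 := Nat.mul_le_mul_left _ (Nat.one_le_two_pow)
        haveI : Fact (1 < (2 : ℕ) ^ (m + 2)) := ⟨by omega⟩
        have hu0 : (u : ZMod (2 ^ (m + 2))) = 0 := (ZMod.val_eq_zero _).mp hk0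
        exact u.ne_zero hu0
      have hdvd : 2 ^ (m + 2) ∣ k ^ 2 - 1 := by
        have := (ZMod.natCast_eq_natCast_iff _ _ _).mp hsq
        exact (Nat.modEq_iff_dvd' (Nat.one_le_pow _ _ hk1)).mp this.symm
      have := nat_sq_mod m k hklt hk1 hdvd
      rw [hS]
      simp only [Finset.mem_insert, Finset.mem_singleton]
      exact this
    let f : {u : (ZMod (2 ^ (m + 2)))ˣ | u ^ 2 = 1} → S := fun u => ⟨_, hf u⟩
    have hinj : Function.Injective f := by
      intro u v huv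
      have h1 : ((u : (ZMod (2 ^ (m + 2)))ˣ) : ZMod (2 ^ (m + 2))).val
          = ((v : (ZMod (2 ^ (m + 2)))ˣ) : ZMod (2 ^ (m + 2))).val := congrArg Subtype.val huv
      have h2 := ZMod.val_injective _ h1
      exact Subtype.ext (Units.ext h2)
    have h1 := Nat.card_le_card_of_injective f hinj
    have h2 : Nat.card S ≤ 4 := by
      rw [Nat.card_eq_fintype_card, Fintype.card_coe, hS]
      exact Finset.card_le_four
    omega

end Cfsg.Agent.Lib.Helper5.Fq
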