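import Mathlib
import Cfsg.Agent.Lib.Helper5.FqB

set_option autoImplicit false

namespace Cfsg.Agent.Lib.Helper5.Fq

theorem cyclic_self_centralizing {X : Type*} [Group X] [Finite X] (hX : IsPGroup 2 X)
    (A : Subgroup X) [hAn : A.Normal] [hAc : IsCyclic A]
    (hCA : Subgroup.centralizer (A : Set X) ≤ A) :
    (frattini X).index ≤ 8 ∧ (frattini X).index ≤ 2 * A.index ∧
      A.index ≤ Nat.totient (Nat.card A) := by
  haveI : Fact (Nat.Prime 2) := ⟨Nat.prime_two⟩
  set c : X →* MulAut A := MulAut.conjNormal with hc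
  have hker : ∀ x, c x = 1 → x ∈ A := by
    intro x hx
    apply hCA
    rw [Subgroup.mem_centralizer_iff]
    intro a ha
    have h1 := congrArg (fun f : MulAut A => ((f ⟨a, ha⟩ : A) : X)) hx
    simp only [hc, MulAut.conjNormal_apply, MulAut.one_apply] at h1
    exact (mul_inv_eq_iff_eq_mul.mp h1).symm
  have hcommA : ∀ a b : A, a * b = b * a := by
    obtain ⟨g, hg⟩ := hAc.exists_generator
    intro a b
    obtain ⟨i, rfl⟩ := Subgroup.mem_zpowers_iff.mp (hg a)
    obtain ⟨j, rfl⟩ := Subgroup.mem_zpowers_iff.mp (hg b)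
    rw [← zpow_add, ← zpow_add, add_comm]
  have hAle : ∀ a ∈ A, c a = 1 := by
    intro a ha
    ext b
    simp only [hc, MulAut.conjNormal_apply, MulAut.one_apply]
    have := hcommA ⟨a, ha⟩ b
    have h2 : a * (b : X) = (b : X) * a := congrArg Subtype.val this
    rw [h2]
    group
  have hAker : A ≤ c.ker := fun a ha => MonoidHom.mem_ker.mpr (hAle a ha)
  set ι : X ⧸ A →* MulAut A := QuotientGroup.lift A c hAker with hι
  have hιinj : Function.Injective ι := by
    rw [injective_iff_map_eq_one]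
    intro y hy
    obtain ⟨x, rfl⟩ := QuotientGroup.mk'_surjective A y
    have : c x = 1 := by
      rw [hι, QuotientGroup.mk'_apply, QuotientGroup.lift_mk] at hy
      exact hy
    exact (QuotientGroup.eq_one_iff x).mpr (hker x this)
  set e := IsCyclic.mulAutMulEquiv A with he
  set j : X ⧸ A →* (ZMod (Nat.card A))ˣ := e.toMonoidHom.comp ι with hj
  have hjinj : Function.Injective j := by
    rw [hj]
    exact e.injective.comp hιinj
  have hcommQ : ∀ a b : X ⧸ A, a * b = b * a := by
    intro a b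
    apply hjinj
    rw [map_mul, map_mul, mul_comm]
  have hQ : IsPGroup 2 (X ⧸ A) := hX.to_quotient A
  obtain ⟨n, hn⟩ := (IsPGroup.iff_card).mp (hX.to_subgroup A)
  have h4 : Nat.card {y : X ⧸ A | y ^ 2 = 1} ≤ 4 := by
    have hf : ∀ y : {y : X ⧸ A | y ^ 2 = 1}, j y ∈ {u : (ZMod (Nat.card A))ˣ | u ^ 2 = 1} := by
      rintro ⟨y, hy⟩
      have hy' : y ^ 2 = 1 := hy
      show (j y) ^ 2 = 1
      rw [← map_pow, hy', map_one]
    have hinj : Function.Injective
        (fun y : {y : X ⧸ A | y ^ 2 = 1} => (⟨j y, hf y⟩ : {u : (ZMod (Nat.card A))ˣ | u ^ 2 = 1})) := by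
      intro y1 y2 h
      have := congrArg Subtype.val h
      exact Subtype.ext (hjinj this)
    have h1 := Nat.card_le_card_of_injective _ hinj
    have h2 := card_units_sq_le (Nat.card A) n hn
    exact le_trans h1 h2
  have h5 : (frattini (X ⧸ A)).index ≤ 4 :=
    le_trans (frattini_index_le_sq_card hcommQ hQ) h4
  have h6 : (frattini (X ⧸ A)).index ≤ A.index := by
    have := frattini_index_le_card (X := X ⧸ A)
    rwa [← Subgroup.index_eq_card] at this
  have h7 : (frattini A).index ≤ 2 := frattini_index_le_of_isCyclic 2 (hX.to_subgroup A)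
  have h8 := frattini_index_le_mul 2 hX A
  refine ⟨?_, ?_, ?_⟩
  · calc (frattini X).index ≤ (frattini (X ⧸ A)).index * (frattini A).index := h8
      _ ≤ 4 * 2 := Nat.mul_le_mul h5 h7
  · calc (frattini X).index ≤ (frattini (X ⧸ A)).index * (frattini A).index := h8
      _ ≤ A.index * 2 := Nat.mul_le_mul h6 h7
      _ = 2 * A.index := mul_comm _ _
  · rw [Subgroup.index_eq_card, ← IsCyclic.card_mulAut A]
    exact Nat.card_le_card_of_injective ι hιinj

end Cfsg.Agent.Lib.Helper5.Fq
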