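import Mathlib
import Cfsg.Agent.Lib.Helper5.FqC

set_option autoImplicit false

namespace Cfsg.Agent.Lib.Helper5.Fq

universe u

variable {V : Type u} [CommGroup V] {X : Type u} [Group X]

def resAutW (φ : X →* MulAut V) (W : Subgroup V) (hW : ∀ x : X, ∀ w ∈ W, φ x w ∈ W) (x : X) :
    MulAut W where
  toFun w := ⟨φ x w, hW x w w.2⟩
  invFun w := ⟨φ x⁻¹ w, hW x⁻¹ w w.2⟩
  left_inv w := by
    apply Subtype.ext
    show φ x⁻¹ (φ x w) = w
    rw [← MulAut.mul_apply, ← map_mul, inv_mul_cancel, map_one, MulAut.one_apply]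
  right_inv w := by
    apply Subtype.ext
    show φ x (φ x⁻¹ w) = w
    rw [← MulAut.mul_apply, ← map_mul, mul_inv_cancel, map_one, MulAut.one_apply]
  map_mul' a b := by
    apply Subtype.ext
    show φ x ((a : V) * (b : V)) = φ x a * φ x b
    exact map_mul _ _ _

def resHomW (φ : X →* MulAut V) (W : Subgroup V) (hW : ∀ x : X, ∀ w ∈ W, φ x w ∈ W) :
    X →* MulAut W where
  toFun := resAutW φ W hW
  map_one' := by
    ext w
    show φ 1 (w : V) = w
    rw [map_one, MulAut.one_apply]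
  map_mul' a b := by
    ext w
    show φ (a * b) (w : V) = φ a (φ b w)
    rw [map_mul, MulAut.mul_apply]

theorem resHomW_apply (φ : X →* MulAut V) (W : Subgroup V) (hW : ∀ x : X, ∀ w ∈ W, φ x w ∈ W)
    (x : X) (w : W) : ((resHomW φ W hW x w : W) : V) = φ x w := rfl

theorem map_eq_of_inv (φ : X →* MulAut V) (W : Subgroup V) (hW : ∀ x : X, ∀ w ∈ W, φ x w ∈ W)
    (x : X) : W.map ((φ x : V ≃* V) : V →* V) = W := by
  apply le_antisymm
  · rintro _ ⟨w, hw, rfl⟩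
    exact hW x w hw
  · intro w hw
    refine ⟨φ x⁻¹ w, hW x⁻¹ w hw, ?_⟩
    show φ x (φ x⁻¹ w) = w
    rw [← MulAut.mul_apply, ← map_mul, mul_inv_cancel, map_one, MulAut.one_apply]

noncomputable def quotHomW (φ : X →* MulAut V) (W : Subgroup V)
    (hW : ∀ x : X, ∀ w ∈ W, φ x w ∈ W) : X →* MulAut (V ⧸ W) where
  toFun x := QuotientGroup.congr W W (φ x) (map_eq_of_inv φ W hW x)
  map_one' := by
    ext v
    obtain ⟨v, rfl⟩ := QuotientGroup.mk'_surjective W v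
    simp [QuotientGroup.congr_mk]
  map_mul' a b := by
    ext v
    obtain ⟨v, rfl⟩ := QuotientGroup.mk'_surjective W v
    simp [QuotientGroup.congr_mk]

theorem quotHomW_mk (φ : X →* MulAut V) (W : Subgroup V)
    (hW : ∀ x : X, ∀ w ∈ W, φ x w ∈ W) (x : X) (v : V) :
    quotHomW φ W hW x (v : V ⧸ W) = ((φ x v : V) : V ⧸ W) := by
  show QuotientGroup.congr W W (φ x) (map_eq_of_inv φ W hW x) (v : V ⧸ W) = _
  exact QuotientGroup.congr_mk _ _ _ _ _

theorem unipotent_trivial [Finite X] (q : ℕ) (hq2 : Odd q)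
    (φ : X →* MulAut V) (hX : IsPGroup 2 X) (hV : ∀ v : V, v ^ q = 1)
    (W : Subgroup V) (x : X) (h1 : ∀ w ∈ W, φ x w = w) (h2 : ∀ v : V, φ x v / v ∈ W) :
    φ x = 1 := by
  ext v
  rw [MulAut.one_apply]
  set w := φ x v / v with hw
  have hwW : w ∈ W := h2 v
  have hxv : φ x v = v * w := by rw [hw]; simp
  have hpow : ∀ n : ℕ, φ (x ^ n) v = v * w ^ n := by
    intro n
    induction n with
    | zero => simp
    | succ n ih =>
      rw [pow_succ', map_mul, MulAut.mul_apply, ih, map_mul, map_pow, h1 w hwW, hxv]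
      rw [pow_succ', mul_assoc]
  obtain ⟨k, hk⟩ := hX x
  have h3 := hpow (2 ^ k)
  rw [hk, map_one, MulAut.one_apply] at h3
  have h4 : w ^ (2 ^ k) = 1 := by
    have : v * w ^ (2 ^ k) = v * 1 := by rw [mul_one]; exact h3.symm
    exact mul_left_cancel this
  have h5 : w ^ q = 1 := hV w
  have h6 : orderOf w ∣ Nat.gcd (2 ^ k) q := Nat.dvd_gcd (orderOf_dvd_of_pow_eq_one h4) (orderOf_dvd_of_pow_eq_one h5)
  have h7 : Nat.gcd (2 ^ k) q = 1 := by
    apply Nat.Coprime.pow_left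
    exact Nat.coprime_two_left.mpr hq2
  rw [h7, Nat.dvd_one, orderOf_eq_one_iff] at h6
  rw [hxv, h6, mul_one]

theorem red_struct [Finite X] (q : ℕ) (hq2 : Odd q)
    (φ : X →* MulAut V) (hφ : Function.Injective φ) (hX : IsPGroup 2 X) (hV : ∀ v : V, v ^ q = 1)
    (W : Subgroup V) (hW : ∀ x : X, ∀ w ∈ W, φ x w ∈ W) :
    ∃ (K : Subgroup X) (_ : K.Normal), (∃ ψ1 : X ⧸ K →* MulAut W, Function.Injective ψ1) ∧
      (∃ ψ2 : K →* MulAut (V ⧸ W), Function.Injective ψ2) := by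
  refine ⟨(resHomW φ W hW).ker, inferInstance, ⟨QuotientGroup.kerLift (resHomW φ W hW),
    QuotientGroup.kerLift_injective _⟩, ⟨(quotHomW φ W hW).comp (resHomW φ W hW).ker.subtype, ?_⟩⟩
  rw [injective_iff_map_eq_one]
  rintro ⟨x, hx⟩ hx2
  have hx' : resHomW φ W hW x = 1 := MonoidHom.mem_ker.mp hx
  have hx2' : quotHomW φ W hW x = 1 := hx2
  have h1 : ∀ w ∈ W, φ x w = w := by
    intro w hw
    have := congrArg (fun f : MulAut W => ((f ⟨w, hw⟩ : W) : V)) hx'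
    simpa [resHomW_apply] using this
  have h2 : ∀ v : V, φ x v / v ∈ W := by
    intro v
    have := congrArg (fun f : MulAut (V ⧸ W) => f (v : V ⧸ W)) hx2'
    simp only [quotHomW_mk, MulAut.one_apply] at this
    have h3 := QuotientGroup.eq.mp this
    have h4 : φ x v / v = ((φ x v)⁻¹ * v)⁻¹ := by simp [div_eq_mul_inv, mul_comm]
    rw [h4]
    exact W.inv_mem h3
  have h5 := unipotent_trivial q hq2 φ hX hV W x h1 h2
  have h6 : x = 1 := hφ (by rw [h5, map_one])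
  exact Subtype.ext h6

theorem red_bound {V X : Type u} [CommGroup V] [Finite V] [Group X] [Finite X] (q : ℕ) (hq2 : Odd q)
    (φ : X →* MulAut V) (hφ : Function.Injective φ) (hX : IsPGroup 2 X) (hV : ∀ v : V, v ^ q = 1)
    (W : Subgroup V) (hW : ∀ x : X, ∀ w ∈ W, φ x w ∈ W) (B1 B2 : ℕ)
    (h1 : ∀ (Y : Type u) [Group Y] [Finite Y] (ψ : Y →* MulAut W), Function.Injective ψ →
      IsPGroup 2 Y → (frattini Y).index ≤ B1)
    (h2 : ∀ (Y : Type u) [Group Y] [Finite Y] (ψ : Y →* MulAut (V ⧸ W)), Function.Injective ψ →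
      IsPGroup 2 Y → (frattini Y).index ≤ B2) :
    (frattini X).index ≤ B1 * B2 := by
  haveI : Fact (Nat.Prime 2) := ⟨Nat.prime_two⟩
  obtain ⟨K, hK, ⟨ψ1, hψ1⟩, ⟨ψ2, hψ2⟩⟩ := red_struct q hq2 φ hφ hX hV W hW
  have a1 := h1 (X ⧸ K) ψ1 hψ1 (hX.to_quotient K)
  have a2 := h2 K ψ2 hψ2 (hX.to_subgroup K)
  exact le_trans (frattini_index_le_mul 2 hX K) (Nat.mul_le_mul a1 a2)

theorem red_card {V X : Type u} [CommGroup V] [Finite V] [Group X] [Finite X] (q : ℕ) (hq2 : Odd q)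
    (φ : X →* MulAut V) (hφ : Function.Injective φ) (hX : IsPGroup 2 X) (hV : ∀ v : V, v ^ q = 1)
    (W : Subgroup V) (hW : ∀ x : X, ∀ w ∈ W, φ x w ∈ W) :
    Nat.card X ≤ Nat.card (MulAut W) * Nat.card (MulAut (V ⧸ W)) := by
  obtain ⟨K, hK, ⟨ψ1, hψ1⟩, ⟨ψ2, hψ2⟩⟩ := red_struct q hq2 φ hφ hX hV W hW
  have a1 := Nat.card_le_card_of_injective ψ1 hψ1
  have a2 := Nat.card_le_card_of_injective ψ2 hψ2
  rw [Subgroup.card_eq_card_quotient_mul_card_subgroup K]
  exact Nat.mul_le_mul a1 a2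

end Cfsg.Agent.Lib.Helper5.Fq
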