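import Mathlib
import Cfsg.Agent.Lib.Helper5.FqD
import Cfsg.Agent.Lib.helper17.PAct
import Cfsg.Agent.Lib.Helper19.UniqueInvolution

set_option autoImplicit false

namespace Cfsg.Agent.Lib.Helper5.Fq

universe u

variable {V : Type u} [CommGroup V] {X : Type u} [Group X]

theorem central_inv_inverts (φ : X →* MulAut V) (hφ : Function.Injective φ)
    (hirr : ∀ W : Subgroup V, (∀ x : X, ∀ w ∈ W, φ x w ∈ W) → W = ⊥ ∨ W = ⊤)
    (t : X) (htc : t ∈ Subgroup.center X) (ht2 : t ^ 2 = 1) (ht1 : t ≠ 1) :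
    ∀ v : V, φ t v = v⁻¹ := by
  let W : Subgroup V :=
    { carrier := {v | φ t v = v}
      mul_mem' := by
        intro a b ha hb
        show φ t (a * b) = a * b
        rw [map_mul, ha, hb]
      one_mem' := map_one _
      inv_mem' := by
        intro a ha
        show φ t a⁻¹ = a⁻¹
        rw [map_inv, ha] }
  have hWinv : ∀ x : X, ∀ w ∈ W, φ x w ∈ W := by
    intro x w hw
    show φ t (φ x w) = φ x w
    have hw' : φ t w = w := hw
    rw [← MulAut.mul_apply, ← map_mul, ← (Subgroup.mem_center_iff.mp htc x), map_mul, MulAut.mul_apply, hw']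
  have htt : ∀ v, φ t (φ t v) = v := by
    intro v
    rw [← MulAut.mul_apply, ← map_mul, ← pow_two, ht2, map_one, MulAut.one_apply]
  rcases hirr W hWinv with h | h
  · intro v
    have hu : v * φ t v ∈ W := by
      show φ t (v * φ t v) = v * φ t v
      rw [map_mul, htt, mul_comm]
    rw [h, Subgroup.mem_bot] at hu
    exact (eq_inv_of_mul_eq_one_right hu)
  · exfalso
    apply ht1
    apply hφ
    rw [map_one]
    ext v
    have : v ∈ W := by rw [h]; exact Subgroup.mem_top v
    exact this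

theorem central_inv_unique (φ : X →* MulAut V) (hφ : Function.Injective φ)
    (hirr : ∀ W : Subgroup V, (∀ x : X, ∀ w ∈ W, φ x w ∈ W) → W = ⊥ ∨ W = ⊤)
    (t t' : X) (htc : t ∈ Subgroup.center X) (ht2 : t ^ 2 = 1) (ht1 : t ≠ 1)
    (htc' : t' ∈ Subgroup.center X) (ht2' : t' ^ 2 = 1) (ht1' : t' ≠ 1) : t = t' := by
  apply hφ
  ext v
  rw [central_inv_inverts φ hφ hirr t htc ht2 ht1, central_inv_inverts φ hφ hirr t' htc' ht2' ht1']

theorem exists_central_inv [Finite X] [Nontrivial X] (hX : IsPGroup 2 X) :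
    ∃ z : X, z ∈ Subgroup.center X ∧ z ^ 2 = 1 ∧ z ≠ 1 := by
  haveI : Fact (Nat.Prime 2) := ⟨Nat.prime_two⟩
  haveI := hX.center_nontrivial
  have h2 : 2 ∣ Nat.card (Subgroup.center X) := by
    obtain ⟨n, hn⟩ := (IsPGroup.iff_card).mp (hX.to_subgroup (Subgroup.center X))
    have h1 : 1 < Nat.card (Subgroup.center X) := Finite.one_lt_card
    rw [hn] at h1 ⊢
    have : n ≠ 0 := by
      rintro rfl
      simp at h1
    exact dvd_pow_self 2 this
  obtain ⟨g, hg⟩ := exists_prime_orderOf_dvd_card' 2 h2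
  refine ⟨g, g.2, ?_, ?_⟩
  · have := pow_orderOf_eq_one g
    rw [hg] at this
    exact_mod_cast congrArg Subtype.val this
  · intro h
    have h1 : g = 1 := Subtype.ext h
    rw [h1, orderOf_one] at hg
    omega

theorem exists_noncentral_inv [Finite X] (hX : IsPGroup 2 X)
    (huniq : ∀ t t' : X, t ∈ Subgroup.center X → t ^ 2 = 1 → t ≠ 1 →
      t' ∈ Subgroup.center X → t' ^ 2 = 1 → t' ≠ 1 → t = t')
    (A : Subgroup X) [hAn : A.Normal] (hAc : ∀ a ∈ A, ∀ b ∈ A, a * b = b * a)
    (hncyc : ¬ IsCyclic A) :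
    ∃ e z : X, z ∈ Subgroup.center X ∧ z ^ 2 = 1 ∧ z ≠ 1 ∧ e ^ 2 = 1 ∧ e ∉ Subgroup.center X ∧
      ∀ x : X, x * e * x⁻¹ = e ∨ x * e * x⁻¹ = e * z := by
  haveI : Fact (Nat.Prime 2) := ⟨Nat.prime_two⟩
  haveI : Nontrivial X := by
    by_contra hnt
    rw [not_nontrivial_iff_subsingleton] at hnt
    apply hncyc
    haveI : Subsingleton A := inferInstance
    exact isCyclic_of_subsingleton
  obtain ⟨z, hzc, hz2, hz1⟩ := exists_central_inv hX
  let Ω : Subgroup X :=
    { carrier := {a | a ∈ A ∧ a ^ 2 = 1}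
      mul_mem' := by
        rintro a b ⟨ha, ha2⟩ ⟨hb, hb2⟩
        refine ⟨A.mul_mem ha hb, ?_⟩
        rw [(Commute.mul_pow (hAc a ha b hb) 2), ha2, hb2, one_mul]
      one_mem' := ⟨A.one_mem, one_pow 2⟩
      inv_mem' := by
        rintro a ⟨ha, ha2⟩
        exact ⟨A.inv_mem ha, by rw [inv_pow, ha2, inv_one]⟩ }
  haveI hΩn : Ω.Normal := by
    constructor
    rintro a ⟨ha, ha2⟩ g
    refine ⟨hAn.conj_mem a ha g, ?_⟩
    rw [conj_pow, ha2, mul_one, mul_inv_cancel]
  have hΩne : Ω ≠ ⊥ := by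
    intro hbot
    apply hncyc
    have : ∀ a ∈ A, a ^ 2 = 1 → a = 1 := by
      intro a ha ha2
      have : a ∈ Ω := ⟨ha, ha2⟩
      rw [hbot, Subgroup.mem_bot] at this
      exact this
    have hA1 : A = ⊥ := by
      rw [eq_bot_iff]
      intro a ha
      by_contra hne
      have hne' : a ≠ 1 := fun h => hne (by rw [h]; exact Subgroup.mem_bot.mpr rfl)
      obtain ⟨k, hk⟩ := (IsPGroup.iff_orderOf.mp hX) a
      have hk0 : k ≠ 0 := by
        rintro rfl
        rw [pow_zero, orderOf_eq_one_iff] at hk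
        exact hne' hk
      obtain ⟨m, rfl⟩ : ∃ m, k = m + 1 := ⟨k - 1, by omega⟩
      have h1 : (a ^ (2 ^ m)) ^ 2 = 1 := by
        rw [← pow_mul, ← pow_succ, ← hk, pow_orderOf_eq_one]
      have h2 := this (a ^ 2 ^ m) (A.pow_mem ha _) h1
      have h3 := orderOf_dvd_of_pow_eq_one h2
      rw [hk] at h3
      have h4 := Nat.le_of_dvd (by positivity) h3
      have : 2 ^ m < 2 ^ (m + 1) := Nat.pow_lt_pow_right (by norm_num) (by omega)
      omega
    rw [hA1]
    exact isCyclic_of_subsingleton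
  haveI : Group.IsNilpotent X := hX.isNilpotent
  have hzΩ : z ∈ Ω := by
    have h1 := Cfsg.Agent.Lib.helper17.nilpotent_normal_inf_center_ne_bot Ω hΩne
    obtain ⟨t, ht', ht1'⟩ := (Subgroup.bot_or_exists_ne_one _).resolve_left h1
    have := huniq t z ht'.2 ht'.1.2 ht1' hzc hz2 hz1
    rw [← this]
    exact ht'.1
  have hzpow : ∀ g : X, g ∈ Subgroup.zpowers z → g = 1 ∨ g = z := by
    intro g hg
    obtain ⟨k, rfl⟩ := Subgroup.mem_zpowers_iff.mp hg
    rcases Int.emod_two_eq_zero_or_one k with hk | hk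
    · left
      have : k = 2 * (k / 2) := by omega
      rw [this, zpow_mul, zpow_ofNat, hz2, one_zpow]
    · right
      have : k = 2 * (k / 2) + 1 := by omega
      rw [this, zpow_add, zpow_mul, zpow_ofNat, hz2, one_zpow, one_mul, zpow_one]
  obtain ⟨u, huA, hu2, hu1, huz⟩ : ∃ u ∈ A, u ^ 2 = 1 ∧ u ≠ 1 ∧ u ≠ z := by
    by_contra hcon
    push Not at hcon
    apply hncyc
    have hP : IsPGroup 2 A := hX.to_subgroup A
    have h1 := Cfsg.Agent.Lib.Helper19.cyclic_of_comm_unique_involution hP ⟨z, hzΩ.1⟩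
      (by
        intro w hw
        by_cases hw1 : w = 1
        · left; exact hw1
        · right
          have hw2 : (w : X) ^ 2 = 1 := by
            rw [pow_two]
            exact_mod_cast congrArg Subtype.val hw
          have := hcon w w.2 hw2 (fun h => hw1 (Subtype.ext h))
          exact Subtype.ext this)
      ⊤ (by
        intro a _ b _
        exact Subtype.ext (hAc a a.2 b b.2))
    obtain ⟨a, _, ha⟩ := h1
    exact isCyclic_iff_exists_zpowers_eq_top.mpr ⟨a, ha.symm⟩
  haveI hZn : (Subgroup.zpowers z).Normal := by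
    constructor
    intro n hn g
    have hnc : n ∈ Subgroup.center X := by
      rcases hzpow n hn with rfl | rfl
      · exact Subgroup.one_mem _
      · exact hzc
    rw [(Subgroup.mem_center_iff.mp hnc g), mul_inv_cancel_right]
    exact hn
  set π := QuotientGroup.mk' (Subgroup.zpowers z) with hπ
  have hπs : Function.Surjective π := QuotientGroup.mk'_surjective _
  haveI : (Ω.map π).Normal := Subgroup.Normal.map hΩn π hπs
  have huΩ : u ∈ Ω := ⟨huA, hu2⟩
  have hne : Ω.map π ≠ ⊥ := by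
    intro hbot
    have : π u ∈ Ω.map π := ⟨u, huΩ, rfl⟩
    rw [hbot, Subgroup.mem_bot] at this
    have h3 : u ∈ Subgroup.zpowers z := (QuotientGroup.eq_one_iff u).mp this
    rcases hzpow u h3 with h | h
    · exact hu1 h
    · exact huz h
  haveI : Group.IsNilpotent (X ⧸ Subgroup.zpowers z) := (hX.to_quotient _).isNilpotent
  have h1 := Cfsg.Agent.Lib.helper17.nilpotent_normal_inf_center_ne_bot (Ω.map π) hne
  obtain ⟨t, ht', ht1'⟩ := (Subgroup.bot_or_exists_ne_one _).resolve_left h1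
  obtain ⟨e, heΩ, het⟩ := ht'.1
  have hecen : π e ∈ Subgroup.center (X ⧸ Subgroup.zpowers z) := by rw [het]; exact ht'.2
  have he1 : π e ≠ 1 := by rw [het]; exact ht1'
  refine ⟨e, z, hzc, hz2, hz1, heΩ.2, ?_, ?_⟩
  · intro hec
    have hene : e ≠ 1 := by
      rintro rfl
      exact he1 (map_one π)
    have := huniq e z hec heΩ.2 hene hzc hz2 hz1
    apply he1
    rw [this]
    exact (QuotientGroup.eq_one_iff z).mpr (Subgroup.mem_zpowers z)
  · intro x
    have h2 : π (x * e * x⁻¹ * e⁻¹) = 1 := by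
      rw [map_mul, map_mul, map_mul, map_inv, map_inv]
      rw [(Subgroup.mem_center_iff.mp hecen (π x))]
      group
    have h3 : x * e * x⁻¹ * e⁻¹ ∈ Subgroup.zpowers z := (QuotientGroup.eq_one_iff _).mp h2
    rcases hzpow _ h3 with h | h
    · left
      exact mul_inv_eq_one.mp h
    · right
      rw [mul_inv_eq_iff_eq_mul] at h
      rw [h]
      exact (Subgroup.mem_center_iff.mp hzc e).symm

end Cfsg.Agent.Lib.Helper5.Fq
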