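import Mathlib
import Cfsg.Agent.Lib.Helper5.FqE

set_option autoImplicit false

namespace Cfsg.Agent.Lib.Helper5.Fq

universe u

variable {V : Type u} [CommGroup V] {X : Type u} [Group X]

theorem four_struct [Finite V] [Finite X] (q : ℕ) (hq2 : Odd q) (hV : ∀ v : V, v ^ q = 1)
    (φ : X →* MulAut V)
    (e z : X) (hzc : z ∈ Subgroup.center X) (hz2 : z ^ 2 = 1) (hz1 : z ≠ 1)
    (hzinv : ∀ v, φ z v = v⁻¹)
    (he2 : e ^ 2 = 1) (hec : e ∉ Subgroup.center X)
    (hconj : ∀ x : X, x * e * x⁻¹ = e ∨ x * e * x⁻¹ = e * z) :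
    ∃ X0 : Subgroup X, X0.index = 2 ∧ ∃ W : Subgroup V, (∀ x ∈ X0, ∀ w ∈ W, φ x w ∈ W) ∧
      Nat.card W * Nat.card W = Nat.card V := by
  set X0 : Subgroup X := Subgroup.centralizer ({e} : Set X) with hX0
  have hmem : ∀ x : X, x ∈ X0 ↔ x * e * x⁻¹ = e := by
    intro x
    rw [hX0, Subgroup.mem_centralizer_iff]
    constructor
    · intro h
      have := h e rfl
      rw [← this, mul_inv_cancel_right]
    · intro h y hy
      rw [Set.mem_singleton_iff] at hy
      subst hy
      exact (mul_inv_eq_iff_eq_mul.mp h).symm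
  have hnot : ∀ x : X, x ∉ X0 → x * e * x⁻¹ = e * z := by
    intro x hx
    rcases hconj x with h | h
    · exact absurd ((hmem x).mpr h) hx
    · exact h
  have hzcomm : ∀ g : X, g * z = z * g := fun g => Subgroup.mem_center_iff.mp hzc g
  have hezne : e * z ≠ e := by
    intro h
    exact hz1 (mul_left_cancel (h.trans (mul_one e).symm))
  obtain ⟨a, ha⟩ : ∃ a : X, a ∉ X0 := by
    by_contra hall
    push Not at hall
    apply hec
    rw [Subgroup.mem_center_iff]
    intro g
    have := (hmem g).mp (hall g)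
    exact mul_inv_eq_iff_eq_mul.mp this
  have hconjmul : ∀ b c : X, (b * c) * e * (b * c)⁻¹ = b * (c * e * c⁻¹) * b⁻¹ := by
    intro b c
    group
  have hzz : z * z = 1 := by rw [← pow_two]; exact hz2
  have hidx : X0.index = 2 := by
    rw [Subgroup.index_eq_two_iff]
    refine ⟨a, fun b => ?_⟩
    by_cases hb : b ∈ X0
    · right
      refine ⟨hb, ?_⟩
      rw [hmem, hconjmul, hnot a ha]
      have h1 : b * (e * z) * b⁻¹ = (b * e * b⁻¹) * z := by
        rw [mul_assoc b (e * z), mul_assoc e z, ← hzcomm b⁻¹]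
        simp only [mul_assoc]
      rw [h1, (hmem b).mp hb]
      exact hezne
    · left
      refine ⟨?_, hb⟩
      rw [hmem, hconjmul, hnot a ha]
      have h1 : b * (e * z) * b⁻¹ = (b * e * b⁻¹) * z := by
        rw [mul_assoc b (e * z), mul_assoc e z, ← hzcomm b⁻¹]
        simp only [mul_assoc]
      rw [h1, hnot b hb, mul_assoc, hzz, mul_one]
  have hee : ∀ v, φ e (φ e v) = v := by
    intro v
    rw [← MulAut.mul_apply, ← map_mul, ← pow_two, he2, map_one, MulAut.one_apply]
  let W : Subgroup V :=
    { carrier := {v | φ e v = v}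
      mul_mem' := by
        intro a b ha hb
        show φ e (a * b) = a * b
        rw [map_mul, ha, hb]
      one_mem' := map_one _
      inv_mem' := by
        intro a ha
        show φ e a⁻¹ = a⁻¹
        rw [map_inv, ha] }
  let W' : Subgroup V :=
    { carrier := {v | φ e v = v⁻¹}
      mul_mem' := by
        intro a b ha hb
        show φ e (a * b) = (a * b)⁻¹
        rw [map_mul, ha, hb, mul_inv]
      one_mem' := by
        show φ e 1 = 1⁻¹
        rw [map_one, inv_one]
      inv_mem' := by
        intro a ha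
        show φ e a⁻¹ = a⁻¹⁻¹
        rw [map_inv, ha] }
  have hWinv : ∀ x ∈ X0, ∀ w ∈ W, φ x w ∈ W := by
    intro x hx w hw
    have hw' : φ e w = w := hw
    show φ e (φ x w) = φ x w
    have hxe : e * x = x * e := by
      have := (hmem x).mp hx
      exact (mul_inv_eq_iff_eq_mul.mp this).symm
    rw [← MulAut.mul_apply, ← map_mul, hxe, map_mul, MulAut.mul_apply, hw']
  have hea : e * a = a * e * z := by
    have ha' : a⁻¹ ∉ X0 := fun h => ha (by simpa using X0.inv_mem h)
    have := hnot a⁻¹ ha'
    rw [inv_inv] at this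
    rw [mul_assoc a, ← this]
    group
  have hφea : ∀ v, φ e (φ a v) = φ a (φ e v⁻¹) := by
    intro v
    rw [← MulAut.mul_apply, ← map_mul, hea, map_mul, map_mul, MulAut.mul_apply, MulAut.mul_apply, hzinv]
  have hcard1 : Nat.card W ≤ Nat.card W' := by
    have hf : ∀ w : W, φ a w ∈ W' := by
      intro w
      have hw : φ e (w : V) = w := w.2
      show φ e (φ a w) = (φ a w)⁻¹
      rw [hφea, map_inv, hw, map_inv]
    apply Nat.card_le_card_of_injective (fun w : W => (⟨φ a w, hf w⟩ : W'))
    intro w1 w2 h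
    have := congrArg Subtype.val h
    exact Subtype.ext ((φ a).injective this)
  have hcard2 : Nat.card W' ≤ Nat.card W := by
    have hf : ∀ w : W', φ a w ∈ W := by
      intro w
      have hw : φ e (w : V) = (w : V)⁻¹ := w.2
      show φ e (φ a w) = φ a w
      rw [hφea, map_inv, hw, inv_inv]
    apply Nat.card_le_card_of_injective (fun w : W' => (⟨φ a w, hf w⟩ : W))
    intro w1 w2 h
    have := congrArg Subtype.val h
    exact Subtype.ext ((φ a).injective this)
  set θ : V →* V := MonoidHom.mk' (fun v => v * φ e v) (by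
    intro a b
    show a * b * φ e (a * b) = a * φ e a * (b * φ e b)
    rw [map_mul]
    exact mul_mul_mul_comm a b _ _) with hθ
  have hker : Nat.card θ.ker = Nat.card W' := by
    apply Nat.card_congr
    refine Equiv.subtypeEquivRight ?_
    intro v
    rw [MonoidHom.mem_ker]
    show v * φ e v = 1 ↔ φ e v = v⁻¹
    constructor
    · intro h
      exact eq_inv_of_mul_eq_one_right h
    · intro h
      rw [h, mul_inv_cancel]
  have hrange : Nat.card θ.range = Nat.card W := by
    apply Nat.card_congr
    refine Equiv.subtypeEquivRight ?_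
    intro v
    constructor
    · rintro ⟨u, rfl⟩
      show φ e (u * φ e u) = u * φ e u
      rw [map_mul, hee, mul_comm]
    · intro hv
      have hv' : φ e v = v := hv
      obtain ⟨k, hk⟩ := hq2
      refine ⟨v ^ (k + 1), ?_⟩
      show v ^ (k + 1) * φ e (v ^ (k + 1)) = v
      rw [map_pow, hv', ← pow_add]
      have : k + 1 + (k + 1) = q + 1 := by omega
      rw [this, pow_succ, hV, one_mul]
  have h1 := Subgroup.card_mul_index θ.ker
  have h2 : θ.ker.index = Nat.card θ.range := Subgroup.index_ker θ
  rw [h2, hker, hrange] at h1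
  refine ⟨X0, hidx, W, hWinv, ?_⟩
  have : Nat.card W' = Nat.card W := le_antisymm hcard2 hcard1
  rw [this] at h1
  exact h1

end Cfsg.Agent.Lib.Helper5.Fq
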