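import Mathlib
import Cfsg.Agent.Lib.Helper5.FqF
import Cfsg.Agent.Lib.Helper11.SelfCentralizing

set_option autoImplicit false

namespace Cfsg.Agent.Lib.Helper5.Fq

universe u

def BoundAt (q B d : ℕ) : Prop :=
  ∀ (V : Type u) [CommGroup V] [Finite V] (X : Type u) [Group X] [Finite X] (φ : X →* MulAut V),
    Function.Injective φ → IsPGroup 2 X → (∀ v : V, v ^ q = 1) → Nat.card V = q ^ d →
    (frattini X).index ≤ B

def SpecialAt (q B : ℕ) : Prop :=
  ∀ (V : Type u) [CommGroup V] [Finite V] (X : Type u) [Group X] [Finite X] (φ : X →* MulAut V),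
    Function.Injective φ → IsPGroup 2 X → (∀ v : V, v ^ q = 1) → Nat.card V = q ^ 2 →
    (∀ W : Subgroup V, (∀ x : X, ∀ w ∈ W, φ x w ∈ W) → W = ⊥ ∨ W = ⊤) →
    (frattini X).index ≤ B

theorem card_sub_quot {V : Type u} [CommGroup V] [Finite V] (q d : ℕ) (hq : q.Prime)
    (hcard : Nat.card V = q ^ d) (W : Subgroup V) :
    ∃ a, a ≤ d ∧ Nat.card W = q ^ a ∧ Nat.card (V ⧸ W) = q ^ (d - a) := by
  have h1 : Nat.card W ∣ q ^ d := hcard ▸ Subgroup.card_subgroup_dvd_card W
  obtain ⟨a, ha, hWa⟩ := (Nat.dvd_prime_pow hq).mp h1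
  refine ⟨a, ha, hWa, ?_⟩
  have h2 := Subgroup.card_eq_card_quotient_mul_card_subgroup W
  rw [hcard, hWa] at h2
  have h3 : q ^ d = q ^ (d - a) * q ^ a := by rw [← pow_add]; congr 1; omega
  rw [h3] at h2
  exact (Nat.eq_of_mul_eq_mul_right (pow_pos hq.pos a) h2).symm

theorem bound_zero (q B : ℕ) (hB : 1 ≤ B) : BoundAt.{u} q B 0 := by
  intro V _ _ X _ _ φ hφ hX hV hcard
  rw [pow_zero] at hcard
  haveI : Subsingleton V := (Nat.card_eq_one_iff_unique.mp hcard).1
  haveI : Subsingleton (MulAut V) := ⟨fun a b => by ext v; exact Subsingleton.elim _ _⟩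
  haveI : Subsingleton X := hφ.subsingleton
  have : (frattini X).index ≤ Nat.card X := frattini_index_le_card
  rw [Nat.card_unique] at this
  omega

theorem bound_one (q B : ℕ) (hq : q.Prime) (hB : 2 ≤ B) : BoundAt.{u} q B 1 := by
  intro V _ _ X _ _ φ hφ hX hV hcard
  haveI : Fact (Nat.Prime 2) := ⟨Nat.prime_two⟩
  haveI : Fact q.Prime := ⟨hq⟩
  rw [pow_one] at hcard
  haveI : IsCyclic V := isCyclic_of_prime_card hcard
  have e := IsCyclic.mulAutMulEquiv V
  rw [hcard] at e
  haveI : IsCyclic (MulAut V) := isCyclic_of_injective e.toMonoidHom e.injective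
  haveI : IsCyclic X := isCyclic_of_injective φ hφ
  exact le_trans (frattini_index_le_of_isCyclic 2 hX) hB

theorem main_bound (q : ℕ) (hq : q.Prime) (hq2 : Odd q) (h : ℕ → ℕ)
    (h1 : 1 ≤ h 1)
    (hadd : ∀ a b, 1 ≤ a → 1 ≤ b → h a + h b ≤ h (a + b))
    (hdbl : ∀ m, 2 ≤ m → 2 * h m + 1 ≤ h (2 * m))
    (hthree : ∀ d, 3 ≤ d → 3 ≤ h d)
    (htwo : (2 * h 1 + 1 ≤ h 2 ∧ 3 ≤ h 2) ∨ SpecialAt.{u} q (2 ^ h 2)) :
    ∀ d, BoundAt.{u} q (2 ^ h d) d := by
  intro d
  induction d using Nat.strong_induction_on with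
  | _ d ih =>
  rcases Nat.lt_or_ge d 2 with hd | hd
  · interval_cases d
    · exact bound_zero q _ Nat.one_le_two_pow
    · apply bound_one q _ hq
      calc 2 = 2 ^ 1 := by norm_num
        _ ≤ 2 ^ h 1 := Nat.pow_le_pow_right (by norm_num) h1
  intro V _ _ X _ _ φ hφ hX hV hcard
  haveI : Fact (Nat.Prime 2) := ⟨Nat.prime_two⟩
  by_cases hred : ∃ W : Subgroup V, (∀ x : X, ∀ w ∈ W, φ x w ∈ W) ∧ W ≠ ⊥ ∧ W ≠ ⊤
  · obtain ⟨W, hW, hWb, hWt⟩ := hred
    obtain ⟨a, had, hWa, hQa⟩ := card_sub_quot q d hq hcard W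
    have ha0 : a ≠ 0 := by
      rintro rfl
      rw [pow_zero] at hWa
      exact hWb ((Subgroup.card_eq_one).mp hWa)
    have had' : a ≠ d := by
      rintro rfl
      apply hWt
      exact (Subgroup.card_eq_iff_eq_top W).mp (hWa.trans hcard.symm)
    have hb1 := red_bound q hq2 φ hφ hX hV W hW (2 ^ h a) (2 ^ h (d - a))
      (fun Y _ _ ψ hψ hY => ih a (by omega) W Y ψ hψ hY
        (fun w => Subtype.ext (by rw [Subgroup.coe_pow, hV]; rfl)) hWa)
      (fun Y _ _ ψ hψ hY => ih (d - a) (by omega) (V ⧸ W) Y ψ hψ hY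
        (fun v => by
          obtain ⟨v, rfl⟩ := QuotientGroup.mk'_surjective W v
          rw [← map_pow, hV, map_one]) hQa)
    refine le_trans hb1 ?_
    rw [← pow_add]
    apply Nat.pow_le_pow_right (by norm_num)
    have := hadd a (d - a) (by omega) (by omega)
    rwa [show a + (d - a) = d by omega] at this
  · have hirr : ∀ W : Subgroup V, (∀ x : X, ∀ w ∈ W, φ x w ∈ W) → W = ⊥ ∨ W = ⊤ := by
      intro W hW
      by_contra hcon
      push Not at hcon
      exact hred ⟨W, hW, hcon.1, hcon.2⟩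
    have hgen : (3 ≤ h d ∧ ∀ m, d = 2 * m → 2 * h m + 1 ≤ h d) ∨
        (d = 2 ∧ SpecialAt.{u} q (2 ^ h 2)) := by
      rcases Nat.lt_or_ge d 3 with hd3 | hd3
      · have hd2 : d = 2 := by omega
        subst hd2
        rcases htwo with ht | ht
        · left
          refine ⟨ht.2, fun m hm => ?_⟩
          have : m = 1 := by omega
          subst this
          exact ht.1
        · right
          exact ⟨rfl, ht⟩
      · left
        refine ⟨hthree d hd3, fun m hm => ?_⟩
        subst hm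
        exact hdbl m (by omega)
    rcases hgen with ⟨hd3, hdb⟩ | ⟨hd2, hsp⟩
    swap
    · subst hd2
      exact hsp V X φ hφ hX hV hcard hirr
    haveI : Group.IsNilpotent X := hX.isNilpotent
    obtain ⟨A, hAn, hAc, hAmax⟩ := Cfsg.Agent.Lib.Helper11.exists_maximal_normal_abelian (R := X)
    haveI := hAn
    by_cases hcyc : IsCyclic A
    · have hCA := Cfsg.Agent.Lib.Helper11.centralizer_le_of_maximal_normal_abelian A hAc hAmax
      have := (cyclic_self_centralizing hX A hCA).1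
      calc (frattini X).index ≤ 8 := this
        _ = 2 ^ 3 := by norm_num
        _ ≤ 2 ^ h d := Nat.pow_le_pow_right (by norm_num) hd3
    · have huniq := central_inv_unique φ hφ hirr
      have hAc' : ∀ a ∈ A, ∀ b ∈ A, a * b = b * a := by
        intro a ha b hb
        have := hAc.is_comm.comm ⟨a, ha⟩ ⟨b, hb⟩
        exact congrArg Subtype.val this
      obtain ⟨e, z, hzc, hz2, hz1, he2, hec, hconj⟩ := exists_noncentral_inv hX huniq A hAc' hcyc
      have hzinv := central_inv_inverts φ hφ hirr z hzc hz2 hz1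
      obtain ⟨X0, hidx, W, hWinv, hWcard⟩ :=
        four_struct q hq2 hV φ e z hzc hz2 hz1 hzinv he2 hec hconj
      obtain ⟨m, hmd, hWm, hQm⟩ := card_sub_quot q d hq hcard W
      have hdm : d = 2 * m := by
        rw [hWm, hcard, ← pow_add] at hWcard
        have := Nat.pow_right_injective hq.two_le hWcard
        omega
      haveI hX0n : X0.Normal := Subgroup.normal_of_index_eq_two hidx
      set φ0 : X0 →* MulAut V := φ.comp X0.subtype with hφ0
      have hφ0inj : Function.Injective φ0 := hφ.comp X0.subtype_injective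
      have hW0 : ∀ x : X0, ∀ w ∈ W, φ0 x w ∈ W := fun x w hw => hWinv x x.2 w hw
      have hm0 : m < d := by omega
      have hb1 := red_bound q hq2 φ0 hφ0inj (hX.to_subgroup X0) hV W hW0 (2 ^ h m) (2 ^ h m)
        (fun Y _ _ ψ hψ hY => ih m hm0 W Y ψ hψ hY
          (fun w => Subtype.ext (by rw [Subgroup.coe_pow, hV]; rfl)) hWm)
        (fun Y _ _ ψ hψ hY => ih m hm0 (V ⧸ W) Y ψ hψ hY
          (fun v => by
            obtain ⟨v, rfl⟩ := QuotientGroup.mk'_surjective W v
            rw [← map_pow, hV, map_one]) (by rw [hQm]; congr 1; omega))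
      have hb2 := frattini_index_le_mul 2 hX X0
      have hb3 : (frattini (X ⧸ X0)).index ≤ 2 := by
        have := frattini_index_le_card (X := X ⧸ X0)
        rwa [← Subgroup.index_eq_card, hidx] at this
      calc (frattini X).index ≤ (frattini (X ⧸ X0)).index * (frattini X0).index := hb2
        _ ≤ 2 * (2 ^ h m * 2 ^ h m) := Nat.mul_le_mul hb3 hb1
        _ = 2 ^ (2 * h m + 1) := by ring
        _ ≤ 2 ^ h d := Nat.pow_le_pow_right (by norm_num) (hdb m hdm)

end Cfsg.Agent.Lib.Helper5.Fq
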