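import Mathlib
import Cfsg.Agent.Lib.Helper5.FqG

set_option autoImplicit false

namespace Cfsg.Agent.Lib.Helper5.Fq

universe u

open scoped commutatorElement

theorem card_mulAut_three {T : Type*} [Group T] [Finite T] (h : Nat.card T = 3) :
    Nat.card (MulAut T) = 2 := by
  haveI : Fact (Nat.Prime 3) := ⟨by norm_num⟩
  haveI : IsCyclic T := isCyclic_of_prime_card h
  rw [IsCyclic.card_mulAut T, h]
  decide

theorem card_le_sixteen {V : Type u} [CommGroup V] [Finite V] {X : Type u} [Group X] [Finite X]
    (φ : X →* MulAut V) (hφ : Function.Injective φ) (hX : IsPGroup 2 X)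
    (hV : ∀ v : V, v ^ 3 = 1) (hcard : Nat.card V = 3 ^ 2) : Nat.card X ≤ 16 := by
  classical
  haveI : Fact (Nat.Prime 3) := ⟨by norm_num⟩
  haveI : Nontrivial V := by
    rw [← Finite.one_lt_card_iff_nontrivial, hcard]
    norm_num
  obtain ⟨v, hv⟩ := exists_ne (1 : V)
  letI : MulAction X V := MulAction.compHom V φ
  have hsmul : ∀ (x : X) (w : V), x • w = φ x w := fun x w => rfl
  have h1 : Nat.card (MulAction.orbit X v) * Nat.card (MulAction.stabilizer X v) = Nat.card X := by
    rw [Nat.card_congr (MulAction.orbitEquivQuotientStabilizer X v), ← Subgroup.index_eq_card, mul_comm]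
    exact Subgroup.card_mul_index _
  have h2 : Nat.card (MulAction.orbit X v) ≤ 8 := by
    have hsub : MulAction.orbit X v ⊆ {w : V | w ≠ 1} := by
      rintro _ ⟨x, rfl⟩
      show x • v ≠ 1
      rw [hsmul]
      intro h
      apply hv
      have := (φ x).injective (h.trans (map_one (φ x)).symm)
      exact this
    have h3 : Nat.card {w : V | w ≠ 1} = 8 := by
      have := Nat.card_congr (Equiv.Set.sumCompl {w : V | w = 1})
      rw [Nat.card_sum] at this
      have h4 : Nat.card {w : V | w = 1} = 1 := by
        rw [Set.setOf_eq_eq_singleton]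
        simp
      have h5 : ({w : V | w = 1}ᶜ : Set V) = {w : V | w ≠ 1} := rfl
      rw [h4, h5, hcard] at this
      omega
    calc Nat.card (MulAction.orbit X v) ≤ Nat.card {w : V | w ≠ 1} :=
          Nat.card_mono (Set.toFinite _) hsub
      _ = 8 := h3
  set S := MulAction.stabilizer X v with hS
  have hSv : ∀ s ∈ S, φ s v = v := fun s hs => hs
  set W := Subgroup.zpowers v with hW
  have hWfix : ∀ s ∈ S, ∀ w ∈ W, φ s w = w := by
    intro s hs w hw
    obtain ⟨k, rfl⟩ := Subgroup.mem_zpowers_iff.mp hw
    rw [map_zpow, hSv s hs]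
  have hWcard : Nat.card W = 3 := by
    rw [hW, Nat.card_zpowers]
    exact orderOf_eq_prime (hV v) hv
  obtain ⟨a, ha, hWa, hQa⟩ := card_sub_quot 3 2 (by norm_num) hcard W
  have ha1 : a = 1 := by
    rw [hWcard] at hWa
    have h31 : 3 ^ 1 = 3 ^ a := by simpa using hWa
    exact (Nat.pow_right_injective (by norm_num : 2 ≤ 3) h31).symm
  subst ha1
  have hQcard : Nat.card (V ⧸ W) = 3 := by simpa using hQa
  set φS : S →* MulAut V := φ.comp S.subtype with hφS
  have hWS : ∀ x : S, ∀ w ∈ W, φS x w ∈ W := by
    intro x w hw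
    have : φS x w = w := hWfix x x.2 w hw
    rw [this]; exact hw
  have hinj : Function.Injective (quotHomW φS W hWS) := by
    rw [injective_iff_map_eq_one]
    intro s hs
    have h2 : ∀ u : V, φS s u / u ∈ W := by
      intro u
      have := congrArg (fun f : MulAut (V ⧸ W) => f (u : V ⧸ W)) hs
      simp only [quotHomW_mk, MulAut.one_apply] at this
      have h3 := QuotientGroup.eq.mp this
      have h4 : φS s u / u = ((φS s u)⁻¹ * u)⁻¹ := by simp [div_eq_mul_inv, mul_comm]
      rw [h4]
      exact W.inv_mem h3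
    have h5 := unipotent_trivial 3 (by decide) φS (hX.to_subgroup S) hV W s
      (fun w hw => hWfix s s.2 w hw) h2
    have h6 : (s : X) = 1 := hφ (by rw [map_one]; exact h5)
    exact Subtype.ext h6
  have h3 : Nat.card S ≤ 2 := by
    have := Nat.card_le_card_of_injective _ hinj
    rwa [card_mulAut_three hQcard] at this
  calc Nat.card X = Nat.card (MulAction.orbit X v) * Nat.card S := h1.symm
    _ ≤ 8 * 2 := Nat.mul_le_mul h2 h3

theorem special_three : SpecialAt.{u} 3 (2 ^ 2) := by
  intro V _ _ X _ _ φ hφ hX hV hcard hirr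
  haveI : Fact (Nat.Prime 2) := ⟨Nat.prime_two⟩
  haveI : Group.IsNilpotent X := hX.isNilpotent
  obtain ⟨A, hAn, hAc, hAmax⟩ := Cfsg.Agent.Lib.Helper11.exists_maximal_normal_abelian (R := X)
  haveI := hAn
  by_cases hcyc : IsCyclic A
  · have hCA := Cfsg.Agent.Lib.Helper11.centralizer_le_of_maximal_normal_abelian A hAc hAmax
    obtain ⟨_, hb2, hb3⟩ := cyclic_self_centralizing hX A hCA
    have h16 := card_le_sixteen φ hφ hX hV hcard
    obtain ⟨n, hn⟩ := (IsPGroup.iff_card).mp (hX.to_subgroup A)
    have hXA : Nat.card A * A.index = Nat.card X := Subgroup.card_mul_index A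
    have hi : A.index ≤ 2 := by
      rw [hn] at hb3 hXA
      rcases n with _ | n
      · simp at hb3
        omega
      · rw [Nat.totient_prime_pow Nat.prime_two (by omega)] at hb3
        simp only [Nat.add_one_sub_one, mul_one] at hb3
        by_contra hgt
        push Not at hgt
        have h9 : 3 * 3 ≤ 2 ^ n * A.index := Nat.mul_le_mul (le_trans hgt hb3) hgt
        rw [pow_succ] at hXA
        have : 2 ^ n * 2 * A.index = 2 * (2 ^ n * A.index) := by ring
        omega
    calc (frattini X).index ≤ 2 * A.index := hb2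
      _ ≤ 2 * 2 := Nat.mul_le_mul_left _ hi
      _ = 2 ^ 2 := by norm_num
  · have huniq := central_inv_unique φ hφ hirr
    have hAc' : ∀ a ∈ A, ∀ b ∈ A, a * b = b * a := by
      intro a ha b hb
      have := hAc.is_comm.comm ⟨a, ha⟩ ⟨b, hb⟩
      exact congrArg Subtype.val this
    obtain ⟨e, z, hzc, hz2, hz1, he2, hec, hconj⟩ := exists_noncentral_inv hX huniq A hAc' hcyc
    have hzinv := central_inv_inverts φ hφ hirr z hzc hz2 hz1
    obtain ⟨X0, hidx, W, hWinv, hWcard⟩ :=
      four_struct 3 (by decide) hV φ e z hzc hz2 hz1 hzinv he2 hec hconj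
    obtain ⟨m, hmd, hWm, hQm⟩ := card_sub_quot 3 2 (by norm_num) hcard W
    have hm1 : m = 1 := by
      rw [hWm, hcard, ← pow_add] at hWcard
      have := Nat.pow_right_injective (by norm_num : 2 ≤ 3) hWcard
      omega
    subst hm1
    have hW3 : Nat.card W = 3 := by simpa using hWm
    have hQ3 : Nat.card (V ⧸ W) = 3 := by simpa using hQm
    set φ0 : X0 →* MulAut V := φ.comp X0.subtype with hφ0
    have hφ0inj : Function.Injective φ0 := hφ.comp X0.subtype_injective
    have hW0 : ∀ x : X0, ∀ w ∈ W, φ0 x w ∈ W := fun x w hw => hWinv x x.2 w hw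
    have hc0 := red_card 3 (by decide) φ0 hφ0inj (hX.to_subgroup X0) hV W hW0
    rw [card_mulAut_three hW3, card_mulAut_three hQ3] at hc0
    have hX8 : Nat.card X ≤ 8 := by
      have := Subgroup.card_mul_index X0
      rw [hidx] at this
      omega
    have hcomm : commutator X ≠ ⊥ := by
      intro hbot
      apply hec
      rw [Subgroup.mem_center_iff]
      intro g
      have h1 : ⁅g, e⁆ ∈ commutator X := by
        rw [commutator_def]
        exact Subgroup.commutator_mem_commutator (Subgroup.mem_top g) (Subgroup.mem_top e)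
      rw [hbot, Subgroup.mem_bot, commutatorElement_eq_one_iff_mul_comm] at h1
      exact h1
    have hfr : frattini X ≠ ⊥ := by
      intro hbot
      apply hcomm
      have := (Cfsg.Agent.S0012.result 2 hX).1
      rw [hbot] at this
      exact le_bot_iff.mp this
    have h2 : 1 < Nat.card (frattini X) := (Subgroup.one_lt_card_iff_ne_bot _).mpr hfr
    have h3 := Subgroup.card_mul_index (frattini X)
    have h4 : 2 * (frattini X).index ≤ Nat.card (frattini X) * (frattini X).index :=
      Nat.mul_le_mul_right _ h2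
    norm_num
    omega

end Cfsg.Agent.Lib.Helper5.Fq
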