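import Mathlib
import Cfsg.Agent.Lib.Helper5.FqH

set_option autoImplicit false

namespace Cfsg.Agent.Lib.Helper5.Fq

universe u

def hBig (d : ℕ) : ℕ := 2 * d - 1

def hThree (d : ℕ) : ℕ := if d ≤ 1 then d else (3 * d - 2) / 2

theorem num_big (q d : ℕ) (hq : 5 ≤ q) (hd : 1 ≤ d) : 2 ^ hBig d ≤ q ^ d - 1 := by
  have h1 : 2 ^ hBig d ≤ 2 ^ (2 * d) := Nat.pow_le_pow_right (by norm_num) (by unfold hBig; omega)
  have h2 : (2 : ℕ) ^ (2 * d) = 4 ^ d := by rw [pow_mul]; norm_num
  have h3 : 4 ^ d < 5 ^ d := Nat.pow_lt_pow_left (by norm_num) (by omega)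
  have h4 : 5 ^ d ≤ q ^ d := Nat.pow_le_pow_left hq d
  omega

theorem num_three_aux (d : ℕ) (hd : 2 ≤ d) : 2 ^ ((3 * d - 2) / 2) + 1 ≤ 3 ^ d := by
  induction d using Nat.strong_induction_on with
  | _ d ih =>
  rcases Nat.lt_or_ge d 4 with h4 | h4
  · interval_cases d <;> norm_num
  · obtain ⟨e, rfl⟩ : ∃ e, d = e + 2 := ⟨d - 2, by omega⟩
    have := ih e (by omega) (by omega)
    have he : (3 * (e + 2) - 2) / 2 = (3 * e - 2) / 2 + 3 := by omega
    rw [he, pow_add, pow_add]
    norm_num
    omega

theorem num_three (d : ℕ) (hd : 1 ≤ d) : 2 ^ hThree d ≤ 3 ^ d - 1 := by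
  unfold hThree
  split_ifs with h
  · have : d = 1 := by omega
    subst this
    norm_num
  · have := num_three_aux d (by omega)
    omega

theorem faithful_bound (q : ℕ) (hq : q.Prime) (hq2 : Odd q) (d : ℕ) (hd : 1 ≤ d)
    (V : Type u) [CommGroup V] [Finite V] (X : Type u) [Group X] [Finite X] (φ : X →* MulAut V)
    (hφ : Function.Injective φ) (hX : IsPGroup 2 X) (hV : ∀ v : V, v ^ q = 1)
    (hcard : Nat.card V = q ^ d) : (frattini X).index ≤ q ^ d - 1 := by
  have hq3 : 3 ≤ q := by
    have := hq.two_le
    rcases hq2 with ⟨k, hk⟩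
    omega
  by_cases h3 : q = 3
  · subst h3
    have hm := main_bound.{u} 3 hq hq2 hThree (by unfold hThree; simp)
      (by
        intro a b ha hb
        unfold hThree
        split_ifs <;> omega)
      (by
        intro m hm
        unfold hThree
        split_ifs <;> omega)
      (by
        intro d hd
        unfold hThree
        split_ifs <;> omega)
      (Or.inr (by
        have : hThree 2 = 2 := by unfold hThree; norm_num
        rw [this]
        exact special_three))
    exact le_trans (hm d V X φ hφ hX hV hcard) (num_three d hd)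
  · have hq5 : 5 ≤ q := by
      by_contra hlt
      have : q = 4 := by omega
      subst this
      norm_num at hq
    have hm := main_bound.{u} q hq hq2 hBig (by unfold hBig; omega)
      (by
        intro a b ha hb
        unfold hBig
        omega)
      (by
        intro m hm
        unfold hBig
        omega)
      (by
        intro d hd
        unfold hBig
        omega)
      (Or.inl (by unfold hBig; omega))
    exact le_trans (hm d V X φ hφ hX hV hcard) (num_big q d hq5 hd)

end Cfsg.Agent.Lib.Helper5.Fq
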