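import Mathlib
import Cfsg.Agent.Lib.Helper5.GLSylA
import Cfsg.Agent.Lib.Helper5.GLSylB
import Cfsg.Agent.Lib.Helper5.GLSylD
import Cfsg.Agent.Lib.Helper5.SymSylD

set_option autoImplicit false

namespace Cfsg.Agent.Lib.Helper5.SymSyl

open scoped Nat

theorem exists_genSq_sylow_sl_odd {F : Type*} [Field F] [Fintype F]
    (hF : Odd (Fintype.card F)) (hq : 4 ∣ Fintype.card F + 1) (m : ℕ) :
    ∃ P : Subgroup (Matrix.SpecialLinearGroup (Fin (2 * m + 1)) F),
      Nat.card P = 2 ^ (Nat.card (Matrix.SpecialLinearGroup (Fin (2 * m + 1)) F)).factorization 2 ∧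
        GenSq 2 P := by
  classical
  haveI : Fact (Nat.Prime 2) := ⟨Nat.prime_two⟩
  have hcardeq : Fintype.card ((Fin 2 × Fin m) ⊕ Unit) = Fintype.card (Fin (2 * m + 1)) := by
    simp
  let e : (Fin 2 × Fin m) ⊕ Unit ≃ Fin (2 * m + 1) := Fintype.equivOfCardEq hcardeq
  let base : (Fin m → GL (Fin 2) F) →* Matrix.SpecialLinearGroup (Fin (2 * m + 1)) F :=
    (embSL e).comp (baseGL m)
  let top : Equiv.Perm (Fin m) →* Matrix.SpecialLinearGroup (Fin (2 * m + 1)) F :=
    (embSL e).comp (topGL m)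
  have hconj : ∀ σ A, top σ * base A * (top σ)⁻¹ = base (fun i => A (σ⁻¹ i)) := by
    intro σ A
    show embSL e (topGL m σ) * embSL e (baseGL m A) * (embSL e (topGL m σ))⁻¹ =
      embSL e (baseGL m fun i => A (σ⁻¹ i))
    rw [← map_inv, ← map_mul, ← map_mul, topGL_mul_baseGL]
  have hbinj : Function.Injective base := (embSL_injective e).comp (baseGL_injective m)
  have htinj : Function.Injective top := (embSL_injective e).comp (topGL_injective m)
  have hinf : base.range ⊓ top.range = ⊥ := by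
    rw [eq_bot_iff]
    rintro x ⟨⟨A, rfl⟩, ⟨σ, hσ⟩⟩
    rw [Subgroup.mem_bot]
    have h1 : topGL (F := F) m σ = baseGL m A := embSL_injective e hσ
    have h2 : baseGL (F := F) m A ∈ (baseGL (F := F) m).range ⊓ (topGL m).range :=
      ⟨⟨A, rfl⟩, ⟨σ, h1⟩⟩
    rw [baseGL_inf_topGL, Subgroup.mem_bot] at h2
    show embSL e (baseGL m A) = 1
    rw [h2, map_one]
  obtain ⟨S, hScard, hSgen⟩ := exists_good_sylow_gl2 (F := F) hF hq
  obtain ⟨T, hTp, hTcard, hTgen⟩ := good_all 2 m (Fin m) (by simp)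
  have hTcard' : Nat.card T = 2 ^ padicValNat 2 m ! := by
    rw [hTcard]; simp
  obtain ⟨P, hP, hPcard, hPgen⟩ := wreath_genSq base top hconj hbinj htinj hinf S _ hScard hSgen
    T _ hTcard' hTgen
  refine ⟨P, ?_, hPgen⟩
  have hN : Nat.card (Matrix.SpecialLinearGroup (Fin (2 * m + 1)) F) ≠ 0 :=
    Nat.card_pos.ne'
  rw [Nat.factorization_def _ Nat.prime_two]
  apply card_eq_of_pgroup P hP _ hN (Subgroup.card_subgroup_dvd_card P)
  rw [v2_card_sl_odd hq m]
  exact hPcard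

end Cfsg.Agent.Lib.Helper5.SymSyl
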