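import Mathlib
import Cfsg.Agent.Lib.Helper5.GLSylH

set_option autoImplicit false

namespace Cfsg.Agent.Lib.Helper5.SymSyl

open scoped commutatorElement MatrixGroups Nat

section CaseA

variable {F : Type*} [Field F] [Fintype F] (m : ℕ)

noncomputable def YA' (S : Subgroup (GL (Fin 2) F)) : Set (Fin m → GL (Fin 2) F) :=
  {x | ∃ i, ∃ d ∈ DA S, x = Pi.mulSingle i d} ∪
    {x | ∃ i j, x = Pi.mulSingle i phiGL * Pi.mulSingle j phiGL}

theorem map_closure_YA' (S : Subgroup (GL (Fin 2) F)) (T : Subgroup (Equiv.Perm (Fin m))) :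
    (Subgroup.closure (YA' m S)).map (baseGL m) ≤ Subgroup.closure (YA m S T) := by
  rw [MonoidHom.map_closure]
  apply Subgroup.closure_mono
  rintro _ ⟨x, (⟨i, d, hd, rfl⟩ | ⟨i, j, rfl⟩), rfl⟩
  · left; left; exact ⟨i, d, hd, rfl⟩
  · left; right; exact ⟨i, j, rfl⟩

theorem det_closure_YA' (S : Subgroup (GL (Fin 2) F)) (x : Fin m → GL (Fin 2) F)
    (hx : x ∈ Subgroup.closure (YA' m S)) :
    Matrix.GeneralLinearGroup.det (baseGL m x) = 1 := by
  have : Subgroup.closure (YA' m S) ≤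
      ((Matrix.GeneralLinearGroup.det (n := Fin 2 × Fin m) (R := F)).comp (baseGL m)).ker := by
    rw [Subgroup.closure_le]
    rintro _ (⟨i, d, hd, rfl⟩ | ⟨i, j, rfl⟩)
    · show Matrix.GeneralLinearGroup.det (baseGL m (Pi.mulSingle i d)) = 1
      rw [det_baseGL_mulSingle]
      exact ((mem_DA S d).mp hd).2
    · exact det_pair_ph m i j
  exact this hx

theorem pi_le_closure (S : Subgroup (GL (Fin 2) F)) (hphS : (phiGL : GL (Fin 2) F) ∈ S)
    (hdetS : ∀ s ∈ S, Matrix.GeneralLinearGroup.det s = 1 ∨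
      Matrix.GeneralLinearGroup.det s = -1) :
    Subgroup.pi Set.univ (fun _ : Fin m => S) ≤
      Subgroup.closure ({x | ∃ i, ∃ d ∈ DA S, x = Pi.mulSingle i d} ∪
        {x | ∃ i : Fin m, x = Pi.mulSingle i (phiGL : GL (Fin 2) F)}) := by
  rw [Subgroup.pi_le_iff]
  intro i
  rintro _ ⟨s, hs, rfl⟩
  rcases hdetS s hs with h | h
  · apply Subgroup.subset_closure
    left
    exact ⟨i, s, (mem_DA S s).mpr ⟨hs, h⟩, rfl⟩
  · have e : s = (s * phiGL) * phiGL := by rw [mul_assoc, phiGL_sq, mul_one]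
    have hsph : s * phiGL ∈ DA S := by
      rw [mem_DA]
      refine ⟨S.mul_mem hs hphS, ?_⟩
      rw [map_mul, h, det_phiGL, neg_mul_neg, one_mul]
    show (Pi.mulSingle i s : Fin m → GL (Fin 2) F) ∈ Subgroup.closure _
    rw [e, Pi.mulSingle_mul]
    apply Subgroup.mul_mem
    · apply Subgroup.subset_closure
      left
      exact ⟨i, s * phiGL, hsph, rfl⟩
    · apply Subgroup.subset_closure
      right
      exact ⟨i, rfl⟩

theorem BA_ker_le (hF : Odd (Fintype.card F)) (hm : 1 ≤ m) (S : Subgroup (GL (Fin 2) F))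
    (T : Subgroup (Equiv.Perm (Fin m)))
    (hphS : (phiGL : GL (Fin 2) F) ∈ S)
    (hdetS : ∀ s ∈ S, Matrix.GeneralLinearGroup.det s = 1 ∨
      Matrix.GeneralLinearGroup.det s = -1) :
    BA m S ⊓ (Matrix.GeneralLinearGroup.det (n := Fin 2 × Fin m) (R := F)).ker ≤
      Subgroup.closure (YA m S T) := by
  rintro _ ⟨⟨A, hA, rfl⟩, hAk⟩
  have hAk' : Matrix.GeneralLinearGroup.det (baseGL m A) = 1 := hAk
  have htt : (Pi.mulSingle (M := fun _ : Fin m => GL (Fin 2) F) ⟨0, hm⟩ phiGL) *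
      Pi.mulSingle ⟨0, hm⟩ phiGL = 1 := by
    have := single_ph_sq (F := F) m ⟨0, hm⟩
    rwa [pow_two] at this
  have hsch := schreier_two {x | ∃ i, ∃ d ∈ DA S, x = Pi.mulSingle i d}
    {x | ∃ i : Fin m, x = Pi.mulSingle i (phiGL : GL (Fin 2) F)}
    (Pi.mulSingle (M := fun _ : Fin m => GL (Fin 2) F) ⟨0, hm⟩ phiGL) htt
    (Subgroup.closure (YA' m S))
    (fun x hx => Subgroup.subset_closure (Or.inl hx))
    (by
      rintro _ ⟨i, d, hd, rfl⟩
      by_cases hi : i = ⟨0, hm⟩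
      · subst hi
        rw [← Pi.mulSingle_mul, ← Pi.mulSingle_mul]
        apply Subgroup.subset_closure
        left
        refine ⟨_, phiGL * d * phiGL, ?_, rfl⟩
        have hd' := (mem_DA S d).mp hd
        rw [mem_DA]
        refine ⟨S.mul_mem (S.mul_mem hphS hd'.1) hphS, ?_⟩
        rw [map_mul, map_mul, hd'.2, mul_one, ← map_mul, phiGL_sq, map_one]
      · have hc : Commute (Pi.mulSingle (M := fun _ : Fin m => GL (Fin 2) F) ⟨0, hm⟩ phiGL)
            (Pi.mulSingle i d) :=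
          Pi.mulSingle_commute (f := fun _ : Fin m => GL (Fin 2) F) (Ne.symm hi) phiGL d
        rw [hc.eq, mul_assoc, htt, mul_one]
        apply Subgroup.subset_closure
        left
        exact ⟨i, d, hd, rfl⟩)
    (by
      rintro _ ⟨i, rfl⟩
      apply Subgroup.subset_closure
      right
      exact ⟨i, ⟨0, hm⟩, rfl⟩)
    (by
      rintro _ ⟨i, rfl⟩
      apply Subgroup.subset_closure
      right
      exact ⟨⟨0, hm⟩, i, rfl⟩)
  rcases hsch A (pi_le_closure m S hphS hdetS hA) with h | h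
  · exact map_closure_YA' m S T ⟨A, h, rfl⟩
  · exfalso
    have h1 := det_closure_YA' m S _ h
    rw [map_mul, map_mul, hAk', one_mul, det_baseGL_mulSingle, det_phiGL] at h1
    exact neg_one_ne_one_units hF h1

theorem caseA_main (hF : Odd (Fintype.card F)) (hq : 4 ∣ Fintype.card F + 1)
    (hm : 1 ≤ m) :
    ∃ K : Subgroup (GL (Fin 2 × Fin m) F),
      K ≤ (Matrix.GeneralLinearGroup.det (n := Fin 2 × Fin m) (R := F)).ker ∧ IsPGroup 2 K ∧
      2 ^ ((1 + padicValNat 2 (Fintype.card F ^ 2 - 1)) * m + padicValNat 2 m !) ≤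
        2 ^ 1 * Nat.card K ∧ GenSq 2 K := by
  classical
  haveI : Fact (Nat.Prime 2) := ⟨Nat.prime_two⟩
  obtain ⟨S, hScard, hphS, hdetS, hsq⟩ := exists_good_sylow_gl2_struct (F := F) hF hq
  obtain ⟨T, hTp, hTcard, hTgen⟩ := good_all 2 m (Fin m) (by simp)
  have hTcard' : Nat.card T = 2 ^ padicValNat 2 m ! := by
    rw [hTcard]; simp
  have hTY : ∀ σ ∈ T, σ ^ 2 = 1 → ∃ b ∈ BA m S, b * topGL m σ ∈ Subgroup.closure (YA m S T) := by
    intro σ hσ hσ2
    refine ⟨1, (BA m S).one_mem, ?_⟩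
    rw [one_mul]
    apply Subgroup.subset_closure
    right
    exact ⟨σ, hσ, hσ2, rfl⟩
  obtain ⟨hPp, hPcard, hPgen⟩ := wreath_ker_genSq (p := 2) (baseGL m) (topGL m)
    (topGL_mul_baseGL m)
    (baseGL_injective m) (topGL_injective m) (baseGL_inf_topGL m)
    (Matrix.GeneralLinearGroup.det (n := Fin 2 × Fin m) (R := F)) 1
    (card_two_subgroup_units_le hq) S _ hScard T _ hTcard' hTgen (PA m S T) rfl (YA m S T)
    (YA_good m S T hphS hsq) (BA_ker_le m hF hm S T hphS hdetS) hTY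
  exact ⟨PA m S T, inf_le_right, hPp, hPcard, hPgen⟩

end CaseA

end Cfsg.Agent.Lib.Helper5.SymSyl
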