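import Mathlib
import Cfsg.Agent.Lib.Helper5.GLSylI

set_option autoImplicit false

namespace Cfsg.Agent.Lib.Helper5.SymSyl

open scoped commutatorElement MatrixGroups Nat

section SlToGL

variable {F : Type*} [Field F] {n κ : Type*} [Fintype n] [DecidableEq n] [Fintype κ]
  [DecidableEq κ] (e : n ≃ κ)

noncomputable def slToGL : Matrix.SpecialLinearGroup n F →* GL κ F :=
  (Units.map ((Matrix.reindexAlgEquiv F F e : Matrix n n F ≃ₐ[F] Matrix κ κ F) :
    Matrix n n F →* Matrix κ κ F)).comp Matrix.SpecialLinearGroup.toGL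

theorem slToGL_coe (A : Matrix.SpecialLinearGroup n F) :
    ((slToGL e A : GL κ F) : Matrix κ κ F) = Matrix.reindex e e (A : Matrix n n F) := rfl

theorem slToGL_injective : Function.Injective (slToGL (F := F) e) := by
  intro A B h
  have h1 := congrArg (fun g : GL κ F => (g : Matrix κ κ F)) h
  simp only [slToGL_coe] at h1
  exact Subtype.ext ((Matrix.reindex e e).injective h1)

theorem ker_det_le_range_slToGL :
    (Matrix.GeneralLinearGroup.det (n := κ) (R := F)).ker ≤ (slToGL (F := F) e).range := by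
  intro g hg
  rw [MonoidHom.mem_ker] at hg
  have hg' : (g : Matrix κ κ F).det = 1 := by
    have := congrArg Units.val hg
    exact this
  have hd : ((Matrix.reindex e e).symm (g : Matrix κ κ F)).det = 1 := by
    rw [Matrix.reindex_symm, Matrix.det_reindex_self]
    exact hg'
  refine ⟨(⟨(Matrix.reindex e e).symm (g : Matrix κ κ F), hd⟩ : Matrix.SpecialLinearGroup n F), ?_⟩
  apply Units.ext
  show Matrix.reindex e e ((Matrix.reindex e e).symm (g : Matrix κ κ F)) = (g : Matrix κ κ F)
  exact (Matrix.reindex e e).apply_symm_apply _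

end SlToGL

section NumA

theorem v2_card_sl_even {F : Type*} [Field F] [Fintype F] (hq : 4 ∣ Fintype.card F + 1) (m : ℕ)
    (hm : 1 ≤ m) :
    padicValNat 2 (Nat.card (Matrix.SpecialLinearGroup (Fin (2 * m)) F)) + 1 =
      (1 + padicValNat 2 (Fintype.card F ^ 2 - 1)) * m + padicValNat 2 m ! := by
  classical
  haveI : Fact (Nat.Prime 2) := ⟨Nat.prime_two⟩
  have hq1 : 1 < Fintype.card F := Fintype.one_lt_card
  have hq3 : Fintype.card F % 4 = 3 := by omega
  have hodd : Odd (Fintype.card F) := by rw [Nat.odd_iff]; omega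
  have h1 := Cfsg.Agent.Lib.helper14.card_GL_eq_card_SL_mul (F := F) (2 * m) (by omega)
  have hlast : padicValNat 2 (Fintype.card F ^ (2 * m + 1) - 1) = 1 :=
    v2_of_mod4 _ (pow_odd_mod4 _ hq3 m)
  have h2 : padicValNat 2 (Nat.card (GL (Fin (2 * m)) F)) + 1 =
      (m + 1) + m * padicValNat 2 (Fintype.card F ^ 2 - 1) + padicValNat 2 m ! := by
    rw [Matrix.card_GL_field,
      Fin.prod_univ_eq_prod_range (fun i => Fintype.card F ^ (2 * m) - Fintype.card F ^ i)
        (2 * m),
      v2_prod_gl _ hq1 hodd (2 * m) (2 * m) le_rfl, ← v2_sum _ hq3 m,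
      Finset.sum_range_succ _ (2 * m), hlast,
      ← Finset.sum_range_reflect (fun j => padicValNat 2 (Fintype.card F ^ (j + 1) - 1))]
    congr 1
    apply Finset.sum_congr rfl
    intro i hi
    rw [Finset.mem_range] at hi
    congr 3
    omega
  rw [h1, padicValNat.mul (Nat.card_pos.ne') (Nat.card_pos.ne'),
    Nat.card_eq_fintype_card (α := Fˣ), Fintype.card_units, v2_sub_one hq] at h2
  have h3 : padicValNat 2 (Nat.card (Matrix.SpecialLinearGroup (Fin (2 * m)) F)) + 1 =
      m + m * padicValNat 2 (Fintype.card F ^ 2 - 1) + padicValNat 2 m ! := by omega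
  rw [h3]
  ring

end NumA

section FinalA

variable {F : Type*} [Field F] [Fintype F]

theorem exists_genSq_sylow_sl_even_A (hF : Odd (Fintype.card F)) (hq : 4 ∣ Fintype.card F + 1)
    (m : ℕ) (hm : 1 ≤ m) :
    ∃ P : Subgroup (Matrix.SpecialLinearGroup (Fin (2 * m)) F),
      Nat.card P = 2 ^ (Nat.card (Matrix.SpecialLinearGroup (Fin (2 * m)) F)).factorization 2 ∧
        GenSq 2 P := by
  classical
  haveI : Fact (Nat.Prime 2) := ⟨Nat.prime_two⟩
  obtain ⟨K, hKker, hKp, hKcard, hKgen⟩ := caseA_main (F := F) m hF hq hm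
  set ψ := slToGL (F := F) (finProdFinEquiv (m := 2) (n := m)).symm with hψ
  have hψinj : Function.Injective ψ := slToGL_injective _
  have hKr : K ≤ ψ.range := hKker.trans (ker_det_le_range_slToGL _)
  refine ⟨K.comap ψ, ?_, genSq_comap_of_injective ψ hψinj K hKr hKgen⟩
  have hcard := card_comap_of_injective' ψ hψinj K hKr
  have hPp : IsPGroup 2 (K.comap ψ) := hKp.comap_of_injective ψ hψinj
  rw [Nat.factorization_def _ Nat.prime_two]
  apply card_eq_of_pgroup _ hPp _ (Nat.card_pos.ne') (Subgroup.card_subgroup_dvd_card _)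
  rw [hcard]
  have h1 := v2_card_sl_even (F := F) hq m hm
  rw [← h1, pow_succ, mul_comm] at hKcard
  exact Nat.le_of_mul_le_mul_left hKcard (by norm_num)

end FinalA

end Cfsg.Agent.Lib.Helper5.SymSyl
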