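import Mathlib
import Cfsg.Agent.Lib.Helper5.GLSylJ

set_option autoImplicit false

namespace Cfsg.Agent.Lib.Helper5.SymSyl

open scoped commutatorElement MatrixGroups Nat

section Mon

variable {F : Type*} [Field F] (n : ℕ)

noncomputable def topMon : Equiv.Perm (Fin n) →* GL (Fin n) F :=
  (Matrix.permMatrixHom (n := Fin n) (R := F)).toHomUnits

noncomputable def baseMon : (Fin n → Fˣ) →* GL (Fin n) F :=
  (Units.map (Matrix.diagonalRingHom (Fin n) F).toMonoidHom).comp
    (MulEquiv.piUnits (M := fun _ : Fin n => F)).symm.toMonoidHom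

theorem topMon_coe (σ : Equiv.Perm (Fin n)) :
    ((topMon (F := F) n σ : GL (Fin n) F) : Matrix (Fin n) (Fin n) F) = (σ⁻¹).permMatrix F := rfl

theorem baseMon_coe (A : Fin n → Fˣ) :
    ((baseMon n A : GL (Fin n) F) : Matrix (Fin n) (Fin n) F) =
      Matrix.diagonal (fun i => ((A i : Fˣ) : F)) := rfl

theorem topMon_mul_baseMon (σ : Equiv.Perm (Fin n)) (A : Fin n → Fˣ) :
    topMon n σ * baseMon n A * (topMon n σ)⁻¹ = baseMon n (fun i => A (σ⁻¹ i)) := by
  rw [mul_inv_eq_iff_eq_mul]
  apply Units.ext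
  rw [Units.val_mul, Units.val_mul, topMon_coe, baseMon_coe, baseMon_coe,
    PEquiv.toMatrix_toPEquiv_mul, PEquiv.mul_toMatrix_toPEquiv]
  ext i j
  simp only [Matrix.submatrix_apply, id, Matrix.diagonal_apply]
  have h2 : (σ⁻¹).symm j = σ j := by
    rw [← Equiv.Perm.inv_def, inv_inv]
  rw [h2]
  by_cases h : σ⁻¹ i = j
  · have h' : i = σ j := by rw [← h]; simp
    rw [if_pos h, if_pos h']
  · have h' : ¬ i = σ j := by
      intro h''
      apply h
      rw [h'']; simp
    rw [if_neg h, if_neg h']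

theorem baseMon_injective : Function.Injective (baseMon (F := F) n) := by
  intro A B h
  have h1 := congrArg (fun g : GL (Fin n) F => (g : Matrix (Fin n) (Fin n) F)) h
  simp only [baseMon_coe] at h1
  have h2 := Matrix.diagonal_injective h1
  funext i
  apply Units.ext
  exact congrFun h2 i

theorem baseMon_eq_topMon (A : Fin n → Fˣ) (σ : Equiv.Perm (Fin n))
    (h : baseMon n A = topMon n σ) : σ = 1 := by
  have h1 := congrArg (fun g : GL (Fin n) F => (g : Matrix (Fin n) (Fin n) F)) h
  simp only [baseMon_coe, topMon_coe] at h1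
  apply Equiv.ext
  intro i
  by_contra hne
  have hne' : ¬ i = σ⁻¹ i := by
    intro h'
    apply hne
    have : σ i = i := by
      conv_lhs => rw [h']
      simp
    rw [this]; rfl
  have h2 := congrFun (congrFun h1 i) (σ⁻¹ i)
  have h4 : Equiv.Perm.permMatrix F (σ⁻¹) i (σ⁻¹ i) = 1 := by
    simp [Equiv.Perm.permMatrix, PEquiv.toMatrix_apply, Equiv.toPEquiv_apply]
  rw [h4, Matrix.diagonal_apply, if_neg hne'] at h2
  exact zero_ne_one h2

theorem topMon_injective : Function.Injective (topMon (F := F) n) := by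
  intro σ τ h
  have h1 : baseMon (F := F) n 1 = topMon n (σ * τ⁻¹) := by
    rw [map_one, map_mul, map_inv, h, mul_inv_cancel]
  have := baseMon_eq_topMon n _ _ h1
  exact mul_inv_eq_one.mp this

theorem baseMon_inf_topMon : (baseMon (F := F) n).range ⊓ (topMon n).range = ⊥ := by
  rw [eq_bot_iff]
  rintro x ⟨⟨A, rfl⟩, ⟨σ, hσ⟩⟩
  rw [Subgroup.mem_bot]
  have := baseMon_eq_topMon n A σ hσ.symm
  rw [← hσ, this, map_one]

theorem det_baseMon (A : Fin n → Fˣ) :
    Matrix.GeneralLinearGroup.det (baseMon n A) = ∏ i, A i := by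
  apply Units.ext
  rw [Matrix.GeneralLinearGroup.val_det_apply, baseMon_coe, Matrix.det_diagonal,
    Units.coe_prod]

noncomputable def sgnU (σ : Equiv.Perm (Fin n)) : Fˣ :=
  Units.map (Int.castRingHom F).toMonoidHom (Equiv.Perm.sign σ)

theorem sgnU_mul_self (σ : Equiv.Perm (Fin n)) : sgnU (F := F) n σ * sgnU n σ = 1 := by
  unfold sgnU
  rw [← map_mul, Int.units_mul_self, map_one]

theorem sgnU_eq (σ : Equiv.Perm (Fin n)) : sgnU (F := F) n σ = 1 ∨ sgnU (F := F) n σ = -1 := by
  unfold sgnU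
  rcases Int.units_eq_one_or (Equiv.Perm.sign σ) with h | h
  · left; rw [h, map_one]
  · right; rw [h]
    apply Units.ext
    simp

theorem det_topMon (σ : Equiv.Perm (Fin n)) :
    Matrix.GeneralLinearGroup.det (topMon (F := F) n σ) = sgnU n σ := by
  apply Units.ext
  rw [Matrix.GeneralLinearGroup.val_det_apply, topMon_coe, Matrix.det_permutation,
    Equiv.Perm.sign_inv]
  rfl

end Mon

end Cfsg.Agent.Lib.Helper5.SymSyl
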