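import Mathlib
import Cfsg.Agent.Lib.Helper5.GLSylK

set_option autoImplicit false

namespace Cfsg.Agent.Lib.Helper5.SymSyl

open scoped commutatorElement MatrixGroups Nat

section CaseB

variable {F : Type*} [Field F] (n : ℕ)

def eB (i j : Fin n) (z : Fˣ) : Fin n → Fˣ := Pi.mulSingle i z * Pi.mulSingle j z⁻¹

theorem mulSingle_comp_perm (σ : Equiv.Perm (Fin n)) (i : Fin n) (z : Fˣ) :
    (fun x => (Pi.mulSingle i z : Fin n → Fˣ) (σ⁻¹ x)) = Pi.mulSingle (σ i) z := by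
  funext x
  rw [Pi.mulSingle_apply, Pi.mulSingle_apply]
  by_cases h : x = σ i
  · rw [if_pos h, if_pos (by rw [h]; simp)]
  · rw [if_neg h, if_neg]
    intro h'
    apply h
    rw [← h']; simp

theorem eB_comp_perm (σ : Equiv.Perm (Fin n)) (i j : Fin n) (z : Fˣ) :
    (fun x => eB n i j z (σ⁻¹ x)) = eB n (σ i) (σ j) z := by
  unfold eB
  rw [← mulSingle_comp_perm n σ i z, ← mulSingle_comp_perm n σ j z⁻¹]
  rfl

theorem eB_swap (i j : Fin n) (z : Fˣ) : eB n j i z = (eB n i j z)⁻¹ := by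
  unfold eB
  rw [mul_inv, ← Pi.mulSingle_inv, ← Pi.mulSingle_inv, inv_inv, mul_comm]

theorem eB_self (i : Fin n) (z : Fˣ) : eB n i i z = 1 := by
  unfold eB
  rw [← Pi.mulSingle_mul, mul_inv_cancel, Pi.mulSingle_one]

theorem eB_trans (i j k : Fin n) (z : Fˣ) : eB n i j z * eB n j k z = eB n i k z := by
  unfold eB
  have h : (Pi.mulSingle j z⁻¹ : Fin n → Fˣ) * Pi.mulSingle j z = 1 := by
    rw [← Pi.mulSingle_mul, inv_mul_cancel, Pi.mulSingle_one]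
  calc (Pi.mulSingle i z : Fin n → Fˣ) * Pi.mulSingle j z⁻¹ *
        (Pi.mulSingle j z * Pi.mulSingle k z⁻¹)
      = Pi.mulSingle i z * (Pi.mulSingle j z⁻¹ * Pi.mulSingle j z) * Pi.mulSingle k z⁻¹ := by
        simp only [mul_assoc]
    _ = _ := by rw [h, mul_one]

theorem eB_mul (i j : Fin n) (z w : Fˣ) : eB n i j (z * w) = eB n i j z * eB n i j w := by
  unfold eB
  rw [mul_inv, Pi.mulSingle_mul, Pi.mulSingle_mul]
  exact mul_mul_mul_comm _ _ _ _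

theorem prod_eB (i j : Fin n) (z : Fˣ) : ∏ x, eB n i j z x = 1 := by
  have h : ∀ (k : Fin n) (w : Fˣ), ∏ x, (Pi.mulSingle k w : Fin n → Fˣ) x = w := by
    intro k w
    rw [Finset.prod_eq_single k]
    · rw [Pi.mulSingle_eq_same]
    · intro x _ hx
      rw [Pi.mulSingle_eq_of_ne hx]
    · intro hk; exact absurd (Finset.mem_univ k) hk
  unfold eB
  simp only [Pi.mul_apply]
  rw [Finset.prod_mul_distrib, h, h, mul_inv_cancel]

theorem prod_mulSingle' (k : Fin n) (w : Fˣ) : ∏ x, (Pi.mulSingle k w : Fin n → Fˣ) x = w := by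
  rw [Finset.prod_eq_single k]
  · rw [Pi.mulSingle_eq_same]
  · intro x _ hx
    rw [Pi.mulSingle_eq_of_ne hx]
  · intro hk; exact absurd (Finset.mem_univ k) hk

theorem conj_eB (σ : Equiv.Perm (Fin n)) (i j : Fin n) (z : Fˣ) :
    topMon (F := F) n σ * baseMon n (eB n i j z) * (topMon n σ)⁻¹ =
      baseMon n (eB n (σ i) (σ j) z) := by
  rw [topMon_mul_baseMon, eB_comp_perm]

noncomputable def BB (μ : Subgroup Fˣ) : Subgroup (GL (Fin n) F) :=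
  (Subgroup.pi Set.univ (fun _ : Fin n => μ)).map (baseMon n)

noncomputable def PB (μ : Subgroup Fˣ) (T : Subgroup (Equiv.Perm (Fin n))) :
    Subgroup (GL (Fin n) F) :=
  (BB n μ ⊔ T.map (topMon n)) ⊓ (Matrix.GeneralLinearGroup.det (n := Fin n) (R := F)).ker

noncomputable def wB (σ : Equiv.Perm (Fin n)) (k : Fin n) : GL (Fin n) F :=
  baseMon n (Pi.mulSingle k (sgnU n σ)) * topMon n σ

noncomputable def YB1 (μ : Subgroup Fˣ) (T : Subgroup (Equiv.Perm (Fin n))) :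
    Set (GL (Fin n) F) :=
  {x | ∃ σ ∈ T, σ ^ 2 = 1 ∧ ∃ i, σ i ≠ i ∧ ∃ z ∈ μ, x = baseMon n (eB n i (σ i) z)}

noncomputable def YB2 (T : Subgroup (Equiv.Perm (Fin n))) : Set (GL (Fin n) F) :=
  {x | ∃ σ ∈ T, σ ^ 2 = 1 ∧ ∃ k, x = wB n σ k}

theorem mem_PB (μ : Subgroup Fˣ) (T : Subgroup (Equiv.Perm (Fin n))) (x : GL (Fin n) F) :
    x ∈ PB n μ T ↔ x ∈ BB n μ ⊔ T.map (topMon n) ∧ Matrix.GeneralLinearGroup.det x = 1 := by
  unfold PB
  rw [Subgroup.mem_inf, MonoidHom.mem_ker]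

theorem eB_mem_pi (μ : Subgroup Fˣ) (i j : Fin n) (z : Fˣ) (hz : z ∈ μ) :
    eB n i j z ∈ Subgroup.pi Set.univ (fun _ : Fin n => μ) := by
  unfold eB
  apply Subgroup.mul_mem
  · refine (Subgroup.mulSingle_mem_pi (f := fun _ : Fin n => Fˣ) i z).mpr ?_
    intro _; exact hz
  · refine (Subgroup.mulSingle_mem_pi (f := fun _ : Fin n => Fˣ) j z⁻¹).mpr ?_
    intro _; exact μ.inv_mem hz

theorem base_eB_mem_PB (μ : Subgroup Fˣ) (T : Subgroup (Equiv.Perm (Fin n))) (i j : Fin n)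
    (z : Fˣ) (hz : z ∈ μ) : baseMon n (eB n i j z) ∈ PB n μ T := by
  rw [mem_PB]
  refine ⟨(le_sup_left : BB n μ ≤ _) ⟨_, eB_mem_pi n μ i j z hz, rfl⟩, ?_⟩
  rw [det_baseMon, prod_eB]

theorem sgnU_mem (μ : Subgroup Fˣ) (hneg : (-1 : Fˣ) ∈ μ) (σ : Equiv.Perm (Fin n)) :
    sgnU (F := F) n σ ∈ μ := by
  rcases sgnU_eq (F := F) n σ with h | h
  · rw [h]; exact μ.one_mem
  · rw [h]; exact hneg

theorem wB_mem_PB (μ : Subgroup Fˣ) (hneg : (-1 : Fˣ) ∈ μ) (T : Subgroup (Equiv.Perm (Fin n)))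
    (σ : Equiv.Perm (Fin n)) (hσ : σ ∈ T) (k : Fin n) : wB (F := F) n σ k ∈ PB n μ T := by
  rw [mem_PB]
  unfold wB
  refine ⟨Subgroup.mul_mem _ ((le_sup_left : BB n μ ≤ _) ⟨_, ?_, rfl⟩)
    ((le_sup_right : T.map (topMon n) ≤ _) ⟨σ, hσ, rfl⟩), ?_⟩
  · refine (Subgroup.mulSingle_mem_pi (f := fun _ : Fin n => Fˣ) k _).mpr ?_
    intro _; exact sgnU_mem n μ hneg σ
  · rw [map_mul, det_baseMon, prod_mulSingle', det_topMon, sgnU_mul_self]

theorem YB1_good (μ : Subgroup Fˣ) (hneg : (-1 : Fˣ) ∈ μ) (T : Subgroup (Equiv.Perm (Fin n)))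
    (σ : Equiv.Perm (Fin n)) (hσ : σ ∈ T) (hσ2 : σ ^ 2 = 1) (i : Fin n) (z : Fˣ) (hz : z ∈ μ) :
    (baseMon n (eB n i (σ i) z)) ^ 2 ∈ ⁅PB (F := F) n μ T, PB n μ T⁆ := by
  have hσσ : σ (σ i) = i := by
    have := congrArg (fun τ : Equiv.Perm (Fin n) => τ i) hσ2
    simpa [pow_two] using this
  set y := baseMon (F := F) n (eB n i (σ i) z) with hy
  set s := baseMon (F := F) n (Pi.mulSingle i (sgnU n σ)) with hs
  set τ := topMon (F := F) n σ with hτ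
  have hw : s * τ ∈ PB n μ T := wB_mem_PB n μ hneg T σ hσ i
  have hyP : y ∈ PB n μ T := base_eB_mem_PB n μ T i (σ i) z hz
  have h1 : τ * y * τ⁻¹ = y⁻¹ := by
    rw [hy, hτ, conj_eB, hσσ, eB_swap, map_inv]
  have h2 : s * y = y * s := by
    rw [hs, hy, ← map_mul, ← map_mul, mul_comm]
  have h3 : ⁅y, s * τ⁆ = y ^ 2 := by
    rw [commutatorElement_def, pow_two]
    have e1 : y * (s * τ) * y⁻¹ * (s * τ)⁻¹ = y * s * (τ * y * τ⁻¹)⁻¹ * s⁻¹ := by group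
    rw [e1, h1, inv_inv, mul_assoc y s y, h2]
    group
  rw [← h3]
  exact Subgroup.commutator_mem_commutator hyP hw

end CaseB

end Cfsg.Agent.Lib.Helper5.SymSyl
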