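import Mathlib
import Cfsg.Agent.Lib.Helper5.GLSylL

set_option autoImplicit false

namespace Cfsg.Agent.Lib.Helper5.SymSyl

open scoped commutatorElement MatrixGroups Nat

section CaseB

variable {F : Type*} [Field F] (n : ℕ)

theorem wB_sq (σ : Equiv.Perm (Fin n)) (hσ2 : σ ^ 2 = 1) (k : Fin n) :
    (wB (F := F) n σ k) ^ 2 =
      baseMon n (Pi.mulSingle k (sgnU n σ) * Pi.mulSingle (σ k) (sgnU n σ)) := by
  unfold wB
  set s := baseMon (F := F) n (Pi.mulSingle k (sgnU n σ)) with hs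
  set τ := topMon (F := F) n σ with hτ
  have h1 : τ * s * τ⁻¹ = baseMon n (Pi.mulSingle (σ k) (sgnU n σ)) := by
    rw [hs, hτ, topMon_mul_baseMon, mulSingle_comp_perm]
  have h2 : τ * τ = 1 := by
    rw [hτ, ← map_mul, ← pow_two, hσ2, map_one]
  have e : (s * τ) ^ 2 = s * (τ * s * τ⁻¹) * (τ * τ) := by
    rw [pow_two]; group
  rw [e, h1, h2, mul_one, ← map_mul]

theorem YB2_good (μ : Subgroup Fˣ) (hneg : (-1 : Fˣ) ∈ μ) (η : Fˣ) (hη : η ∈ μ)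
    (hηη : η * η = -1) (T : Subgroup (Equiv.Perm (Fin n)))
    (σ : Equiv.Perm (Fin n)) (hσ : σ ∈ T) (hσ2 : σ ^ 2 = 1) (k : Fin n) :
    (wB (F := F) n σ k) ^ 2 ∈ ⁅PB (F := F) n μ T, PB n μ T⁆ := by
  rw [wB_sq n σ hσ2 k]
  rcases sgnU_eq (F := F) n σ with h | h
  · rw [h, Pi.mulSingle_one, Pi.mulSingle_one, one_mul, map_one]
    exact Subgroup.one_mem _
  · rw [h]
    by_cases hk : σ k = k
    · rw [hk, ← Pi.mulSingle_mul]
      have : (-1 : Fˣ) * -1 = 1 := by simp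
      rw [this, Pi.mulSingle_one, map_one]
      exact Subgroup.one_mem _
    · have e : (Pi.mulSingle k (-1 : Fˣ) * Pi.mulSingle (σ k) (-1 : Fˣ) : Fin n → Fˣ) =
          eB n k (σ k) η * eB n k (σ k) η := by
        rw [← eB_mul, hηη]
        unfold eB
        rw [inv_neg, inv_one]
      rw [e, map_mul, ← pow_two]
      exact YB1_good n μ hneg T σ hσ hσ2 k η hη

theorem YB_good (μ : Subgroup Fˣ) (hneg : (-1 : Fˣ) ∈ μ) (η : Fˣ) (hη : η ∈ μ)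
    (hηη : η * η = -1) (T : Subgroup (Equiv.Perm (Fin n))) :
    ∀ y ∈ YB1 (F := F) n μ T ∪ YB2 n T, y ∈ PB n μ T ∧ y ^ 2 ∈ ⁅PB (F := F) n μ T, PB n μ T⁆ := by
  rintro y (⟨σ, hσ, hσ2, i, _, z, hz, rfl⟩ | ⟨σ, hσ, hσ2, k, rfl⟩)
  · exact ⟨base_eB_mem_PB n μ T i (σ i) z hz, YB1_good n μ hneg T σ hσ hσ2 i z hz⟩
  · exact ⟨wB_mem_PB n μ hneg T σ hσ k, YB2_good n μ hneg η hη hηη T σ hσ hσ2 k⟩

def EB (μ : Subgroup Fˣ) (T : Subgroup (Equiv.Perm (Fin n))) : Subgroup (Fin n → Fˣ) :=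
  Subgroup.closure {x | ∃ σ ∈ T, σ ^ 2 = 1 ∧ ∃ i, σ i ≠ i ∧ ∃ z ∈ μ, x = eB n i (σ i) z}

theorem EB_rel (μ : Subgroup Fˣ) (T : Subgroup (Equiv.Perm (Fin n))) (hTgen : GenIn 2 T)
    (τ : Equiv.Perm (Fin n)) (hτ : τ ∈ T) :
    ∀ j, ∀ z ∈ μ, eB n j (τ j) z ∈ EB n μ T := by
  have key : ∀ τ ∈ Subgroup.closure {x | x ∈ T ∧ x ^ 2 = 1},
      ∀ j, ∀ z ∈ μ, eB n j (τ j) z ∈ EB n μ T := by
    intro τ hτ
    induction hτ using Subgroup.closure_induction with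
    | mem σ hσ =>
      intro j z hz
      by_cases hj : σ j = j
      · rw [hj, eB_self]; exact Subgroup.one_mem _
      · exact Subgroup.subset_closure ⟨σ, hσ.1, hσ.2, j, hj, z, hz, rfl⟩
    | one =>
      intro j z _
      rw [Equiv.Perm.one_apply, eB_self]; exact Subgroup.one_mem _
    | mul x y _ _ ihx ihy =>
      intro j z hz
      rw [Equiv.Perm.mul_apply, ← eB_trans n j (y j) (x (y j)) z]
      exact Subgroup.mul_mem _ (ihy j z hz) (ihx (y j) z hz)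
    | inv x _ ihx =>
      intro j z hz
      have := ihx (x⁻¹ j) z hz
      have hxx : x (x⁻¹ j) = j := by simp
      rw [hxx] at this
      rw [eB_swap]
      exact Subgroup.inv_mem _ this
  exact key τ (hTgen hτ)

theorem pi_ker_le_EB (hn : 1 ≤ n) (μ : Subgroup Fˣ) (T : Subgroup (Equiv.Perm (Fin n)))
    (hTgen : GenIn 2 T) (htrans : ∀ i j : Fin n, ∃ τ ∈ T, τ i = j)
    (A : Fin n → Fˣ) (hA : A ∈ Subgroup.pi Set.univ (fun _ : Fin n => μ))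
    (hprod : ∏ i, A i = 1) : A ∈ EB n μ T := by
  have hrel : ∀ i j, ∀ z ∈ μ, eB n i j z ∈ EB n μ T := by
    intro i j z hz
    obtain ⟨τ, hτ, rfl⟩ := htrans i j
    exact EB_rel n μ T hTgen τ hτ i z hz
  have e : A = ∏ i, eB n i ⟨0, hn⟩ (A i) := by
    unfold eB
    rw [Finset.prod_mul_distrib, Finset.univ_prod_mulSingle]
    have h1 : ∏ i, (Pi.mulSingle (⟨0, hn⟩ : Fin n) (A i)⁻¹ : Fin n → Fˣ) =
        Pi.mulSingle ⟨0, hn⟩ (∏ i, (A i)⁻¹) :=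
      (map_prod (MonoidHom.mulSingle (fun _ : Fin n => Fˣ) ⟨0, hn⟩) _ _).symm
    rw [h1, Finset.prod_inv_distrib, hprod, inv_one, Pi.mulSingle_one, mul_one]
  rw [e]
  apply Subgroup.prod_mem
  intro i _
  exact hrel i _ _ (hA i (Set.mem_univ i))

theorem BB_ker_le (hn : 1 ≤ n) (μ : Subgroup Fˣ) (T : Subgroup (Equiv.Perm (Fin n)))
    (hTgen : GenIn 2 T) (htrans : ∀ i j : Fin n, ∃ τ ∈ T, τ i = j) :
    BB n μ ⊓ (Matrix.GeneralLinearGroup.det (n := Fin n) (R := F)).ker ≤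
      Subgroup.closure (YB1 (F := F) n μ T ∪ YB2 n T) := by
  rintro _ ⟨⟨A, hA, rfl⟩, hAk⟩
  have hAk' : Matrix.GeneralLinearGroup.det (baseMon n A) = 1 := hAk
  rw [det_baseMon] at hAk'
  have h1 := pi_ker_le_EB n hn μ T hTgen htrans A hA hAk'
  have h2 : (EB n μ T).map (baseMon n) ≤ Subgroup.closure (YB1 (F := F) n μ T ∪ YB2 n T) := by
    unfold EB
    rw [MonoidHom.map_closure]
    apply Subgroup.closure_mono
    rintro _ ⟨x, ⟨σ, hσ, hσ2, i, hi, z, hz, rfl⟩, rfl⟩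
    left
    exact ⟨σ, hσ, hσ2, i, hi, z, hz, rfl⟩
  exact h2 ⟨A, h1, rfl⟩

theorem caseB_main [Finite F] (hn : 1 ≤ n) (μ : Subgroup Fˣ) (a : ℕ) (hμcard : Nat.card μ = 2 ^ a)
    (hμmax : ∀ Q : Subgroup Fˣ, IsPGroup 2 Q → Nat.card Q ≤ 2 ^ a)
    (hneg : (-1 : Fˣ) ∈ μ) (η : Fˣ) (hη : η ∈ μ) (hηη : η * η = -1)
    (T : Subgroup (Equiv.Perm (Fin n))) (t : ℕ) (hTcard : Nat.card T = 2 ^ t)
    (hTgen : GenIn 2 T) (htrans : ∀ i j : Fin n, ∃ τ ∈ T, τ i = j) :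
    ∃ K : Subgroup (GL (Fin n) F),
      K ≤ (Matrix.GeneralLinearGroup.det (n := Fin n) (R := F)).ker ∧ IsPGroup 2 K ∧
      2 ^ (a * n + t) ≤ 2 ^ a * Nat.card K ∧ GenSq 2 K := by
  classical
  haveI : Fact (Nat.Prime 2) := ⟨Nat.prime_two⟩
  have hTY : ∀ σ ∈ T, σ ^ 2 = 1 → ∃ b ∈ BB (F := F) n μ,
      b * topMon n σ ∈ Subgroup.closure (YB1 (F := F) n μ T ∪ YB2 n T) := by
    intro σ hσ hσ2
    refine ⟨baseMon n (Pi.mulSingle ⟨0, hn⟩ (sgnU n σ)), ⟨_, ?_, rfl⟩, ?_⟩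
    · refine (Subgroup.mulSingle_mem_pi (f := fun _ : Fin n => Fˣ) _ _).mpr ?_
      intro _; exact sgnU_mem n μ hneg σ
    · apply Subgroup.subset_closure
      right
      exact ⟨σ, hσ, hσ2, ⟨0, hn⟩, rfl⟩
  obtain ⟨hPp, hPcard, hPgen⟩ := wreath_ker_genSq (p := 2) (baseMon n) (topMon n)
    (topMon_mul_baseMon n)
    (baseMon_injective n) (topMon_injective n) (baseMon_inf_topMon n)
    (Matrix.GeneralLinearGroup.det (n := Fin n) (R := F)) a hμmax μ a hμcard T t hTcard hTgen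
    (PB n μ T) rfl (YB1 (F := F) n μ T ∪ YB2 n T)
    (YB_good n μ hneg η hη hηη T) (BB_ker_le n hn μ T hTgen htrans) hTY
  exact ⟨PB n μ T, inf_le_right, hPp, hPcard, hPgen⟩

end CaseB

end Cfsg.Agent.Lib.Helper5.SymSyl
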