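import Mathlib
import Cfsg.Agent.Lib.Helper5.GLSylM

set_option autoImplicit false

namespace Cfsg.Agent.Lib.Helper5.SymSyl

open scoped commutatorElement MatrixGroups Nat

section Inputs

variable {F : Type*} [Field F] [Fintype F]

theorem exists_mu (hq : 4 ∣ Fintype.card F - 1) :
    ∃ μ : Subgroup Fˣ, Nat.card μ = 2 ^ padicValNat 2 (Fintype.card F - 1) ∧
      (∀ Q : Subgroup Fˣ, IsPGroup 2 Q → Nat.card Q ≤ 2 ^ padicValNat 2 (Fintype.card F - 1)) ∧
      (-1 : Fˣ) ∈ μ ∧ ∃ η ∈ μ, η * η = -1 := by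
  classical
  haveI : Fact (Nat.Prime 2) := ⟨Nat.prime_two⟩
  have hq1 : 1 < Fintype.card F := Fintype.one_lt_card
  have hcardU : Nat.card Fˣ = Fintype.card F - 1 := by
    rw [Nat.card_eq_fintype_card, Fintype.card_units]
  obtain ⟨μ⟩ : Nonempty (Sylow 2 Fˣ) := inferInstance
  haveI := Sylow.unique_of_normal μ inferInstance
  have hmem : ∀ x : Fˣ, ∀ k : ℕ, x ^ 2 ^ k = 1 → x ∈ (μ : Subgroup Fˣ) := by
    intro x k hx
    have hp : IsPGroup 2 (Subgroup.zpowers x) := by
      rintro ⟨z, hz⟩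
      obtain ⟨j, rfl⟩ := Subgroup.mem_zpowers_iff.mp hz
      refine ⟨k, Subtype.ext ?_⟩
      show (x ^ j) ^ 2 ^ k = 1
      rw [← zpow_natCast, ← zpow_mul, mul_comm, zpow_mul, zpow_natCast, hx, one_zpow]
    obtain ⟨Q, hQ⟩ := hp.exists_le_sylow
    have : Q = μ := Subsingleton.elim _ _
    rw [← this]
    exact hQ (Subgroup.mem_zpowers x)
  refine ⟨μ, ?_, ?_, ?_, ?_⟩
  · rw [μ.card_eq_multiplicity, Nat.factorization_def _ Nat.prime_two, hcardU]
  · intro Q hQ
    obtain ⟨k, hk⟩ := IsPGroup.iff_card.mp hQ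
    have h1 : Nat.card Q ∣ Fintype.card F - 1 := by
      rw [← hcardU]
      exact Subgroup.card_subgroup_dvd_card Q
    rw [hk] at h1 ⊢
    have := (padicValNat_dvd_iff_le (p := 2) (by omega)).mp h1
    exact Nat.pow_le_pow_right (by norm_num) this
  · apply hmem _ 1
    simp
  · obtain ⟨g, hg⟩ := IsCyclic.exists_generator (α := Fˣ)
    have hog : orderOf g = Fintype.card F - 1 := by
      rw [orderOf_eq_card_of_forall_mem_zpowers hg, hcardU]
    obtain ⟨r, hr⟩ := hq
    have hr0 : 0 < r := by omega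
    have hoη : orderOf (g ^ r) = 4 := by
      rw [orderOf_pow_of_dvd (by omega) (by rw [hog, hr]; exact Dvd.intro_left 4 rfl), hog, hr]
      exact Nat.mul_div_cancel _ hr0
    set η := g ^ r with hη
    have h4 : η ^ 4 = 1 := by rw [← hoη]; exact pow_orderOf_eq_one η
    have h2 : η ^ 2 ≠ 1 := by
      intro h
      have := orderOf_dvd_of_pow_eq_one h
      rw [hoη] at this
      omega
    have h22 : ((η ^ 2 : Fˣ) : F) * ((η ^ 2 : Fˣ) : F) = 1 := by
      rw [← Units.val_mul, ← pow_two, ← pow_mul, h4, Units.val_one]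
    refine ⟨η, hmem η 2 (by norm_num; exact h4), ?_⟩
    rw [← pow_two]
    rcases mul_self_eq_one_iff.mp h22 with h | h
    · exfalso; exact h2 (Units.ext h)
    · exact Units.ext (by rw [h]; simp)

theorem exists_trans_sylow_perm (k : ℕ) (hk : 1 ≤ k) :
    ∃ T : Subgroup (Equiv.Perm (Fin (2 ^ k))),
      Nat.card T = 2 ^ padicValNat 2 (2 ^ k)! ∧ GenIn 2 T ∧
        ∀ i j : Fin (2 ^ k), ∃ τ ∈ T, τ i = j := by
  classical
  haveI : Fact (Nat.Prime 2) := ⟨Nat.prime_two⟩
  have hn2 : 2 ≤ 2 ^ k := by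
    calc 2 = 2 ^ 1 := by norm_num
      _ ≤ 2 ^ k := Nat.pow_le_pow_right (by norm_num) hk
  set c : Equiv.Perm (Fin (2 ^ k)) := finRotate (2 ^ k) with hc
  have hcyc : c.IsCycle := isCycle_finRotate_of_le hn2
  have hsupp : c.support = Finset.univ := support_finRotate_of_le hn2
  have hord : orderOf c = 2 ^ k := by
    rw [hcyc.orderOf, hsupp, Finset.card_univ, Fintype.card_fin]
  have hp : IsPGroup 2 (Subgroup.zpowers c) := by
    apply IsPGroup.of_card (n := k)
    rw [Nat.card_zpowers, hord]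
  obtain ⟨T, hT⟩ := hp.exists_le_sylow
  obtain ⟨T₀, _, hT₀card, hT₀gen⟩ := good_all 2 (2 ^ k) (Fin (2 ^ k)) (by simp)
  have hcardfact : Nat.card (Equiv.Perm (Fin (2 ^ k))) = (2 ^ k)! := by
    rw [Nat.card_eq_fintype_card, Fintype.card_perm, Fintype.card_fin]
  have hT₀card' : Nat.card T₀ = 2 ^ (Nat.card (Equiv.Perm (Fin (2 ^ k)))).factorization 2 := by
    rw [hT₀card, Nat.factorization_def _ Nat.prime_two, hcardfact]
    simp
  refine ⟨T, ?_, genIn_sylow T₀ hT₀card' hT₀gen T, ?_⟩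
  · rw [T.card_eq_multiplicity, Nat.factorization_def _ Nat.prime_two, hcardfact]
  · intro i j
    have hi : c i ≠ i := by
      rw [← Equiv.Perm.mem_support, hsupp]; exact Finset.mem_univ _
    have hj : c j ≠ j := by
      rw [← Equiv.Perm.mem_support, hsupp]; exact Finset.mem_univ _
    obtain ⟨l, hl⟩ := hcyc.exists_pow_eq hi hj
    exact ⟨c ^ l, hT (Subgroup.pow_mem _ (Subgroup.mem_zpowers c) l), hl⟩

end Inputs

section NumB

theorem v2_pow_sub_one_of_mod4 (q : ℕ) (hq : q % 4 = 1) (hq1 : 1 < q) (j : ℕ) (hj : j ≠ 0) :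
    padicValNat 2 (q ^ j - 1) = padicValNat 2 (q - 1) + padicValNat 2 j := by
  haveI : Fact (Nat.Prime 2) := ⟨Nat.prime_two⟩
  have hx : ¬ 2 ∣ q := by omega
  have h1 := padicValNat.pow_two_sub_one hq1 hx (n := 2 * j) (by omega) ⟨j, by ring⟩
  have hqj : q ^ j % 4 = 1 := by
    rw [Nat.pow_mod, hq]; simp
  have hqj1 : 1 < q ^ j := Nat.one_lt_pow hj hq1
  have hfac : q ^ (2 * j) - 1 = (q ^ j - 1) * (q ^ j + 1) := by
    have : q ^ (2 * j) = q ^ j * q ^ j := by rw [two_mul, pow_add]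
    rw [this]
    have h := Nat.sq_sub_sq (q ^ j) 1
    rw [one_pow, pow_two] at h
    rw [h, mul_comm]
  have hplus : ∀ x : ℕ, x % 4 = 1 → padicValNat 2 (x + 1) = 1 := by
    intro x hx4
    have e : x + 1 = 2 * (2 * (x / 4) + 1) := by omega
    rw [e, padicValNat.mul (by norm_num) (by omega), padicValNat_self,
      padicValNat.eq_zero_of_not_dvd (by omega)]
  rw [hfac, padicValNat.mul (by omega) (by omega), hplus _ hqj, hplus _ hq,
    padicValNat.mul (by norm_num) hj, padicValNat_self] at h1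
  omega

theorem v2_sum_mod1 (q : ℕ) (hq : q % 4 = 1) (hq1 : 1 < q) (n : ℕ) :
    ∑ j ∈ Finset.range n, padicValNat 2 (q ^ (j + 1) - 1) =
      padicValNat 2 (q - 1) * n + padicValNat 2 n ! := by
  haveI : Fact (Nat.Prime 2) := ⟨Nat.prime_two⟩
  induction n with
  | zero => simp
  | succ n ih =>
    rw [Finset.sum_range_succ, ih, v2_pow_sub_one_of_mod4 q hq hq1 (n + 1) (by omega),
      Nat.factorial_succ, padicValNat.mul (by omega) (Nat.factorial_ne_zero n)]
    ring

theorem v2_card_sl_mod1 {F : Type*} [Field F] [Fintype F] (hq : 4 ∣ Fintype.card F - 1) (n : ℕ)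
    (hn : 1 ≤ n) :
    padicValNat 2 (Nat.card (Matrix.SpecialLinearGroup (Fin n) F)) +
      padicValNat 2 (Fintype.card F - 1) =
      padicValNat 2 (Fintype.card F - 1) * n + padicValNat 2 n ! := by
  classical
  haveI : Fact (Nat.Prime 2) := ⟨Nat.prime_two⟩
  have hq1 : 1 < Fintype.card F := Fintype.one_lt_card
  have hq3 : Fintype.card F % 4 = 1 := by omega
  have hodd : Odd (Fintype.card F) := by rw [Nat.odd_iff]; omega
  have h1 := Cfsg.Agent.Lib.helper14.card_GL_eq_card_SL_mul (F := F) n (by omega)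
  have h2 : padicValNat 2 (Nat.card (GL (Fin n) F)) =
      padicValNat 2 (Fintype.card F - 1) * n + padicValNat 2 n ! := by
    rw [Matrix.card_GL_field,
      Fin.prod_univ_eq_prod_range (fun i => Fintype.card F ^ n - Fintype.card F ^ i) n,
      v2_prod_gl _ hq1 hodd n n le_rfl, ← v2_sum_mod1 _ hq3 hq1 n,
      ← Finset.sum_range_reflect (fun j => padicValNat 2 (Fintype.card F ^ (j + 1) - 1))]
    apply Finset.sum_congr rfl
    intro i hi
    rw [Finset.mem_range] at hi
    congr 3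
    omega
  rw [h1, padicValNat.mul (Nat.card_pos.ne') (Nat.card_pos.ne'),
    Nat.card_eq_fintype_card (α := Fˣ), Fintype.card_units] at h2
  exact h2

end NumB

end Cfsg.Agent.Lib.Helper5.SymSyl
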