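import Mathlib
import Cfsg.Agent.Lib.Helper5.GLSylN

set_option autoImplicit false

namespace Cfsg.Agent.Lib.Helper5.SymSyl

open scoped commutatorElement MatrixGroups Nat

section FinalB

variable {F : Type*} [Field F] [Fintype F]

theorem exists_genSq_sylow_sl_B (hq : 4 ∣ Fintype.card F - 1) (n k : ℕ) (hk : 1 ≤ k)
    (hnk : n = 2 ^ k) :
    ∃ P : Subgroup (Matrix.SpecialLinearGroup (Fin n) F),
      Nat.card P = 2 ^ (Nat.card (Matrix.SpecialLinearGroup (Fin n) F)).factorization 2 ∧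
        GenSq 2 P := by
  classical
  haveI : Fact (Nat.Prime 2) := ⟨Nat.prime_two⟩
  subst hnk
  have hn : 1 ≤ 2 ^ k := Nat.one_le_two_pow
  obtain ⟨μ, hμcard, hμmax, hneg, η, hη, hηη⟩ := exists_mu (F := F) hq
  obtain ⟨T, hTcard, hTgen, htrans⟩ := exists_trans_sylow_perm k hk
  obtain ⟨K, hKker, hKp, hKcard, hKgen⟩ := caseB_main (F := F) (2 ^ k) hn μ _ hμcard hμmax hneg
    η hη hηη T _ hTcard hTgen htrans
  set ψ := slToGL (F := F) (Equiv.refl (Fin (2 ^ k))) with hψ
  have hψinj : Function.Injective ψ := slToGL_injective _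
  have hKr : K ≤ ψ.range := hKker.trans (ker_det_le_range_slToGL _)
  refine ⟨K.comap ψ, ?_, genSq_comap_of_injective ψ hψinj K hKr hKgen⟩
  have hcard := card_comap_of_injective' ψ hψinj K hKr
  have hPp : IsPGroup 2 (K.comap ψ) := hKp.comap_of_injective ψ hψinj
  rw [Nat.factorization_def _ Nat.prime_two]
  apply card_eq_of_pgroup _ hPp _ (Nat.card_pos.ne') (Subgroup.card_subgroup_dvd_card _)
  rw [hcard]
  have h1 := v2_card_sl_mod1 (F := F) hq (2 ^ k) hn
  rw [← h1, pow_add, mul_comm] at hKcard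
  exact Nat.le_of_mul_le_mul_left hKcard (by positivity)

end FinalB

end Cfsg.Agent.Lib.Helper5.SymSyl
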