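import Mathlib
import Cfsg.Agent.Lib.Helper16.Char2H
set_option autoImplicit false
set_option linter.unusedSectionVars false
set_option linter.unusedVariables false

namespace Cfsg.Agent.Lib.Helper5.H1O

open Matrix Cfsg.Agent.Lib.helper6 Cfsg.Agent.Lib.Helper16
open scoped commutatorElement

variable {ι : Type} [Fintype ι] [DecidableEq ι]

theorem z2_cases (a : ZMod 2) : a = 0 ∨ a = 1 := by
  revert a; decide

theorem z2_ne_zero {a : ZMod 2} (h : a ≠ 0) : a = 1 := by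
  rcases z2_cases a with h' | h'
  · exact absurd h' h
  · exact h'

theorem z2_add_self (a : ZMod 2) : a + a = 0 := by
  rcases z2_cases a with h | h <;> subst h <;> decide

theorem v_add_self (x : ι → ZMod 2) : x + x = 0 := by
  funext i
  exact z2_add_self (x i)

variable (Q : QuadraticForm (ZMod 2) (ι → ZMod 2))

/-- the action of an isometry on a vector -/
def act (g : ↥(Cfsg.isometryGroup (ZMod 2) ⇑Q)) (x : ι → ZMod 2) : ι → ZMod 2 :=
  ((g : GL ι (ZMod 2)) : Matrix ι ι (ZMod 2)) *ᵥ x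

theorem act_mul (g h : ↥(Cfsg.isometryGroup (ZMod 2) ⇑Q)) (x : ι → ZMod 2) :
    act Q (g * h) x = act Q g (act Q h x) := CDG.mul_mulVec Q g h x

theorem act_one (x : ι → ZMod 2) : act Q 1 x = x := by
  unfold act
  show (1 : Matrix ι ι (ZMod 2)) *ᵥ x = x
  rw [Matrix.one_mulVec]

theorem act_add (g : ↥(Cfsg.isometryGroup (ZMod 2) ⇑Q)) (x y : ι → ZMod 2) :
    act Q g (x + y) = act Q g x + act Q g y := Matrix.mulVec_add _ _ _

theorem act_smul (g : ↥(Cfsg.isometryGroup (ZMod 2) ⇑Q)) (c : ZMod 2) (x : ι → ZMod 2) :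
    act Q g (c • x) = c • act Q g x := Matrix.mulVec_smul _ _ _

theorem act_zero (g : ↥(Cfsg.isometryGroup (ZMod 2) ⇑Q)) : act Q g 0 = 0 := Matrix.mulVec_zero _

theorem act_inv_act (g : ↥(Cfsg.isometryGroup (ZMod 2) ⇑Q)) (x : ι → ZMod 2) :
    act Q g⁻¹ (act Q g x) = x := by
  rw [← act_mul, inv_mul_cancel, act_one]

theorem act_act_inv (g : ↥(Cfsg.isometryGroup (ZMod 2) ⇑Q)) (x : ι → ZMod 2) :
    act Q g (act Q g⁻¹ x) = x := by
  rw [← act_mul, mul_inv_cancel, act_one]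

theorem Q_act (g : ↥(Cfsg.isometryGroup (ZMod 2) ⇑Q)) (x : ι → ZMod 2) :
    Q (act Q g x) = Q x := iso_pres (⇑Q) g x

theorem B_act (g : ↥(Cfsg.isometryGroup (ZMod 2) ⇑Q)) (x y : ι → ZMod 2) :
    QuadraticMap.polar (⇑Q) (act Q g x) (act Q g y) = QuadraticMap.polar (⇑Q) x y :=
  CDG.polar_iso Q g x y

theorem B_act_left (g : ↥(Cfsg.isometryGroup (ZMod 2) ⇑Q)) (x y : ι → ZMod 2) :
    QuadraticMap.polar (⇑Q) (act Q g x) y = QuadraticMap.polar (⇑Q) x (act Q g⁻¹ y) := by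
  rw [← B_act Q g x (act Q g⁻¹ y), act_act_inv]

theorem B_self (x : ι → ZMod 2) : QuadraticMap.polar (⇑Q) x x = 0 := C2.polar_self2 Q x

theorem iso_ext_act (g h : ↥(Cfsg.isometryGroup (ZMod 2) ⇑Q))
    (hgh : ∀ x, act Q g x = act Q h x) : g = h := by
  apply CDG.iso_ext
  rw [Matrix.ext_iff_mulVec]
  exact hgh

/-- total transvection -/
noncomputable def tt (u : ι → ZMod 2) : ↥(Cfsg.isometryGroup (ZMod 2) ⇑Q) :=
  if h : Q u ≠ 0 then CDG.refl Q u h else 1

theorem act_tt (u : ι → ZMod 2) (hu : Q u = 1) (x : ι → ZMod 2) :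
    act Q (tt Q u) x = x + QuadraticMap.polar (⇑Q) u x • u := by
  have h : Q u ≠ 0 := by rw [hu]; exact one_ne_zero
  unfold tt act
  rw [dif_pos h, CDG.refl_coe, reflectionMatrix_mulVec, hu, inv_one, one_mul]
  funext i
  simp only [Pi.sub_apply, Pi.add_apply, Pi.smul_apply, smul_eq_mul]
  have := z2_add_self (QuadraticMap.polar (⇑Q) u x * u i)
  linear_combination (-1 : ZMod 2) * this

theorem tt_mem_Rset (u : ι → ZMod 2) (hu : Q u = 1) : tt Q u ∈ CDG.Rset Q := by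
  have h : Q u ≠ 0 := by rw [hu]; exact one_ne_zero
  unfold tt
  rw [dif_pos h]
  exact CDG.refl_mem Q u h

theorem Rset_eq_tt (r : ↥(Cfsg.isometryGroup (ZMod 2) ⇑Q)) (hr : r ∈ CDG.Rset Q) :
    ∃ u, Q u = 1 ∧ r = tt Q u := by
  obtain ⟨u, hu, hru⟩ := hr
  refine ⟨u, z2_ne_zero hu, ?_⟩
  apply CDG.iso_ext
  rw [hru]
  unfold tt
  rw [dif_pos hu, CDG.refl_coe]

theorem tt_mul_self (u : ι → ZMod 2) (hu : Q u = 1) : tt Q u * tt Q u = 1 :=
  CDG.Rset_sq Q _ (tt_mem_Rset Q u hu)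

theorem tt_inv (u : ι → ZMod 2) (hu : Q u = 1) : (tt Q u)⁻¹ = tt Q u :=
  CDG.Rset_inv Q _ (tt_mem_Rset Q u hu)

theorem conj_tt (g : ↥(Cfsg.isometryGroup (ZMod 2) ⇑Q)) (u : ι → ZMod 2) (hu : Q u = 1) :
    g * tt Q u * g⁻¹ = tt Q (act Q g u) := by
  apply iso_ext_act
  intro x
  have hgu : Q (act Q g u) = 1 := by rw [Q_act, hu]
  rw [act_mul, act_mul, act_tt Q u hu, act_tt Q _ hgu, act_add, act_act_inv, act_smul,
    B_act_left]

/-- validity of a pair -/
def Valid (u w : ι → ZMod 2) : Prop :=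
  Q u = 1 ∧ Q w = 1 ∧ QuadraticMap.polar (⇑Q) u w = 1

theorem Valid.symm {u w : ι → ZMod 2} (h : Valid Q u w) : Valid Q w u :=
  ⟨h.2.1, h.1, by rw [QuadraticMap.polar_comm]; exact h.2.2⟩

theorem Q_add_valid {u w : ι → ZMod 2} (h : Valid Q u w) : Q (u + w) = 1 := by
  have := QuadraticMap.map_add (⇑Q) u w
  rw [this, h.1, h.2.1, h.2.2]
  decide

theorem Valid.rot {u w : ι → ZMod 2} (h : Valid Q u w) : Valid Q w (u + w) := by
  refine ⟨h.2.1, Q_add_valid Q h, ?_⟩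
  rw [QuadraticMap.polar_add_right, B_self, add_zero, QuadraticMap.polar_comm]
  exact h.2.2

theorem Valid.act {u w : ι → ZMod 2} (h : Valid Q u w) (g : ↥(Cfsg.isometryGroup (ZMod 2) ⇑Q)) :
    Valid Q (act Q g u) (act Q g w) :=
  ⟨by rw [Q_act]; exact h.1, by rw [Q_act]; exact h.2.1, by rw [B_act]; exact h.2.2⟩

/-- product of two transvections -/
noncomputable def dd (u w : ι → ZMod 2) : ↥(Cfsg.isometryGroup (ZMod 2) ⇑Q) := tt Q u * tt Q w

theorem act_dd {u w : ι → ZMod 2} (h : Valid Q u w) (x : ι → ZMod 2) :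
    act Q (dd Q u w) x = x + QuadraticMap.polar (⇑Q) w x • w +
      (QuadraticMap.polar (⇑Q) u x + QuadraticMap.polar (⇑Q) w x) • u := by
  unfold dd
  rw [act_mul, act_tt Q w h.2.1, act_tt Q u h.1, QuadraticMap.polar_add_right,
    QuadraticMap.polar_smul_right, h.2.2, smul_eq_mul, mul_one]

theorem tt_act_tt {u w : ι → ZMod 2} (h : Valid Q u w) : act Q (tt Q u) w = u + w := by
  rw [act_tt Q u h.1, h.2.2, one_smul, add_comm]

theorem braid {u w : ι → ZMod 2} (h : Valid Q u w) :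
    tt Q u * tt Q w * tt Q u = tt Q (u + w) := by
  have := conj_tt Q (tt Q u) w h.2.1
  rw [tt_inv Q u h.1, tt_act_tt Q h] at this
  exact this

theorem dd_rot {u w : ι → ZMod 2} (h : Valid Q u w) : dd Q u w = dd Q w (u + w) := by
  unfold dd
  have h1 := braid Q h.symm
  rw [add_comm] at h1
  rw [← h1, ← mul_assoc, ← mul_assoc, tt_mul_self Q w h.2.1, one_mul]

theorem dd_inv {u w : ι → ZMod 2} (h : Valid Q u w) : (dd Q u w)⁻¹ = dd Q w u := by
  unfold dd
  rw [_root_.mul_inv_rev, tt_inv Q u h.1, tt_inv Q w h.2.1]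

theorem dd_cube {u w : ι → ZMod 2} (h : Valid Q u w) :
    dd Q u w * dd Q u w * dd Q u w = 1 := by
  unfold dd
  have h1 := braid Q h
  have h2 := braid Q h.symm
  rw [add_comm] at h2
  have : tt Q u * tt Q w * (tt Q u * tt Q w) * (tt Q u * tt Q w)
      = (tt Q u * tt Q w * tt Q u) * (tt Q w * tt Q u * tt Q w) := by group
  rw [this, h1, h2, tt_mul_self Q _ (Q_add_valid Q h)]

theorem dd_tri {u w w' : ι → ZMod 2} (hw : Q w = 1) :
    dd Q u w' = dd Q u w * dd Q w w' := by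
  unfold dd
  have : tt Q u * tt Q w * (tt Q w * tt Q w') = tt Q u * (tt Q w * tt Q w) * tt Q w' := by group
  rw [this, tt_mul_self Q w hw, mul_one]

theorem dd_mem_comm {u w : ι → ZMod 2} (h : Valid Q u w) :
    dd Q u w ∈ commutator ↥(Cfsg.isometryGroup (ZMod 2) ⇑Q) := by
  -- dd = ⁅tt w, tt u⁆
  have h1 : dd Q u w = ⁅tt Q w, tt Q u⁆ := by
    rw [commutatorElement_def, tt_inv Q w h.2.1, tt_inv Q u h.1]
    have h3 := dd_cube Q h
    unfold dd at h3 ⊢
    have h4 : tt Q u * tt Q w = (tt Q u * tt Q w * (tt Q u * tt Q w))⁻¹ :=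
      eq_inv_of_mul_eq_one_left (by rw [← mul_assoc]; exact h3)
    rw [h4, _root_.mul_inv_rev, _root_.mul_inv_rev, tt_inv Q w h.2.1, tt_inv Q u h.1]
    group
  rw [h1]
  exact Subgroup.commutator_mem_commutator (Subgroup.mem_top _) (Subgroup.mem_top _)

/-- the generating set -/
def DD : Set ↥(Cfsg.isometryGroup (ZMod 2) ⇑Q) := {g | ∃ u w, Valid Q u w ∧ g = dd Q u w}

theorem closure_DD_le : Subgroup.closure (DD Q) ≤ commutator ↥(Cfsg.isometryGroup (ZMod 2) ⇑Q) := by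
  rw [Subgroup.closure_le]
  rintro g ⟨u, w, h, rfl⟩
  exact dd_mem_comm Q h

theorem conj_dd (g : ↥(Cfsg.isometryGroup (ZMod 2) ⇑Q)) {u w : ι → ZMod 2} (h : Valid Q u w) :
    g * dd Q u w * g⁻¹ = dd Q (act Q g u) (act Q g w) := by
  unfold dd
  rw [← conj_tt Q g u h.1, ← conj_tt Q g w h.2.1]
  group

instance closure_DD_normal : (Subgroup.closure (DD Q)).Normal := by
  have : Subgroup.closure (DD Q) = Subgroup.normalClosure (DD Q) := by
    apply le_antisymm Subgroup.closure_le_normalClosure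
    unfold Subgroup.normalClosure
    rw [Subgroup.closure_le]
    intro x hx
    rw [Group.mem_conjugatesOfSet_iff] at hx
    obtain ⟨a, ⟨u, w, h, rfl⟩, hc⟩ := hx
    obtain ⟨c, hc⟩ := isConj_iff.mp hc
    apply Subgroup.subset_closure
    refine ⟨act Q c u, act Q c w, h.act Q c, ?_⟩
    rw [← hc, conj_dd Q c h]
  rw [this]
  exact Subgroup.normalClosure_normal

end Cfsg.Agent.Lib.Helper5.H1O
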