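import Mathlib
import Cfsg.Agent.Lib.Helper5.H1OA
set_option autoImplicit false
set_option linter.unusedSectionVars false
set_option linter.unusedVariables false

namespace Cfsg.Agent.Lib.Helper5.H1O

open Matrix Cfsg.Agent.Lib.helper6 Cfsg.Agent.Lib.Helper16
open scoped commutatorElement

variable {ι : Type} [Fintype ι] [DecidableEq ι]
variable (Q : QuadraticForm (ZMod 2) (ι → ZMod 2))

/-- the `mid` property -/
def Mid : Prop := ∀ u u' : ι → ZMod 2, Q u = 1 → Q u' = 1 → u' ≠ u →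
    QuadraticMap.polar (⇑Q) u' u = 0 →
    ∃ w, Q w = 1 ∧ QuadraticMap.polar (⇑Q) w u = 1 ∧ QuadraticMap.polar (⇑Q) u' w = 1

theorem trans_nonsing (hmid : Mid Q) (u u' : ι → ZMod 2) (hu : Q u = 1) (hu' : Q u' = 1) :
    ∃ t ∈ Subgroup.closure (CDG.Rset Q), act Q t u' = u := by
  have hQuu : Q u' = Q u := by rw [hu, hu']
  by_cases hB : QuadraticMap.polar (⇑Q) u' u ≠ 0
  · obtain ⟨t, ht, htu, _⟩ := C2.move_one' Q ⊤ u u' Submodule.mem_top hQuu hB
    exact ⟨t, ht, htu⟩
  · push Not at hB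
    by_cases hne : u' = u
    · refine ⟨1, Subgroup.one_mem _, ?_⟩
      rw [hne, act_one]
    · obtain ⟨w, hw1, hw2, hw3⟩ := hmid u u' hu hu' hne hB
      have hw1' : Q w = Q u := by rw [hw1, hu]
      obtain ⟨t, ht, htu, _⟩ := C2.move_two' Q ⊤ u u' w Submodule.mem_top Submodule.mem_top hQuu hw1'
        (by rw [hw2]; exact one_ne_zero) (by rw [hw3]; exact one_ne_zero)
      exact ⟨t, ht, htu⟩

theorem generation (hQ : (QuadraticMap.polarBilin Q).Nondegenerate) (hmid : Mid Q)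
    (v0 : ι → ZMod 2) (hv0 : Q v0 = 1) :
    Subgroup.closure (CDG.Rset Q) = ⊤ := by
  rw [eq_top_iff]
  intro g _
  have hv : Q v0 ≠ 0 := by rw [hv0]; exact one_ne_zero
  have hQu' : Q (act Q g v0) = 1 := by rw [Q_act, hv0]
  obtain ⟨t, ht, htu⟩ := trans_nonsing Q hmid v0 (act Q g v0) hv0 hQu'
  have h1 : t * g ∈ Subgroup.closure (CDG.Rset Q) := by
    apply C2.stab_mem_closure Q hQ v0 hv
    have := act_mul Q t g v0
    unfold act at this htu
    rw [this, htu]
  have : g = t⁻¹ * (t * g) := by group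
  rw [this]
  exact Subgroup.mul_mem _ (Subgroup.inv_mem _ ht) h1

theorem tt_mul_tt_mem (hmid : Mid Q) (u w : ι → ZMod 2) (hu : Q u = 1) (hw : Q w = 1) :
    tt Q u * tt Q w ∈ Subgroup.closure (DD Q) := by
  by_cases hne : u = w
  · rw [hne, tt_mul_self Q w hw]
    exact Subgroup.one_mem _
  · rcases z2_cases (QuadraticMap.polar (⇑Q) u w) with hB | hB
    · obtain ⟨x, hx1, hx2, hx3⟩ := hmid w u hw hu hne hB
      have h1 : Valid Q u x := ⟨hu, hx1, hx3⟩
      have h2 : Valid Q x w := ⟨hx1, hw, hx2⟩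
      have : tt Q u * tt Q w = dd Q u x * dd Q x w := dd_tri Q hx1
      rw [this]
      exact Subgroup.mul_mem _ (Subgroup.subset_closure ⟨u, x, h1, rfl⟩)
        (Subgroup.subset_closure ⟨x, w, h2, rfl⟩)
    · exact Subgroup.subset_closure ⟨u, w, ⟨hu, hw, hB⟩, rfl⟩

theorem mem_or (hgen : Subgroup.closure (CDG.Rset Q) = ⊤) (hmid : Mid Q)
    (v0 : ι → ZMod 2) (hv0 : Q v0 = 1) (g : ↥(Cfsg.isometryGroup (ZMod 2) ⇑Q)) :
    g ∈ Subgroup.closure (DD Q) ∨ g * tt Q v0 ∈ Subgroup.closure (DD Q) := by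
  have hg : g ∈ Subgroup.closure (CDG.Rset Q) := by rw [hgen]; exact Subgroup.mem_top _
  have hN := closure_DD_normal Q
  have hc : ∀ k, k ∈ Subgroup.closure (DD Q) → tt Q v0 * k * tt Q v0 ∈ Subgroup.closure (DD Q) := by
    intro k hk
    have := hN.conj_mem k hk (tt Q v0)
    rw [tt_inv Q v0 hv0] at this
    exact this
  induction hg using Subgroup.closure_induction with
  | mem r hr =>
    obtain ⟨u, hu, rfl⟩ := Rset_eq_tt Q r hr
    right
    exact tt_mul_tt_mem Q hmid u v0 hu hv0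
  | one => left; exact Subgroup.one_mem _
  | mul a b _ _ iha ihb =>
    rcases iha with ha | ha <;> rcases ihb with hb | hb
    · left; exact Subgroup.mul_mem _ ha hb
    · right; rw [mul_assoc]; exact Subgroup.mul_mem _ ha hb
    · right
      have : a * b * tt Q v0 = (a * tt Q v0) * (tt Q v0 * b * tt Q v0) := by
        have h1 := tt_mul_self Q v0 hv0
        calc a * b * tt Q v0 = a * (1 * b) * tt Q v0 := by rw [one_mul]
          _ = a * (tt Q v0 * tt Q v0 * b) * tt Q v0 := by rw [h1]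
          _ = _ := by group
      rw [this]
      exact Subgroup.mul_mem _ ha (hc b hb)
    · left
      have : a * b = (a * tt Q v0) * (tt Q v0 * (b * tt Q v0) * tt Q v0) := by
        have h1 := tt_mul_self Q v0 hv0
        calc a * b = a * (1 * b * 1) := by rw [one_mul, mul_one]
          _ = a * (tt Q v0 * tt Q v0 * b * (tt Q v0 * tt Q v0)) := by rw [h1]
          _ = _ := by group
      rw [this]
      exact Subgroup.mul_mem _ ha (hc _ hb)
  | inv a _ iha =>
    rcases iha with ha | ha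
    · left; exact Subgroup.inv_mem _ ha
    · right
      have : a⁻¹ * tt Q v0 = tt Q v0 * (a * tt Q v0)⁻¹ * tt Q v0 := by
        rw [_root_.mul_inv_rev, tt_inv Q v0 hv0]
        have h1 := tt_mul_self Q v0 hv0
        calc a⁻¹ * tt Q v0 = 1 * a⁻¹ * tt Q v0 := by rw [one_mul]
          _ = tt Q v0 * tt Q v0 * a⁻¹ * tt Q v0 := by rw [h1]
          _ = _ := by group
      rw [this]
      exact hc _ (Subgroup.inv_mem _ ha)

theorem sq_mem (hgen : Subgroup.closure (CDG.Rset Q) = ⊤) (hmid : Mid Q)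
    (v0 : ι → ZMod 2) (hv0 : Q v0 = 1) (g : ↥(Cfsg.isometryGroup (ZMod 2) ⇑Q)) :
    g * g ∈ Subgroup.closure (DD Q) := by
  have hN := closure_DD_normal Q
  rcases mem_or Q hgen hmid v0 hv0 g with hg | hg
  · exact Subgroup.mul_mem _ hg hg
  · have h2 := hN.conj_mem _ hg (tt Q v0)
    rw [tt_inv Q v0 hv0] at h2
    have : g * g = (g * tt Q v0) * (tt Q v0 * (g * tt Q v0) * tt Q v0) := by
      have h1 := tt_mul_self Q v0 hv0
      calc g * g = g * (1 * g * 1) := by rw [one_mul, mul_one]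
        _ = g * (tt Q v0 * tt Q v0 * g * (tt Q v0 * tt Q v0)) := by rw [h1]
        _ = _ := by group
    rw [this]
    exact Subgroup.mul_mem _ hg h2

theorem omega_eq (hgen : Subgroup.closure (CDG.Rset Q) = ⊤) (hmid : Mid Q)
    (v0 : ι → ZMod 2) (hv0 : Q v0 = 1) :
    commutator ↥(Cfsg.isometryGroup (ZMod 2) ⇑Q) = Subgroup.closure (DD Q) := by
  apply le_antisymm _ (closure_DD_le Q)
  rw [commutator_def, Subgroup.commutator_le]
  intro g _ h _
  have hN := closure_DD_normal Q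
  have e : ⁅g, h⁆ = (g * h) * (g * h) * (h⁻¹ * (g⁻¹ * g⁻¹) * h⁻¹⁻¹) * (h⁻¹ * h⁻¹) := by
    rw [commutatorElement_def]; group
  rw [e]
  exact Subgroup.mul_mem _ (Subgroup.mul_mem _ (sq_mem Q hgen hmid v0 hv0 _)
    (hN.conj_mem _ (sq_mem Q hgen hmid v0 hv0 _) _)) (sq_mem Q hgen hmid v0 hv0 _)

end Cfsg.Agent.Lib.Helper5.H1O
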