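import Mathlib
import Cfsg.Agent.Lib.Helper5.H1OB
set_option autoImplicit false
set_option linter.unusedSectionVars false
set_option linter.unusedVariables false

namespace Cfsg.Agent.Lib.Helper5.H1O

open Matrix Cfsg.Agent.Lib.helper6 Cfsg.Agent.Lib.Helper16
open scoped commutatorElement

variable {ι : Type} [Fintype ι] [DecidableEq ι]
variable (Q : QuadraticForm (ZMod 2) (ι → ZMod 2))


theorem v_add_cancel {x y : ι → ZMod 2} (h : x + y = 0) : x = y := by
  have : x = x + (y + y) := by rw [v_add_self, add_zero]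
  rw [this, ← add_assoc, h, zero_add]

theorem v_sub_eq_add (x y : ι → ZMod 2) : x - y = x + y := by
  have : -y = y := by
    apply neg_eq_of_add_eq_zero_left
    exact v_add_self y
  rw [sub_eq_add_neg, this]

theorem z_add_cancel {a b : ZMod 2} (h : a + b = 0) : a = b := by
  revert a b; decide

/-- orbit sum of the order three element -/
theorem sum_orbit {u w : ι → ZMod 2} (h : Valid Q u w) (x : ι → ZMod 2) :
    x + act Q (dd Q u w) x + act Q (dd Q u w) (act Q (dd Q u w) x)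
      = x + QuadraticMap.polar (⇑Q) u x • w + QuadraticMap.polar (⇑Q) w x • u := by
  have hwu : QuadraticMap.polar (⇑Q) w u = 1 := by rw [QuadraticMap.polar_comm]; exact h.2.2
  rw [act_dd Q h (act Q (dd Q u w) x), act_dd Q h x]
  simp only [QuadraticMap.polar_add_right, QuadraticMap.polar_smul_right, B_self, h.2.2, hwu,
    smul_eq_mul, mul_zero, mul_one, add_zero]
  funext i
  simp only [Pi.add_apply, Pi.smul_apply, smul_eq_mul]
  generalize QuadraticMap.polar (⇑Q) u x = p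
  generalize QuadraticMap.polar (⇑Q) w x = q
  generalize x i = a
  generalize u i = b
  generalize w i = c
  revert p q a b c
  decide

theorem act_dd_fst {u w : ι → ZMod 2} (h : Valid Q u w) : act Q (dd Q u w) u = w := by
  have hwu : QuadraticMap.polar (⇑Q) w u = 1 := by rw [QuadraticMap.polar_comm]; exact h.2.2
  rw [act_dd Q h, B_self, hwu, zero_add, one_smul, one_smul, add_assoc, add_comm w u, ← add_assoc,
    v_add_self, zero_add]

theorem act_dd_snd {u w : ι → ZMod 2} (h : Valid Q u w) : act Q (dd Q u w) w = u + w := by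
  rw [act_dd Q h, B_self, h.2.2, zero_smul, add_zero, add_zero, one_smul, add_comm]

section cocycle

variable (f : ↥(commutator ↥(Cfsg.isometryGroup (ZMod 2) ⇑Q)) → (ι → ZMod 2))

/-- extension by zero of the cocycle -/
noncomputable def fx (g : ↥(Cfsg.isometryGroup (ZMod 2) ⇑Q)) : ι → ZMod 2 := by
  classical
  exact if h : g ∈ commutator ↥(Cfsg.isometryGroup (ZMod 2) ⇑Q) then f ⟨g, h⟩ else 0

theorem fx_mem {g : ↥(Cfsg.isometryGroup (ZMod 2) ⇑Q)} (h : g ∈ commutator ↥(Cfsg.isometryGroup (ZMod 2) ⇑Q)) : fx Q f g = f ⟨g, h⟩ := by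
  unfold fx; rw [dif_pos h]

variable (hf : ∀ g h : ↥(commutator ↥(Cfsg.isometryGroup (ZMod 2) ⇑Q)), f (g * h) = f g + act Q (g : ↥(Cfsg.isometryGroup (ZMod 2) ⇑Q)) (f h))
include hf

theorem fx_mul {g h : ↥(Cfsg.isometryGroup (ZMod 2) ⇑Q)} (hg : g ∈ commutator ↥(Cfsg.isometryGroup (ZMod 2) ⇑Q)) (hh : h ∈ commutator ↥(Cfsg.isometryGroup (ZMod 2) ⇑Q)) :
    fx Q f (g * h) = fx Q f g + act Q g (fx Q f h) := by
  rw [fx_mem Q f hg, fx_mem Q f hh, fx_mem Q f (Subgroup.mul_mem _ hg hh)]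
  exact hf ⟨g, hg⟩ ⟨h, hh⟩

theorem fx_one : fx Q f 1 = 0 := by
  have h1 : (1 : ↥(Cfsg.isometryGroup (ZMod 2) ⇑Q)) ∈ commutator ↥(Cfsg.isometryGroup (ZMod 2) ⇑Q) := Subgroup.one_mem _
  have := fx_mul Q f hf h1 h1
  rw [mul_one, act_one] at this
  have h2 : fx Q f 1 + fx Q f 1 = fx Q f 1 + 0 := by rw [add_zero]; exact this.symm
  exact (add_left_cancel h2)

theorem fx_inv {g : ↥(Cfsg.isometryGroup (ZMod 2) ⇑Q)} (hg : g ∈ commutator ↥(Cfsg.isometryGroup (ZMod 2) ⇑Q)) :
    fx Q f g⁻¹ = act Q g⁻¹ (fx Q f g) := by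
  have := fx_mul Q f hf (Subgroup.inv_mem _ hg) hg
  rw [inv_mul_cancel, fx_one Q f hf] at this
  exact v_add_cancel this.symm

/-- value on a generator -/
noncomputable def XX (u w : ι → ZMod 2) : ι → ZMod 2 := fx Q f (dd Q u w)

/-- coefficient of `u` -/
noncomputable def aa (u w : ι → ZMod 2) : ZMod 2 := QuadraticMap.polar (⇑Q) w (XX Q f u w)
/-- coefficient of `w` -/
noncomputable def bb (u w : ι → ZMod 2) : ZMod 2 := QuadraticMap.polar (⇑Q) u (XX Q f u w)

theorem XX_eq {u w : ι → ZMod 2} (h : Valid Q u w) :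
    XX Q f u w = aa Q f u w • u + bb Q f u w • w := by
  have hm := dd_mem_comm Q h
  have h1 := fx_mul Q f hf (Subgroup.mul_mem _ hm hm) hm
  rw [fx_mul Q f hf hm hm, dd_cube Q h, fx_one Q f hf, act_mul] at h1
  have h2 := sum_orbit Q h (XX Q f u w)
  unfold XX at h2 ⊢
  rw [← h1] at h2
  unfold aa bb XX
  have h3 : fx Q f (dd Q u w) + (QuadraticMap.polar (⇑Q) u (fx Q f (dd Q u w)) • w + QuadraticMap.polar (⇑Q) w (fx Q f (dd Q u w)) • u) = 0 := by
    rw [← add_assoc]; exact h2.symm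
  exact (v_add_cancel h3).trans (add_comm _ _)

theorem rot_eq {u w : ι → ZMod 2} (h : Valid Q u w) : XX Q f w (u + w) = XX Q f u w := by
  unfold XX; rw [dd_rot Q h]

theorem bb_rot {u w : ι → ZMod 2} (h : Valid Q u w) : bb Q f w (u + w) = aa Q f u w := by
  unfold bb aa; rw [rot_eq Q f hf h]

theorem aa_rot {u w : ι → ZMod 2} (h : Valid Q u w) :
    aa Q f w (u + w) = aa Q f u w + bb Q f u w := by
  unfold bb aa; rw [rot_eq Q f hf h, QuadraticMap.polar_add_left, add_comm]

theorem rev_eq {u w : ι → ZMod 2} (h : Valid Q u w) :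
    XX Q f w u = act Q (dd Q u w)⁻¹ (XX Q f u w) := by
  unfold XX
  rw [← dd_inv Q h, fx_inv Q f hf (dd_mem_comm Q h)]

theorem aa_rev {u w : ι → ZMod 2} (h : Valid Q u w) : aa Q f w u = aa Q f u w := by
  unfold aa
  rw [rev_eq Q f hf h, ← B_act_left, act_dd_fst Q h]

theorem bb_rev {u w : ι → ZMod 2} (h : Valid Q u w) :
    bb Q f w u = aa Q f u w + bb Q f u w := by
  unfold aa bb
  rw [rev_eq Q f hf h, ← B_act_left, act_dd_snd Q h, QuadraticMap.polar_add_left, add_comm]

end cocycle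

end Cfsg.Agent.Lib.Helper5.H1O
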