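import Mathlib
import Cfsg.Agent.Lib.Helper5.H1OC
set_option autoImplicit false
set_option linter.unusedSectionVars false
set_option linter.unusedVariables false

namespace Cfsg.Agent.Lib.Helper5.H1O

open Matrix Cfsg.Agent.Lib.helper6 Cfsg.Agent.Lib.Helper16
open scoped commutatorElement

variable {ι : Type} [Fintype ι] [DecidableEq ι]
variable (Q : QuadraticForm (ZMod 2) (ι → ZMod 2))

theorem z2_lemma_A : ∀ a₁ b₁ a₀ b₀ a' b' p q r : ZMod 2,
    a₁ * p + b₁ * r = a₀ * p + b₀ * q + (a' * (p + q) + b' * (r + q)) →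
    b₁ = b₀ + a' → a₁ + b₁ = a₀ + (a' + b') → (b₁ + b') * (p + q + r) = 0 := by decide

/-- the extension property -/
def Ext : Prop := ∀ L : (ι → ZMod 2) → ZMod 2,
  (∀ x y, Valid Q x y → L x + L y = L (x + y)) →
  ∃ v : ι → ZMod 2, ∀ z, Q z = 1 → QuadraticMap.polar (⇑Q) v z = L z

section cocycle

variable (f : ↥(commutator ↥(Cfsg.isometryGroup (ZMod 2) ⇑Q)) → (ι → ZMod 2))
variable (hf : ∀ g h : ↥(commutator ↥(Cfsg.isometryGroup (ZMod 2) ⇑Q)), f (g * h) = f g + act Q (g : ↥(Cfsg.isometryGroup (ZMod 2) ⇑Q)) (f h))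
include hf

theorem tri_eq {u w w' : ι → ZMod 2} (h1 : Valid Q u w) (h2 : Valid Q w w') :
    XX Q f u w' = XX Q f u w + act Q (dd Q u w) (XX Q f w w') := by
  unfold XX
  rw [dd_tri Q (u := u) (w' := w') h1.2.1]
  exact fx_mul Q f hf (dd_mem_comm Q h1) (dd_mem_comm Q h2)

theorem bb_caseA {x x' y : ι → ZMod 2} (h1 : Valid Q x x') (h2 : Valid Q x' y) (h3 : Valid Q x y)
    (hne : y ≠ x + x') : bb Q f x y = bb Q f x' y := by
  have E := tri_eq Q f hf h1 h2
  have hx'x : QuadraticMap.polar (⇑Q) x' x = 1 := by rw [QuadraticMap.polar_comm]; exact h1.2.2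
  have hyx : QuadraticMap.polar (⇑Q) y x = 1 := by rw [QuadraticMap.polar_comm]; exact h3.2.2
  have hyx' : QuadraticMap.polar (⇑Q) y x' = 1 := by rw [QuadraticMap.polar_comm]; exact h2.2.2
  have hdy : act Q (dd Q x x') y = y + x' := by
    rw [act_dd Q h1, h2.2.2, h3.2.2, one_smul]
    have : (1 : ZMod 2) + 1 = 0 := by decide
    rw [this, zero_smul, add_zero]
  rw [XX_eq Q f hf h3, XX_eq Q f hf h1, XX_eq Q f hf h2, act_add, act_smul, act_smul,
    act_dd_snd Q h1, hdy] at E
  -- pairings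
  have P1 := congrArg (QuadraticMap.polar (⇑Q) x) E
  have P2 := congrArg (QuadraticMap.polar (⇑Q) x') E
  have h11 : (1 : ZMod 2) + 1 = 0 := by decide
  simp only [QuadraticMap.polar_add_right, QuadraticMap.polar_smul_right, B_self, h1.2.2, h2.2.2,
    h3.2.2, hx'x, smul_eq_mul, mul_zero, mul_one, add_zero, zero_add, h11] at P1 P2
  by_contra hcon
  have hc : bb Q f x y + bb Q f x' y = 1 := by
    rcases z2_cases (bb Q f x y + bb Q f x' y) with h | h
    · exact absurd (z_add_cancel h) hcon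
    · exact h
  apply hne
  funext i
  have Ei := congrFun E i
  simp only [Pi.add_apply, Pi.smul_apply, smul_eq_mul] at Ei
  have := z2_lemma_A _ _ _ _ _ _ _ _ _ Ei P1 P2
  rw [hc, one_mul] at this
  simp only [Pi.add_apply]
  have h4 : y i = y i + (x i + x' i + y i) := by rw [this, add_zero]
  rw [h4]
  have := z2_add_self (y i)
  linear_combination this

theorem bb_caseB {x x' : ι → ZMod 2} (h1 : Valid Q x x') :
    bb Q f x (x + x') = bb Q f x' (x + x') := by
  rw [bb_rot Q f hf h1]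
  have := bb_rot Q f hf h1.symm
  rw [add_comm] at this
  rw [this, aa_rev Q f hf h1]

theorem bb_shift {x' y : ι → ZMod 2} (h : Valid Q x' y) :
    bb Q f (x' + y) y = bb Q f x' y := by
  rw [bb_rev Q f hf h.rot, aa_rot Q f hf h, bb_rot Q f hf h]
  have := z2_add_self (aa Q f x' y)
  linear_combination this

theorem bb_wd1 {x x' y : ι → ZMod 2} (h1 : Valid Q x y) (h2 : Valid Q x' y)
    (hB : QuadraticMap.polar (⇑Q) x x' = 1) : bb Q f x y = bb Q f x' y := by
  have hv : Valid Q x x' := ⟨h1.1, h2.1, hB⟩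
  by_cases hy : y = x + x'
  · subst hy
    exact bb_caseB Q f hf hv
  · exact bb_caseA Q f hf hv h2 h1 hy

theorem bb_wd {x x' y : ι → ZMod 2} (h1 : Valid Q x y) (h2 : Valid Q x' y) :
    bb Q f x y = bb Q f x' y := by
  rcases z2_cases (QuadraticMap.polar (⇑Q) x x') with hB | hB
  · have hv'' : Valid Q (x' + y) y := by
      refine ⟨Q_add_valid Q h2, h2.2.1, ?_⟩
      rw [QuadraticMap.polar_add_left, B_self, add_zero]
      exact h2.2.2
    have hB'' : QuadraticMap.polar (⇑Q) x (x' + y) = 1 := by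
      rw [QuadraticMap.polar_add_right, hB, h1.2.2, zero_add]
    rw [bb_wd1 Q f hf h1 hv'' hB'', bb_shift Q f hf h2]
  · exact bb_wd1 Q f hf h1 h2 hB

/-- the functional on nonsingular vectors -/
noncomputable def Lam (y : ι → ZMod 2) : ZMod 2 := by
  classical
  exact if h : ∃ x, Valid Q x y then bb Q f (Classical.choose h) y else 0

omit hf in
theorem Lam_def {y : ι → ZMod 2} (h : ∃ x, Valid Q x y) :
    Lam Q f y = bb Q f (Classical.choose h) y := by
  unfold Lam; rw [dif_pos h]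

theorem Lam_eq {x y : ι → ZMod 2} (h : Valid Q x y) : bb Q f x y = Lam Q f y := by
  have hex : ∃ x, Valid Q x y := ⟨x, h⟩
  rw [Lam_def Q f hex]
  exact bb_wd Q f hf h (Classical.choose_spec hex)

theorem aa_eq {x y : ι → ZMod 2} (h : Valid Q x y) : aa Q f x y = Lam Q f (x + y) := by
  rw [← bb_rot Q f hf h, Lam_eq Q f hf h.rot]

theorem Lam_add {x y : ι → ZMod 2} (h : Valid Q x y) :
    Lam Q f x + Lam Q f y = Lam Q f (x + y) := by
  have h2 := h.rot.rot
  have e : y + (x + y) = x := by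
    rw [add_comm x y, ← add_assoc, v_add_self, zero_add]
  rw [e] at h2
  have h3 := bb_rot Q f hf h.rot
  rw [e, aa_rot Q f hf h, Lam_eq Q f hf h2, aa_eq Q f hf h, Lam_eq Q f hf h] at h3
  rw [h3]
  have := z2_add_self (Lam Q f y)
  linear_combination this

theorem main_coc (hgen : Subgroup.closure (CDG.Rset Q) = ⊤) (hmid : Mid Q)
    (v0 : ι → ZMod 2) (hv0 : Q v0 = 1) (hext : Ext Q) :
    ∃ v : ι → ZMod 2, ∀ g : ↥(commutator ↥(Cfsg.isometryGroup (ZMod 2) ⇑Q)), f g = act Q (g : ↥(Cfsg.isometryGroup (ZMod 2) ⇑Q)) v - v := by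
  obtain ⟨v, hv⟩ := hext (Lam Q f) (fun x y h => Lam_add Q f hf h)
  refine ⟨v, ?_⟩
  let Z : Subgroup ↥(Cfsg.isometryGroup (ZMod 2) ⇑Q) :=
    { carrier := {g | g ∈ commutator ↥(Cfsg.isometryGroup (ZMod 2) ⇑Q) ∧ fx Q f g = act Q g v - v}
      one_mem' := by
        refine ⟨Subgroup.one_mem _, ?_⟩
        rw [fx_one Q f hf, act_one, sub_self]
      mul_mem' := by
        rintro a b ⟨ha, ha'⟩ ⟨hb, hb'⟩
        refine ⟨Subgroup.mul_mem _ ha hb, ?_⟩
        rw [fx_mul Q f hf ha hb, ha', hb', act_mul, v_sub_eq_add, v_sub_eq_add, v_sub_eq_add,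
          act_add]
        funext i
        simp only [Pi.add_apply]
        generalize act Q a v i = p
        generalize act Q a (act Q b v) i = r
        generalize v i = e
        revert p r e
        decide
      inv_mem' := by
        rintro a ⟨ha, ha'⟩
        refine ⟨Subgroup.inv_mem _ ha, ?_⟩
        rw [fx_inv Q f hf ha, ha', v_sub_eq_add, v_sub_eq_add, act_add, act_inv_act, add_comm] }
  have hD : Subgroup.closure (DD Q) ≤ Z := by
    rw [Subgroup.closure_le]
    rintro g ⟨x, y, h, rfl⟩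
    refine ⟨dd_mem_comm Q h, ?_⟩
    have h1 := XX_eq Q f hf h
    unfold XX at h1
    rw [h1, aa_eq Q f hf h, Lam_eq Q f hf h, act_dd Q h, v_sub_eq_add,
      QuadraticMap.polar_comm (⇑Q) y v, QuadraticMap.polar_comm (⇑Q) x v,
      hv y h.2.1, hv x h.1, ← Lam_add Q f hf h]
    funext i
    simp only [Pi.add_apply, Pi.smul_apply, smul_eq_mul]
    generalize Lam Q f x = a
    generalize Lam Q f y = b
    generalize x i = c
    generalize y i = d
    generalize v i = e
    revert a b c d e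
    decide
  intro g
  have hg : (g : ↥(Cfsg.isometryGroup (ZMod 2) ⇑Q)) ∈ Z := by
    apply hD
    rw [← omega_eq Q hgen hmid v0 hv0]
    exact g.2
  have := hg.2
  rw [fx_mem Q f g.2] at this
  exact this

end cocycle

end Cfsg.Agent.Lib.Helper5.H1O
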