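import Mathlib
import Cfsg.Agent.Lib.Helper5.H1OD
set_option autoImplicit false
set_option linter.unusedSectionVars false
set_option linter.unusedVariables false

namespace Cfsg.Agent.Lib.Helper5.H1O

open Matrix Cfsg.Agent.Lib.helper6 Cfsg.Agent.Lib.Helper16

variable {ι : Type} [Fintype ι] [DecidableEq ι]
variable (Q : QuadraticForm (ZMod 2) (ι → ZMod 2))

theorem mid_of_card (hQ : (QuadraticMap.polarBilin Q).Nondegenerate)
    (hn : 5 ≤ Fintype.card ι) : Mid Q := by
  intro u u' hu hu' hne hB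
  have hu0 : Q u ≠ 0 := by rw [hu]; exact one_ne_zero
  have hu0' : Q u' ≠ 0 := by rw [hu']; exact one_ne_zero
  have hQuu : Q u' = Q u := by rw [hu, hu']
  have h2 : u' ∉ Submodule.span (ZMod 2) {u} := C2.not_mem_span_of_Q_eq Q u u' hu0 hQuu hne
  have h1 : u ∉ Submodule.span (ZMod 2) {u'} :=
    C2.not_mem_span_of_Q_eq Q u' u hu0' hQuu.symm (fun h => hne h.symm)
  have hfr : Module.finrank (ZMod 2) (ι → ZMod 2) = Fintype.card ι := Module.finrank_pi (ZMod 2)
  obtain ⟨w, hw1, hw2, hw3⟩ := C2.exists_mid_B Q hQ u u' h1 h2 hQuu hB (by omega)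
  exact ⟨w, by rw [hw1, hu], z2_ne_zero hw2, z2_ne_zero hw3⟩

/-- one derivation step -/
def stepf (acc : List (ι → ZMod 2)) (p : (ι → ZMod 2) × (ι → ZMod 2)) : List (ι → ZMod 2) :=
  if p.1 ∈ acc ∧ p.2 ∈ acc ∧ Q p.1 = 1 ∧ Q p.2 = 1 ∧ QuadraticMap.polar (⇑Q) p.1 p.2 = 1 then (p.1 + p.2) :: acc
  else acc

/-- vectors reachable by a list of steps -/
def reach (init : List (ι → ZMod 2)) (steps : List ((ι → ZMod 2) × (ι → ZMod 2))) :
    List (ι → ZMod 2) := steps.foldl (stepf Q) init

theorem reach_ind (P : (ι → ZMod 2) → Prop)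
    (hP : ∀ x y, P x → P y → Valid Q x y → P (x + y))
    (steps : List ((ι → ZMod 2) × (ι → ZMod 2))) :
    ∀ init : List (ι → ZMod 2), (∀ z ∈ init, P z) → ∀ z ∈ reach Q init steps, P z := by
  induction steps with
  | nil => intro init h z hz; exact h z hz
  | cons p rest ih =>
    intro init h z hz
    unfold reach at hz
    rw [List.foldl_cons] at hz
    apply ih (stepf Q init p) _ z hz
    intro z' hz'
    unfold stepf at hz'
    split_ifs at hz' with hc
    · rcases List.mem_cons.mp hz' with h' | h'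
      · rw [h']
        exact hP _ _ (h _ hc.1) (h _ hc.2.1) ⟨hc.2.2.1, hc.2.2.2.1, hc.2.2.2.2⟩
      · exact h z' h'
    · exact h z' hz'

theorem ext_of_cert (n : ℕ) (basis dual : Fin n → (ι → ZMod 2))
    (hdual : ∀ i j, QuadraticMap.polar (⇑Q) (dual i) (basis j) = if i = j then 1 else 0)
    (steps : List ((ι → ZMod 2) × (ι → ZMod 2)))
    (hreach : ∀ z, Q z = 1 → z ∈ reach Q (List.ofFn basis) steps) : Ext Q := by
  intro L hL
  refine ⟨∑ i, L (basis i) • dual i, ?_⟩
  have key : ∀ z ∈ reach Q (List.ofFn basis) steps, QuadraticMap.polar (⇑Q) (∑ i, L (basis i) • dual i) z = L z := by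
    apply reach_ind Q (fun z => QuadraticMap.polar (⇑Q) (∑ i, L (basis i) • dual i) z = L z)
    · intro x y hx hy hv
      show QuadraticMap.polar (⇑Q) (∑ i, L (basis i) • dual i) (x + y) = L (x + y)
      rw [QuadraticMap.polar_add_right, hx, hy, hL x y hv]
    · intro z hz
      rw [List.mem_ofFn] at hz
      obtain ⟨j, rfl⟩ := hz
      have : QuadraticMap.polar (⇑Q) (∑ i, L (basis i) • dual i) (basis j)
          = ∑ i, L (basis i) * QuadraticMap.polar (⇑Q) (dual i) (basis j) := by
        have h1 := map_sum (QuadraticMap.polarBilin Q) (fun i => L (basis i) • dual i) Finset.univ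
        have h2 := congrArg (fun φ => φ (basis j)) h1
        simp only [LinearMap.sum_apply, map_smul, LinearMap.smul_apply, smul_eq_mul,
          QuadraticMap.polarBilin_apply_apply] at h2
        exact h2
      rw [this]
      simp only [hdual, mul_ite, mul_one, mul_zero, Finset.sum_ite_eq', Finset.mem_univ, if_true]
  intro z hz
  exact key z (hreach z hz)

end Cfsg.Agent.Lib.Helper5.H1O
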