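import Mathlib
import Cfsg.Agent.Lib.Helper5.H1OE
import Cfsg.Agent.Lib.Helper16.OM8
import Cfsg.Agent.Lib.Helper16.SpinG2
set_option autoImplicit false
set_option linter.unusedSectionVars false
set_option linter.unusedVariables false

namespace Cfsg.Agent.Lib.Helper5.H1O

open Matrix Cfsg.Agent.Lib.helper6 Cfsg.Agent.Lib.Helper16

abbrev Vm4 := (Fin 1 ⊕ Fin 1) ⊕ Fin 2 → ZMod 2

def mk4 (a b c d : ZMod 2) : Vm4 := Sum.elim (Sum.elim ![a] ![b]) ![c, d]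

theorem mk4_surj (z : Vm4) : z = mk4 (z (.inl (.inl 0))) (z (.inl (.inr 0))) (z (.inr 0)) (z (.inr 1)) := by
  funext i
  rcases i with (i | i) | i
  · fin_cases i; rfl
  · fin_cases i; rfl
  · fin_cases i <;> rfl

def m4_basis : Fin 4 → Vm4 := ![(mk4 1 0 1 1), (mk4 0 1 0 1), (mk4 0 0 1 0), (mk4 0 1 1 0)]
def m4_dual : Fin 4 → Vm4 := ![(mk4 0 1 0 0), (mk4 0 1 1 0), (mk4 1 0 1 1), (mk4 1 1 1 0)]
def m4_steps : List (Vm4 × Vm4) := [((mk4 1 0 1 1), (mk4 0 0 1 0)),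
  ((mk4 0 1 0 1), (mk4 0 0 1 0)),
  ((mk4 0 1 0 1), (mk4 0 1 1 0)),
  ((mk4 0 1 0 1), (mk4 1 0 0 1)),
  ((mk4 0 0 1 0), (mk4 0 0 1 1)),
  ((mk4 0 1 1 0), (mk4 1 1 0 0))]

noncomputable abbrev Q4 := qfMinus 1 (ZMod 2) 1 1

theorem Q4_nondeg : (QuadraticMap.polarBilin Q4).Nondegenerate :=
  OM.nondeg_minus_disc (m := 1) (1 : ZMod 2) 1 (by decide)

theorem m4_reach : ∀ a b c d : ZMod 2, Q4 (mk4 a b c d) = 1 →
    mk4 a b c d ∈ reach Q4 (List.ofFn m4_basis) m4_steps := by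
  decide +kernel

end Cfsg.Agent.Lib.Helper5.H1O

namespace Cfsg.Agent.Lib.Helper5.H1O
open Matrix Cfsg.Agent.Lib.helper6 Cfsg.Agent.Lib.Helper16

set_option synthInstance.maxHeartbeats 200000 in
set_option synthInstance.maxSize 1024 in
theorem Q4_mid : Mid Q4 := by
  unfold Mid
  decide +kernel

theorem m4_dual_ok : ∀ i j, QuadraticMap.polar (⇑Q4) (m4_dual i) (m4_basis j) = if i = j then 1 else 0 := by
  decide +kernel

theorem Q4_ext : Ext Q4 := by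
  apply ext_of_cert Q4 4 m4_basis m4_dual m4_dual_ok m4_steps
  intro z hz
  rw [mk4_surj z] at hz ⊢
  exact m4_reach _ _ _ _ hz

theorem Q4_gen : Subgroup.closure (CDG.Rset Q4) = ⊤ :=
  generation Q4 Q4_nondeg Q4_mid (mk4 0 0 1 0) (by decide +kernel)

theorem Q4_main (f : ↥(commutator ↥(Cfsg.isometryGroup (ZMod 2) ⇑Q4)) → Vm4)
    (hf : ∀ g h : ↥(commutator ↥(Cfsg.isometryGroup (ZMod 2) ⇑Q4)),
      f (g * h) = f g + act Q4 (g : ↥(Cfsg.isometryGroup (ZMod 2) ⇑Q4)) (f h)) :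
    ∃ v : Vm4, ∀ g : ↥(commutator ↥(Cfsg.isometryGroup (ZMod 2) ⇑Q4)),
      f g = act Q4 (g : ↥(Cfsg.isometryGroup (ZMod 2) ⇑Q4)) v - v :=
  main_coc Q4 f hf Q4_gen Q4_mid (mk4 0 0 1 0) (by decide +kernel) Q4_ext

end Cfsg.Agent.Lib.Helper5.H1O
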