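import Mathlib
import Cfsg.Agent.Lib.Helper5.H1OE
import Cfsg.Agent.Lib.Helper16.OM8
import Cfsg.Agent.Lib.Helper16.SpinG2
set_option autoImplicit false
set_option linter.unusedSectionVars false
set_option linter.unusedVariables false

namespace Cfsg.Agent.Lib.Helper5.H1O

open Matrix Cfsg.Agent.Lib.helper6 Cfsg.Agent.Lib.Helper16

abbrev Vm6 := (Fin 2 ⊕ Fin 2) ⊕ Fin 2 → ZMod 2

def mk6 (a0 a1 a2 a3 a4 a5 : ZMod 2) : Vm6 := Sum.elim (Sum.elim ![a0, a1] ![a2, a3]) ![a4, a5]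

theorem mk6_surj (z : Vm6) : z = mk6 (z (.inl (.inl 0))) (z (.inl (.inl 1))) (z (.inl (.inr 0)))
    (z (.inl (.inr 1))) (z (.inr 0)) (z (.inr 1)) := by
  funext i
  rcases i with (i | i) | i
  · fin_cases i <;> rfl
  · fin_cases i <;> rfl
  · fin_cases i <;> rfl

def m6_basis : Fin 6 → Vm6 := ![(mk6 1 1 0 1 0 0), (mk6 1 0 0 1 1 0), (mk6 0 0 1 1 1 0), (mk6 0 0 0 1 1 1), (mk6 1 1 0 0 1 0), (mk6 1 0 1 1 0 0)]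
def m6_dual : Fin 6 → Vm6 := ![(mk6 1 0 1 0 1 1), (mk6 0 1 1 0 0 1), (mk6 1 1 0 1 0 1), (mk6 0 0 0 0 1 0), (mk6 1 0 1 1 1 1), (mk6 0 1 0 1 0 1)]
def m6_steps : List (Vm6 × Vm6) := [((mk6 1 1 0 1 0 0), (mk6 1 0 0 1 1 0)),
  ((mk6 1 1 0 1 0 0), (mk6 0 0 0 1 1 1)),
  ((mk6 1 1 0 1 0 0), (mk6 1 1 0 0 1 0)),
  ((mk6 1 0 0 1 1 0), (mk6 0 0 1 1 1 0)),
  ((mk6 1 0 0 1 1 0), (mk6 0 0 0 1 1 1)),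
  ((mk6 1 0 0 1 1 0), (mk6 1 1 0 0 1 0)),
  ((mk6 1 0 0 1 1 0), (mk6 1 0 1 1 0 0)),
  ((mk6 0 0 1 1 1 0), (mk6 0 0 0 1 1 1)),
  ((mk6 0 0 1 1 1 0), (mk6 1 0 1 1 0 0)),
  ((mk6 0 0 1 1 1 0), (mk6 0 1 0 0 1 0)),
  ((mk6 0 0 1 1 1 0), (mk6 1 1 0 0 1 1)),
  ((mk6 0 0 1 1 1 0), (mk6 0 1 0 1 0 0)),
  ((mk6 0 0 0 1 1 1), (mk6 0 0 0 1 1 0)),
  ((mk6 0 0 0 1 1 1), (mk6 0 1 0 1 0 0)),
  ((mk6 0 0 0 1 1 1), (mk6 0 0 1 0 1 0)),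
  ((mk6 0 0 0 1 1 1), (mk6 1 0 0 0 1 0)),
  ((mk6 0 0 0 1 1 1), (mk6 0 1 1 1 0 0)),
  ((mk6 1 1 0 0 1 0), (mk6 0 0 1 0 1 0)),
  ((mk6 1 1 0 0 1 0), (mk6 1 1 1 1 0 1)),
  ((mk6 1 1 0 0 1 0), (mk6 0 0 1 1 0 1)),
  ((mk6 1 0 1 1 0 0), (mk6 0 1 0 0 1 0)),
  ((mk6 1 0 1 1 0 0), (mk6 1 1 1 1 0 1)),
  ((mk6 1 0 1 1 0 0), (mk6 0 0 1 1 1 1)),
  ((mk6 1 1 0 1 0 0), (mk6 0 1 0 0 1 1)),
  ((mk6 1 1 0 1 0 0), (mk6 1 1 1 1 1 1)),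
  ((mk6 1 0 0 1 1 0), (mk6 1 0 0 1 0 1)),
  ((mk6 1 0 0 1 1 0), (mk6 1 1 1 1 1 1)),
  ((mk6 1 0 0 1 1 0), (mk6 1 0 0 0 1 1)),
  ((mk6 0 0 1 1 1 0), (mk6 1 1 1 1 1 1)),
  ((mk6 0 0 0 1 1 1), (mk6 0 0 0 1 0 1))]

noncomputable abbrev Q6 := qfMinus 2 (ZMod 2) 1 1

theorem Q6_nondeg : (QuadraticMap.polarBilin Q6).Nondegenerate :=
  OM.nondeg_minus_disc (m := 2) (1 : ZMod 2) 1 (by decide)

set_option maxRecDepth 100000 in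
theorem m6_reach : ∀ a0 a1 a2 a3 a4 a5 : ZMod 2, Q6 (mk6 a0 a1 a2 a3 a4 a5) = 1 →
    mk6 a0 a1 a2 a3 a4 a5 ∈ reach Q6 (List.ofFn m6_basis) m6_steps := by
  decide +kernel

theorem Q6_mid : Mid Q6 := mid_of_card Q6 Q6_nondeg (by simp)

theorem m6_dual_ok : ∀ i j, QuadraticMap.polar (⇑Q6) (m6_dual i) (m6_basis j) = if i = j then 1 else 0 := by
  decide +kernel

theorem Q6_ext : Ext Q6 := by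
  apply ext_of_cert Q6 6 m6_basis m6_dual m6_dual_ok m6_steps
  intro z hz
  rw [mk6_surj z] at hz ⊢
  exact m6_reach _ _ _ _ _ _ hz

theorem Q6_gen : Subgroup.closure (CDG.Rset Q6) = ⊤ :=
  generation Q6 Q6_nondeg Q6_mid (mk6 0 0 0 0 1 0) (by decide +kernel)

theorem Q6_main (f : ↥(commutator ↥(Cfsg.isometryGroup (ZMod 2) ⇑Q6)) → Vm6)
    (hf : ∀ g h : ↥(commutator ↥(Cfsg.isometryGroup (ZMod 2) ⇑Q6)),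
      f (g * h) = f g + act Q6 (g : ↥(Cfsg.isometryGroup (ZMod 2) ⇑Q6)) (f h)) :
    ∃ v : Vm6, ∀ g : ↥(commutator ↥(Cfsg.isometryGroup (ZMod 2) ⇑Q6)),
      f g = act Q6 (g : ↥(Cfsg.isometryGroup (ZMod 2) ⇑Q6)) v - v :=
  main_coc Q6 f hf Q6_gen Q6_mid (mk6 0 0 0 0 1 0) (by decide +kernel) Q6_ext

end Cfsg.Agent.Lib.Helper5.H1O
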