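import Mathlib
import Cfsg.Agent.Lib.Helper5.H1OE
import Cfsg.Agent.Lib.Helper16.PlusFam
set_option autoImplicit false
set_option linter.unusedSectionVars false
set_option linter.unusedVariables false

namespace Cfsg.Agent.Lib.Helper5.H1O

open Matrix Cfsg.Agent.Lib.helper6 Cfsg.Agent.Lib.Helper16

abbrev Vp8 := Fin 4 ⊕ Fin 4 → ZMod 2

def mk8 (a0 a1 a2 a3 a4 a5 a6 a7 : ZMod 2) : Vp8 := Sum.elim ![a0, a1, a2, a3] ![a4, a5, a6, a7]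

theorem mk8_surj (z : Vp8) : z = mk8 (z (.inl 0)) (z (.inl 1)) (z (.inl 2)) (z (.inl 3))
    (z (.inr 0)) (z (.inr 1)) (z (.inr 2)) (z (.inr 3)) := by
  funext i
  rcases i with i | i
  · fin_cases i <;> rfl
  · fin_cases i <;> rfl

def p8_basis : Fin 8 → Vp8 := ![(mk8 1 0 0 1 0 1 1 1), (mk8 1 1 1 1 0 0 0 1), (mk8 0 1 0 1 0 1 0 0), (mk8 1 0 1 1 1 0 1 1), (mk8 0 0 0 1 0 1 1 1), (mk8 0 1 1 1 0 1 1 1), (mk8 1 0 0 0 1 1 0 1), (mk8 1 0 0 0 1 0 1 0)]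
def p8_dual : Fin 8 → Vp8 := ![(mk8 1 1 0 1 1 1 1 0), (mk8 0 1 0 1 0 1 1 0), (mk8 1 1 1 0 0 0 0 0), (mk8 1 1 1 0 0 1 1 0), (mk8 0 0 1 1 1 1 0 1), (mk8 1 0 1 1 0 0 1 0), (mk8 1 1 1 1 0 0 0 1), (mk8 1 0 0 1 0 1 1 1)]
def p8_steps : List (Vp8 × Vp8) := [((mk8 1 0 0 1 0 1 1 1), (mk8 1 0 0 0 1 0 1 0)),
  ((mk8 1 1 1 1 0 0 0 1), (mk8 1 0 0 0 1 1 0 1)),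
  ((mk8 0 1 0 1 0 1 0 0), (mk8 1 0 1 1 1 0 1 1)),
  ((mk8 0 1 0 1 0 1 0 0), (mk8 0 1 1 1 0 1 1 1)),
  ((mk8 1 0 1 1 1 0 1 1), (mk8 0 0 0 1 0 1 1 1)),
  ((mk8 1 0 1 1 1 0 1 1), (mk8 1 0 0 0 1 1 0 1)),
  ((mk8 1 0 1 1 1 0 1 1), (mk8 1 0 0 0 1 0 1 0)),
  ((mk8 1 0 1 1 1 0 1 1), (mk8 0 0 0 1 1 1 0 1)),
  ((mk8 1 0 1 1 1 0 1 1), (mk8 0 1 1 1 1 1 0 0)),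
  ((mk8 1 0 1 1 1 0 1 1), (mk8 0 0 1 0 0 0 1 1)),
  ((mk8 0 0 0 1 0 1 1 1), (mk8 1 0 0 0 1 1 0 1)),
  ((mk8 0 0 0 1 0 1 1 1), (mk8 0 1 1 1 1 1 0 0)),
  ((mk8 0 0 0 1 0 1 1 1), (mk8 1 1 1 0 1 1 1 1)),
  ((mk8 0 0 0 1 0 1 1 1), (mk8 0 0 1 1 0 0 0 1)),
  ((mk8 0 0 0 1 0 1 1 1), (mk8 1 0 1 0 0 1 1 0)),
  ((mk8 0 0 0 1 0 1 1 1), (mk8 1 0 0 1 1 0 0 0)),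
  ((mk8 0 1 1 1 0 1 1 1), (mk8 1 0 0 0 1 0 1 0)),
  ((mk8 0 1 1 1 0 1 1 1), (mk8 0 0 0 1 1 1 0 1)),
  ((mk8 0 1 1 1 0 1 1 1), (mk8 0 0 1 1 0 0 0 1)),
  ((mk8 0 1 1 1 0 1 1 1), (mk8 1 0 1 0 0 1 1 0)),
  ((mk8 0 1 1 1 0 1 1 1), (mk8 0 0 1 0 0 1 1 0)),
  ((mk8 0 1 1 1 0 1 1 1), (mk8 1 0 1 1 0 0 0 1)),
  ((mk8 1 0 0 0 1 1 0 1), (mk8 1 1 1 0 1 1 1 1)),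
  ((mk8 1 0 0 0 1 1 0 1), (mk8 0 0 1 1 0 0 0 1)),
  ((mk8 1 0 0 0 1 1 0 1), (mk8 1 0 1 0 0 1 1 0)),
  ((mk8 1 0 0 0 1 1 0 1), (mk8 1 0 0 1 1 0 0 0)),
  ((mk8 1 0 0 0 1 1 0 1), (mk8 0 1 0 0 0 1 1 0)),
  ((mk8 1 0 0 0 1 1 0 1), (mk8 1 1 0 1 0 0 0 1)),
  ((mk8 1 0 0 0 1 0 1 0), (mk8 1 1 1 0 1 1 1 1)),
  ((mk8 1 0 0 0 1 0 1 0), (mk8 0 0 1 0 0 0 1 1)),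
  ((mk8 1 0 0 0 1 0 1 0), (mk8 1 1 0 0 0 1 1 1)),
  ((mk8 1 0 0 0 1 0 1 0), (mk8 1 1 1 1 1 0 0 0)),
  ((mk8 1 0 0 0 1 0 1 0), (mk8 1 1 0 1 0 0 0 1)),
  ((mk8 1 0 0 0 1 0 1 0), (mk8 1 1 0 0 0 1 1 0)),
  ((mk8 1 0 0 0 1 0 1 0), (mk8 0 1 1 0 0 0 1 0)),
  ((mk8 1 0 0 0 1 0 1 0), (mk8 0 1 0 1 1 1 0 0)),
  ((mk8 1 0 0 1 0 1 1 1), (mk8 0 1 1 0 0 1 0 1)),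
  ((mk8 1 0 0 1 0 1 1 1), (mk8 1 0 1 0 1 0 0 1)),
  ((mk8 1 0 0 1 0 1 1 1), (mk8 0 1 0 0 1 1 0 1)),
  ((mk8 1 0 0 1 0 1 1 1), (mk8 0 1 1 1 0 0 1 0)),
  ((mk8 1 0 0 1 0 1 1 1), (mk8 1 1 1 0 1 0 0 0)),
  ((mk8 1 1 1 1 0 0 0 1), (mk8 0 1 1 0 0 0 1 0)),
  ((mk8 1 1 1 1 0 0 0 1), (mk8 0 0 0 1 0 1 0 1)),
  ((mk8 1 1 1 1 0 0 0 1), (mk8 1 1 0 0 1 0 1 1)),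
  ((mk8 1 1 1 1 0 0 0 1), (mk8 0 1 0 1 1 1 0 0)),
  ((mk8 1 1 1 1 0 0 0 1), (mk8 1 1 1 0 1 0 0 0)),
  ((mk8 1 1 1 1 0 0 0 1), (mk8 1 1 0 1 0 1 1 0)),
  ((mk8 1 1 1 1 0 0 0 1), (mk8 0 1 1 1 1 1 1 1)),
  ((mk8 1 0 1 1 1 0 1 1), (mk8 0 1 1 1 0 0 1 0)),
  ((mk8 1 0 1 1 1 0 1 1), (mk8 0 1 0 0 1 1 0 0)),
  ((mk8 1 0 1 1 1 0 1 1), (mk8 1 1 1 0 1 0 0 0)),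
  ((mk8 1 0 1 1 1 0 1 1), (mk8 1 1 0 1 0 1 1 0)),
  ((mk8 1 0 1 1 1 0 1 1), (mk8 1 1 1 0 0 1 0 1)),
  ((mk8 1 0 1 1 1 0 1 1), (mk8 0 1 1 1 1 1 1 1)),
  ((mk8 1 0 1 1 1 0 1 1), (mk8 0 0 0 1 1 0 0 1)),
  ((mk8 1 0 1 1 1 0 1 1), (mk8 0 0 1 0 0 1 1 1)),
  ((mk8 1 0 1 1 1 0 1 1), (mk8 1 0 0 0 1 1 1 0)),
  ((mk8 0 0 0 1 0 1 1 1), (mk8 0 1 0 1 0 0 1 1)),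
  ((mk8 0 0 0 1 0 1 1 1), (mk8 0 1 1 0 1 1 0 1)),
  ((mk8 0 0 0 1 0 1 1 1), (mk8 1 1 0 0 0 1 0 0)),
  ((mk8 0 0 0 1 0 1 1 1), (mk8 1 0 1 0 0 0 1 0)),
  ((mk8 0 0 0 1 0 1 1 1), (mk8 1 0 0 1 1 1 0 0)),
  ((mk8 0 0 0 1 0 1 1 1), (mk8 0 0 1 1 0 1 0 1)),
  ((mk8 1 0 0 0 1 1 0 1), (mk8 1 0 1 0 0 0 1 0)),
  ((mk8 1 0 0 0 1 1 0 1), (mk8 1 0 0 1 1 1 0 0)),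
  ((mk8 1 0 0 0 1 1 0 1), (mk8 0 0 1 1 0 1 0 1)),
  ((mk8 1 0 0 0 1 0 1 0), (mk8 0 1 0 1 1 1 1 0)),
  ((mk8 1 0 0 0 1 0 1 0), (mk8 1 1 0 0 0 1 0 0)),
  ((mk8 1 0 0 0 1 0 1 0), (mk8 0 0 1 1 0 1 0 1)),
  ((mk8 1 0 0 0 1 0 1 0), (mk8 1 1 0 1 0 0 1 1)),
  ((mk8 1 0 0 0 1 0 1 0), (mk8 0 0 1 0 0 0 1 0)),
  ((mk8 1 0 0 0 1 0 1 0), (mk8 1 0 1 1 1 0 0 0)),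
  ((mk8 1 1 1 0 1 1 1 1), (mk8 0 1 0 0 1 1 0 0)),
  ((mk8 1 1 1 0 1 1 1 1), (mk8 1 1 0 1 0 1 1 0)),
  ((mk8 1 1 1 0 1 1 1 1), (mk8 0 0 1 0 0 1 1 1)),
  ((mk8 1 1 1 0 1 1 1 1), (mk8 0 1 1 1 1 0 1 0)),
  ((mk8 1 1 1 0 1 1 1 1), (mk8 1 0 0 0 1 0 1 1)),
  ((mk8 1 1 1 0 1 1 1 1), (mk8 0 0 0 1 0 0 0 1)),
  ((mk8 1 1 1 0 1 1 1 1), (mk8 0 1 0 1 1 0 0 1)),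
  ((mk8 1 1 1 0 1 1 1 1), (mk8 1 0 1 0 1 0 0 0)),
  ((mk8 1 1 1 0 1 1 1 1), (mk8 0 0 1 1 0 0 1 0)),
  ((mk8 1 0 1 0 1 1 0 0), (mk8 0 1 0 0 1 1 1 0)),
  ((mk8 1 0 1 0 1 1 0 0), (mk8 1 0 1 1 1 1 1 1)),
  ((mk8 1 0 1 0 1 1 0 0), (mk8 0 0 1 1 0 0 1 0)),
  ((mk8 1 0 1 0 1 1 0 0), (mk8 1 1 0 1 1 1 0 1)),
  ((mk8 0 0 1 1 0 1 1 0), (mk8 1 0 1 1 1 1 1 1)),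
  ((mk8 1 0 0 1 1 0 0 0), (mk8 1 0 1 1 0 1 1 0)),
  ((mk8 1 0 0 1 1 0 0 0), (mk8 0 1 0 0 0 1 1 1)),
  ((mk8 1 0 0 1 1 0 0 0), (mk8 1 1 0 1 1 1 0 1)),
  ((mk8 1 0 0 1 1 0 0 0), (mk8 0 1 1 1 0 0 0 1)),
  ((mk8 1 1 1 1 1 0 0 0), (mk8 0 0 1 1 0 0 1 0)),
  ((mk8 0 0 1 0 0 1 1 0), (mk8 0 0 1 1 1 0 0 1)),
  ((mk8 0 0 1 0 0 1 1 0), (mk8 1 1 0 0 1 0 0 0)),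
  ((mk8 0 0 1 0 0 1 1 0), (mk8 1 1 1 1 1 1 1 0)),
  ((mk8 0 0 1 0 0 1 1 0), (mk8 1 1 0 1 1 1 0 1)),
  ((mk8 0 0 1 0 0 1 1 0), (mk8 0 1 0 0 0 1 0 1)),
  ((mk8 1 0 1 1 0 0 0 1), (mk8 0 0 1 1 1 0 0 1)),
  ((mk8 1 0 1 1 0 0 0 1), (mk8 1 1 0 0 1 0 0 0)),
  ((mk8 1 0 1 1 0 0 0 1), (mk8 1 1 1 1 1 1 1 0)),
  ((mk8 1 0 1 1 0 0 0 1), (mk8 1 1 0 1 1 1 0 1)),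
  ((mk8 1 0 1 1 0 0 0 1), (mk8 0 1 0 0 0 1 0 1)),
  ((mk8 1 0 0 0 1 1 1 1), (mk8 1 1 1 1 1 0 1 1)),
  ((mk8 1 0 0 0 1 1 1 1), (mk8 0 1 1 0 1 1 0 0)),
  ((mk8 1 1 1 1 1 1 0 1), (mk8 0 1 1 1 0 0 0 1)),
  ((mk8 1 1 1 1 1 1 0 1), (mk8 0 1 0 0 1 1 1 1)),
  ((mk8 1 1 1 1 1 1 0 1), (mk8 0 1 1 0 1 1 0 0)),
  ((mk8 0 1 1 0 1 0 1 0), (mk8 0 1 1 1 0 0 0 1)),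
  ((mk8 0 1 0 0 0 1 1 0), (mk8 0 1 1 0 1 1 0 0)),
  ((mk8 0 1 0 1 0 0 0 1), (mk8 0 1 1 0 1 1 0 0)),
  ((mk8 1 0 1 1 1 1 0 0), (mk8 0 1 1 1 1 0 0 1)),
  ((mk8 1 0 1 1 1 1 0 0), (mk8 0 0 0 1 1 0 1 1)),
  ((mk8 0 1 0 0 1 1 0 1), (mk8 0 0 0 1 1 0 1 1))]

noncomputable abbrev Q8 := qfPlus 4 (ZMod 2)

theorem Q8_nondeg : (QuadraticMap.polarBilin Q8).Nondegenerate := qfPlus_nondeg 4 (ZMod 2)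

set_option maxRecDepth 100000 in
theorem p8_reach : ∀ a0 a1 a2 a3 a4 a5 a6 a7 : ZMod 2, Q8 (mk8 a0 a1 a2 a3 a4 a5 a6 a7) = 1 →
    mk8 a0 a1 a2 a3 a4 a5 a6 a7 ∈ reach Q8 (List.ofFn p8_basis) p8_steps := by
  decide +kernel

theorem Q8_mid : Mid Q8 := mid_of_card Q8 Q8_nondeg (by simp)

theorem p8_dual_ok : ∀ i j, QuadraticMap.polar (⇑Q8) (p8_dual i) (p8_basis j) = if i = j then 1 else 0 := by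
  decide +kernel

theorem Q8_ext : Ext Q8 := by
  apply ext_of_cert Q8 8 p8_basis p8_dual p8_dual_ok p8_steps
  intro z hz
  rw [mk8_surj z] at hz ⊢
  exact p8_reach _ _ _ _ _ _ _ _ hz

theorem Q8_gen : Subgroup.closure (CDG.Rset Q8) = ⊤ :=
  generation Q8 Q8_nondeg Q8_mid (mk8 1 0 0 0 1 0 0 0) (by decide +kernel)

theorem Q8_main (f : ↥(commutator ↥(Cfsg.isometryGroup (ZMod 2) ⇑Q8)) → Vp8)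
    (hf : ∀ g h : ↥(commutator ↥(Cfsg.isometryGroup (ZMod 2) ⇑Q8)),
      f (g * h) = f g + act Q8 (g : ↥(Cfsg.isometryGroup (ZMod 2) ⇑Q8)) (f h)) :
    ∃ v : Vp8, ∀ g : ↥(commutator ↥(Cfsg.isometryGroup (ZMod 2) ⇑Q8)),
      f g = act Q8 (g : ↥(Cfsg.isometryGroup (ZMod 2) ⇑Q8)) v - v :=
  main_coc Q8 f hf Q8_gen Q8_mid (mk8 1 0 0 0 1 0 0 0) (by decide +kernel) Q8_ext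

end Cfsg.Agent.Lib.Helper5.H1O
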