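import Mathlib
import Cfsg.Agent.Lib.helper17.HeOut.Chain

set_option autoImplicit false

/-! Coded permutations of the Held group: equality tests and lower bounds for orders of
subgroups. -/

namespace Cfsg.Agent.Lib.Helper5.HeM

open Cfsg.Agent.Lib.helper17 Subgroup

/-- the Held group -/
abbrev HeG : Type := Cfsg.Spor.He

/-- a coded permutation represents an element -/
abbrev RepG (T : ℕ) (g : HeG) : Prop := HeOut.Rep T (HeOut.rho g)

theorem eq_of_chk (w v : List ℕ) (gs hs : List HeG) (h1 : List.Forall₂ RepG w gs)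
    (h2 : List.Forall₂ RepG v hs) (h : HeOut.eqWW w v = true) : gs.prod = hs.prod := by
  apply HeOut.rho_injective
  rw [map_list_prod, map_list_prod]
  apply HeOut.prod_eq_of_eqWW w v _ _ _ _ h
  · rw [List.forall₂_map_right_iff]; exact h1
  · rw [List.forall₂_map_right_iff]; exact h2

theorem rep_word (T : ℕ) (w : List ℕ) (gs : List HeG) (h : List.Forall₂ RepG w gs)
    (hc : HeOut.eqW T w = true) : RepG T gs.prod :=
  HeOut.rep_of_word T w gs h hc

theorem chk_id : HeOut.eqW HeOut.Tid [] = true := by decide +kernel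

theorem rep_one : RepG HeOut.Tid 1 := by
  show HeOut.Rep HeOut.Tid (HeOut.rho 1)
  rw [map_one]
  exact HeOut.rep_one_of HeOut.Tid chk_id

theorem ev_eq_of_prod_eq (w v : List ℕ) (gs hs : List HeG) (h1 : List.Forall₂ RepG w gs)
    (h2 : List.Forall₂ RepG v hs) (h : gs.prod = hs.prod) (p : ℕ) (hp : p < 2058) :
    HeOut.ev w p = HeOut.ev v p := by
  have e1 := HeOut.rep_prod w (gs.map HeOut.rho)
    (by rw [List.forall₂_map_right_iff]; exact h1) ⟨p, hp⟩
  have e2 := HeOut.rep_prod v (hs.map HeOut.rho)
    (by rw [List.forall₂_map_right_iff]; exact h2) ⟨p, hp⟩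
  rw [← map_list_prod] at e1 e2
  rw [h] at e1
  exact e1.symm.trans e2

/-- a list of numbers is strictly increasing -/
def isStrictInc : List ℕ → Bool
  | [] => true
  | [_] => true
  | a :: b :: t => Nat.blt a b && isStrictInc (b :: t)

theorem pairwise_of_isStrictInc : ∀ l : List ℕ, isStrictInc l = true → l.Pairwise (· < ·)
  | [], _ => List.Pairwise.nil
  | [a], _ => List.pairwise_singleton _ _
  | a :: b :: t, h => by
    unfold isStrictInc at h
    rw [Bool.and_eq_true] at h
    have hab : a < b := Nat.blt_eq.mp h.1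
    have ih := pairwise_of_isStrictInc (b :: t) h.2
    rw [List.pairwise_cons]
    refine ⟨?_, ih⟩
    intro c hc
    rcases List.mem_cons.mp hc with rfl | hc
    · exact hab
    · exact lt_trans hab ((List.pairwise_cons.mp ih).1 c hc)

theorem nodup_of_isStrictInc (l : List ℕ) (h : isStrictInc l = true) : l.Nodup := by
  have := pairwise_of_isStrictInc l h
  exact this.imp (fun hab => ne_of_lt hab)

/-- the signature of a word of coded permutations: the images of six points -/
def sigW (w : List ℕ) : ℕ :=
  HeOut.ev w 11 + 65536 * (HeOut.ev w 0 + 65536 * (HeOut.ev w 2 + 65536 * (HeOut.ev w 3 +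
    65536 * (HeOut.ev w 6 + 65536 * HeOut.ev w 4))))

theorem sigW_eq_of_prod_eq (w v : List ℕ) (gs hs : List HeG) (h1 : List.Forall₂ RepG w gs)
    (h2 : List.Forall₂ RepG v hs) (h : gs.prod = hs.prod) : sigW w = sigW v := by
  unfold sigW
  rw [ev_eq_of_prod_eq w v gs hs h1 h2 h 11 (by norm_num),
    ev_eq_of_prod_eq w v gs hs h1 h2 h 0 (by norm_num),
    ev_eq_of_prod_eq w v gs hs h1 h2 h 2 (by norm_num),
    ev_eq_of_prod_eq w v gs hs h1 h2 h 3 (by norm_num),
    ev_eq_of_prod_eq w v gs hs h1 h2 h 6 (by norm_num),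
    ev_eq_of_prod_eq w v gs hs h1 h2 h 4 (by norm_num)]

theorem getD_rep (gT : List ℕ) (gG : List HeG) (hrep : List.Forall₂ RepG gT gG) (i : ℕ) :
    RepG (gT.getD i HeOut.Tid) (gG.getD i 1) := by
  induction hrep generalizing i with
  | nil => simpa using rep_one
  | cons h _ ih =>
    cases i with
    | zero => simpa using h
    | succ i => simpa using ih i

theorem word_rep (gT : List ℕ) (gG : List HeG) (hrep : List.Forall₂ RepG gT gG) (l : List ℕ) :
    List.Forall₂ RepG (l.map fun i => gT.getD i HeOut.Tid) (l.map fun i => gG.getD i 1) := by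
  induction l with
  | nil => exact List.Forall₂.nil
  | cons i l ih => exact List.Forall₂.cons (getD_rep gT gG hrep i) ih

theorem word_mem (gG : List HeG) (H : Subgroup HeG) (hH : ∀ g ∈ gG, g ∈ H) (l : List ℕ) :
    (l.map fun i => gG.getD i 1).prod ∈ H := by
  induction l with
  | nil => exact one_mem _
  | cons i l ih =>
    rw [List.map_cons, List.prod_cons]
    apply mul_mem _ ih
    by_cases hi : i < gG.length
    · rw [List.getD_eq_getElem _ _ hi]
      exact hH _ (List.getElem_mem hi)
    · rw [List.getD_eq_default _ _ (by omega)]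
      exact one_mem _

/-- a lower bound for the order of a subgroup containing given generators -/
theorem card_ge_of_words (gT : List ℕ) (gG : List HeG) (hrep : List.Forall₂ RepG gT gG)
    (H : Subgroup HeG) (hH : ∀ g ∈ gG, g ∈ H) (ws : List (List ℕ))
    (h : isStrictInc (ws.map fun l => sigW (l.map fun i => gT.getD i HeOut.Tid)) = true) :
    ws.length ≤ Nat.card H := by
  classical
  have h' := nodup_of_isStrictInc _ h
  set ev' : List ℕ → HeG := fun l => (l.map fun i => gG.getD i 1).prod with hev
  have h1 : (ws.map ev').Nodup := by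
    have h0 : ws.Nodup := List.Nodup.of_map _ h'
    apply List.Nodup.map_on _ h0
    intro a ha b hb hab
    exact List.inj_on_of_nodup_map h' ha hb
      (sigW_eq_of_prod_eq _ _ _ _ (word_rep gT gG hrep a) (word_rep gT gG hrep b) hab)
  set F : Finset HeG := (ws.map ev').toFinset with hF
  have hcard : F.card = ws.length := by
    rw [hF, List.toFinset_card_of_nodup h1, List.length_map]
  have hsub : (F : Set HeG) ⊆ (H : Set HeG) := by
    intro g hg'
    rw [hF, Finset.mem_coe, List.mem_toFinset, List.mem_map] at hg'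
    obtain ⟨w, _, rfl⟩ := hg'
    exact word_mem gG H hH w
  have h2 := Set.ncard_le_ncard hsub (Set.toFinite _)
  rw [Set.ncard_coe_finset, hcard] at h2
  exact h2

/-- an element is not the identity if its coded permutation moves a point -/
theorem ne_one_of_moves (T : ℕ) (g : HeG) (h : RepG T g) (p : ℕ) (hp : p < 2058)
    (hm : Nat.beq (HeOut.lk T p) p = false) : g ≠ 1 := by
  intro h1
  rw [h1] at h
  have e1 := h ⟨p, hp⟩
  rw [map_one] at e1
  have : HeOut.lk T p = p := e1.symm
  rw [this, Nat.beq_refl] at hm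
  exact Bool.noConfusion hm

end Cfsg.Agent.Lib.Helper5.HeM
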