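import Mathlib
import Cfsg.Agent.Lib.Helper5.HeMA
import Cfsg.Agent.Lib.Helper5.HeMData

set_option autoImplicit false

/-! Elements of the Held group given by words, with their coded permutations (generated). -/

namespace Cfsg.Agent.Lib.Helper5.HeM

open Cfsg.Agent.Lib.helper17

/-- a generator -/
noncomputable def g0 : HeG := HeOut.e0

theorem rep_g0 : RepG HeOut.T0 g0 := HeOut.rep0

/-- a generator -/
noncomputable def g1 : HeG := HeOut.e1

theorem rep_g1 : RepG HeOut.T1 g1 := HeOut.rep1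

/-- a generator -/
noncomputable def g2 : HeG := HeOut.e2

theorem rep_g2 : RepG HeOut.T2 g2 := HeOut.rep2

/-- a generator -/
noncomputable def g3 : HeG := HeOut.e3

theorem rep_g3 : RepG HeOut.T3 g3 := HeOut.rep3

/-- a generator -/
noncomputable def g4 : HeG := HeOut.e4

theorem rep_g4 : RepG HeOut.T4 g4 := HeOut.rep4

/-- a generator -/
noncomputable def g5 : HeG := HeOut.e5

theorem rep_g5 : RepG HeOut.T5 g5 := HeOut.rep5

/-- a generator -/
noncomputable def g6 : HeG := HeOut.e6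

theorem rep_g6 : RepG HeOut.T6 g6 := HeOut.rep6

/-- an element given by a word -/
noncomputable def l7 : HeG := [g2, g6, g5, g4, g6, g6, g6, g0, g2, g0, g3].prod

theorem rep_l7 : RepG Ul7 l7 :=
  rep_word Ul7 [HeOut.T2, HeOut.T6, HeOut.T5, HeOut.T4, HeOut.T6, HeOut.T6, HeOut.T6, HeOut.T0, HeOut.T2, HeOut.T0, HeOut.T3] [g2, g6, g5, g4, g6, g6, g6, g0, g2, g0, g3]
    (List.Forall₂.cons rep_g2 (List.Forall₂.cons rep_g6 (List.Forall₂.cons rep_g5 (List.Forall₂.cons rep_g4 (List.Forall₂.cons rep_g6 (List.Forall₂.cons rep_g6 (List.Forall₂.cons rep_g6 (List.Forall₂.cons rep_g0 (List.Forall₂.cons rep_g2 (List.Forall₂.cons rep_g0 (List.Forall₂.cons rep_g3 List.Forall₂.nil)))))))))))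
    (by decide +kernel)

/-- an element given by a word -/
noncomputable def l8 : HeG := [g3, g0, g2, g0, g6, g6, g6, g4, g5, g6, g2].prod

theorem rep_l8 : RepG Ul8 l8 :=
  rep_word Ul8 [HeOut.T3, HeOut.T0, HeOut.T2, HeOut.T0, HeOut.T6, HeOut.T6, HeOut.T6, HeOut.T4, HeOut.T5, HeOut.T6, HeOut.T2] [g3, g0, g2, g0, g6, g6, g6, g4, g5, g6, g2]
    (List.Forall₂.cons rep_g3 (List.Forall₂.cons rep_g0 (List.Forall₂.cons rep_g2 (List.Forall₂.cons rep_g0 (List.Forall₂.cons rep_g6 (List.Forall₂.cons rep_g6 (List.Forall₂.cons rep_g6 (List.Forall₂.cons rep_g4 (List.Forall₂.cons rep_g5 (List.Forall₂.cons rep_g6 (List.Forall₂.cons rep_g2 List.Forall₂.nil)))))))))))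
    (by decide +kernel)

/-- an element given by a word -/
noncomputable def l9 : HeG := [g4, l7, g3, g5, g3, g6, g1, g0, g3, g0, g6, g3, g3, g4, g6].prod

theorem rep_l9 : RepG Ul9 l9 :=
  rep_word Ul9 [HeOut.T4, Ul7, HeOut.T3, HeOut.T5, HeOut.T3, HeOut.T6, HeOut.T1, HeOut.T0, HeOut.T3, HeOut.T0, HeOut.T6, HeOut.T3, HeOut.T3, HeOut.T4, HeOut.T6] [g4, l7, g3, g5, g3, g6, g1, g0, g3, g0, g6, g3, g3, g4, g6]
    (List.Forall₂.cons rep_g4 (List.Forall₂.cons rep_l7 (List.Forall₂.cons rep_g3 (List.Forall₂.cons rep_g5 (List.Forall₂.cons rep_g3 (List.Forall₂.cons rep_g6 (List.Forall₂.cons rep_g1 (List.Forall₂.cons rep_g0 (List.Forall₂.cons rep_g3 (List.Forall₂.cons rep_g0 (List.Forall₂.cons rep_g6 (List.Forall₂.cons rep_g3 (List.Forall₂.cons rep_g3 (List.Forall₂.cons rep_g4 (List.Forall₂.cons rep_g6 List.Forall₂.nil)))))))))))))))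
    (by decide +kernel)

/-- an element given by a word -/
noncomputable def l10 : HeG := [g0, g2, g4, g2, g0, g0, g0, g5, g4, g0].prod

theorem rep_l10 : RepG Ul10 l10 :=
  rep_word Ul10 [HeOut.T0, HeOut.T2, HeOut.T4, HeOut.T2, HeOut.T0, HeOut.T0, HeOut.T0, HeOut.T5, HeOut.T4, HeOut.T0] [g0, g2, g4, g2, g0, g0, g0, g5, g4, g0]
    (List.Forall₂.cons rep_g0 (List.Forall₂.cons rep_g2 (List.Forall₂.cons rep_g4 (List.Forall₂.cons rep_g2 (List.Forall₂.cons rep_g0 (List.Forall₂.cons rep_g0 (List.Forall₂.cons rep_g0 (List.Forall₂.cons rep_g5 (List.Forall₂.cons rep_g4 (List.Forall₂.cons rep_g0 List.Forall₂.nil))))))))))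
    (by decide +kernel)

/-- an element given by a word -/
noncomputable def l11 : HeG := [l7, l9, l8, g0, g6, g5, g1, g3, g5, g0, g4, g1, g6, g3, g3, g4, g1].prod

theorem rep_l11 : RepG Ul11 l11 :=
  rep_word Ul11 [Ul7, Ul9, Ul8, HeOut.T0, HeOut.T6, HeOut.T5, HeOut.T1, HeOut.T3, HeOut.T5, HeOut.T0, HeOut.T4, HeOut.T1, HeOut.T6, HeOut.T3, HeOut.T3, HeOut.T4, HeOut.T1] [l7, l9, l8, g0, g6, g5, g1, g3, g5, g0, g4, g1, g6, g3, g3, g4, g1]
    (List.Forall₂.cons rep_l7 (List.Forall₂.cons rep_l9 (List.Forall₂.cons rep_l8 (List.Forall₂.cons rep_g0 (List.Forall₂.cons rep_g6 (List.Forall₂.cons rep_g5 (List.Forall₂.cons rep_g1 (List.Forall₂.cons rep_g3 (List.Forall₂.cons rep_g5 (List.Forall₂.cons rep_g0 (List.Forall₂.cons rep_g4 (List.Forall₂.cons rep_g1 (List.Forall₂.cons rep_g6 (List.Forall₂.cons rep_g3 (List.Forall₂.cons rep_g3 (List.Forall₂.cons rep_g4 (List.Forall₂.cons rep_g1 List.Forall₂.nil)))))))))))))))))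
    (by decide +kernel)

/-- an element given by a word -/
noncomputable def l12 : HeG := [g0, g4, l8, g2, l9, g0, g3, g1, g2, g0, g1, g4, g5, g3, g4, g1, g3, g0, g5].prod

theorem rep_l12 : RepG Ul12 l12 :=
  rep_word Ul12 [HeOut.T0, HeOut.T4, Ul8, HeOut.T2, Ul9, HeOut.T0, HeOut.T3, HeOut.T1, HeOut.T2, HeOut.T0, HeOut.T1, HeOut.T4, HeOut.T5, HeOut.T3, HeOut.T4, HeOut.T1, HeOut.T3, HeOut.T0, HeOut.T5] [g0, g4, l8, g2, l9, g0, g3, g1, g2, g0, g1, g4, g5, g3, g4, g1, g3, g0, g5]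
    (List.Forall₂.cons rep_g0 (List.Forall₂.cons rep_g4 (List.Forall₂.cons rep_l8 (List.Forall₂.cons rep_g2 (List.Forall₂.cons rep_l9 (List.Forall₂.cons rep_g0 (List.Forall₂.cons rep_g3 (List.Forall₂.cons rep_g1 (List.Forall₂.cons rep_g2 (List.Forall₂.cons rep_g0 (List.Forall₂.cons rep_g1 (List.Forall₂.cons rep_g4 (List.Forall₂.cons rep_g5 (List.Forall₂.cons rep_g3 (List.Forall₂.cons rep_g4 (List.Forall₂.cons rep_g1 (List.Forall₂.cons rep_g3 (List.Forall₂.cons rep_g0 (List.Forall₂.cons rep_g5 List.Forall₂.nil)))))))))))))))))))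
    (by decide +kernel)

/-- an element given by a word -/
noncomputable def l13 : HeG := [g5, g0, g3, g1, g4, g3, g5, g4, g1, g0, g2, g1, g3, g0, l9, g2, l7, g4, g0].prod

theorem rep_l13 : RepG Ul13 l13 :=
  rep_word Ul13 [HeOut.T5, HeOut.T0, HeOut.T3, HeOut.T1, HeOut.T4, HeOut.T3, HeOut.T5, HeOut.T4, HeOut.T1, HeOut.T0, HeOut.T2, HeOut.T1, HeOut.T3, HeOut.T0, Ul9, HeOut.T2, Ul7, HeOut.T4, HeOut.T0] [g5, g0, g3, g1, g4, g3, g5, g4, g1, g0, g2, g1, g3, g0, l9, g2, l7, g4, g0]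
    (List.Forall₂.cons rep_g5 (List.Forall₂.cons rep_g0 (List.Forall₂.cons rep_g3 (List.Forall₂.cons rep_g1 (List.Forall₂.cons rep_g4 (List.Forall₂.cons rep_g3 (List.Forall₂.cons rep_g5 (List.Forall₂.cons rep_g4 (List.Forall₂.cons rep_g1 (List.Forall₂.cons rep_g0 (List.Forall₂.cons rep_g2 (List.Forall₂.cons rep_g1 (List.Forall₂.cons rep_g3 (List.Forall₂.cons rep_g0 (List.Forall₂.cons rep_l9 (List.Forall₂.cons rep_g2 (List.Forall₂.cons rep_l7 (List.Forall₂.cons rep_g4 (List.Forall₂.cons rep_g0 List.Forall₂.nil)))))))))))))))))))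
    (by decide +kernel)

/-- an element given by a word -/
noncomputable def l14 : HeG := [g2, l9, l13, g4, l8, g4, g2, g5, g3, g2, g0, g1, g5, g2, g0].prod

theorem rep_l14 : RepG Ul14 l14 :=
  rep_word Ul14 [HeOut.T2, Ul9, Ul13, HeOut.T4, Ul8, HeOut.T4, HeOut.T2, HeOut.T5, HeOut.T3, HeOut.T2, HeOut.T0, HeOut.T1, HeOut.T5, HeOut.T2, HeOut.T0] [g2, l9, l13, g4, l8, g4, g2, g5, g3, g2, g0, g1, g5, g2, g0]
    (List.Forall₂.cons rep_g2 (List.Forall₂.cons rep_l9 (List.Forall₂.cons rep_l13 (List.Forall₂.cons rep_g4 (List.Forall₂.cons rep_l8 (List.Forall₂.cons rep_g4 (List.Forall₂.cons rep_g2 (List.Forall₂.cons rep_g5 (List.Forall₂.cons rep_g3 (List.Forall₂.cons rep_g2 (List.Forall₂.cons rep_g0 (List.Forall₂.cons rep_g1 (List.Forall₂.cons rep_g5 (List.Forall₂.cons rep_g2 (List.Forall₂.cons rep_g0 List.Forall₂.nil)))))))))))))))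
    (by decide +kernel)

/-- an element given by a word -/
noncomputable def l15 : HeG := [g0, g2, g5, g1, g0, g2, g3, g5, g2, g4, l7, g4, l12, l9, g2].prod

theorem rep_l15 : RepG Ul15 l15 :=
  rep_word Ul15 [HeOut.T0, HeOut.T2, HeOut.T5, HeOut.T1, HeOut.T0, HeOut.T2, HeOut.T3, HeOut.T5, HeOut.T2, HeOut.T4, Ul7, HeOut.T4, Ul12, Ul9, HeOut.T2] [g0, g2, g5, g1, g0, g2, g3, g5, g2, g4, l7, g4, l12, l9, g2]
    (List.Forall₂.cons rep_g0 (List.Forall₂.cons rep_g2 (List.Forall₂.cons rep_g5 (List.Forall₂.cons rep_g1 (List.Forall₂.cons rep_g0 (List.Forall₂.cons rep_g2 (List.Forall₂.cons rep_g3 (List.Forall₂.cons rep_g5 (List.Forall₂.cons rep_g2 (List.Forall₂.cons rep_g4 (List.Forall₂.cons rep_l7 (List.Forall₂.cons rep_g4 (List.Forall₂.cons rep_l12 (List.Forall₂.cons rep_l9 (List.Forall₂.cons rep_g2 List.Forall₂.nil)))))))))))))))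
    (by decide +kernel)

/-- an element given by a word -/
noncomputable def l16 : HeG := [l9, l14, g0, g4, l8, g6, g5, g3, g5, g2, g2, g1, g4, g1, g2, g1, g1, g2, g0].prod

theorem rep_l16 : RepG Ul16 l16 :=
  rep_word Ul16 [Ul9, Ul14, HeOut.T0, HeOut.T4, Ul8, HeOut.T6, HeOut.T5, HeOut.T3, HeOut.T5, HeOut.T2, HeOut.T2, HeOut.T1, HeOut.T4, HeOut.T1, HeOut.T2, HeOut.T1, HeOut.T1, HeOut.T2, HeOut.T0] [l9, l14, g0, g4, l8, g6, g5, g3, g5, g2, g2, g1, g4, g1, g2, g1, g1, g2, g0]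
    (List.Forall₂.cons rep_l9 (List.Forall₂.cons rep_l14 (List.Forall₂.cons rep_g0 (List.Forall₂.cons rep_g4 (List.Forall₂.cons rep_l8 (List.Forall₂.cons rep_g6 (List.Forall₂.cons rep_g5 (List.Forall₂.cons rep_g3 (List.Forall₂.cons rep_g5 (List.Forall₂.cons rep_g2 (List.Forall₂.cons rep_g2 (List.Forall₂.cons rep_g1 (List.Forall₂.cons rep_g4 (List.Forall₂.cons rep_g1 (List.Forall₂.cons rep_g2 (List.Forall₂.cons rep_g1 (List.Forall₂.cons rep_g1 (List.Forall₂.cons rep_g2 (List.Forall₂.cons rep_g0 List.Forall₂.nil)))))))))))))))))))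
    (by decide +kernel)

/-- an element given by a word -/
noncomputable def l17 : HeG := [g0, g2, g1, g1, g2, g1, g4, g1, g2, g2, g5, g3, g5, g6, l7, g4, g0, l15, l9].prod

theorem rep_l17 : RepG Ul17 l17 :=
  rep_word Ul17 [HeOut.T0, HeOut.T2, HeOut.T1, HeOut.T1, HeOut.T2, HeOut.T1, HeOut.T4, HeOut.T1, HeOut.T2, HeOut.T2, HeOut.T5, HeOut.T3, HeOut.T5, HeOut.T6, Ul7, HeOut.T4, HeOut.T0, Ul15, Ul9] [g0, g2, g1, g1, g2, g1, g4, g1, g2, g2, g5, g3, g5, g6, l7, g4, g0, l15, l9]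
    (List.Forall₂.cons rep_g0 (List.Forall₂.cons rep_g2 (List.Forall₂.cons rep_g1 (List.Forall₂.cons rep_g1 (List.Forall₂.cons rep_g2 (List.Forall₂.cons rep_g1 (List.Forall₂.cons rep_g4 (List.Forall₂.cons rep_g1 (List.Forall₂.cons rep_g2 (List.Forall₂.cons rep_g2 (List.Forall₂.cons rep_g5 (List.Forall₂.cons rep_g3 (List.Forall₂.cons rep_g5 (List.Forall₂.cons rep_g6 (List.Forall₂.cons rep_l7 (List.Forall₂.cons rep_g4 (List.Forall₂.cons rep_g0 (List.Forall₂.cons rep_l15 (List.Forall₂.cons rep_l9 List.Forall₂.nil)))))))))))))))))))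
    (by decide +kernel)

/-- an element given by a word -/
noncomputable def l18 : HeG := [l7, l17, l11, l16, l16, l15, l15, g0, g2, l9, g2, l8, g6, g5, g4, g2, g1, g3, g6, g2, g3, g1, g3, g4].prod

theorem rep_l18 : RepG Ul18 l18 :=
  rep_word Ul18 [Ul7, Ul17, Ul11, Ul16, Ul16, Ul15, Ul15, HeOut.T0, HeOut.T2, Ul9, HeOut.T2, Ul8, HeOut.T6, HeOut.T5, HeOut.T4, HeOut.T2, HeOut.T1, HeOut.T3, HeOut.T6, HeOut.T2, HeOut.T3, HeOut.T1, HeOut.T3, HeOut.T4] [l7, l17, l11, l16, l16, l15, l15, g0, g2, l9, g2, l8, g6, g5, g4, g2, g1, g3, g6, g2, g3, g1, g3, g4]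
    (List.Forall₂.cons rep_l7 (List.Forall₂.cons rep_l17 (List.Forall₂.cons rep_l11 (List.Forall₂.cons rep_l16 (List.Forall₂.cons rep_l16 (List.Forall₂.cons rep_l15 (List.Forall₂.cons rep_l15 (List.Forall₂.cons rep_g0 (List.Forall₂.cons rep_g2 (List.Forall₂.cons rep_l9 (List.Forall₂.cons rep_g2 (List.Forall₂.cons rep_l8 (List.Forall₂.cons rep_g6 (List.Forall₂.cons rep_g5 (List.Forall₂.cons rep_g4 (List.Forall₂.cons rep_g2 (List.Forall₂.cons rep_g1 (List.Forall₂.cons rep_g3 (List.Forall₂.cons rep_g6 (List.Forall₂.cons rep_g2 (List.Forall₂.cons rep_g3 (List.Forall₂.cons rep_g1 (List.Forall₂.cons rep_g3 (List.Forall₂.cons rep_g4 List.Forall₂.nil))))))))))))))))))))))))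
    (by decide +kernel)

/-- an element given by a word -/
noncomputable def e1 : HeG := [g0, l8, l10].prod

theorem rep_e1 : RepG Ue1 e1 :=
  rep_word Ue1 [HeOut.T0, Ul8, Ul10] [g0, l8, l10]
    (List.Forall₂.cons rep_g0 (List.Forall₂.cons rep_l8 (List.Forall₂.cons rep_l10 List.Forall₂.nil)))
    (by decide +kernel)

/-- an element given by a word -/
noncomputable def e2 : HeG := [l14, l18, l9, g2, g0, l11, l17, l13, l9, l10, l18, l16, l18, l11].prod

theorem rep_e2 : RepG Ue2 e2 :=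
  rep_word Ue2 [Ul14, Ul18, Ul9, HeOut.T2, HeOut.T0, Ul11, Ul17, Ul13, Ul9, Ul10, Ul18, Ul16, Ul18, Ul11] [l14, l18, l9, g2, g0, l11, l17, l13, l9, l10, l18, l16, l18, l11]
    (List.Forall₂.cons rep_l14 (List.Forall₂.cons rep_l18 (List.Forall₂.cons rep_l9 (List.Forall₂.cons rep_g2 (List.Forall₂.cons rep_g0 (List.Forall₂.cons rep_l11 (List.Forall₂.cons rep_l17 (List.Forall₂.cons rep_l13 (List.Forall₂.cons rep_l9 (List.Forall₂.cons rep_l10 (List.Forall₂.cons rep_l18 (List.Forall₂.cons rep_l16 (List.Forall₂.cons rep_l18 (List.Forall₂.cons rep_l11 List.Forall₂.nil))))))))))))))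
    (by decide +kernel)

/-- an element given by a word -/
noncomputable def e3 : HeG := [l8, l16, g4, g2, l7, l12, l12, l11, l16, l8, l16, l18].prod

theorem rep_e3 : RepG Ue3 e3 :=
  rep_word Ue3 [Ul8, Ul16, HeOut.T4, HeOut.T2, Ul7, Ul12, Ul12, Ul11, Ul16, Ul8, Ul16, Ul18] [l8, l16, g4, g2, l7, l12, l12, l11, l16, l8, l16, l18]
    (List.Forall₂.cons rep_l8 (List.Forall₂.cons rep_l16 (List.Forall₂.cons rep_g4 (List.Forall₂.cons rep_g2 (List.Forall₂.cons rep_l7 (List.Forall₂.cons rep_l12 (List.Forall₂.cons rep_l12 (List.Forall₂.cons rep_l11 (List.Forall₂.cons rep_l16 (List.Forall₂.cons rep_l8 (List.Forall₂.cons rep_l16 (List.Forall₂.cons rep_l18 List.Forall₂.nil))))))))))))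
    (by decide +kernel)

/-- an element given by a word -/
noncomputable def e4 : HeG := [g6, l9, l17, g0, l11, l12, l12, l17, l18, l16, l8, l18, l10, l11].prod

theorem rep_e4 : RepG Ue4 e4 :=
  rep_word Ue4 [HeOut.T6, Ul9, Ul17, HeOut.T0, Ul11, Ul12, Ul12, Ul17, Ul18, Ul16, Ul8, Ul18, Ul10, Ul11] [g6, l9, l17, g0, l11, l12, l12, l17, l18, l16, l8, l18, l10, l11]
    (List.Forall₂.cons rep_g6 (List.Forall₂.cons rep_l9 (List.Forall₂.cons rep_l17 (List.Forall₂.cons rep_g0 (List.Forall₂.cons rep_l11 (List.Forall₂.cons rep_l12 (List.Forall₂.cons rep_l12 (List.Forall₂.cons rep_l17 (List.Forall₂.cons rep_l18 (List.Forall₂.cons rep_l16 (List.Forall₂.cons rep_l8 (List.Forall₂.cons rep_l18 (List.Forall₂.cons rep_l10 (List.Forall₂.cons rep_l11 List.Forall₂.nil))))))))))))))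
    (by decide +kernel)

/-- an element given by a word -/
noncomputable def e5 : HeG := [g4, l16, g0, l17, l7, l9, l16, l11, l17, l18, l10, l11].prod

theorem rep_e5 : RepG Ue5 e5 :=
  rep_word Ue5 [HeOut.T4, Ul16, HeOut.T0, Ul17, Ul7, Ul9, Ul16, Ul11, Ul17, Ul18, Ul10, Ul11] [g4, l16, g0, l17, l7, l9, l16, l11, l17, l18, l10, l11]
    (List.Forall₂.cons rep_g4 (List.Forall₂.cons rep_l16 (List.Forall₂.cons rep_g0 (List.Forall₂.cons rep_l17 (List.Forall₂.cons rep_l7 (List.Forall₂.cons rep_l9 (List.Forall₂.cons rep_l16 (List.Forall₂.cons rep_l11 (List.Forall₂.cons rep_l17 (List.Forall₂.cons rep_l18 (List.Forall₂.cons rep_l10 (List.Forall₂.cons rep_l11 List.Forall₂.nil))))))))))))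
    (by decide +kernel)

/-- an element given by a word -/
noncomputable def e6 : HeG := [l18, g3, l13, g2, l18, l15, l16, l12, l11, l17, l8, l11].prod

theorem rep_e6 : RepG Ue6 e6 :=
  rep_word Ue6 [Ul18, HeOut.T3, Ul13, HeOut.T2, Ul18, Ul15, Ul16, Ul12, Ul11, Ul17, Ul8, Ul11] [l18, g3, l13, g2, l18, l15, l16, l12, l11, l17, l8, l11]
    (List.Forall₂.cons rep_l18 (List.Forall₂.cons rep_g3 (List.Forall₂.cons rep_l13 (List.Forall₂.cons rep_g2 (List.Forall₂.cons rep_l18 (List.Forall₂.cons rep_l15 (List.Forall₂.cons rep_l16 (List.Forall₂.cons rep_l12 (List.Forall₂.cons rep_l11 (List.Forall₂.cons rep_l17 (List.Forall₂.cons rep_l8 (List.Forall₂.cons rep_l11 List.Forall₂.nil))))))))))))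
    (by decide +kernel)

/-- an element given by a word -/
noncomputable def k : HeG := [g4, l16, g6, g0, l17, l18, l15, l9, l11, l16, l8, l10].prod

theorem rep_k : RepG Uk k :=
  rep_word Uk [HeOut.T4, Ul16, HeOut.T6, HeOut.T0, Ul17, Ul18, Ul15, Ul9, Ul11, Ul16, Ul8, Ul10] [g4, l16, g6, g0, l17, l18, l15, l9, l11, l16, l8, l10]
    (List.Forall₂.cons rep_g4 (List.Forall₂.cons rep_l16 (List.Forall₂.cons rep_g6 (List.Forall₂.cons rep_g0 (List.Forall₂.cons rep_l17 (List.Forall₂.cons rep_l18 (List.Forall₂.cons rep_l15 (List.Forall₂.cons rep_l9 (List.Forall₂.cons rep_l11 (List.Forall₂.cons rep_l16 (List.Forall₂.cons rep_l8 (List.Forall₂.cons rep_l10 List.Forall₂.nil))))))))))))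
    (by decide +kernel)

/-- an element given by a word -/
noncomputable def r : HeG := [g2, l15, g6, g0, l17, l13, l15, l13, l18, l16, l7, l10].prod

theorem rep_r : RepG Ur r :=
  rep_word Ur [HeOut.T2, Ul15, HeOut.T6, HeOut.T0, Ul17, Ul13, Ul15, Ul13, Ul18, Ul16, Ul7, Ul10] [g2, l15, g6, g0, l17, l13, l15, l13, l18, l16, l7, l10]
    (List.Forall₂.cons rep_g2 (List.Forall₂.cons rep_l15 (List.Forall₂.cons rep_g6 (List.Forall₂.cons rep_g0 (List.Forall₂.cons rep_l17 (List.Forall₂.cons rep_l13 (List.Forall₂.cons rep_l15 (List.Forall₂.cons rep_l13 (List.Forall₂.cons rep_l18 (List.Forall₂.cons rep_l16 (List.Forall₂.cons rep_l7 (List.Forall₂.cons rep_l10 List.Forall₂.nil))))))))))))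
    (by decide +kernel)

/-- an element given by a word -/
noncomputable def s : HeG := [l13, l17, g4, l16, l14, l16, l11, l8, l16, l10, l18, l11].prod

theorem rep_s : RepG Us s :=
  rep_word Us [Ul13, Ul17, HeOut.T4, Ul16, Ul14, Ul16, Ul11, Ul8, Ul16, Ul10, Ul18, Ul11] [l13, l17, g4, l16, l14, l16, l11, l8, l16, l10, l18, l11]
    (List.Forall₂.cons rep_l13 (List.Forall₂.cons rep_l17 (List.Forall₂.cons rep_g4 (List.Forall₂.cons rep_l16 (List.Forall₂.cons rep_l14 (List.Forall₂.cons rep_l16 (List.Forall₂.cons rep_l11 (List.Forall₂.cons rep_l8 (List.Forall₂.cons rep_l16 (List.Forall₂.cons rep_l10 (List.Forall₂.cons rep_l18 (List.Forall₂.cons rep_l11 List.Forall₂.nil))))))))))))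
    (by decide +kernel)

/-- an element given by a word -/
noncomputable def c : HeG := [l13, l9, g2, l13, l15, l18, l14, l18, l16, l11, l16, l10, l18].prod

theorem rep_c : RepG Uc c :=
  rep_word Uc [Ul13, Ul9, HeOut.T2, Ul13, Ul15, Ul18, Ul14, Ul18, Ul16, Ul11, Ul16, Ul10, Ul18] [l13, l9, g2, l13, l15, l18, l14, l18, l16, l11, l16, l10, l18]
    (List.Forall₂.cons rep_l13 (List.Forall₂.cons rep_l9 (List.Forall₂.cons rep_g2 (List.Forall₂.cons rep_l13 (List.Forall₂.cons rep_l15 (List.Forall₂.cons rep_l18 (List.Forall₂.cons rep_l14 (List.Forall₂.cons rep_l18 (List.Forall₂.cons rep_l16 (List.Forall₂.cons rep_l11 (List.Forall₂.cons rep_l16 (List.Forall₂.cons rep_l10 (List.Forall₂.cons rep_l18 List.Forall₂.nil)))))))))))))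
    (by decide +kernel)

/-- an element given by a word -/
noncomputable def bp : HeG := [l14, l18, l9, g2, g0, l11, l17, l13, l9, l10, l18, l16, l18, l11].prod

theorem rep_bp : RepG Ubp bp :=
  rep_word Ubp [Ul14, Ul18, Ul9, HeOut.T2, HeOut.T0, Ul11, Ul17, Ul13, Ul9, Ul10, Ul18, Ul16, Ul18, Ul11] [l14, l18, l9, g2, g0, l11, l17, l13, l9, l10, l18, l16, l18, l11]
    (List.Forall₂.cons rep_l14 (List.Forall₂.cons rep_l18 (List.Forall₂.cons rep_l9 (List.Forall₂.cons rep_g2 (List.Forall₂.cons rep_g0 (List.Forall₂.cons rep_l11 (List.Forall₂.cons rep_l17 (List.Forall₂.cons rep_l13 (List.Forall₂.cons rep_l9 (List.Forall₂.cons rep_l10 (List.Forall₂.cons rep_l18 (List.Forall₂.cons rep_l16 (List.Forall₂.cons rep_l18 (List.Forall₂.cons rep_l11 List.Forall₂.nil))))))))))))))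
    (by decide +kernel)

/-- an element given by a word -/
noncomputable def cp : HeG := [g6, l9, l17, g0, l11, l12, l12, l17, l18, l16, l8, l18, l10, l11].prod

theorem rep_cp : RepG Ucp cp :=
  rep_word Ucp [HeOut.T6, Ul9, Ul17, HeOut.T0, Ul11, Ul12, Ul12, Ul17, Ul18, Ul16, Ul8, Ul18, Ul10, Ul11] [g6, l9, l17, g0, l11, l12, l12, l17, l18, l16, l8, l18, l10, l11]
    (List.Forall₂.cons rep_g6 (List.Forall₂.cons rep_l9 (List.Forall₂.cons rep_l17 (List.Forall₂.cons rep_g0 (List.Forall₂.cons rep_l11 (List.Forall₂.cons rep_l12 (List.Forall₂.cons rep_l12 (List.Forall₂.cons rep_l17 (List.Forall₂.cons rep_l18 (List.Forall₂.cons rep_l16 (List.Forall₂.cons rep_l8 (List.Forall₂.cons rep_l18 (List.Forall₂.cons rep_l10 (List.Forall₂.cons rep_l11 List.Forall₂.nil))))))))))))))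
    (by decide +kernel)

/-- an element given by a word -/
noncomputable def x : HeG := [g2, l18, l13, g2, l14, l8, l9, l18, l17, l7].prod

theorem rep_x : RepG Ux x :=
  rep_word Ux [HeOut.T2, Ul18, Ul13, HeOut.T2, Ul14, Ul8, Ul9, Ul18, Ul17, Ul7] [g2, l18, l13, g2, l14, l8, l9, l18, l17, l7]
    (List.Forall₂.cons rep_g2 (List.Forall₂.cons rep_l18 (List.Forall₂.cons rep_l13 (List.Forall₂.cons rep_g2 (List.Forall₂.cons rep_l14 (List.Forall₂.cons rep_l8 (List.Forall₂.cons rep_l9 (List.Forall₂.cons rep_l18 (List.Forall₂.cons rep_l17 (List.Forall₂.cons rep_l7 List.Forall₂.nil))))))))))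
    (by decide +kernel)

/-- an element given by a word -/
noncomputable def y : HeG := [l15, l7, g2, g0, l13, l8, l16, l9, l17, l10, l11].prod

theorem rep_y : RepG Uy y :=
  rep_word Uy [Ul15, Ul7, HeOut.T2, HeOut.T0, Ul13, Ul8, Ul16, Ul9, Ul17, Ul10, Ul11] [l15, l7, g2, g0, l13, l8, l16, l9, l17, l10, l11]
    (List.Forall₂.cons rep_l15 (List.Forall₂.cons rep_l7 (List.Forall₂.cons rep_g2 (List.Forall₂.cons rep_g0 (List.Forall₂.cons rep_l13 (List.Forall₂.cons rep_l8 (List.Forall₂.cons rep_l16 (List.Forall₂.cons rep_l9 (List.Forall₂.cons rep_l17 (List.Forall₂.cons rep_l10 (List.Forall₂.cons rep_l11 List.Forall₂.nil)))))))))))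
    (by decide +kernel)

/-- an element given by a word -/
noncomputable def t : HeG := [l18, g4, l17, l11, l16, l10, l18, l11].prod

theorem rep_t : RepG Ut t :=
  rep_word Ut [Ul18, HeOut.T4, Ul17, Ul11, Ul16, Ul10, Ul18, Ul11] [l18, g4, l17, l11, l16, l10, l18, l11]
    (List.Forall₂.cons rep_l18 (List.Forall₂.cons rep_g4 (List.Forall₂.cons rep_l17 (List.Forall₂.cons rep_l11 (List.Forall₂.cons rep_l16 (List.Forall₂.cons rep_l10 (List.Forall₂.cons rep_l18 (List.Forall₂.cons rep_l11 List.Forall₂.nil))))))))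
    (by decide +kernel)

/-- an element given by a word -/
noncomputable def x5 : HeG := [l9, l16, g2, g0, l18, l7, l13, l18, l11].prod

theorem rep_x5 : RepG Ux5 x5 :=
  rep_word Ux5 [Ul9, Ul16, HeOut.T2, HeOut.T0, Ul18, Ul7, Ul13, Ul18, Ul11] [l9, l16, g2, g0, l18, l7, l13, l18, l11]
    (List.Forall₂.cons rep_l9 (List.Forall₂.cons rep_l16 (List.Forall₂.cons rep_g2 (List.Forall₂.cons rep_g0 (List.Forall₂.cons rep_l18 (List.Forall₂.cons rep_l7 (List.Forall₂.cons rep_l13 (List.Forall₂.cons rep_l18 (List.Forall₂.cons rep_l11 List.Forall₂.nil)))))))))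
    (by decide +kernel)

/-- an element given by a word -/
noncomputable def y5 : HeG := [g4, l13, l17, g0, l16, l12, l12, l16, l9, l11, l16, l7, l17, l18, l10, l18].prod

theorem rep_y5 : RepG Uy5 y5 :=
  rep_word Uy5 [HeOut.T4, Ul13, Ul17, HeOut.T0, Ul16, Ul12, Ul12, Ul16, Ul9, Ul11, Ul16, Ul7, Ul17, Ul18, Ul10, Ul18] [g4, l13, l17, g0, l16, l12, l12, l16, l9, l11, l16, l7, l17, l18, l10, l18]
    (List.Forall₂.cons rep_g4 (List.Forall₂.cons rep_l13 (List.Forall₂.cons rep_l17 (List.Forall₂.cons rep_g0 (List.Forall₂.cons rep_l16 (List.Forall₂.cons rep_l12 (List.Forall₂.cons rep_l12 (List.Forall₂.cons rep_l16 (List.Forall₂.cons rep_l9 (List.Forall₂.cons rep_l11 (List.Forall₂.cons rep_l16 (List.Forall₂.cons rep_l7 (List.Forall₂.cons rep_l17 (List.Forall₂.cons rep_l18 (List.Forall₂.cons rep_l10 (List.Forall₂.cons rep_l18 List.Forall₂.nil))))))))))))))))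
    (by decide +kernel)

/-- an element given by a word -/
noncomputable def t5 : HeG := [g3, l13, g4, l17, l13, l18, l14, l16, l8, l18, l16, l18, l10].prod

theorem rep_t5 : RepG Ut5 t5 :=
  rep_word Ut5 [HeOut.T3, Ul13, HeOut.T4, Ul17, Ul13, Ul18, Ul14, Ul16, Ul8, Ul18, Ul16, Ul18, Ul10] [g3, l13, g4, l17, l13, l18, l14, l16, l8, l18, l16, l18, l10]
    (List.Forall₂.cons rep_g3 (List.Forall₂.cons rep_l13 (List.Forall₂.cons rep_g4 (List.Forall₂.cons rep_l17 (List.Forall₂.cons rep_l13 (List.Forall₂.cons rep_l18 (List.Forall₂.cons rep_l14 (List.Forall₂.cons rep_l16 (List.Forall₂.cons rep_l8 (List.Forall₂.cons rep_l18 (List.Forall₂.cons rep_l16 (List.Forall₂.cons rep_l18 (List.Forall₂.cons rep_l10 List.Forall₂.nil)))))))))))))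
    (by decide +kernel)

/-- an element given by a word -/
noncomputable def x7 : HeG := [g3, l15, l7, g2, g0, l17, l7, l12, l8, l16, l11, l16, l7, l10].prod

theorem rep_x7 : RepG Ux7 x7 :=
  rep_word Ux7 [HeOut.T3, Ul15, Ul7, HeOut.T2, HeOut.T0, Ul17, Ul7, Ul12, Ul8, Ul16, Ul11, Ul16, Ul7, Ul10] [g3, l15, l7, g2, g0, l17, l7, l12, l8, l16, l11, l16, l7, l10]
    (List.Forall₂.cons rep_g3 (List.Forall₂.cons rep_l15 (List.Forall₂.cons rep_l7 (List.Forall₂.cons rep_g2 (List.Forall₂.cons rep_g0 (List.Forall₂.cons rep_l17 (List.Forall₂.cons rep_l7 (List.Forall₂.cons rep_l12 (List.Forall₂.cons rep_l8 (List.Forall₂.cons rep_l16 (List.Forall₂.cons rep_l11 (List.Forall₂.cons rep_l16 (List.Forall₂.cons rep_l7 (List.Forall₂.cons rep_l10 List.Forall₂.nil))))))))))))))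
    (by decide +kernel)

/-- an element given by a word -/
noncomputable def y7 : HeG := [l9, l15, g2, g0, l9, l17, l13, l18, l16].prod

theorem rep_y7 : RepG Uy7 y7 :=
  rep_word Uy7 [Ul9, Ul15, HeOut.T2, HeOut.T0, Ul9, Ul17, Ul13, Ul18, Ul16] [l9, l15, g2, g0, l9, l17, l13, l18, l16]
    (List.Forall₂.cons rep_l9 (List.Forall₂.cons rep_l15 (List.Forall₂.cons rep_g2 (List.Forall₂.cons rep_g0 (List.Forall₂.cons rep_l9 (List.Forall₂.cons rep_l17 (List.Forall₂.cons rep_l13 (List.Forall₂.cons rep_l18 (List.Forall₂.cons rep_l16 List.Forall₂.nil)))))))))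
    (by decide +kernel)

/-- an element given by a word -/
noncomputable def s7 : HeG := [l17, l11, l9, g2, l9, l7, l15, l8, l12, l7, l17, l18, l17, l10, l18, l11].prod

theorem rep_s7 : RepG Us7 s7 :=
  rep_word Us7 [Ul17, Ul11, Ul9, HeOut.T2, Ul9, Ul7, Ul15, Ul8, Ul12, Ul7, Ul17, Ul18, Ul17, Ul10, Ul18, Ul11] [l17, l11, l9, g2, l9, l7, l15, l8, l12, l7, l17, l18, l17, l10, l18, l11]
    (List.Forall₂.cons rep_l17 (List.Forall₂.cons rep_l11 (List.Forall₂.cons rep_l9 (List.Forall₂.cons rep_g2 (List.Forall₂.cons rep_l9 (List.Forall₂.cons rep_l7 (List.Forall₂.cons rep_l15 (List.Forall₂.cons rep_l8 (List.Forall₂.cons rep_l12 (List.Forall₂.cons rep_l7 (List.Forall₂.cons rep_l17 (List.Forall₂.cons rep_l18 (List.Forall₂.cons rep_l17 (List.Forall₂.cons rep_l10 (List.Forall₂.cons rep_l18 (List.Forall₂.cons rep_l11 List.Forall₂.nil))))))))))))))))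
    (by decide +kernel)

/-- an element given by a word -/
noncomputable def qe2 : HeG := [l16, l9, g6, g2, l18, l8, l15, l12, l18, l17, l18, l16, l18, l11].prod

theorem rep_qe2 : RepG Uqe2 qe2 :=
  rep_word Uqe2 [Ul16, Ul9, HeOut.T6, HeOut.T2, Ul18, Ul8, Ul15, Ul12, Ul18, Ul17, Ul18, Ul16, Ul18, Ul11] [l16, l9, g6, g2, l18, l8, l15, l12, l18, l17, l18, l16, l18, l11]
    (List.Forall₂.cons rep_l16 (List.Forall₂.cons rep_l9 (List.Forall₂.cons rep_g6 (List.Forall₂.cons rep_g2 (List.Forall₂.cons rep_l18 (List.Forall₂.cons rep_l8 (List.Forall₂.cons rep_l15 (List.Forall₂.cons rep_l12 (List.Forall₂.cons rep_l18 (List.Forall₂.cons rep_l17 (List.Forall₂.cons rep_l18 (List.Forall₂.cons rep_l16 (List.Forall₂.cons rep_l18 (List.Forall₂.cons rep_l11 List.Forall₂.nil))))))))))))))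
    (by decide +kernel)

/-- an element given by a word -/
noncomputable def qe3 : HeG := [l14, l9, g4, g2, l15, l8, l18, l13, l16, l18, l7, l18, l11].prod

theorem rep_qe3 : RepG Uqe3 qe3 :=
  rep_word Uqe3 [Ul14, Ul9, HeOut.T4, HeOut.T2, Ul15, Ul8, Ul18, Ul13, Ul16, Ul18, Ul7, Ul18, Ul11] [l14, l9, g4, g2, l15, l8, l18, l13, l16, l18, l7, l18, l11]
    (List.Forall₂.cons rep_l14 (List.Forall₂.cons rep_l9 (List.Forall₂.cons rep_g4 (List.Forall₂.cons rep_g2 (List.Forall₂.cons rep_l15 (List.Forall₂.cons rep_l8 (List.Forall₂.cons rep_l18 (List.Forall₂.cons rep_l13 (List.Forall₂.cons rep_l16 (List.Forall₂.cons rep_l18 (List.Forall₂.cons rep_l7 (List.Forall₂.cons rep_l18 (List.Forall₂.cons rep_l11 List.Forall₂.nil)))))))))))))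
    (by decide +kernel)

/-- an element given by a word -/
noncomputable def qe4 : HeG := [l17, l12, g4, g0, l15, l18, l13, l11, l16, l16, l11].prod

theorem rep_qe4 : RepG Uqe4 qe4 :=
  rep_word Uqe4 [Ul17, Ul12, HeOut.T4, HeOut.T0, Ul15, Ul18, Ul13, Ul11, Ul16, Ul16, Ul11] [l17, l12, g4, g0, l15, l18, l13, l11, l16, l16, l11]
    (List.Forall₂.cons rep_l17 (List.Forall₂.cons rep_l12 (List.Forall₂.cons rep_g4 (List.Forall₂.cons rep_g0 (List.Forall₂.cons rep_l15 (List.Forall₂.cons rep_l18 (List.Forall₂.cons rep_l13 (List.Forall₂.cons rep_l11 (List.Forall₂.cons rep_l16 (List.Forall₂.cons rep_l16 (List.Forall₂.cons rep_l11 List.Forall₂.nil)))))))))))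
    (by decide +kernel)

/-- an element given by a word -/
noncomputable def qe5 : HeG := [l17, l15, g6, g2, l7, l15, l9, l13, l18, l17, l17, l7, l18, l10, l18, l11].prod

theorem rep_qe5 : RepG Uqe5 qe5 :=
  rep_word Uqe5 [Ul17, Ul15, HeOut.T6, HeOut.T2, Ul7, Ul15, Ul9, Ul13, Ul18, Ul17, Ul17, Ul7, Ul18, Ul10, Ul18, Ul11] [l17, l15, g6, g2, l7, l15, l9, l13, l18, l17, l17, l7, l18, l10, l18, l11]
    (List.Forall₂.cons rep_l17 (List.Forall₂.cons rep_l15 (List.Forall₂.cons rep_g6 (List.Forall₂.cons rep_g2 (List.Forall₂.cons rep_l7 (List.Forall₂.cons rep_l15 (List.Forall₂.cons rep_l9 (List.Forall₂.cons rep_l13 (List.Forall₂.cons rep_l18 (List.Forall₂.cons rep_l17 (List.Forall₂.cons rep_l17 (List.Forall₂.cons rep_l7 (List.Forall₂.cons rep_l18 (List.Forall₂.cons rep_l10 (List.Forall₂.cons rep_l18 (List.Forall₂.cons rep_l11 List.Forall₂.nil))))))))))))))))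
    (by decide +kernel)

/-- an element given by a word -/
noncomputable def qe6 : HeG := [g6, l17, l12, l15, g2, l17, l13, l7, l14, l18, l17, l18, l16, l7, l11].prod

theorem rep_qe6 : RepG Uqe6 qe6 :=
  rep_word Uqe6 [HeOut.T6, Ul17, Ul12, Ul15, HeOut.T2, Ul17, Ul13, Ul7, Ul14, Ul18, Ul17, Ul18, Ul16, Ul7, Ul11] [g6, l17, l12, l15, g2, l17, l13, l7, l14, l18, l17, l18, l16, l7, l11]
    (List.Forall₂.cons rep_g6 (List.Forall₂.cons rep_l17 (List.Forall₂.cons rep_l12 (List.Forall₂.cons rep_l15 (List.Forall₂.cons rep_g2 (List.Forall₂.cons rep_l17 (List.Forall₂.cons rep_l13 (List.Forall₂.cons rep_l7 (List.Forall₂.cons rep_l14 (List.Forall₂.cons rep_l18 (List.Forall₂.cons rep_l17 (List.Forall₂.cons rep_l18 (List.Forall₂.cons rep_l16 (List.Forall₂.cons rep_l7 (List.Forall₂.cons rep_l11 List.Forall₂.nil)))))))))))))))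
    (by decide +kernel)

/-- an element given by a word -/
noncomputable def qe12 : HeG := [l14, g6, g0, l16, l14, l7, l13, l9, l18, l11, l16, l18, l10, l18, l11].prod

theorem rep_qe12 : RepG Uqe12 qe12 :=
  rep_word Uqe12 [Ul14, HeOut.T6, HeOut.T0, Ul16, Ul14, Ul7, Ul13, Ul9, Ul18, Ul11, Ul16, Ul18, Ul10, Ul18, Ul11] [l14, g6, g0, l16, l14, l7, l13, l9, l18, l11, l16, l18, l10, l18, l11]
    (List.Forall₂.cons rep_l14 (List.Forall₂.cons rep_g6 (List.Forall₂.cons rep_g0 (List.Forall₂.cons rep_l16 (List.Forall₂.cons rep_l14 (List.Forall₂.cons rep_l7 (List.Forall₂.cons rep_l13 (List.Forall₂.cons rep_l9 (List.Forall₂.cons rep_l18 (List.Forall₂.cons rep_l11 (List.Forall₂.cons rep_l16 (List.Forall₂.cons rep_l18 (List.Forall₂.cons rep_l10 (List.Forall₂.cons rep_l18 (List.Forall₂.cons rep_l11 List.Forall₂.nil)))))))))))))))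
    (by decide +kernel)

/-- an element given by a word -/
noncomputable def qe13 : HeG := [g4, l16, g2, l18, g0, l7, l17, l12, l11, l17, l17, l18, l10, l11].prod

theorem rep_qe13 : RepG Uqe13 qe13 :=
  rep_word Uqe13 [HeOut.T4, Ul16, HeOut.T2, Ul18, HeOut.T0, Ul7, Ul17, Ul12, Ul11, Ul17, Ul17, Ul18, Ul10, Ul11] [g4, l16, g2, l18, g0, l7, l17, l12, l11, l17, l17, l18, l10, l11]
    (List.Forall₂.cons rep_g4 (List.Forall₂.cons rep_l16 (List.Forall₂.cons rep_g2 (List.Forall₂.cons rep_l18 (List.Forall₂.cons rep_g0 (List.Forall₂.cons rep_l7 (List.Forall₂.cons rep_l17 (List.Forall₂.cons rep_l12 (List.Forall₂.cons rep_l11 (List.Forall₂.cons rep_l17 (List.Forall₂.cons rep_l17 (List.Forall₂.cons rep_l18 (List.Forall₂.cons rep_l10 (List.Forall₂.cons rep_l11 List.Forall₂.nil))))))))))))))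
    (by decide +kernel)

/-- an element given by a word -/
noncomputable def qe14 : HeG := [l18, g6, g3, g2, l10, l7, l14, l9, l17, l11, l17, l8, l18, l10, l11].prod

theorem rep_qe14 : RepG Uqe14 qe14 :=
  rep_word Uqe14 [Ul18, HeOut.T6, HeOut.T3, HeOut.T2, Ul10, Ul7, Ul14, Ul9, Ul17, Ul11, Ul17, Ul8, Ul18, Ul10, Ul11] [l18, g6, g3, g2, l10, l7, l14, l9, l17, l11, l17, l8, l18, l10, l11]
    (List.Forall₂.cons rep_l18 (List.Forall₂.cons rep_g6 (List.Forall₂.cons rep_g3 (List.Forall₂.cons rep_g2 (List.Forall₂.cons rep_l10 (List.Forall₂.cons rep_l7 (List.Forall₂.cons rep_l14 (List.Forall₂.cons rep_l9 (List.Forall₂.cons rep_l17 (List.Forall₂.cons rep_l11 (List.Forall₂.cons rep_l17 (List.Forall₂.cons rep_l8 (List.Forall₂.cons rep_l18 (List.Forall₂.cons rep_l10 (List.Forall₂.cons rep_l11 List.Forall₂.nil)))))))))))))))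
    (by decide +kernel)

/-- an element given by a word -/
noncomputable def qe15 : HeG := [l8, g2, g3, g4, l17, l9, l15, l12, l9, l17, l18, l16, l7, l18].prod

theorem rep_qe15 : RepG Uqe15 qe15 :=
  rep_word Uqe15 [Ul8, HeOut.T2, HeOut.T3, HeOut.T4, Ul17, Ul9, Ul15, Ul12, Ul9, Ul17, Ul18, Ul16, Ul7, Ul18] [l8, g2, g3, g4, l17, l9, l15, l12, l9, l17, l18, l16, l7, l18]
    (List.Forall₂.cons rep_l8 (List.Forall₂.cons rep_g2 (List.Forall₂.cons rep_g3 (List.Forall₂.cons rep_g4 (List.Forall₂.cons rep_l17 (List.Forall₂.cons rep_l9 (List.Forall₂.cons rep_l15 (List.Forall₂.cons rep_l12 (List.Forall₂.cons rep_l9 (List.Forall₂.cons rep_l17 (List.Forall₂.cons rep_l18 (List.Forall₂.cons rep_l16 (List.Forall₂.cons rep_l7 (List.Forall₂.cons rep_l18 List.Forall₂.nil))))))))))))))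
    (by decide +kernel)

/-- an element given by a word -/
noncomputable def qe16 : HeG := [g2, l12, l15, g6, g0, l9, l8, l15, l7, l18, l16, l7, l18, l10, l11].prod

theorem rep_qe16 : RepG Uqe16 qe16 :=
  rep_word Uqe16 [HeOut.T2, Ul12, Ul15, HeOut.T6, HeOut.T0, Ul9, Ul8, Ul15, Ul7, Ul18, Ul16, Ul7, Ul18, Ul10, Ul11] [g2, l12, l15, g6, g0, l9, l8, l15, l7, l18, l16, l7, l18, l10, l11]
    (List.Forall₂.cons rep_g2 (List.Forall₂.cons rep_l12 (List.Forall₂.cons rep_l15 (List.Forall₂.cons rep_g6 (List.Forall₂.cons rep_g0 (List.Forall₂.cons rep_l9 (List.Forall₂.cons rep_l8 (List.Forall₂.cons rep_l15 (List.Forall₂.cons rep_l7 (List.Forall₂.cons rep_l18 (List.Forall₂.cons rep_l16 (List.Forall₂.cons rep_l7 (List.Forall₂.cons rep_l18 (List.Forall₂.cons rep_l10 (List.Forall₂.cons rep_l11 List.Forall₂.nil)))))))))))))))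
    (by decide +kernel)

/-- an element given by a word -/
noncomputable def qe23 : HeG := [l11, l16, g3, g2, l18, l14, l9, l12, l16, l7, l18, l10, l18, l11].prod

theorem rep_qe23 : RepG Uqe23 qe23 :=
  rep_word Uqe23 [Ul11, Ul16, HeOut.T3, HeOut.T2, Ul18, Ul14, Ul9, Ul12, Ul16, Ul7, Ul18, Ul10, Ul18, Ul11] [l11, l16, g3, g2, l18, l14, l9, l12, l16, l7, l18, l10, l18, l11]
    (List.Forall₂.cons rep_l11 (List.Forall₂.cons rep_l16 (List.Forall₂.cons rep_g3 (List.Forall₂.cons rep_g2 (List.Forall₂.cons rep_l18 (List.Forall₂.cons rep_l14 (List.Forall₂.cons rep_l9 (List.Forall₂.cons rep_l12 (List.Forall₂.cons rep_l16 (List.Forall₂.cons rep_l7 (List.Forall₂.cons rep_l18 (List.Forall₂.cons rep_l10 (List.Forall₂.cons rep_l18 (List.Forall₂.cons rep_l11 List.Forall₂.nil))))))))))))))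
    (by decide +kernel)

/-- an element given by a word -/
noncomputable def qe24 : HeG := [l14, l14, l8, g2, l18, l9, l8, l12, l16, l8, l18, l10, l18, l11].prod

theorem rep_qe24 : RepG Uqe24 qe24 :=
  rep_word Uqe24 [Ul14, Ul14, Ul8, HeOut.T2, Ul18, Ul9, Ul8, Ul12, Ul16, Ul8, Ul18, Ul10, Ul18, Ul11] [l14, l14, l8, g2, l18, l9, l8, l12, l16, l8, l18, l10, l18, l11]
    (List.Forall₂.cons rep_l14 (List.Forall₂.cons rep_l14 (List.Forall₂.cons rep_l8 (List.Forall₂.cons rep_g2 (List.Forall₂.cons rep_l18 (List.Forall₂.cons rep_l9 (List.Forall₂.cons rep_l8 (List.Forall₂.cons rep_l12 (List.Forall₂.cons rep_l16 (List.Forall₂.cons rep_l8 (List.Forall₂.cons rep_l18 (List.Forall₂.cons rep_l10 (List.Forall₂.cons rep_l18 (List.Forall₂.cons rep_l11 List.Forall₂.nil))))))))))))))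
    (by decide +kernel)

/-- an element given by a word -/
noncomputable def qe25 : HeG := [l8, g4, l16, l14, l13, l9, l17, l8, l16, l18, l10, l18].prod

theorem rep_qe25 : RepG Uqe25 qe25 :=
  rep_word Uqe25 [Ul8, HeOut.T4, Ul16, Ul14, Ul13, Ul9, Ul17, Ul8, Ul16, Ul18, Ul10, Ul18] [l8, g4, l16, l14, l13, l9, l17, l8, l16, l18, l10, l18]
    (List.Forall₂.cons rep_l8 (List.Forall₂.cons rep_g4 (List.Forall₂.cons rep_l16 (List.Forall₂.cons rep_l14 (List.Forall₂.cons rep_l13 (List.Forall₂.cons rep_l9 (List.Forall₂.cons rep_l17 (List.Forall₂.cons rep_l8 (List.Forall₂.cons rep_l16 (List.Forall₂.cons rep_l18 (List.Forall₂.cons rep_l10 (List.Forall₂.cons rep_l18 List.Forall₂.nil))))))))))))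
    (by decide +kernel)

/-- an element given by a word -/
noncomputable def qe26 : HeG := [l15, l12, g4, g3, g2, l12, l9, l14, l16, l11, l16, l16, l10, l18].prod

theorem rep_qe26 : RepG Uqe26 qe26 :=
  rep_word Uqe26 [Ul15, Ul12, HeOut.T4, HeOut.T3, HeOut.T2, Ul12, Ul9, Ul14, Ul16, Ul11, Ul16, Ul16, Ul10, Ul18] [l15, l12, g4, g3, g2, l12, l9, l14, l16, l11, l16, l16, l10, l18]
    (List.Forall₂.cons rep_l15 (List.Forall₂.cons rep_l12 (List.Forall₂.cons rep_g4 (List.Forall₂.cons rep_g3 (List.Forall₂.cons rep_g2 (List.Forall₂.cons rep_l12 (List.Forall₂.cons rep_l9 (List.Forall₂.cons rep_l14 (List.Forall₂.cons rep_l16 (List.Forall₂.cons rep_l11 (List.Forall₂.cons rep_l16 (List.Forall₂.cons rep_l16 (List.Forall₂.cons rep_l10 (List.Forall₂.cons rep_l18 List.Forall₂.nil))))))))))))))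
    (by decide +kernel)

/-- an element given by a word -/
noncomputable def qe34 : HeG := [l15, l18, g3, l14, g0, l8, l18, l17, l13, l9, l16, l16, l16, l8, l18, l11].prod

theorem rep_qe34 : RepG Uqe34 qe34 :=
  rep_word Uqe34 [Ul15, Ul18, HeOut.T3, Ul14, HeOut.T0, Ul8, Ul18, Ul17, Ul13, Ul9, Ul16, Ul16, Ul16, Ul8, Ul18, Ul11] [l15, l18, g3, l14, g0, l8, l18, l17, l13, l9, l16, l16, l16, l8, l18, l11]
    (List.Forall₂.cons rep_l15 (List.Forall₂.cons rep_l18 (List.Forall₂.cons rep_g3 (List.Forall₂.cons rep_l14 (List.Forall₂.cons rep_g0 (List.Forall₂.cons rep_l8 (List.Forall₂.cons rep_l18 (List.Forall₂.cons rep_l17 (List.Forall₂.cons rep_l13 (List.Forall₂.cons rep_l9 (List.Forall₂.cons rep_l16 (List.Forall₂.cons rep_l16 (List.Forall₂.cons rep_l16 (List.Forall₂.cons rep_l8 (List.Forall₂.cons rep_l18 (List.Forall₂.cons rep_l11 List.Forall₂.nil))))))))))))))))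
    (by decide +kernel)

/-- an element given by a word -/
noncomputable def qe35 : HeG := [l18, l17, g2, g0, l15, l13, l8, l9, l11, l17, l18, l7, l11].prod

theorem rep_qe35 : RepG Uqe35 qe35 :=
  rep_word Uqe35 [Ul18, Ul17, HeOut.T2, HeOut.T0, Ul15, Ul13, Ul8, Ul9, Ul11, Ul17, Ul18, Ul7, Ul11] [l18, l17, g2, g0, l15, l13, l8, l9, l11, l17, l18, l7, l11]
    (List.Forall₂.cons rep_l18 (List.Forall₂.cons rep_l17 (List.Forall₂.cons rep_g2 (List.Forall₂.cons rep_g0 (List.Forall₂.cons rep_l15 (List.Forall₂.cons rep_l13 (List.Forall₂.cons rep_l8 (List.Forall₂.cons rep_l9 (List.Forall₂.cons rep_l11 (List.Forall₂.cons rep_l17 (List.Forall₂.cons rep_l18 (List.Forall₂.cons rep_l7 (List.Forall₂.cons rep_l11 List.Forall₂.nil)))))))))))))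
    (by decide +kernel)

/-- an element given by a word -/
noncomputable def qe36 : HeG := [l15, g3, l15, g2, l14, l18, l15, l12, l9, l16, l8, l16, l18].prod

theorem rep_qe36 : RepG Uqe36 qe36 :=
  rep_word Uqe36 [Ul15, HeOut.T3, Ul15, HeOut.T2, Ul14, Ul18, Ul15, Ul12, Ul9, Ul16, Ul8, Ul16, Ul18] [l15, g3, l15, g2, l14, l18, l15, l12, l9, l16, l8, l16, l18]
    (List.Forall₂.cons rep_l15 (List.Forall₂.cons rep_g3 (List.Forall₂.cons rep_l15 (List.Forall₂.cons rep_g2 (List.Forall₂.cons rep_l14 (List.Forall₂.cons rep_l18 (List.Forall₂.cons rep_l15 (List.Forall₂.cons rep_l12 (List.Forall₂.cons rep_l9 (List.Forall₂.cons rep_l16 (List.Forall₂.cons rep_l8 (List.Forall₂.cons rep_l16 (List.Forall₂.cons rep_l18 List.Forall₂.nil)))))))))))))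
    (by decide +kernel)

/-- an element given by a word -/
noncomputable def qe45 : HeG := [l17, g6, l9, g2, g0, l13, l11, l17, l12, l11, l16, l18, l7, l10, l18].prod

theorem rep_qe45 : RepG Uqe45 qe45 :=
  rep_word Uqe45 [Ul17, HeOut.T6, Ul9, HeOut.T2, HeOut.T0, Ul13, Ul11, Ul17, Ul12, Ul11, Ul16, Ul18, Ul7, Ul10, Ul18] [l17, g6, l9, g2, g0, l13, l11, l17, l12, l11, l16, l18, l7, l10, l18]
    (List.Forall₂.cons rep_l17 (List.Forall₂.cons rep_g6 (List.Forall₂.cons rep_l9 (List.Forall₂.cons rep_g2 (List.Forall₂.cons rep_g0 (List.Forall₂.cons rep_l13 (List.Forall₂.cons rep_l11 (List.Forall₂.cons rep_l17 (List.Forall₂.cons rep_l12 (List.Forall₂.cons rep_l11 (List.Forall₂.cons rep_l16 (List.Forall₂.cons rep_l18 (List.Forall₂.cons rep_l7 (List.Forall₂.cons rep_l10 (List.Forall₂.cons rep_l18 List.Forall₂.nil)))))))))))))))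
    (by decide +kernel)

/-- an element given by a word -/
noncomputable def qe46 : HeG := [l13, g2, l7, g4, l15, l12, l18, l9, l8, l16, l18, l17].prod

theorem rep_qe46 : RepG Uqe46 qe46 :=
  rep_word Uqe46 [Ul13, HeOut.T2, Ul7, HeOut.T4, Ul15, Ul12, Ul18, Ul9, Ul8, Ul16, Ul18, Ul17] [l13, g2, l7, g4, l15, l12, l18, l9, l8, l16, l18, l17]
    (List.Forall₂.cons rep_l13 (List.Forall₂.cons rep_g2 (List.Forall₂.cons rep_l7 (List.Forall₂.cons rep_g4 (List.Forall₂.cons rep_l15 (List.Forall₂.cons rep_l12 (List.Forall₂.cons rep_l18 (List.Forall₂.cons rep_l9 (List.Forall₂.cons rep_l8 (List.Forall₂.cons rep_l16 (List.Forall₂.cons rep_l18 (List.Forall₂.cons rep_l17 List.Forall₂.nil))))))))))))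
    (by decide +kernel)

/-- an element given by a word -/
noncomputable def qe56 : HeG := [l18, g4, l7, g2, l14, l9, l15, l7, l9, l16, l7, l18, l16, l7, l18, l10, l11].prod

theorem rep_qe56 : RepG Uqe56 qe56 :=
  rep_word Uqe56 [Ul18, HeOut.T4, Ul7, HeOut.T2, Ul14, Ul9, Ul15, Ul7, Ul9, Ul16, Ul7, Ul18, Ul16, Ul7, Ul18, Ul10, Ul11] [l18, g4, l7, g2, l14, l9, l15, l7, l9, l16, l7, l18, l16, l7, l18, l10, l11]
    (List.Forall₂.cons rep_l18 (List.Forall₂.cons rep_g4 (List.Forall₂.cons rep_l7 (List.Forall₂.cons rep_g2 (List.Forall₂.cons rep_l14 (List.Forall₂.cons rep_l9 (List.Forall₂.cons rep_l15 (List.Forall₂.cons rep_l7 (List.Forall₂.cons rep_l9 (List.Forall₂.cons rep_l16 (List.Forall₂.cons rep_l7 (List.Forall₂.cons rep_l18 (List.Forall₂.cons rep_l16 (List.Forall₂.cons rep_l7 (List.Forall₂.cons rep_l18 (List.Forall₂.cons rep_l10 (List.Forall₂.cons rep_l11 List.Forall₂.nil)))))))))))))))))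
    (by decide +kernel)

/-- an element given by a word -/
noncomputable def qe123 : HeG := [l13, l17, l7, g2, g0, l9, l17, l12, l16, l8, l18].prod

theorem rep_qe123 : RepG Uqe123 qe123 :=
  rep_word Uqe123 [Ul13, Ul17, Ul7, HeOut.T2, HeOut.T0, Ul9, Ul17, Ul12, Ul16, Ul8, Ul18] [l13, l17, l7, g2, g0, l9, l17, l12, l16, l8, l18]
    (List.Forall₂.cons rep_l13 (List.Forall₂.cons rep_l17 (List.Forall₂.cons rep_l7 (List.Forall₂.cons rep_g2 (List.Forall₂.cons rep_g0 (List.Forall₂.cons rep_l9 (List.Forall₂.cons rep_l17 (List.Forall₂.cons rep_l12 (List.Forall₂.cons rep_l16 (List.Forall₂.cons rep_l8 (List.Forall₂.cons rep_l18 List.Forall₂.nil)))))))))))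
    (by decide +kernel)

/-- an element given by a word -/
noncomputable def qbp : HeG := [l16, l8, g2, l10, l14, l8, l12, l9, l11, l16, l18, l10, l11].prod

theorem rep_qbp : RepG Uqbp qbp :=
  rep_word Uqbp [Ul16, Ul8, HeOut.T2, Ul10, Ul14, Ul8, Ul12, Ul9, Ul11, Ul16, Ul18, Ul10, Ul11] [l16, l8, g2, l10, l14, l8, l12, l9, l11, l16, l18, l10, l11]
    (List.Forall₂.cons rep_l16 (List.Forall₂.cons rep_l8 (List.Forall₂.cons rep_g2 (List.Forall₂.cons rep_l10 (List.Forall₂.cons rep_l14 (List.Forall₂.cons rep_l8 (List.Forall₂.cons rep_l12 (List.Forall₂.cons rep_l9 (List.Forall₂.cons rep_l11 (List.Forall₂.cons rep_l16 (List.Forall₂.cons rep_l18 (List.Forall₂.cons rep_l10 (List.Forall₂.cons rep_l11 List.Forall₂.nil)))))))))))))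
    (by decide +kernel)

/-- an element given by a word -/
noncomputable def qcp : HeG := [g2, l15, l9, g2, g0, l15, l13, l13, l8, l18, l16, l10, l18, l11].prod

theorem rep_qcp : RepG Uqcp qcp :=
  rep_word Uqcp [HeOut.T2, Ul15, Ul9, HeOut.T2, HeOut.T0, Ul15, Ul13, Ul13, Ul8, Ul18, Ul16, Ul10, Ul18, Ul11] [g2, l15, l9, g2, g0, l15, l13, l13, l8, l18, l16, l10, l18, l11]
    (List.Forall₂.cons rep_g2 (List.Forall₂.cons rep_l15 (List.Forall₂.cons rep_l9 (List.Forall₂.cons rep_g2 (List.Forall₂.cons rep_g0 (List.Forall₂.cons rep_l15 (List.Forall₂.cons rep_l13 (List.Forall₂.cons rep_l13 (List.Forall₂.cons rep_l8 (List.Forall₂.cons rep_l18 (List.Forall₂.cons rep_l16 (List.Forall₂.cons rep_l10 (List.Forall₂.cons rep_l18 (List.Forall₂.cons rep_l11 List.Forall₂.nil))))))))))))))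
    (by decide +kernel)

/-- an element given by a word -/
noncomputable def qe1bp : HeG := [g4, l16, l11, g2, l12, l12, l12, l14, l9, l16, l8, l10].prod

theorem rep_qe1bp : RepG Uqe1bp qe1bp :=
  rep_word Uqe1bp [HeOut.T4, Ul16, Ul11, HeOut.T2, Ul12, Ul12, Ul12, Ul14, Ul9, Ul16, Ul8, Ul10] [g4, l16, l11, g2, l12, l12, l12, l14, l9, l16, l8, l10]
    (List.Forall₂.cons rep_g4 (List.Forall₂.cons rep_l16 (List.Forall₂.cons rep_l11 (List.Forall₂.cons rep_g2 (List.Forall₂.cons rep_l12 (List.Forall₂.cons rep_l12 (List.Forall₂.cons rep_l12 (List.Forall₂.cons rep_l14 (List.Forall₂.cons rep_l9 (List.Forall₂.cons rep_l16 (List.Forall₂.cons rep_l8 (List.Forall₂.cons rep_l10 List.Forall₂.nil))))))))))))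
    (by decide +kernel)

/-- an element given by a word -/
noncomputable def qe1cp : HeG := [l15, l13, l16, g0, l17, l13, l9, l17, l8, l10].prod

theorem rep_qe1cp : RepG Uqe1cp qe1cp :=
  rep_word Uqe1cp [Ul15, Ul13, Ul16, HeOut.T0, Ul17, Ul13, Ul9, Ul17, Ul8, Ul10] [l15, l13, l16, g0, l17, l13, l9, l17, l8, l10]
    (List.Forall₂.cons rep_l15 (List.Forall₂.cons rep_l13 (List.Forall₂.cons rep_l16 (List.Forall₂.cons rep_g0 (List.Forall₂.cons rep_l17 (List.Forall₂.cons rep_l13 (List.Forall₂.cons rep_l9 (List.Forall₂.cons rep_l17 (List.Forall₂.cons rep_l8 (List.Forall₂.cons rep_l10 List.Forall₂.nil))))))))))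
    (by decide +kernel)

/-- an element given by a word -/
noncomputable def qbpcp : HeG := [g3, g2, l17, g2, g0, l16, l18, l11, l12, l18, l7, l10, l18, l11].prod

theorem rep_qbpcp : RepG Uqbpcp qbpcp :=
  rep_word Uqbpcp [HeOut.T3, HeOut.T2, Ul17, HeOut.T2, HeOut.T0, Ul16, Ul18, Ul11, Ul12, Ul18, Ul7, Ul10, Ul18, Ul11] [g3, g2, l17, g2, g0, l16, l18, l11, l12, l18, l7, l10, l18, l11]
    (List.Forall₂.cons rep_g3 (List.Forall₂.cons rep_g2 (List.Forall₂.cons rep_l17 (List.Forall₂.cons rep_g2 (List.Forall₂.cons rep_g0 (List.Forall₂.cons rep_l16 (List.Forall₂.cons rep_l18 (List.Forall₂.cons rep_l11 (List.Forall₂.cons rep_l12 (List.Forall₂.cons rep_l18 (List.Forall₂.cons rep_l7 (List.Forall₂.cons rep_l10 (List.Forall₂.cons rep_l18 (List.Forall₂.cons rep_l11 List.Forall₂.nil))))))))))))))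
    (by decide +kernel)

/-- an element given by a word -/
noncomputable def qs : HeG := [g4, l7, g2, l14, l11, l13, l9, l11, l17, l18, l7, l10, l11].prod

theorem rep_qs : RepG Uqs qs :=
  rep_word Uqs [HeOut.T4, Ul7, HeOut.T2, Ul14, Ul11, Ul13, Ul9, Ul11, Ul17, Ul18, Ul7, Ul10, Ul11] [g4, l7, g2, l14, l11, l13, l9, l11, l17, l18, l7, l10, l11]
    (List.Forall₂.cons rep_g4 (List.Forall₂.cons rep_l7 (List.Forall₂.cons rep_g2 (List.Forall₂.cons rep_l14 (List.Forall₂.cons rep_l11 (List.Forall₂.cons rep_l13 (List.Forall₂.cons rep_l9 (List.Forall₂.cons rep_l11 (List.Forall₂.cons rep_l17 (List.Forall₂.cons rep_l18 (List.Forall₂.cons rep_l7 (List.Forall₂.cons rep_l10 (List.Forall₂.cons rep_l11 List.Forall₂.nil)))))))))))))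
    (by decide +kernel)

/-- an element given by a word -/
noncomputable def qrr : HeG := [g4, g2, l14, g1, g2, l11, l9, l14, l16, l9, l11, l17, l17, l18, l10, l18].prod

theorem rep_qrr : RepG Uqrr qrr :=
  rep_word Uqrr [HeOut.T4, HeOut.T2, Ul14, HeOut.T1, HeOut.T2, Ul11, Ul9, Ul14, Ul16, Ul9, Ul11, Ul17, Ul17, Ul18, Ul10, Ul18] [g4, g2, l14, g1, g2, l11, l9, l14, l16, l9, l11, l17, l17, l18, l10, l18]
    (List.Forall₂.cons rep_g4 (List.Forall₂.cons rep_g2 (List.Forall₂.cons rep_l14 (List.Forall₂.cons rep_g1 (List.Forall₂.cons rep_g2 (List.Forall₂.cons rep_l11 (List.Forall₂.cons rep_l9 (List.Forall₂.cons rep_l14 (List.Forall₂.cons rep_l16 (List.Forall₂.cons rep_l9 (List.Forall₂.cons rep_l11 (List.Forall₂.cons rep_l17 (List.Forall₂.cons rep_l17 (List.Forall₂.cons rep_l18 (List.Forall₂.cons rep_l10 (List.Forall₂.cons rep_l18 List.Forall₂.nil))))))))))))))))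
    (by decide +kernel)

/-- an element given by a word -/
noncomputable def qsr : HeG := [l9, l16, g4, g2, l15, l9, l12, l14, l11, l17, l8, l10, l18].prod

theorem rep_qsr : RepG Uqsr qsr :=
  rep_word Uqsr [Ul9, Ul16, HeOut.T4, HeOut.T2, Ul15, Ul9, Ul12, Ul14, Ul11, Ul17, Ul8, Ul10, Ul18] [l9, l16, g4, g2, l15, l9, l12, l14, l11, l17, l8, l10, l18]
    (List.Forall₂.cons rep_l9 (List.Forall₂.cons rep_l16 (List.Forall₂.cons rep_g4 (List.Forall₂.cons rep_g2 (List.Forall₂.cons rep_l15 (List.Forall₂.cons rep_l9 (List.Forall₂.cons rep_l12 (List.Forall₂.cons rep_l14 (List.Forall₂.cons rep_l11 (List.Forall₂.cons rep_l17 (List.Forall₂.cons rep_l8 (List.Forall₂.cons rep_l10 (List.Forall₂.cons rep_l18 List.Forall₂.nil)))))))))))))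
    (by decide +kernel)

/-- an element given by a word -/
noncomputable def qc : HeG := [g3, l15, l11, g2, l13, l8, l9, l13, l11, l16, l18, l7, l18].prod

theorem rep_qc : RepG Uqc qc :=
  rep_word Uqc [HeOut.T3, Ul15, Ul11, HeOut.T2, Ul13, Ul8, Ul9, Ul13, Ul11, Ul16, Ul18, Ul7, Ul18] [g3, l15, l11, g2, l13, l8, l9, l13, l11, l16, l18, l7, l18]
    (List.Forall₂.cons rep_g3 (List.Forall₂.cons rep_l15 (List.Forall₂.cons rep_l11 (List.Forall₂.cons rep_g2 (List.Forall₂.cons rep_l13 (List.Forall₂.cons rep_l8 (List.Forall₂.cons rep_l9 (List.Forall₂.cons rep_l13 (List.Forall₂.cons rep_l11 (List.Forall₂.cons rep_l16 (List.Forall₂.cons rep_l18 (List.Forall₂.cons rep_l7 (List.Forall₂.cons rep_l18 List.Forall₂.nil)))))))))))))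
    (by decide +kernel)

/-- an element given by a word -/
noncomputable def qcs : HeG := [g4, l14, l17, g4, g2, l8, l15, l13, l13, l17, l18, l16, l7, l10].prod

theorem rep_qcs : RepG Uqcs qcs :=
  rep_word Uqcs [HeOut.T4, Ul14, Ul17, HeOut.T4, HeOut.T2, Ul8, Ul15, Ul13, Ul13, Ul17, Ul18, Ul16, Ul7, Ul10] [g4, l14, l17, g4, g2, l8, l15, l13, l13, l17, l18, l16, l7, l10]
    (List.Forall₂.cons rep_g4 (List.Forall₂.cons rep_l14 (List.Forall₂.cons rep_l17 (List.Forall₂.cons rep_g4 (List.Forall₂.cons rep_g2 (List.Forall₂.cons rep_l8 (List.Forall₂.cons rep_l15 (List.Forall₂.cons rep_l13 (List.Forall₂.cons rep_l13 (List.Forall₂.cons rep_l17 (List.Forall₂.cons rep_l18 (List.Forall₂.cons rep_l16 (List.Forall₂.cons rep_l7 (List.Forall₂.cons rep_l10 List.Forall₂.nil))))))))))))))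
    (by decide +kernel)

/-- an element given by a word -/
noncomputable def qcsr : HeG := [l12, g2, l17, g2, g0, l15, l13, l14, l18, l16, l11, l16, l10, l11].prod

theorem rep_qcsr : RepG Uqcsr qcsr :=
  rep_word Uqcsr [Ul12, HeOut.T2, Ul17, HeOut.T2, HeOut.T0, Ul15, Ul13, Ul14, Ul18, Ul16, Ul11, Ul16, Ul10, Ul11] [l12, g2, l17, g2, g0, l15, l13, l14, l18, l16, l11, l16, l10, l11]
    (List.Forall₂.cons rep_l12 (List.Forall₂.cons rep_g2 (List.Forall₂.cons rep_l17 (List.Forall₂.cons rep_g2 (List.Forall₂.cons rep_g0 (List.Forall₂.cons rep_l15 (List.Forall₂.cons rep_l13 (List.Forall₂.cons rep_l14 (List.Forall₂.cons rep_l18 (List.Forall₂.cons rep_l16 (List.Forall₂.cons rep_l11 (List.Forall₂.cons rep_l16 (List.Forall₂.cons rep_l10 (List.Forall₂.cons rep_l11 List.Forall₂.nil))))))))))))))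
    (by decide +kernel)

/-- an element given by a word -/
noncomputable def w : HeG := [x, y, x, x, y, y].prod

theorem rep_w : RepG Uw w :=
  rep_word Uw [Ux, Uy, Ux, Ux, Uy, Uy] [x, y, x, x, y, y]
    (List.Forall₂.cons rep_x (List.Forall₂.cons rep_y (List.Forall₂.cons rep_x (List.Forall₂.cons rep_x (List.Forall₂.cons rep_y (List.Forall₂.cons rep_y List.Forall₂.nil))))))
    (by decide +kernel)

/-- an element given by a word -/
noncomputable def w7 : HeG := [x7, y7, x7, x7, x7, x7, x7, x7, y7, y7, y7, y7, y7, y7].prod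

theorem rep_w7 : RepG Uw7 w7 :=
  rep_word Uw7 [Ux7, Uy7, Ux7, Ux7, Ux7, Ux7, Ux7, Ux7, Uy7, Uy7, Uy7, Uy7, Uy7, Uy7] [x7, y7, x7, x7, x7, x7, x7, x7, y7, y7, y7, y7, y7, y7]
    (List.Forall₂.cons rep_x7 (List.Forall₂.cons rep_y7 (List.Forall₂.cons rep_x7 (List.Forall₂.cons rep_x7 (List.Forall₂.cons rep_x7 (List.Forall₂.cons rep_x7 (List.Forall₂.cons rep_x7 (List.Forall₂.cons rep_x7 (List.Forall₂.cons rep_y7 (List.Forall₂.cons rep_y7 (List.Forall₂.cons rep_y7 (List.Forall₂.cons rep_y7 (List.Forall₂.cons rep_y7 (List.Forall₂.cons rep_y7 List.Forall₂.nil))))))))))))))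
    (by decide +kernel)

attribute [irreducible] g0 g1 g2 g3 g4 g5 g6 l7 l8 l9 l10 l11 l12 l13 l14 l15 l16 l17 l18 e1 e2 e3 e4 e5 e6 k r s c bp cp x y t x5 y5 t5 x7 y7 s7 qe2 qe3 qe4 qe5 qe6 qe12 qe13 qe14 qe15 qe16 qe23 qe24 qe25 qe26 qe34 qe35 qe36 qe45 qe46 qe56 qe123 qbp qcp qe1bp qe1cp qbpcp qs qrr qsr qc qcs qcsr w w7

end Cfsg.Agent.Lib.Helper5.HeM
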