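import Mathlib
import Cfsg.Agent.Lib.Helper5.HeMB

set_option autoImplicit false

/-! Relations between elements of the Held group, checked on coded permutations (generated). -/

namespace Cfsg.Agent.Lib.Helper5.HeM

open Cfsg.Agent.Lib.helper17

theorem e1_sq : e1 * e1 = 1 := by
  have h := eq_of_chk [Ue1, Ue1] [] [e1, e1] []
    (List.Forall₂.cons rep_e1 (List.Forall₂.cons rep_e1 List.Forall₂.nil))
    List.Forall₂.nil
    (by decide +kernel)
  simpa only [List.prod_cons, List.prod_nil, mul_one, mul_assoc] using h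

theorem e2_sq : e2 * e2 = 1 := by
  have h := eq_of_chk [Ue2, Ue2] [] [e2, e2] []
    (List.Forall₂.cons rep_e2 (List.Forall₂.cons rep_e2 List.Forall₂.nil))
    List.Forall₂.nil
    (by decide +kernel)
  simpa only [List.prod_cons, List.prod_nil, mul_one, mul_assoc] using h

theorem e3_sq : e3 * e3 = 1 := by
  have h := eq_of_chk [Ue3, Ue3] [] [e3, e3] []
    (List.Forall₂.cons rep_e3 (List.Forall₂.cons rep_e3 List.Forall₂.nil))
    List.Forall₂.nil
    (by decide +kernel)
  simpa only [List.prod_cons, List.prod_nil, mul_one, mul_assoc] using h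

theorem e4_sq : e4 * e4 = 1 := by
  have h := eq_of_chk [Ue4, Ue4] [] [e4, e4] []
    (List.Forall₂.cons rep_e4 (List.Forall₂.cons rep_e4 List.Forall₂.nil))
    List.Forall₂.nil
    (by decide +kernel)
  simpa only [List.prod_cons, List.prod_nil, mul_one, mul_assoc] using h

theorem e5_sq : e5 * e5 = 1 := by
  have h := eq_of_chk [Ue5, Ue5] [] [e5, e5] []
    (List.Forall₂.cons rep_e5 (List.Forall₂.cons rep_e5 List.Forall₂.nil))
    List.Forall₂.nil
    (by decide +kernel)
  simpa only [List.prod_cons, List.prod_nil, mul_one, mul_assoc] using h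

theorem e6_sq : e6 * e6 = 1 := by
  have h := eq_of_chk [Ue6, Ue6] [] [e6, e6] []
    (List.Forall₂.cons rep_e6 (List.Forall₂.cons rep_e6 List.Forall₂.nil))
    List.Forall₂.nil
    (by decide +kernel)
  simpa only [List.prod_cons, List.prod_nil, mul_one, mul_assoc] using h

theorem e12_comm : e1 * e2 = e2 * e1 := by
  have h := eq_of_chk [Ue1, Ue2] [Ue2, Ue1] [e1, e2] [e2, e1]
    (List.Forall₂.cons rep_e1 (List.Forall₂.cons rep_e2 List.Forall₂.nil))
    (List.Forall₂.cons rep_e2 (List.Forall₂.cons rep_e1 List.Forall₂.nil))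
    (by decide +kernel)
  simpa only [List.prod_cons, List.prod_nil, mul_one, mul_assoc] using h

theorem e13_comm : e1 * e3 = e3 * e1 := by
  have h := eq_of_chk [Ue1, Ue3] [Ue3, Ue1] [e1, e3] [e3, e1]
    (List.Forall₂.cons rep_e1 (List.Forall₂.cons rep_e3 List.Forall₂.nil))
    (List.Forall₂.cons rep_e3 (List.Forall₂.cons rep_e1 List.Forall₂.nil))
    (by decide +kernel)
  simpa only [List.prod_cons, List.prod_nil, mul_one, mul_assoc] using h

theorem e14_comm : e1 * e4 = e4 * e1 := by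
  have h := eq_of_chk [Ue1, Ue4] [Ue4, Ue1] [e1, e4] [e4, e1]
    (List.Forall₂.cons rep_e1 (List.Forall₂.cons rep_e4 List.Forall₂.nil))
    (List.Forall₂.cons rep_e4 (List.Forall₂.cons rep_e1 List.Forall₂.nil))
    (by decide +kernel)
  simpa only [List.prod_cons, List.prod_nil, mul_one, mul_assoc] using h

theorem e15_comm : e1 * e5 = e5 * e1 := by
  have h := eq_of_chk [Ue1, Ue5] [Ue5, Ue1] [e1, e5] [e5, e1]
    (List.Forall₂.cons rep_e1 (List.Forall₂.cons rep_e5 List.Forall₂.nil))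
    (List.Forall₂.cons rep_e5 (List.Forall₂.cons rep_e1 List.Forall₂.nil))
    (by decide +kernel)
  simpa only [List.prod_cons, List.prod_nil, mul_one, mul_assoc] using h

theorem e16_comm : e1 * e6 = e6 * e1 := by
  have h := eq_of_chk [Ue1, Ue6] [Ue6, Ue1] [e1, e6] [e6, e1]
    (List.Forall₂.cons rep_e1 (List.Forall₂.cons rep_e6 List.Forall₂.nil))
    (List.Forall₂.cons rep_e6 (List.Forall₂.cons rep_e1 List.Forall₂.nil))
    (by decide +kernel)
  simpa only [List.prod_cons, List.prod_nil, mul_one, mul_assoc] using h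

theorem e23_comm : e2 * e3 = e3 * e2 := by
  have h := eq_of_chk [Ue2, Ue3] [Ue3, Ue2] [e2, e3] [e3, e2]
    (List.Forall₂.cons rep_e2 (List.Forall₂.cons rep_e3 List.Forall₂.nil))
    (List.Forall₂.cons rep_e3 (List.Forall₂.cons rep_e2 List.Forall₂.nil))
    (by decide +kernel)
  simpa only [List.prod_cons, List.prod_nil, mul_one, mul_assoc] using h

theorem e24_comm : e2 * e4 = e4 * e2 := by
  have h := eq_of_chk [Ue2, Ue4] [Ue4, Ue2] [e2, e4] [e4, e2]
    (List.Forall₂.cons rep_e2 (List.Forall₂.cons rep_e4 List.Forall₂.nil))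
    (List.Forall₂.cons rep_e4 (List.Forall₂.cons rep_e2 List.Forall₂.nil))
    (by decide +kernel)
  simpa only [List.prod_cons, List.prod_nil, mul_one, mul_assoc] using h

theorem e25_comm : e2 * e5 = e5 * e2 := by
  have h := eq_of_chk [Ue2, Ue5] [Ue5, Ue2] [e2, e5] [e5, e2]
    (List.Forall₂.cons rep_e2 (List.Forall₂.cons rep_e5 List.Forall₂.nil))
    (List.Forall₂.cons rep_e5 (List.Forall₂.cons rep_e2 List.Forall₂.nil))
    (by decide +kernel)
  simpa only [List.prod_cons, List.prod_nil, mul_one, mul_assoc] using h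

theorem e26_comm : e2 * e6 = e6 * e2 := by
  have h := eq_of_chk [Ue2, Ue6] [Ue6, Ue2] [e2, e6] [e6, e2]
    (List.Forall₂.cons rep_e2 (List.Forall₂.cons rep_e6 List.Forall₂.nil))
    (List.Forall₂.cons rep_e6 (List.Forall₂.cons rep_e2 List.Forall₂.nil))
    (by decide +kernel)
  simpa only [List.prod_cons, List.prod_nil, mul_one, mul_assoc] using h

theorem e34_comm : e3 * e4 = e4 * e3 := by
  have h := eq_of_chk [Ue3, Ue4] [Ue4, Ue3] [e3, e4] [e4, e3]
    (List.Forall₂.cons rep_e3 (List.Forall₂.cons rep_e4 List.Forall₂.nil))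
    (List.Forall₂.cons rep_e4 (List.Forall₂.cons rep_e3 List.Forall₂.nil))
    (by decide +kernel)
  simpa only [List.prod_cons, List.prod_nil, mul_one, mul_assoc] using h

theorem e35_comm : e3 * e5 = e5 * e3 := by
  have h := eq_of_chk [Ue3, Ue5] [Ue5, Ue3] [e3, e5] [e5, e3]
    (List.Forall₂.cons rep_e3 (List.Forall₂.cons rep_e5 List.Forall₂.nil))
    (List.Forall₂.cons rep_e5 (List.Forall₂.cons rep_e3 List.Forall₂.nil))
    (by decide +kernel)
  simpa only [List.prod_cons, List.prod_nil, mul_one, mul_assoc] using h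

theorem e36_comm : e3 * e6 = e6 * e3 := by
  have h := eq_of_chk [Ue3, Ue6] [Ue6, Ue3] [e3, e6] [e6, e3]
    (List.Forall₂.cons rep_e3 (List.Forall₂.cons rep_e6 List.Forall₂.nil))
    (List.Forall₂.cons rep_e6 (List.Forall₂.cons rep_e3 List.Forall₂.nil))
    (by decide +kernel)
  simpa only [List.prod_cons, List.prod_nil, mul_one, mul_assoc] using h

theorem e45_comm : e4 * e5 = e5 * e4 := by
  have h := eq_of_chk [Ue4, Ue5] [Ue5, Ue4] [e4, e5] [e5, e4]
    (List.Forall₂.cons rep_e4 (List.Forall₂.cons rep_e5 List.Forall₂.nil))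
    (List.Forall₂.cons rep_e5 (List.Forall₂.cons rep_e4 List.Forall₂.nil))
    (by decide +kernel)
  simpa only [List.prod_cons, List.prod_nil, mul_one, mul_assoc] using h

theorem e46_comm : e4 * e6 = e6 * e4 := by
  have h := eq_of_chk [Ue4, Ue6] [Ue6, Ue4] [e4, e6] [e6, e4]
    (List.Forall₂.cons rep_e4 (List.Forall₂.cons rep_e6 List.Forall₂.nil))
    (List.Forall₂.cons rep_e6 (List.Forall₂.cons rep_e4 List.Forall₂.nil))
    (by decide +kernel)
  simpa only [List.prod_cons, List.prod_nil, mul_one, mul_assoc] using h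

theorem e56_comm : e5 * e6 = e6 * e5 := by
  have h := eq_of_chk [Ue5, Ue6] [Ue6, Ue5] [e5, e6] [e6, e5]
    (List.Forall₂.cons rep_e5 (List.Forall₂.cons rep_e6 List.Forall₂.nil))
    (List.Forall₂.cons rep_e6 (List.Forall₂.cons rep_e5 List.Forall₂.nil))
    (by decide +kernel)
  simpa only [List.prod_cons, List.prod_nil, mul_one, mul_assoc] using h

theorem k_cube : k * k * k = 1 := by
  have h := eq_of_chk [Uk, Uk, Uk] [] [k, k, k] []
    (List.Forall₂.cons rep_k (List.Forall₂.cons rep_k (List.Forall₂.cons rep_k List.Forall₂.nil)))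
    List.Forall₂.nil
    (by decide +kernel)
  simpa only [List.prod_cons, List.prod_nil, mul_one, mul_assoc] using h

theorem k_e1 : k * e1 = e1 * e2 * e3 * e4 * e5 * k := by
  have h := eq_of_chk [Uk, Ue1] [Ue1, Ue2, Ue3, Ue4, Ue5, Uk] [k, e1] [e1, e2, e3, e4, e5, k]
    (List.Forall₂.cons rep_k (List.Forall₂.cons rep_e1 List.Forall₂.nil))
    (List.Forall₂.cons rep_e1 (List.Forall₂.cons rep_e2 (List.Forall₂.cons rep_e3 (List.Forall₂.cons rep_e4 (List.Forall₂.cons rep_e5 (List.Forall₂.cons rep_k List.Forall₂.nil))))))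
    (by decide +kernel)
  simpa only [List.prod_cons, List.prod_nil, mul_one, mul_assoc] using h

theorem k_e2 : k * e2 = e4 * e6 * k := by
  have h := eq_of_chk [Uk, Ue2] [Ue4, Ue6, Uk] [k, e2] [e4, e6, k]
    (List.Forall₂.cons rep_k (List.Forall₂.cons rep_e2 List.Forall₂.nil))
    (List.Forall₂.cons rep_e4 (List.Forall₂.cons rep_e6 (List.Forall₂.cons rep_k List.Forall₂.nil)))
    (by decide +kernel)
  simpa only [List.prod_cons, List.prod_nil, mul_one, mul_assoc] using h

theorem k_e3 : k * e3 = e1 * e3 * e4 * e5 * e6 * k := by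
  have h := eq_of_chk [Uk, Ue3] [Ue1, Ue3, Ue4, Ue5, Ue6, Uk] [k, e3] [e1, e3, e4, e5, e6, k]
    (List.Forall₂.cons rep_k (List.Forall₂.cons rep_e3 List.Forall₂.nil))
    (List.Forall₂.cons rep_e1 (List.Forall₂.cons rep_e3 (List.Forall₂.cons rep_e4 (List.Forall₂.cons rep_e5 (List.Forall₂.cons rep_e6 (List.Forall₂.cons rep_k List.Forall₂.nil))))))
    (by decide +kernel)
  simpa only [List.prod_cons, List.prod_nil, mul_one, mul_assoc] using h

theorem k_e4 : k * e4 = e1 * e3 * e6 * k := by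
  have h := eq_of_chk [Uk, Ue4] [Ue1, Ue3, Ue6, Uk] [k, e4] [e1, e3, e6, k]
    (List.Forall₂.cons rep_k (List.Forall₂.cons rep_e4 List.Forall₂.nil))
    (List.Forall₂.cons rep_e1 (List.Forall₂.cons rep_e3 (List.Forall₂.cons rep_e6 (List.Forall₂.cons rep_k List.Forall₂.nil))))
    (by decide +kernel)
  simpa only [List.prod_cons, List.prod_nil, mul_one, mul_assoc] using h

theorem k_e5 : k * e5 = e1 * e5 * e6 * k := by
  have h := eq_of_chk [Uk, Ue5] [Ue1, Ue5, Ue6, Uk] [k, e5] [e1, e5, e6, k]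
    (List.Forall₂.cons rep_k (List.Forall₂.cons rep_e5 List.Forall₂.nil))
    (List.Forall₂.cons rep_e1 (List.Forall₂.cons rep_e5 (List.Forall₂.cons rep_e6 (List.Forall₂.cons rep_k List.Forall₂.nil))))
    (by decide +kernel)
  simpa only [List.prod_cons, List.prod_nil, mul_one, mul_assoc] using h

theorem k_e6 : k * e6 = e1 * e2 * e3 * e4 * k := by
  have h := eq_of_chk [Uk, Ue6] [Ue1, Ue2, Ue3, Ue4, Uk] [k, e6] [e1, e2, e3, e4, k]
    (List.Forall₂.cons rep_k (List.Forall₂.cons rep_e6 List.Forall₂.nil))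
    (List.Forall₂.cons rep_e1 (List.Forall₂.cons rep_e2 (List.Forall₂.cons rep_e3 (List.Forall₂.cons rep_e4 (List.Forall₂.cons rep_k List.Forall₂.nil)))))
    (by decide +kernel)
  simpa only [List.prod_cons, List.prod_nil, mul_one, mul_assoc] using h

theorem r_e1 : r * e1 = e1 * e6 * r := by
  have h := eq_of_chk [Ur, Ue1] [Ue1, Ue6, Ur] [r, e1] [e1, e6, r]
    (List.Forall₂.cons rep_r (List.Forall₂.cons rep_e1 List.Forall₂.nil))
    (List.Forall₂.cons rep_e1 (List.Forall₂.cons rep_e6 (List.Forall₂.cons rep_r List.Forall₂.nil)))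
    (by decide +kernel)
  simpa only [List.prod_cons, List.prod_nil, mul_one, mul_assoc] using h

theorem r_e2 : r * e2 = e1 * e4 * r := by
  have h := eq_of_chk [Ur, Ue2] [Ue1, Ue4, Ur] [r, e2] [e1, e4, r]
    (List.Forall₂.cons rep_r (List.Forall₂.cons rep_e2 List.Forall₂.nil))
    (List.Forall₂.cons rep_e1 (List.Forall₂.cons rep_e4 (List.Forall₂.cons rep_r List.Forall₂.nil)))
    (by decide +kernel)
  simpa only [List.prod_cons, List.prod_nil, mul_one, mul_assoc] using h

theorem r_e3 : r * e3 = e3 * r := by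
  have h := eq_of_chk [Ur, Ue3] [Ue3, Ur] [r, e3] [e3, r]
    (List.Forall₂.cons rep_r (List.Forall₂.cons rep_e3 List.Forall₂.nil))
    (List.Forall₂.cons rep_e3 (List.Forall₂.cons rep_r List.Forall₂.nil))
    (by decide +kernel)
  simpa only [List.prod_cons, List.prod_nil, mul_one, mul_assoc] using h

theorem r_e4 : r * e4 = e2 * e3 * e4 * e5 * r := by
  have h := eq_of_chk [Ur, Ue4] [Ue2, Ue3, Ue4, Ue5, Ur] [r, e4] [e2, e3, e4, e5, r]
    (List.Forall₂.cons rep_r (List.Forall₂.cons rep_e4 List.Forall₂.nil))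
    (List.Forall₂.cons rep_e2 (List.Forall₂.cons rep_e3 (List.Forall₂.cons rep_e4 (List.Forall₂.cons rep_e5 (List.Forall₂.cons rep_r List.Forall₂.nil)))))
    (by decide +kernel)
  simpa only [List.prod_cons, List.prod_nil, mul_one, mul_assoc] using h

theorem r_e5 : r * e5 = e2 * e6 * r := by
  have h := eq_of_chk [Ur, Ue5] [Ue2, Ue6, Ur] [r, e5] [e2, e6, r]
    (List.Forall₂.cons rep_r (List.Forall₂.cons rep_e5 List.Forall₂.nil))
    (List.Forall₂.cons rep_e2 (List.Forall₂.cons rep_e6 (List.Forall₂.cons rep_r List.Forall₂.nil)))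
    (by decide +kernel)
  simpa only [List.prod_cons, List.prod_nil, mul_one, mul_assoc] using h

theorem r_e6 : r * e6 = e3 * e6 * r := by
  have h := eq_of_chk [Ur, Ue6] [Ue3, Ue6, Ur] [r, e6] [e3, e6, r]
    (List.Forall₂.cons rep_r (List.Forall₂.cons rep_e6 List.Forall₂.nil))
    (List.Forall₂.cons rep_e3 (List.Forall₂.cons rep_e6 (List.Forall₂.cons rep_r List.Forall₂.nil)))
    (by decide +kernel)
  simpa only [List.prod_cons, List.prod_nil, mul_one, mul_assoc] using h

theorem s_e1 : s * e1 = e1 * e6 * s := by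
  have h := eq_of_chk [Us, Ue1] [Ue1, Ue6, Us] [s, e1] [e1, e6, s]
    (List.Forall₂.cons rep_s (List.Forall₂.cons rep_e1 List.Forall₂.nil))
    (List.Forall₂.cons rep_e1 (List.Forall₂.cons rep_e6 (List.Forall₂.cons rep_s List.Forall₂.nil)))
    (by decide +kernel)
  simpa only [List.prod_cons, List.prod_nil, mul_one, mul_assoc] using h

theorem s_e2 : s * e2 = e1 * e3 * e4 * s := by
  have h := eq_of_chk [Us, Ue2] [Ue1, Ue3, Ue4, Us] [s, e2] [e1, e3, e4, s]
    (List.Forall₂.cons rep_s (List.Forall₂.cons rep_e2 List.Forall₂.nil))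
    (List.Forall₂.cons rep_e1 (List.Forall₂.cons rep_e3 (List.Forall₂.cons rep_e4 (List.Forall₂.cons rep_s List.Forall₂.nil))))
    (by decide +kernel)
  simpa only [List.prod_cons, List.prod_nil, mul_one, mul_assoc] using h

theorem s_e3 : s * e3 = e3 * s := by
  have h := eq_of_chk [Us, Ue3] [Ue3, Us] [s, e3] [e3, s]
    (List.Forall₂.cons rep_s (List.Forall₂.cons rep_e3 List.Forall₂.nil))
    (List.Forall₂.cons rep_e3 (List.Forall₂.cons rep_s List.Forall₂.nil))
    (by decide +kernel)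
  simpa only [List.prod_cons, List.prod_nil, mul_one, mul_assoc] using h

theorem s_e4 : s * e4 = e1 * e2 * e3 * e6 * s := by
  have h := eq_of_chk [Us, Ue4] [Ue1, Ue2, Ue3, Ue6, Us] [s, e4] [e1, e2, e3, e6, s]
    (List.Forall₂.cons rep_s (List.Forall₂.cons rep_e4 List.Forall₂.nil))
    (List.Forall₂.cons rep_e1 (List.Forall₂.cons rep_e2 (List.Forall₂.cons rep_e3 (List.Forall₂.cons rep_e6 (List.Forall₂.cons rep_s List.Forall₂.nil)))))
    (by decide +kernel)
  simpa only [List.prod_cons, List.prod_nil, mul_one, mul_assoc] using h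

theorem s_e5 : s * e5 = e1 * e2 * e3 * e4 * e5 * s := by
  have h := eq_of_chk [Us, Ue5] [Ue1, Ue2, Ue3, Ue4, Ue5, Us] [s, e5] [e1, e2, e3, e4, e5, s]
    (List.Forall₂.cons rep_s (List.Forall₂.cons rep_e5 List.Forall₂.nil))
    (List.Forall₂.cons rep_e1 (List.Forall₂.cons rep_e2 (List.Forall₂.cons rep_e3 (List.Forall₂.cons rep_e4 (List.Forall₂.cons rep_e5 (List.Forall₂.cons rep_s List.Forall₂.nil))))))
    (by decide +kernel)
  simpa only [List.prod_cons, List.prod_nil, mul_one, mul_assoc] using h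

theorem s_e6 : s * e6 = e6 * s := by
  have h := eq_of_chk [Us, Ue6] [Ue6, Us] [s, e6] [e6, s]
    (List.Forall₂.cons rep_s (List.Forall₂.cons rep_e6 List.Forall₂.nil))
    (List.Forall₂.cons rep_e6 (List.Forall₂.cons rep_s List.Forall₂.nil))
    (by decide +kernel)
  simpa only [List.prod_cons, List.prod_nil, mul_one, mul_assoc] using h

theorem c_e1 : c * e1 = e1 * e2 * e3 * e6 * c := by
  have h := eq_of_chk [Uc, Ue1] [Ue1, Ue2, Ue3, Ue6, Uc] [c, e1] [e1, e2, e3, e6, c]
    (List.Forall₂.cons rep_c (List.Forall₂.cons rep_e1 List.Forall₂.nil))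
    (List.Forall₂.cons rep_e1 (List.Forall₂.cons rep_e2 (List.Forall₂.cons rep_e3 (List.Forall₂.cons rep_e6 (List.Forall₂.cons rep_c List.Forall₂.nil)))))
    (by decide +kernel)
  simpa only [List.prod_cons, List.prod_nil, mul_one, mul_assoc] using h

theorem c_e2 : c * e2 = e5 * e6 * c := by
  have h := eq_of_chk [Uc, Ue2] [Ue5, Ue6, Uc] [c, e2] [e5, e6, c]
    (List.Forall₂.cons rep_c (List.Forall₂.cons rep_e2 List.Forall₂.nil))
    (List.Forall₂.cons rep_e5 (List.Forall₂.cons rep_e6 (List.Forall₂.cons rep_c List.Forall₂.nil)))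
    (by decide +kernel)
  simpa only [List.prod_cons, List.prod_nil, mul_one, mul_assoc] using h

theorem c_e3 : c * e3 = e1 * e4 * e5 * e6 * c := by
  have h := eq_of_chk [Uc, Ue3] [Ue1, Ue4, Ue5, Ue6, Uc] [c, e3] [e1, e4, e5, e6, c]
    (List.Forall₂.cons rep_c (List.Forall₂.cons rep_e3 List.Forall₂.nil))
    (List.Forall₂.cons rep_e1 (List.Forall₂.cons rep_e4 (List.Forall₂.cons rep_e5 (List.Forall₂.cons rep_e6 (List.Forall₂.cons rep_c List.Forall₂.nil)))))
    (by decide +kernel)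
  simpa only [List.prod_cons, List.prod_nil, mul_one, mul_assoc] using h

theorem c_e4 : c * e4 = e1 * e6 * c := by
  have h := eq_of_chk [Uc, Ue4] [Ue1, Ue6, Uc] [c, e4] [e1, e6, c]
    (List.Forall₂.cons rep_c (List.Forall₂.cons rep_e4 List.Forall₂.nil))
    (List.Forall₂.cons rep_e1 (List.Forall₂.cons rep_e6 (List.Forall₂.cons rep_c List.Forall₂.nil)))
    (by decide +kernel)
  simpa only [List.prod_cons, List.prod_nil, mul_one, mul_assoc] using h

theorem c_e5 : c * e5 = e1 * e3 * e4 * e6 * c := by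
  have h := eq_of_chk [Uc, Ue5] [Ue1, Ue3, Ue4, Ue6, Uc] [c, e5] [e1, e3, e4, e6, c]
    (List.Forall₂.cons rep_c (List.Forall₂.cons rep_e5 List.Forall₂.nil))
    (List.Forall₂.cons rep_e1 (List.Forall₂.cons rep_e3 (List.Forall₂.cons rep_e4 (List.Forall₂.cons rep_e6 (List.Forall₂.cons rep_c List.Forall₂.nil)))))
    (by decide +kernel)
  simpa only [List.prod_cons, List.prod_nil, mul_one, mul_assoc] using h

theorem c_e6 : c * e6 = e1 * e2 * e3 * e4 * e6 * c := by
  have h := eq_of_chk [Uc, Ue6] [Ue1, Ue2, Ue3, Ue4, Ue6, Uc] [c, e6] [e1, e2, e3, e4, e6, c]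
    (List.Forall₂.cons rep_c (List.Forall₂.cons rep_e6 List.Forall₂.nil))
    (List.Forall₂.cons rep_e1 (List.Forall₂.cons rep_e2 (List.Forall₂.cons rep_e3 (List.Forall₂.cons rep_e4 (List.Forall₂.cons rep_e6 (List.Forall₂.cons rep_c List.Forall₂.nil))))))
    (by decide +kernel)
  simpa only [List.prod_cons, List.prod_nil, mul_one, mul_assoc] using h

theorem k_nrm1 : e1 * (k * e1 * (k * k)) * (k * (k * e1 * (k * k)) * (k * k)) = 1 := by
  have h := eq_of_chk [Ue1, Uk, Ue1, Uk, Uk, Uk, Uk, Ue1, Uk, Uk, Uk, Uk] [] [e1, k, e1, k, k, k, k, e1, k, k, k, k] []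
    (List.Forall₂.cons rep_e1 (List.Forall₂.cons rep_k (List.Forall₂.cons rep_e1 (List.Forall₂.cons rep_k (List.Forall₂.cons rep_k (List.Forall₂.cons rep_k (List.Forall₂.cons rep_k (List.Forall₂.cons rep_e1 (List.Forall₂.cons rep_k (List.Forall₂.cons rep_k (List.Forall₂.cons rep_k (List.Forall₂.cons rep_k List.Forall₂.nil))))))))))))
    List.Forall₂.nil
    (by decide +kernel)
  simpa only [List.prod_cons, List.prod_nil, mul_one, mul_assoc] using h

theorem k_nrm2 : e2 * (k * e2 * (k * k)) * (k * (k * e2 * (k * k)) * (k * k)) = 1 := by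
  have h := eq_of_chk [Ue2, Uk, Ue2, Uk, Uk, Uk, Uk, Ue2, Uk, Uk, Uk, Uk] [] [e2, k, e2, k, k, k, k, e2, k, k, k, k] []
    (List.Forall₂.cons rep_e2 (List.Forall₂.cons rep_k (List.Forall₂.cons rep_e2 (List.Forall₂.cons rep_k (List.Forall₂.cons rep_k (List.Forall₂.cons rep_k (List.Forall₂.cons rep_k (List.Forall₂.cons rep_e2 (List.Forall₂.cons rep_k (List.Forall₂.cons rep_k (List.Forall₂.cons rep_k (List.Forall₂.cons rep_k List.Forall₂.nil))))))))))))
    List.Forall₂.nil
    (by decide +kernel)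
  simpa only [List.prod_cons, List.prod_nil, mul_one, mul_assoc] using h

theorem k_nrm3 : e3 * (k * e3 * (k * k)) * (k * (k * e3 * (k * k)) * (k * k)) = 1 := by
  have h := eq_of_chk [Ue3, Uk, Ue3, Uk, Uk, Uk, Uk, Ue3, Uk, Uk, Uk, Uk] [] [e3, k, e3, k, k, k, k, e3, k, k, k, k] []
    (List.Forall₂.cons rep_e3 (List.Forall₂.cons rep_k (List.Forall₂.cons rep_e3 (List.Forall₂.cons rep_k (List.Forall₂.cons rep_k (List.Forall₂.cons rep_k (List.Forall₂.cons rep_k (List.Forall₂.cons rep_e3 (List.Forall₂.cons rep_k (List.Forall₂.cons rep_k (List.Forall₂.cons rep_k (List.Forall₂.cons rep_k List.Forall₂.nil))))))))))))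
    List.Forall₂.nil
    (by decide +kernel)
  simpa only [List.prod_cons, List.prod_nil, mul_one, mul_assoc] using h

theorem k_nrm4 : e4 * (k * e4 * (k * k)) * (k * (k * e4 * (k * k)) * (k * k)) = 1 := by
  have h := eq_of_chk [Ue4, Uk, Ue4, Uk, Uk, Uk, Uk, Ue4, Uk, Uk, Uk, Uk] [] [e4, k, e4, k, k, k, k, e4, k, k, k, k] []
    (List.Forall₂.cons rep_e4 (List.Forall₂.cons rep_k (List.Forall₂.cons rep_e4 (List.Forall₂.cons rep_k (List.Forall₂.cons rep_k (List.Forall₂.cons rep_k (List.Forall₂.cons rep_k (List.Forall₂.cons rep_e4 (List.Forall₂.cons rep_k (List.Forall₂.cons rep_k (List.Forall₂.cons rep_k (List.Forall₂.cons rep_k List.Forall₂.nil))))))))))))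
    List.Forall₂.nil
    (by decide +kernel)
  simpa only [List.prod_cons, List.prod_nil, mul_one, mul_assoc] using h

theorem k_nrm5 : e5 * (k * e5 * (k * k)) * (k * (k * e5 * (k * k)) * (k * k)) = 1 := by
  have h := eq_of_chk [Ue5, Uk, Ue5, Uk, Uk, Uk, Uk, Ue5, Uk, Uk, Uk, Uk] [] [e5, k, e5, k, k, k, k, e5, k, k, k, k] []
    (List.Forall₂.cons rep_e5 (List.Forall₂.cons rep_k (List.Forall₂.cons rep_e5 (List.Forall₂.cons rep_k (List.Forall₂.cons rep_k (List.Forall₂.cons rep_k (List.Forall₂.cons rep_k (List.Forall₂.cons rep_e5 (List.Forall₂.cons rep_k (List.Forall₂.cons rep_k (List.Forall₂.cons rep_k (List.Forall₂.cons rep_k List.Forall₂.nil))))))))))))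
    List.Forall₂.nil
    (by decide +kernel)
  simpa only [List.prod_cons, List.prod_nil, mul_one, mul_assoc] using h

theorem k_nrm6 : e6 * (k * e6 * (k * k)) * (k * (k * e6 * (k * k)) * (k * k)) = 1 := by
  have h := eq_of_chk [Ue6, Uk, Ue6, Uk, Uk, Uk, Uk, Ue6, Uk, Uk, Uk, Uk] [] [e6, k, e6, k, k, k, k, e6, k, k, k, k] []
    (List.Forall₂.cons rep_e6 (List.Forall₂.cons rep_k (List.Forall₂.cons rep_e6 (List.Forall₂.cons rep_k (List.Forall₂.cons rep_k (List.Forall₂.cons rep_k (List.Forall₂.cons rep_k (List.Forall₂.cons rep_e6 (List.Forall₂.cons rep_k (List.Forall₂.cons rep_k (List.Forall₂.cons rep_k (List.Forall₂.cons rep_k List.Forall₂.nil))))))))))))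
    List.Forall₂.nil
    (by decide +kernel)
  simpa only [List.prod_cons, List.prod_nil, mul_one, mul_assoc] using h

theorem r_k : r * k = k * r := by
  have h := eq_of_chk [Ur, Uk] [Uk, Ur] [r, k] [k, r]
    (List.Forall₂.cons rep_r (List.Forall₂.cons rep_k List.Forall₂.nil))
    (List.Forall₂.cons rep_k (List.Forall₂.cons rep_r List.Forall₂.nil))
    (by decide +kernel)
  simpa only [List.prod_cons, List.prod_nil, mul_one, mul_assoc] using h

theorem s_k : s * k = k * s := by
  have h := eq_of_chk [Us, Uk] [Uk, Us] [s, k] [k, s]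
    (List.Forall₂.cons rep_s (List.Forall₂.cons rep_k List.Forall₂.nil))
    (List.Forall₂.cons rep_k (List.Forall₂.cons rep_s List.Forall₂.nil))
    (by decide +kernel)
  simpa only [List.prod_cons, List.prod_nil, mul_one, mul_assoc] using h

theorem c_k : c * k = k * k * c := by
  have h := eq_of_chk [Uc, Uk] [Uk, Uk, Uc] [c, k] [k, k, c]
    (List.Forall₂.cons rep_c (List.Forall₂.cons rep_k List.Forall₂.nil))
    (List.Forall₂.cons rep_k (List.Forall₂.cons rep_k (List.Forall₂.cons rep_c List.Forall₂.nil)))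
    (by decide +kernel)
  simpa only [List.prod_cons, List.prod_nil, mul_one, mul_assoc] using h

theorem r_four : r * r * r * r = 1 := by
  have h := eq_of_chk [Ur, Ur, Ur, Ur] [] [r, r, r, r] []
    (List.Forall₂.cons rep_r (List.Forall₂.cons rep_r (List.Forall₂.cons rep_r (List.Forall₂.cons rep_r List.Forall₂.nil))))
    List.Forall₂.nil
    (by decide +kernel)
  simpa only [List.prod_cons, List.prod_nil, mul_one, mul_assoc] using h

theorem s_sq : s * s = 1 := by
  have h := eq_of_chk [Us, Us] [] [s, s] []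
    (List.Forall₂.cons rep_s (List.Forall₂.cons rep_s List.Forall₂.nil))
    List.Forall₂.nil
    (by decide +kernel)
  simpa only [List.prod_cons, List.prod_nil, mul_one, mul_assoc] using h

theorem s_r : s * r = r * r * r * s := by
  have h := eq_of_chk [Us, Ur] [Ur, Ur, Ur, Us] [s, r] [r, r, r, s]
    (List.Forall₂.cons rep_s (List.Forall₂.cons rep_r List.Forall₂.nil))
    (List.Forall₂.cons rep_r (List.Forall₂.cons rep_r (List.Forall₂.cons rep_r (List.Forall₂.cons rep_s List.Forall₂.nil))))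
    (by decide +kernel)
  simpa only [List.prod_cons, List.prod_nil, mul_one, mul_assoc] using h

theorem c_sq : c * c = 1 := by
  have h := eq_of_chk [Uc, Uc] [] [c, c] []
    (List.Forall₂.cons rep_c (List.Forall₂.cons rep_c List.Forall₂.nil))
    List.Forall₂.nil
    (by decide +kernel)
  simpa only [List.prod_cons, List.prod_nil, mul_one, mul_assoc] using h

theorem c_r : c * r = r * c := by
  have h := eq_of_chk [Uc, Ur] [Ur, Uc] [c, r] [r, c]
    (List.Forall₂.cons rep_c (List.Forall₂.cons rep_r List.Forall₂.nil))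
    (List.Forall₂.cons rep_r (List.Forall₂.cons rep_c List.Forall₂.nil))
    (by decide +kernel)
  simpa only [List.prod_cons, List.prod_nil, mul_one, mul_assoc] using h

theorem c_s : c * s = s * c := by
  have h := eq_of_chk [Uc, Us] [Us, Uc] [c, s] [s, c]
    (List.Forall₂.cons rep_c (List.Forall₂.cons rep_s List.Forall₂.nil))
    (List.Forall₂.cons rep_s (List.Forall₂.cons rep_c List.Forall₂.nil))
    (by decide +kernel)
  simpa only [List.prod_cons, List.prod_nil, mul_one, mul_assoc] using h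

theorem qe2_conj : qe2 * e1 = e2 * qe2 := by
  have h := eq_of_chk [Uqe2, Ue1] [Ue2, Uqe2] [qe2, e1] [e2, qe2]
    (List.Forall₂.cons rep_qe2 (List.Forall₂.cons rep_e1 List.Forall₂.nil))
    (List.Forall₂.cons rep_e2 (List.Forall₂.cons rep_qe2 List.Forall₂.nil))
    (by decide +kernel)
  simpa only [List.prod_cons, List.prod_nil, mul_one, mul_assoc] using h

theorem qe3_conj : qe3 * e1 = e3 * qe3 := by
  have h := eq_of_chk [Uqe3, Ue1] [Ue3, Uqe3] [qe3, e1] [e3, qe3]
    (List.Forall₂.cons rep_qe3 (List.Forall₂.cons rep_e1 List.Forall₂.nil))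
    (List.Forall₂.cons rep_e3 (List.Forall₂.cons rep_qe3 List.Forall₂.nil))
    (by decide +kernel)
  simpa only [List.prod_cons, List.prod_nil, mul_one, mul_assoc] using h

theorem qe4_conj : qe4 * e1 = e4 * qe4 := by
  have h := eq_of_chk [Uqe4, Ue1] [Ue4, Uqe4] [qe4, e1] [e4, qe4]
    (List.Forall₂.cons rep_qe4 (List.Forall₂.cons rep_e1 List.Forall₂.nil))
    (List.Forall₂.cons rep_e4 (List.Forall₂.cons rep_qe4 List.Forall₂.nil))
    (by decide +kernel)
  simpa only [List.prod_cons, List.prod_nil, mul_one, mul_assoc] using h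

theorem qe5_conj : qe5 * e1 = e5 * qe5 := by
  have h := eq_of_chk [Uqe5, Ue1] [Ue5, Uqe5] [qe5, e1] [e5, qe5]
    (List.Forall₂.cons rep_qe5 (List.Forall₂.cons rep_e1 List.Forall₂.nil))
    (List.Forall₂.cons rep_e5 (List.Forall₂.cons rep_qe5 List.Forall₂.nil))
    (by decide +kernel)
  simpa only [List.prod_cons, List.prod_nil, mul_one, mul_assoc] using h

theorem qe6_conj : qe6 * e1 = e6 * qe6 := by
  have h := eq_of_chk [Uqe6, Ue1] [Ue6, Uqe6] [qe6, e1] [e6, qe6]
    (List.Forall₂.cons rep_qe6 (List.Forall₂.cons rep_e1 List.Forall₂.nil))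
    (List.Forall₂.cons rep_e6 (List.Forall₂.cons rep_qe6 List.Forall₂.nil))
    (by decide +kernel)
  simpa only [List.prod_cons, List.prod_nil, mul_one, mul_assoc] using h

theorem qe12_conj : qe12 * e1 = (e1 * e2) * qe12 := by
  have h := eq_of_chk [Uqe12, Ue1] [Ue1, Ue2, Uqe12] [qe12, e1] [e1, e2, qe12]
    (List.Forall₂.cons rep_qe12 (List.Forall₂.cons rep_e1 List.Forall₂.nil))
    (List.Forall₂.cons rep_e1 (List.Forall₂.cons rep_e2 (List.Forall₂.cons rep_qe12 List.Forall₂.nil)))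
    (by decide +kernel)
  simpa only [List.prod_cons, List.prod_nil, mul_one, mul_assoc] using h

theorem qe13_conj : qe13 * e1 = (e1 * e3) * qe13 := by
  have h := eq_of_chk [Uqe13, Ue1] [Ue1, Ue3, Uqe13] [qe13, e1] [e1, e3, qe13]
    (List.Forall₂.cons rep_qe13 (List.Forall₂.cons rep_e1 List.Forall₂.nil))
    (List.Forall₂.cons rep_e1 (List.Forall₂.cons rep_e3 (List.Forall₂.cons rep_qe13 List.Forall₂.nil)))
    (by decide +kernel)
  simpa only [List.prod_cons, List.prod_nil, mul_one, mul_assoc] using h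

theorem qe14_conj : qe14 * e1 = (e1 * e4) * qe14 := by
  have h := eq_of_chk [Uqe14, Ue1] [Ue1, Ue4, Uqe14] [qe14, e1] [e1, e4, qe14]
    (List.Forall₂.cons rep_qe14 (List.Forall₂.cons rep_e1 List.Forall₂.nil))
    (List.Forall₂.cons rep_e1 (List.Forall₂.cons rep_e4 (List.Forall₂.cons rep_qe14 List.Forall₂.nil)))
    (by decide +kernel)
  simpa only [List.prod_cons, List.prod_nil, mul_one, mul_assoc] using h

theorem qe15_conj : qe15 * e1 = (e1 * e5) * qe15 := by
  have h := eq_of_chk [Uqe15, Ue1] [Ue1, Ue5, Uqe15] [qe15, e1] [e1, e5, qe15]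
    (List.Forall₂.cons rep_qe15 (List.Forall₂.cons rep_e1 List.Forall₂.nil))
    (List.Forall₂.cons rep_e1 (List.Forall₂.cons rep_e5 (List.Forall₂.cons rep_qe15 List.Forall₂.nil)))
    (by decide +kernel)
  simpa only [List.prod_cons, List.prod_nil, mul_one, mul_assoc] using h

theorem qe16_conj : qe16 * e1 = (e1 * e6) * qe16 := by
  have h := eq_of_chk [Uqe16, Ue1] [Ue1, Ue6, Uqe16] [qe16, e1] [e1, e6, qe16]
    (List.Forall₂.cons rep_qe16 (List.Forall₂.cons rep_e1 List.Forall₂.nil))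
    (List.Forall₂.cons rep_e1 (List.Forall₂.cons rep_e6 (List.Forall₂.cons rep_qe16 List.Forall₂.nil)))
    (by decide +kernel)
  simpa only [List.prod_cons, List.prod_nil, mul_one, mul_assoc] using h

theorem qe23_conj : qe23 * e1 = (e2 * e3) * qe23 := by
  have h := eq_of_chk [Uqe23, Ue1] [Ue2, Ue3, Uqe23] [qe23, e1] [e2, e3, qe23]
    (List.Forall₂.cons rep_qe23 (List.Forall₂.cons rep_e1 List.Forall₂.nil))
    (List.Forall₂.cons rep_e2 (List.Forall₂.cons rep_e3 (List.Forall₂.cons rep_qe23 List.Forall₂.nil)))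
    (by decide +kernel)
  simpa only [List.prod_cons, List.prod_nil, mul_one, mul_assoc] using h

theorem qe24_conj : qe24 * e1 = (e2 * e4) * qe24 := by
  have h := eq_of_chk [Uqe24, Ue1] [Ue2, Ue4, Uqe24] [qe24, e1] [e2, e4, qe24]
    (List.Forall₂.cons rep_qe24 (List.Forall₂.cons rep_e1 List.Forall₂.nil))
    (List.Forall₂.cons rep_e2 (List.Forall₂.cons rep_e4 (List.Forall₂.cons rep_qe24 List.Forall₂.nil)))
    (by decide +kernel)
  simpa only [List.prod_cons, List.prod_nil, mul_one, mul_assoc] using h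

theorem qe25_conj : qe25 * (e1 * bp * cp) = (e2 * e5) * qe25 := by
  have h := eq_of_chk [Uqe25, Ue1, Ubp, Ucp] [Ue2, Ue5, Uqe25] [qe25, e1, bp, cp] [e2, e5, qe25]
    (List.Forall₂.cons rep_qe25 (List.Forall₂.cons rep_e1 (List.Forall₂.cons rep_bp (List.Forall₂.cons rep_cp List.Forall₂.nil))))
    (List.Forall₂.cons rep_e2 (List.Forall₂.cons rep_e5 (List.Forall₂.cons rep_qe25 List.Forall₂.nil)))
    (by decide +kernel)
  simpa only [List.prod_cons, List.prod_nil, mul_one, mul_assoc] using h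

theorem qe26_conj : qe26 * e1 = (e2 * e6) * qe26 := by
  have h := eq_of_chk [Uqe26, Ue1] [Ue2, Ue6, Uqe26] [qe26, e1] [e2, e6, qe26]
    (List.Forall₂.cons rep_qe26 (List.Forall₂.cons rep_e1 List.Forall₂.nil))
    (List.Forall₂.cons rep_e2 (List.Forall₂.cons rep_e6 (List.Forall₂.cons rep_qe26 List.Forall₂.nil)))
    (by decide +kernel)
  simpa only [List.prod_cons, List.prod_nil, mul_one, mul_assoc] using h

theorem qe34_conj : qe34 * (e1 * bp * cp) = (e3 * e4) * qe34 := by
  have h := eq_of_chk [Uqe34, Ue1, Ubp, Ucp] [Ue3, Ue4, Uqe34] [qe34, e1, bp, cp] [e3, e4, qe34]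
    (List.Forall₂.cons rep_qe34 (List.Forall₂.cons rep_e1 (List.Forall₂.cons rep_bp (List.Forall₂.cons rep_cp List.Forall₂.nil))))
    (List.Forall₂.cons rep_e3 (List.Forall₂.cons rep_e4 (List.Forall₂.cons rep_qe34 List.Forall₂.nil)))
    (by decide +kernel)
  simpa only [List.prod_cons, List.prod_nil, mul_one, mul_assoc] using h

theorem qe35_conj : qe35 * (e1 * bp * cp) = (e3 * e5) * qe35 := by
  have h := eq_of_chk [Uqe35, Ue1, Ubp, Ucp] [Ue3, Ue5, Uqe35] [qe35, e1, bp, cp] [e3, e5, qe35]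
    (List.Forall₂.cons rep_qe35 (List.Forall₂.cons rep_e1 (List.Forall₂.cons rep_bp (List.Forall₂.cons rep_cp List.Forall₂.nil))))
    (List.Forall₂.cons rep_e3 (List.Forall₂.cons rep_e5 (List.Forall₂.cons rep_qe35 List.Forall₂.nil)))
    (by decide +kernel)
  simpa only [List.prod_cons, List.prod_nil, mul_one, mul_assoc] using h

theorem qe36_conj : qe36 * e1 = (e3 * e6) * qe36 := by
  have h := eq_of_chk [Uqe36, Ue1] [Ue3, Ue6, Uqe36] [qe36, e1] [e3, e6, qe36]
    (List.Forall₂.cons rep_qe36 (List.Forall₂.cons rep_e1 List.Forall₂.nil))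
    (List.Forall₂.cons rep_e3 (List.Forall₂.cons rep_e6 (List.Forall₂.cons rep_qe36 List.Forall₂.nil)))
    (by decide +kernel)
  simpa only [List.prod_cons, List.prod_nil, mul_one, mul_assoc] using h

theorem qe45_conj : qe45 * (e1 * bp * cp) = (e4 * e5) * qe45 := by
  have h := eq_of_chk [Uqe45, Ue1, Ubp, Ucp] [Ue4, Ue5, Uqe45] [qe45, e1, bp, cp] [e4, e5, qe45]
    (List.Forall₂.cons rep_qe45 (List.Forall₂.cons rep_e1 (List.Forall₂.cons rep_bp (List.Forall₂.cons rep_cp List.Forall₂.nil))))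
    (List.Forall₂.cons rep_e4 (List.Forall₂.cons rep_e5 (List.Forall₂.cons rep_qe45 List.Forall₂.nil)))
    (by decide +kernel)
  simpa only [List.prod_cons, List.prod_nil, mul_one, mul_assoc] using h

theorem qe46_conj : qe46 * e1 = (e4 * e6) * qe46 := by
  have h := eq_of_chk [Uqe46, Ue1] [Ue4, Ue6, Uqe46] [qe46, e1] [e4, e6, qe46]
    (List.Forall₂.cons rep_qe46 (List.Forall₂.cons rep_e1 List.Forall₂.nil))
    (List.Forall₂.cons rep_e4 (List.Forall₂.cons rep_e6 (List.Forall₂.cons rep_qe46 List.Forall₂.nil)))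
    (by decide +kernel)
  simpa only [List.prod_cons, List.prod_nil, mul_one, mul_assoc] using h

theorem qe56_conj : qe56 * e1 = (e5 * e6) * qe56 := by
  have h := eq_of_chk [Uqe56, Ue1] [Ue5, Ue6, Uqe56] [qe56, e1] [e5, e6, qe56]
    (List.Forall₂.cons rep_qe56 (List.Forall₂.cons rep_e1 List.Forall₂.nil))
    (List.Forall₂.cons rep_e5 (List.Forall₂.cons rep_e6 (List.Forall₂.cons rep_qe56 List.Forall₂.nil)))
    (by decide +kernel)
  simpa only [List.prod_cons, List.prod_nil, mul_one, mul_assoc] using h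

theorem qe123_conj : qe123 * e1 = (e1 * e2 * e3) * qe123 := by
  have h := eq_of_chk [Uqe123, Ue1] [Ue1, Ue2, Ue3, Uqe123] [qe123, e1] [e1, e2, e3, qe123]
    (List.Forall₂.cons rep_qe123 (List.Forall₂.cons rep_e1 List.Forall₂.nil))
    (List.Forall₂.cons rep_e1 (List.Forall₂.cons rep_e2 (List.Forall₂.cons rep_e3 (List.Forall₂.cons rep_qe123 List.Forall₂.nil))))
    (by decide +kernel)
  simpa only [List.prod_cons, List.prod_nil, mul_one, mul_assoc] using h

theorem qbp_conj : qbp * e1 = bp * qbp := by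
  have h := eq_of_chk [Uqbp, Ue1] [Ubp, Uqbp] [qbp, e1] [bp, qbp]
    (List.Forall₂.cons rep_qbp (List.Forall₂.cons rep_e1 List.Forall₂.nil))
    (List.Forall₂.cons rep_bp (List.Forall₂.cons rep_qbp List.Forall₂.nil))
    (by decide +kernel)
  simpa only [List.prod_cons, List.prod_nil, mul_one, mul_assoc] using h

theorem qcp_conj : qcp * e1 = cp * qcp := by
  have h := eq_of_chk [Uqcp, Ue1] [Ucp, Uqcp] [qcp, e1] [cp, qcp]
    (List.Forall₂.cons rep_qcp (List.Forall₂.cons rep_e1 List.Forall₂.nil))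
    (List.Forall₂.cons rep_cp (List.Forall₂.cons rep_qcp List.Forall₂.nil))
    (by decide +kernel)
  simpa only [List.prod_cons, List.prod_nil, mul_one, mul_assoc] using h

theorem qe1bp_conj : qe1bp * e1 = (e1 * bp) * qe1bp := by
  have h := eq_of_chk [Uqe1bp, Ue1] [Ue1, Ubp, Uqe1bp] [qe1bp, e1] [e1, bp, qe1bp]
    (List.Forall₂.cons rep_qe1bp (List.Forall₂.cons rep_e1 List.Forall₂.nil))
    (List.Forall₂.cons rep_e1 (List.Forall₂.cons rep_bp (List.Forall₂.cons rep_qe1bp List.Forall₂.nil)))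
    (by decide +kernel)
  simpa only [List.prod_cons, List.prod_nil, mul_one, mul_assoc] using h

theorem qe1cp_conj : qe1cp * e1 = (e1 * cp) * qe1cp := by
  have h := eq_of_chk [Uqe1cp, Ue1] [Ue1, Ucp, Uqe1cp] [qe1cp, e1] [e1, cp, qe1cp]
    (List.Forall₂.cons rep_qe1cp (List.Forall₂.cons rep_e1 List.Forall₂.nil))
    (List.Forall₂.cons rep_e1 (List.Forall₂.cons rep_cp (List.Forall₂.cons rep_qe1cp List.Forall₂.nil)))
    (by decide +kernel)
  simpa only [List.prod_cons, List.prod_nil, mul_one, mul_assoc] using h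

theorem qbpcp_conj : qbpcp * e1 = (bp * cp) * qbpcp := by
  have h := eq_of_chk [Uqbpcp, Ue1] [Ubp, Ucp, Uqbpcp] [qbpcp, e1] [bp, cp, qbpcp]
    (List.Forall₂.cons rep_qbpcp (List.Forall₂.cons rep_e1 List.Forall₂.nil))
    (List.Forall₂.cons rep_bp (List.Forall₂.cons rep_cp (List.Forall₂.cons rep_qbpcp List.Forall₂.nil)))
    (by decide +kernel)
  simpa only [List.prod_cons, List.prod_nil, mul_one, mul_assoc] using h

theorem qs_conj : qs * (e1 * bp * cp) = s * qs := by
  have h := eq_of_chk [Uqs, Ue1, Ubp, Ucp] [Us, Uqs] [qs, e1, bp, cp] [s, qs]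
    (List.Forall₂.cons rep_qs (List.Forall₂.cons rep_e1 (List.Forall₂.cons rep_bp (List.Forall₂.cons rep_cp List.Forall₂.nil))))
    (List.Forall₂.cons rep_s (List.Forall₂.cons rep_qs List.Forall₂.nil))
    (by decide +kernel)
  simpa only [List.prod_cons, List.prod_nil, mul_one, mul_assoc] using h

theorem qrr_conj : qrr * (e1 * bp * cp) = (r * r) * qrr := by
  have h := eq_of_chk [Uqrr, Ue1, Ubp, Ucp] [Ur, Ur, Uqrr] [qrr, e1, bp, cp] [r, r, qrr]
    (List.Forall₂.cons rep_qrr (List.Forall₂.cons rep_e1 (List.Forall₂.cons rep_bp (List.Forall₂.cons rep_cp List.Forall₂.nil))))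
    (List.Forall₂.cons rep_r (List.Forall₂.cons rep_r (List.Forall₂.cons rep_qrr List.Forall₂.nil)))
    (by decide +kernel)
  simpa only [List.prod_cons, List.prod_nil, mul_one, mul_assoc] using h

theorem qsr_conj : qsr * (e1 * bp * cp) = (s * r) * qsr := by
  have h := eq_of_chk [Uqsr, Ue1, Ubp, Ucp] [Us, Ur, Uqsr] [qsr, e1, bp, cp] [s, r, qsr]
    (List.Forall₂.cons rep_qsr (List.Forall₂.cons rep_e1 (List.Forall₂.cons rep_bp (List.Forall₂.cons rep_cp List.Forall₂.nil))))
    (List.Forall₂.cons rep_s (List.Forall₂.cons rep_r (List.Forall₂.cons rep_qsr List.Forall₂.nil)))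
    (by decide +kernel)
  simpa only [List.prod_cons, List.prod_nil, mul_one, mul_assoc] using h

theorem qc_conj : qc * (e1 * bp * cp) = c * qc := by
  have h := eq_of_chk [Uqc, Ue1, Ubp, Ucp] [Uc, Uqc] [qc, e1, bp, cp] [c, qc]
    (List.Forall₂.cons rep_qc (List.Forall₂.cons rep_e1 (List.Forall₂.cons rep_bp (List.Forall₂.cons rep_cp List.Forall₂.nil))))
    (List.Forall₂.cons rep_c (List.Forall₂.cons rep_qc List.Forall₂.nil))
    (by decide +kernel)
  simpa only [List.prod_cons, List.prod_nil, mul_one, mul_assoc] using h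

theorem qcs_conj : qcs * e1 = (c * s) * qcs := by
  have h := eq_of_chk [Uqcs, Ue1] [Uc, Us, Uqcs] [qcs, e1] [c, s, qcs]
    (List.Forall₂.cons rep_qcs (List.Forall₂.cons rep_e1 List.Forall₂.nil))
    (List.Forall₂.cons rep_c (List.Forall₂.cons rep_s (List.Forall₂.cons rep_qcs List.Forall₂.nil)))
    (by decide +kernel)
  simpa only [List.prod_cons, List.prod_nil, mul_one, mul_assoc] using h

theorem qcsr_conj : qcsr * (e1 * bp * cp) = (c * (s * r)) * qcsr := by
  have h := eq_of_chk [Uqcsr, Ue1, Ubp, Ucp] [Uc, Us, Ur, Uqcsr] [qcsr, e1, bp, cp] [c, s, r, qcsr]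
    (List.Forall₂.cons rep_qcsr (List.Forall₂.cons rep_e1 (List.Forall₂.cons rep_bp (List.Forall₂.cons rep_cp List.Forall₂.nil))))
    (List.Forall₂.cons rep_c (List.Forall₂.cons rep_s (List.Forall₂.cons rep_r (List.Forall₂.cons rep_qcsr List.Forall₂.nil))))
    (by decide +kernel)
  simpa only [List.prod_cons, List.prod_nil, mul_one, mul_assoc] using h

theorem x_cube : x * x * x = 1 := by
  have h := eq_of_chk [Ux, Ux, Ux] [] [x, x, x] []
    (List.Forall₂.cons rep_x (List.Forall₂.cons rep_x (List.Forall₂.cons rep_x List.Forall₂.nil)))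
    List.Forall₂.nil
    (by decide +kernel)
  simpa only [List.prod_cons, List.prod_nil, mul_one, mul_assoc] using h

theorem y_cube : y * y * y = 1 := by
  have h := eq_of_chk [Uy, Uy, Uy] [] [y, y, y] []
    (List.Forall₂.cons rep_y (List.Forall₂.cons rep_y (List.Forall₂.cons rep_y List.Forall₂.nil)))
    List.Forall₂.nil
    (by decide +kernel)
  simpa only [List.prod_cons, List.prod_nil, mul_one, mul_assoc] using h

theorem w_cube : w * w * w = 1 := by
  have h := eq_of_chk [Uw, Uw, Uw] [] [w, w, w] []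
    (List.Forall₂.cons rep_w (List.Forall₂.cons rep_w (List.Forall₂.cons rep_w List.Forall₂.nil)))
    List.Forall₂.nil
    (by decide +kernel)
  simpa only [List.prod_cons, List.prod_nil, mul_one, mul_assoc] using h

theorem w_def : w = x * y * (x * x) * (y * y) := by
  have h := eq_of_chk [Uw] [Ux, Uy, Ux, Ux, Uy, Uy] [w] [x, y, x, x, y, y]
    (List.Forall₂.cons rep_w List.Forall₂.nil)
    (List.Forall₂.cons rep_x (List.Forall₂.cons rep_y (List.Forall₂.cons rep_x (List.Forall₂.cons rep_x (List.Forall₂.cons rep_y (List.Forall₂.cons rep_y List.Forall₂.nil))))))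
    (by decide +kernel)
  simpa only [List.prod_cons, List.prod_nil, mul_one, mul_assoc] using h

theorem w_x : w * x = x * w := by
  have h := eq_of_chk [Uw, Ux] [Ux, Uw] [w, x] [x, w]
    (List.Forall₂.cons rep_w (List.Forall₂.cons rep_x List.Forall₂.nil))
    (List.Forall₂.cons rep_x (List.Forall₂.cons rep_w List.Forall₂.nil))
    (by decide +kernel)
  simpa only [List.prod_cons, List.prod_nil, mul_one, mul_assoc] using h

theorem w_y : w * y = y * w := by
  have h := eq_of_chk [Uw, Uy] [Uy, Uw] [w, y] [y, w]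
    (List.Forall₂.cons rep_w (List.Forall₂.cons rep_y List.Forall₂.nil))
    (List.Forall₂.cons rep_y (List.Forall₂.cons rep_w List.Forall₂.nil))
    (by decide +kernel)
  simpa only [List.prod_cons, List.prod_nil, mul_one, mul_assoc] using h

theorem t_x : t * x = x * x * t := by
  have h := eq_of_chk [Ut, Ux] [Ux, Ux, Ut] [t, x] [x, x, t]
    (List.Forall₂.cons rep_t (List.Forall₂.cons rep_x List.Forall₂.nil))
    (List.Forall₂.cons rep_x (List.Forall₂.cons rep_x (List.Forall₂.cons rep_t List.Forall₂.nil)))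
    (by decide +kernel)
  simpa only [List.prod_cons, List.prod_nil, mul_one, mul_assoc] using h

theorem t_y : t * y = y * y * t := by
  have h := eq_of_chk [Ut, Uy] [Uy, Uy, Ut] [t, y] [y, y, t]
    (List.Forall₂.cons rep_t (List.Forall₂.cons rep_y List.Forall₂.nil))
    (List.Forall₂.cons rep_y (List.Forall₂.cons rep_y (List.Forall₂.cons rep_t List.Forall₂.nil)))
    (by decide +kernel)
  simpa only [List.prod_cons, List.prod_nil, mul_one, mul_assoc] using h

theorem t_w : t * w = w * t := by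
  have h := eq_of_chk [Ut, Uw] [Uw, Ut] [t, w] [w, t]
    (List.Forall₂.cons rep_t (List.Forall₂.cons rep_w List.Forall₂.nil))
    (List.Forall₂.cons rep_w (List.Forall₂.cons rep_t List.Forall₂.nil))
    (by decide +kernel)
  simpa only [List.prod_cons, List.prod_nil, mul_one, mul_assoc] using h

theorem y_x : y * x = w * w * x * y := by
  have h := eq_of_chk [Uy, Ux] [Uw, Uw, Ux, Uy] [y, x] [w, w, x, y]
    (List.Forall₂.cons rep_y (List.Forall₂.cons rep_x List.Forall₂.nil))
    (List.Forall₂.cons rep_w (List.Forall₂.cons rep_w (List.Forall₂.cons rep_x (List.Forall₂.cons rep_y List.Forall₂.nil))))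
    (by decide +kernel)
  simpa only [List.prod_cons, List.prod_nil, mul_one, mul_assoc] using h

theorem x5_pow : x5 * x5 * x5 * x5 * x5 = 1 := by
  have h := eq_of_chk [Ux5, Ux5, Ux5, Ux5, Ux5] [] [x5, x5, x5, x5, x5] []
    (List.Forall₂.cons rep_x5 (List.Forall₂.cons rep_x5 (List.Forall₂.cons rep_x5 (List.Forall₂.cons rep_x5 (List.Forall₂.cons rep_x5 List.Forall₂.nil)))))
    List.Forall₂.nil
    (by decide +kernel)
  simpa only [List.prod_cons, List.prod_nil, mul_one, mul_assoc] using h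

theorem y5_pow : y5 * y5 * y5 * y5 * y5 = 1 := by
  have h := eq_of_chk [Uy5, Uy5, Uy5, Uy5, Uy5] [] [y5, y5, y5, y5, y5] []
    (List.Forall₂.cons rep_y5 (List.Forall₂.cons rep_y5 (List.Forall₂.cons rep_y5 (List.Forall₂.cons rep_y5 (List.Forall₂.cons rep_y5 List.Forall₂.nil)))))
    List.Forall₂.nil
    (by decide +kernel)
  simpa only [List.prod_cons, List.prod_nil, mul_one, mul_assoc] using h

theorem x5_y5 : x5 * y5 = y5 * x5 := by
  have h := eq_of_chk [Ux5, Uy5] [Uy5, Ux5] [x5, y5] [y5, x5]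
    (List.Forall₂.cons rep_x5 (List.Forall₂.cons rep_y5 List.Forall₂.nil))
    (List.Forall₂.cons rep_y5 (List.Forall₂.cons rep_x5 List.Forall₂.nil))
    (by decide +kernel)
  simpa only [List.prod_cons, List.prod_nil, mul_one, mul_assoc] using h

theorem t5_x5 : t5 * x5 = x5 * x5 * x5 * x5 * t5 := by
  have h := eq_of_chk [Ut5, Ux5] [Ux5, Ux5, Ux5, Ux5, Ut5] [t5, x5] [x5, x5, x5, x5, t5]
    (List.Forall₂.cons rep_t5 (List.Forall₂.cons rep_x5 List.Forall₂.nil))
    (List.Forall₂.cons rep_x5 (List.Forall₂.cons rep_x5 (List.Forall₂.cons rep_x5 (List.Forall₂.cons rep_x5 (List.Forall₂.cons rep_t5 List.Forall₂.nil)))))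
    (by decide +kernel)
  simpa only [List.prod_cons, List.prod_nil, mul_one, mul_assoc] using h

theorem t5_y5 : t5 * y5 = y5 * t5 := by
  have h := eq_of_chk [Ut5, Uy5] [Uy5, Ut5] [t5, y5] [y5, t5]
    (List.Forall₂.cons rep_t5 (List.Forall₂.cons rep_y5 List.Forall₂.nil))
    (List.Forall₂.cons rep_y5 (List.Forall₂.cons rep_t5 List.Forall₂.nil))
    (by decide +kernel)
  simpa only [List.prod_cons, List.prod_nil, mul_one, mul_assoc] using h

theorem x7_pow : x7 * x7 * x7 * x7 * x7 * x7 * x7 = 1 := by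
  have h := eq_of_chk [Ux7, Ux7, Ux7, Ux7, Ux7, Ux7, Ux7] [] [x7, x7, x7, x7, x7, x7, x7] []
    (List.Forall₂.cons rep_x7 (List.Forall₂.cons rep_x7 (List.Forall₂.cons rep_x7 (List.Forall₂.cons rep_x7 (List.Forall₂.cons rep_x7 (List.Forall₂.cons rep_x7 (List.Forall₂.cons rep_x7 List.Forall₂.nil)))))))
    List.Forall₂.nil
    (by decide +kernel)
  simpa only [List.prod_cons, List.prod_nil, mul_one, mul_assoc] using h

theorem y7_pow : y7 * y7 * y7 * y7 * y7 * y7 * y7 = 1 := by
  have h := eq_of_chk [Uy7, Uy7, Uy7, Uy7, Uy7, Uy7, Uy7] [] [y7, y7, y7, y7, y7, y7, y7] []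
    (List.Forall₂.cons rep_y7 (List.Forall₂.cons rep_y7 (List.Forall₂.cons rep_y7 (List.Forall₂.cons rep_y7 (List.Forall₂.cons rep_y7 (List.Forall₂.cons rep_y7 (List.Forall₂.cons rep_y7 List.Forall₂.nil)))))))
    List.Forall₂.nil
    (by decide +kernel)
  simpa only [List.prod_cons, List.prod_nil, mul_one, mul_assoc] using h

theorem w7_pow : w7 * w7 * w7 * w7 * w7 * w7 * w7 = 1 := by
  have h := eq_of_chk [Uw7, Uw7, Uw7, Uw7, Uw7, Uw7, Uw7] [] [w7, w7, w7, w7, w7, w7, w7] []
    (List.Forall₂.cons rep_w7 (List.Forall₂.cons rep_w7 (List.Forall₂.cons rep_w7 (List.Forall₂.cons rep_w7 (List.Forall₂.cons rep_w7 (List.Forall₂.cons rep_w7 (List.Forall₂.cons rep_w7 List.Forall₂.nil)))))))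
    List.Forall₂.nil
    (by decide +kernel)
  simpa only [List.prod_cons, List.prod_nil, mul_one, mul_assoc] using h

theorem w7_comm : w7 * y7 * x7 = x7 * y7 := by
  have h := eq_of_chk [Uw7, Uy7, Ux7] [Ux7, Uy7] [w7, y7, x7] [x7, y7]
    (List.Forall₂.cons rep_w7 (List.Forall₂.cons rep_y7 (List.Forall₂.cons rep_x7 List.Forall₂.nil)))
    (List.Forall₂.cons rep_x7 (List.Forall₂.cons rep_y7 List.Forall₂.nil))
    (by decide +kernel)
  simpa only [List.prod_cons, List.prod_nil, mul_one, mul_assoc] using h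

theorem w7_x7 : w7 * x7 = x7 * w7 := by
  have h := eq_of_chk [Uw7, Ux7] [Ux7, Uw7] [w7, x7] [x7, w7]
    (List.Forall₂.cons rep_w7 (List.Forall₂.cons rep_x7 List.Forall₂.nil))
    (List.Forall₂.cons rep_x7 (List.Forall₂.cons rep_w7 List.Forall₂.nil))
    (by decide +kernel)
  simpa only [List.prod_cons, List.prod_nil, mul_one, mul_assoc] using h

theorem w7_y7 : w7 * y7 = y7 * w7 := by
  have h := eq_of_chk [Uw7, Uy7] [Uy7, Uw7] [w7, y7] [y7, w7]
    (List.Forall₂.cons rep_w7 (List.Forall₂.cons rep_y7 List.Forall₂.nil))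
    (List.Forall₂.cons rep_y7 (List.Forall₂.cons rep_w7 List.Forall₂.nil))
    (by decide +kernel)
  simpa only [List.prod_cons, List.prod_nil, mul_one, mul_assoc] using h

theorem s7_x7 : s7 * x7 = x7 * x7 * s7 := by
  have h := eq_of_chk [Us7, Ux7] [Ux7, Ux7, Us7] [s7, x7] [x7, x7, s7]
    (List.Forall₂.cons rep_s7 (List.Forall₂.cons rep_x7 List.Forall₂.nil))
    (List.Forall₂.cons rep_x7 (List.Forall₂.cons rep_x7 (List.Forall₂.cons rep_s7 List.Forall₂.nil)))
    (by decide +kernel)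
  simpa only [List.prod_cons, List.prod_nil, mul_one, mul_assoc] using h

theorem s7_y7 : s7 * y7 = y7 * y7 * (y7 * y7) * s7 := by
  have h := eq_of_chk [Us7, Uy7] [Uy7, Uy7, Uy7, Uy7, Us7] [s7, y7] [y7, y7, y7, y7, s7]
    (List.Forall₂.cons rep_s7 (List.Forall₂.cons rep_y7 List.Forall₂.nil))
    (List.Forall₂.cons rep_y7 (List.Forall₂.cons rep_y7 (List.Forall₂.cons rep_y7 (List.Forall₂.cons rep_y7 (List.Forall₂.cons rep_s7 List.Forall₂.nil)))))
    (by decide +kernel)
  simpa only [List.prod_cons, List.prod_nil, mul_one, mul_assoc] using h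

theorem s7_w7 : s7 * w7 = w7 * s7 := by
  have h := eq_of_chk [Us7, Uw7] [Uw7, Us7] [s7, w7] [w7, s7]
    (List.Forall₂.cons rep_s7 (List.Forall₂.cons rep_w7 List.Forall₂.nil))
    (List.Forall₂.cons rep_w7 (List.Forall₂.cons rep_s7 List.Forall₂.nil))
    (by decide +kernel)
  simpa only [List.prod_cons, List.prod_nil, mul_one, mul_assoc] using h

theorem y7_x7 : y7 * x7 = w7 * w7 * w7 * w7 * w7 * w7 * x7 * y7 := by
  have h := eq_of_chk [Uy7, Ux7] [Uw7, Uw7, Uw7, Uw7, Uw7, Uw7, Ux7, Uy7] [y7, x7] [w7, w7, w7, w7, w7, w7, x7, y7]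
    (List.Forall₂.cons rep_y7 (List.Forall₂.cons rep_x7 List.Forall₂.nil))
    (List.Forall₂.cons rep_w7 (List.Forall₂.cons rep_w7 (List.Forall₂.cons rep_w7 (List.Forall₂.cons rep_w7 (List.Forall₂.cons rep_w7 (List.Forall₂.cons rep_w7 (List.Forall₂.cons rep_x7 (List.Forall₂.cons rep_y7 List.Forall₂.nil))))))))
    (by decide +kernel)
  simpa only [List.prod_cons, List.prod_nil, mul_one, mul_assoc] using h

theorem w_ne : w ≠ 1 :=
  ne_one_of_moves Uw w rep_w 0 (by norm_num) (by decide +kernel)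

theorem w7_ne : w7 ≠ 1 :=
  ne_one_of_moves Uw7 w7 rep_w7 0 (by norm_num) (by decide +kernel)

end Cfsg.Agent.Lib.Helper5.HeM
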