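import Mathlib
import Cfsg.Agent.Lib.Helper5.HeMC

set_option autoImplicit false

/-! Words for the Sylow subgroups of the Held group, ordered by signature (generated). -/

namespace Cfsg.Agent.Lib.Helper5.HeM

open Cfsg.Agent.Lib.helper17

/-- coded generators -/
def gT2 : List ℕ := [Ue1, Ue2, Ue3, Ue4, Ue5, Ue6, Ur, Us, Uc]

/-- generators -/
noncomputable def gG2 : List HeG := [e1, e2, e3, e4, e5, e6, r, s, c]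

theorem gRep2 : List.Forall₂ RepG gT2 gG2 :=
  (List.Forall₂.cons rep_e1 (List.Forall₂.cons rep_e2 (List.Forall₂.cons rep_e3 (List.Forall₂.cons rep_e4 (List.Forall₂.cons rep_e5 (List.Forall₂.cons rep_e6 (List.Forall₂.cons rep_r (List.Forall₂.cons rep_s (List.Forall₂.cons rep_c List.Forall₂.nil)))))))))

/-- normal form words, ordered by signature -/
def words2 : List (List ℕ) := [[3,4,5,6,6], [1,3,4,6,6,6,7,8], [0,3,4,5,6,6], [0,1,3,4,6,6,6,7,8], [], [0,1,2,3,4,6,7,8], [0], [1,2,3,4,6,7,8], [5,6,6], [1,6,6,6,7,8], [2,3,4,6,6,6,7,8], [1,2,3,4,5,6,6], [0,2,3,4,5,6,7], [0,1,2,3,4,8], [0,5,6,6], [0,1,6,6,6,7,8], [1,2,3,6,6,6,7,8], [2,3,5,6,6], [0,2,3,4,6,6,6,7,8], [0,1,2,3,4,5,6,6], [1,2,4,6,6,6,7,8], [2,4,5,6,6],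 [2,3,4,5,6,7], [1,2,3,4,8], [2,5,6,7], [1,2,8], [0,1,2,4,6,6,6,7,8], [0,2,4,5,6,6], [0,1,2,3,6,6,6,7,8], [0,2,3,5,6,6], [0,1,2,4,5,6,6,7,8], [0,1,2,5,6], [3,4], [0,1,2,6,7,8], [1,2,6,6,6], [0,1,3,5,7,8], [0,2,5,6,7], [0,1,2,8], [1,6,6,8], [0,2,3,4,6,6,6,7], [2,6,6,6,7,8], [1,2,5,6,6], [0,2,6,6,6,7,8], [0,1,2,5,6,6], [0,3,4], [1,2,6,7,8], [0,1,2,6,6,6], [1,3,5,7,8], [1,2,5,6], [1,2,4,5,6,6,7,8], [0,2,5,6,6], [0,1,2,6,6,6,7,8], [0,2,3,6,8], [5,6,6,7], [0,1,2,4,5,6,8], [1,3,4,6,6,7], [2,5,6,6], [1,2,6,6,6,7,8], [0,1,3,5,6,6,6,8], [0,1,3,4,5,7], [2,7], [2,4,6,6,6,8], [0,1,3,4,6,6,8], [2,6,6,6,7], [0,1,6,6,8], [2,3,4,6,6,6,7], [1,3,4,6,6,6,8], [1,3,7], [1,3,4,6,8], [0,1,2,4,5,6,6,7], [0,3,4,6,6,8], [1,2,6,6,6,7], [1,3,5,6,6,6,8],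 [1,3,4,5,7], [0,1,3,4,6,6,7], [1,2,4,5,6,8], [1,3,4,6,6,8], [0,2,6,6,6,7], [0,2,7], [0,2,4,6,6,6,8], [1,3,6,6,7], [0,1,2,5,6,8], [1,2,7], [1,2,4,6,6,6,8], [0,5,6,6,7], [2,3,6,8], [0,1,5,6,6,6,8], [0,1,4,5,7], [0,4], [1,2,3,6,7,8], [0,1,4,5,6,6,6,8], [0,1,5,7], [1,5,6,6,6,8], [1,4,5,7], [1,6,6,7], [0,1,2,3,5,6,8], [1,2,5,6,8], [0,1,3,6,6,7], [0,3], [1,2,4,6,7,8], [1,2,3,6,8], [0,1,5,6,6,7], [3,4,6,6,8], [0,1,2,6,6,6,7], [2,3,4,5,6,6], [1,2,3,4,6,6,6,7,8], [2,3,5,6,6,7], [0,6,8], [0,1,3,4,6,6,6,8], [0,1,3,7], [1,2,4,5,6,6,7], [0,1,3,4,6,8], [6,6,6,8], [4,7], [0,2,3,4,8], [0,1,2,3,4,5,6,7], [2,3,4,8], [1,2,3,4,5,6,7], [0,3,4,5,6,7], [0,1,3,4,8], [1,2,3,5,6,8], [0,1,6,6,7], [1,4,5,6,6,6,8], [1,5,7], [0,2,4,5,6,7,8],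 [1,3,5], [3,5,6,7,8], [0,1,2,4,5], [0,3,4,8], [0,1,3,4,5,6,7], [0,5,6,7], [0,1,8], [3,4,5,6,7], [1,3,4,8], [1,5,6,6,7], [0,1,2,3,6,8], [0,1,2,7], [0,1,2,4,6,6,6,8], [4], [0,1,2,3,6,7,8], [0,1,2,3,4,5,6], [0,1,2,3,5,6,6,7,8], [0,1,4,5,7,8], [1,2,3,4,6,6,6], [3], [0,1,2,4,6,7,8], [0,1,3,5,6,7,8], [2,4,5], [0,1,2,4,5,6,7,8], [3,5], [0,2,3,4,5,6,6], [0,1,2,3,4,6,6,6,7,8], [1,2,4,5,6,7,8], [0,3,5], [0,1,5,6,6,6,7], [2,3,4,5,6,6,8], [4,6,6,6,7], [0,1,2,3,6,6,8], [1,3,5,6,7,8], [0,2,4,5], [3,6,6,6,7], [0,1,2,4,6,6,8], [2,3,4,5,6,8], [0,4,6,6,7], [0,3,4,5,6,6,6,8], [0,3,5,7], [6,8], [0,2,3,5,6,6,7], [1,2,3,5,6,7,8], [0,4,5], [1,4,5,6,7,8], [0,2,3,5], [0,6,6,6,8], [0,4,7], [0,1,2,3,4,5,6,7,8], [5], [0,2,7,8], [3,5,6,6,6],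 [2,4,6], [2,6,6,7,8], [0,2,8], [0,1,2,5,6,7], [2,8], [1,2,5,6,7], [3,4,8], [1,3,4,5,6,7], [0,3,5,6,7,8], [1,2,4,5], [2,4,5,6,7,8], [0,1,3,5], [2,3,5,6,6,8], [0,1,4,5,6,6,6,7], [5,6,7], [1,8], [0,1,2,5,6,6,6,7], [3,4,5,6,6,8], [1,5,6,6,6,7], [0,2,3,4,5,6,6,8], [0,2,3,4,7], [0,2,3,6,6,6,8], [1,2,3,5,6,6,7,8], [1,2,3,4,5,6], [1,4,5,7,8], [0,1,2,3,4,6,6,6], [2,4,6,8], [0,3,4,5,6,6,7], [0,1,3,4,5,6,7,8], [2,5], [3,4,5,6,6,6,8], [3,5,7], [0,2,6,6,7,8], [0,2,4,6], [4,6,6,7], [0,2,3,4,5,6,8], [0,1,2,3,5,6,6,7], [1,6,8], [1,6,6,6,8], [1,4,7], [2,7,8], [0,3,5,6,6,6], [3,4,6,6,6,8], [3,7], [0,3,4,6,8], [2,4,5,6,6,7], [1,2,5,6,6,6,7], [0,3,4,5,6,6,8], [0,4,6,6,6,7], [1,2,3,6,6,8], [1,2,3,5,6,6,8], [0,4,5,6,6,6,7], [0,3,6,6,6,7],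 [1,2,4,6,6,8], [2,5,6,7,8], [0,1,3,4,5], [0,1,4,5,6,7,8], [2,3,5], [1,3,4,5,6,7,8], [0,2,5], [1,4,5,6,6,8], [0,2,3,5,6,6,6,7], [0,5,6,7,8], [1,2,3,4,5], [0,1,2,3,5,6,7,8], [4,5], [0,2,3,4,5,6,6,7,8], [0,2,3,5,6], [0,2,4,6,6,7,8], [0,2,6], [0,4,5,6,6,6,8], [0,5,7], [0,1], [2,3,4,6,7,8], [0,2,4,6,6,6], [3,4,5,7,8], [0,6,6,7], [2,3,5,6,8], [1,2,3,4,5,6,7,8], [0,5], [2,3,7,8], [0,5,6,6,6], [1], [0,2,3,4,6,7,8], [0,4,5,6,6,8], [1,2,3,5,6,6,6,7], [4,5,6,6,8], [0,1,2,3,5,6,6,6,7], [0,2,3,5,6,6,8], [1,4,5,6,6,6,7], [1,3,4,5,6,6,6,8], [1,3,5,7], [0,1,2,6,6,7], [1,3,5,6,8], [3,4,5,6,6,7], [0,2,4,6,8], [1,5,6,6,6], [0,1,2,3,7,8], [0,1,2,4,6,8], [1,3,4,5,6,6,7], [0,1,4,6,6,7], [1,2,3,4,5,6,8], [1,2,5,7], [1,2,4,5,6,6,6,8],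 [2,3,4,7], [2,3,6,6,6,8], [0,1,3,5,6,6,8], [2,4,5,6,6,6,7], [1,2,3,4,7], [1,2,3,6,6,6,8], [0,1,2,4,5,6,6,8], [3,5,6,6,6,7], [0,1,3,4,5,6,6,7], [1,2,4,6,8], [0,1,2,3,4,7], [0,1,2,3,6,6,6,8], [0,1,2,6], [0,1,2,4,6,6,7,8], [0,1,6,8], [1,2,3,5,6,6,7], [0,1,6,6,6,8], [0,1,4,7], [3,5,6,6,6,8], [3,4,5,7], [1,3,4], [0,2,6,7,8], [0,6,6,8], [1,2,3,4,6,6,6,7], [6,6,8], [0,1,2,3,4,6,6,6,7], [3,4,6,6,7], [0,2,4,5,6,8], [0,1,3,4], [2,6,7,8], [0,3,4,6,6,6,8], [0,3,7], [0,2,4,5,6,6,7], [3,4,6,8], [0,1,4,5,6,6,8], [2,3,5,6,6,6,7], [0,1,2,3,5,8], [0,2,3,6,7], [0,1,2,3,5,6,6,8], [4,5,6,6,6,7], [0,1,4,5,8], [0,4,6,7], [0,2,5,6,7,8], [1,3,4,5], [1,2,3,4,5,6,6,6,7,8], [2,3,4,6,6], [0,2,3,5,6,8], [6,6,7], [2,4,5,6,8], [0,3,4,6,6,7], [5,6,7,8],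 [0,1,2,3,4,5], [4,5,6,6,6,8], [5,7], [1,3,4,5,6,6,6,7,8], [3,4,6,6], [1,2,4,5,8], [2,4,6,7], [1,3,6], [1,3,4,6,6,7,8], [2,3,5,6], [2,3,4,5,6,6,7,8], [2,6], [2,4,6,6,7,8], [0,2,5,7], [0,2,4,5,6,6,6,8], [1,2,5,6,7,8], [0,3,4,5], [1,5,6,7,8], [0,2,3,4,5], [0,8], [0,1,5,6,7], [1,3,5,8], [3,6,7], [0,1,2,4,5,6,6,6], [1,3,4,7,8], [2,4,6,6,6], [0,3,4,5,7,8], [0,2,3,7,8], [5,6,6,6], [0,3,5,6,6,6,8], [0,3,4,5,7], [3,5,6,8], [0,2,6,6,7], [0,3,6,6,7], [2,5,6,8], [0,5,6,6,6,8], [0,4,5,7], [0,2,3,5,6,7,8], [1,4,5], [4,5,6,7,8], [0,1,2,3,5], [0,4,5,6,7,8], [1,2,3,5], [1,2,3,4,6], [1,2,3,6,6,7,8], [0,1,3,4,6,6,7,8], [0,1,3,6], [0,1,2,4,5,6,6], [0,2,4,6,6,6,7,8], [8], [1,5,6,7], [1,2,4,7,8], [0,1,3,4,5,6,6,6], [2,3,5,6,7,8], [0,1,4,5],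 [1,2,3,5,6,6], [2,3,6,6,6,7,8], [1,2,4,5,6,6,6], [0,1,3,4,7,8], [0,1,2,3,4,5,6,8], [1,4,6,6,7], [0,1,3,4,5,6,6,6,8], [0,1,3,5,7], [0,1,3,5,6,8], [1,2,6,6,7], [0,1,2,3,4,5,7], [0,1,2,3,5,6,6,6,8], [0,1,5,6,6,6], [1,2,3,7,8], [0,1,2,5,7], [0,1,2,4,5,6,6,6,8], [1,2,3,4,6,6,7], [0,1,4,5,6,8], [1,4,5,6], [1,5,6,6,7,8], [1,3,5,6,6,8], [0,2,4,5,6,6,6,7], [1,2,4,5,6,6,8], [0,3,5,6,6,6,7], [1,2,5,7,8], [0,1,3,6,6,6], [1,2,4,6,6,7,8], [1,2,6], [0,3,6], [0,3,4,6,6,7,8], [6,6,6,7,8], [1,5,6,6], [3,4,7,8], [0,2,4,5,6,6,6], [0,6,6,6,7,8], [0,1,5,6,6], [1,2,6,6], [2,5,6,6,6,7,8], [0,1,2,5,6,6,6,7,8], [0,2,6,6], [1,4], [0,2,3,6,7,8], [0,1,3], [2,4,6,7,8], [0,1,6,6], [0,5,6,6,6,7,8], [0,1,5,6,6,6,7,8], [0,6,6], [0,2,5,6], [0,2,4,5,6,6,7,8],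 [0,1,2,3,4,5,6,6,6,7], [5,6,6,8], [1,2,3,5,8], [2,3,6,7], [0,1,4,6,7], [0,4,5,8], [1,3,4,5,6,6,6,7], [0,2,5,6,6,8], [3,5,7,8], [0,2,6,6,6], [0,1,2,3,6,7], [0,2,3,5,8], [1,4,5,8], [4,6,7], [1,2,3,6,7], [2,3,5,8], [0,2,3,6], [0,2,3,4,6,6,7,8], [0,4,5,6,6,6], [2,3,4,7,8], [0,1,2,3,4,5,6,6,6,7,8], [0,2,3,4,6,6], [0,1,5,6,7,8], [2,3,4,5], [1,3], [0,2,4,6,7,8], [1,2,4,6,7], [2,4,5,8], [1,7,8], [0,1,2,3,5,6,6,6], [2,3,6,6,7,8], [2,3,4,6], [1,4,6,7], [4,5,8], [0,1,3,4,5,6,6,6,7,8], [0,3,4,6,6], [0,1,2,5,6,7,8], [3,4,5], [0,1,2,4,5,8], [0,2,4,6,7], [1,3,6,7], [3,5,8], [0,1,2,4,6,7], [0,2,4,5,8], [0,4,5,6,8], [2,3,4,6,6,7], [2,5,7], [2,4,5,6,6,6,8], [0,1,3,5,8], [0,3,6,7], [0,1,4], [2,3,6,7,8], [0,1,3,6,7], [0,3,5,8], [1,6,6,7,8],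 [1,4,6], [3,4,5,6,6,6], [0,2,4,7,8], [2,6,6,7], [0,3,5,6,8], [2,3,4,5,7], [2,3,5,6,6,6,8], [5,6,6,6,8], [4,5,7], [0,2,5,6,8], [3,6,6,7], [0,1,4,6,6,6,7], [2,3,6,6,8], [1,3,6,6,6,7], [0,2,4,6,6,8], [0,1,2,3,5,6,6], [0,2,3,6,6,6,7,8], [1,2,4,5,6,6], [2,4,6,6,6,7,8], [0,1,2,3,6,6,7,8], [0,1,2,3,4,6], [2,4,5,6,6,8], [0,1,3,5,6,6,6,7], [0,1,2,4,7,8], [1,3,4,5,6,6,6], [0,3,5,6,6,8], [1,2,4,5,6,6,6,7], [0,1,7,8], [1,2,3,5,6,6,6], [5,7,8], [0,2,3,6,6,6], [0,1,4,6], [0,1,6,6,7,8], [0,2,4,5,6], [0,2,5,6,6,7,8], [1,2,3,4,5,7], [1,2,3,5,6,6,6,8], [1,4,5,6,8], [0,1,2,3,4,6,6,7], [0,1,5,6,6,7,8], [0,1,4,5,6], [0,1,2,5,7,8], [1,3,6,6,6], [0,3,4,7,8], [2,4,5,6,6,6], [4,5,6,6,6], [0,2,3,4,7,8], [3,4,6,6,7,8], [3,6], [3,4,6,6,6,7,8],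 [1,3,4,5,6,6], [0,3,4,6,6,6,7,8], [0,1,3,4,5,6,6], [2,3,4,5,6,7,8], [0,1,5], [2,3,4,6,6,7,8], [2,3,6], [0,3,4,5,6,7,8], [1,2,5], [0,5,6,6,6,7], [1,2,3,4,5,6,6,8], [3,4,5,6,7,8], [0,1,2,5], [0,1,3,4,6,6], [0,3,4,5,6,6,6,7,8], [1,2,3,6], [1,2,3,4,6,6,7,8], [0,1,2,6,6], [0,2,5,6,6,6,7,8], [1,3,4,6,6], [3,4,5,6,6,6,7,8], [1,2,5,6,6,6,7,8], [2,6,6], [0,2,3,4,5,6,7,8], [1,5], [0,2,5,6,6,6,7], [1,3,4,5,6,6,8], [1,2,3,4,7,8], [0,1,4,5,6,6,6], [1,6,6], [5,6,6,6,7,8], [1,5,6,6,6,7,8], [6,6], [0,1,2,3,4,6,6], [0,2,3,4,5,6,6,6,7,8], [0,1,3,4,5,6,6,6,7], [2,5,6,6,8], [1,2,3,4,5,6,6,6,7], [0,5,6,6,8], [0,2,3,4,5,7,8], [4,6,6,6], [0,3,4,5,6,6,7,8], [0,3,5,6], [5,6,6,7,8], [4,5,6], [2,4,5,6,6,7,8], [2,5,6], [3,5,6], [3,4,5,6,6,7,8],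 [2,3,4,5,7,8], [0,4,6,6,6], [3,6,6,6], [0,2,5,7,8], [0,3,5,7,8], [2,6,6,6], [0,3,6,6,6], [2,5,7,8], [0,4,5,6], [0,5,6,6,7,8], [0,1,2,3,4,7,8], [1,4,5,6,6,6], [1,2,6,6,7,8], [1,2,4,6], [0,2,3,4,6,6,7], [4,5,6,8], [0,2,3,4,6], [0,2,3,6,6,7,8], [1,4,6,6,6,7], [0,2,3,6,6,8], [0,1,2,3,4,6,6,7,8], [0,1,2,3,6], [0,1,3,5,6,6,6], [1,2,7,8], [0,2,3,4,5,7], [0,2,3,5,6,6,6,8], [0,3,4,5,6,6,6], [2,4,7,8], [0,1,3,4,5,7,8], [1,2,4,6,6,6], [0,1,2,3,5,6], [0,1,2,3,4,5,6,6,7,8], [0,1,3,6,6,6,7], [2,4,6,6,8], [0,1,4,6,6,6], [1,2,3,4,5,7,8], [2,3,4,5,6], [2,3,5,6,6,7,8], [0,2,4,5,6,6,8], [1,3,5,6,6,6,7], [0,1,2,5,6,6,7,8], [0,1,2,4,5,6], [1,2,3,6,6,6], [0,1,5,7,8], [2,3,4,6,6,6], [0,4,5,7,8], [3,5,6,6,8], [0,1,2,4,5,6,6,6,7], [1,3,4,5,6,6,7,8],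 [1,3,5,6], [0,1,3,5,6], [0,1,3,4,5,6,6,7,8], [0,5,7,8], [2,3,6,6,6], [1,4,6,6,6], [0,1,2,3,4,5,7,8], [1,3,4,5,7,8], [0,1,2,4,6,6,6], [1,3,5,6,6,6], [0,1,2,7,8], [2,5,6,6,7,8], [2,4,5,6], [1,2,3,4,5,6,6,7,8], [1,2,3,5,6], [0,1,2,4,6], [0,1,2,6,6,7,8], [5,6,6,6,7], [0,1,2,3,4,5,6,6,8], [1,2,3,4,6,6], [2,3,4,5,6,6,6,7,8], [0,3,4,5,6,6,6,7], [1,2,5,6,6,8], [0,2,3,4,5,6,6,6,7], [1,5,6,6,8], [2,5,6,6,6,7], [0,1,3,4,5,6,6,8], [2,3,4,5,6,6,6,7], [0,1,5,6,6,8], [3,4,5,6,6,6,7], [0,1,2,5,6,6,8], [0,6,6,7,8], [0,4,6], [0,2,3,5,6,6,6], [7,8], [0,2,3,4,6,6,6], [4,5,7,8], [0,1,2,3,6,6,6], [1,5,7,8], [0,2,3,5,6,6,7,8], [0,2,3,4,5,6], [1,2,4,5,6], [1,2,5,6,6,7,8], [2,3,5,6,6,6], [0,7,8], [4,6], [6,6,7,8], [2,4,5,6,7], [1,2,4,8],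 [2,3,5,6,7], [1,2,3,8], [3,4,5,6], [3,5,6,6,7,8], [0,2,4,5,6,7], [0,1,2,4,8], [0,2,4,5,7,8], [3,4,6,6,6], [0,2,3,5,6,7], [0,1,2,3,8], [0,2,4], [1,3,6,7,8], [0,2,3], [1,4,6,7,8], [0,3,5,6,6,7,8], [0,3,4,5,6], [2,4,5,7,8], [0,3,4,6,6,6], [6,6,6], [0,2,3,5,7,8], [4,5,6,6,7,8], [5,6], [2,4], [0,1,3,6,7,8], [2,4,6,6,6,7], [0,1,3,6,6,8], [2,3,6,6,6,7], [0,1,4,6,6,8], [2,3], [0,1,4,6,7,8], [0,1,2,3,6,6,7], [1,5,6,8], [0,1,2,3,6,6,6,7], [4,6,6,8], [0,2,3,5,7], [0,2,3,4,5,6,6,6,8], [0,2,4,6,6,7], [3,4,5,6,8], [1,2,4,6,6,6,7], [0,3,6,6,8], [2,4,8], [1,2,4,5,6,7], [0,2,4,8], [0,1,2,4,5,6,7], [0,2,3,8], [0,1,2,3,5,6,7], [2,3,8], [1,2,3,5,6,7], [0,6,6,6], [2,3,5,7,8], [0,5,6], [0,4,5,6,6,7,8], [4,6,6], [1,4,5,6,6,6,7,8], [0,1,2,4,5,7],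 [0,1,2,5,6,6,6,8], [1,2,4,5,7], [1,2,5,6,6,6,8], [0,2,4,6,6,6,7], [1,3,6,6,8], [0,3,5,6,6,6,7,8], [0,1,3,6,6], [0,2,3,6,6,6,7], [1,4,6,6,8], [2,3,6,6], [1,2,3,5,6,6,6,7,8], [0,1,5,6,8], [1,2,3,6,6,7], [2,4,5,6,6,6,7,8], [1,2,4,6,6], [1,2,3,6,6,6,7], [0,4,6,6,8], [0,3,6,6], [0,1,3,5,6,6,6,7,8], [2,3,5,7], [2,3,4,5,6,6,6,8], [0,1,4,5,6,6,7,8], [0,1,5,6], [0,3,4,5,6,8], [2,4,6,6,7], [0,1,2,4,6,6,6,7], [3,6,6,8], [0,2,4,6,6], [0,1,2,4,5,6,6,6,7,8], [0,1,2,3,5,7,8], [1,6,6,6], [0,1,3,4,6,6,6], [1,2,4,5,7,8], [1,3,5,6,6,7,8], [1,3,4,5,6], [0,4,6,6], [0,1,4,5,6,6,6,7,8], [0,2,3,5,6,6,6,7,8], [0,1,2,3,6,6], [1,3,6,6,6,8], [1,3,4,7], [3,5,6,6,6,7,8], [1,3,6,6], [1,4,6,6,6,8], [1,7], [1,2,4], [0,3,6,7,8], [0,2,3,6,6], [0,1,2,3,5,6,6,6,7,8],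 [4,5,6,6,6,7,8], [1,4,6,6], [1,4,6,8], [0,1,2,3,4,5,6,6,7], [0,2,4,5,6,6,6,7,8], [0,1,2,4,6,6], [0,1,2,5,6,6,7], [1,3,6,8], [1,2,3,5,7,8], [0,1,6,6,6], [3,6,6], [1,3,5,6,6,6,7,8], [0,1,2,3], [4,6,7,8], [0,4,6,6,6,8], [0,7], [1,5,6], [1,4,5,6,6,7,8], [2,4,6,6], [1,2,4,5,6,6,6,7,8], [3,6,8], [0,2,5,6,6,7], [1,3,4,6,6,6], [0,1,2,4,5,7,8], [0,1,3,4,5,6], [0,1,3,5,6,6,7,8], [2,3,5,6,6,6,7,8], [1,2,3,6,6], [0,2,3,4,5,6,6,7], [4,6,8], [0,1,3,6,6,6,8], [0,1,3,4,7], [0,1,3,6,8], [1,2,5,6,6,7], [0,1,4,6,6,6,8], [0,1,7], [0,1,2,4], [3,6,7,8], [0,4,5,6,6,6,7,8], [0,1,4,6,6], [1,2,3,4,5,6,6,7], [0,1,4,6,8], [0,3,6,6,6,8], [0,3,4,7], [4,6,6,6,8], [7], [1,2,3], [0,4,6,7,8], [3,6,6,6,8], [3,4,7], [0,2,4,5,7], [0,2,5,6,6,6,8], [5,6,8],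 [0,2,3,6,6,7], [0,4,6,8], [2,3,4,5,6,6,7], [2,5,6,6,7], [0,3,6,8], [1,3,4,5,6,8], [0,1,2,4,6,6,7], [1,2,3,5,7], [1,2,3,4,5,6,6,6,8], [2,4,5,7], [2,5,6,6,6,8], [2,3,6,6,7], [0,5,6,8], [1,2,4,6,6,7], [0,1,3,4,5,6,8], [0,1,2,3,5,7], [0,1,2,3,4,5,6,6,6,8], [0,1,2,3,4], [6,7,8], [0,1,2,3,4,6,6,8], [6,6,6,7], [1,2,5,8], [2,6,7], [1,2,6,6,8], [0,3,4,6,6,6,7], [1,3,7,8], [0,1,2,5,6,6,6], [1,2,3,4], [0,6,7,8], [1,5,8], [6,7], [0,3,4,6], [0,3,6,6,7,8], [2], [0,1,3,4,6,7,8], [1,2,3,4,6,6,8], [0,6,6,6,7], [0,1,5,8], [0,6,7], [0,1,3,4,6,7], [0,3,4,5,8], [0,1,2,5,8], [0,2,6,7], [0,1,2,6,6,8], [3,4,6,6,6,7], [0,1,6], [0,1,4,6,6,7,8], [1,4,6,6,7,8], [1,6], [0,1,3,7,8], [1,2,5,6,6,6], [0,4,5,6,7], [0,1,4,8], [1,2,3,4,6,7], [2,3,4,5,8],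 [4,7,8], [0,2,3,4,5,6,6,6], [3,6,6,7,8], [3,4,6], [0,3,5,6,7], [0,1,3,8], [0,2], [1,3,4,6,7,8], [0,1,2,3,4,6,7], [0,2,3,4,5,8], [1,3,4,6,7], [3,4,5,8], [0,4,8], [0,1,4,5,6,7], [4,5,6,7], [1,4,8], [3,8], [1,3,5,6,7], [3,5,6,7], [1,3,8], [0,4,7,8], [2,3,4,5,6,6,6], [1,2,3,4,5,8], [2,3,4,6,7], [1,2,6,7], [2,5,8], [0,1,6,7], [0,5,8], [0,2,5,6,6,6], [3,7,8], [0,4,6,6,7,8], [0,6], [1,2,3,4,5,6,6,6], [0,1,4,7,8], [0,1,3,6,6,7,8], [0,1,3,4,6], [0,1,2,6,7], [0,2,5,8], [0,1,3,4,5,8], [0,3,4,6,7], [1,3,4,5,8], [3,4,6,7], [0,3,8], [0,1,3,5,6,7], [4,8], [1,4,5,6,7], [1,6,7], [5,8], [0,1,2,3,4,5,8], [0,2,3,4,6,7], [2,3,4], [0,1,6,7,8], [0,2,6,6,8], [1,3,4,6,6,6,7], [2,6,6,8], [0,1,3,4,6,6,6,7], [0,2,3,4,6,6,8], [1,6,6,6,7], [2,3,4,6,6,8],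 [0,1,6,6,6,7], [2,5,6,6,6], [0,3,7,8], [6], [4,6,6,7,8], [0,1,2,3,4,5,6,6,6], [1,4,7,8], [1,3,4,6], [1,3,6,6,7,8], [0,1,2], [3,4,6,7,8], [1,2], [0,3,4,6,7,8], [0,2,3,4], [1,6,7,8], [0,1,3,5,6,6], [0,3,6,6,6,7,8], [1,4,5,6,6], [4,6,6,6,7,8], [1,3,5,6,6], [3,6,6,6,7,8], [0,1,4,5,6,6], [0,4,6,6,6,7,8], [1,2,6,8], [0,1,3,5,6,6,7], [1,2,4,7], [1,2,6,6,6,8], [0,2,6,8], [3,5,6,6,7], [1,3,5,6,6,7], [0,1,2,6,8], [0,2,3,7], [0,2,3,4,6,6,6,8], [2,4,7], [2,6,6,6,8], [0,1,2,4,7], [0,1,2,6,6,6,8], [2,3,4,6,8], [0,4,5,6,6,7], [1,4,6,6,6,7,8], [4,5,6,6], [0,3,5,6,6,7], [2,6,8], [0,1,2,3,7], [0,1,2,3,4,6,6,6,8], [1,3,6,6,6,7,8], [3,5,6,6], [0,1,3,6,6,6,7,8], [0,3,5,6,6], [1,2,3,7], [1,2,3,4,6,6,6,8], [2,3,7], [2,3,4,6,6,6,8], [4,5,6,6,7],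 [0,2,3,4,6,8], [0,1,4,5,6,6,7], [1,2,3,4,6,8], [0,2,4,7], [0,2,6,6,6,8], [0,1,2,3,4,6,8], [1,4,5,6,6,7], [0,1,4,6,6,6,7,8], [0,4,5,6,6]]

set_option maxRecDepth 100000 in
theorem words2_inc : isStrictInc (words2.map fun l => sigW (l.map fun i => gT2.getD i HeOut.Tid)) = true := by
  decide +kernel

set_option maxRecDepth 100000 in
theorem words2_length : words2.length = 1024 := by decide +kernel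

/-- coded generators -/
def gT3 : List ℕ := [Ux, Uy, Uw]

/-- generators -/
noncomputable def gG3 : List HeG := [x, y, w]

theorem gRep3 : List.Forall₂ RepG gT3 gG3 :=
  (List.Forall₂.cons rep_x (List.Forall₂.cons rep_y (List.Forall₂.cons rep_w List.Forall₂.nil)))

/-- normal form words, ordered by signature -/
def words3 : List (List ℕ) := [[], [0,1,1], [0,0,1,1], [0,1], [0,0,1], [1,2,2], [0,0,1,2], [2,2], [0,1,1,2,2], [0,1,1,2], [0,0,1,2,2], [0,0,1,1,2,2], [0,0,2], [2], [0,0,2,2], [0], [0,2], [1,2], [0,2,2], [1,1], [1,1,2,2], [1], [0,1,2,2], [0,0,1,1,2], [0,1,2], [0,0], [1,1,2]]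

set_option maxRecDepth 100000 in
theorem words3_inc : isStrictInc (words3.map fun l => sigW (l.map fun i => gT3.getD i HeOut.Tid)) = true := by
  decide +kernel

set_option maxRecDepth 100000 in
theorem words3_length : words3.length = 27 := by decide +kernel

/-- coded generators -/
def gT5 : List ℕ := [Ux5, Uy5]

/-- generators -/
noncomputable def gG5 : List HeG := [x5, y5]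

theorem gRep5 : List.Forall₂ RepG gT5 gG5 :=
  (List.Forall₂.cons rep_x5 (List.Forall₂.cons rep_y5 List.Forall₂.nil))

/-- normal form words, ordered by signature -/
def words5 : List (List ℕ) := [[], [0,1,1,1], [0,0,0,1,1], [0,0,0,1,1,1], [0,0,1,1,1], [0,1,1], [0,0,0,0], [0,0,0,0,1], [0,0,1], [1,1], [0,1,1,1,1], [0,0,0], [0,0,0,0,1,1,1,1], [1,1,1], [0,0,0,1], [0], [0,0,0,0,1,1], [0,0], [0,1], [1], [0,0,0,1,1,1,1], [0,0,0,0,1,1,1], [1,1,1,1], [0,0,1,1], [0,0,1,1,1,1]]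

set_option maxRecDepth 100000 in
theorem words5_inc : isStrictInc (words5.map fun l => sigW (l.map fun i => gT5.getD i HeOut.Tid)) = true := by
  decide +kernel

set_option maxRecDepth 100000 in
theorem words5_length : words5.length = 25 := by decide +kernel

/-- coded generators -/
def gT7 : List ℕ := [Ux7, Uy7, Uw7]

/-- generators -/
noncomputable def gG7 : List HeG := [x7, y7, w7]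

theorem gRep7 : List.Forall₂ RepG gT7 gG7 :=
  (List.Forall₂.cons rep_x7 (List.Forall₂.cons rep_y7 (List.Forall₂.cons rep_w7 List.Forall₂.nil)))

/-- normal form words, ordered by signature -/
def words7 : List (List ℕ) := [[], [0,0,0,0,0,1,1,1,1,2,2,2], [0,1,1,1,1,1,1,2,2,2,2,2,2], [0,0,0,0,0,0,1,1,1,1,1,2,2,2,2,2,2], [0,0,0,0,0,0,1,1,2,2,2], [0,0,0,0,0,1,1,1,1,1,1,2], [0,0,0,0,0,1,1,1,1,1,1,2,2,2,2], [0,1,1,2], [0,1,1,1,1,2,2,2,2,2,2], [0,0,0,0,0,0,1,2], [0,1,1,2,2,2,2,2], [0,1,1,1,2], [0,1,1,1,1,1,1,2,2,2,2,2], [0,0,0,1,1,2], [0,0,0,0,0,1,1,1,1,1,2], [0,0,0,0,2,2,2,2,2], [0,0,1,1,1,1,1,1], [0,0,0,0,0,0,1,1,1,2], [1,1,1,1], [0,0,0,2,2], [0,0,0,0,0,1,1,1,2,2,2,2], [0,0,0,1,1,1,1,1,2,2], [0,0,1,1,1,1,2,2,2,2,2],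 [1,1,1,1,2,2,2], [0,0,0,0,1,1,2,2,2,2,2], [0,1,1,2,2,2], [0,0,0,0,0,0,1,1,1,1,1,2,2,2,2,2], [0,0,0,0,0,0,2,2,2], [0,0,0,0,0,1,1,1,1,2,2,2,2,2,2], [0,0,1,1,1,1,1,1,2,2,2,2,2], [0,0,0,0,0,0,1,1,1,2,2,2,2], [0,0,0,0,0,0,1,1,2,2,2,2], [0,0,0,1,1,1,1,1,2,2,2,2,2], [0,0,0,0,0,0,1,1,1,1,1,2,2], [0,0,0,0,1,1,1,1,1,2,2,2,2,2,2], [0,0,0,0,1,2,2,2,2,2], [0,0,0,1,1,1], [0,0,0,0,0,1,1,1,1], [1,1,1,1,1,2,2,2,2,2,2], [0,0,0,0,0,0,1,1,1,1,2,2,2], [0,1,1,1,1,1,1,2], [0,0,1,1], [0,0,0,0,0,1,1,1,1,1,2,2], [0,0,0,0,1,1,1,1,1,1], [0,0,0,1,1,1,1,2], [0,0,0,0,0,0,1,1,1,1,2,2], [0,0,0,0,1,1,2,2,2], [1,2,2,2], [0,0,0,1,1,1,2,2], [0,0,0,0,0,0,2,2,2,2], [0,1,1], [0,0,0,0,1,1,1,1,1,2,2,2,2], [0,0,0,0,0,2,2,2,2], [0,1,1,1,1], [0,0,0,0,1,1,1,1],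 [0,1,1,1,2,2,2,2], [0,0,0,1,1,1,1,2,2,2], [0,1,1,1,1,1,1,2,2,2], [0,0,0,0,0,1,1,1,1,1,1], [1,1,1], [0,0,1,1,1,1,2,2,2,2,2,2], [0,0,0,0,0,1,1,2,2,2,2,2,2], [0,0,0,0,2,2,2,2], [0,0,0,0,0,1,1,1,1,1,1,2,2], [1,1,1,1,2,2], [0,0,0,1,1,1,1,1,1,2], [0,0,0,0,0,0,1,1,2], [1,1,2,2], [0,0,0,0,0,1,1,1,1,1,2,2,2], [0,0,1,1,1,1,1,1,2,2,2], [0,0,0,0,1,1,1,2,2], [0,0,0,1,1,1,1,1,1], [0,0,0,1], [0,0,0,0,0,0,1,1,1,1,1,2,2,2,2], [0,0,0,0,1,1,1,1,1,2,2], [0,0,0,0,1,1,1,1,1,1,2,2,2], [0,1,1,1,2,2], [1,1,1,1,1,2,2,2], [0,0,0,0,0,2,2,2], [0,1,1,1,2,2,2], [0,0,0,0,1,1,1,1,1,1,2,2], [0,0,0,0,0,2,2], [0,0,2,2,2,2,2], [0,0,1,1,1,2,2,2,2], [0,0,0,0,1,1,2], [0,0,0,0,0,1,1,1,1,2,2], [0,0,0,2,2,2], [0,0,1,2], [0,0,0,1,1,1,2], [0,2,2,2,2], [0,0,1,1,1,2],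 [0,0,0,0,0,1,1,1,2,2], [0,0,0,0,1,1,1,1,1,1,2,2,2,2,2,2], [0,0,1,1,1,1,1,2,2,2,2], [0,0,0,0,1,1,1,1,2,2,2,2], [0,0,1,2,2,2], [0,1,1,1,1,1,2,2,2,2,2,2], [0,0,0,0,0,0,1,1,1,1,1], [0,0,0,1,1,2,2,2,2,2,2], [0,0,0,0,0,1,1,1,2], [0,0,0], [0,0,0,1,1,1,2,2,2,2,2], [0,1,1,1,2,2,2,2,2], [2,2,2,2,2], [0,0,0,0,2,2,2,2,2,2], [0,0,0,0,1,1,1,2,2,2,2], [0,1,1,1,1,2,2,2], [0,0,0,0,0,1,2], [0,0,0,0,0,0,1,2,2], [1,1,1,1,1,1,2,2,2,2,2,2], [2,2], [0,2,2], [0,0,0,0,0,0], [0,0,0,0,0,0,1,1,1,1,1,1,2], [0,0,0,0,0], [1,2,2,2,2], [0,0,0,0,0,0,1,1,1,1,2,2,2,2,2,2], [0,0,0,0,1,2,2,2], [0,0,0,1,1,1,1,2,2,2,2], [0,0,0,0,0,0,1,1,2,2,2,2,2,2], [0,0,0,0,1], [0,0,0,2,2,2,2,2], [0,0,0,0,0,1,2,2,2], [0,0,0,0,0,1,1,1,1,1,1,2,2,2], [1,1,2,2,2,2,2], [0,0,0,0,0,1,1,1,1,2,2,2,2,2],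 [0,1], [0,0,0,1,1,1,1,1,2,2,2], [0,0,0,0,0,0,2,2], [0,0,0,1,2], [0,0,0,1,2,2,2,2], [0], [0,0,0,0,1,1,2,2,2,2,2,2], [1,1,1,1,1,1,2,2,2,2], [1,1,2,2,2,2,2,2], [1,1,1,1,2,2,2,2,2,2], [0,0,0,0,0,1,1,1], [0,0,0,2,2,2,2,2,2], [0,0,1,1,1,1,1,2,2], [0,0,0,0,1,1,1,1,1], [0,0,0,0,1,1,1,1,1,2,2,2], [0,0,0,1,1,1,1,2,2], [0,0,0,1,1,1,1,1,1,2,2,2,2,2,2], [0,0,0,0,0,2,2,2,2,2,2], [0,0,0,0,0,1,2,2,2,2,2,2], [0,1,1,1,1,2,2,2,2,2], [0,1,1,1,1,1,2,2,2,2,2], [1,1,1,1,1,1,2,2], [0,1,1,1,1,1,2,2,2], [1,2,2], [0,0,0,0,0,0,1,1,1,1,2], [0,0,1,1,1,1,1,1,2], [0,0,1,1,2,2], [0,0,0,0,0,1,1,1,1,1,1,2,2,2,2,2,2], [0,0,0,0,1,1,1,2], [0,0,0,0,0,0,1,1,1,2,2,2,2,2], [0,1,2,2], [0,0,0,0,0,1,1,1,1,1], [1,1,1,1,2,2,2,2,2], [0,0,0,1,1,1,1,1,2,2,2,2],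 [0,0,0,1,2,2,2], [0,0,0,0,0,0,1,1,1,1], [0,0,0,0,0,1,1], [1,1,2,2,2], [0,0,0,1,1,1,2,2,2,2], [1,1,1,1,1,1,2,2,2,2,2], [0,1,1,1,1,1,2,2,2,2], [0,0,0,0,1,1,1,1,1,2,2,2,2,2], [0,0,0,0,0,0,1,1], [0,0,0,0,1,1,1,2,2,2,2,2], [0,0,1,1,2,2,2], [0,0,0,2,2,2,2], [0,1,1,1,1,2,2], [0,0,1,1,1,2,2,2], [1,1,1,1,1], [0,0,0,0,0,1,1,1,2,2,2,2,2], [0,0,2,2,2,2,2,2], [0,0,1,2,2,2,2,2,2], [0,0,0,0,0,0,2], [2,2,2], [0,0,0,1,1,1,1,1,2,2,2,2,2,2], [0,0,0,1,1,1,1], [0,0,0,0,0,1,1,1,1,1,2,2,2,2], [0,0,0,1,1,1,1,1,2], [0,0,0,0,0,0,1,1,1,1,2,2,2,2], [0,0,0,0,0,0,1,1,1,2,2], [0,0,1,2,2,2,2,2], [0,0,0,0,0,0,1,1,1,1,1,1,2,2,2,2,2,2], [0,0,0,0,0,2], [0,0,1,1,1,2,2], [0,0,0,0,0,0,1,1,1,1,1,2,2,2], [0,0,1,1,1,1,1], [0,0,0,1,1,1,1,1,1,2,2], [0,1,2,2,2,2,2,2],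 [1,1,1,1,1,1,2,2,2], [0,0,0,0,0,0,1,1,1], [0,0,0,1,2,2,2,2,2,2], [0,0,0,0,2,2,2], [1,2,2,2,2,2,2], [1,1,1,1,1,2,2,2,2,2], [0,0,0,0,0,1,1,2], [0,0,2,2,2,2], [0,0,0,0,0,0,1,1,1,1,2,2,2,2,2], [0,0,0,0,0,0,1], [0,0,0,0,0,2,2,2,2,2], [0,0,2,2,2], [1,1,1,1,1,2,2], [0,0,1,1,1,1,2,2,2,2], [0,0,0,0,0,1,1,2,2], [0,1,1,1,1,2,2,2,2], [0,0,1,1,1,1,2,2,2], [0,0,0,1,2,2], [1,2,2,2,2,2], [0,0,0,1,1,1,1,1], [1,1,1,2,2,2], [0,0,0,0,0,0,1,2,2,2,2,2,2], [1,1,2,2,2,2], [0,0,2,2], [0,0,0,0,1,1,1,1,2,2], [0,0,1,1,1,2,2,2,2,2], [0,0,0,0,0,0,1,1,2,2], [0,0,1,1,2,2,2,2,2,2], [0,0,0,0,1,2], [0,0,0,0,1,1,1,2,2,2], [2,2,2,2,2,2], [0,1,2,2,2], [0,0], [1,1,1,2,2,2,2], [0,0,0,0,0,0,1,1,1,1,1,1,2,2,2], [0,0,0,0,0,1,1,1,1,2,2,2,2], [0,0,0,1,1,2,2,2],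 [0,1,1,1,1,1], [0,0,0,0,0,1,1,1,1,1,2,2,2,2,2,2], [1,1,2], [1,1,1,2,2,2,2,2,2], [2], [0,0,0,0,1,1,1,2,2,2,2,2,2], [0,0,0,1,1,1,1,1,1,2,2,2,2,2], [0,0,1,1,2,2,2,2], [0,0,0,0,1,1,1,1,2,2,2,2,2,2], [0,0,0,1,1,1,1,2,2,2,2,2,2], [0,0,0,0,1,1,1,1,1,1,2,2,2,2,2], [0,0,0,0,0,1,1,2,2,2,2,2], [0,0,0,0,1,1,1,1,1,1,2], [0,0,0,0,0,0,1,1,1,1,1,1,2,2,2,2,2], [0,0,0,1,1,2,2,2,2], [1,1,1,1,1,1,2], [1,2], [0,0,1,1,1,1,1,1,2,2,2,2], [1,1,1,2,2], [0,2,2,2,2,2,2], [0,2,2,2,2,2], [0,0,0,0,1,1,1,1,1,1,2,2,2,2], [0,1,2,2,2,2], [0,0,1,1,1,1,1,2,2,2,2,2,2], [0,0,0,0,0,0,1,2,2,2,2,2], [0,0,0,0,0,0,2,2,2,2,2], [0,0,0,0,1,1,1,1,2], [0,0,1,1,2,2,2,2,2], [0,1,1,2,2,2,2], [0,0,1,1,1,1], [0,1,1,1,2,2,2,2,2,2], [0,0,0,0,0,0,1,2,2,2,2], [0,1,2,2,2,2,2],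 [0,0,0,0,0,0,1,1,1,1,1,1,2,2], [0,0,0,0,1,2,2,2,2], [0,0,0,1,1,1,1,2,2,2,2,2], [0,0,0,0,0,1,1,2,2,2,2], [0,0,1,1,2], [1,1,1,1,1,2], [0,0,0,1,1,2,2,2,2,2], [0,0,0,0,0,0,2,2,2,2,2,2], [0,2], [0,0,0,1,1,1,2,2,2,2,2,2], [0,0,0,0,1,1,1,1,1,2], [0,0,0,1,1,1,1,1,1,2,2,2,2], [0,1,1,1,1,1,2], [0,0,0,0,0,1,1,1,1,1,1,2,2,2,2,2], [0,0,0,1,1,2,2], [0,0,1,1,1,1,1,2], [0,0,1,1,1,1,2], [0,0,0,0,0,0,1,1,2,2,2,2,2], [0,1,1,1,1,2], [0,0,1,1,1,1,1,2,2,2,2,2], [0,0,0,0,2], [0,0,0,0,0,1,1,1,1,1,2,2,2,2,2], [0,0,0,0,0,1,2,2,2,2], [0,0,0,0,0,1,2,2,2,2,2], [0,0,0,0,0,1,2,2], [0,0,0,1,2,2,2,2,2], [1,1,1,1,2], [0,0,0,0], [0,1,2], [1,1,1,2], [0,0,2], [0,0,0,0,1,1,1,1,2,2,2,2,2], [0,0,0,0,0,1,1,1,2,2,2,2,2,2], [1,1,1,2,2,2,2,2], [0,0,1,1,1,2,2,2,2,2,2],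 [0,0,0,0,0,0,1,1,1,2,2,2,2,2,2], [0,0,0,0,0,0,1,1,1,1,1,1,2,2,2,2], [0,0,1,2,2], [1,1,1,1,1,2,2,2,2], [0,1,1,2,2,2,2,2,2], [2,2,2,2], [1,1,1,1,2,2,2,2], [0,1,1,1,1,1,2,2], [0,0,0,0,2,2], [0,0,0,0,0,1,1,2,2,2], [0,0,0,0,0,1,1,1,2,2,2], [0,0,0,0,0,0,1,2,2,2], [0,0,0,0,1,1,2,2], [0,0,0,0,1,2,2,2,2,2,2], [0,0,0,1,1,1,2,2,2], [0,0,1,1,1,1,2,2], [0,0,1,1,1,1,1,1,2,2], [0,1,1,2,2], [0,1,1,1,1,1,1,2,2], [0,0,0,0,1,2,2], [0,0,0,0,0,0,1,1,1,2,2,2], [0,0,0,1,1,1,1,1,1,2,2,2], [0,0,1,1,1,1,1,1,2,2,2,2,2,2], [1,1], [0,0,0,0,1,1,2,2,2,2], [0,0,0,0,0,1,1,1,1,2], [0,1,1,1,1,1,1,2,2,2,2], [0,0,0,0,0,0,1,1,1,1,1,2], [0,0,0,1,1], [0,0,0,0,0,1], [0,0,1,1,1], [0,2,2,2], [0,0,0,2], [0,0,0,0,1,1,1], [0,0,0,0,1,1], [1,1,1,1,1,1], [0,0,1,2,2,2,2],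 [1], [0,0,0,0,1,1,1,1,2,2,2], [0,1,1,1,1,1,1], [0,1,1,1], [0,0,0,0,0,0,1,1,1,1,1,1], [0,0,1], [0,0,1,1,1,1,1,2,2,2]]

set_option maxRecDepth 100000 in
theorem words7_inc : isStrictInc (words7.map fun l => sigW (l.map fun i => gT7.getD i HeOut.Tid)) = true := by
  decide +kernel

set_option maxRecDepth 100000 in
theorem words7_length : words7.length = 343 := by decide +kernel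

end Cfsg.Agent.Lib.Helper5.HeM
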