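import Mathlib
import Cfsg.Agent.Lib.Helper5.HeMW
import Cfsg.Agent.Lib.Helper5.StemF
import Cfsg.Agent.Lib.Helper5.StemT
import Cfsg.Agent.Lib.helper3.StemTools2

set_option autoImplicit false

/-! The Sylow subgroups of the Held group: generators, normalisers and orders. -/

namespace Cfsg.Agent.Lib.Helper5.HeM

open Cfsg Cfsg.Agent.Lib.helper17 Cfsg.Agent.Lib.Helper5.Stem
open Subgroup

theorem card_HeG : Nat.card HeG = 4030387200 := HeOut.card_he

/-- the generators of the elementary abelian group of order sixty-four -/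
def SE : Set HeG := {e1, e2, e3, e4, e5, e6}

theorem mem_SE {a : HeG} (ha : a ∈ SE) :
    a = e1 ∨ a = e2 ∨ a = e3 ∨ a = e4 ∨ a = e5 ∨ a = e6 := by
  simpa [SE] using ha

theorem e1_mem : e1 ∈ closure SE := subset_closure (by simp [SE])
theorem e2_mem : e2 ∈ closure SE := subset_closure (by simp [SE])
theorem e3_mem : e3 ∈ closure SE := subset_closure (by simp [SE])
theorem e4_mem : e4 ∈ closure SE := subset_closure (by simp [SE])
theorem e5_mem : e5 ∈ closure SE := subset_closure (by simp [SE])
theorem e6_mem : e6 ∈ closure SE := subset_closure (by simp [SE])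

theorem SE_sq : ∀ a ∈ SE, a * a = 1 := by
  intro a ha
  rcases mem_SE ha with rfl | rfl | rfl | rfl | rfl | rfl
  · exact e1_sq
  · exact e2_sq
  · exact e3_sq
  · exact e4_sq
  · exact e5_sq
  · exact e6_sq

theorem SE_comm : ∀ a ∈ SE, ∀ b ∈ SE, a * b = b * a := by
  intro a ha b hb
  rcases mem_SE ha with rfl | rfl | rfl | rfl | rfl | rfl <;>
    rcases mem_SE hb with rfl | rfl | rfl | rfl | rfl | rfl
  · rfl
  · exact e12_comm
  · exact e13_comm
  · exact e14_comm
  · exact e15_comm
  · exact e16_comm
  · exact e12_comm.symm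
  · rfl
  · exact e23_comm
  · exact e24_comm
  · exact e25_comm
  · exact e26_comm
  · exact e13_comm.symm
  · exact e23_comm.symm
  · rfl
  · exact e34_comm
  · exact e35_comm
  · exact e36_comm
  · exact e14_comm.symm
  · exact e24_comm.symm
  · exact e34_comm.symm
  · rfl
  · exact e45_comm
  · exact e46_comm
  · exact e15_comm.symm
  · exact e25_comm.symm
  · exact e35_comm.symm
  · exact e45_comm.symm
  · rfl
  · exact e56_comm
  · exact e16_comm.symm
  · exact e26_comm.symm
  · exact e36_comm.symm
  · exact e46_comm.symm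
  · exact e56_comm.symm
  · rfl

theorem k_inv : k⁻¹ = k * k := by
  rw [inv_eq_iff_mul_eq_one]
  rw [← k_cube]; group

theorem conj_of_mul {a b c : HeG} (h : a * b = c * a) : a * b * a⁻¹ = c := by
  rw [h]; group

theorem k_SE : ∀ a ∈ SE, k * a * k⁻¹ ∈ closure SE := by
  intro a ha
  rcases mem_SE ha with rfl | rfl | rfl | rfl | rfl | rfl
  · rw [conj_of_mul k_e1]
    all_goals repeat (first | exact e1_mem | exact e2_mem | exact e3_mem | exact e4_mem | exact e5_mem | exact e6_mem | apply mul_mem)
  · rw [conj_of_mul k_e2]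
    all_goals repeat (first | exact e1_mem | exact e2_mem | exact e3_mem | exact e4_mem | exact e5_mem | exact e6_mem | apply mul_mem)
  · rw [conj_of_mul k_e3]
    all_goals repeat (first | exact e1_mem | exact e2_mem | exact e3_mem | exact e4_mem | exact e5_mem | exact e6_mem | apply mul_mem)
  · rw [conj_of_mul k_e4]
    all_goals repeat (first | exact e1_mem | exact e2_mem | exact e3_mem | exact e4_mem | exact e5_mem | exact e6_mem | apply mul_mem)
  · rw [conj_of_mul k_e5]
    all_goals repeat (first | exact e1_mem | exact e2_mem | exact e3_mem | exact e4_mem | exact e5_mem | exact e6_mem | apply mul_mem)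
  · rw [conj_of_mul k_e6]
    all_goals repeat (first | exact e1_mem | exact e2_mem | exact e3_mem | exact e4_mem | exact e5_mem | exact e6_mem | apply mul_mem)

theorem r_SE : ∀ a ∈ SE, r * a * r⁻¹ ∈ closure SE := by
  intro a ha
  rcases mem_SE ha with rfl | rfl | rfl | rfl | rfl | rfl
  · rw [conj_of_mul r_e1]
    all_goals repeat (first | exact e1_mem | exact e2_mem | exact e3_mem | exact e4_mem | exact e5_mem | exact e6_mem | apply mul_mem)
  · rw [conj_of_mul r_e2]
    all_goals repeat (first | exact e1_mem | exact e2_mem | exact e3_mem | exact e4_mem | exact e5_mem | exact e6_mem | apply mul_mem)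
  · rw [conj_of_mul r_e3]
    all_goals repeat (first | exact e1_mem | exact e2_mem | exact e3_mem | exact e4_mem | exact e5_mem | exact e6_mem | apply mul_mem)
  · rw [conj_of_mul r_e4]
    all_goals repeat (first | exact e1_mem | exact e2_mem | exact e3_mem | exact e4_mem | exact e5_mem | exact e6_mem | apply mul_mem)
  · rw [conj_of_mul r_e5]
    all_goals repeat (first | exact e1_mem | exact e2_mem | exact e3_mem | exact e4_mem | exact e5_mem | exact e6_mem | apply mul_mem)
  · rw [conj_of_mul r_e6]
    all_goals repeat (first | exact e1_mem | exact e2_mem | exact e3_mem | exact e4_mem | exact e5_mem | exact e6_mem | apply mul_mem)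

theorem s_SE : ∀ a ∈ SE, s * a * s⁻¹ ∈ closure SE := by
  intro a ha
  rcases mem_SE ha with rfl | rfl | rfl | rfl | rfl | rfl
  · rw [conj_of_mul s_e1]
    all_goals repeat (first | exact e1_mem | exact e2_mem | exact e3_mem | exact e4_mem | exact e5_mem | exact e6_mem | apply mul_mem)
  · rw [conj_of_mul s_e2]
    all_goals repeat (first | exact e1_mem | exact e2_mem | exact e3_mem | exact e4_mem | exact e5_mem | exact e6_mem | apply mul_mem)
  · rw [conj_of_mul s_e3]
    all_goals repeat (first | exact e1_mem | exact e2_mem | exact e3_mem | exact e4_mem | exact e5_mem | exact e6_mem | apply mul_mem)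
  · rw [conj_of_mul s_e4]
    all_goals repeat (first | exact e1_mem | exact e2_mem | exact e3_mem | exact e4_mem | exact e5_mem | exact e6_mem | apply mul_mem)
  · rw [conj_of_mul s_e5]
    all_goals repeat (first | exact e1_mem | exact e2_mem | exact e3_mem | exact e4_mem | exact e5_mem | exact e6_mem | apply mul_mem)
  · rw [conj_of_mul s_e6]
    all_goals repeat (first | exact e1_mem | exact e2_mem | exact e3_mem | exact e4_mem | exact e5_mem | exact e6_mem | apply mul_mem)

theorem c_SE : ∀ a ∈ SE, c * a * c⁻¹ ∈ closure SE := by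
  intro a ha
  rcases mem_SE ha with rfl | rfl | rfl | rfl | rfl | rfl
  · rw [conj_of_mul c_e1]
    all_goals repeat (first | exact e1_mem | exact e2_mem | exact e3_mem | exact e4_mem | exact e5_mem | exact e6_mem | apply mul_mem)
  · rw [conj_of_mul c_e2]
    all_goals repeat (first | exact e1_mem | exact e2_mem | exact e3_mem | exact e4_mem | exact e5_mem | exact e6_mem | apply mul_mem)
  · rw [conj_of_mul c_e3]
    all_goals repeat (first | exact e1_mem | exact e2_mem | exact e3_mem | exact e4_mem | exact e5_mem | exact e6_mem | apply mul_mem)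
  · rw [conj_of_mul c_e4]
    all_goals repeat (first | exact e1_mem | exact e2_mem | exact e3_mem | exact e4_mem | exact e5_mem | exact e6_mem | apply mul_mem)
  · rw [conj_of_mul c_e5]
    all_goals repeat (first | exact e1_mem | exact e2_mem | exact e3_mem | exact e4_mem | exact e5_mem | exact e6_mem | apply mul_mem)
  · rw [conj_of_mul c_e6]
    all_goals repeat (first | exact e1_mem | exact e2_mem | exact e3_mem | exact e4_mem | exact e5_mem | exact e6_mem | apply mul_mem)

theorem k_nrm : ∀ a ∈ SE, nrm3 k a = 1 := by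
  intro a ha
  unfold nrm3
  rw [k_inv]
  rcases mem_SE ha with rfl | rfl | rfl | rfl | rfl | rfl
  · exact k_nrm1
  · exact k_nrm2
  · exact k_nrm3
  · exact k_nrm4
  · exact k_nrm5
  · exact k_nrm6

/-- the complement `D₈ × C₂` -/
def DD : Subgroup HeG := closure {c, r, s}

theorem DD_le_normalizer : DD ≤ normalizer ((closure SE : Subgroup HeG) : Set _) := by
  apply closure_le_normalizer_closure SE {c, r, s}
  intro d hd a ha
  rcases hd with rfl | rfl | rfl
  · exact c_SE a ha
  · exact r_SE a ha
  · exact s_SE a ha

theorem DD_SE : ∀ d ∈ DD, ∀ e ∈ closure SE, d * e * d⁻¹ ∈ closure SE :=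
  conj_mem_of_le_normalizer DD_le_normalizer

theorem DD_k : ∀ d ∈ DD, d⁻¹ * k * d = k ∨ d⁻¹ * k * d = k * k := by
  apply conj_k_closure k_cube
  intro d hd
  rcases hd with rfl | rfl | rfl
  · right; exact conj_of_mul c_k
  · left; exact conj_of_mul r_k
  · left; exact conj_of_mul s_k

theorem card_SE_le : Nat.card (closure SE) ≤ 64 := by
  have h6 : Nat.card (closure ({e6} : Set HeG)) ≤ 2 :=
    card_closure_singleton_invol_le e6_sq
  have h5 : Nat.card (closure ({e5, e6} : Set HeG)) ≤ 2 * 2 := by
    refine (card_closure_insert_invol_le e5_sq ?_).trans (Nat.mul_le_mul_left _ h6)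
    intro t ht
    rcases ht with rfl
    exact e56_comm
  have h4 : Nat.card (closure ({e4, e5, e6} : Set HeG)) ≤ 2 * (2 * 2) := by
    refine (card_closure_insert_invol_le e4_sq ?_).trans (Nat.mul_le_mul_left _ h5)
    intro t ht
    rcases ht with rfl | rfl
    · exact e45_comm
    · exact e46_comm
  have h3 : Nat.card (closure ({e3, e4, e5, e6} : Set HeG)) ≤ 2 * (2 * (2 * 2)) := by
    refine (card_closure_insert_invol_le e3_sq ?_).trans (Nat.mul_le_mul_left _ h4)
    intro t ht
    rcases ht with rfl | rfl | rfl
    · exact e34_comm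
    · exact e35_comm
    · exact e36_comm
  have h2 : Nat.card (closure ({e2, e3, e4, e5, e6} : Set HeG)) ≤
      2 * (2 * (2 * (2 * 2))) := by
    refine (card_closure_insert_invol_le e2_sq ?_).trans (Nat.mul_le_mul_left _ h3)
    intro t ht
    rcases ht with rfl | rfl | rfl | rfl
    · exact e23_comm
    · exact e24_comm
    · exact e25_comm
    · exact e26_comm
  have h1 : Nat.card (closure ({e1, e2, e3, e4, e5, e6} : Set HeG)) ≤
      2 * (2 * (2 * (2 * (2 * 2)))) := by
    refine (card_closure_insert_invol_le e1_sq ?_).trans (Nat.mul_le_mul_left _ h2)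
    intro t ht
    rcases ht with rfl | rfl | rfl | rfl | rfl
    · exact e12_comm
    · exact e13_comm
    · exact e14_comm
    · exact e15_comm
    · exact e16_comm
  exact h1

theorem card_rs_le : Nat.card (closure ({r, s} : Set HeG)) ≤ 8 := by
  have hrel : s * r * s⁻¹ = r ^ 3 := by
    rw [conj_of_mul s_r, pow_succ, pow_two]
  have h4 : r ^ 4 = 1 := by
    rw [← r_four, pow_succ, pow_succ, pow_two]
  have h2 : s ^ 2 = 1 := by rw [pow_two, s_sq]
  exact Cfsg.Agent.Lib.helper3.card_closure_pair_le hrel h4 (by norm_num) h2 (by norm_num)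

theorem card_DD_le : Nat.card DD ≤ 16 := by
  refine (card_closure_insert_invol_le c_sq ?_).trans (Nat.mul_le_mul_left _ card_rs_le)
  intro t ht
  rcases ht with rfl | rfl
  · exact c_r
  · exact c_s

/-- the Sylow `2`-subgroup -/
def PP : Subgroup HeG := closure SE ⊔ DD

theorem card_PP_le : Nat.card PP ≤ 1024 := by
  calc Nat.card PP ≤ Nat.card (closure SE) * Nat.card DD :=
        card_sup_le_of_le_normalizer DD_le_normalizer
    _ ≤ 64 * 16 := Nat.mul_le_mul card_SE_le card_DD_le



/-! ### lower bounds and indices -/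

theorem card_PP_ge : 1024 ≤ Nat.card PP := by
  have hE : closure SE ≤ PP := le_sup_left
  have hD : DD ≤ PP := le_sup_right
  have h := card_ge_of_words gT2 gG2 gRep2 PP ?_ words2 words2_inc
  · rwa [words2_length] at h
  · intro g hg
    simp only [gG2, List.mem_cons, List.not_mem_nil, or_false] at hg
    rcases hg with rfl | rfl | rfl | rfl | rfl | rfl | rfl | rfl | rfl
    · exact hE e1_mem
    · exact hE e2_mem
    · exact hE e3_mem
    · exact hE e4_mem
    · exact hE e5_mem
    · exact hE e6_mem
    · exact hD (subset_closure (by simp))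
    · exact hD (subset_closure (by simp))
    · exact hD (subset_closure (by simp))

theorem card_PP : Nat.card PP = 1024 := le_antisymm card_PP_le card_PP_ge

theorem PP_index : ¬ 2 ∣ PP.index := by
  have h1 := Subgroup.card_mul_index PP
  rw [card_PP, card_HeG] at h1
  have : PP.index = 3935925 := by omega
  rw [this]
  norm_num

end Cfsg.Agent.Lib.Helper5.HeM
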