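import Mathlib
import Cfsg.Agent.Lib.Helper5.HeMD

set_option autoImplicit false

/-! The Sylow subgroups of the Held group for the primes three, five and seven. -/

namespace Cfsg.Agent.Lib.Helper5.HeM

open Cfsg Cfsg.Agent.Lib.helper17 Cfsg.Agent.Lib.Helper5.Stem Cfsg.Agent.Lib.helper3
open Subgroup
open scoped commutatorElement

/-! ### the Sylow `3`-subgroup -/

/-- the Sylow `3`-subgroup -/
def S3 : Subgroup HeG := closure {x, y}

theorem x_mem3 : x ∈ S3 := subset_closure (by simp)
theorem y_mem3 : y ∈ S3 := subset_closure (by simp)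

theorem w_mem3 : w ∈ S3 := by
  rw [w_def]
  exact mul_mem (mul_mem (mul_mem x_mem3 y_mem3) (mul_mem x_mem3 x_mem3)) (mul_mem y_mem3 y_mem3)

theorem card_S3_ge : 27 ≤ Nat.card S3 := by
  have h := card_ge_of_words gT3 gG3 gRep3 S3 ?_ words3 words3_inc
  · rwa [words3_length] at h
  · intro g hg
    simp only [gG3, List.mem_cons, List.not_mem_nil, or_false] at hg
    rcases hg with rfl | rfl | rfl
    · exact x_mem3
    · exact y_mem3
    · exact w_mem3

theorem card_S3_le : Nat.card S3 ≤ 27 := by
  have hrel : w * x * w⁻¹ = x ^ 1 := by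
    rw [pow_one, conj_of_mul w_x]
  have hx3 : x ^ 3 = 1 := by rw [← x_cube, pow_succ, pow_two]
  have hw3 : w ^ 3 = 1 := by rw [← w_cube, pow_succ, pow_two]
  have hy3 : y ^ 3 = 1 := by rw [← y_cube, pow_succ, pow_two]
  have hN := card_closure_pair_le hrel hx3 (by norm_num) hw3 (by norm_num)
  have hxN : x ∈ closure ({x, w} : Set HeG) := subset_closure (by simp)
  have hwN : w ∈ closure ({x, w} : Set HeG) := subset_closure (by simp)
  have hyn : zpowers y ≤ normalizer ((closure ({x, w} : Set HeG) : Subgroup _) : Set _) := by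
    rw [zpowers_le]
    apply Subgroup.mem_normalizer_fintype
    apply conj_mem_closure_of_gens
    intro a ha
    rcases ha with rfl | rfl
    · have h : y * x = (w * w * x) * y := by rw [y_x]
      rw [conj_of_mul h]
      exact mul_mem (mul_mem hwN hwN) hxN
    · have h : y * w = w * y := w_y.symm
      rw [conj_of_mul h]
      exact hwN
  have hle : S3 ≤ closure ({x, w} : Set HeG) ⊔ zpowers y := by
    unfold S3
    rw [closure_le]
    intro g hg
    rcases hg with rfl | rfl
    · exact le_sup_left (a := closure ({x, w} : Set HeG)) hxN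
    · exact le_sup_right (a := closure ({x, w} : Set HeG)) (mem_zpowers y)
  have hz : Nat.card (zpowers y) ≤ 3 := by
    rw [Nat.card_zpowers]
    apply Nat.le_of_dvd (by norm_num)
    exact orderOf_dvd_of_pow_eq_one hy3
  calc Nat.card S3 ≤ Nat.card (closure ({x, w} : Set HeG) ⊔ zpowers y : Subgroup _) :=
        Subgroup.card_le_of_le hle
    _ ≤ Nat.card (closure ({x, w} : Set HeG)) * Nat.card (zpowers y) :=
        card_sup_le_of_le_normalizer hyn
    _ ≤ (3 * 3) * 3 := Nat.mul_le_mul hN hz

theorem card_S3 : Nat.card S3 = 27 := le_antisymm card_S3_le card_S3_ge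

theorem S3_index : ¬ 3 ∣ S3.index := by
  have h1 := Subgroup.card_mul_index S3
  rw [card_S3, card_HeG] at h1
  have : S3.index = 149273600 := by omega
  rw [this]
  norm_num

/-! ### the Sylow `5`-subgroup -/

/-- the Sylow `5`-subgroup -/
def S5 : Subgroup HeG := closure {x5, y5}

theorem card_S5_ge : 25 ≤ Nat.card S5 := by
  have h := card_ge_of_words gT5 gG5 gRep5 S5 ?_ words5 words5_inc
  · rwa [words5_length] at h
  · intro g hg
    simp only [gG5, List.mem_cons, List.not_mem_nil, or_false] at hg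
    rcases hg with rfl | rfl
    · exact subset_closure (by simp)
    · exact subset_closure (by simp)

theorem x5_pow' : x5 ^ 5 = 1 := by
  rw [← x5_pow]; simp only [pow_succ, pow_zero, one_mul]

theorem y5_pow' : y5 ^ 5 = 1 := by
  rw [← y5_pow]; simp only [pow_succ, pow_zero, one_mul]

theorem card_S5_le : Nat.card S5 ≤ 25 := by
  have hrel : y5 * x5 * y5⁻¹ = x5 ^ 1 := by
    rw [pow_one, conj_of_mul x5_y5.symm]
  exact card_closure_pair_le hrel x5_pow' (by norm_num) y5_pow' (by norm_num)

theorem card_S5 : Nat.card S5 = 25 := le_antisymm card_S5_le card_S5_ge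

theorem S5_index : ¬ 5 ∣ S5.index := by
  have h1 := Subgroup.card_mul_index S5
  rw [card_S5, card_HeG] at h1
  have : S5.index = 161215488 := by omega
  rw [this]
  norm_num

/-! ### the Sylow `7`-subgroup -/

/-- the Sylow `7`-subgroup -/
def S7 : Subgroup HeG := closure {x7, y7}

theorem x7_pow' : x7 ^ 7 = 1 := by
  rw [← x7_pow]; simp only [pow_succ, pow_zero, one_mul]

theorem y7_pow' : y7 ^ 7 = 1 := by
  rw [← y7_pow]; simp only [pow_succ, pow_zero, one_mul]

theorem w7_pow' : w7 ^ 7 = 1 := by
  rw [← w7_pow]; simp only [pow_succ, pow_zero, one_mul]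

theorem comm_x7y7 : ⁅x7, y7⁆ = w7 := by
  rw [commutatorElement_def]
  have h := w7_comm
  calc x7 * y7 * x7⁻¹ * y7⁻¹ = (x7 * y7) * x7⁻¹ * y7⁻¹ := by group
    _ = (w7 * y7 * x7) * x7⁻¹ * y7⁻¹ := by rw [h]
    _ = w7 := by group

theorem x7_mem7 : x7 ∈ S7 := subset_closure (by simp)
theorem y7_mem7 : y7 ∈ S7 := subset_closure (by simp)

theorem w7_mem7 : w7 ∈ S7 := by
  rw [← comm_x7y7, commutatorElement_def]
  exact mul_mem (mul_mem (mul_mem x7_mem7 y7_mem7) (inv_mem x7_mem7)) (inv_mem y7_mem7)

theorem card_S7_ge : 343 ≤ Nat.card S7 := by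
  have h := card_ge_of_words gT7 gG7 gRep7 S7 ?_ words7 words7_inc
  · rwa [words7_length] at h
  · intro g hg
    simp only [gG7, List.mem_cons, List.not_mem_nil, or_false] at hg
    rcases hg with rfl | rfl | rfl
    · exact x7_mem7
    · exact y7_mem7
    · exact w7_mem7

theorem card_S7_le : Nat.card S7 ≤ 343 := by
  have hrel : w7 * x7 * w7⁻¹ = x7 ^ 1 := by
    rw [pow_one, conj_of_mul w7_x7]
  have hN := card_closure_pair_le hrel x7_pow' (by norm_num) w7_pow' (by norm_num)
  have hxN : x7 ∈ closure ({x7, w7} : Set HeG) := subset_closure (by simp)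
  have hwN : w7 ∈ closure ({x7, w7} : Set HeG) := subset_closure (by simp)
  have h3 : Nat.card (closure (insert y7 ({x7, w7} : Set HeG))) ≤
      7 * Nat.card (closure ({x7, w7} : Set HeG)) := by
    apply card_closure_insert_pow_le 7 (by norm_num)
    · rw [y7_pow']; exact one_mem _
    · intro a ha
      rcases ha with rfl | rfl
      · have h : y7 * x7 = (w7 * w7 * w7 * w7 * w7 * w7 * x7) * y7 := by rw [y7_x7]
        rw [conj_of_mul h]
        exact mul_mem (mul_mem (mul_mem (mul_mem (mul_mem (mul_mem hwN hwN) hwN) hwN) hwN) hwN) hxN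
      · have h : y7 * w7 = w7 * y7 := w7_y7.symm
        rw [conj_of_mul h]
        exact hwN
  have hle : S7 ≤ closure (insert y7 ({x7, w7} : Set HeG)) := by
    unfold S7
    apply Subgroup.closure_mono
    intro g hg
    rcases hg with rfl | rfl
    · simp
    · simp
  calc Nat.card S7 ≤ Nat.card (closure (insert y7 ({x7, w7} : Set HeG))) :=
        Subgroup.card_le_of_le hle
    _ ≤ 7 * Nat.card (closure ({x7, w7} : Set HeG)) := h3
    _ ≤ 7 * (7 * 7) := Nat.mul_le_mul_left 7 hN

theorem card_S7 : Nat.card S7 = 343 := le_antisymm card_S7_le card_S7_ge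

theorem S7_index : ¬ 7 ∣ S7.index := by
  have h1 := Subgroup.card_mul_index S7
  rw [card_S7, card_HeG] at h1
  have : S7.index = 11750400 := by omega
  rw [this]
  norm_num

end Cfsg.Agent.Lib.Helper5.HeM
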