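import Mathlib
import Cfsg.Agent.Lib.Helper5.HeME
import Cfsg.Agent.Lib.Helper5.StemA
import Cfsg.Agent.Lib.Helper5.StemE
import Cfsg.Agent.Lib.Helper5.StemH
import Cfsg.Agent.Lib.Helper5.StemI
import Cfsg.Agent.Lib.Helper5.StemT
import Cfsg.Agent.Lib.helper3.StemTools2

set_option autoImplicit false

/-! Every finite stem extension of the Held group is trivial. -/

namespace Cfsg.Agent.Lib.Helper5.HeM

open Cfsg Cfsg.Agent.Lib.helper17 Cfsg.Agent.Lib.Helper5.Stem Cfsg.Agent.Lib.helper3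
open Subgroup
open scoped commutatorElement

/-- no stem extension of the Held group has a kernel of order two -/
theorem no_stem_two {Γ : Type*} [Group Γ] [Finite Γ] (σ : Γ →* HeG)
    (hσ : Cfsg.IsStemExtension σ) (hcard : Nat.card σ.ker = 2) : False := by
  obtain ⟨hsurj, hcen, hder⟩ := hσ
  obtain ⟨z, hK⟩ := ker2_of_card hcen hcard
  have hK' := hK
  obtain ⟨hz1, hz2, hσz, hw, hzc⟩ := hK
  have q1 : QInv σ e1 :=
    qinv_of_E8 hsurj hK' e1 e2 e3 e1_sq e12_comm e13_comm e23_comm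
      ⟨qe2, conj_of_mul qe2_conj⟩ ⟨qe3, conj_of_mul qe3_conj⟩ ⟨qe12, conj_of_mul qe12_conj⟩
      ⟨qe13, conj_of_mul qe13_conj⟩ ⟨qe23, conj_of_mul qe23_conj⟩
      ⟨qe123, conj_of_mul qe123_conj⟩
  have qcA : ∀ {h v : HeG}, h * e1 = v * h → QInv σ v := by
    intro h v hh
    have := qinv_conj hsurj q1 h
    rwa [conj_of_mul hh] at this
  have Qe2 : QInv σ e2 := qcA qe2_conj
  have Qe3 : QInv σ e3 := qcA qe3_conj
  have Qe4 : QInv σ e4 := qcA qe4_conj
  have Qe5 : QInv σ e5 := qcA qe5_conj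
  have Qe6 : QInv σ e6 := qcA qe6_conj
  have Qe12 : QInv σ (e1 * e2) := qcA qe12_conj
  have Qe13 : QInv σ (e1 * e3) := qcA qe13_conj
  have Qe14 : QInv σ (e1 * e4) := qcA qe14_conj
  have Qe15 : QInv σ (e1 * e5) := qcA qe15_conj
  have Qe16 : QInv σ (e1 * e6) := qcA qe16_conj
  have Qe23 : QInv σ (e2 * e3) := qcA qe23_conj
  have Qe24 : QInv σ (e2 * e4) := qcA qe24_conj
  have Qe26 : QInv σ (e2 * e6) := qcA qe26_conj
  have Qe36 : QInv σ (e3 * e6) := qcA qe36_conj
  have Qe46 : QInv σ (e4 * e6) := qcA qe46_conj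
  have Qe56 : QInv σ (e5 * e6) := qcA qe56_conj
  have Qe123 : QInv σ (e1 * e2 * e3) := qcA qe123_conj
  have Qbp : QInv σ bp := qcA qbp_conj
  have Qcp : QInv σ cp := qcA qcp_conj
  have Qe1bp : QInv σ (e1 * bp) := qcA qe1bp_conj
  have Qe1cp : QInv σ (e1 * cp) := qcA qe1cp_conj
  have Qbpcp : QInv σ (bp * cp) := qcA qbpcp_conj
  have Qcs : QInv σ (c * s) := qcA qcs_conj
  have qb0 : QInv σ (e1 * bp * cp) := qinv_of_triple hsurj hK' q1 Qbp Qcp Qe1bp Qe1cp Qbpcp
  have qcB : ∀ {h v : HeG}, h * (e1 * bp * cp) = v * h → QInv σ v := by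
    intro h v hh
    have := qinv_conj hsurj qb0 h
    rwa [conj_of_mul hh] at this
  have Qe25 : QInv σ (e2 * e5) := qcB qe25_conj
  have Qe34 : QInv σ (e3 * e4) := qcB qe34_conj
  have Qe35 : QInv σ (e3 * e5) := qcB qe35_conj
  have Qe45 : QInv σ (e4 * e5) := qcB qe45_conj
  have Qs : QInv σ s := qcB qs_conj
  have Qrr : QInv σ (r * r) := qcB qrr_conj
  have Qsr : QInv σ (s * r) := qcB qsr_conj
  have Qc : QInv σ c := qcB qc_conj
  have Qcsr : QInv σ (c * (s * r)) := qcB qcsr_conj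
  have qone : QInv σ 1 := qinv_one hK'
  have hSQ : ∀ a ∈ SE, QInv σ a := by
    intro a ha
    rcases mem_SE ha with rfl | rfl | rfl | rfl | rfl | rfl
    · exact q1
    · exact Qe2
    · exact Qe3
    · exact Qe4
    · exact Qe5
    · exact Qe6
  have hSQ2 : ∀ a ∈ SE, ∀ b ∈ SE, QInv σ (a * b) := by
    intro a ha b hb
    rcases mem_SE ha with rfl | rfl | rfl | rfl | rfl | rfl <;>
      rcases mem_SE hb with rfl | rfl | rfl | rfl | rfl | rfl
    · rw [e1_sq]; exact qone
    · exact Qe12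
    · exact Qe13
    · exact Qe14
    · exact Qe15
    · exact Qe16
    · rw [← e12_comm]; exact Qe12
    · rw [e2_sq]; exact qone
    · exact Qe23
    · exact Qe24
    · exact Qe25
    · exact Qe26
    · rw [← e13_comm]; exact Qe13
    · rw [← e23_comm]; exact Qe23
    · rw [e3_sq]; exact qone
    · exact Qe34
    · exact Qe35
    · exact Qe36
    · rw [← e14_comm]; exact Qe14
    · rw [← e24_comm]; exact Qe24
    · rw [← e34_comm]; exact Qe34
    · rw [e4_sq]; exact qone
    · exact Qe45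
    · exact Qe46
    · rw [← e15_comm]; exact Qe15
    · rw [← e25_comm]; exact Qe25
    · rw [← e35_comm]; exact Qe35
    · rw [← e45_comm]; exact Qe45
    · rw [e5_sq]; exact qone
    · exact Qe56
    · rw [← e16_comm]; exact Qe16
    · rw [← e26_comm]; exact Qe26
    · rw [← e36_comm]; exact Qe36
    · rw [← e46_comm]; exact Qe46
    · rw [← e56_comm]; exact Qe56
    · rw [e6_sq]; exact qone
  obtain ⟨R, hR⟩ := hsurj r
  obtain ⟨S', hS'⟩ := hsurj s
  obtain ⟨C, hC⟩ := hsurj c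
  set D₁ : Subgroup Γ := closure ({C, R, S'} : Set Γ) with hD₁
  have hmap : D₁.map σ = DD := by
    rw [hD₁, MonoidHom.map_closure, Set.image_insert_eq, Set.image_pair, hR, hS', hC]
    rfl
  have hD₁σ : ∀ x ∈ D₁, σ x ∈ DD := by
    intro x hx
    rw [← hmap]
    exact Subgroup.mem_map_of_mem σ hx
  have hDle : DD ≤ D₁.map σ := by rw [hmap]
  have hm : Nat.card D₁ ≤ 16 := by
    have h := card_lift_d8c2_le R S' C hR hS' hC Qs Qrr Qsr Qc Qcs Qcsr
    have e : D₁ = closure ({R, S'} : Set Γ) ⊔ zpowers C := by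
      rw [hD₁, Set.insert_eq, Subgroup.closure_union, sup_comm, Subgroup.zpowers_eq_closure]
    rw [e]
    exact h
  have hS := comm_comap_trivial_of_split hsurj hK' SE SE_sq SE_comm hSQ hSQ2 k k_cube k_SE k_nrm
    DD DD_SE DD_k D₁ hD₁σ hDle 64 16 card_SE_le hm PP (le_refl _) card_PP_ge
  haveI : Fact (Nat.Prime 2) := ⟨Nat.prime_two⟩
  have := stem_no_prime_of_subgroup σ hsurj hcen hder PP PP_index hS
    (MonoidHom.mem_ker.mpr hσz) (by rw [pow_two, hz2])
  exact hz1 this

theorem comm_xy : ⁅x, y⁆ = w := by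
  have hxinv : x⁻¹ = x * x := by
    rw [inv_eq_iff_mul_eq_one, ← x_cube]; group
  have hyinv : y⁻¹ = y * y := by
    rw [inv_eq_iff_mul_eq_one, ← y_cube]; group
  rw [commutatorElement_def, hxinv, hyinv, w_def]

theorem ker_pow_of_card {Γ : Type*} [Group Γ] [Finite Γ] (σ : Γ →* HeG) (p : ℕ)
    (hcard : Nat.card σ.ker = p) : ∀ κ ∈ σ.ker, κ ^ p = 1 := by
  intro κ hκ
  have := pow_card_eq_one' (G := σ.ker) (x := ⟨κ, hκ⟩)
  rw [hcard] at this
  exact congrArg Subtype.val this

theorem false_of_all_one {Γ : Type*} [Group Γ] [Finite Γ] (σ : Γ →* HeG) (p : ℕ) (hp : 1 < p)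
    (hcard : Nat.card σ.ker = p) (hall : ∀ z ∈ σ.ker, z = 1) : False := by
  have : Nat.card σ.ker = 1 := by
    rw [Nat.card_eq_one_iff_unique]
    refine ⟨⟨fun a b => ?_⟩, ⟨1⟩⟩
    apply Subtype.ext
    rw [hall a a.2, hall b b.2]
  omega

/-- no stem extension of the Held group has a kernel of order three -/
theorem no_stem_three {Γ : Type*} [Group Γ] [Finite Γ] (σ : Γ →* HeG)
    (hσ : Cfsg.IsStemExtension σ) (hcard : Nat.card σ.ker = 3) : False := by
  obtain ⟨hsurj, hcen, hder⟩ := hσ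
  have hk3 := ker_pow_of_card σ 3 hcard
  have hxinv : x⁻¹ = x * x := by
    rw [inv_eq_iff_mul_eq_one, ← x_cube]; group
  have hyinv : y⁻¹ = y * y := by
    rw [inv_eq_iff_mul_eq_one, ← y_cube]; group
  have hx3 : x ^ 3 = 1 := by rw [← x_cube, pow_succ, pow_two]
  have htx : t * x * t⁻¹ = x⁻¹ := by rw [hxinv]; exact conj_of_mul t_x
  have hty : t * y * t⁻¹ = y⁻¹ := by rw [hyinv]; exact conj_of_mul t_y
  have htw : t * ⁅x, y⁆ * t⁻¹ = ⁅x, y⁆ := by rw [comm_xy]; exact conj_of_mul t_w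
  have hS := comm_comap_trivial_of_heis hsurj hcen hk3 x y t hx3
    (by rw [comm_xy]; exact w_x) (by rw [comm_xy]; exact w_y) (by rw [comm_xy]; exact w_ne)
    htx hty htw
  haveI : Fact (Nat.Prime 3) := ⟨Nat.prime_three⟩
  exact false_of_all_one σ 3 (by norm_num) hcard fun z hz =>
    stem_no_prime_of_subgroup σ hsurj hcen hder S3 S3_index hS hz (hk3 z hz)

/-- no stem extension of the Held group has a kernel of order five -/
theorem no_stem_five {Γ : Type*} [Group Γ] [Finite Γ] (σ : Γ →* HeG)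
    (hσ : Cfsg.IsStemExtension σ) (hcard : Nat.card σ.ker = 5) : False := by
  obtain ⟨hsurj, hcen, hder⟩ := hσ
  have hk5 := ker_pow_of_card σ 5 hcard
  have x5_inv : x5⁻¹ = x5 * x5 * x5 * x5 := by
    rw [inv_eq_iff_mul_eq_one, ← x5_pow]; group
  have htx : t5 * x5 * t5⁻¹ = x5⁻¹ := by
    rw [x5_inv]; exact conj_of_mul t5_x5
  have hty : t5 * y5 * t5⁻¹ = y5 := conj_of_mul t5_y5
  have hS := comm_comap_trivial_of_inverted_pair σ hsurj hcen x5 y5 t5 x5_y5 5 (by decide) x5_pow'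
    htx hty
  haveI : Fact (Nat.Prime 5) := ⟨by norm_num⟩
  exact false_of_all_one σ 5 (by norm_num) hcard fun z hz =>
    stem_no_prime_of_subgroup σ hsurj hcen hder S5 S5_index (fun w hw _ => hS w hw) hz (hk5 z hz)

/-- no stem extension of the Held group has a kernel of order seven -/
theorem no_stem_seven {Γ : Type*} [Group Γ] [Finite Γ] (σ : Γ →* HeG)
    (hσ : Cfsg.IsStemExtension σ) (hcard : Nat.card σ.ker = 7) : False := by
  obtain ⟨hsurj, hcen, hder⟩ := hσ
  have hk7 := ker_pow_of_card σ 7 hcard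
  haveI : Fact (Nat.Prime 7) := ⟨by norm_num⟩
  have hS := comm_comap_trivial_of_heis_scaled 7 (by norm_num) hsurj hcen hk7 x7 y7 s7 x7_pow'
    (by rw [comm_x7y7]; exact w7_x7) (by rw [comm_x7y7]; exact w7_y7)
    (by rw [comm_x7y7]; exact w7_ne) (conj_of_mul s7_x7) (conj_of_mul s7_y7)
    (by rw [comm_x7y7]; exact conj_of_mul s7_w7)
  exact false_of_all_one σ 7 (by norm_num) hcard fun z hz =>
    stem_no_prime_of_subgroup σ hsurj hcen hder S7 S7_index hS hz (hk7 z hz)

/-- every finite stem extension of the Held group is trivial -/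
theorem he_stem_ker_trivial {Γ : Type} [Group Γ] [Finite Γ] (σ : Γ →* HeG)
    (hσ : Cfsg.IsStemExtension σ) : ∀ z ∈ σ.ker, z = 1 := by
  have hσ' := hσ
  obtain ⟨hsurj, hcen, hder⟩ := hσ
  have hcard := card_HeG
  apply stem_ker_trivial_of_primes σ
  intro p hp z hz hzp
  have hpP : p.Prime := hp.out
  by_cases hp2 : p = 2
  · subst hp2
    by_contra hz1
    obtain ⟨Γ', _, _, σ', hσ'', hc⟩ := exists_stem_prime_ker σ hσ' 2 z hz hzp hz1
    exact no_stem_two σ' hσ'' hc
  by_cases hp3 : p = 3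
  · subst hp3
    by_contra hz1
    obtain ⟨Γ', _, _, σ', hσ'', hc⟩ := exists_stem_prime_ker σ hσ' 3 z hz hzp hz1
    exact no_stem_three σ' hσ'' hc
  by_cases hp5 : p = 5
  · subst hp5
    by_contra hz1
    obtain ⟨Γ', _, _, σ', hσ'', hc⟩ := exists_stem_prime_ker σ hσ' 5 z hz hzp hz1
    exact no_stem_five σ' hσ'' hc
  by_cases hp7 : p = 7
  · subst hp7
    by_contra hz1
    obtain ⟨Γ', _, _, σ', hσ'', hc⟩ := exists_stem_prime_ker σ hσ' 7 z hz hzp hz1
    exact no_stem_seven σ' hσ'' hc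
  obtain ⟨Rr⟩ : Nonempty (Sylow p HeG) := inferInstance
  have hcyc : IsCyclic (Rr : Subgroup HeG) := by
    obtain ⟨j, hj⟩ := IsPGroup.iff_card.mp Rr.2
    have hdvd : p ^ j ∣ 4030387200 := by
      rw [← hj, ← hcard]
      exact Subgroup.card_subgroup_dvd_card _
    have hj1 : j ≤ 1 := by
      by_contra hlt
      push Not at hlt
      have h2 : p ^ 2 ∣ 4030387200 := dvd_trans (pow_dvd_pow p hlt) hdvd
      have e : (4030387200 : ℕ) = 2 ^ 10 * 3 ^ 3 * 5 ^ 2 * 7 ^ 3 * 17 := by norm_num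
      have hpd : p ∣ 2 ^ 10 * 3 ^ 3 * 5 ^ 2 * 7 ^ 3 * 17 := by
        rw [← e]
        exact dvd_trans (dvd_pow_self p (by norm_num)) h2
      have hcases : p = 2 ∨ p = 3 ∨ p = 5 ∨ p = 7 ∨ p = 17 := by
        rcases (Nat.Prime.dvd_mul hpP).mp hpd with h | h
        · rcases (Nat.Prime.dvd_mul hpP).mp h with h | h
          · rcases (Nat.Prime.dvd_mul hpP).mp h with h | h
            · rcases (Nat.Prime.dvd_mul hpP).mp h with h | h
              · left
                exact (Nat.prime_dvd_prime_iff_eq hpP Nat.prime_two).mp (hpP.dvd_of_dvd_pow h)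
              · right; left
                exact (Nat.prime_dvd_prime_iff_eq hpP Nat.prime_three).mp
                  (hpP.dvd_of_dvd_pow h)
            · right; right; left
              exact (Nat.prime_dvd_prime_iff_eq hpP (by norm_num)).mp (hpP.dvd_of_dvd_pow h)
          · right; right; right; left
            exact (Nat.prime_dvd_prime_iff_eq hpP (by norm_num)).mp (hpP.dvd_of_dvd_pow h)
        · right; right; right; right
          exact (Nat.prime_dvd_prime_iff_eq hpP (by norm_num)).mp h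
      rcases hcases with rfl | rfl | rfl | rfl | rfl
      · exact hp2 rfl
      · exact hp3 rfl
      · exact hp5 rfl
      · exact hp7 rfl
      · revert h2; norm_num
    interval_cases j
    · rw [pow_zero] at hj
      haveI : Subsingleton (Rr : Subgroup HeG) :=
        (Nat.card_eq_one_iff_unique.mp hj).1
      exact isCyclic_of_subsingleton
    · rw [pow_one] at hj
      exact isCyclic_of_prime_card hj
  haveI := hcyc
  have hind : ¬ p ∣ (Rr : Subgroup HeG).index := Sylow.not_dvd_index Rr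
  refine stem_no_prime_of_subgroup σ hsurj hcen hder (Rr : Subgroup HeG) hind ?_
    hz hzp
  intro w hw _
  exact comm_comap_trivial_of_cyclic σ hcen (Rr : Subgroup HeG) w hw

end Cfsg.Agent.Lib.Helper5.HeM
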