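import Mathlib
import Cfsg.Agent.Lib.Helper5.HolOp
import Cfsg.Agent.Lib.Helper5.Glauberman

set_option autoImplicit false

namespace Cfsg.Agent.Lib.Helper5

open scoped commutatorElement Pointwise

section HolPull

theorem holXi_inl {G : Type*} [Group G] (V : Subgroup G) [V.Characteristic] (φ : MulAut G)
    (v : V) :
    holXi V φ * SemidirectProduct.inl v * (holXi V φ)⁻¹ =
      SemidirectProduct.inl (MulAut.characteristic V φ v) := by
  unfold holXi
  rw [MonoidHom.comp_apply, ← map_inv, ← SemidirectProduct.inl_aut]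
  rfl

theorem hol_comm_iff {G : Type*} [Group G] (V : Subgroup G) [V.Normal] (k : G) (v : V) :
    holPsi V k * SemidirectProduct.inl v = SemidirectProduct.inl v * holPsi V k ↔
      k * (v : G) = (v : G) * k := by
  have h1 := holPsi_conj V k v
  constructor
  · intro h
    have h2 : holPsi V k * SemidirectProduct.inl v * (holPsi V k)⁻¹ =
        SemidirectProduct.inl v := by rw [h]; group
    rw [h2] at h1
    have h3 := SemidirectProduct.inl_injective h1
    have h4 := congrArg (fun u : V => (u : G)) h3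
    have h5 : (v : G) = k * v * k⁻¹ := by simpa [MulAut.conjNormal_apply] using h4
    calc k * (v : G) = (k * v * k⁻¹) * k := by group
      _ = (v : G) * k := by rw [← h5]
  · intro h
    have h3 : MulAut.conjNormal k v = v := by
      apply Subtype.ext
      rw [MulAut.conjNormal_apply, h]; group
    rw [h3] at h1
    calc holPsi V k * SemidirectProduct.inl v
        = (holPsi V k * SemidirectProduct.inl v * (holPsi V k)⁻¹) * holPsi V k := by group
      _ = SemidirectProduct.inl v * holPsi V k := by rw [h1]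

theorem hol_pullback_plane {G : Type*} [Group G] [Finite G] (K : Subgroup G) (V : Subgroup ↥K)
    [V.Normal] (W' R : Subgroup (HolG V)) (hW'V : W' ≤ holV V)
    (hRW : R ≤ Subgroup.normalizer (W' : Set (HolG V)))
    (D₁ : Subgroup ↥K) (hD₁R : D₁ ≤ R.comap (holPsi V)) (hRD₁ : R ≤ D₁.map (holPsi V)) :
    D₁.map K.subtype ≤ Subgroup.normalizer
      ((((W'.comap (SemidirectProduct.inl : ↥V →* HolG V)).map V.subtype).map K.subtype :
        Subgroup G) : Set G) ∧
    ∃ hn : ((Subgroup.centralizer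
      ((((W'.comap (SemidirectProduct.inl : ↥V →* HolG V)).map V.subtype).map K.subtype :
        Subgroup G) : Set G)).subgroupOf (D₁.map K.subtype)).Normal,
    ∃ hn' : ((Subgroup.centralizer (W' : Set (HolG V))).subgroupOf R).Normal,
      Nonempty ((↥(D₁.map K.subtype) ⧸ (Subgroup.centralizer
        ((((W'.comap (SemidirectProduct.inl : ↥V →* HolG V)).map V.subtype).map K.subtype :
          Subgroup G) : Set G)).subgroupOf (D₁.map K.subtype)) ≃*
        (↥R ⧸ (Subgroup.centralizer (W' : Set (HolG V))).subgroupOf R)) := by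
  have hnorm : D₁.map K.subtype ≤ Subgroup.normalizer
      ((((W'.comap (SemidirectProduct.inl : ↥V →* HolG V)).map V.subtype).map K.subtype :
        Subgroup G) : Set G) := by
    rintro _ ⟨d₁, hd₁, rfl⟩
    apply h5g_mem_normalizer_of_conj_le
    rintro _ ⟨_, ⟨v, hv, rfl⟩, rfl⟩
    have hψd : holPsi V d₁ ∈ R := hD₁R hd₁
    have h1 := holPsi_conj V d₁ v
    have h2 : (SemidirectProduct.inl (MulAut.conjNormal d₁ v) : HolG V) ∈ W' := by
      rw [← h1]
      exact (Subgroup.mem_normalizer_iff.mp (hRW hψd) _).mp hv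
    refine ⟨_, ⟨MulAut.conjNormal d₁ v, h2, rfl⟩, ?_⟩
    simp [MulAut.conjNormal_apply]
  have hn' : ((Subgroup.centralizer (W' : Set (HolG V))).subgroupOf R).Normal := by
    constructor
    intro c hc r
    rw [Subgroup.mem_subgroupOf] at hc ⊢
    rw [Subgroup.mem_centralizer_iff] at hc ⊢
    intro w hw
    have hr := hRW r.2
    have hw' : (r : HolG V)⁻¹ * w * (r : HolG V) ∈ W' :=
      (Subgroup.mem_normalizer_iff''.mp hr w).mp hw
    have h1 := hc _ hw'
    show w * ((r : HolG V) * (c : HolG V) * (r : HolG V)⁻¹) =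
      (r : HolG V) * (c : HolG V) * (r : HolG V)⁻¹ * w
    calc w * ((r : HolG V) * (c : HolG V) * (r : HolG V)⁻¹)
        = (r : HolG V) * (((r : HolG V)⁻¹ * w * (r : HolG V)) * (c : HolG V)) *
            (r : HolG V)⁻¹ := by group
      _ = (r : HolG V) * ((c : HolG V) * ((r : HolG V)⁻¹ * w * (r : HolG V))) *
            (r : HolG V)⁻¹ := by rw [h1]
      _ = (r : HolG V) * (c : HolG V) * (r : HolG V)⁻¹ * w := by group
  have hDK : D₁.map K.subtype ≤ K := Subgroup.map_subtype_le _
  have hmemD : ∀ d : ↥(D₁.map K.subtype), Subgroup.inclusion hDK d ∈ D₁ := by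
    rintro ⟨_, ⟨d₁, hd₁, rfl⟩⟩
    have h1 : Subgroup.inclusion hDK ⟨K.subtype d₁, ⟨d₁, hd₁, rfl⟩⟩ = d₁ := Subtype.ext rfl
    rw [h1]
    exact hd₁
  let g : ↥(D₁.map K.subtype) →* ↥R :=
    ((holPsi V).comp (Subgroup.inclusion hDK)).codRestrict R (fun d => hD₁R (hmemD d))
  have hg : Function.Surjective g := by
    rintro ⟨r, hr⟩
    obtain ⟨d₁, hd₁, rfl⟩ := hRD₁ hr
    refine ⟨⟨K.subtype d₁, ⟨d₁, hd₁, rfl⟩⟩, Subtype.ext ?_⟩
    show holPsi V (Subgroup.inclusion hDK ⟨K.subtype d₁, ⟨d₁, hd₁, rfl⟩⟩) = holPsi V d₁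
    have h1 : Subgroup.inclusion hDK ⟨K.subtype d₁, ⟨d₁, hd₁, rfl⟩⟩ = d₁ := Subtype.ext rfl
    rw [h1]
  have hf : Function.Surjective ((QuotientGroup.mk'
      ((Subgroup.centralizer (W' : Set (HolG V))).subgroupOf R)).comp g) :=
    (QuotientGroup.mk'_surjective _).comp hg
  have hker : (Subgroup.centralizer
      ((((W'.comap (SemidirectProduct.inl : ↥V →* HolG V)).map V.subtype).map K.subtype :
        Subgroup G) : Set G)).subgroupOf (D₁.map K.subtype) =
      ((QuotientGroup.mk' ((Subgroup.centralizer (W' : Set (HolG V))).subgroupOf R)).comp g).ker := by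
    ext d
    rw [Subgroup.mem_subgroupOf, MonoidHom.mem_ker, MonoidHom.comp_apply,
      QuotientGroup.mk'_apply, QuotientGroup.eq_one_iff, Subgroup.mem_subgroupOf,
      Subgroup.mem_centralizer_iff, Subgroup.mem_centralizer_iff]
    have hgd : ((g d : ↥R) : HolG V) = holPsi V (Subgroup.inclusion hDK d) := rfl
    rw [hgd]
    constructor
    · intro h w' hw'
      obtain ⟨v, rfl⟩ := hW'V hw'
      have h1 := h (K.subtype (V.subtype v)) ⟨_, ⟨v, hw', rfl⟩, rfl⟩
      apply ((hol_comm_iff V (Subgroup.inclusion hDK d) v).mpr _).symm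
      apply Subtype.ext
      exact h1.symm
    · rintro h _ ⟨_, ⟨v, hv, rfl⟩, rfl⟩
      have h1 := h (SemidirectProduct.inl v) hv
      have h2 := (hol_comm_iff V (Subgroup.inclusion hDK d) v).mp h1.symm
      exact (congrArg (fun u : ↥K => (u : G)) h2).symm
  have hn : ((Subgroup.centralizer
      ((((W'.comap (SemidirectProduct.inl : ↥V →* HolG V)).map V.subtype).map K.subtype :
        Subgroup G) : Set G)).subgroupOf (D₁.map K.subtype)).Normal := by
    rw [hker]; infer_instance
  exact ⟨hnorm, hn, hn', ⟨(QuotientGroup.quotientMulEquivOfEq hker).trans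
    (QuotientGroup.quotientKerEquivOfSurjective _ hf)⟩⟩

end HolPull

end Cfsg.Agent.Lib.Helper5
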