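import Cfsg.Agent.Lib.Helper5.HsCovData
import Cfsg.Agent.Lib.helper23.PgX

set_option autoImplicit false
set_option maxRecDepth 1000000
set_option Elab.async false

/-! The double cover of the Higman–Sims group on 804 points: the checks of the stabiliser chain
(generated). -/

namespace Cfsg.Agent.Lib.Helper5.HsCov

open Cfsg.Agent.Lib.helper23 Subgroup MulAction

theorem hcvchk0x7 : pgChkLvlW0 804 hcvL7 [] = true := by decide +kernel
theorem hcvchk0x6 : pgChkLvlW0 804 hcvL6 [hcvL7] = true := by decide +kernel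
theorem hcvchk0x5 : pgChkLvlW0 804 hcvL5 [hcvL6, hcvL7] = true := by decide +kernel
theorem hcvchk0x4 : pgChkLvlW0 804 hcvL4 [hcvL5, hcvL6, hcvL7] = true := by decide +kernel
theorem hcvchk0x3 : pgChkLvlW0 804 hcvL3 [hcvL4, hcvL5, hcvL6, hcvL7] = true := by decide +kernel
theorem hcvchk0x2 : pgChkLvlW0 804 hcvL2 [hcvL3, hcvL4, hcvL5, hcvL6, hcvL7] = true := by decide +kernel
theorem hcvchk0x1 : pgChkLvlW0 804 hcvL1 [hcvL2, hcvL3, hcvL4, hcvL5, hcvL6, hcvL7] = true := by decide +kernel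

theorem hcvcl7x0 : pgChkGenW 804 (List.range 804) hcvL7 []
    (hcvgen hcvT7x0 hcvI7x0) 0 804 = true := by
  decide +kernel
theorem hcvcl7x1 : pgChkGenW 804 (List.range 804) hcvL7 []
    (hcvgen hcvT7x1 hcvI7x1) 0 804 = true := by
  decide +kernel
theorem hcvcl6x0 : pgChkGenW 804 (List.range 804) hcvL6 [hcvL7]
    (hcvgen hcvT6x0 hcvI6x0) 0 804 = true := by
  decide +kernel
theorem hcvcl6x1 : pgChkGenW 804 (List.range 804) hcvL6 [hcvL7]
    (hcvgen hcvT6x1 hcvI6x1) 0 804 = true := by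
  decide +kernel
theorem hcvcl5x0 : pgChkGenW 804 (List.range 804) hcvL5 [hcvL6, hcvL7]
    (hcvgen hcvT5x0 hcvI5x0) 0 804 = true := by
  decide +kernel
theorem hcvcl5x1 : pgChkGenW 804 (List.range 804) hcvL5 [hcvL6, hcvL7]
    (hcvgen hcvT5x1 hcvI5x1) 0 804 = true := by
  decide +kernel
theorem hcvcl5x2 : pgChkGenW 804 (List.range 804) hcvL5 [hcvL6, hcvL7]
    (hcvgen hcvT5x2 hcvI5x2) 0 804 = true := by
  decide +kernel
theorem hcvcl4x0 : pgChkGenW 804 (List.range 804) hcvL4 [hcvL5, hcvL6, hcvL7]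
    (hcvgen hcvT4x0 hcvI4x0) 0 804 = true := by
  decide +kernel
theorem hcvcl4x1 : pgChkGenW 804 (List.range 804) hcvL4 [hcvL5, hcvL6, hcvL7]
    (hcvgen hcvT4x1 hcvI4x1) 0 804 = true := by
  decide +kernel
theorem hcvcl3x0 : pgChkGenW 804 (List.range 804) hcvL3 [hcvL4, hcvL5, hcvL6, hcvL7]
    (hcvgen hcvT3x0 hcvI3x0) 0 804 = true := by
  decide +kernel
theorem hcvcl3x1 : pgChkGenW 804 (List.range 804) hcvL3 [hcvL4, hcvL5, hcvL6, hcvL7]
    (hcvgen hcvT3x1 hcvI3x1) 0 804 = true := by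
  decide +kernel
theorem hcvcl2x0 : pgChkGenW 804 (List.range 804) hcvL2 [hcvL3, hcvL4, hcvL5, hcvL6, hcvL7]
    (hcvgen hcvT2x0 hcvI2x0) 0 804 = true := by
  decide +kernel
theorem hcvcl2x1 : pgChkGenW 804 (List.range 804) hcvL2 [hcvL3, hcvL4, hcvL5, hcvL6, hcvL7]
    (hcvgen hcvT2x1 hcvI2x1) 0 804 = true := by
  decide +kernel
theorem hcvcl1x0 : pgChkGenW 804 (List.range 804) hcvL1 [hcvL2, hcvL3, hcvL4, hcvL5, hcvL6, hcvL7]
    (hcvgen hcvT1x0 hcvI1x0) 0 804 = true := by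
  decide +kernel
theorem hcvcl1x1 : pgChkGenW 804 (List.range 804) hcvL1 [hcvL2, hcvL3, hcvL4, hcvL5, hcvL6, hcvL7]
    (hcvgen hcvT1x1 hcvI1x1) 0 804 = true := by
  decide +kernel

theorem hcvchkL7 : pgChkLvlW 804 (List.range 804) hcvL7 [] = true := by
  apply pgChkLvlW_ofAllX hcvchk0x7
  intro s hs
  change s ∈ [hcvgen hcvT7x0 hcvI7x0, hcvgen hcvT7x1 hcvI7x1] at hs
  simp only [List.mem_cons, List.not_mem_nil, or_false] at hs
  rcases hs with rfl | rfl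
  · exact hcvcl7x0
  · exact hcvcl7x1

theorem hcvchkL6 : pgChkLvlW 804 (List.range 804) hcvL6 [hcvL7] = true := by
  apply pgChkLvlW_ofAllX hcvchk0x6
  intro s hs
  change s ∈ [hcvgen hcvT6x0 hcvI6x0, hcvgen hcvT6x1 hcvI6x1] at hs
  simp only [List.mem_cons, List.not_mem_nil, or_false] at hs
  rcases hs with rfl | rfl
  · exact hcvcl6x0
  · exact hcvcl6x1

theorem hcvchkL5 : pgChkLvlW 804 (List.range 804) hcvL5 [hcvL6, hcvL7] = true := by
  apply pgChkLvlW_ofAllX hcvchk0x5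
  intro s hs
  change s ∈ [hcvgen hcvT5x0 hcvI5x0, hcvgen hcvT5x1 hcvI5x1, hcvgen hcvT5x2 hcvI5x2] at hs
  simp only [List.mem_cons, List.not_mem_nil, or_false] at hs
  rcases hs with rfl | rfl | rfl
  · exact hcvcl5x0
  · exact hcvcl5x1
  · exact hcvcl5x2

theorem hcvchkL4 : pgChkLvlW 804 (List.range 804) hcvL4 [hcvL5, hcvL6, hcvL7] = true := by
  apply pgChkLvlW_ofAllX hcvchk0x4
  intro s hs
  change s ∈ [hcvgen hcvT4x0 hcvI4x0, hcvgen hcvT4x1 hcvI4x1] at hs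
  simp only [List.mem_cons, List.not_mem_nil, or_false] at hs
  rcases hs with rfl | rfl
  · exact hcvcl4x0
  · exact hcvcl4x1

theorem hcvchkL3 : pgChkLvlW 804 (List.range 804) hcvL3 [hcvL4, hcvL5, hcvL6, hcvL7] = true := by
  apply pgChkLvlW_ofAllX hcvchk0x3
  intro s hs
  change s ∈ [hcvgen hcvT3x0 hcvI3x0, hcvgen hcvT3x1 hcvI3x1] at hs
  simp only [List.mem_cons, List.not_mem_nil, or_false] at hs
  rcases hs with rfl | rfl
  · exact hcvcl3x0
  · exact hcvcl3x1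

theorem hcvchkL2 : pgChkLvlW 804 (List.range 804) hcvL2 [hcvL3, hcvL4, hcvL5, hcvL6, hcvL7] = true := by
  apply pgChkLvlW_ofAllX hcvchk0x2
  intro s hs
  change s ∈ [hcvgen hcvT2x0 hcvI2x0, hcvgen hcvT2x1 hcvI2x1] at hs
  simp only [List.mem_cons, List.not_mem_nil, or_false] at hs
  rcases hs with rfl | rfl
  · exact hcvcl2x0
  · exact hcvcl2x1

theorem hcvchkL1 : pgChkLvlW 804 (List.range 804) hcvL1 [hcvL2, hcvL3, hcvL4, hcvL5, hcvL6, hcvL7] = true := by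
  apply pgChkLvlW_ofAllX hcvchk0x1
  intro s hs
  change s ∈ [hcvgen hcvT1x0 hcvI1x0, hcvgen hcvT1x1 hcvI1x1] at hs
  simp only [List.mem_cons, List.not_mem_nil, or_false] at hs
  rcases hs with rfl | rfl
  · exact hcvcl1x0
  · exact hcvcl1x1

/-- the stabiliser chain -/
def hcvC : List PgLvlW := [hcvL1, hcvL2, hcvL3, hcvL4, hcvL5, hcvL6, hcvL7]

theorem hcvchkC : pgChkW 804 (pgRigidAll 804).base hcvC = true := by
  change pgChkW 804 (List.range 804) [hcvL1, hcvL2, hcvL3, hcvL4, hcvL5, hcvL6, hcvL7] = true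
  rw [pgChkW_cons, pgChkW_cons, pgChkW_cons, pgChkW_cons, pgChkW_cons, pgChkW_cons, pgChkW_cons, hcvchkL1, hcvchkL2, hcvchkL3, hcvchkL4, hcvchkL5, hcvchkL6, hcvchkL7]
  rfl

end Cfsg.Agent.Lib.Helper5.HsCov
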