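import Mathlib
import Cfsg.Agent.Lib.Helper5.CodedPerm
import Cfsg.Agent.Lib.helper23.HsqMain

set_option autoImplicit false

/-! Coded permutations for the Higman–Sims group on 100 points. -/

namespace Cfsg.Agent.Lib.Helper5.HsM

open Cfsg.Agent.Lib.helper23 Cfsg.Agent.Lib.Helper5.CP Subgroup

/-- the Higman–Sims group on 100 points -/
abbrev HSG : Type := ↥HS100

/-- a coded permutation represents an element -/
abbrev RepH (T : ℕ) (g : HSG) : Prop := RepS hsqlk 100 HS100 T g

/-- the first generator, as a pair of lookups -/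
def pA : PFun := hsqgen hsqT1x0 hsqI1x0

/-- the second generator, as a pair of lookups -/
def pB : PFun := hsqgen hsqT1x1 hsqI1x1

theorem pA_mem : pA ∈ hsqL1.own := by
  show pA ∈ [hsqgen hsqT1x0 hsqI1x0, hsqgen hsqT1x1 hsqI1x1]
  exact List.mem_cons_self

theorem pB_mem : pB ∈ hsqL1.own := by
  show pB ∈ [hsqgen hsqT1x0 hsqI1x0, hsqgen hsqT1x1 hsqI1x1]
  exact List.mem_cons_of_mem _ List.mem_cons_self

theorem pA_ok : pA.ok 100 = true := hsqok pA pA_mem

theorem pB_ok : pB.ok 100 = true := hsqok pB pB_mem

/-- the first generator -/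
noncomputable def gA : HSG := ⟨pA.perm 100, subset_closure ⟨pA, pA_mem, rfl⟩⟩

/-- the inverse of the first generator -/
noncomputable def gAi : HSG := gA⁻¹

/-- the second generator -/
noncomputable def gB : HSG := ⟨pB.perm 100, subset_closure ⟨pB, pB_mem, rfl⟩⟩

theorem rep_gA : RepH hsqT1x0 gA := fun i => PFun.perm_apply pA_ok i

theorem rep_gAi : RepH hsqI1x0 gAi := fun i => PFun.perm_inv_apply pA_ok i

theorem rep_gB : RepH hsqT1x1 gB := fun i => PFun.perm_apply pB_ok i

theorem gA_gAi : gA * gAi = 1 := mul_inv_cancel gA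

/-- the group is generated by the two generators -/
theorem closure_gens : closure ({gA, gB} : Set HSG) = ⊤ := by
  rw [eq_top_iff]
  rintro ⟨x, hx⟩ -
  have key : ∀ y (hy : y ∈ HS100), (⟨y, hy⟩ : HSG) ∈ closure ({gA, gB} : Set HSG) := by
    intro y hy
    induction hy using Subgroup.closure_induction with
    | mem y hy =>
      obtain ⟨P, hP, rfl⟩ := hy
      have hP' : P ∈ [hsqgen hsqT1x0 hsqI1x0, hsqgen hsqT1x1 hsqI1x1] := hP
      simp only [List.mem_cons, List.not_mem_nil, or_false] at hP'
      rcases hP' with rfl | rfl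
      · exact subset_closure (Set.mem_insert _ _)
      · exact subset_closure (Set.mem_insert_of_mem _ rfl)
    | one => exact one_mem _
    | mul a b ha hb iha ihb => exact mul_mem iha ihb
    | inv a ha iha => exact inv_mem iha
  exact key x hx

end Cfsg.Agent.Lib.Helper5.HsM
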