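import Mathlib
import Cfsg.Agent.Lib.Helper5.HsCovChk
import Cfsg.Agent.Lib.Helper5.HsMA
import Cfsg.Agent.Lib.helper23.HsqIso
import Cfsg.Prelude.Def_KGroupFacts

set_option autoImplicit false
set_option maxRecDepth 1000000

/-! The group on 804 points generated by lifts of the two generators of the Higman–Sims group is a
stem extension of it with kernel of order two. -/

namespace Cfsg.Agent.Lib.Helper5.HsCov

open Cfsg Cfsg.Agent.Lib.helper23 Cfsg.Agent.Lib.Helper5.HsM
open Subgroup
open scoped commutatorElement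

theorem hcvA : pgGrpW 804 hcvC ≤ (pgRigidAll 804).A := le_top

theorem hcvok : ∀ P ∈ hcvL1.own, P.ok 804 = true :=
  pgChkW_own_ok 804 (pgRigidAll 804).base hcvC hcvchkC

theorem hcvord : pgOrdW 804 hcvC = 88704000 := by decide +kernel

/-- the covering group on 804 points -/
abbrev Cov : Subgroup (Equiv.Perm (Fin 804)) := closure (pgSet 804 hcvL1.own)

theorem Cov_eq : Cov = pgGrpW 804 hcvC := rfl

theorem Cov_card : Nat.card Cov = 88704000 := by
  rw [Cov_eq, pgCardW (pgRigidAll 804) hcvC hcvchkC hcvA, hcvord]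

instance Cov_finite : Finite Cov := Nat.finite_of_card_ne_zero (by rw [Cov_card]; norm_num)

/-! ### the restriction to the first hundred points -/

/-- the permutations preserving the first hundred points -/
def Stab : Subgroup (Equiv.Perm (Fin 804)) where
  carrier := {g | ∀ i : Fin 804, (g i).1 < 100 ↔ i.1 < 100}
  one_mem' := fun _ => Iff.rfl
  mul_mem' := by
    intro a b ha hb i
    rw [Equiv.Perm.mul_apply]
    exact (ha (b i)).trans (hb i)
  inv_mem' := by
    intro a ha i
    have := ha (a⁻¹ i)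
    have e : a (a⁻¹ i) = i := by simp
    rw [e] at this
    exact this.symm

/-- the embedding of the first hundred points -/
def emb (i : Fin 100) : Fin 804 := ⟨i.1, by omega⟩

theorem emb_injective : Function.Injective emb := by
  intro i j h
  apply Fin.ext
  have h' : (emb i).1 = (emb j).1 := congrArg Fin.val h
  exact h'

/-- the restriction to the first hundred points, as a function -/
def resFun (g : Stab) (i : Fin 100) : Fin 100 := ⟨(g.1 (emb i)).1, (g.2 (emb i)).2 i.2⟩

theorem emb_resFun (g : Stab) (i : Fin 100) : emb (resFun g i) = g.1 (emb i) := Fin.ext rfl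

theorem resFun_mul (g h : Stab) (i : Fin 100) : resFun (g * h) i = resFun g (resFun h i) := by
  apply emb_injective
  rw [emb_resFun, emb_resFun, emb_resFun]
  rfl

theorem resFun_one (i : Fin 100) : resFun 1 i = i := by
  apply emb_injective
  rw [emb_resFun]
  rfl

/-- the restriction to the first hundred points -/
def res : Stab →* Equiv.Perm (Fin 100) where
  toFun g :=
    { toFun := resFun g
      invFun := resFun g⁻¹
      left_inv := fun i => by rw [← resFun_mul, inv_mul_cancel, resFun_one]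
      right_inv := fun i => by rw [← resFun_mul, mul_inv_cancel, resFun_one] }
  map_one' := by
    apply Equiv.ext
    intro i
    exact resFun_one i
  map_mul' := by
    intro g h
    apply Equiv.ext
    intro i
    exact resFun_mul g h i

theorem res_apply (g : Stab) (i : Fin 100) : ((res g) i).1 = (g.1 (emb i)).1 := rfl

/-! ### the generators -/

/-- the first generator, as a pair of lookups -/
def cA : PFun := hcvgen hcvT1x0 hcvI1x0

/-- the second generator, as a pair of lookups -/
def cB : PFun := hcvgen hcvT1x1 hcvI1x1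

theorem own_eq : hcvL1.own = [cA, cB] := rfl

theorem cA_mem : cA ∈ hcvL1.own := by rw [own_eq]; exact List.mem_cons_self

theorem cB_mem : cB ∈ hcvL1.own := by
  rw [own_eq]; exact List.mem_cons_of_mem _ List.mem_cons_self

theorem cA_ok : cA.ok 804 = true := hcvok cA cA_mem

theorem cB_ok : cB.ok 804 = true := hcvok cB cB_mem

theorem perm_mem_Stab {P : PFun} (hP : P.ok 804 = true)
    (h : pgAll 804 (fun i => pgEqB (Nat.blt (P.f i) 100) (Nat.blt i 100)) = true) :
    P.perm 804 ∈ Stab := by
  intro i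
  rw [PFun.perm_apply hP]
  have := (pgAll_iff _ _).1 h i.1 i.2
  rw [pgEqB_iff] at this
  constructor
  · intro h1
    have h2 : Nat.blt (P.f i.1) 100 = true := by simpa using h1
    rw [this] at h2
    simpa using h2
  · intro h1
    have h2 : Nat.blt i.1 100 = true := by simpa using h1
    rw [← this] at h2
    simpa using h2

theorem cA_stab : cA.perm 804 ∈ Stab := perm_mem_Stab cA_ok (by decide +kernel)

theorem cB_stab : cB.perm 804 ∈ Stab := perm_mem_Stab cB_ok (by decide +kernel)

theorem Cov_le_Stab : Cov ≤ Stab := by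
  rw [closure_le]
  rintro _ ⟨P, hP, rfl⟩
  rw [own_eq] at hP
  simp only [List.mem_cons, List.not_mem_nil, or_false] at hP
  rcases hP with rfl | rfl
  · exact cA_stab
  · exact cB_stab

theorem res_perm {P Q : PFun} (hP : P.ok 804 = true) (hs : P.perm 804 ∈ Stab)
    (hQ : Q.ok 100 = true) (h : pgAll 100 (fun i => Nat.beq (P.f i) (Q.f i)) = true) :
    res ⟨P.perm 804, hs⟩ = Q.perm 100 := by
  apply Equiv.ext
  intro i
  apply Fin.ext
  rw [res_apply, PFun.perm_apply hP, PFun.perm_apply hQ]
  have := (pgAll_iff _ _).1 h i.1 i.2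
  rw [Nat.beq_eq] at this
  exact this

theorem res_cA : res ⟨cA.perm 804, cA_stab⟩ = pA.perm 100 :=
  res_perm cA_ok cA_stab pA_ok (by decide +kernel)

theorem res_cB : res ⟨cB.perm 804, cB_stab⟩ = pB.perm 100 :=
  res_perm cB_ok cB_stab pB_ok (by decide +kernel)

/-- the restriction on the covering group -/
def sig0 : Cov →* Equiv.Perm (Fin 100) := res.comp (Subgroup.inclusion Cov_le_Stab)

theorem sig0_mem (γ : Cov) : sig0 γ ∈ HS100 := by
  have hle : Cov ≤ (HS100.comap res).map Stab.subtype := by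
    rw [closure_le]
    rintro _ ⟨P, hP, rfl⟩
    rw [own_eq] at hP
    simp only [List.mem_cons, List.not_mem_nil, or_false] at hP
    rcases hP with rfl | rfl
    · refine ⟨⟨cA.perm 804, cA_stab⟩, ?_, rfl⟩
      show res _ ∈ HS100
      rw [res_cA]
      exact subset_closure ⟨pA, pA_mem, rfl⟩
    · refine ⟨⟨cB.perm 804, cB_stab⟩, ?_, rfl⟩
      show res _ ∈ HS100
      rw [res_cB]
      exact subset_closure ⟨pB, pB_mem, rfl⟩
  obtain ⟨s, hs, hsγ⟩ := hle γ.2
  have e : Subgroup.inclusion Cov_le_Stab γ = s := Subtype.ext hsγ.symm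
  show res (Subgroup.inclusion Cov_le_Stab γ) ∈ HS100
  rw [e]
  exact hs

/-- the covering map -/
def sig : Cov →* HSG := sig0.codRestrict HS100 sig0_mem

theorem sig_coe (γ : Cov) : ((sig γ : HSG) : Equiv.Perm (Fin 100)) = sig0 γ := rfl

/-- the lift of the first generator -/
def xA : Cov := ⟨cA.perm 804, subset_closure ⟨cA, cA_mem, rfl⟩⟩

/-- the lift of the second generator -/
def xB : Cov := ⟨cB.perm 804, subset_closure ⟨cB, cB_mem, rfl⟩⟩

theorem sig0_xA : sig0 xA = pA.perm 100 := res_cA

theorem sig0_xB : sig0 xB = pB.perm 100 := res_cB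

theorem sig_surj : Function.Surjective sig := by
  rintro ⟨y, hy⟩
  have key : ∀ y (hy : y ∈ HS100), ∃ γ : Cov, sig0 γ = y := by
    intro y hy
    induction hy using Subgroup.closure_induction with
    | mem y hy =>
      obtain ⟨P, hP, rfl⟩ := hy
      have hP' : P ∈ [hsqgen hsqT1x0 hsqI1x0, hsqgen hsqT1x1 hsqI1x1] := hP
      simp only [List.mem_cons, List.not_mem_nil, or_false] at hP'
      rcases hP' with rfl | rfl
      · exact ⟨xA, sig0_xA⟩
      · exact ⟨xB, sig0_xB⟩
    | one => exact ⟨1, map_one _⟩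
    | mul a b ha hb iha ihb =>
      obtain ⟨γ, hγ⟩ := iha
      obtain ⟨δ, hδ⟩ := ihb
      exact ⟨γ * δ, by rw [map_mul, hγ, hδ]⟩
    | inv a ha iha =>
      obtain ⟨γ, hγ⟩ := iha
      exact ⟨γ⁻¹, by rw [map_inv, hγ]⟩
  obtain ⟨γ, hγ⟩ := key y hy
  exact ⟨γ, Subtype.ext hγ⟩

theorem card_ker_sig : Nat.card sig.ker = 2 := by
  have h1 := Subgroup.card_eq_card_quotient_mul_card_subgroup sig.ker
  have e := QuotientGroup.quotientKerEquivOfSurjective sig sig_surj
  rw [Nat.card_congr e.toEquiv, Cov_card, HS100_card] at h1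
  omega

/-! ### the central involution -/

/-- the first word -/
def w1 : List ℕ := [0, 0, 0, 0, 0, 1, 0, 0, 0, 0, 0, 1, 0, 0, 0, 0, 0, 1]

/-- the second word -/
def w2 : List ℕ := [1, 2, 1, 0, 0, 0, 0, 1, 0, 0, 1, 0, 0, 1]

/-- the commutator word -/
def wz : List ℕ := w1 ++ (w2 ++ (pgInvW 2 w1 ++ pgInvW 2 w2))

/-- the two elements and their commutator -/
def gX : Cov := ⟨pgWordPerm 804 hcvL1.own w1, pgWordPerm_mem hcvok w1⟩
def gY : Cov := ⟨pgWordPerm 804 hcvL1.own w2, pgWordPerm_mem hcvok w2⟩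
def zeta : Cov := ⟨pgWordPerm 804 hcvL1.own wz, pgWordPerm_mem hcvok wz⟩

theorem w1_lt : ∀ j ∈ w1, j < 2 * hcvL1.own.length := by decide
theorem w2_lt : ∀ j ∈ w2, j < 2 * hcvL1.own.length := by decide

theorem zeta_eq : zeta = ⁅gX, gY⁆ := by
  apply Subtype.ext
  show pgWordPerm 804 hcvL1.own wz = _
  have hl : hcvL1.own.length = 2 := rfl
  have e1 := pgInvW_perm hcvok w1 w1_lt
  have e2 := pgInvW_perm hcvok w2 w2_lt
  rw [hl] at e1 e2
  unfold wz
  rw [pgWordPerm_append, pgWordPerm_append, pgWordPerm_append, e1, e2,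
    commutatorElement_def]
  show _ = pgWordPerm 804 hcvL1.own w1 * pgWordPerm 804 hcvL1.own w2 *
    (pgWordPerm 804 hcvL1.own w1)⁻¹ * (pgWordPerm 804 hcvL1.own w2)⁻¹
  group

theorem zeta_fix : pgAll 100 (fun i => Nat.beq (pgEvalW hcvL1.own wz i) i) = true := by
  decide +kernel

theorem zeta_move : Nat.beq (pgEvalW hcvL1.own wz 100) 100 = false := by decide +kernel

theorem zeta_ker : zeta ∈ sig.ker := by
  rw [MonoidHom.mem_ker]
  apply Subtype.ext
  rw [sig_coe]
  apply Equiv.ext
  intro i
  apply Fin.ext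
  show ((res (Subgroup.inclusion Cov_le_Stab zeta)) i).1 = i.1
  rw [res_apply]
  show ((pgWordPerm 804 hcvL1.own wz) (emb i)).1 = i.1
  rw [pgWordPerm_apply hcvok]
  have := (pgAll_iff _ _).1 zeta_fix i.1 i.2
  rw [Nat.beq_eq] at this
  exact this

theorem zeta_ne : zeta ≠ 1 := by
  intro h
  have h1 : (zeta : Equiv.Perm (Fin 804)) = 1 := congrArg Subtype.val h
  have h2 : ((pgWordPerm 804 hcvL1.own wz) ⟨100, by norm_num⟩).1 = 100 := by
    have : pgWordPerm 804 hcvL1.own wz = 1 := h1
    rw [this]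
    rfl
  rw [pgWordPerm_apply hcvok] at h2
  have := zeta_move
  rw [← Bool.not_eq_true, Nat.beq_eq] at this
  exact this h2

theorem ker_cases (k : Cov) (hk : k ∈ sig.ker) : k = 1 ∨ k = zeta := by
  by_contra hne
  push Not at hne
  obtain ⟨y, hy1, hy2⟩ := (Nat.card_eq_two_iff' (1 : sig.ker)).mp card_ker_sig
  have h1 : (⟨k, hk⟩ : sig.ker) = y := hy2 _ (fun h => hne.1 (congrArg Subtype.val h))
  have h2 : (⟨zeta, zeta_ker⟩ : sig.ker) = y :=
    hy2 _ (fun h => zeta_ne (congrArg Subtype.val h))
  exact hne.2 (congrArg Subtype.val (h1.trans h2.symm))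

theorem sig_stem : Cfsg.IsStemExtension sig := by
  refine ⟨sig_surj, ?_, ?_⟩
  · intro k hk
    rw [Subgroup.mem_center_iff]
    intro g
    rcases ker_cases k hk with rfl | rfl
    · rw [mul_one, one_mul]
    · have hn : g * zeta * g⁻¹ ∈ sig.ker := (inferInstance : sig.ker.Normal).conj_mem _ zeta_ker g
      rcases ker_cases _ hn with h | h
      · exfalso
        apply zeta_ne
        have : zeta = g⁻¹ * (g * zeta * g⁻¹) * g := by group
        rw [this, h]
        group
      · calc g * zeta = (g * zeta * g⁻¹) * g := by group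
          _ = zeta * g := by rw [h]
  · intro k hk
    rcases ker_cases k hk with rfl | rfl
    · exact one_mem _
    · rw [zeta_eq, commutator_def]
      exact Subgroup.commutator_mem_commutator (Subgroup.mem_top _) (Subgroup.mem_top _)

/-- the Higman–Sims group on 100 points has a finite stem extension with kernel of order two -/
theorem exists_stem_two_HS100 : ∃ (Γ : Type) (_ : Group Γ) (_ : Finite Γ) (σ : Γ →* HSG),
    Cfsg.IsStemExtension σ ∧ Nat.card σ.ker = 2 :=
  ⟨↥Cov, inferInstance, inferInstance, sig, sig_stem, card_ker_sig⟩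

/-- the Higman–Sims group has a finite stem extension with kernel of order two -/
theorem exists_stem_two_HS : ∃ (Γ : Type) (_ : Group Γ) (_ : Finite Γ) (σ : Γ →* Cfsg.Spor.HS),
    Cfsg.IsStemExtension σ ∧ Nonempty (σ.ker ≃* Multiplicative (ZMod 2)) := by
  obtain ⟨e⟩ := HS100_equiv
  obtain ⟨Γ, iG, iF, σ, ⟨hsurj, hcen, hder⟩, hcard⟩ := exists_stem_two_HS100
  set σ' : Γ →* Cfsg.Spor.HS := e.toMonoidHom.comp σ with hσ'
  have hker : σ'.ker = σ.ker := by
    ext x
    rw [MonoidHom.mem_ker, MonoidHom.mem_ker, hσ', MonoidHom.comp_apply]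
    exact MulEquiv.map_eq_one_iff e
  refine ⟨Γ, iG, iF, σ', ⟨e.surjective.comp hsurj, ?_, ?_⟩, ?_⟩
  · rw [hker]; exact hcen
  · rw [hker]; exact hder
  · have : Fact (Nat.Prime 2) := ⟨Nat.prime_two⟩
    have hc : Nat.card σ'.ker = 2 := by rw [hker]; exact hcard
    have hcyc : IsCyclic σ'.ker := isCyclic_of_prime_card hc
    have e2 := zmodCyclicMulEquiv hcyc
    rw [hc] at e2
    exact ⟨e2.symm⟩

end Cfsg.Agent.Lib.Helper5.HsCov
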