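import Mathlib
import Cfsg.Agent.Lib.Helper5.HsMA
import Cfsg.Agent.Lib.Helper5.HsMData

set_option autoImplicit false

/-! Elements of the Higman–Sims group on 100 points given by words, with their coded permutations
(generated). -/

namespace Cfsg.Agent.Lib.Helper5.HsM

open Cfsg.Agent.Lib.helper23 Cfsg.Agent.Lib.Helper5.CP

/-- an element given by a word -/
noncomputable def l3 : HSG := [gB, gA, gA, gB, gA, gAi, gA, gAi, gAi, gAi, gB].prod

theorem rep_l3 : RepH Ul3 l3 :=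
  rep_word Ul3 [hsqT1x1, hsqT1x0, hsqT1x0, hsqT1x1, hsqT1x0, hsqI1x0, hsqT1x0, hsqI1x0, hsqI1x0, hsqI1x0, hsqT1x1] [gB, gA, gA, gB, gA, gAi, gA, gAi, gAi, gAi, gB]
    (List.Forall₂.cons rep_gB (List.Forall₂.cons rep_gA (List.Forall₂.cons rep_gA (List.Forall₂.cons rep_gB (List.Forall₂.cons rep_gA (List.Forall₂.cons rep_gAi (List.Forall₂.cons rep_gA (List.Forall₂.cons rep_gAi (List.Forall₂.cons rep_gAi (List.Forall₂.cons rep_gAi (List.Forall₂.cons rep_gB List.Forall₂.nil)))))))))))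
    (by decide +kernel)

/-- an element given by a word -/
noncomputable def l4 : HSG := [gB, gA, gA, gA, gAi, gA, gAi, gAi, gB, gA, gB, gAi, gAi, gB].prod

theorem rep_l4 : RepH Ul4 l4 :=
  rep_word Ul4 [hsqT1x1, hsqT1x0, hsqT1x0, hsqT1x0, hsqI1x0, hsqT1x0, hsqI1x0, hsqI1x0, hsqT1x1, hsqT1x0, hsqT1x1, hsqI1x0, hsqI1x0, hsqT1x1] [gB, gA, gA, gA, gAi, gA, gAi, gAi, gB, gA, gB, gAi, gAi, gB]
    (List.Forall₂.cons rep_gB (List.Forall₂.cons rep_gA (List.Forall₂.cons rep_gA (List.Forall₂.cons rep_gA (List.Forall₂.cons rep_gAi (List.Forall₂.cons rep_gA (List.Forall₂.cons rep_gAi (List.Forall₂.cons rep_gAi (List.Forall₂.cons rep_gB (List.Forall₂.cons rep_gA (List.Forall₂.cons rep_gB (List.Forall₂.cons rep_gAi (List.Forall₂.cons rep_gAi (List.Forall₂.cons rep_gB List.Forall₂.nil))))))))))))))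
    (by decide +kernel)

/-- an element given by a word -/
noncomputable def l5 : HSG := [gB, gA, gA, gB, gAi, gB, gA, gA, gAi, gA, gAi, gAi, gAi, gB].prod

theorem rep_l5 : RepH Ul5 l5 :=
  rep_word Ul5 [hsqT1x1, hsqT1x0, hsqT1x0, hsqT1x1, hsqI1x0, hsqT1x1, hsqT1x0, hsqT1x0, hsqI1x0, hsqT1x0, hsqI1x0, hsqI1x0, hsqI1x0, hsqT1x1] [gB, gA, gA, gB, gAi, gB, gA, gA, gAi, gA, gAi, gAi, gAi, gB]
    (List.Forall₂.cons rep_gB (List.Forall₂.cons rep_gA (List.Forall₂.cons rep_gA (List.Forall₂.cons rep_gB (List.Forall₂.cons rep_gAi (List.Forall₂.cons rep_gB (List.Forall₂.cons rep_gA (List.Forall₂.cons rep_gA (List.Forall₂.cons rep_gAi (List.Forall₂.cons rep_gA (List.Forall₂.cons rep_gAi (List.Forall₂.cons rep_gAi (List.Forall₂.cons rep_gAi (List.Forall₂.cons rep_gB List.Forall₂.nil))))))))))))))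
    (by decide +kernel)

/-- an element given by a word -/
noncomputable def l6 : HSG := [gA, gA, gB, gB, gAi, gA, gB, gAi, gB, gB].prod

theorem rep_l6 : RepH Ul6 l6 :=
  rep_word Ul6 [hsqT1x0, hsqT1x0, hsqT1x1, hsqT1x1, hsqI1x0, hsqT1x0, hsqT1x1, hsqI1x0, hsqT1x1, hsqT1x1] [gA, gA, gB, gB, gAi, gA, gB, gAi, gB, gB]
    (List.Forall₂.cons rep_gA (List.Forall₂.cons rep_gA (List.Forall₂.cons rep_gB (List.Forall₂.cons rep_gB (List.Forall₂.cons rep_gAi (List.Forall₂.cons rep_gA (List.Forall₂.cons rep_gB (List.Forall₂.cons rep_gAi (List.Forall₂.cons rep_gB (List.Forall₂.cons rep_gB List.Forall₂.nil))))))))))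
    (by decide +kernel)

/-- an element given by a word -/
noncomputable def l7 : HSG := [gB, gB, gA, gB, gAi, gA, gB, gB, gAi, gAi].prod

theorem rep_l7 : RepH Ul7 l7 :=
  rep_word Ul7 [hsqT1x1, hsqT1x1, hsqT1x0, hsqT1x1, hsqI1x0, hsqT1x0, hsqT1x1, hsqT1x1, hsqI1x0, hsqI1x0] [gB, gB, gA, gB, gAi, gA, gB, gB, gAi, gAi]
    (List.Forall₂.cons rep_gB (List.Forall₂.cons rep_gB (List.Forall₂.cons rep_gA (List.Forall₂.cons rep_gB (List.Forall₂.cons rep_gAi (List.Forall₂.cons rep_gA (List.Forall₂.cons rep_gB (List.Forall₂.cons rep_gB (List.Forall₂.cons rep_gAi (List.Forall₂.cons rep_gAi List.Forall₂.nil))))))))))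
    (by decide +kernel)

/-- an element given by a word -/
noncomputable def l8 : HSG := [l4, gAi, l7, gAi, l7, gAi, gB, gB, gA, gAi, gAi, gB, gAi, gB, gAi, gB, gA, gAi, gA].prod

theorem rep_l8 : RepH Ul8 l8 :=
  rep_word Ul8 [Ul4, hsqI1x0, Ul7, hsqI1x0, Ul7, hsqI1x0, hsqT1x1, hsqT1x1, hsqT1x0, hsqI1x0, hsqI1x0, hsqT1x1, hsqI1x0, hsqT1x1, hsqI1x0, hsqT1x1, hsqT1x0, hsqI1x0, hsqT1x0] [l4, gAi, l7, gAi, l7, gAi, gB, gB, gA, gAi, gAi, gB, gAi, gB, gAi, gB, gA, gAi, gA]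
    (List.Forall₂.cons rep_l4 (List.Forall₂.cons rep_gAi (List.Forall₂.cons rep_l7 (List.Forall₂.cons rep_gAi (List.Forall₂.cons rep_l7 (List.Forall₂.cons rep_gAi (List.Forall₂.cons rep_gB (List.Forall₂.cons rep_gB (List.Forall₂.cons rep_gA (List.Forall₂.cons rep_gAi (List.Forall₂.cons rep_gAi (List.Forall₂.cons rep_gB (List.Forall₂.cons rep_gAi (List.Forall₂.cons rep_gB (List.Forall₂.cons rep_gAi (List.Forall₂.cons rep_gB (List.Forall₂.cons rep_gA (List.Forall₂.cons rep_gAi (List.Forall₂.cons rep_gA List.Forall₂.nil)))))))))))))))))))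
    (by decide +kernel)

/-- an element given by a word -/
noncomputable def l9 : HSG := [gAi, gA, gAi, gB, gA, gB, gA, gB, gA, gA, gAi, gB, gB, gA, l6, gA, l6, gA, l5].prod

theorem rep_l9 : RepH Ul9 l9 :=
  rep_word Ul9 [hsqI1x0, hsqT1x0, hsqI1x0, hsqT1x1, hsqT1x0, hsqT1x1, hsqT1x0, hsqT1x1, hsqT1x0, hsqT1x0, hsqI1x0, hsqT1x1, hsqT1x1, hsqT1x0, Ul6, hsqT1x0, Ul6, hsqT1x0, Ul5] [gAi, gA, gAi, gB, gA, gB, gA, gB, gA, gA, gAi, gB, gB, gA, l6, gA, l6, gA, l5]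
    (List.Forall₂.cons rep_gAi (List.Forall₂.cons rep_gA (List.Forall₂.cons rep_gAi (List.Forall₂.cons rep_gB (List.Forall₂.cons rep_gA (List.Forall₂.cons rep_gB (List.Forall₂.cons rep_gA (List.Forall₂.cons rep_gB (List.Forall₂.cons rep_gA (List.Forall₂.cons rep_gA (List.Forall₂.cons rep_gAi (List.Forall₂.cons rep_gB (List.Forall₂.cons rep_gB (List.Forall₂.cons rep_gA (List.Forall₂.cons rep_l6 (List.Forall₂.cons rep_gA (List.Forall₂.cons rep_l6 (List.Forall₂.cons rep_gA (List.Forall₂.cons rep_l5 List.Forall₂.nil)))))))))))))))))))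
    (by decide +kernel)

/-- an element given by a word -/
noncomputable def l10 : HSG := [l7, l9, gAi, l8, l4, gAi, gB, gA, gAi, gB, gB, gB, gB, gAi, gA, gAi, gB].prod

theorem rep_l10 : RepH Ul10 l10 :=
  rep_word Ul10 [Ul7, Ul9, hsqI1x0, Ul8, Ul4, hsqI1x0, hsqT1x1, hsqT1x0, hsqI1x0, hsqT1x1, hsqT1x1, hsqT1x1, hsqT1x1, hsqI1x0, hsqT1x0, hsqI1x0, hsqT1x1] [l7, l9, gAi, l8, l4, gAi, gB, gA, gAi, gB, gB, gB, gB, gAi, gA, gAi, gB]
    (List.Forall₂.cons rep_l7 (List.Forall₂.cons rep_l9 (List.Forall₂.cons rep_gAi (List.Forall₂.cons rep_l8 (List.Forall₂.cons rep_l4 (List.Forall₂.cons rep_gAi (List.Forall₂.cons rep_gB (List.Forall₂.cons rep_gA (List.Forall₂.cons rep_gAi (List.Forall₂.cons rep_gB (List.Forall₂.cons rep_gB (List.Forall₂.cons rep_gB (List.Forall₂.cons rep_gB (List.Forall₂.cons rep_gAi (List.Forall₂.cons rep_gA (List.Forall₂.cons rep_gAi (List.Forall₂.cons rep_gB List.Forall₂.nil)))))))))))))))))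
    (by decide +kernel)

/-- an element given by a word -/
noncomputable def l11 : HSG := [gB, gA, gAi, gA, gB, gB, gB, gB, gA, gAi, gB, gA, l5, l9, gA, l8, l6].prod

theorem rep_l11 : RepH Ul11 l11 :=
  rep_word Ul11 [hsqT1x1, hsqT1x0, hsqI1x0, hsqT1x0, hsqT1x1, hsqT1x1, hsqT1x1, hsqT1x1, hsqT1x0, hsqI1x0, hsqT1x1, hsqT1x0, Ul5, Ul9, hsqT1x0, Ul8, Ul6] [gB, gA, gAi, gA, gB, gB, gB, gB, gA, gAi, gB, gA, l5, l9, gA, l8, l6]
    (List.Forall₂.cons rep_gB (List.Forall₂.cons rep_gA (List.Forall₂.cons rep_gAi (List.Forall₂.cons rep_gA (List.Forall₂.cons rep_gB (List.Forall₂.cons rep_gB (List.Forall₂.cons rep_gB (List.Forall₂.cons rep_gB (List.Forall₂.cons rep_gA (List.Forall₂.cons rep_gAi (List.Forall₂.cons rep_gB (List.Forall₂.cons rep_gA (List.Forall₂.cons rep_l5 (List.Forall₂.cons rep_l9 (List.Forall₂.cons rep_gA (List.Forall₂.cons rep_l8 (List.Forall₂.cons rep_l6 List.Forall₂.nil)))))))))))))))))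
    (by decide +kernel)

/-- an element given by a word -/
noncomputable def l12 : HSG := [l9, l10, l9, l10, l3, l6, l8, gB, l4, gA, gA, gB, gAi, gAi, gAi, gB, gA, gAi, gA, gAi, gB, gB, gB].prod

theorem rep_l12 : RepH Ul12 l12 :=
  rep_word Ul12 [Ul9, Ul10, Ul9, Ul10, Ul3, Ul6, Ul8, hsqT1x1, Ul4, hsqT1x0, hsqT1x0, hsqT1x1, hsqI1x0, hsqI1x0, hsqI1x0, hsqT1x1, hsqT1x0, hsqI1x0, hsqT1x0, hsqI1x0, hsqT1x1, hsqT1x1, hsqT1x1] [l9, l10, l9, l10, l3, l6, l8, gB, l4, gA, gA, gB, gAi, gAi, gAi, gB, gA, gAi, gA, gAi, gB, gB, gB]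
    (List.Forall₂.cons rep_l9 (List.Forall₂.cons rep_l10 (List.Forall₂.cons rep_l9 (List.Forall₂.cons rep_l10 (List.Forall₂.cons rep_l3 (List.Forall₂.cons rep_l6 (List.Forall₂.cons rep_l8 (List.Forall₂.cons rep_gB (List.Forall₂.cons rep_l4 (List.Forall₂.cons rep_gA (List.Forall₂.cons rep_gA (List.Forall₂.cons rep_gB (List.Forall₂.cons rep_gAi (List.Forall₂.cons rep_gAi (List.Forall₂.cons rep_gAi (List.Forall₂.cons rep_gB (List.Forall₂.cons rep_gA (List.Forall₂.cons rep_gAi (List.Forall₂.cons rep_gA (List.Forall₂.cons rep_gAi (List.Forall₂.cons rep_gB (List.Forall₂.cons rep_gB (List.Forall₂.cons rep_gB List.Forall₂.nil)))))))))))))))))))))))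
    (by decide +kernel)

/-- an element given by a word -/
noncomputable def l13 : HSG := [gB, gB, gB, gA, gAi, gA, gAi, gB, gA, gA, gA, gB, gAi, gAi, l5, gB, l9, l7, l3, l11, l8, l11, l8].prod

theorem rep_l13 : RepH Ul13 l13 :=
  rep_word Ul13 [hsqT1x1, hsqT1x1, hsqT1x1, hsqT1x0, hsqI1x0, hsqT1x0, hsqI1x0, hsqT1x1, hsqT1x0, hsqT1x0, hsqT1x0, hsqT1x1, hsqI1x0, hsqI1x0, Ul5, hsqT1x1, Ul9, Ul7, Ul3, Ul11, Ul8, Ul11, Ul8] [gB, gB, gB, gA, gAi, gA, gAi, gB, gA, gA, gA, gB, gAi, gAi, l5, gB, l9, l7, l3, l11, l8, l11, l8]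
    (List.Forall₂.cons rep_gB (List.Forall₂.cons rep_gB (List.Forall₂.cons rep_gB (List.Forall₂.cons rep_gA (List.Forall₂.cons rep_gAi (List.Forall₂.cons rep_gA (List.Forall₂.cons rep_gAi (List.Forall₂.cons rep_gB (List.Forall₂.cons rep_gA (List.Forall₂.cons rep_gA (List.Forall₂.cons rep_gA (List.Forall₂.cons rep_gB (List.Forall₂.cons rep_gAi (List.Forall₂.cons rep_gAi (List.Forall₂.cons rep_l5 (List.Forall₂.cons rep_gB (List.Forall₂.cons rep_l9 (List.Forall₂.cons rep_l7 (List.Forall₂.cons rep_l3 (List.Forall₂.cons rep_l11 (List.Forall₂.cons rep_l8 (List.Forall₂.cons rep_l11 (List.Forall₂.cons rep_l8 List.Forall₂.nil)))))))))))))))))))))))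
    (by decide +kernel)

/-- an element given by a word -/
noncomputable def l14 : HSG := [l11, l8, l4, l7, gAi, l7, gAi, gAi, gB, gA, gA, gB, gA, gA, gA, gB, gB, gA, gAi, gB].prod

theorem rep_l14 : RepH Ul14 l14 :=
  rep_word Ul14 [Ul11, Ul8, Ul4, Ul7, hsqI1x0, Ul7, hsqI1x0, hsqI1x0, hsqT1x1, hsqT1x0, hsqT1x0, hsqT1x1, hsqT1x0, hsqT1x0, hsqT1x0, hsqT1x1, hsqT1x1, hsqT1x0, hsqI1x0, hsqT1x1] [l11, l8, l4, l7, gAi, l7, gAi, gAi, gB, gA, gA, gB, gA, gA, gA, gB, gB, gA, gAi, gB]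
    (List.Forall₂.cons rep_l11 (List.Forall₂.cons rep_l8 (List.Forall₂.cons rep_l4 (List.Forall₂.cons rep_l7 (List.Forall₂.cons rep_gAi (List.Forall₂.cons rep_l7 (List.Forall₂.cons rep_gAi (List.Forall₂.cons rep_gAi (List.Forall₂.cons rep_gB (List.Forall₂.cons rep_gA (List.Forall₂.cons rep_gA (List.Forall₂.cons rep_gB (List.Forall₂.cons rep_gA (List.Forall₂.cons rep_gA (List.Forall₂.cons rep_gA (List.Forall₂.cons rep_gB (List.Forall₂.cons rep_gB (List.Forall₂.cons rep_gA (List.Forall₂.cons rep_gAi (List.Forall₂.cons rep_gB List.Forall₂.nil))))))))))))))))))))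
    (by decide +kernel)

/-- an element given by a word -/
noncomputable def l15 : HSG := [l13, l13, l9, l10, l5, gB, l8, gB, gAi, gAi, gAi, gB, gB, gB, gB, gA, gAi, gB].prod

theorem rep_l15 : RepH Ul15 l15 :=
  rep_word Ul15 [Ul13, Ul13, Ul9, Ul10, Ul5, hsqT1x1, Ul8, hsqT1x1, hsqI1x0, hsqI1x0, hsqI1x0, hsqT1x1, hsqT1x1, hsqT1x1, hsqT1x1, hsqT1x0, hsqI1x0, hsqT1x1] [l13, l13, l9, l10, l5, gB, l8, gB, gAi, gAi, gAi, gB, gB, gB, gB, gA, gAi, gB]
    (List.Forall₂.cons rep_l13 (List.Forall₂.cons rep_l13 (List.Forall₂.cons rep_l9 (List.Forall₂.cons rep_l10 (List.Forall₂.cons rep_l5 (List.Forall₂.cons rep_gB (List.Forall₂.cons rep_l8 (List.Forall₂.cons rep_gB (List.Forall₂.cons rep_gAi (List.Forall₂.cons rep_gAi (List.Forall₂.cons rep_gAi (List.Forall₂.cons rep_gB (List.Forall₂.cons rep_gB (List.Forall₂.cons rep_gB (List.Forall₂.cons rep_gB (List.Forall₂.cons rep_gA (List.Forall₂.cons rep_gAi (List.Forall₂.cons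 rep_gB List.Forall₂.nil))))))))))))))))))
    (by decide +kernel)

/-- an element given by a word -/
noncomputable def l16 : HSG := [gB, gA, gAi, gB, gB, gB, gB, gA, gA, gA, gB, l9, gB, l4, l11, l8, l12, l12].prod

theorem rep_l16 : RepH Ul16 l16 :=
  rep_word Ul16 [hsqT1x1, hsqT1x0, hsqI1x0, hsqT1x1, hsqT1x1, hsqT1x1, hsqT1x1, hsqT1x0, hsqT1x0, hsqT1x0, hsqT1x1, Ul9, hsqT1x1, Ul4, Ul11, Ul8, Ul12, Ul12] [gB, gA, gAi, gB, gB, gB, gB, gA, gA, gA, gB, l9, gB, l4, l11, l8, l12, l12]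
    (List.Forall₂.cons rep_gB (List.Forall₂.cons rep_gA (List.Forall₂.cons rep_gAi (List.Forall₂.cons rep_gB (List.Forall₂.cons rep_gB (List.Forall₂.cons rep_gB (List.Forall₂.cons rep_gB (List.Forall₂.cons rep_gA (List.Forall₂.cons rep_gA (List.Forall₂.cons rep_gA (List.Forall₂.cons rep_gB (List.Forall₂.cons rep_l9 (List.Forall₂.cons rep_gB (List.Forall₂.cons rep_l4 (List.Forall₂.cons rep_l11 (List.Forall₂.cons rep_l8 (List.Forall₂.cons rep_l12 (List.Forall₂.cons rep_l12 List.Forall₂.nil))))))))))))))))))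
    (by decide +kernel)

/-- an element given by a word -/
noncomputable def l17 : HSG := [l13, l15, l13, l9, l10, l3, gA, gB, gB, gA, gAi, gA, gAi, gAi, gB, gB, gA, gB, gAi, gAi].prod

theorem rep_l17 : RepH Ul17 l17 :=
  rep_word Ul17 [Ul13, Ul15, Ul13, Ul9, Ul10, Ul3, hsqT1x0, hsqT1x1, hsqT1x1, hsqT1x0, hsqI1x0, hsqT1x0, hsqI1x0, hsqI1x0, hsqT1x1, hsqT1x1, hsqT1x0, hsqT1x1, hsqI1x0, hsqI1x0] [l13, l15, l13, l9, l10, l3, gA, gB, gB, gA, gAi, gA, gAi, gAi, gB, gB, gA, gB, gAi, gAi]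
    (List.Forall₂.cons rep_l13 (List.Forall₂.cons rep_l15 (List.Forall₂.cons rep_l13 (List.Forall₂.cons rep_l9 (List.Forall₂.cons rep_l10 (List.Forall₂.cons rep_l3 (List.Forall₂.cons rep_gA (List.Forall₂.cons rep_gB (List.Forall₂.cons rep_gB (List.Forall₂.cons rep_gA (List.Forall₂.cons rep_gAi (List.Forall₂.cons rep_gA (List.Forall₂.cons rep_gAi (List.Forall₂.cons rep_gAi (List.Forall₂.cons rep_gB (List.Forall₂.cons rep_gB (List.Forall₂.cons rep_gA (List.Forall₂.cons rep_gB (List.Forall₂.cons rep_gAi (List.Forall₂.cons rep_gAi List.Forall₂.nil))))))))))))))))))))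
    (by decide +kernel)

/-- an element given by a word -/
noncomputable def l18 : HSG := [l15, l13, l14, l15, l8, l3, l5, l9, gAi, l7, gAi, gB, gA, gB, gB, gA, gA, gB, gAi, gA].prod

theorem rep_l18 : RepH Ul18 l18 :=
  rep_word Ul18 [Ul15, Ul13, Ul14, Ul15, Ul8, Ul3, Ul5, Ul9, hsqI1x0, Ul7, hsqI1x0, hsqT1x1, hsqT1x0, hsqT1x1, hsqT1x1, hsqT1x0, hsqT1x0, hsqT1x1, hsqI1x0, hsqT1x0] [l15, l13, l14, l15, l8, l3, l5, l9, gAi, l7, gAi, gB, gA, gB, gB, gA, gA, gB, gAi, gA]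
    (List.Forall₂.cons rep_l15 (List.Forall₂.cons rep_l13 (List.Forall₂.cons rep_l14 (List.Forall₂.cons rep_l15 (List.Forall₂.cons rep_l8 (List.Forall₂.cons rep_l3 (List.Forall₂.cons rep_l5 (List.Forall₂.cons rep_l9 (List.Forall₂.cons rep_gAi (List.Forall₂.cons rep_l7 (List.Forall₂.cons rep_gAi (List.Forall₂.cons rep_gB (List.Forall₂.cons rep_gA (List.Forall₂.cons rep_gB (List.Forall₂.cons rep_gB (List.Forall₂.cons rep_gA (List.Forall₂.cons rep_gA (List.Forall₂.cons rep_gB (List.Forall₂.cons rep_gAi (List.Forall₂.cons rep_gA List.Forall₂.nil))))))))))))))))))))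
    (by decide +kernel)

/-- an element given by a word -/
noncomputable def l19 : HSG := [l13, l15, l13, l9, l15, gAi, l9, gAi, l13, gB, gA, gB, gAi, gB, gB, gAi, gAi, gB, gAi].prod

theorem rep_l19 : RepH Ul19 l19 :=
  rep_word Ul19 [Ul13, Ul15, Ul13, Ul9, Ul15, hsqI1x0, Ul9, hsqI1x0, Ul13, hsqT1x1, hsqT1x0, hsqT1x1, hsqI1x0, hsqT1x1, hsqT1x1, hsqI1x0, hsqI1x0, hsqT1x1, hsqI1x0] [l13, l15, l13, l9, l15, gAi, l9, gAi, l13, gB, gA, gB, gAi, gB, gB, gAi, gAi, gB, gAi]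
    (List.Forall₂.cons rep_l13 (List.Forall₂.cons rep_l15 (List.Forall₂.cons rep_l13 (List.Forall₂.cons rep_l9 (List.Forall₂.cons rep_l15 (List.Forall₂.cons rep_gAi (List.Forall₂.cons rep_l9 (List.Forall₂.cons rep_gAi (List.Forall₂.cons rep_l13 (List.Forall₂.cons rep_gB (List.Forall₂.cons rep_gA (List.Forall₂.cons rep_gB (List.Forall₂.cons rep_gAi (List.Forall₂.cons rep_gB (List.Forall₂.cons rep_gB (List.Forall₂.cons rep_gAi (List.Forall₂.cons rep_gAi (List.Forall₂.cons rep_gB (List.Forall₂.cons rep_gAi List.Forall₂.nil)))))))))))))))))))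
    (by decide +kernel)

/-- an element given by a word -/
noncomputable def l20 : HSG := [l13, l13, l14, l9, l15, l3, l8, gAi, gB, l11, gB, gAi, gA, gA, gB, gA, gB, gA, gB, gAi, gA, gB].prod

theorem rep_l20 : RepH Ul20 l20 :=
  rep_word Ul20 [Ul13, Ul13, Ul14, Ul9, Ul15, Ul3, Ul8, hsqI1x0, hsqT1x1, Ul11, hsqT1x1, hsqI1x0, hsqT1x0, hsqT1x0, hsqT1x1, hsqT1x0, hsqT1x1, hsqT1x0, hsqT1x1, hsqI1x0, hsqT1x0, hsqT1x1] [l13, l13, l14, l9, l15, l3, l8, gAi, gB, l11, gB, gAi, gA, gA, gB, gA, gB, gA, gB, gAi, gA, gB]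
    (List.Forall₂.cons rep_l13 (List.Forall₂.cons rep_l13 (List.Forall₂.cons rep_l14 (List.Forall₂.cons rep_l9 (List.Forall₂.cons rep_l15 (List.Forall₂.cons rep_l3 (List.Forall₂.cons rep_l8 (List.Forall₂.cons rep_gAi (List.Forall₂.cons rep_gB (List.Forall₂.cons rep_l11 (List.Forall₂.cons rep_gB (List.Forall₂.cons rep_gAi (List.Forall₂.cons rep_gA (List.Forall₂.cons rep_gA (List.Forall₂.cons rep_gB (List.Forall₂.cons rep_gA (List.Forall₂.cons rep_gB (List.Forall₂.cons rep_gA (List.Forall₂.cons rep_gB (List.Forall₂.cons rep_gAi (List.Forall₂.cons rep_gA (List.Forall₂.cons rep_gB List.Forall₂.nil))))))))))))))))))))))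
    (by decide +kernel)

/-- an element given by a word -/
noncomputable def g0 : HSG := [gB, l14, gAi, l17, l3, l13, l9, l15, l13, l16, l20, l18].prod

theorem rep_g0 : RepH Ug0 g0 :=
  rep_word Ug0 [hsqT1x1, Ul14, hsqI1x0, Ul17, Ul3, Ul13, Ul9, Ul15, Ul13, Ul16, Ul20, Ul18] [gB, l14, gAi, l17, l3, l13, l9, l15, l13, l16, l20, l18]
    (List.Forall₂.cons rep_gB (List.Forall₂.cons rep_l14 (List.Forall₂.cons rep_gAi (List.Forall₂.cons rep_l17 (List.Forall₂.cons rep_l3 (List.Forall₂.cons rep_l13 (List.Forall₂.cons rep_l9 (List.Forall₂.cons rep_l15 (List.Forall₂.cons rep_l13 (List.Forall₂.cons rep_l16 (List.Forall₂.cons rep_l20 (List.Forall₂.cons rep_l18 List.Forall₂.nil))))))))))))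
    (by decide +kernel)

/-- an element given by a word -/
noncomputable def g1 : HSG := [l4, l3, l8, l10, l12, l16, l18, l17].prod

theorem rep_g1 : RepH Ug1 g1 :=
  rep_word Ug1 [Ul4, Ul3, Ul8, Ul10, Ul12, Ul16, Ul18, Ul17] [l4, l3, l8, l10, l12, l16, l18, l17]
    (List.Forall₂.cons rep_l4 (List.Forall₂.cons rep_l3 (List.Forall₂.cons rep_l8 (List.Forall₂.cons rep_l10 (List.Forall₂.cons rep_l12 (List.Forall₂.cons rep_l16 (List.Forall₂.cons rep_l18 (List.Forall₂.cons rep_l17 List.Forall₂.nil))))))))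
    (by decide +kernel)

/-- an element given by a word -/
noncomputable def g2 : HSG := [gA, gB, l6, gA, l18, l3, l18, l8, l19, l18, l17].prod

theorem rep_g2 : RepH Ug2 g2 :=
  rep_word Ug2 [hsqT1x0, hsqT1x1, Ul6, hsqT1x0, Ul18, Ul3, Ul18, Ul8, Ul19, Ul18, Ul17] [gA, gB, l6, gA, l18, l3, l18, l8, l19, l18, l17]
    (List.Forall₂.cons rep_gA (List.Forall₂.cons rep_gB (List.Forall₂.cons rep_l6 (List.Forall₂.cons rep_gA (List.Forall₂.cons rep_l18 (List.Forall₂.cons rep_l3 (List.Forall₂.cons rep_l18 (List.Forall₂.cons rep_l8 (List.Forall₂.cons rep_l19 (List.Forall₂.cons rep_l18 (List.Forall₂.cons rep_l17 List.Forall₂.nil)))))))))))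
    (by decide +kernel)

/-- an element given by a word -/
noncomputable def g3 : HSG := [l7, l3, l13, l10, l16, l14, l12, l19, l17].prod

theorem rep_g3 : RepH Ug3 g3 :=
  rep_word Ug3 [Ul7, Ul3, Ul13, Ul10, Ul16, Ul14, Ul12, Ul19, Ul17] [l7, l3, l13, l10, l16, l14, l12, l19, l17]
    (List.Forall₂.cons rep_l7 (List.Forall₂.cons rep_l3 (List.Forall₂.cons rep_l13 (List.Forall₂.cons rep_l10 (List.Forall₂.cons rep_l16 (List.Forall₂.cons rep_l14 (List.Forall₂.cons rep_l12 (List.Forall₂.cons rep_l19 (List.Forall₂.cons rep_l17 List.Forall₂.nil)))))))))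
    (by decide +kernel)

/-- an element given by a word -/
noncomputable def g4 : HSG := [l20, l3, l16, l8, l15, l20, l19, l18].prod

theorem rep_g4 : RepH Ug4 g4 :=
  rep_word Ug4 [Ul20, Ul3, Ul16, Ul8, Ul15, Ul20, Ul19, Ul18] [l20, l3, l16, l8, l15, l20, l19, l18]
    (List.Forall₂.cons rep_l20 (List.Forall₂.cons rep_l3 (List.Forall₂.cons rep_l16 (List.Forall₂.cons rep_l8 (List.Forall₂.cons rep_l15 (List.Forall₂.cons rep_l20 (List.Forall₂.cons rep_l19 (List.Forall₂.cons rep_l18 List.Forall₂.nil))))))))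
    (by decide +kernel)

/-- an element given by a word -/
noncomputable def g5 : HSG := [gB, l6, gA, l8, l4, l10, l19, l15, l12, l15, l19, l18].prod

theorem rep_g5 : RepH Ug5 g5 :=
  rep_word Ug5 [hsqT1x1, Ul6, hsqT1x0, Ul8, Ul4, Ul10, Ul19, Ul15, Ul12, Ul15, Ul19, Ul18] [gB, l6, gA, l8, l4, l10, l19, l15, l12, l15, l19, l18]
    (List.Forall₂.cons rep_gB (List.Forall₂.cons rep_l6 (List.Forall₂.cons rep_gA (List.Forall₂.cons rep_l8 (List.Forall₂.cons rep_l4 (List.Forall₂.cons rep_l10 (List.Forall₂.cons rep_l19 (List.Forall₂.cons rep_l15 (List.Forall₂.cons rep_l12 (List.Forall₂.cons rep_l15 (List.Forall₂.cons rep_l19 (List.Forall₂.cons rep_l18 List.Forall₂.nil))))))))))))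
    (by decide +kernel)

/-- an element given by a word -/
noncomputable def g6 : HSG := [gA, gA, l7, l3, l19, l8, l16, l14, l12, l15, l20].prod

theorem rep_g6 : RepH Ug6 g6 :=
  rep_word Ug6 [hsqT1x0, hsqT1x0, Ul7, Ul3, Ul19, Ul8, Ul16, Ul14, Ul12, Ul15, Ul20] [gA, gA, l7, l3, l19, l8, l16, l14, l12, l15, l20]
    (List.Forall₂.cons rep_gA (List.Forall₂.cons rep_gA (List.Forall₂.cons rep_l7 (List.Forall₂.cons rep_l3 (List.Forall₂.cons rep_l19 (List.Forall₂.cons rep_l8 (List.Forall₂.cons rep_l16 (List.Forall₂.cons rep_l14 (List.Forall₂.cons rep_l12 (List.Forall₂.cons rep_l15 (List.Forall₂.cons rep_l20 List.Forall₂.nil)))))))))))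
    (by decide +kernel)

/-- an element given by a word -/
noncomputable def g7 : HSG := [gAi, l14, gB, gA, l13, l3, l13, l9, l19, l17].prod

theorem rep_g7 : RepH Ug7 g7 :=
  rep_word Ug7 [hsqI1x0, Ul14, hsqT1x1, hsqT1x0, Ul13, Ul3, Ul13, Ul9, Ul19, Ul17] [gAi, l14, gB, gA, l13, l3, l13, l9, l19, l17]
    (List.Forall₂.cons rep_gAi (List.Forall₂.cons rep_l14 (List.Forall₂.cons rep_gB (List.Forall₂.cons rep_gA (List.Forall₂.cons rep_l13 (List.Forall₂.cons rep_l3 (List.Forall₂.cons rep_l13 (List.Forall₂.cons rep_l9 (List.Forall₂.cons rep_l19 (List.Forall₂.cons rep_l17 List.Forall₂.nil))))))))))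
    (by decide +kernel)

/-- an element given by a word -/
noncomputable def g8 : HSG := [gB].prod

theorem rep_g8 : RepH Ug8 g8 :=
  rep_word Ug8 [hsqT1x1] [gB]
    (List.Forall₂.cons rep_gB List.Forall₂.nil)
    (by decide +kernel)

/-- an element given by a word -/
noncomputable def q2 : HSG := [gAi, gB, gAi, gB, gA, gA, gA, gB, gAi, gAi, gAi, gAi, gAi, gB, gA, gA].prod

theorem rep_q2 : RepH Uq2 q2 :=
  rep_word Uq2 [hsqI1x0, hsqT1x1, hsqI1x0, hsqT1x1, hsqT1x0, hsqT1x0, hsqT1x0, hsqT1x1, hsqI1x0, hsqI1x0, hsqI1x0, hsqI1x0, hsqI1x0, hsqT1x1, hsqT1x0, hsqT1x0] [gAi, gB, gAi, gB, gA, gA, gA, gB, gAi, gAi, gAi, gAi, gAi, gB, gA, gA]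
    (List.Forall₂.cons rep_gAi (List.Forall₂.cons rep_gB (List.Forall₂.cons rep_gAi (List.Forall₂.cons rep_gB (List.Forall₂.cons rep_gA (List.Forall₂.cons rep_gA (List.Forall₂.cons rep_gA (List.Forall₂.cons rep_gB (List.Forall₂.cons rep_gAi (List.Forall₂.cons rep_gAi (List.Forall₂.cons rep_gAi (List.Forall₂.cons rep_gAi (List.Forall₂.cons rep_gAi (List.Forall₂.cons rep_gB (List.Forall₂.cons rep_gA (List.Forall₂.cons rep_gA List.Forall₂.nil))))))))))))))))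
    (by decide +kernel)

/-- an element given by a word -/
noncomputable def q3 : HSG := [gAi, gB, gA, gA, gB, gAi, gB, gA, gA, gB, gAi, gAi].prod

theorem rep_q3 : RepH Uq3 q3 :=
  rep_word Uq3 [hsqI1x0, hsqT1x1, hsqT1x0, hsqT1x0, hsqT1x1, hsqI1x0, hsqT1x1, hsqT1x0, hsqT1x0, hsqT1x1, hsqI1x0, hsqI1x0] [gAi, gB, gA, gA, gB, gAi, gB, gA, gA, gB, gAi, gAi]
    (List.Forall₂.cons rep_gAi (List.Forall₂.cons rep_gB (List.Forall₂.cons rep_gA (List.Forall₂.cons rep_gA (List.Forall₂.cons rep_gB (List.Forall₂.cons rep_gAi (List.Forall₂.cons rep_gB (List.Forall₂.cons rep_gA (List.Forall₂.cons rep_gA (List.Forall₂.cons rep_gB (List.Forall₂.cons rep_gAi (List.Forall₂.cons rep_gAi List.Forall₂.nil))))))))))))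
    (by decide +kernel)

/-- an element given by a word -/
noncomputable def q4 : HSG := [gAi, gB, gAi, gAi, gAi, gAi, gAi, gB, gAi, gB, gA, gA, gA].prod

theorem rep_q4 : RepH Uq4 q4 :=
  rep_word Uq4 [hsqI1x0, hsqT1x1, hsqI1x0, hsqI1x0, hsqI1x0, hsqI1x0, hsqI1x0, hsqT1x1, hsqI1x0, hsqT1x1, hsqT1x0, hsqT1x0, hsqT1x0] [gAi, gB, gAi, gAi, gAi, gAi, gAi, gB, gAi, gB, gA, gA, gA]
    (List.Forall₂.cons rep_gAi (List.Forall₂.cons rep_gB (List.Forall₂.cons rep_gAi (List.Forall₂.cons rep_gAi (List.Forall₂.cons rep_gAi (List.Forall₂.cons rep_gAi (List.Forall₂.cons rep_gAi (List.Forall₂.cons rep_gB (List.Forall₂.cons rep_gAi (List.Forall₂.cons rep_gB (List.Forall₂.cons rep_gA (List.Forall₂.cons rep_gA (List.Forall₂.cons rep_gA List.Forall₂.nil)))))))))))))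
    (by decide +kernel)

/-- an element given by a word -/
noncomputable def q17 : HSG := [gAi, gB, gA, gA, gB, gAi, gB, gA, gB, gAi, gAi, gAi, gB, gA].prod

theorem rep_q17 : RepH Uq17 q17 :=
  rep_word Uq17 [hsqI1x0, hsqT1x1, hsqT1x0, hsqT1x0, hsqT1x1, hsqI1x0, hsqT1x1, hsqT1x0, hsqT1x1, hsqI1x0, hsqI1x0, hsqI1x0, hsqT1x1, hsqT1x0] [gAi, gB, gA, gA, gB, gAi, gB, gA, gB, gAi, gAi, gAi, gB, gA]
    (List.Forall₂.cons rep_gAi (List.Forall₂.cons rep_gB (List.Forall₂.cons rep_gA (List.Forall₂.cons rep_gA (List.Forall₂.cons rep_gB (List.Forall₂.cons rep_gAi (List.Forall₂.cons rep_gB (List.Forall₂.cons rep_gA (List.Forall₂.cons rep_gB (List.Forall₂.cons rep_gAi (List.Forall₂.cons rep_gAi (List.Forall₂.cons rep_gAi (List.Forall₂.cons rep_gB (List.Forall₂.cons rep_gA List.Forall₂.nil))))))))))))))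
    (by decide +kernel)

/-- an element given by a word -/
noncomputable def q57 : HSG := [gAi, gAi, gAi, gB, gA, gA, gB, gAi, gB, gA, gA, gB, gA].prod

theorem rep_q57 : RepH Uq57 q57 :=
  rep_word Uq57 [hsqI1x0, hsqI1x0, hsqI1x0, hsqT1x1, hsqT1x0, hsqT1x0, hsqT1x1, hsqI1x0, hsqT1x1, hsqT1x0, hsqT1x0, hsqT1x1, hsqT1x0] [gAi, gAi, gAi, gB, gA, gA, gB, gAi, gB, gA, gA, gB, gA]
    (List.Forall₂.cons rep_gAi (List.Forall₂.cons rep_gAi (List.Forall₂.cons rep_gAi (List.Forall₂.cons rep_gB (List.Forall₂.cons rep_gA (List.Forall₂.cons rep_gA (List.Forall₂.cons rep_gB (List.Forall₂.cons rep_gAi (List.Forall₂.cons rep_gB (List.Forall₂.cons rep_gA (List.Forall₂.cons rep_gA (List.Forall₂.cons rep_gB (List.Forall₂.cons rep_gA List.Forall₂.nil)))))))))))))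
    (by decide +kernel)

/-- an element given by a word -/
noncomputable def qb : HSG := [gAi, gB, gAi, gAi, gAi, gAi, gAi, gB, gAi, gB, gA, gA, gA].prod

theorem rep_qb : RepH Uqb qb :=
  rep_word Uqb [hsqI1x0, hsqT1x1, hsqI1x0, hsqI1x0, hsqI1x0, hsqI1x0, hsqI1x0, hsqT1x1, hsqI1x0, hsqT1x1, hsqT1x0, hsqT1x0, hsqT1x0] [gAi, gB, gAi, gAi, gAi, gAi, gAi, gB, gAi, gB, gA, gA, gA]
    (List.Forall₂.cons rep_gAi (List.Forall₂.cons rep_gB (List.Forall₂.cons rep_gAi (List.Forall₂.cons rep_gAi (List.Forall₂.cons rep_gAi (List.Forall₂.cons rep_gAi (List.Forall₂.cons rep_gAi (List.Forall₂.cons rep_gB (List.Forall₂.cons rep_gAi (List.Forall₂.cons rep_gB (List.Forall₂.cons rep_gA (List.Forall₂.cons rep_gA (List.Forall₂.cons rep_gA List.Forall₂.nil)))))))))))))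
    (by decide +kernel)

/-- an element given by a word -/
noncomputable def qc : HSG := [gAi, gB, gA, gA, gA, gB, gA, gA, gA, gA, gA, gB, gA].prod

theorem rep_qc : RepH Uqc qc :=
  rep_word Uqc [hsqI1x0, hsqT1x1, hsqT1x0, hsqT1x0, hsqT1x0, hsqT1x1, hsqT1x0, hsqT1x0, hsqT1x0, hsqT1x0, hsqT1x0, hsqT1x1, hsqT1x0] [gAi, gB, gA, gA, gA, gB, gA, gA, gA, gA, gA, gB, gA]
    (List.Forall₂.cons rep_gAi (List.Forall₂.cons rep_gB (List.Forall₂.cons rep_gA (List.Forall₂.cons rep_gA (List.Forall₂.cons rep_gA (List.Forall₂.cons rep_gB (List.Forall₂.cons rep_gA (List.Forall₂.cons rep_gA (List.Forall₂.cons rep_gA (List.Forall₂.cons rep_gA (List.Forall₂.cons rep_gA (List.Forall₂.cons rep_gB (List.Forall₂.cons rep_gA List.Forall₂.nil)))))))))))))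
    (by decide +kernel)

/-- an element given by a word -/
noncomputable def qab : HSG := [gAi, gB, gAi, gAi, gB, gAi, gAi, gAi, gAi, gB, gAi, gB, gA, gA].prod

theorem rep_qab : RepH Uqab qab :=
  rep_word Uqab [hsqI1x0, hsqT1x1, hsqI1x0, hsqI1x0, hsqT1x1, hsqI1x0, hsqI1x0, hsqI1x0, hsqI1x0, hsqT1x1, hsqI1x0, hsqT1x1, hsqT1x0, hsqT1x0] [gAi, gB, gAi, gAi, gB, gAi, gAi, gAi, gAi, gB, gAi, gB, gA, gA]
    (List.Forall₂.cons rep_gAi (List.Forall₂.cons rep_gB (List.Forall₂.cons rep_gAi (List.Forall₂.cons rep_gAi (List.Forall₂.cons rep_gB (List.Forall₂.cons rep_gAi (List.Forall₂.cons rep_gAi (List.Forall₂.cons rep_gAi (List.Forall₂.cons rep_gAi (List.Forall₂.cons rep_gB (List.Forall₂.cons rep_gAi (List.Forall₂.cons rep_gB (List.Forall₂.cons rep_gA (List.Forall₂.cons rep_gA List.Forall₂.nil))))))))))))))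
    (by decide +kernel)

/-- an element given by a word -/
noncomputable def qac : HSG := [gA, gB, gA, gA, gB, gA, gB, gAi, gAi, gB, gA, gA, gA, gA].prod

theorem rep_qac : RepH Uqac qac :=
  rep_word Uqac [hsqT1x0, hsqT1x1, hsqT1x0, hsqT1x0, hsqT1x1, hsqT1x0, hsqT1x1, hsqI1x0, hsqI1x0, hsqT1x1, hsqT1x0, hsqT1x0, hsqT1x0, hsqT1x0] [gA, gB, gA, gA, gB, gA, gB, gAi, gAi, gB, gA, gA, gA, gA]
    (List.Forall₂.cons rep_gA (List.Forall₂.cons rep_gB (List.Forall₂.cons rep_gA (List.Forall₂.cons rep_gA (List.Forall₂.cons rep_gB (List.Forall₂.cons rep_gA (List.Forall₂.cons rep_gB (List.Forall₂.cons rep_gAi (List.Forall₂.cons rep_gAi (List.Forall₂.cons rep_gB (List.Forall₂.cons rep_gA (List.Forall₂.cons rep_gA (List.Forall₂.cons rep_gA (List.Forall₂.cons rep_gA List.Forall₂.nil))))))))))))))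
    (by decide +kernel)

/-- an element given by a word -/
noncomputable def qbc : HSG := [gAi, gAi, gB, gA, gA].prod

theorem rep_qbc : RepH Uqbc qbc :=
  rep_word Uqbc [hsqI1x0, hsqI1x0, hsqT1x1, hsqT1x0, hsqT1x0] [gAi, gAi, gB, gA, gA]
    (List.Forall₂.cons rep_gAi (List.Forall₂.cons rep_gAi (List.Forall₂.cons rep_gB (List.Forall₂.cons rep_gA (List.Forall₂.cons rep_gA List.Forall₂.nil)))))
    (by decide +kernel)

/-- an element given by a word -/
noncomputable def qabc : HSG := [gAi, gB, gA, gA, gA, gB, gAi, gAi, gAi, gB, gA, gA, gB, gA, gA, gA].prod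

theorem rep_qabc : RepH Uqabc qabc :=
  rep_word Uqabc [hsqI1x0, hsqT1x1, hsqT1x0, hsqT1x0, hsqT1x0, hsqT1x1, hsqI1x0, hsqI1x0, hsqI1x0, hsqT1x1, hsqT1x0, hsqT1x0, hsqT1x1, hsqT1x0, hsqT1x0, hsqT1x0] [gAi, gB, gA, gA, gA, gB, gAi, gAi, gAi, gB, gA, gA, gB, gA, gA, gA]
    (List.Forall₂.cons rep_gAi (List.Forall₂.cons rep_gB (List.Forall₂.cons rep_gA (List.Forall₂.cons rep_gA (List.Forall₂.cons rep_gA (List.Forall₂.cons rep_gB (List.Forall₂.cons rep_gAi (List.Forall₂.cons rep_gAi (List.Forall₂.cons rep_gAi (List.Forall₂.cons rep_gB (List.Forall₂.cons rep_gA (List.Forall₂.cons rep_gA (List.Forall₂.cons rep_gB (List.Forall₂.cons rep_gA (List.Forall₂.cons rep_gA (List.Forall₂.cons rep_gA List.Forall₂.nil))))))))))))))))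
    (by decide +kernel)

/-- an element given by a word -/
noncomputable def qa2 : HSG := [gA, gA, gA, gB, gA, gA, gB, gA, gB, gAi, gAi, gB, gA].prod

theorem rep_qa2 : RepH Uqa2 qa2 :=
  rep_word Uqa2 [hsqT1x0, hsqT1x0, hsqT1x0, hsqT1x1, hsqT1x0, hsqT1x0, hsqT1x1, hsqT1x0, hsqT1x1, hsqI1x0, hsqI1x0, hsqT1x1, hsqT1x0] [gA, gA, gA, gB, gA, gA, gB, gA, gB, gAi, gAi, gB, gA]
    (List.Forall₂.cons rep_gA (List.Forall₂.cons rep_gA (List.Forall₂.cons rep_gA (List.Forall₂.cons rep_gB (List.Forall₂.cons rep_gA (List.Forall₂.cons rep_gA (List.Forall₂.cons rep_gB (List.Forall₂.cons rep_gA (List.Forall₂.cons rep_gB (List.Forall₂.cons rep_gAi (List.Forall₂.cons rep_gAi (List.Forall₂.cons rep_gB (List.Forall₂.cons rep_gA List.Forall₂.nil)))))))))))))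
    (by decide +kernel)

/-- an element given by a word -/
noncomputable def qa12 : HSG := [gAi, gAi, gAi, gAi, gB, gAi, gB, gA, gA, gA, gA, gB, gAi, gB, gAi].prod

theorem rep_qa12 : RepH Uqa12 qa12 :=
  rep_word Uqa12 [hsqI1x0, hsqI1x0, hsqI1x0, hsqI1x0, hsqT1x1, hsqI1x0, hsqT1x1, hsqT1x0, hsqT1x0, hsqT1x0, hsqT1x0, hsqT1x1, hsqI1x0, hsqT1x1, hsqI1x0] [gAi, gAi, gAi, gAi, gB, gAi, gB, gA, gA, gA, gA, gB, gAi, gB, gAi]
    (List.Forall₂.cons rep_gAi (List.Forall₂.cons rep_gAi (List.Forall₂.cons rep_gAi (List.Forall₂.cons rep_gAi (List.Forall₂.cons rep_gB (List.Forall₂.cons rep_gAi (List.Forall₂.cons rep_gB (List.Forall₂.cons rep_gA (List.Forall₂.cons rep_gA (List.Forall₂.cons rep_gA (List.Forall₂.cons rep_gA (List.Forall₂.cons rep_gB (List.Forall₂.cons rep_gAi (List.Forall₂.cons rep_gB (List.Forall₂.cons rep_gAi List.Forall₂.nil)))))))))))))))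
    (by decide +kernel)

/-- an element given by a word -/
noncomputable def a2 : HSG := [g2, g6].prod

theorem rep_a2 : RepH Ua2 a2 :=
  rep_word Ua2 [Ug2, Ug6] [g2, g6]
    (List.Forall₂.cons rep_g2 (List.Forall₂.cons rep_g6 List.Forall₂.nil))
    (by decide +kernel)

/-- an element given by a word -/
noncomputable def x3 : HSG := [gB, l6, gA, l11, l16, l14, l12, l17].prod

theorem rep_x3 : RepH Ux3 x3 :=
  rep_word Ux3 [hsqT1x1, Ul6, hsqT1x0, Ul11, Ul16, Ul14, Ul12, Ul17] [gB, l6, gA, l11, l16, l14, l12, l17]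
    (List.Forall₂.cons rep_gB (List.Forall₂.cons rep_l6 (List.Forall₂.cons rep_gA (List.Forall₂.cons rep_l11 (List.Forall₂.cons rep_l16 (List.Forall₂.cons rep_l14 (List.Forall₂.cons rep_l12 (List.Forall₂.cons rep_l17 List.Forall₂.nil))))))))
    (by decide +kernel)

/-- an element given by a word -/
noncomputable def y3 : HSG := [l10, l5, l20, l9, l12, l16, l18].prod

theorem rep_y3 : RepH Uy3 y3 :=
  rep_word Uy3 [Ul10, Ul5, Ul20, Ul9, Ul12, Ul16, Ul18] [l10, l5, l20, l9, l12, l16, l18]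
    (List.Forall₂.cons rep_l10 (List.Forall₂.cons rep_l5 (List.Forall₂.cons rep_l20 (List.Forall₂.cons rep_l9 (List.Forall₂.cons rep_l12 (List.Forall₂.cons rep_l16 (List.Forall₂.cons rep_l18 List.Forall₂.nil)))))))
    (by decide +kernel)

/-- an element given by a word -/
noncomputable def t3 : HSG := [gA, l10, gA, l6, l11, l15, l12, l20, l19, l18].prod

theorem rep_t3 : RepH Ut3 t3 :=
  rep_word Ut3 [hsqT1x0, Ul10, hsqT1x0, Ul6, Ul11, Ul15, Ul12, Ul20, Ul19, Ul18] [gA, l10, gA, l6, l11, l15, l12, l20, l19, l18]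
    (List.Forall₂.cons rep_gA (List.Forall₂.cons rep_l10 (List.Forall₂.cons rep_gA (List.Forall₂.cons rep_l6 (List.Forall₂.cons rep_l11 (List.Forall₂.cons rep_l15 (List.Forall₂.cons rep_l12 (List.Forall₂.cons rep_l20 (List.Forall₂.cons rep_l19 (List.Forall₂.cons rep_l18 List.Forall₂.nil))))))))))
    (by decide +kernel)

/-- an element given by a word -/
noncomputable def x5 : HSG := [l5, l11, l15, l19].prod

theorem rep_x5 : RepH Ux5 x5 :=
  rep_word Ux5 [Ul5, Ul11, Ul15, Ul19] [l5, l11, l15, l19]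
    (List.Forall₂.cons rep_l5 (List.Forall₂.cons rep_l11 (List.Forall₂.cons rep_l15 (List.Forall₂.cons rep_l19 List.Forall₂.nil))))
    (by decide +kernel)

/-- an element given by a word -/
noncomputable def y5 : HSG := [l11, gB, l12, l3, l13, l10, l13, l13, l15, l19, l18, l17].prod

theorem rep_y5 : RepH Uy5 y5 :=
  rep_word Uy5 [Ul11, hsqT1x1, Ul12, Ul3, Ul13, Ul10, Ul13, Ul13, Ul15, Ul19, Ul18, Ul17] [l11, gB, l12, l3, l13, l10, l13, l13, l15, l19, l18, l17]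
    (List.Forall₂.cons rep_l11 (List.Forall₂.cons rep_gB (List.Forall₂.cons rep_l12 (List.Forall₂.cons rep_l3 (List.Forall₂.cons rep_l13 (List.Forall₂.cons rep_l10 (List.Forall₂.cons rep_l13 (List.Forall₂.cons rep_l13 (List.Forall₂.cons rep_l15 (List.Forall₂.cons rep_l19 (List.Forall₂.cons rep_l18 (List.Forall₂.cons rep_l17 List.Forall₂.nil))))))))))))
    (by decide +kernel)

/-- an element given by a word -/
noncomputable def t5 : HSG := [l16, l3, l13, l11, l16, l14, l12, l15, l19, l18, l17].prod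

theorem rep_t5 : RepH Ut5 t5 :=
  rep_word Ut5 [Ul16, Ul3, Ul13, Ul11, Ul16, Ul14, Ul12, Ul15, Ul19, Ul18, Ul17] [l16, l3, l13, l11, l16, l14, l12, l15, l19, l18, l17]
    (List.Forall₂.cons rep_l16 (List.Forall₂.cons rep_l3 (List.Forall₂.cons rep_l13 (List.Forall₂.cons rep_l11 (List.Forall₂.cons rep_l16 (List.Forall₂.cons rep_l14 (List.Forall₂.cons rep_l12 (List.Forall₂.cons rep_l15 (List.Forall₂.cons rep_l19 (List.Forall₂.cons rep_l18 (List.Forall₂.cons rep_l17 List.Forall₂.nil)))))))))))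
    (by decide +kernel)

/-- an element given by a word -/
noncomputable def w5 : HSG := [x5, y5, x5, x5, x5, x5, y5, y5, y5, y5].prod

theorem rep_w5 : RepH Uw5 w5 :=
  rep_word Uw5 [Ux5, Uy5, Ux5, Ux5, Ux5, Ux5, Uy5, Uy5, Uy5, Uy5] [x5, y5, x5, x5, x5, x5, y5, y5, y5, y5]
    (List.Forall₂.cons rep_x5 (List.Forall₂.cons rep_y5 (List.Forall₂.cons rep_x5 (List.Forall₂.cons rep_x5 (List.Forall₂.cons rep_x5 (List.Forall₂.cons rep_x5 (List.Forall₂.cons rep_y5 (List.Forall₂.cons rep_y5 (List.Forall₂.cons rep_y5 (List.Forall₂.cons rep_y5 List.Forall₂.nil))))))))))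
    (by decide +kernel)

attribute [irreducible] l3 l4 l5 l6 l7 l8 l9 l10 l11 l12 l13 l14 l15 l16 l17 l18 l19 l20 g0 g1 g2 g3 g4 g5 g6 g7 g8 q2 q3 q4 q17 q57 qb qc qab qac qbc qabc qa2 qa12 a2 x3 y3 t3 x5 y5 t5 w5

end Cfsg.Agent.Lib.Helper5.HsM
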