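import Mathlib
import Cfsg.Agent.Lib.Helper5.HsMB

set_option autoImplicit false

/-! Relations between elements of the Higman–Sims group on 100 points, checked on coded
permutations (generated). -/

namespace Cfsg.Agent.Lib.Helper5.HsM

open Cfsg.Agent.Lib.helper23 Cfsg.Agent.Lib.Helper5.CP

theorem g0_sq : g0 * g0 = 1 := by
  have h := eq_of_chk (look := hsqlk) (n := 100) (H := HS100) [Ug0, Ug0] [] [g0, g0] []
    (List.Forall₂.cons rep_g0 (List.Forall₂.cons rep_g0 List.Forall₂.nil))
    List.Forall₂.nil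
    (by decide +kernel)
  simpa only [List.prod_cons, List.prod_nil, mul_one, mul_assoc] using h

theorem g1_sq : g1 * g1 = 1 := by
  have h := eq_of_chk (look := hsqlk) (n := 100) (H := HS100) [Ug1, Ug1] [] [g1, g1] []
    (List.Forall₂.cons rep_g1 (List.Forall₂.cons rep_g1 List.Forall₂.nil))
    List.Forall₂.nil
    (by decide +kernel)
  simpa only [List.prod_cons, List.prod_nil, mul_one, mul_assoc] using h

theorem g4_sq : g4 * g4 = 1 := by
  have h := eq_of_chk (look := hsqlk) (n := 100) (H := HS100) [Ug4, Ug4] [] [g4, g4] []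
    (List.Forall₂.cons rep_g4 (List.Forall₂.cons rep_g4 List.Forall₂.nil))
    List.Forall₂.nil
    (by decide +kernel)
  simpa only [List.prod_cons, List.prod_nil, mul_one, mul_assoc] using h

theorem g6_sq : g6 * g6 = 1 := by
  have h := eq_of_chk (look := hsqlk) (n := 100) (H := HS100) [Ug6, Ug6] [] [g6, g6] []
    (List.Forall₂.cons rep_g6 (List.Forall₂.cons rep_g6 List.Forall₂.nil))
    List.Forall₂.nil
    (by decide +kernel)
  simpa only [List.prod_cons, List.prod_nil, mul_one, mul_assoc] using h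

theorem a2_sq : a2 * a2 = 1 := by
  have h := eq_of_chk (look := hsqlk) (n := 100) (H := HS100) [Ua2, Ua2] [] [a2, a2] []
    (List.Forall₂.cons rep_a2 (List.Forall₂.cons rep_a2 List.Forall₂.nil))
    List.Forall₂.nil
    (by decide +kernel)
  simpa only [List.prod_cons, List.prod_nil, mul_one, mul_assoc] using h

theorem g1_g4 : g1 * g4 = g4 * g1 := by
  have h := eq_of_chk (look := hsqlk) (n := 100) (H := HS100) [Ug1, Ug4] [Ug4, Ug1] [g1, g4] [g4, g1]
    (List.Forall₂.cons rep_g1 (List.Forall₂.cons rep_g4 List.Forall₂.nil))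
    (List.Forall₂.cons rep_g4 (List.Forall₂.cons rep_g1 List.Forall₂.nil))
    (by decide +kernel)
  simpa only [List.prod_cons, List.prod_nil, mul_one, mul_assoc] using h

theorem g1_g6 : g1 * g6 = g6 * g1 := by
  have h := eq_of_chk (look := hsqlk) (n := 100) (H := HS100) [Ug1, Ug6] [Ug6, Ug1] [g1, g6] [g6, g1]
    (List.Forall₂.cons rep_g1 (List.Forall₂.cons rep_g6 List.Forall₂.nil))
    (List.Forall₂.cons rep_g6 (List.Forall₂.cons rep_g1 List.Forall₂.nil))
    (by decide +kernel)
  simpa only [List.prod_cons, List.prod_nil, mul_one, mul_assoc] using h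

theorem g4_g6 : g4 * g6 = g6 * g4 := by
  have h := eq_of_chk (look := hsqlk) (n := 100) (H := HS100) [Ug4, Ug6] [Ug6, Ug4] [g4, g6] [g6, g4]
    (List.Forall₂.cons rep_g4 (List.Forall₂.cons rep_g6 List.Forall₂.nil))
    (List.Forall₂.cons rep_g6 (List.Forall₂.cons rep_g4 List.Forall₂.nil))
    (by decide +kernel)
  simpa only [List.prod_cons, List.prod_nil, mul_one, mul_assoc] using h

theorem g0_a2 : g0 * a2 = a2 * g0 := by
  have h := eq_of_chk (look := hsqlk) (n := 100) (H := HS100) [Ug0, Ua2] [Ua2, Ug0] [g0, a2] [a2, g0]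
    (List.Forall₂.cons rep_g0 (List.Forall₂.cons rep_a2 List.Forall₂.nil))
    (List.Forall₂.cons rep_a2 (List.Forall₂.cons rep_g0 List.Forall₂.nil))
    (by decide +kernel)
  simpa only [List.prod_cons, List.prod_nil, mul_one, mul_assoc] using h

theorem a2_def : a2 = g2 * g6 := by
  have h := eq_of_chk (look := hsqlk) (n := 100) (H := HS100) [Ua2] [Ug2, Ug6] [a2] [g2, g6]
    (List.Forall₂.cons rep_a2 List.Forall₂.nil)
    (List.Forall₂.cons rep_g2 (List.Forall₂.cons rep_g6 List.Forall₂.nil))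
    (by decide +kernel)
  simpa only [List.prod_cons, List.prod_nil, mul_one, mul_assoc] using h

theorem q2_conj : q2 * g0 = g2 * q2 := by
  have h := eq_of_chk (look := hsqlk) (n := 100) (H := HS100) [Uq2, Ug0] [Ug2, Uq2] [q2, g0] [g2, q2]
    (List.Forall₂.cons rep_q2 (List.Forall₂.cons rep_g0 List.Forall₂.nil))
    (List.Forall₂.cons rep_g2 (List.Forall₂.cons rep_q2 List.Forall₂.nil))
    (by decide +kernel)
  simpa only [List.prod_cons, List.prod_nil, mul_one, mul_assoc] using h

theorem q3_conj : q3 * g1 = g3 * q3 := by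
  have h := eq_of_chk (look := hsqlk) (n := 100) (H := HS100) [Uq3, Ug1] [Ug3, Uq3] [q3, g1] [g3, q3]
    (List.Forall₂.cons rep_q3 (List.Forall₂.cons rep_g1 List.Forall₂.nil))
    (List.Forall₂.cons rep_g3 (List.Forall₂.cons rep_q3 List.Forall₂.nil))
    (by decide +kernel)
  simpa only [List.prod_cons, List.prod_nil, mul_one, mul_assoc] using h

theorem q4_conj : q4 * g1 = g4 * q4 := by
  have h := eq_of_chk (look := hsqlk) (n := 100) (H := HS100) [Uq4, Ug1] [Ug4, Uq4] [q4, g1] [g4, q4]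
    (List.Forall₂.cons rep_q4 (List.Forall₂.cons rep_g1 List.Forall₂.nil))
    (List.Forall₂.cons rep_g4 (List.Forall₂.cons rep_q4 List.Forall₂.nil))
    (by decide +kernel)
  simpa only [List.prod_cons, List.prod_nil, mul_one, mul_assoc] using h

theorem q17_conj : q17 * g0 = (g1 * g7) * q17 := by
  have h := eq_of_chk (look := hsqlk) (n := 100) (H := HS100) [Uq17, Ug0] [Ug1, Ug7, Uq17] [q17, g0] [g1, g7, q17]
    (List.Forall₂.cons rep_q17 (List.Forall₂.cons rep_g0 List.Forall₂.nil))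
    (List.Forall₂.cons rep_g1 (List.Forall₂.cons rep_g7 (List.Forall₂.cons rep_q17 List.Forall₂.nil)))
    (by decide +kernel)
  simpa only [List.prod_cons, List.prod_nil, mul_one, mul_assoc] using h

theorem q57_conj : q57 * g1 = (g5 * g7) * q57 := by
  have h := eq_of_chk (look := hsqlk) (n := 100) (H := HS100) [Uq57, Ug1] [Ug5, Ug7, Uq57] [q57, g1] [g5, g7, q57]
    (List.Forall₂.cons rep_q57 (List.Forall₂.cons rep_g1 List.Forall₂.nil))
    (List.Forall₂.cons rep_g5 (List.Forall₂.cons rep_g7 (List.Forall₂.cons rep_q57 List.Forall₂.nil)))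
    (by decide +kernel)
  simpa only [List.prod_cons, List.prod_nil, mul_one, mul_assoc] using h

theorem qb_conj : qb * g1 = g4 * qb := by
  have h := eq_of_chk (look := hsqlk) (n := 100) (H := HS100) [Uqb, Ug1] [Ug4, Uqb] [qb, g1] [g4, qb]
    (List.Forall₂.cons rep_qb (List.Forall₂.cons rep_g1 List.Forall₂.nil))
    (List.Forall₂.cons rep_g4 (List.Forall₂.cons rep_qb List.Forall₂.nil))
    (by decide +kernel)
  simpa only [List.prod_cons, List.prod_nil, mul_one, mul_assoc] using h

theorem qc_conj : qc * g1 = g6 * qc := by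
  have h := eq_of_chk (look := hsqlk) (n := 100) (H := HS100) [Uqc, Ug1] [Ug6, Uqc] [qc, g1] [g6, qc]
    (List.Forall₂.cons rep_qc (List.Forall₂.cons rep_g1 List.Forall₂.nil))
    (List.Forall₂.cons rep_g6 (List.Forall₂.cons rep_qc List.Forall₂.nil))
    (by decide +kernel)
  simpa only [List.prod_cons, List.prod_nil, mul_one, mul_assoc] using h

theorem qab_conj : qab * g1 = (g1 * g4) * qab := by
  have h := eq_of_chk (look := hsqlk) (n := 100) (H := HS100) [Uqab, Ug1] [Ug1, Ug4, Uqab] [qab, g1] [g1, g4, qab]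
    (List.Forall₂.cons rep_qab (List.Forall₂.cons rep_g1 List.Forall₂.nil))
    (List.Forall₂.cons rep_g1 (List.Forall₂.cons rep_g4 (List.Forall₂.cons rep_qab List.Forall₂.nil)))
    (by decide +kernel)
  simpa only [List.prod_cons, List.prod_nil, mul_one, mul_assoc] using h

theorem qac_conj : qac * g1 = (g1 * g6) * qac := by
  have h := eq_of_chk (look := hsqlk) (n := 100) (H := HS100) [Uqac, Ug1] [Ug1, Ug6, Uqac] [qac, g1] [g1, g6, qac]
    (List.Forall₂.cons rep_qac (List.Forall₂.cons rep_g1 List.Forall₂.nil))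
    (List.Forall₂.cons rep_g1 (List.Forall₂.cons rep_g6 (List.Forall₂.cons rep_qac List.Forall₂.nil)))
    (by decide +kernel)
  simpa only [List.prod_cons, List.prod_nil, mul_one, mul_assoc] using h

theorem qbc_conj : qbc * g1 = (g4 * g6) * qbc := by
  have h := eq_of_chk (look := hsqlk) (n := 100) (H := HS100) [Uqbc, Ug1] [Ug4, Ug6, Uqbc] [qbc, g1] [g4, g6, qbc]
    (List.Forall₂.cons rep_qbc (List.Forall₂.cons rep_g1 List.Forall₂.nil))
    (List.Forall₂.cons rep_g4 (List.Forall₂.cons rep_g6 (List.Forall₂.cons rep_qbc List.Forall₂.nil)))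
    (by decide +kernel)
  simpa only [List.prod_cons, List.prod_nil, mul_one, mul_assoc] using h

theorem qabc_conj : qabc * g1 = (g1 * g4 * g6) * qabc := by
  have h := eq_of_chk (look := hsqlk) (n := 100) (H := HS100) [Uqabc, Ug1] [Ug1, Ug4, Ug6, Uqabc] [qabc, g1] [g1, g4, g6, qabc]
    (List.Forall₂.cons rep_qabc (List.Forall₂.cons rep_g1 List.Forall₂.nil))
    (List.Forall₂.cons rep_g1 (List.Forall₂.cons rep_g4 (List.Forall₂.cons rep_g6 (List.Forall₂.cons rep_qabc List.Forall₂.nil))))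
    (by decide +kernel)
  simpa only [List.prod_cons, List.prod_nil, mul_one, mul_assoc] using h

theorem qa2_conj : qa2 * g0 = a2 * qa2 := by
  have h := eq_of_chk (look := hsqlk) (n := 100) (H := HS100) [Uqa2, Ug0] [Ua2, Uqa2] [qa2, g0] [a2, qa2]
    (List.Forall₂.cons rep_qa2 (List.Forall₂.cons rep_g0 List.Forall₂.nil))
    (List.Forall₂.cons rep_a2 (List.Forall₂.cons rep_qa2 List.Forall₂.nil))
    (by decide +kernel)
  simpa only [List.prod_cons, List.prod_nil, mul_one, mul_assoc] using h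

theorem qa12_conj : qa12 * g0 = (g0 * a2) * qa12 := by
  have h := eq_of_chk (look := hsqlk) (n := 100) (H := HS100) [Uqa12, Ug0] [Ug0, Ua2, Uqa12] [qa12, g0] [g0, a2, qa12]
    (List.Forall₂.cons rep_qa12 (List.Forall₂.cons rep_g0 List.Forall₂.nil))
    (List.Forall₂.cons rep_g0 (List.Forall₂.cons rep_a2 (List.Forall₂.cons rep_qa12 List.Forall₂.nil)))
    (by decide +kernel)
  simpa only [List.prod_cons, List.prod_nil, mul_one, mul_assoc] using h

theorem x3_cube : x3 * x3 * x3 = 1 := by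
  have h := eq_of_chk (look := hsqlk) (n := 100) (H := HS100) [Ux3, Ux3, Ux3] [] [x3, x3, x3] []
    (List.Forall₂.cons rep_x3 (List.Forall₂.cons rep_x3 (List.Forall₂.cons rep_x3 List.Forall₂.nil)))
    List.Forall₂.nil
    (by decide +kernel)
  simpa only [List.prod_cons, List.prod_nil, mul_one, mul_assoc] using h

theorem y3_cube : y3 * y3 * y3 = 1 := by
  have h := eq_of_chk (look := hsqlk) (n := 100) (H := HS100) [Uy3, Uy3, Uy3] [] [y3, y3, y3] []
    (List.Forall₂.cons rep_y3 (List.Forall₂.cons rep_y3 (List.Forall₂.cons rep_y3 List.Forall₂.nil)))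
    List.Forall₂.nil
    (by decide +kernel)
  simpa only [List.prod_cons, List.prod_nil, mul_one, mul_assoc] using h

theorem x3_y3 : x3 * y3 = y3 * x3 := by
  have h := eq_of_chk (look := hsqlk) (n := 100) (H := HS100) [Ux3, Uy3] [Uy3, Ux3] [x3, y3] [y3, x3]
    (List.Forall₂.cons rep_x3 (List.Forall₂.cons rep_y3 List.Forall₂.nil))
    (List.Forall₂.cons rep_y3 (List.Forall₂.cons rep_x3 List.Forall₂.nil))
    (by decide +kernel)
  simpa only [List.prod_cons, List.prod_nil, mul_one, mul_assoc] using h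

theorem t3_x3 : t3 * x3 = x3 * x3 * t3 := by
  have h := eq_of_chk (look := hsqlk) (n := 100) (H := HS100) [Ut3, Ux3] [Ux3, Ux3, Ut3] [t3, x3] [x3, x3, t3]
    (List.Forall₂.cons rep_t3 (List.Forall₂.cons rep_x3 List.Forall₂.nil))
    (List.Forall₂.cons rep_x3 (List.Forall₂.cons rep_x3 (List.Forall₂.cons rep_t3 List.Forall₂.nil)))
    (by decide +kernel)
  simpa only [List.prod_cons, List.prod_nil, mul_one, mul_assoc] using h

theorem t3_y3 : t3 * y3 = y3 * t3 := by
  have h := eq_of_chk (look := hsqlk) (n := 100) (H := HS100) [Ut3, Uy3] [Uy3, Ut3] [t3, y3] [y3, t3]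
    (List.Forall₂.cons rep_t3 (List.Forall₂.cons rep_y3 List.Forall₂.nil))
    (List.Forall₂.cons rep_y3 (List.Forall₂.cons rep_t3 List.Forall₂.nil))
    (by decide +kernel)
  simpa only [List.prod_cons, List.prod_nil, mul_one, mul_assoc] using h

theorem x5_pow : x5 * x5 * x5 * x5 * x5 = 1 := by
  have h := eq_of_chk (look := hsqlk) (n := 100) (H := HS100) [Ux5, Ux5, Ux5, Ux5, Ux5] [] [x5, x5, x5, x5, x5] []
    (List.Forall₂.cons rep_x5 (List.Forall₂.cons rep_x5 (List.Forall₂.cons rep_x5 (List.Forall₂.cons rep_x5 (List.Forall₂.cons rep_x5 List.Forall₂.nil)))))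
    List.Forall₂.nil
    (by decide +kernel)
  simpa only [List.prod_cons, List.prod_nil, mul_one, mul_assoc] using h

theorem y5_pow : y5 * y5 * y5 * y5 * y5 = 1 := by
  have h := eq_of_chk (look := hsqlk) (n := 100) (H := HS100) [Uy5, Uy5, Uy5, Uy5, Uy5] [] [y5, y5, y5, y5, y5] []
    (List.Forall₂.cons rep_y5 (List.Forall₂.cons rep_y5 (List.Forall₂.cons rep_y5 (List.Forall₂.cons rep_y5 (List.Forall₂.cons rep_y5 List.Forall₂.nil)))))
    List.Forall₂.nil
    (by decide +kernel)
  simpa only [List.prod_cons, List.prod_nil, mul_one, mul_assoc] using h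

theorem w5_pow : w5 * w5 * w5 * w5 * w5 = 1 := by
  have h := eq_of_chk (look := hsqlk) (n := 100) (H := HS100) [Uw5, Uw5, Uw5, Uw5, Uw5] [] [w5, w5, w5, w5, w5] []
    (List.Forall₂.cons rep_w5 (List.Forall₂.cons rep_w5 (List.Forall₂.cons rep_w5 (List.Forall₂.cons rep_w5 (List.Forall₂.cons rep_w5 List.Forall₂.nil)))))
    List.Forall₂.nil
    (by decide +kernel)
  simpa only [List.prod_cons, List.prod_nil, mul_one, mul_assoc] using h

theorem w5_comm : w5 * y5 * x5 = x5 * y5 := by
  have h := eq_of_chk (look := hsqlk) (n := 100) (H := HS100) [Uw5, Uy5, Ux5] [Ux5, Uy5] [w5, y5, x5] [x5, y5]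
    (List.Forall₂.cons rep_w5 (List.Forall₂.cons rep_y5 (List.Forall₂.cons rep_x5 List.Forall₂.nil)))
    (List.Forall₂.cons rep_x5 (List.Forall₂.cons rep_y5 List.Forall₂.nil))
    (by decide +kernel)
  simpa only [List.prod_cons, List.prod_nil, mul_one, mul_assoc] using h

theorem w5_x5 : w5 * x5 = x5 * w5 := by
  have h := eq_of_chk (look := hsqlk) (n := 100) (H := HS100) [Uw5, Ux5] [Ux5, Uw5] [w5, x5] [x5, w5]
    (List.Forall₂.cons rep_w5 (List.Forall₂.cons rep_x5 List.Forall₂.nil))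
    (List.Forall₂.cons rep_x5 (List.Forall₂.cons rep_w5 List.Forall₂.nil))
    (by decide +kernel)
  simpa only [List.prod_cons, List.prod_nil, mul_one, mul_assoc] using h

theorem w5_y5 : w5 * y5 = y5 * w5 := by
  have h := eq_of_chk (look := hsqlk) (n := 100) (H := HS100) [Uw5, Uy5] [Uy5, Uw5] [w5, y5] [y5, w5]
    (List.Forall₂.cons rep_w5 (List.Forall₂.cons rep_y5 List.Forall₂.nil))
    (List.Forall₂.cons rep_y5 (List.Forall₂.cons rep_w5 List.Forall₂.nil))
    (by decide +kernel)
  simpa only [List.prod_cons, List.prod_nil, mul_one, mul_assoc] using h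

theorem t5_x5 : t5 * x5 = x5 * x5 * x5 * x5 * t5 := by
  have h := eq_of_chk (look := hsqlk) (n := 100) (H := HS100) [Ut5, Ux5] [Ux5, Ux5, Ux5, Ux5, Ut5] [t5, x5] [x5, x5, x5, x5, t5]
    (List.Forall₂.cons rep_t5 (List.Forall₂.cons rep_x5 List.Forall₂.nil))
    (List.Forall₂.cons rep_x5 (List.Forall₂.cons rep_x5 (List.Forall₂.cons rep_x5 (List.Forall₂.cons rep_x5 (List.Forall₂.cons rep_t5 List.Forall₂.nil)))))
    (by decide +kernel)
  simpa only [List.prod_cons, List.prod_nil, mul_one, mul_assoc] using h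

theorem t5_y5 : t5 * y5 = y5 * y5 * y5 * y5 * t5 := by
  have h := eq_of_chk (look := hsqlk) (n := 100) (H := HS100) [Ut5, Uy5] [Uy5, Uy5, Uy5, Uy5, Ut5] [t5, y5] [y5, y5, y5, y5, t5]
    (List.Forall₂.cons rep_t5 (List.Forall₂.cons rep_y5 List.Forall₂.nil))
    (List.Forall₂.cons rep_y5 (List.Forall₂.cons rep_y5 (List.Forall₂.cons rep_y5 (List.Forall₂.cons rep_y5 (List.Forall₂.cons rep_t5 List.Forall₂.nil)))))
    (by decide +kernel)
  simpa only [List.prod_cons, List.prod_nil, mul_one, mul_assoc] using h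

theorem t5_w5 : t5 * w5 = w5 * t5 := by
  have h := eq_of_chk (look := hsqlk) (n := 100) (H := HS100) [Ut5, Uw5] [Uw5, Ut5] [t5, w5] [w5, t5]
    (List.Forall₂.cons rep_t5 (List.Forall₂.cons rep_w5 List.Forall₂.nil))
    (List.Forall₂.cons rep_w5 (List.Forall₂.cons rep_t5 List.Forall₂.nil))
    (by decide +kernel)
  simpa only [List.prod_cons, List.prod_nil, mul_one, mul_assoc] using h

theorem y5_x5 : y5 * x5 = w5 * w5 * w5 * w5 * x5 * y5 := by
  have h := eq_of_chk (look := hsqlk) (n := 100) (H := HS100) [Uy5, Ux5] [Uw5, Uw5, Uw5, Uw5, Ux5, Uy5] [y5, x5] [w5, w5, w5, w5, x5, y5]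
    (List.Forall₂.cons rep_y5 (List.Forall₂.cons rep_x5 List.Forall₂.nil))
    (List.Forall₂.cons rep_w5 (List.Forall₂.cons rep_w5 (List.Forall₂.cons rep_w5 (List.Forall₂.cons rep_w5 (List.Forall₂.cons rep_x5 (List.Forall₂.cons rep_y5 List.Forall₂.nil))))))
    (by decide +kernel)
  simpa only [List.prod_cons, List.prod_nil, mul_one, mul_assoc] using h

theorem w5_ne : w5 ≠ 1 :=
  ne_one_of_moves' Uw5 w5 rep_w5 0 (by norm_num) (by decide +kernel)

end Cfsg.Agent.Lib.Helper5.HsM
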