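import Mathlib
import Cfsg.Agent.Lib.Helper5.HsMC
import Cfsg.Agent.Lib.Helper5.PcTE

set_option autoImplicit false

/-! Word lists for the orders of the Sylow subgroups of the Higman–Sims group on 100 points, and the
certificate for the splitting of the Sylow 2-subgroup (generated). -/

namespace Cfsg.Agent.Lib.Helper5.HsM

open Cfsg.Agent.Lib.helper23 Cfsg.Agent.Lib.Helper5.CP Cfsg.Agent.Lib.Helper5.PcT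

/-- the base points for signatures -/
def sbase : List ℕ := [0, 1, 2, 3, 5, 4]

theorem sbase_lt : ∀ b ∈ sbase, b < 100 := by decide

theorem chk_id : eqW hsqlk 100 Uid [] = true := by decide +kernel

/-- coded generators -/
def gT2 : List ℕ := [Ug0, Ug1, Ug2, Ug3, Ug4, Ug5, Ug6, Ug7, Ug8]

/-- generators -/
noncomputable def gG2 : List HSG := [g0, g1, g2, g3, g4, g5, g6, g7, g8]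

theorem gRep2 : List.Forall₂ RepH gT2 gG2 :=
  (List.Forall₂.cons rep_g0 (List.Forall₂.cons rep_g1 (List.Forall₂.cons rep_g2 (List.Forall₂.cons rep_g3 (List.Forall₂.cons rep_g4 (List.Forall₂.cons rep_g5 (List.Forall₂.cons rep_g6 (List.Forall₂.cons rep_g7 (List.Forall₂.cons rep_g8 List.Forall₂.nil)))))))))

/-- words with pairwise different values -/
def words2 : List (List ℕ) := [[0, 1, 3, 5, 7, 8], [0, 2, 3, 4, 5], [0, 1], [0, 2, 5, 6, 7], [0, 2, 4, 7], [0, 1, 4, 5, 6], [0, 2, 3, 6], [0, 1, 3, 4, 6, 7, 8], [1, 3, 4, 6, 7, 8], [2, 3, 6], [1], [2, 5, 6, 7], [1, 4, 5, 6], [2, 4, 7], [2, 3, 4, 5], [1, 3, 5, 7, 8], [0, 1, 2, 4, 5, 8], [0, 4, 7, 8], [0, 5, 6, 7, 8], [0, 1, 2, 6, 8], [0, 1, 2, 3, 5, 6, 7, 8], [0, 3, 4, 5, 8], [0, 3, 6, 8], [0, 1, 2, 3, 4, 7, 8],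 [0, 1, 2, 5, 6], [0, 7], [0, 3, 5], [0, 1, 2, 3, 4, 5, 7, 8], [0, 1, 2, 3, 6, 7, 8], [0, 3, 4, 6], [0, 4, 5, 6, 7], [0, 1, 2, 4], [], [1, 2, 5, 6, 7], [3, 4, 6, 7, 8], [1, 2, 3, 6], [1, 2, 3, 4, 5], [3, 5, 7, 8], [1, 2, 4, 7], [4, 5, 6], [2, 5, 8], [1, 6, 7, 8], [1, 3, 4], [2, 3, 7, 8], [1, 4, 5, 7, 8], [2, 4, 6, 8], [2, 3, 4, 5, 6, 7, 8], [1, 3, 5, 6], [1, 4], [2, 4, 5, 7], [1, 3, 6, 7, 8], [2, 3, 4, 8], [2, 6, 7], [1, 5, 6], [1, 3, 4, 5, 7, 8], [2, 3, 5, 6, 8], [1, 2, 3, 4, 8], [3, 6, 7, 8], [1, 2, 4, 5, 7], [4], [1, 2, 6, 7], [5, 6], [3, 4, 5, 7, 8], [1, 2, 3, 5, 6, 8], [0, 4, 6, 7], [0, 1, 2, 4, 5, 6], [0, 1, 2], [0, 5, 7], [0, 3, 8], [0, 1, 2, 3, 4, 6, 7, 8], [0, 1, 2, 3, 5, 7, 8], [0, 3, 4, 5, 6, 8], [3], [1, 2, 3, 4, 6, 7], [4, 6, 7, 8], [1, 2, 4,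 5, 6, 8], [1, 2, 3, 5, 7], [3, 4, 5, 6], [1, 2, 8], [5, 7, 8], [6, 7, 8], [1, 2, 5, 8], [3, 4], [1, 2, 3, 7, 8], [4, 5, 7, 8], [1, 2, 4, 6, 8], [1, 2, 3, 4, 5, 6, 7, 8], [3, 5, 6], [0, 2, 3, 6, 7], [0, 1, 3, 4, 6, 8], [0, 2, 4, 8], [0, 1, 4, 5, 6, 7, 8], [0, 2, 3, 4, 5, 7], [0, 1, 3, 5, 8], [0, 2, 5, 6, 8], [0, 1, 7, 8], [0, 3, 4, 8], [0, 1, 2, 3, 7], [0, 1, 2, 3, 4, 5, 6, 7], [0, 3, 5, 6, 8], [0, 4, 5, 7], [0, 1, 2, 4, 6], [0, 1, 2, 5], [0, 6, 7], [1, 3], [2, 3, 4, 6, 7], [1, 4, 6, 7, 8], [2, 4, 5, 6, 8], [2, 8], [1, 5, 7, 8], [2, 3, 5, 7], [1, 3, 4, 5, 6], [0, 1, 7], [0, 2, 5, 6], [0, 1, 3, 5], [0, 2, 3, 4, 5, 7, 8], [0, 1, 4, 5, 6, 7], [0, 2, 4], [0, 1, 3, 4, 6], [0, 2, 3, 6, 7, 8], [2, 4, 6, 7], [1, 4, 5], [2, 3, 4, 5, 6, 8], [1, 3, 5, 6, 7], [1, 3, 4,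 7], [2, 3, 8], [1, 6], [2, 5, 7], [3, 4, 5, 6, 8], [1, 2, 3, 5, 7, 8], [1, 2, 3, 4, 6, 7, 8], [3, 8], [4, 6, 7], [1, 2, 4, 5, 6], [5, 7], [1, 2], [2, 3, 5, 6, 7], [1, 3, 4, 5], [1, 3, 6], [2, 3, 4, 7], [2, 4, 5], [1, 4, 7], [2, 6], [1, 5, 6, 7], [1, 2, 6, 8], [5, 6, 7, 8], [3, 6, 8], [1, 2, 3, 4, 7, 8], [3, 4, 5, 8], [1, 2, 3, 5, 6, 7, 8], [1, 2, 4, 5, 8], [4, 7, 8], [0, 1, 4, 8], [0, 2, 4, 5, 7, 8], [0, 1, 3, 6, 7], [0, 2, 3, 4], [0, 1, 5, 6, 8], [0, 2, 6, 7, 8], [0, 2, 3, 5, 6], [0, 1, 3, 4, 5, 7], [1, 2, 7], [5], [4, 6], [1, 2, 4, 5, 6, 7], [3, 7], [1, 2, 3, 4, 6], [1, 2, 3, 5], [3, 4, 5, 6, 7], [0, 1, 3, 4, 5, 6], [0, 2, 3, 5, 7], [0, 2, 8], [0, 1, 5, 7, 8], [0, 1, 3], [0, 2, 3, 4, 6, 7], [0, 1, 4, 6, 7, 8], [0, 2, 4, 5, 6, 8], [0, 1, 2, 5, 7, 8], [0,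 6, 8], [0, 3, 5, 6, 7, 8], [0, 1, 2, 3, 4, 5, 6], [0, 1, 2, 3], [0, 3, 4, 7, 8], [0, 1, 2, 4, 6, 7, 8], [0, 4, 5, 8], [2, 3, 6, 8], [1, 3, 4, 6, 7], [1, 3, 5, 7], [2, 3, 4, 5, 8], [1, 4, 5, 6, 8], [2, 4, 7, 8], [2, 5, 6, 7, 8], [1, 8], [2, 6, 8], [1, 5, 6, 7, 8], [2, 4, 5, 8], [1, 4, 7, 8], [1, 3, 6, 8], [2, 3, 4, 7, 8], [1, 3, 4, 5, 8], [2, 3, 5, 6, 7, 8], [0, 3, 7], [0, 1, 2, 3, 4, 6], [0, 5], [0, 1, 2, 7], [0, 4, 6], [0, 1, 2, 4, 5, 6, 7], [0, 3, 4, 5, 6, 7], [0, 1, 2, 3, 5], [1, 2, 4, 8], [4, 5, 6, 7, 8], [1, 2, 5, 6, 8], [7, 8], [3, 4, 6, 8], [1, 2, 3, 6, 7], [3, 5, 8], [1, 2, 3, 4, 5, 7], [0, 1, 2, 3, 5, 6, 7], [0, 3, 4, 5], [0, 5, 6, 7], [0, 1, 2, 6], [0, 1, 2, 3, 4, 7], [0, 3, 6], [0, 1, 2, 4, 5], [0, 4, 7], [4, 5], [1, 2, 4, 6, 7], [1, 2, 3, 8],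 [3, 4, 7], [6], [1, 2, 5, 7], [3, 5, 6, 7], [1, 2, 3, 4, 5, 6, 8], [1, 4, 5, 6, 7, 8], [2, 4, 8], [1, 3, 4, 6, 8], [2, 3, 6, 7], [2, 5, 6, 8], [1, 7, 8], [1, 3, 5, 8], [2, 3, 4, 5, 7], [0, 4, 5, 6], [0, 1, 2, 4, 7], [0, 3, 4, 6, 7, 8], [0, 1, 2, 3, 6], [0, 1, 2, 5, 6, 7], [0], [0, 3, 5, 7, 8], [0, 1, 2, 3, 4, 5], [1, 3, 5, 6, 7, 8], [2, 3, 4, 5, 6], [2, 3], [1, 3, 4, 7, 8], [1, 6, 8], [2, 5, 7, 8], [1, 4, 5, 8], [2, 4, 6, 7, 8], [0, 2, 4, 5, 6, 7], [0, 1, 4, 6], [0, 2, 3, 5], [0, 1, 3, 4, 5, 6, 7], [0, 1, 3, 7], [0, 2, 3, 4, 6], [0, 1, 5], [0, 2, 7], [3, 5, 6, 7, 8], [1, 2, 3, 4, 5, 6], [1, 2, 3], [3, 4, 7, 8], [4, 5, 8], [1, 2, 4, 6, 7, 8], [6, 8], [1, 2, 5, 7, 8], [0, 2, 4, 5, 8], [0, 1, 4, 7, 8], [0, 1, 5, 6, 7, 8], [0, 2, 6, 8], [0, 2, 3, 5, 6, 7, 8],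 [0, 1, 3, 4, 5, 8], [0, 2, 3, 4, 7, 8], [0, 1, 3, 6, 8], [1, 2, 3, 5, 6, 7], [3, 4, 5], [1, 2, 3, 4, 7], [3, 6], [5, 6, 7], [1, 2, 6], [4, 7], [1, 2, 4, 5], [1, 5], [2, 7], [2, 4, 5, 6, 7], [1, 4, 6], [1, 3, 7], [2, 3, 4, 6], [1, 3, 4, 5, 6, 7], [2, 3, 5], [1, 3, 4, 5, 6, 8], [2, 3, 5, 7, 8], [1, 5, 7], [2], [1, 4, 6, 7], [2, 4, 5, 6], [2, 3, 4, 6, 7, 8], [1, 3, 8], [0, 1, 3, 8], [0, 2, 3, 4, 6, 7, 8], [0, 2, 4, 5, 6], [0, 1, 4, 6, 7], [0, 2, 3, 5, 7, 8], [0, 1, 3, 4, 5, 6, 8], [0, 1, 5, 7], [0, 2], [0, 1, 2, 5, 8], [0, 6, 7, 8], [0, 3, 4], [0, 1, 2, 3, 7, 8], [0, 3, 5, 6], [0, 1, 2, 3, 4, 5, 6, 7, 8], [0, 1, 2, 4, 6, 8], [0, 4, 5, 7, 8], [0, 1, 2, 3, 5, 6, 8], [0, 3, 4, 5, 7, 8], [0, 1, 2, 4, 5, 7], [0, 4], [0, 1, 2, 6, 7], [0, 5, 6], [0, 1, 2, 3, 4, 8],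 [0, 3, 6, 7, 8], [0, 1, 2, 4, 7, 8], [0, 4, 5, 6, 8], [0, 1, 2, 3, 4, 5, 8], [0, 3, 5, 7], [0, 1, 2, 3, 6, 8], [0, 3, 4, 6, 7], [0, 8], [0, 1, 2, 5, 6, 7, 8], [0, 2, 5, 7, 8], [0, 1, 6, 8], [0, 1, 4, 5, 8], [0, 2, 4, 6, 7, 8], [0, 2, 3], [0, 1, 3, 4, 7, 8], [0, 1, 3, 5, 6, 7, 8], [0, 2, 3, 4, 5, 6], [3, 4, 5, 6, 7, 8], [1, 2, 3, 5, 8], [4, 6, 8], [1, 2, 4, 5, 6, 7, 8], [5, 8], [1, 2, 7, 8], [1, 2, 3, 4, 6, 8], [3, 7, 8], [0, 1, 6, 7, 8], [0, 2, 5, 8], [0, 1, 3, 4], [0, 2, 3, 7, 8], [0, 1, 4, 5, 7, 8], [0, 2, 4, 6, 8], [0, 2, 3, 4, 5, 6, 7, 8], [0, 1, 3, 5, 6], [5, 6, 8], [1, 2, 6, 7, 8], [1, 2, 3, 5, 6], [3, 4, 5, 7], [1, 2, 4, 5, 7, 8], [4, 8], [3, 6, 7], [1, 2, 3, 4], [2, 4, 5, 7, 8], [1, 4, 8], [2, 3, 5, 6], [1, 3, 4, 5, 7], [1, 5, 6, 8], [2, 6, 7, 8],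 [1, 3, 6, 7], [2, 3, 4], [0, 1, 3, 6], [0, 2, 3, 4, 7], [0, 2, 3, 5, 6, 7], [0, 1, 3, 4, 5], [0, 2, 6], [0, 1, 5, 6, 7], [0, 2, 4, 5], [0, 1, 4, 7], [0, 3, 4, 5, 7], [0, 1, 2, 3, 5, 6], [0, 4, 8], [0, 1, 2, 4, 5, 7, 8], [0, 5, 6, 8], [0, 1, 2, 6, 7, 8], [0, 3, 6, 7], [0, 1, 2, 3, 4], [1, 3, 5, 6, 8], [2, 3, 4, 5, 6, 7], [2, 4, 6], [1, 4, 5, 7], [2, 3, 7], [1, 3, 4, 8], [1, 6, 7], [2, 5], [0, 1, 5, 6], [0, 2, 6, 7], [0, 1, 3, 4, 5, 7, 8], [0, 2, 3, 5, 6, 8], [0, 2, 3, 4, 8], [0, 1, 3, 6, 7, 8], [0, 1, 4], [0, 2, 4, 5, 7], [3, 5], [1, 2, 3, 4, 5, 7, 8], [4, 5, 6, 7], [1, 2, 4], [7], [1, 2, 5, 6], [3, 4, 6], [1, 2, 3, 6, 7, 8], [0, 2, 3, 4, 6, 8], [0, 1, 3, 7, 8], [0, 2, 7, 8], [0, 1, 5, 8], [0, 2, 4, 5, 6, 7, 8], [0, 1, 4, 6, 8], [0, 1, 3, 4, 5, 6, 7, 8], [0,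 2, 3, 5, 8], [0, 4, 5, 6, 7, 8], [0, 1, 2, 4, 8], [0, 1, 2, 3, 4, 5, 7], [0, 3, 5, 8], [0, 3, 4, 6, 8], [0, 1, 2, 3, 6, 7], [0, 1, 2, 5, 6, 8], [0, 7, 8], [1, 2, 3, 4, 5, 8], [3, 5, 7], [1, 2, 3, 6, 8], [3, 4, 6, 7], [1, 2, 5, 6, 7, 8], [8], [4, 5, 6, 8], [1, 2, 4, 7, 8], [2, 3, 5, 8], [1, 3, 4, 5, 6, 7, 8], [1, 5, 8], [2, 7, 8], [1, 4, 6, 8], [2, 4, 5, 6, 7, 8], [2, 3, 4, 6, 8], [1, 3, 7, 8], [0, 1, 3, 5, 7], [0, 2, 3, 4, 5, 8], [0, 1, 4, 5, 6, 8], [0, 2, 4, 7, 8], [0, 2, 3, 6, 8], [0, 1, 3, 4, 6, 7], [0, 1, 8], [0, 2, 5, 6, 7, 8], [0, 2, 3, 8], [0, 1, 3, 4, 7], [0, 2, 3, 4, 5, 6, 8], [0, 1, 3, 5, 6, 7], [0, 1, 4, 5], [0, 2, 4, 6, 7], [0, 2, 5, 7], [0, 1, 6], [0, 6], [0, 1, 2, 5, 7], [0, 1, 2, 3, 8], [0, 3, 4, 7], [0, 3, 5, 6, 7], [0, 1, 2, 3, 4, 5, 6, 8],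 [0, 1, 2, 4, 6, 7], [0, 4, 5], [0, 2, 4, 6], [0, 1, 4, 5, 7], [0, 2, 3, 4, 5, 6, 7], [0, 1, 3, 5, 6, 8], [0, 2, 5], [0, 1, 6, 7], [0, 2, 3, 7], [0, 1, 3, 4, 8], [0, 3], [0, 1, 2, 3, 4, 6, 7], [0, 5, 7, 8], [0, 1, 2, 8], [0, 3, 4, 5, 6], [0, 1, 2, 3, 5, 7], [0, 1, 2, 4, 5, 6, 8], [0, 4, 6, 7, 8], [1, 2, 5], [6, 7], [1, 2, 4, 6], [4, 5, 7], [3, 5, 6, 8], [1, 2, 3, 4, 5, 6, 7], [1, 2, 3, 7], [3, 4, 8], [2, 3, 4, 5, 7, 8], [1, 3, 5], [1, 7], [2, 5, 6], [2, 3, 6, 7, 8], [1, 3, 4, 6], [2, 4], [1, 4, 5, 6, 7], [0, 1, 2, 3, 4, 6, 8], [0, 3, 7, 8], [0, 5, 8], [0, 1, 2, 7, 8], [0, 3, 4, 5, 6, 7, 8], [0, 1, 2, 3, 5, 8], [0, 1, 2, 4, 5, 6, 7, 8], [0, 4, 6, 8]]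

theorem words2_length : words2.length = 512 := by decide +kernel

theorem words2_inc : isStrictInc (words2.map fun l => sigW hsqlk sbase (l.map fun i => gT2.getD i Uid)) = true := by
  decide +kernel

/-- coded generators -/
def gT3 : List ℕ := [Ux3, Uy3]

/-- generators -/
noncomputable def gG3 : List HSG := [x3, y3]

theorem gRep3 : List.Forall₂ RepH gT3 gG3 :=
  (List.Forall₂.cons rep_x3 (List.Forall₂.cons rep_y3 List.Forall₂.nil))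

/-- words with pairwise different values -/
def words3 : List (List ℕ) := [[0, 1], [], [0, 1, 1], [1], [0], [1, 1], [0, 0, 1, 1], [0, 0, 1], [0, 0]]

theorem words3_length : words3.length = 9 := by decide +kernel

theorem words3_inc : isStrictInc (words3.map fun l => sigW hsqlk sbase (l.map fun i => gT3.getD i Uid)) = true := by
  decide +kernel

/-- coded generators -/
def gT5 : List ℕ := [Ux5, Uy5, Uw5]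

/-- generators -/
noncomputable def gG5 : List HSG := [x5, y5, w5]

theorem gRep5 : List.Forall₂ RepH gT5 gG5 :=
  (List.Forall₂.cons rep_x5 (List.Forall₂.cons rep_y5 (List.Forall₂.cons rep_w5 List.Forall₂.nil)))

/-- words with pairwise different values -/
def words5 : List (List ℕ) := [[0, 0, 0], [0, 1, 1, 1, 2, 2, 2], [1, 1, 2, 2, 2], [0, 0, 0, 0, 1, 2, 2], [0, 0, 1, 1, 1, 1, 2, 2], [], [0, 0, 0, 1, 1, 1, 2, 2, 2], [0, 1, 2, 2], [0, 0, 1, 1, 2, 2, 2], [0, 0, 0, 0, 1, 1, 1, 1, 2, 2], [0, 0, 1], [0, 0, 0, 0, 1, 1, 1, 2], [0, 0, 0, 1, 1, 2], [1, 1, 1, 1], [0, 2, 2, 2], [0, 1, 1, 1, 2], [0, 0, 0, 0, 1], [0, 0, 0, 2, 2, 2], [0, 0, 1, 1, 1, 1], [1, 1, 2], [1, 1, 1, 2, 2, 2], [0, 0], [0, 0, 0, 0, 1, 1, 2, 2, 2], [0, 0, 0, 1, 2, 2], [0, 1, 1, 1, 1, 2, 2], [0,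 0, 0, 1, 1, 1, 2], [0, 1], [0, 0, 0, 0, 1, 1, 1, 1], [2, 2, 2], [0, 0, 1, 1, 2], [0, 0, 0, 0, 1, 1, 1, 2, 2, 2], [0], [1, 1, 1, 1, 2, 2], [0, 0, 1, 2, 2], [0, 0, 0, 1, 1, 2, 2, 2], [0, 0, 0, 1], [1, 1, 1, 2], [0, 0, 2, 2, 2], [0, 1, 1, 1, 1], [0, 0, 0, 0, 1, 1, 2], [1], [0, 0, 1, 1, 1, 2], [0, 1, 1, 2], [0, 0, 0, 0, 2, 2, 2], [0, 0, 0, 1, 1, 1, 1], [0, 0, 1, 1, 1, 2, 2, 2], [0, 0, 0, 0], [0, 0, 0, 1, 1, 1, 1, 2, 2], [0, 1, 1, 2, 2, 2], [1, 2, 2], [0, 0, 0, 0, 1, 1, 2, 2], [0, 1, 1, 1, 1, 2], [0, 0, 0, 1, 2], [0, 0, 2, 2, 2, 2], [1, 1, 1, 2, 2], [0, 0, 2, 2], [0, 0, 0, 0, 1, 1], [0, 1, 1, 1, 1, 2, 2, 2, 2], [1, 1, 1], [0, 0, 0, 1, 2, 2, 2, 2], [0, 0, 0, 1, 1, 1, 1, 2, 2, 2], [1, 2, 2, 2], [0, 0, 0, 0, 2], [0, 0, 1, 1, 1, 2, 2, 2, 2], [0, 1, 1, 2, 2, 2, 2],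 [0, 1, 1, 1, 1, 2, 2, 2], [0, 0, 0, 1, 2, 2, 2], [1, 1, 1, 2, 2, 2, 2], [0, 0, 0, 0, 1, 1, 2, 2, 2, 2], [0, 0, 2], [0, 2, 2], [0, 0, 0, 1, 1], [0, 0, 1, 2, 2, 2, 2], [0, 0, 0, 0, 1, 1, 1], [1, 1, 1, 1, 2, 2, 2, 2], [0, 0, 0, 0, 1, 1, 1, 1, 2], [0, 0, 1, 1, 2, 2], [2, 2, 2, 2], [0, 1, 2], [0, 0, 0, 1, 1, 1, 2, 2], [0, 0, 0, 0, 1, 2, 2, 2], [0, 0, 1, 1, 1, 1, 2, 2, 2], [0, 1, 1, 1, 2, 2, 2, 2], [1, 1, 2, 2, 2, 2], [0, 0, 0, 2], [0, 0, 0, 0, 2, 2], [0, 1, 1], [1, 2, 2, 2, 2], [0, 0, 0, 1, 1, 1, 1, 2, 2, 2, 2], [0, 0, 1, 1, 1], [0, 1, 2, 2, 2], [0, 0, 0, 0, 1, 1, 1, 1, 2, 2, 2], [0, 0, 1, 1, 2, 2, 2, 2], [0, 0, 0, 1, 1, 1, 2, 2, 2, 2], [2], [0, 1, 1, 2, 2], [0, 0, 0, 1, 1, 1, 1, 2], [0, 0, 1, 1, 1, 2, 2], [1, 2], [0, 0, 0, 0, 2, 2, 2, 2], [1, 1, 1, 1, 2, 2, 2],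 [0, 0, 1, 2, 2, 2], [0, 2], [0, 0, 0, 1, 1, 2, 2, 2, 2], [0, 0, 0, 0, 1, 1, 1, 2, 2, 2, 2], [1, 1], [0, 0, 0, 2, 2], [0, 0, 1, 1, 1, 1, 2, 2, 2, 2], [0, 1, 1, 1], [0, 0, 0, 0, 1, 2, 2, 2, 2], [0, 0, 0, 1, 1, 2, 2], [1, 1, 1, 1, 2], [0, 0, 0, 0, 1, 1, 1, 2, 2], [0, 2, 2, 2, 2], [0, 0, 1, 2], [0, 0, 1, 1], [2, 2], [0, 0, 0, 1, 1, 1], [0, 0, 0, 0, 1, 1, 1, 1, 2, 2, 2, 2], [0, 1, 2, 2, 2, 2], [0, 0, 1, 1, 1, 1, 2], [1, 1, 2, 2], [0, 0, 0, 0, 1, 2], [0, 0, 0, 2, 2, 2, 2], [0, 1, 1, 1, 2, 2]]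

theorem words5_length : words5.length = 125 := by decide +kernel

theorem words5_inc : isStrictInc (words5.map fun l => sigW hsqlk sbase (l.map fun i => gT5.getD i Uid)) = true := by
  decide +kernel

/-- the squares of the polycyclic generators -/
def sqL : List (List ℕ) := [[], [], [], [], [], [8], [], [8], []]

/-- the commutators of the polycyclic generators -/
def cmL : List (List (List ℕ)) := [[[], [2, 5, 6, 7, 8], [8], [6, 7], [5], [8], [8], [], []], [[], [], [6], [4], [], [6], [], [8], []], [[], [], [], [5, 6], [6], [8], [], [], []], [[], [], [], [], [], [], [8], [], []], [[], [], [], [], [], [8], [], [], []], [[], [], [], [], [], [], [], [], []], [[], [], [], [], [], [], [], [], []], [[], [], [], [], [], [], [], [], []], [[], [], [], [], [], [],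 [], [], []]]

/-- the involution words used -/
def invW : List (List ℕ) := [[0], [1], [2], [3], [4], [1, 7], [5, 7]]

/-- the associativity triples used -/
def triL : List (ℕ × ℕ × ℕ) := [(1, 0, 0), (2, 0, 0), (3, 0, 0), (4, 0, 0), (1, 1, 0), (2, 1, 0), (3, 1, 0), (4, 1, 0), (5, 1, 0), (6, 1, 0), (7, 1, 0), (8, 1, 0), (2, 2, 0), (3, 2, 0), (4, 2, 0), (5, 2, 0), (6, 2, 0), (3, 3, 0), (4, 3, 0), (5, 3, 0), (6, 3, 0), (7, 3, 0), (8, 3, 0), (4, 4, 0), (5, 4, 0), (2, 1, 1), (3, 1, 1), (2, 2, 1), (3, 2, 1), (4, 2, 1), (3, 3, 1), (5, 3, 1)]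

/-- the forms of the correcting exponents -/
def CC : List (List (ℕ × ℕ)) := [[], [], [(0, 1), (0, 2), (0, 3), (0, 4)], [], [(1, 3)], [(0, 4)], [(1, 2)], [(0, 3), (1, 2)], [(0, 2)]]

/-- the certificates -/
def certs : List (List ℕ) := [[0], [], [], [], [], [2, 7, 9, 10, 15, 16, 18, 19, 20, 22, 26, 28, 29], [2, 7, 9, 10, 12, 16, 18, 19, 26, 27, 28], [6, 8, 9, 10, 17, 19, 20, 26, 28, 29, 34], [18, 22, 29], [], [1], [], [], [4, 33], [1, 2, 5, 10, 11, 15, 18, 20, 26, 28, 32, 34], [8, 12, 16, 17, 21, 26, 27, 31, 32, 34], [1, 2, 5, 6, 7, 9, 18, 20, 21, 26, 28, 29, 31], [12, 15, 16, 17, 18, 19, 22], [], [], [2], [2, 8, 11, 13, 14, 15, 18, 21, 23, 24, 25, 26, 28, 30, 31, 32, 36], [1, 2, 5, 10, 11, 16, 18, 19, 20, 21, 23, 27, 31, 32, 34, 35, 36, 38], [2, 7, 9, 10,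 12, 15, 19, 22, 29], [8, 12, 16, 17, 21, 26, 27, 31], [8, 15, 16, 17, 18, 19, 21, 22, 28, 31], [8, 18, 19, 22, 29], [], [], [], [3], [4, 37], [8, 10, 12, 14, 16, 20, 23, 25, 26, 28, 29, 30, 31, 34, 35, 36, 38], [2, 7, 9, 12, 15, 17, 19, 20, 21, 22, 23, 27, 28, 30, 32, 34, 36, 38], [6, 8, 15, 16, 18, 19, 21, 22, 23, 24, 28, 30, 32, 36, 38], [18, 22, 27, 28, 29], [], [], [], [], [4], [2, 7, 8, 9, 15, 16, 18, 20, 26, 28, 29, 30], [8, 12, 16, 17, 21, 26, 27, 31, 32, 34, 36], [10, 14, 17, 18, 20, 21, 22, 23, 26, 29, 30, 32, 35, 38], [18, 22, 29, 31], [], [], [], [], [], [2, 7, 8, 9, 15, 16, 19, 20, 26, 28], [15, 16, 18, 21, 23, 26, 27, 28, 29, 31], [15, 16, 21, 22, 23, 29, 31], [8, 19, 22], [], [], [], [], [], [], [8, 12, 16, 17, 21, 26, 27, 31, 34], [28], [8,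 18, 19, 22, 23, 29], [], [], [], [], [], [], [], [2, 6, 7, 9, 18, 19, 20, 21, 23, 26, 28, 31], [8, 18, 19, 22, 23], [], [], [], [], [], [], [], [], [8, 18, 22, 29]]

theorem data_ok : dataOK 9 sqL cmL = true := by decide +kernel

theorem cert_ok : certOK (PcD.ofLists 9 sqL cmL) CC (zforms (PcD.ofLists 9 sqL cmL) 40 invW triL) certs = true := by
  decide +kernel

theorem rels_ok : relsChk hsqlk 100 Uid gT2 9 sqL cmL = true := by decide +kernel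

end Cfsg.Agent.Lib.Helper5.HsM
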