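import Mathlib
import Cfsg.Prelude.Def_KGroupFacts
import Cfsg.Agent.Lib.Helper5.StemA

set_option autoImplicit false

namespace Cfsg.Agent.Lib.Helper5.Stem

universe u v

/-- the quotient of a stem extension by a subgroup of its kernel -/
theorem exists_stem_quot {G : Type v} [Group G] {Γ : Type u} [Group Γ] [Finite Γ]
    (σ : Γ →* G) (hσ : Cfsg.IsStemExtension σ) (M : Subgroup σ.ker) :
    ∃ (Γ' : Type u) (_ : Group Γ') (_ : Finite Γ') (σ' : Γ' →* G) (q : Γ →* Γ'),
      Cfsg.IsStemExtension σ' ∧ Function.Surjective q ∧ (∀ x, σ' (q x) = σ x) ∧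
      (∀ (x : Γ) (hx : x ∈ σ.ker), (⟨x, hx⟩ : σ.ker) ∈ M → q x = 1) ∧
      Nat.card σ'.ker = M.index := by
  classical
  obtain ⟨hsurj, hcen, hder⟩ := hσ
  set M' : Subgroup Γ := M.map σ.ker.subtype with hM'
  have hM'le : M' ≤ σ.ker := by
    rintro _ ⟨x, _, rfl⟩
    exact x.2
  have hM'c : M' ≤ Subgroup.center Γ := hM'le.trans hcen
  haveI hnorm : M'.Normal := by
    constructor
    intro n hn g
    have := Subgroup.mem_center_iff.mp (hM'c hn) g
    rw [this, mul_inv_cancel_right]
    exact hn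
  let σ' : Γ ⧸ M' →* G := QuotientGroup.lift M' σ (fun x hx => hM'le hx)
  have hσ'mk : ∀ x : Γ, σ' (QuotientGroup.mk x) = σ x := fun x => rfl
  have hker' : σ'.ker = σ.ker.map (QuotientGroup.mk' M') := by
    ext y
    obtain ⟨x, rfl⟩ := QuotientGroup.mk_surjective y
    rw [MonoidHom.mem_ker, hσ'mk, Subgroup.mem_map]
    constructor
    · intro h
      exact ⟨x, h, rfl⟩
    · rintro ⟨w, hw, hwx⟩
      have : w⁻¹ * x ∈ M' := by
        rw [← QuotientGroup.eq]; exact hwx
      have h2 : σ (w⁻¹ * x) = 1 := hM'le this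
      rw [map_mul, map_inv, MonoidHom.mem_ker.mp hw, inv_one, one_mul] at h2
      exact h2
  refine ⟨Γ ⧸ M', inferInstance, inferInstance, σ', QuotientGroup.mk' M', ⟨?_, ?_, ?_⟩,
    QuotientGroup.mk'_surjective M', fun x => rfl, ?_, ?_⟩
  · intro g
    obtain ⟨x, hx⟩ := hsurj g
    exact ⟨QuotientGroup.mk x, hx⟩
  · rw [hker']
    rintro _ ⟨w, hw, rfl⟩
    rw [Subgroup.mem_center_iff]
    intro y
    obtain ⟨x, rfl⟩ := QuotientGroup.mk_surjective y
    show (QuotientGroup.mk x : Γ ⧸ M') * QuotientGroup.mk w = QuotientGroup.mk w * QuotientGroup.mk x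
    rw [← QuotientGroup.mk_mul, ← QuotientGroup.mk_mul, Subgroup.mem_center_iff.mp (hcen hw) x]
  · rw [hker']
    have h1 : (commutator Γ).map (QuotientGroup.mk' M') = commutator (Γ ⧸ M') := by
      rw [commutator_def, Subgroup.map_commutator, commutator_def,
        Subgroup.map_top_of_surjective _ (QuotientGroup.mk'_surjective M')]
    rw [← h1]
    exact Subgroup.map_mono hder
  · intro x hx hxM
    rw [QuotientGroup.mk'_apply, QuotientGroup.eq_one_iff, hM', Subgroup.mem_map]
    exact ⟨⟨x, hx⟩, hxM, rfl⟩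
  · rw [hker']
    let f : σ.ker →* Γ ⧸ M' := (QuotientGroup.mk' M').comp σ.ker.subtype
    have hfr : f.range = σ.ker.map (QuotientGroup.mk' M') := by
      rw [MonoidHom.range_comp, Subgroup.range_subtype]
    have hfk : f.ker = M := by
      ext x
      rw [MonoidHom.mem_ker]
      show (QuotientGroup.mk (x : Γ) : Γ ⧸ M') = 1 ↔ _
      rw [QuotientGroup.eq_one_iff, hM', Subgroup.mem_map]
      constructor
      · rintro ⟨y, hy, hyx⟩
        have : y = x := Subtype.ext hyx
        rwa [← this]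
      · intro h
        exact ⟨x, h, rfl⟩
    rw [← hfr, ← hfk, Subgroup.index_ker]

/-- the kernel of a stem extension has order at most two as soon as kernels of odd prime order do
not occur and some pair of commuting elements never has commuting lifts in a stem extension with
kernel of order two -/
theorem card_ker_le_two {G : Type v} [Group G] (x y : G) (hxy : x * y = y * x) (hy2 : y * y = 1)
    (hodd : ∀ (p : ℕ), p.Prime → p ≠ 2 → ∀ (Γ : Type u) [Group Γ] [Finite Γ] (σ : Γ →* G),
      Cfsg.IsStemExtension σ → Nat.card σ.ker ≠ p)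
    (htwo : ∀ (Γ : Type u) [Group Γ] [Finite Γ] (σ : Γ →* G), Cfsg.IsStemExtension σ →
      Nat.card σ.ker = 2 → ∀ X Y : Γ, σ X = x → σ Y = y → X * Y ≠ Y * X)
    {Γ : Type u} [Group Γ] [Finite Γ] (σ : Γ →* G) (hσ : Cfsg.IsStemExtension σ) :
    Nat.card σ.ker ≤ 2 := by
  classical
  have hσ' := hσ
  obtain ⟨hsurj, hcen, hder⟩ := hσ
  obtain ⟨X, hX⟩ := hsurj x
  obtain ⟨Y, hY⟩ := hsurj y
  set c : Γ := X * Y * X⁻¹ * Y⁻¹ with hc
  have hcker : c ∈ σ.ker := by
    rw [MonoidHom.mem_ker, hc, map_mul, map_mul, map_mul, map_inv, map_inv, hX, hY, hxy]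
    group
  have hccen : ∀ g : Γ, g * c = c * g := Subgroup.mem_center_iff.mp (hcen hcker)
  have hY2ker : Y * Y ∈ σ.ker := by
    rw [MonoidHom.mem_ker, map_mul, hY, hy2]
  have hY2cen : ∀ g : Γ, g * (Y * Y) = (Y * Y) * g := Subgroup.mem_center_iff.mp (hcen hY2ker)
  have hc2 : c * c = 1 := by
    have h1 : X * Y * X⁻¹ = c * Y := by rw [hc]; group
    have h2 : X * (Y * Y) * X⁻¹ = c * c * (Y * Y) := by
      calc X * (Y * Y) * X⁻¹ = (X * Y * X⁻¹) * (X * Y * X⁻¹) := by group
        _ = c * Y * (c * Y) := by rw [h1]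
        _ = c * (Y * c) * Y := by group
        _ = c * (c * Y) * Y := by rw [hccen Y]
        _ = c * c * (Y * Y) := by group
    rw [hY2cen X, mul_inv_cancel_right] at h2
    have h3 : (c * c) * (Y * Y) = 1 * (Y * Y) := by rw [← h2, one_mul]
    exact mul_right_cancel h3
  -- the kernel is a commutative group
  letI : CommGroup σ.ker :=
    { (inferInstance : Group σ.ker) with
      mul_comm := fun a b => Subtype.ext (by
        have := Subgroup.mem_center_iff.mp (hcen a.2) b.1
        show (a : Γ) * b = b * a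
        exact this.symm) }
  set C : Subgroup σ.ker := Subgroup.zpowers ⟨c, hcker⟩ with hC
  have hCtop : C = ⊤ := by
    by_contra hne
    -- the quotient is a nontrivial finite commutative group
    have hnt : Nat.card (σ.ker ⧸ C) ≠ 1 := by
      intro h1
      apply hne
      have : C.index = 1 := h1
      exact Subgroup.index_eq_one.mp this
    obtain ⟨p, hp, hpd⟩ := Nat.exists_prime_and_dvd hnt
    haveI : Fact p.Prime := ⟨hp⟩
    obtain ⟨M₀, hM₀⟩ := exists_index_prime (K := σ.ker ⧸ C) p hpd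
    set M : Subgroup σ.ker := M₀.comap (QuotientGroup.mk' C) with hM
    have hMidx : M.index = p := by
      rw [hM, Subgroup.index_comap_of_surjective _ (QuotientGroup.mk'_surjective C), hM₀]
    have hcM : (⟨c, hcker⟩ : σ.ker) ∈ M := by
      rw [hM, Subgroup.mem_comap]
      have : (QuotientGroup.mk' C) (⟨c, hcker⟩ : σ.ker) = 1 := by
        rw [QuotientGroup.mk'_apply, QuotientGroup.eq_one_iff]
        exact Subgroup.mem_zpowers _
      rw [this]
      exact one_mem _
    obtain ⟨Γ', _, _, σ', q, hσ'', hqs, hq, hqM, hcard⟩ := exists_stem_quot σ hσ' M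
    rw [hMidx] at hcard
    by_cases hp2 : p = 2
    · rw [hp2] at hcard
      apply htwo Γ' σ' hσ'' hcard (q X) (q Y) (by rw [hq, hX]) (by rw [hq, hY])
      have h1 : q c = 1 := hqM c hcker hcM
      rw [hc, map_mul, map_mul, map_mul, map_inv, map_inv] at h1
      calc q X * q Y = (q X * q Y * (q X)⁻¹ * (q Y)⁻¹) * (q Y * q X) := by group
        _ = q Y * q X := by rw [h1, one_mul]
    · exact hodd p hp hp2 Γ' σ' hσ'' hcard
  have h1 : Nat.card σ.ker = Nat.card C := by
    rw [hCtop, Subgroup.card_top]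
  rw [h1, hC, Nat.card_zpowers]
  apply Nat.le_of_dvd (by norm_num)
  apply orderOf_dvd_of_pow_eq_one
  apply Subtype.ext
  show (c ^ 2) = 1
  rw [pow_two, hc2]

end Cfsg.Agent.Lib.Helper5.Stem
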