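import Mathlib
import Cfsg.Agent.Lib.Helper5.HsMW
import Cfsg.Agent.Lib.Helper5.StemB
import Cfsg.Agent.Lib.Helper5.StemG
import Cfsg.Agent.Lib.Helper5.StemJ
import Cfsg.Agent.Lib.helper3.StemTools2

set_option autoImplicit false

/-! The Sylow 2-subgroup of the Higman–Sims group on 100 points and the double covers. -/

namespace Cfsg.Agent.Lib.Helper5.HsM

open Cfsg Cfsg.Agent.Lib.helper23 Cfsg.Agent.Lib.Helper5.CP Cfsg.Agent.Lib.Helper5.PcT
open Cfsg.Agent.Lib.Helper5.Stem Cfsg.Agent.Lib.helper3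
open Subgroup
open scoped commutatorElement

theorem card_HSG : Nat.card HSG = 44352000 := HS100_card

theorem conj_of_mul {a b c : HSG} (h : a * b = c * a) : a * b * a⁻¹ = c := by
  rw [h]; group

theorem conj_of_mul' {a b c : HSG} (h : a * b = c * a) : a⁻¹ * c * a = b := by
  rw [mul_assoc, ← h]; group

/-- the generators of the Sylow 2-subgroup, as a function -/
noncomputable def gf : ℕ → HSG := fun i => gG2.getD i 1

/-- the Sylow 2-subgroup -/
def P2 : Subgroup HSG := closure {x | ∃ i, i < 9 ∧ x = gG2.getD i 1}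

theorem rels2 :
    (∀ i, i < 9 → gG2.getD i 1 * gG2.getD i 1 = nfw (fun i => gG2.getD i 1) (sqL.getD i [])) ∧
    (∀ i j, i < j → j < 9 → gG2.getD j 1 * gG2.getD i 1 =
      gG2.getD i 1 * gG2.getD j 1 * nfw (fun i => gG2.getD i 1) ((cmL.getD i []).getD j [])) :=
  rels_of_chk Uid chk_id gT2 gG2 gRep2 9 sqL cmL rels_ok

theorem card_P2_le : Nat.card P2 ≤ 2 ^ 9 :=
  card_closure_gens_le 9 sqL cmL gG2 data_ok rels2.1 rels2.2 (by simp [gG2])

theorem gG2_mem : ∀ g ∈ gG2, g ∈ P2 := by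
  intro g hg
  obtain ⟨i, hi, rfl⟩ := List.mem_iff_getElem.mp hg
  refine subset_closure ⟨i, ?_, ?_⟩
  · simpa [gG2] using hi
  · rw [List.getD_eq_getElem _ _ hi]

theorem card_P2_ge : 512 ≤ Nat.card P2 := by
  have := card_ge_of_words Uid chk_id sbase sbase_lt gT2 gG2 gRep2 P2 gG2_mem words2 words2_inc
  rwa [words2_length] at this

theorem card_P2 : Nat.card P2 = 512 := le_antisymm card_P2_le card_P2_ge

theorem P2_index : ¬ 2 ∣ P2.index := by
  have h := Subgroup.card_mul_index P2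
  rw [card_P2, card_HSG] at h
  have : P2.index = 86625 := by omega
  rw [this]
  norm_num

/-- no double cover in which both classes of involutions lift to involutions -/
theorem no_stem_qinv {Γ : Type*} [Group Γ] [Finite Γ] (σ : Γ →* HSG)
    (hsurj : Function.Surjective σ) (hcen : σ.ker ≤ center Γ) (hder : σ.ker ≤ commutator Γ)
    {z : Γ} (hK : Ker2 σ z) (Qa : QInv σ g1) (Qb : QInv σ g0) : False := by
  have hK' := hK
  obtain ⟨hz1, hz2, hσz, hw, hzc⟩ := hK
  have qA : ∀ {h v : HSG}, h * g1 = v * h → QInv σ v := by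
    intro h v hh
    have := qinv_conj hsurj Qa h
    rwa [conj_of_mul hh] at this
  have qB : ∀ {h v : HSG}, h * g0 = v * h → QInv σ v := by
    intro h v hh
    have := qinv_conj hsurj Qb h
    rwa [conj_of_mul hh] at this
  have hQ : ∀ u ∈ invW, QInv σ (nfw (fun i => gG2.getD i 1) u) := by
    intro u hu
    simp only [invW, List.mem_cons, List.not_mem_nil, or_false] at hu
    rcases hu with rfl | rfl | rfl | rfl | rfl | rfl | rfl
    · show QInv σ (g0 * 1)
      rw [mul_one]; exact Qb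
    · show QInv σ (g1 * 1)
      rw [mul_one]; exact Qa
    · show QInv σ (g2 * 1)
      rw [mul_one]; exact qB q2_conj
    · show QInv σ (g3 * 1)
      rw [mul_one]; exact qA q3_conj
    · show QInv σ (g4 * 1)
      rw [mul_one]; exact qA q4_conj
    · show QInv σ (g1 * (g7 * 1))
      rw [mul_one]; exact qB q17_conj
    · show QInv σ (g5 * (g7 * 1))
      rw [mul_one]; exact qA q57_conj
  have hg1 : ∀ i, 9 ≤ i → (fun i => gG2.getD i 1) i = 1 := by
    intro i hi
    exact List.getD_eq_default _ _ (by simpa [gG2] using hi)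
  have hS := comm_comap_trivial_of_pc hsurj hK' 9 sqL cmL (fun i => gG2.getD i 1) hg1
    rels2.1 rels2.2 40 invW triL CC certs data_ok cert_ok hQ P2 (le_refl _)
    (by rw [card_P2]; norm_num)
  have : Fact (Nat.Prime 2) := ⟨Nat.prime_two⟩
  have := stem_no_prime_of_subgroup σ hsurj hcen hder P2 P2_index hS
    (MonoidHom.mem_ker.mpr hσz) (by rw [pow_two, hz2])
  exact hz1 this

/-- in every double cover the lifts of `g0` and `a2` do not commute -/
theorem lifts_noncomm {Γ : Type*} [Group Γ] [Finite Γ] (σ : Γ →* HSG)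
    (hσ : Cfsg.IsStemExtension σ) (hcard : Nat.card σ.ker = 2) :
    ∀ X Y : Γ, σ X = g0 → σ Y = a2 → X * Y ≠ Y * X := by
  obtain ⟨hsurj, hcen, hder⟩ := hσ
  obtain ⟨z, hK⟩ := ker2_of_card hcen hcard
  have hK' := hK
  obtain ⟨hz1, hz2, hσz, hw, hzc⟩ := hK
  have Qa : QInv σ g1 := by
    refine qinv_of_E8 hsurj hK' g1 g4 g6 g1_sq g1_g4 g1_g6 g4_g6
      ⟨qb, conj_of_mul qb_conj⟩ ⟨qc, conj_of_mul qc_conj⟩ ⟨qab, conj_of_mul qab_conj⟩
      ⟨qac, conj_of_mul qac_conj⟩ ⟨qbc, conj_of_mul qbc_conj⟩ ⟨qabc, conj_of_mul qabc_conj⟩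
  have nQa : ¬ QInv σ g0 := fun Qb => no_stem_qinv σ hsurj hcen hder hK' Qa Qb
  have nQa2 : ¬ QInv σ a2 := by
    intro Q
    apply nQa
    have := qinv_conj hsurj Q qa2⁻¹
    have e : qa2⁻¹ * a2 * qa2⁻¹⁻¹ = g0 := by
      rw [inv_inv]; exact conj_of_mul' qa2_conj
    rwa [e] at this
  have nQa12 : ¬ QInv σ (g0 * a2) := by
    intro Q
    apply nQa
    have := qinv_conj hsurj Q qa12⁻¹
    have e : qa12⁻¹ * (g0 * a2) * qa12⁻¹⁻¹ = g0 := by
      rw [inv_inv]; exact conj_of_mul' qa12_conj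
    rwa [e] at this
  have h12 : (g0 * a2) * (g0 * a2) = 1 := by
    calc (g0 * a2) * (g0 * a2) = g0 * (a2 * g0) * a2 := by group
      _ = g0 * (g0 * a2) * a2 := by rw [g0_a2]
      _ = (g0 * g0) * (a2 * a2) := by group
      _ = 1 := by rw [g0_sq, a2_sq, one_mul]
  intro X Y hX hY hcomm
  have h1 := sq_eq_z_of_not_qinv hK' g0_sq nQa X hX
  have h2 := sq_eq_z_of_not_qinv hK' a2_sq nQa2 Y hY
  have h3 := sq_eq_z_of_not_qinv hK' h12 nQa12 (X * Y) (by rw [map_mul, hX, hY])
  have h4 : (X * Y) * (X * Y) = 1 := by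
    calc (X * Y) * (X * Y) = X * (Y * X) * Y := by group
      _ = X * (X * Y) * Y := by rw [hcomm]
      _ = (X * X) * (Y * Y) := by group
      _ = 1 := by rw [h1, h2, hz2]
  rw [h4] at h3
  exact hz1 h3.symm

end Cfsg.Agent.Lib.Helper5.HsM
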