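import Mathlib
import Cfsg.Agent.Lib.Helper5.StemT

set_option autoImplicit false

/-! The splitting criterion for an extraspecial group of order `p ^ 3` and exponent `p` normalised
by an element inverting both generators. -/

namespace Cfsg.Agent.Lib.Helper5.Stem

open Subgroup
open scoped commutatorElement

variable {Γ G : Type*} [Group Γ] [Group G] {σ : Γ →* G}

/-- preimages of an extraspecial group of order `p ^ 3` and exponent `p` (generated by `x, y`
which an element `s` inverts, fixing their commutator) under a central extension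
whose kernel has exponent `p`, for an odd prime `p` -/
theorem comm_comap_trivial_of_heis_inv (p : ℕ) [hp : Fact p.Prime] (hp2 : p ≠ 2)
    (hsurj : Function.Surjective σ)
    (hcen : σ.ker ≤ center Γ) (hkp : ∀ κ ∈ σ.ker, κ ^ p = 1)
    (x y s : G) (hxp : x ^ p = 1) (hwx : ⁅x, y⁆ * x = x * ⁅x, y⁆)
    (hwy : ⁅x, y⁆ * y = y * ⁅x, y⁆) (hw1 : ⁅x, y⁆ ≠ 1) (hsx : s * x * s⁻¹ = x⁻¹)
    (hsy : s * y * s⁻¹ = y⁻¹) (hsw : s * ⁅x, y⁆ * s⁻¹ = ⁅x, y⁆) :
    ∀ w ∈ ⁅(closure {x, y}).comap σ, (closure {x, y}).comap σ⁆, σ w = 1 → w = 1 := by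
  obtain ⟨X, hX⟩ := hsurj x
  obtain ⟨Y, hY⟩ := hsurj y
  set W := ⁅X, Y⁆ with hW
  have hσW : σ W = ⁅x, y⁆ := by rw [hW, map_commutatorElement, hX, hY]
  -- the pairing of `w` with `x` and `y`
  have key : ∀ c : Γ, c ∈ σ.ker → c⁻¹ = c → c = 1 := by
    intro c hcker e
    have hcp : c ^ p = 1 := hkp c hcker
    have hc2 : c ^ 2 = 1 := by
      rw [pow_two]
      nth_rewrite 1 [← e]
      exact inv_mul_cancel c
    have hord : orderOf c ∣ Nat.gcd 2 p :=
      Nat.dvd_gcd (orderOf_dvd_of_pow_eq_one hc2) (orderOf_dvd_of_pow_eq_one hcp)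
    have hg : Nat.gcd 2 p = 1 := by
      rw [Nat.Coprime.gcd_eq_one]
      rw [Nat.coprime_primes Nat.prime_two hp.out]
      exact fun h => hp2 h.symm
    rw [hg, Nat.dvd_one, orderOf_eq_one_iff] at hord
    exact hord
  have b1 : bet hsurj ⁅x, y⁆ x = 1 := by
    have e := bet_conj hsurj hcen s hwx
    rw [hsw, hsx, bet_inv_right hsurj hcen hwx] at e
    exact key _ (bet_mem_ker hsurj hwx) e
  have b2 : bet hsurj ⁅x, y⁆ y = 1 := by
    have e := bet_conj hsurj hcen s hwy
    rw [hsw, hsy, bet_inv_right hsurj hcen hwy] at e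
    exact key _ (bet_mem_ker hsurj hwy) e
  have hXW : W * X = X * W := by
    have := bet_eq hsurj hcen W X
    rw [hσW, hX, b1] at this
    exact commutatorElement_eq_one_iff_mul_comm.mp this.symm
  have hYW : W * Y = Y * W := by
    have := bet_eq hsurj hcen W Y
    rw [hσW, hY, b2] at this
    exact commutatorElement_eq_one_iff_mul_comm.mp this.symm
  -- pass to the preimage of the subgroup
  set S : Subgroup G := closure {x, y} with hS
  have hxmem : x ∈ S := subset_closure (by simp)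
  have hymem : y ∈ S := subset_closure (by simp)
  have hXm : X ∈ S.comap σ := by show σ X ∈ S; rw [hX]; exact hxmem
  have hYm : Y ∈ S.comap σ := by show σ Y ∈ S; rw [hY]; exact hymem
  set τ := σ.subgroupComap S with hτ
  have hker : τ.ker ≤ center (S.comap σ) := by
    intro g hg
    rw [MonoidHom.mem_ker] at hg
    have hg' : σ (g : Γ) = 1 := congrArg Subtype.val hg
    have hc : (g : Γ) ∈ center Γ := hcen (MonoidHom.mem_ker.2 hg')
    rw [Subgroup.mem_center_iff]
    intro h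
    apply Subtype.ext
    exact Subgroup.mem_center_iff.1 hc h
  have hgenQ : closure {(⟨x, hxmem⟩ : S), ⟨y, hymem⟩} = ⊤ := by
    have h0 := Subgroup.closure_closure_coe_preimage (k := ({x, y} : Set G))
    have hset : (((↑) : closure ({x, y} : Set G) → G) ⁻¹' ({x, y} : Set G)) =
        {(⟨x, hxmem⟩ : closure ({x, y} : Set G)), ⟨y, hymem⟩} := by
      ext ⟨g, hg⟩
      simp [Subtype.ext_iff]
    rw [hset] at h0
    exact h0
  set a : S.comap σ := ⟨X, hXm⟩ with ha
  set b : S.comap σ := ⟨Y, hYm⟩ with hb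
  have hτa : τ a = ⟨x, hxmem⟩ := Subtype.ext hX
  have hτb : τ b = ⟨y, hymem⟩ := Subtype.ext hY
  have hgen : closure {a, b} ⊔ τ.ker = ⊤ := by
    apply Cfsg.Agent.Lib.Helper21.gen_lift τ a b
    rw [hτa, hτb]
    exact hgenQ
  have hcoe : ((⁅a, b⁆ : S.comap σ) : Γ) = W := Cfsg.Agent.Lib.helper3.coe_commElt _ a b
  have hua : ⁅a, b⁆ * a = a * ⁅a, b⁆ := by
    apply Subtype.ext
    show ((⁅a, b⁆ : S.comap σ) : Γ) * X = X * ((⁅a, b⁆ : S.comap σ) : Γ)
    rw [hcoe]; exact hXW
  have hub : ⁅a, b⁆ * b = b * ⁅a, b⁆ := by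
    apply Subtype.ext
    show ((⁅a, b⁆ : S.comap σ) : Γ) * Y = Y * ((⁅a, b⁆ : S.comap σ) : Γ)
    rw [hcoe]; exact hYW
  have hap : a ^ p ∈ τ.ker := by
    rw [MonoidHom.mem_ker, map_pow, hτa]
    apply Subtype.ext
    show x ^ p = 1
    exact hxp
  have hw1' : τ ⁅a, b⁆ ≠ 1 := by
    intro h
    apply hw1
    have h2 : σ ((⁅a, b⁆ : S.comap σ) : Γ) = 1 := congrArg Subtype.val h
    rw [hcoe, hσW] at h2
    exact h2
  have main := heis_abs_p p τ hker a b hgen hua hub hap hw1'
  intro w hw hw1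
  rw [← Subgroup.map_subtype_commutator] at hw
  obtain ⟨w', hw', rfl⟩ := hw
  have h1 : τ w' = 1 := Subtype.ext hw1
  rw [main w' hw' h1]
  rfl

end Cfsg.Agent.Lib.Helper5.Stem
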