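import Mathlib
import Cfsg.Agent.Lib.Helper5.HsMD
import Cfsg.Agent.Lib.Helper5.StemU
import Cfsg.Agent.Lib.helper23.HsqIso

set_option autoImplicit false

/-! Stem extensions of the Higman–Sims group have kernels of order at most two. -/

namespace Cfsg.Agent.Lib.Helper5.HsM

open Cfsg Cfsg.Agent.Lib.helper23 Cfsg.Agent.Lib.Helper5.CP Cfsg.Agent.Lib.Helper5.PcT
open Cfsg.Agent.Lib.Helper5.Stem Cfsg.Agent.Lib.helper3
open Subgroup
open scoped commutatorElement

/-! ### the Sylow `3`-subgroup -/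

/-- the Sylow `3`-subgroup -/
def S3 : Subgroup HSG := closure {x3, y3}

theorem x3_pow' : x3 ^ 3 = 1 := by rw [← x3_cube, pow_succ, pow_two]
theorem y3_pow' : y3 ^ 3 = 1 := by rw [← y3_cube, pow_succ, pow_two]

theorem card_S3_ge : 9 ≤ Nat.card S3 := by
  have h := card_ge_of_words Uid chk_id sbase sbase_lt gT3 gG3 gRep3 S3 ?_ words3 words3_inc
  · rwa [words3_length] at h
  · intro g hg
    simp only [gG3, List.mem_cons, List.not_mem_nil, or_false] at hg
    rcases hg with rfl | rfl
    · exact subset_closure (by simp)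
    · exact subset_closure (by simp)

theorem card_S3_le : Nat.card S3 ≤ 9 := by
  have hrel : y3 * x3 * y3⁻¹ = x3 ^ 1 := by
    rw [pow_one, conj_of_mul x3_y3.symm]
  exact card_closure_pair_le hrel x3_pow' (by norm_num) y3_pow' (by norm_num)

theorem card_S3 : Nat.card S3 = 9 := le_antisymm card_S3_le card_S3_ge

theorem S3_index : ¬ 3 ∣ S3.index := by
  have h1 := Subgroup.card_mul_index S3
  rw [card_S3, card_HSG] at h1
  have : S3.index = 4928000 := by omega
  rw [this]
  norm_num

/-! ### the Sylow `5`-subgroup -/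

/-- the Sylow `5`-subgroup -/
def S5 : Subgroup HSG := closure {x5, y5}

theorem x5_pow' : x5 ^ 5 = 1 := by
  rw [← x5_pow]; simp only [pow_succ, pow_zero, one_mul]

theorem y5_pow' : y5 ^ 5 = 1 := by
  rw [← y5_pow]; simp only [pow_succ, pow_zero, one_mul]

theorem w5_pow' : w5 ^ 5 = 1 := by
  rw [← w5_pow]; simp only [pow_succ, pow_zero, one_mul]

theorem comm_x5y5 : ⁅x5, y5⁆ = w5 := by
  rw [commutatorElement_def]
  have h := w5_comm
  calc x5 * y5 * x5⁻¹ * y5⁻¹ = (x5 * y5) * x5⁻¹ * y5⁻¹ := by group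
    _ = (w5 * y5 * x5) * x5⁻¹ * y5⁻¹ := by rw [h]
    _ = w5 := by group

theorem x5_mem5 : x5 ∈ S5 := subset_closure (by simp)
theorem y5_mem5 : y5 ∈ S5 := subset_closure (by simp)

theorem w5_mem5 : w5 ∈ S5 := by
  rw [← comm_x5y5, commutatorElement_def]
  exact mul_mem (mul_mem (mul_mem x5_mem5 y5_mem5) (inv_mem x5_mem5)) (inv_mem y5_mem5)

theorem card_S5_ge : 125 ≤ Nat.card S5 := by
  have h := card_ge_of_words Uid chk_id sbase sbase_lt gT5 gG5 gRep5 S5 ?_ words5 words5_inc
  · rwa [words5_length] at h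
  · intro g hg
    simp only [gG5, List.mem_cons, List.not_mem_nil, or_false] at hg
    rcases hg with rfl | rfl | rfl
    · exact x5_mem5
    · exact y5_mem5
    · exact w5_mem5

theorem card_S5_le : Nat.card S5 ≤ 125 := by
  have hrel : w5 * x5 * w5⁻¹ = x5 ^ 1 := by
    rw [pow_one, conj_of_mul w5_x5]
  have hN := card_closure_pair_le hrel x5_pow' (by norm_num) w5_pow' (by norm_num)
  have hxN : x5 ∈ closure ({x5, w5} : Set HSG) := subset_closure (by simp)
  have hwN : w5 ∈ closure ({x5, w5} : Set HSG) := subset_closure (by simp)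
  have h3 : Nat.card (closure (insert y5 ({x5, w5} : Set HSG))) ≤
      5 * Nat.card (closure ({x5, w5} : Set HSG)) := by
    apply card_closure_insert_pow_le 5 (by norm_num)
    · rw [y5_pow']; exact one_mem _
    · intro a ha
      rcases ha with rfl | rfl
      · have h : y5 * x5 = (w5 * w5 * w5 * w5 * x5) * y5 := by rw [y5_x5]
        rw [conj_of_mul h]
        exact mul_mem (mul_mem (mul_mem (mul_mem hwN hwN) hwN) hwN) hxN
      · have h : y5 * w5 = w5 * y5 := w5_y5.symm
        rw [conj_of_mul h]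
        exact hwN
  have hle : S5 ≤ closure (insert y5 ({x5, w5} : Set HSG)) := by
    unfold S5
    apply Subgroup.closure_mono
    intro g hg
    rcases hg with rfl | rfl
    · simp
    · simp
  calc Nat.card S5 ≤ Nat.card (closure (insert y5 ({x5, w5} : Set HSG))) :=
        Subgroup.card_le_of_le hle
    _ ≤ 5 * Nat.card (closure ({x5, w5} : Set HSG)) := h3
    _ ≤ 5 * (5 * 5) := Nat.mul_le_mul_left 5 hN

theorem card_S5 : Nat.card S5 = 125 := le_antisymm card_S5_le card_S5_ge

theorem S5_index : ¬ 5 ∣ S5.index := by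
  have h1 := Subgroup.card_mul_index S5
  rw [card_S5, card_HSG] at h1
  have : S5.index = 354816 := by omega
  rw [this]
  norm_num

/-! ### the kernels of odd prime order -/

theorem x3_inv : x3⁻¹ = x3 * x3 := by
  rw [inv_eq_iff_mul_eq_one, ← x3_cube]; group

theorem x5_inv : x5⁻¹ = x5 * x5 * x5 * x5 := by
  rw [inv_eq_iff_mul_eq_one, ← x5_pow]; group

theorem y5_inv : y5⁻¹ = y5 * y5 * y5 * y5 := by
  rw [inv_eq_iff_mul_eq_one, ← y5_pow]; group

theorem card_one_of_all {Γ : Type*} [Group Γ] (K : Subgroup Γ) (hall : ∀ z ∈ K, z = 1) :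
    Nat.card K = 1 := by
  rw [Nat.card_eq_one_iff_unique]
  refine ⟨⟨fun a b => ?_⟩, ⟨1⟩⟩
  apply Subtype.ext
  rw [hall a a.2, hall b b.2]

/-- no stem extension has a kernel of order three -/
theorem no_stem_three {Γ : Type*} [Group Γ] [Finite Γ] (σ : Γ →* HSG)
    (hσ : Cfsg.IsStemExtension σ) (hcard : Nat.card σ.ker = 3) : False := by
  obtain ⟨hsurj, hcen, hder⟩ := hσ
  have hk3 : ∀ κ ∈ σ.ker, κ ^ 3 = 1 := by
    intro κ hκ
    have := pow_card_eq_one' (G := σ.ker) (x := ⟨κ, hκ⟩)
    rw [hcard] at this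
    exact congrArg Subtype.val this
  have htx : t3 * x3 * t3⁻¹ = x3⁻¹ := by
    rw [x3_inv]; exact conj_of_mul t3_x3
  have hty : t3 * y3 * t3⁻¹ = y3 := conj_of_mul t3_y3
  have hS := comm_comap_trivial_of_inverted_pair σ hsurj hcen x3 y3 t3 x3_y3 3 (by decide) x3_pow'
    htx hty
  have : Fact (Nat.Prime 3) := ⟨by norm_num⟩
  have hall : ∀ z ∈ σ.ker, z = 1 := by
    intro z hz
    exact stem_no_prime_of_subgroup σ hsurj hcen hder S3 S3_index (fun w hw _ => hS w hw) hz
      (hk3 z hz)
  have := card_one_of_all σ.ker hall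
  omega

/-- no stem extension has a kernel of order five -/
theorem no_stem_five {Γ : Type*} [Group Γ] [Finite Γ] (σ : Γ →* HSG)
    (hσ : Cfsg.IsStemExtension σ) (hcard : Nat.card σ.ker = 5) : False := by
  obtain ⟨hsurj, hcen, hder⟩ := hσ
  have hk5 : ∀ κ ∈ σ.ker, κ ^ 5 = 1 := by
    intro κ hκ
    have := pow_card_eq_one' (G := σ.ker) (x := ⟨κ, hκ⟩)
    rw [hcard] at this
    exact congrArg Subtype.val this
  have htx : t5 * x5 * t5⁻¹ = x5⁻¹ := by
    rw [x5_inv]; exact conj_of_mul t5_x5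
  have hty : t5 * y5 * t5⁻¹ = y5⁻¹ := by
    rw [y5_inv]; exact conj_of_mul t5_y5
  have htw : t5 * ⁅x5, y5⁆ * t5⁻¹ = ⁅x5, y5⁆ := by rw [comm_x5y5]; exact conj_of_mul t5_w5
  have : Fact (Nat.Prime 5) := ⟨by norm_num⟩
  have hS := comm_comap_trivial_of_heis_inv 5 (by norm_num) hsurj hcen hk5 x5 y5 t5 x5_pow'
    (by rw [comm_x5y5]; exact w5_x5) (by rw [comm_x5y5]; exact w5_y5)
    (by rw [comm_x5y5]; exact w5_ne) htx hty htw
  have hall : ∀ z ∈ σ.ker, z = 1 := by
    intro z hz
    exact stem_no_prime_of_subgroup σ hsurj hcen hder S5 S5_index hS hz (hk5 z hz)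
  have := card_one_of_all σ.ker hall
  omega

/-- no stem extension has a kernel of odd prime order -/
theorem no_stem_odd (p : ℕ) (hpP : p.Prime) (hp2 : p ≠ 2) {Γ : Type*} [Group Γ] [Finite Γ]
    (σ : Γ →* HSG) (hσ : Cfsg.IsStemExtension σ) : Nat.card σ.ker ≠ p := by
  intro hcardp
  by_cases hp3 : p = 3
  · subst hp3
    exact no_stem_three σ hσ hcardp
  by_cases hp5 : p = 5
  · subst hp5
    exact no_stem_five σ hσ hcardp
  have hσ' := hσ
  obtain ⟨hsurj, hcen, hder⟩ := hσ
  have hcard := card_HSG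
  have : Fact p.Prime := ⟨hpP⟩
  obtain ⟨Rr⟩ : Nonempty (Sylow p HSG) := inferInstance
  have hcyc : IsCyclic (Rr : Subgroup HSG) := by
    obtain ⟨j, hj⟩ := IsPGroup.iff_card.mp Rr.2
    have hdvd : p ^ j ∣ 44352000 := by
      rw [← hj, ← hcard]
      exact Subgroup.card_subgroup_dvd_card _
    have hj1 : j ≤ 1 := by
      by_contra hlt
      push Not at hlt
      have h2 : p ^ 2 ∣ 44352000 := dvd_trans (pow_dvd_pow p hlt) hdvd
      have e : (44352000 : ℕ) = 2 ^ 9 * 3 ^ 2 * 5 ^ 3 * 7 * 11 := by norm_num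
      rw [e] at h2
      have hpd : p ∣ 2 ^ 9 * 3 ^ 2 * 5 ^ 3 * 7 * 11 :=
        dvd_trans (dvd_pow_self p (by norm_num)) h2
      have hcases : p = 2 ∨ p = 3 ∨ p = 5 ∨ p = 7 ∨ p = 11 := by
        rcases (Nat.Prime.dvd_mul hpP).mp hpd with h | h
        · rcases (Nat.Prime.dvd_mul hpP).mp h with h | h
          · rcases (Nat.Prime.dvd_mul hpP).mp h with h | h
            · rcases (Nat.Prime.dvd_mul hpP).mp h with h | h
              · left
                exact (Nat.prime_dvd_prime_iff_eq hpP Nat.prime_two).mp (hpP.dvd_of_dvd_pow h)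
              · right; left
                exact (Nat.prime_dvd_prime_iff_eq hpP Nat.prime_three).mp
                  (hpP.dvd_of_dvd_pow h)
            · right; right; left
              exact (Nat.prime_dvd_prime_iff_eq hpP (by norm_num)).mp (hpP.dvd_of_dvd_pow h)
          · right; right; right; left
            exact (Nat.prime_dvd_prime_iff_eq hpP (by norm_num)).mp h
        · right; right; right; right
          exact (Nat.prime_dvd_prime_iff_eq hpP (by norm_num)).mp h
      rcases hcases with rfl | rfl | rfl | rfl | rfl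
      · exact hp2 rfl
      · exact hp3 rfl
      · exact hp5 rfl
      · revert h2; norm_num
      · revert h2; norm_num
    interval_cases j
    · rw [pow_zero] at hj
      have : Subsingleton (Rr : Subgroup HSG) :=
        (Nat.card_eq_one_iff_unique.mp hj).1
      exact isCyclic_of_subsingleton
    · rw [pow_one] at hj
      exact isCyclic_of_prime_card hj
  have hind : ¬ p ∣ (Rr : Subgroup HSG).index := Sylow.not_dvd_index Rr
  have hall : ∀ z ∈ σ.ker, z = 1 := by
    intro z hz
    have hzp : z ^ p = 1 := by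
      have := pow_card_eq_one' (G := σ.ker) (x := ⟨z, hz⟩)
      rw [hcardp] at this
      exact congrArg Subtype.val this
    refine stem_no_prime_of_subgroup σ hsurj hcen hder (Rr : Subgroup HSG) hind ?_
      hz hzp
    intro w hw _
    exact comm_comap_trivial_of_cyclic σ hcen (Rr : Subgroup HSG) w hw
  have := card_one_of_all σ.ker hall
  rw [this] at hcardp
  exact hpP.one_lt.ne hcardp

/-- the kernel of every finite stem extension of the group on 100 points has order at most two -/
theorem hs100_card_ker_le_two {Γ : Type} [Group Γ] [Finite Γ] (σ : Γ →* HSG)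
    (hσ : Cfsg.IsStemExtension σ) : Nat.card σ.ker ≤ 2 := by
  refine card_ker_le_two g0 a2 g0_a2 a2_sq ?_ ?_ σ hσ
  · intro p hp hp2 Γ' _ _ σ' hσ'
    exact no_stem_odd p hp hp2 σ' hσ'
  · intro Γ' _ _ σ' hσ' hc
    exact lifts_noncomm σ' hσ' hc

/-- the kernel of every finite stem extension of the Higman–Sims group has order at most two -/
theorem hs_card_ker_le_two {Γ : Type} [Group Γ] [Finite Γ] (σ : Γ →* Cfsg.Spor.HS)
    (hσ : Cfsg.IsStemExtension σ) : Nat.card σ.ker ≤ 2 := by
  obtain ⟨e⟩ := HS100_equiv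
  obtain ⟨hsurj, hcen, hder⟩ := hσ
  set σ' : Γ →* HSG := e.symm.toMonoidHom.comp σ with hσ'
  have hker : σ'.ker = σ.ker := by
    ext x
    rw [MonoidHom.mem_ker, MonoidHom.mem_ker, hσ', MonoidHom.comp_apply]
    exact MulEquiv.map_eq_one_iff e.symm
  have hst : Cfsg.IsStemExtension σ' := by
    refine ⟨e.symm.surjective.comp hsurj, ?_, ?_⟩
    · rw [hker]; exact hcen
    · rw [hker]; exact hder
  have := hs100_card_ker_le_two σ' hst
  rw [hker] at this
  exact this

end Cfsg.Agent.Lib.Helper5.HsM
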