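import Mathlib
import Cfsg.Agent.Lib.Lead.J2.K6
import Cfsg.Agent.Lib.helper23.J2pMain
import Cfsg.Prelude.Def_KGroupFacts

set_option autoImplicit false

/-! The reflection group of the icosian Leech lattice is a stem extension of the Hall–Janko group
with kernel of order two. -/

namespace Cfsg.Agent.Lib.Helper5.J2M

open Cfsg Cfsg.Agent.Lib.Lead.J2 Cfsg.Agent.Lib.helper23
open Subgroup
open scoped commutatorElement

/-- lifts of two commuting involutions whose commutator is `-1` -/
def lX : List V3 := [Wi 77, Wi 188, Wi 78, Wi 305]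
def lY : List V3 := [Wi 198, Wi 272, Wi 296, Wi 77]

theorem Wi_Mset {i : ℕ} (hi : i < 315) : Wi i ∈ Mset := WlX_sub_Mset (Wi_mem hi)

theorem lX_InM : InM lX :=
  InM_cons (Wi_Mset (by norm_num)) (InM_cons (Wi_Mset (by norm_num))
    (InM_cons (Wi_Mset (by norm_num)) (InM_cons (Wi_Mset (by norm_num)) InM_nil)))

theorem lY_InM : InM lY :=
  InM_cons (Wi_Mset (by norm_num)) (InM_cons (Wi_Mset (by norm_num))
    (InM_cons (Wi_Mset (by norm_num)) (InM_cons (Wi_Mset (by norm_num)) InM_nil)))

theorem InM_reverse {l : List V3} (hl : InM l) : InM l.reverse := by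
  intro s hs
  exact hl s (List.mem_reverse.mp hs)

theorem wordF_reverse {l : List V3} (hl : InM l) : wordF l.reverse = (wordF l)⁻¹ := by
  induction l with
  | nil => simp [wordF]
  | cons s l ih =>
    rw [List.reverse_cons, wordF_append, ih (InM_tail hl), wordF_cons, wordF_cons, wordF_nil,
      mul_one, mul_inv_rev, reflF_inv (InM_head hl)]

/-- the commutator word -/
def lC : List V3 := lX ++ lY ++ lX.reverse ++ lY.reverse

theorem lC_InM : InM lC :=
  InM_append (InM_append (InM_append lX_InM lY_InM) (InM_reverse lX_InM)) (InM_reverse lY_InM)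

theorem lC_check : wordM lC r1 = lsm (-1) r1 ∧ wordM lC r2 = lsm (-1) r2 ∧
    wordM lC r3 = lsm (-1) r3 := by decide +kernel


theorem wordM_lC (v : V3) : wordM lC v = -v := by
  obtain ⟨h1, h2, h3⟩ := lC_check
  rw [word_formula lC h1 h2 h3 v]
  refine V3.ext ?_ ?_ ?_
  · show v.x * -1 = -v.x
    exact aq_mul_neg_one _
  · show v.y * -1 = -v.y
    exact aq_mul_neg_one _
  · show v.z * -1 = -v.z
    exact aq_mul_neg_one _

theorem wordF_lC : wordF lC = negE := by
  apply Equiv.ext
  intro x
  apply Subtype.ext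
  obtain ⟨v, hv, hx⟩ := exists_model x
  rw [word_apply lC_InM x hv hx, wordM_lC, P3_neg, hx, negE_apply]

/-- the two lifts, in the reflection group -/
noncomputable def gX : ↥Spor.twoJ2 := ⟨wordF lX, wordF_mem lX_InM⟩
noncomputable def gY : ↥Spor.twoJ2 := ⟨wordF lY, wordF_mem lY_InM⟩

theorem comm_gX_gY : ⁅gX, gY⁆ = negT := by
  apply Subtype.ext
  show wordF lX * wordF lY * (wordF lX)⁻¹ * (wordF lY)⁻¹ = negE
  rw [← wordF_reverse lX_InM, ← wordF_reverse lY_InM, ← wordF_append, ← wordF_append,
    ← wordF_append]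
  exact wordF_lC

theorem negT_mem_commutator : negT ∈ commutator ↥Spor.twoJ2 := by
  rw [← comm_gX_gY, commutator_def]
  exact Subgroup.commutator_mem_commutator (Subgroup.mem_top _) (Subgroup.mem_top _)

theorem twoJ2_card : Nat.card ↥Spor.twoJ2 = 1209600 := by
  have h1 := Subgroup.card_mul_index psi.ker
  rw [Subgroup.index_ker, psi_range, P315_card, psi_ker, center_card] at h1
  omega

instance twoJ2_finite : Finite ↥Spor.twoJ2 :=
  Nat.finite_of_card_ne_zero (by rw [twoJ2_card]; norm_num)

/-- the quotient map of the reflection group onto the Hall–Janko group -/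
noncomputable def sigJ : ↥Spor.twoJ2 →* Cfsg.Spor.J2 :=
  QuotientGroup.mk' (Subgroup.center ↥Spor.twoJ2)

theorem sigJ_ker : sigJ.ker = Subgroup.center ↥Spor.twoJ2 := QuotientGroup.ker_mk' _

theorem sigJ_stem : Cfsg.IsStemExtension sigJ := by
  refine ⟨QuotientGroup.mk'_surjective _, ?_, ?_⟩
  · rw [sigJ_ker]
  · rw [sigJ_ker]
    intro z hz
    rcases (mem_center_iff' z).1 hz with rfl | rfl
    · exact Subgroup.one_mem _
    · exact negT_mem_commutator

theorem card_ker_sigJ : Nat.card sigJ.ker = 2 := by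
  rw [sigJ_ker]; exact center_card

/-- the Hall–Janko group has a finite stem extension with kernel of order two -/
theorem exists_stem_two_J2 : ∃ (Γ : Type) (_ : Group Γ) (_ : Finite Γ) (σ : Γ →* Cfsg.Spor.J2),
    Cfsg.IsStemExtension σ ∧ Nonempty (σ.ker ≃* Multiplicative (ZMod 2)) := by
  refine ⟨↥Spor.twoJ2, inferInstance, inferInstance, sigJ, sigJ_stem, ?_⟩
  haveI : Fact (Nat.Prime 2) := ⟨Nat.prime_two⟩
  have hcyc : IsCyclic sigJ.ker := isCyclic_of_prime_card card_ker_sigJ
  have e2 := zmodCyclicMulEquiv hcyc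
  rw [card_ker_sigJ] at e2
  exact ⟨e2.symm⟩

end Cfsg.Agent.Lib.Helper5.J2M
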