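import Mathlib
import Cfsg.Agent.Lib.helper4.J2OComp

set_option autoImplicit false

/-! Elements of the Hall–Janko group on 315 points given by words in the four generators. -/

namespace Cfsg.Agent.Lib.Helper5.J2M

open Cfsg.Agent.Lib.Lead.J2 Cfsg.Agent.Lib.helper23 Cfsg.Agent.Lib.helper4

/-- the element of a word -/
def el (w : List ℕ) : ↥P315 := ⟨jqPw w, jqPw_mem w⟩

theorem el_nil : el [] = 1 := rfl

theorem el_mul (w v : List ℕ) : el w * el v = el (w ++ v) := by
  apply Subtype.ext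
  show jqPw w * jqPw v = jqPw (w ++ v)
  rw [jqPw_append]

theorem el_inv (w : List ℕ) : (el w)⁻¹ = el w.reverse := by
  apply Subtype.ext
  show (jqPw w)⁻¹ = jqPw w.reverse
  rw [jqPw_reverse]

theorem el_eq {w v : List ℕ} (h : jqSig (jqWd w) = jqSig (jqWd v)) : el w = el v := by
  apply Subtype.ext
  show jqPw w = jqPw v
  exact jq_eq_of_sig (jqWd w) (jqWd v) _ _ (jqPw_rep w) (jqPw_rep v) (jqPw_mem w) (jqPw_mem v) h

theorem el_eq_one {w : List ℕ} (h : jqSig (jqWd w) = jqSig (jqWd [])) : el w = 1 := by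
  rw [← el_nil]; exact el_eq h

theorem sig_of_el_eq {w v : List ℕ} (h : el w = el v) : jqSig (jqWd w) = jqSig (jqWd v) := by
  have h' : jqPw w = jqPw v := congrArg Subtype.val h
  exact jqSig_of_eq (jqWd w) (jqWd v) _ _ (jqPw_rep w) (jqPw_rep v) h'

theorem el_ne {w v : List ℕ} (h : jqSig (jqWd w) ≠ jqSig (jqWd v)) : el w ≠ el v :=
  fun he => h (sig_of_el_eq he)

/-- conjugation from a commutation relation -/
theorem conj_of_mul {a b c : ↥P315} (h : a * b = c * a) : a * b * a⁻¹ = c := by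
  rw [h]; group

theorem conj_of_mul' {a b c : ↥P315} (h : a * b = c * a) : a⁻¹ * c * a = b := by
  calc a⁻¹ * c * a = a⁻¹ * (c * a) := by group
    _ = a⁻¹ * (a * b) := by rw [h]
    _ = b := by group

end Cfsg.Agent.Lib.Helper5.J2M
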