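import Mathlib
import Cfsg.Agent.Lib.Helper5.J2MA
import Cfsg.Agent.Lib.Helper5.StemC

set_option autoImplicit false

/-! Elements of the Hall–Janko group on 315 points used for the Schur multiplier, and the
relations between them, all checked on the four base points. -/

namespace Cfsg.Agent.Lib.Helper5.J2M

open Cfsg.Agent.Lib.Lead.J2 Cfsg.Agent.Lib.helper23 Cfsg.Agent.Lib.helper4
open Cfsg.Agent.Lib.Helper5.Stem

def a1 : ↥P315 := el [0,2,3,0,2,3,0,2,1,3,2,1,0,2,0]

def a2 : ↥P315 := el [2,3,0,1,3,0,2,0,3,1,2,1,2,1]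

def c1 : ↥P315 := el [2,1,3,2,0,1,0,2,3,1,2]

def c2 : ↥P315 := el [1,2,0,3,1,2,1,3,0,2,1]

def b1 : ↥P315 := el [2,0,1,2,0,3,1,2,1,2,3,0,2,1,2,1,0]

def b2 : ↥P315 := el [2,1,3,0,1,3,0,1,2,3,2,1,0,2,1,0]

def k : ↥P315 := el [3,0,3,1,0,3,1]

def k1 : ↥P315 := el [2,3,2,1,0,3,1,2,1,3,0,2,1]

def tau : ↥P315 := el [1,0,3,0,1]

def x3 : ↥P315 := el [1,2,1,3,0,3,1,0,3,1,2]

def y3 : ↥P315 := el [2,3,2,0,1,0,3,0,2,1,3,0,1]

def t3 : ↥P315 := el [1,0,3,0,2,0,3,0,1]

def w3 : ↥P315 := el [0,3,0,2,3,0,2,3,1,2,1,0,2]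

def x5 : ↥P315 := el [0,3,0,2,1,0,3,0,1]

def y5 : ↥P315 := el [1,2,1,0,2,1,3,0,2,1,3,1,0]

def t5 : ↥P315 := el [3,1,0,3,0,1,3]

def cj_c2 : ↥P315 := el [3,0,1,3,1]

def cj_c1c2 : ↥P315 := el [1,3,0]

def cj_tau : ↥P315 := el [3,2,0,1,2,1]

def cj_a2 : ↥P315 := el [0,1,3,1,2,0]

def cj_a1a2 : ↥P315 := el [0,2,1,3,1,0]

def cj_a1c1 : ↥P315 := el [1,2,1,0,3,1,0,3]

def cj_a1c2 : ↥P315 := el [0,1,3,2,0,1,2,0]

def cj_a2c1 : ↥P315 := el [0,1,3,0,2,3,1,0]

def cj_a2c2 : ↥P315 := el [1,2,0,3,0,1,3]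

def cj_c1a1a2 : ↥P315 := el [0,1,3,2,0,3,1,0]

def cj_b1 : ↥P315 := el [1,0,3,0,1]

def cj_b2 : ↥P315 := el [0,1,3,0,3,1,0]

def cj_b1b2 : ↥P315 := el [3,0,1,0,3]

def cj_b1c1 : ↥P315 := el [1,2,1,0,3,0,2,3]

def cj_b1c2 : ↥P315 := el [2,1,0,3,1,0]

def cj_b2c1 : ↥P315 := el [2,0,1,0,2,0]

def cj_b2c2 : ↥P315 := el [0,2,3,2,1,2,1,3,0]

theorem a1_sq : a1 * a1 = 1 := by
  simp only [a1, el_mul]
  exact el_eq_one (by decide +kernel)

theorem a2_sq : a2 * a2 = 1 := by
  simp only [a2, el_mul]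
  exact el_eq_one (by decide +kernel)

theorem c1_sq : c1 * c1 = 1 := by
  simp only [c1, el_mul]
  exact el_eq_one (by decide +kernel)

theorem c2_sq : c2 * c2 = 1 := by
  simp only [c2, el_mul]
  exact el_eq_one (by decide +kernel)

theorem b1_sq : b1 * b1 = 1 := by
  simp only [b1, el_mul]
  exact el_eq_one (by decide +kernel)

theorem b2_sq : b2 * b2 = 1 := by
  simp only [b2, el_mul]
  exact el_eq_one (by decide +kernel)

theorem tau_sq : tau * tau = 1 := by
  simp only [tau, el_mul]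
  exact el_eq_one (by decide +kernel)

theorem a1_a2 : a1 * a2 = a2 * a1 := by
  simp only [a1, a2, el_mul]
  exact el_eq (by decide +kernel)

theorem a1_c1 : a1 * c1 = c1 * a1 := by
  simp only [a1, c1, el_mul]
  exact el_eq (by decide +kernel)

theorem a1_c2 : a1 * c2 = c2 * a1 := by
  simp only [a1, c2, el_mul]
  exact el_eq (by decide +kernel)

theorem a2_c1 : a2 * c1 = c1 * a2 := by
  simp only [a2, c1, el_mul]
  exact el_eq (by decide +kernel)

theorem a2_c2 : a2 * c2 = c2 * a2 := by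
  simp only [a2, c2, el_mul]
  exact el_eq (by decide +kernel)

theorem c1_c2 : c1 * c2 = c2 * c1 := by
  simp only [c1, c2, el_mul]
  exact el_eq (by decide +kernel)

theorem b1_b2 : b1 * b2 = b2 * b1 := by
  simp only [b1, b2, el_mul]
  exact el_eq (by decide +kernel)

theorem b1_c1 : b1 * c1 = c1 * b1 := by
  simp only [b1, c1, el_mul]
  exact el_eq (by decide +kernel)

theorem b1_c2 : b1 * c2 = c2 * b1 := by
  simp only [b1, c2, el_mul]
  exact el_eq (by decide +kernel)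

theorem b2_c1 : b2 * c1 = c1 * b2 := by
  simp only [b2, c1, el_mul]
  exact el_eq (by decide +kernel)

theorem b2_c2 : b2 * c2 = c2 * b2 := by
  simp only [b2, c2, el_mul]
  exact el_eq (by decide +kernel)

theorem k_cube : k * k * k = 1 := by
  simp only [k, el_mul]
  exact el_eq_one (by decide +kernel)

theorem k1_cube : k1 * k1 * k1 = 1 := by
  simp only [k1, el_mul]
  exact el_eq_one (by decide +kernel)

theorem k_k1 : k * k1 = k1 * k := by
  simp only [k, k1, el_mul]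
  exact el_eq (by decide +kernel)

theorem k_a1 : k * a1 = a1 * a2 * k := by
  simp only [a1, a2, k, el_mul]
  exact el_eq (by decide +kernel)

theorem k_a2 : k * a2 = a1 * k := by
  simp only [a1, a2, k, el_mul]
  exact el_eq (by decide +kernel)

theorem k_c1 : k * c1 = c2 * k := by
  simp only [c1, c2, k, el_mul]
  exact el_eq (by decide +kernel)

theorem k_c2 : k * c2 = c1 * c2 * k := by
  simp only [c1, c2, k, el_mul]
  exact el_eq (by decide +kernel)

theorem k1_a1 : k1 * a1 = a1 * a2 * k1 := by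
  simp only [a1, a2, k1, el_mul]
  exact el_eq (by decide +kernel)

theorem k1_a2 : k1 * a2 = a1 * k1 := by
  simp only [a1, a2, k1, el_mul]
  exact el_eq (by decide +kernel)

theorem k1_c1 : k1 * c1 = c1 * c2 * k1 := by
  simp only [c1, c2, k1, el_mul]
  exact el_eq (by decide +kernel)

theorem k1_c2 : k1 * c2 = c1 * k1 := by
  simp only [c1, c2, k1, el_mul]
  exact el_eq (by decide +kernel)

theorem k_b1 : k * b1 = b2 * k := by
  simp only [b1, b2, k, el_mul]
  exact el_eq (by decide +kernel)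

theorem k_b2 : k * b2 = b1 * b2 * k := by
  simp only [b1, b2, k, el_mul]
  exact el_eq (by decide +kernel)

theorem b1_a1 : b1 * a1 = a1 * c2 * b1 := by
  simp only [a1, b1, c2, el_mul]
  exact el_eq (by decide +kernel)

theorem b1_a2 : b1 * a2 = a2 * c1 * c2 * b1 := by
  simp only [a2, b1, c1, c2, el_mul]
  exact el_eq (by decide +kernel)

theorem b1_k1 : b1 * k1 = k1 * b1 := by
  simp only [b1, k1, el_mul]
  exact el_eq (by decide +kernel)

theorem b2_a1 : b2 * a1 = a1 * c1 * b2 := by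
  simp only [a1, b2, c1, el_mul]
  exact el_eq (by decide +kernel)

theorem b2_a2 : b2 * a2 = a2 * c2 * b2 := by
  simp only [a2, b2, c2, el_mul]
  exact el_eq (by decide +kernel)

theorem b2_k1 : b2 * k1 = k1 * b2 := by
  simp only [b2, k1, el_mul]
  exact el_eq (by decide +kernel)

theorem tau_a1 : tau * a1 = b1 * tau := by
  simp only [a1, b1, tau, el_mul]
  exact el_eq (by decide +kernel)

theorem tau_a2 : tau * a2 = b2 * tau := by
  simp only [a2, b2, tau, el_mul]
  exact el_eq (by decide +kernel)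

theorem tau_c1 : tau * c1 = c1 * c2 * tau := by
  simp only [c1, c2, tau, el_mul]
  exact el_eq (by decide +kernel)

theorem tau_c2 : tau * c2 = c2 * tau := by
  simp only [c2, tau, el_mul]
  exact el_eq (by decide +kernel)

theorem tau_b1 : tau * b1 = a1 * tau := by
  simp only [a1, b1, tau, el_mul]
  exact el_eq (by decide +kernel)

theorem tau_b2 : tau * b2 = a2 * tau := by
  simp only [a2, b2, tau, el_mul]
  exact el_eq (by decide +kernel)

theorem tau_k : tau * k = k * k * tau := by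
  simp only [k, tau, el_mul]
  exact el_eq (by decide +kernel)

theorem nrm_k_a1 : nrm3 k a1 = 1 := by
  simp only [nrm3, k, a1, el_inv, el_mul]
  exact el_eq_one (by decide +kernel)

theorem nrm_k_a2 : nrm3 k a2 = 1 := by
  simp only [nrm3, k, a2, el_inv, el_mul]
  exact el_eq_one (by decide +kernel)

theorem nrm_k_c1 : nrm3 k c1 = 1 := by
  simp only [nrm3, k, c1, el_inv, el_mul]
  exact el_eq_one (by decide +kernel)

theorem nrm_k_c2 : nrm3 k c2 = 1 := by
  simp only [nrm3, k, c2, el_inv, el_mul]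
  exact el_eq_one (by decide +kernel)

theorem nrm_k_b1 : nrm3 k b1 = 1 := by
  simp only [nrm3, k, b1, el_inv, el_mul]
  exact el_eq_one (by decide +kernel)

theorem nrm_k_b2 : nrm3 k b2 = 1 := by
  simp only [nrm3, k, b2, el_inv, el_mul]
  exact el_eq_one (by decide +kernel)

theorem nrm_k1_a1 : nrm3 k1 a1 = 1 := by
  simp only [nrm3, k1, a1, el_inv, el_mul]
  exact el_eq_one (by decide +kernel)

theorem nrm_k1_a2 : nrm3 k1 a2 = 1 := by
  simp only [nrm3, k1, a2, el_inv, el_mul]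
  exact el_eq_one (by decide +kernel)

theorem nrm_k1_c1 : nrm3 k1 c1 = 1 := by
  simp only [nrm3, k1, c1, el_inv, el_mul]
  exact el_eq_one (by decide +kernel)

theorem nrm_k1_c2 : nrm3 k1 c2 = 1 := by
  simp only [nrm3, k1, c2, el_inv, el_mul]
  exact el_eq_one (by decide +kernel)

theorem cj_c2_conj : cj_c2 * c1 = c2 * cj_c2 := by
  simp only [c1, c2, cj_c2, el_mul]
  exact el_eq (by decide +kernel)

theorem cj_c1c2_conj : cj_c1c2 * c1 = c1 * c2 * cj_c1c2 := by
  simp only [c1, c2, cj_c1c2, el_mul]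
  exact el_eq (by decide +kernel)

theorem cj_tau_conj : cj_tau * c1 = tau * cj_tau := by
  simp only [c1, cj_tau, tau, el_mul]
  exact el_eq (by decide +kernel)

theorem cj_a2_conj : cj_a2 * a1 = a2 * cj_a2 := by
  simp only [a1, a2, cj_a2, el_mul]
  exact el_eq (by decide +kernel)

theorem cj_a1a2_conj : cj_a1a2 * a1 = a1 * a2 * cj_a1a2 := by
  simp only [a1, a2, cj_a1a2, el_mul]
  exact el_eq (by decide +kernel)

theorem cj_a1c1_conj : cj_a1c1 * a1 = a1 * c1 * cj_a1c1 := by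
  simp only [a1, c1, cj_a1c1, el_mul]
  exact el_eq (by decide +kernel)

theorem cj_a1c2_conj : cj_a1c2 * a1 = a1 * c2 * cj_a1c2 := by
  simp only [a1, c2, cj_a1c2, el_mul]
  exact el_eq (by decide +kernel)

theorem cj_a2c1_conj : cj_a2c1 * a1 = a2 * c1 * cj_a2c1 := by
  simp only [a1, a2, c1, cj_a2c1, el_mul]
  exact el_eq (by decide +kernel)

theorem cj_a2c2_conj : cj_a2c2 * a1 = a2 * c2 * cj_a2c2 := by
  simp only [a1, a2, c2, cj_a2c2, el_mul]
  exact el_eq (by decide +kernel)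

theorem cj_c1a1a2_conj : cj_c1a1a2 * a1 = c1 * a1 * a2 * cj_c1a1a2 := by
  simp only [a1, a2, c1, cj_c1a1a2, el_mul]
  exact el_eq (by decide +kernel)

theorem cj_b1_conj : cj_b1 * a1 = b1 * cj_b1 := by
  simp only [a1, b1, cj_b1, el_mul]
  exact el_eq (by decide +kernel)

theorem cj_b2_conj : cj_b2 * a1 = b2 * cj_b2 := by
  simp only [a1, b2, cj_b2, el_mul]
  exact el_eq (by decide +kernel)

theorem cj_b1b2_conj : cj_b1b2 * a1 = b1 * b2 * cj_b1b2 := by
  simp only [a1, b1, b2, cj_b1b2, el_mul]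
  exact el_eq (by decide +kernel)

theorem cj_b1c1_conj : cj_b1c1 * a1 = b1 * c1 * cj_b1c1 := by
  simp only [a1, b1, c1, cj_b1c1, el_mul]
  exact el_eq (by decide +kernel)

theorem cj_b1c2_conj : cj_b1c2 * a1 = b1 * c2 * cj_b1c2 := by
  simp only [a1, b1, c2, cj_b1c2, el_mul]
  exact el_eq (by decide +kernel)

theorem cj_b2c1_conj : cj_b2c1 * a1 = b2 * c1 * cj_b2c1 := by
  simp only [a1, b2, c1, cj_b2c1, el_mul]
  exact el_eq (by decide +kernel)

theorem cj_b2c2_conj : cj_b2c2 * a1 = b2 * c2 * cj_b2c2 := by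
  simp only [a1, b2, c2, cj_b2c2, el_mul]
  exact el_eq (by decide +kernel)

theorem sgen_0 : el [1,0,3,0,1] = tau := rfl

theorem sgen_1 : el [3,2,0,3,0,2,3,2] = a2 * c2 * b2 * tau := by
  simp only [a2, b2, c2, tau, el_mul]
  exact el_eq (by decide +kernel)

theorem sgen_2 : el [0,1,3,0,2,0,3,1,0] = a1 * a2 * c2 * b1 * b2 * tau := by
  simp only [a1, a2, b1, b2, c2, tau, el_mul]
  exact el_eq (by decide +kernel)

theorem sgen_3 : el [0,2,1,2,0,3,0,1,3,2] = a1 * c1 * c2 * b1 * b2 := by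
  simp only [a1, b1, b2, c1, c2, el_mul]
  exact el_eq (by decide +kernel)

theorem sgen_4 : el [0,3,2,1,0,3,1,2,3,0] = a1 * a2 * c1 * b2 := by
  simp only [a1, a2, b2, c1, el_mul]
  exact el_eq (by decide +kernel)

theorem x3_cube : x3 * x3 * x3 = 1 := by
  simp only [x3, el_mul]
  exact el_eq_one (by decide +kernel)

theorem y3_cube : y3 * y3 * y3 = 1 := by
  simp only [y3, el_mul]
  exact el_eq_one (by decide +kernel)

theorem w3_cube : w3 * w3 * w3 = 1 := by
  simp only [w3, el_mul]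
  exact el_eq_one (by decide +kernel)

theorem w3_x3 : w3 * x3 = x3 * w3 := by
  simp only [w3, x3, el_mul]
  exact el_eq (by decide +kernel)

theorem w3_y3 : w3 * y3 = y3 * w3 := by
  simp only [w3, y3, el_mul]
  exact el_eq (by decide +kernel)

theorem t3_x3 : t3 * x3 = x3 * x3 * t3 := by
  simp only [t3, x3, el_mul]
  exact el_eq (by decide +kernel)

theorem t3_y3 : t3 * y3 = y3 * y3 * t3 := by
  simp only [t3, y3, el_mul]
  exact el_eq (by decide +kernel)

theorem t3_w3 : t3 * w3 = w3 * t3 := by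
  simp only [t3, w3, el_mul]
  exact el_eq (by decide +kernel)

theorem w3_def : x3 * y3 * x3 * x3 * y3 * y3 = w3 := by
  simp only [w3, x3, y3, el_mul]
  exact el_eq (by decide +kernel)

theorem y3_x3 : y3 * x3 = w3 * w3 * x3 * y3 := by
  simp only [w3, x3, y3, el_mul]
  exact el_eq (by decide +kernel)

theorem w3_ne : w3 ≠ 1 := by
  rw [w3, ← el_nil]
  exact el_ne (by decide +kernel)

theorem x5_pow : x5 * x5 * x5 * x5 * x5 = 1 := by
  simp only [x5, el_mul]
  exact el_eq_one (by decide +kernel)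

theorem y5_pow : y5 * y5 * y5 * y5 * y5 = 1 := by
  simp only [y5, el_mul]
  exact el_eq_one (by decide +kernel)

theorem x5_y5 : x5 * y5 = y5 * x5 := by
  simp only [x5, y5, el_mul]
  exact el_eq (by decide +kernel)

theorem t5_x5 : t5 * x5 = x5 * x5 * x5 * x5 * t5 := by
  simp only [t5, x5, el_mul]
  exact el_eq (by decide +kernel)

theorem t5_y5 : t5 * y5 = y5 * t5 := by
  simp only [t5, y5, el_mul]
  exact el_eq (by decide +kernel)

theorem x3_def : x3 = el [1,2,1,3,0,3,1,0,3,1,2] := rfl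

theorem y3_def : y3 = el [2,3,2,0,1,0,3,0,2,1,3,0,1] := rfl

theorem x5_def : x5 = el [0,3,0,2,1,0,3,0,1] := rfl

theorem y5_def : y5 = el [1,2,1,0,2,1,3,0,2,1,3,1,0] := rfl

attribute [irreducible] a1 a2 c1 c2 b1 b2 k k1 tau x3 y3 t3 w3 x5 y5 t5 cj_c2 cj_c1c2 cj_tau cj_a2 cj_a1a2 cj_a1c1 cj_a1c2 cj_a2c1 cj_a2c2 cj_c1a1a2 cj_b1 cj_b2 cj_b1b2 cj_b1c1 cj_b1c2 cj_b2c1 cj_b2c2


end Cfsg.Agent.Lib.Helper5.J2M
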