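import Mathlib
import Cfsg.Agent.Lib.Helper5.StemE
import Cfsg.Agent.Lib.Helper5.StemH

set_option autoImplicit false

namespace Cfsg.Agent.Lib.Helper5.Stem

open Subgroup
open scoped Pointwise commutatorElement

variable {Γ G : Type*} [Group Γ] [Group G] {σ : Γ →* G}

/-- the lift of order three of an element of order three is unique -/
theorem lift_cube_unique {z : Γ} (hK : Ker2 σ z) {K K' : Γ} (h : σ K = σ K')
    (hK3 : K * K * K = 1) (hK'3 : K' * K' * K' = 1) : K' = K := by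
  obtain ⟨hz1, hz2, hσz, hw, hzc⟩ := hK
  have h1 : σ (K⁻¹ * K') = 1 := by rw [map_mul, map_inv, h, inv_mul_cancel]
  rcases hw _ h1 with h2 | h2
  · exact (inv_mul_eq_one.mp h2).symm
  · exfalso
    have e : K' = K * z := by rw [← h2]; group
    rw [e] at hK'3
    have : K * z * (K * z) * (K * z) = z := by
      calc K * z * (K * z) * (K * z) = K * (z * K) * (z * K) * z := by group
        _ = K * (K * z) * (K * z) * z := by rw [hzc K]
        _ = K * K * (z * K) * z * z := by group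
        _ = K * K * (K * z) * z * z := by rw [hzc K]
        _ = (K * K * K) * (z * z) * z := by group
        _ = z := by rw [hK3, hz2, one_mul, one_mul]
    rw [this] at hK'3
    exact hz1 hK'3

/-- lifts of order three of commuting elements of order three commute -/
theorem lift_cube_comm {z : Γ} (hK : Ker2 σ z) {K K₁ : Γ} (h : σ K * σ K₁ = σ K₁ * σ K)
    (hK3 : K * K * K = 1) : K * K₁ = K₁ * K := by
  have hK' := hK
  obtain ⟨hz1, hz2, hσz, hw, hzc⟩ := hK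
  have h3 : (K₁ * K * K₁⁻¹) * (K₁ * K * K₁⁻¹) * (K₁ * K * K₁⁻¹) = 1 := by
    calc (K₁ * K * K₁⁻¹) * (K₁ * K * K₁⁻¹) * (K₁ * K * K₁⁻¹) = K₁ * (K * K * K) * K₁⁻¹ := by group
      _ = 1 := by rw [hK3]; group
  have hσ : σ K = σ (K₁ * K * K₁⁻¹) := by
    rw [map_mul, map_mul, map_inv, ← h]; group
  have := lift_cube_unique hK' hσ hK3 h3
  calc K * K₁ = (K₁ * K * K₁⁻¹) * K₁ := by rw [this]
    _ = K₁ * K := by group

/-- the norm is trivial on a group generated by commuting involutions on which it is trivial -/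
theorem nrm3_closure_eq_one (S : Set G) (hS2 : ∀ a ∈ S, a * a = 1)
    (hSc : ∀ a ∈ S, ∀ b ∈ S, a * b = b * a) (k : G) (hkS : ∀ a ∈ S, k * a * k⁻¹ ∈ closure S)
    (hkN : ∀ a ∈ S, nrm3 k a = 1) : ∀ e ∈ closure S, nrm3 k e = 1 := by
  obtain ⟨hG2, hGc⟩ := closure_elem S hS2 hSc
  have hkE := conj_mem_closure_of_gens S k hkS
  intro e he
  induction he using Subgroup.closure_induction with
  | mem x hx => exact hkN x hx
  | one => exact nrm3_one k
  | mul x y hx hy ihx ihy =>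
    rw [nrm3_mul (closure S) hGc k hkE hx hy, ihx, ihy, one_mul]
  | inv x hx ih =>
    have : x⁻¹ = x := by
      rw [inv_eq_iff_mul_eq_one]; exact hG2 x hx
    rw [this]; exact ih

/-- the norms of two commuting elements commute on an abelian group normalised by both -/
theorem nrm3_swap {X : Type*} [Group X] (A : Subgroup X) (hA : ∀ a ∈ A, ∀ b ∈ A, a * b = b * a)
    (κ κ₁ : X) (hκ : ∀ a ∈ A, κ * a * κ⁻¹ ∈ A) (hκ₁ : ∀ a ∈ A, κ₁ * a * κ₁⁻¹ ∈ A)
    (hc : κ * κ₁ = κ₁ * κ) {x : X} (hx : x ∈ A) :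
    nrm3 κ (nrm3 κ₁ x) = nrm3 κ₁ (nrm3 κ x) := by
  have hcc : κ₁⁻¹ * κ * κ₁ = κ := by
    calc κ₁⁻¹ * κ * κ₁ = κ₁⁻¹ * (κ * κ₁) := by group
      _ = κ₁⁻¹ * (κ₁ * κ) := by rw [hc]
      _ = κ := by group
  have h1 : ∀ y : X, nrm3 κ (κ₁ * y * κ₁⁻¹) = κ₁ * nrm3 κ y * κ₁⁻¹ := by
    intro y
    rw [nrm3_conj, hcc]
  have m1 : κ₁ * x * κ₁⁻¹ ∈ A := hκ₁ x hx
  have m2 : κ₁ * (κ₁ * x * κ₁⁻¹) * κ₁⁻¹ ∈ A := hκ₁ _ m1
  calc nrm3 κ (nrm3 κ₁ x)
      = nrm3 κ (x * (κ₁ * x * κ₁⁻¹) * (κ₁ * (κ₁ * x * κ₁⁻¹) * κ₁⁻¹)) := rfl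
    _ = nrm3 κ x * nrm3 κ (κ₁ * x * κ₁⁻¹) * nrm3 κ (κ₁ * (κ₁ * x * κ₁⁻¹) * κ₁⁻¹) := by
        rw [nrm3_mul A hA κ hκ (A.mul_mem hx m1) m2, nrm3_mul A hA κ hκ hx m1]
    _ = nrm3 κ x * (κ₁ * nrm3 κ x * κ₁⁻¹) * (κ₁ * (κ₁ * nrm3 κ x * κ₁⁻¹) * κ₁⁻¹) := by
        rw [h1, h1, h1]
    _ = nrm3 κ₁ (nrm3 κ x) := rfl

/-- the norm of a conjugate by an element normalising `⟨k⟩` -/
theorem nrm3_conj_one {z : Γ} (hK : Ker2 σ z) (A : Subgroup Γ)
    (hA : ∀ a ∈ A, ∀ b ∈ A, a * b = b * a) (K : Γ) (hKA : ∀ a ∈ A, K * a * K⁻¹ ∈ A)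
    (hK3 : K * K * K = 1) (d : Γ)
    (hdk : (σ d)⁻¹ * σ K * σ d = σ K ∨ (σ d)⁻¹ * σ K * σ d = σ K * σ K)
    {x : Γ} (hx : x ∈ A) (hxN : nrm3 K x = 1) : nrm3 K (d * x * d⁻¹) = 1 := by
  obtain ⟨hz1, hz2, hσz, hw, hzc⟩ := hK
  have hcen : ∀ w : Γ, σ w = 1 → ∀ g : Γ, g * w = w * g := by
    intro w hw1 g
    rcases hw w hw1 with h | h
    · rw [h, one_mul, mul_one]
    · rw [h]; exact hzc g
  rw [nrm3_conj]
  have key : nrm3 (d⁻¹ * K * d) x = 1 := by
    rcases hdk with h | h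
    · have hw1 : σ (K⁻¹ * (d⁻¹ * K * d)) = 1 := by
        rw [map_mul, map_inv, map_mul, map_mul, map_inv, h, inv_mul_cancel]
      have e : d⁻¹ * K * d = K * (K⁻¹ * (d⁻¹ * K * d)) := by group
      rw [e, nrm3_central K _ x (hcen _ hw1), hxN]
    · have hw1 : σ ((K * K)⁻¹ * (d⁻¹ * K * d)) = 1 := by
        rw [map_mul, map_inv, map_mul, map_mul, map_mul, map_inv, h, inv_mul_cancel]
      have e : d⁻¹ * K * d = (K * K) * ((K * K)⁻¹ * (d⁻¹ * K * d)) := by group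
      rw [e, nrm3_central (K * K) _ x (hcen _ hw1), nrm3_sq A hA K hKA hK3 hx, hxN]
  rw [key]; group

/-- a subgroup containing all lifts of a (nonempty) generating set contains the preimage -/
theorem comap_closure_le_of_lifts (hsurj : Function.Surjective σ) (S : Set G) (H : Subgroup Γ)
    (hker : σ.ker ≤ H) (hH : ∀ y : Γ, σ y ∈ S → y ∈ H) : (closure S).comap σ ≤ H := by
  have h1 : (closure (σ ⁻¹' S)).map σ = closure S := by
    rw [MonoidHom.map_closure, Set.image_preimage_eq S hsurj]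
  rw [← h1, Subgroup.comap_map_eq]
  apply sup_le
  · rw [closure_le]
    intro y hy
    exact hH y hy
  · exact hker


/-- the splitting criterion for a group `U = E E'` generated by two elementary abelian groups:
`E = ⟨S⟩`, `E' = ⟨S'⟩` all of whose involutions lift to involutions, an element `k` of order three
acting fixed point freely on both, an element `k₁` of order three commuting with `k`, acting fixed
point freely on `E` and centralising the generators of `E'` outside `E`; `D` normalises `⟨k⟩` and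
permutes `E, E'`, and lifts isomorphically to `D₁`. Then the kernel of order two meets the derived
group of the preimage of `P ≤ U D` trivially. -/
theorem comm_comap_trivial_of_special [Finite Γ] (hsurj : Function.Surjective σ) {z : Γ}
    (hK : Ker2 σ z) (S S' : Set G)
    (hS2 : ∀ a ∈ S, a * a = 1) (hSc : ∀ a ∈ S, ∀ b ∈ S, a * b = b * a)
    (hSQ : ∀ a ∈ S, QInv σ a) (hSQ2 : ∀ a ∈ S, ∀ b ∈ S, QInv σ (a * b))
    (hS2' : ∀ a ∈ S', a * a = 1) (hSc' : ∀ a ∈ S', ∀ b ∈ S', a * b = b * a)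
    (hSQ' : ∀ a ∈ S', QInv σ a) (hSQ2' : ∀ a ∈ S', ∀ b ∈ S', QInv σ (a * b))
    (k : G) (hk3 : k * k * k = 1) (hkS : ∀ a ∈ S, k * a * k⁻¹ ∈ closure S)
    (hkN : ∀ a ∈ S, nrm3 k a = 1) (hkS' : ∀ a ∈ S', k * a * k⁻¹ ∈ closure S')
    (hkN' : ∀ a ∈ S', nrm3 k a = 1)
    (k₁ : G) (hk₁3 : k₁ * k₁ * k₁ = 1) (hkk₁ : k * k₁ = k₁ * k)
    (hk₁S : ∀ a ∈ S, k₁ * a * k₁⁻¹ ∈ closure S) (hk₁N : ∀ a ∈ S, nrm3 k₁ a = 1)
    (hS'N : ∀ b ∈ S', b ∈ closure S ∨
      ((∀ a ∈ S, b * a * b⁻¹ ∈ closure S) ∧ b⁻¹ * k₁ * b = k₁))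
    (D : Subgroup G)
    (hDS : ∀ d ∈ D, ((∀ e ∈ closure S, d * e * d⁻¹ ∈ closure S) ∧
        (∀ e ∈ closure S', d * e * d⁻¹ ∈ closure S')) ∨
      ((∀ e ∈ closure S, d * e * d⁻¹ ∈ closure S') ∧
        (∀ e ∈ closure S', d * e * d⁻¹ ∈ closure S)))
    (hDk : ∀ d ∈ D, d⁻¹ * k * d = k ∨ d⁻¹ * k * d = k * k)
    (D₁ : Subgroup Γ) (hD₁σ : ∀ x ∈ D₁, σ x ∈ D) (hDle : D ≤ D₁.map σ)
    (n m : ℕ) (hn : Nat.card ↥(closure S ⊔ closure S') ≤ n) (hm : Nat.card D₁ ≤ m)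
    (P : Subgroup G) (hPle : P ≤ closure S ⊔ closure S' ⊔ D) (hPcard : n * m ≤ Nat.card P) :
    ∀ w ∈ ⁅P.comap σ, P.comap σ⁆, σ w = 1 → w = 1 := by
  classical
  haveI : Finite G := Finite.of_surjective σ hsurj
  have hK' := hK
  obtain ⟨hz1, hz2, hσz, hw, hzc⟩ := hK
  have hcen : ∀ w : Γ, σ w = 1 → ∀ g : Γ, g * w = w * g := by
    intro w hw1 g
    rcases hw w hw1 with h | h
    · rw [h, one_mul, mul_one]
    · rw [h]; exact hzc g
  -- the three complements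
  obtain ⟨E₁, K, hKk, hK3, hE₁, hzE₁, hE₁or⟩ :=
    exists_compl hsurj hK' S hS2 hSc hSQ hSQ2 k hk3 hkS hkN
  obtain ⟨E₂, K', hKk', hK3', hE₂', hzE₂, hE₂or⟩ :=
    exists_compl hsurj hK' S' hS2' hSc' hSQ' hSQ2' k hk3 hkS' hkN'
  have hKK' : K' = K := lift_cube_unique hK' (by rw [hKk, hKk']) hK3 hK3'
  have hE₂ : ∀ x, x ∈ E₂ ↔ σ x ∈ closure S' ∧ nrm3 K x = 1 := by
    intro x; rw [hE₂', hKK']
  obtain ⟨F₁, K₁, hK₁k, hK₁3, hF₁, hzF₁, hF₁or⟩ :=
    exists_compl hsurj hK' S hS2 hSc hSQ hSQ2 k₁ hk₁3 hk₁S hk₁N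
  have hKK₁ : K * K₁ = K₁ * K := lift_cube_comm hK' (by rw [hKk, hK₁k, hkk₁]) hK3
  -- the preimage of E
  obtain ⟨hE2, hEc⟩ := comap_closure_elem hsurj hK' S hS2 hSQ hSQ2
  set Et : Subgroup Γ := (closure S).comap σ with hEt
  have hkE := conj_mem_closure_of_gens S k hkS
  have hk₁E := conj_mem_closure_of_gens S k₁ hk₁S
  have hKE : ∀ a ∈ Et, K * a * K⁻¹ ∈ Et := by
    intro a ha
    show σ (K * a * K⁻¹) ∈ closure S
    rw [map_mul, map_mul, map_inv, hKk]
    exact hkE _ ha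
  have hK₁E : ∀ a ∈ Et, K₁ * a * K₁⁻¹ ∈ Et := by
    intro a ha
    show σ (K₁ * a * K₁⁻¹) ∈ closure S
    rw [map_mul, map_mul, map_inv, hK₁k]
    exact hk₁E _ ha
  have hN1 := nrm3_closure_eq_one S hS2 hSc k hkS hkN
  have hN1' := nrm3_closure_eq_one S hS2 hSc k₁ hk₁S hk₁N
  have hNz : ∀ κ : Γ, nrm3 κ z = z := by
    intro κ
    unfold nrm3
    have e1 : κ * z * κ⁻¹ = z := by rw [hzc κ]; group
    rw [e1, e1, hz2, one_mul]
  -- the two complements of E agree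
  have hEF : ∀ x, x ∈ E₁ ↔ x ∈ F₁ := by
    intro x
    rw [hE₁, hF₁]
    constructor
    · rintro ⟨hxS, hxN⟩
      refine ⟨hxS, ?_⟩
      have hσ1 : σ (nrm3 K₁ x) = 1 := by rw [map_nrm3, hK₁k]; exact hN1' _ hxS
      rcases hw _ hσ1 with h | h
      · exact h
      · exfalso
        have h2 := nrm3_swap Et hEc K K₁ hKE hK₁E hKK₁ (x := x) hxS
        rw [hxN, nrm3_one, h, hNz] at h2
        exact hz1 h2
    · rintro ⟨hxS, hxN⟩
      refine ⟨hxS, ?_⟩
      have hσ1 : σ (nrm3 K x) = 1 := by rw [map_nrm3, hKk]; exact hN1 _ hxS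
      rcases hw _ hσ1 with h | h
      · exact h
      · exfalso
        have h2 := nrm3_swap Et hEc K K₁ hKE hK₁E hKK₁ (x := x) hxS
        rw [hxN, nrm3_one, h, hNz] at h2
        exact hz1 h2.symm
  -- the preimage of E' normalises E₁
  have hzmem : ∀ H : Subgroup Γ, (∀ y : Γ, σ y ∈ S' → y ∈ H) → S'.Nonempty → σ.ker ≤ H := by
    intro H hH ⟨b, hb⟩ w hw1
    obtain ⟨y, hy⟩ := hsurj b
    have h1 : y ∈ H := hH y (by rw [hy]; exact hb)
    have h2 : y * w ∈ H := hH (y * w) (by rw [map_mul, hy, MonoidHom.mem_ker.mp hw1, mul_one]; exact hb)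
    have : w = y⁻¹ * (y * w) := by group
    rw [this]
    exact H.mul_mem (H.inv_mem h1) h2
  have hE₁sub : ∀ x ∈ E₁, x ∈ Et := fun x hx => ((hE₁ x).mp hx).1
  have hnormE : (closure S').comap σ ≤ normalizer (E₁ : Set Γ) := by
    by_cases hne : S'.Nonempty
    · apply comap_closure_le_of_lifts hsurj S' _ (hzmem _ ?_ hne) ?_
      all_goals
        intro y hy
        apply Subgroup.mem_normalizer_fintype
        intro x hx
        rcases hS'N _ hy with hb | ⟨hbS, hbk⟩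
        · have hyE : y ∈ Et := hb
          have : y * x * y⁻¹ = x := by
            rw [hEc y hyE x (hE₁sub x hx)]; group
          rw [this]; exact hx
        · show y * x * y⁻¹ ∈ E₁
          rw [hEF]
          exact compl_conj_mem hsurj hK' S hS2 hSQ hSQ2 k₁ hk₁S F₁ K₁ hK₁k hK₁3 hF₁ y
            (conj_mem_closure_of_gens S (σ y) hbS) (Or.inl hbk) x ((hEF x).mp hx)
    · rw [Set.not_nonempty_iff_eq_empty] at hne
      intro y hy
      rw [Subgroup.mem_comap, hne, Subgroup.closure_empty, Subgroup.mem_bot] at hy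
      have hyc := hcen y hy
      apply Subgroup.mem_normalizer_fintype
      intro x hx
      have : y * x * y⁻¹ = x := by
        rw [← hyc x]; group
      rw [this]; exact hx
  have hE₂sub : E₂ ≤ (closure S').comap σ := fun x hx => ((hE₂ x).mp hx).1
  have hnorm2 : E₂ ≤ normalizer (E₁ : Set Γ) := hE₂sub.trans hnormE
  set U₁ : Subgroup Γ := E₂ ⊔ E₁ with hU₁
  have hU₁coe : ((U₁ : Subgroup Γ) : Set Γ) = (E₂ : Set Γ) * (E₁ : Set Γ) :=
    Subgroup.coe_mul_of_left_le_normalizer_right E₂ E₁ hnorm2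
  have hU₁mem : ∀ u ∈ U₁, ∃ y ∈ E₂, ∃ x ∈ E₁, u = y * x := by
    intro u hu
    have : u ∈ ((U₁ : Subgroup Γ) : Set Γ) := hu
    rw [hU₁coe] at this
    obtain ⟨y, hy, x, hx, rfl⟩ := this
    exact ⟨y, hy, x, hx, rfl⟩
  have hzU₁ : z ∉ U₁ := by
    intro hzU
    obtain ⟨y, hy, x, hx, hyx⟩ := hU₁mem z hzU
    obtain ⟨hyS, hyN⟩ := (hE₂ y).mp hy
    obtain ⟨hxS, hxN⟩ := (hE₁ x).mp hx
    have hyE : y ∈ E₁ := by
      rw [hE₁]
      refine ⟨?_, hyN⟩
      have : y = z * x⁻¹ := by rw [hyx]; group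
      rw [this, map_mul, hσz, one_mul, map_inv]
      exact inv_mem hxS
    apply hzE₁
    rw [hyx]
    exact E₁.mul_mem hyE hx
  have hσU₁ : ∀ u ∈ U₁, σ u ∈ closure S ⊔ closure S' := by
    intro u hu
    obtain ⟨y, hy, x, hx, rfl⟩ := hU₁mem u hu
    rw [map_mul]
    exact mul_mem (le_sup_right (a := closure S) ((hE₂ y).mp hy).1)
      (le_sup_left (b := closure S') ((hE₁ x).mp hx).1)
  -- D₁ normalises U₁
  obtain ⟨hE2', hEc'⟩ := comap_closure_elem hsurj hK' S' hS2' hSQ' hSQ2'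
  set Et' : Subgroup Γ := (closure S').comap σ with hEt'
  have hkE' := conj_mem_closure_of_gens S' k hkS'
  have hKE' : ∀ a ∈ Et', K * a * K⁻¹ ∈ Et' := by
    intro a ha
    show σ (K * a * K⁻¹) ∈ closure S'
    rw [map_mul, map_mul, map_inv, hKk]
    exact hkE' _ ha
  have hnormD : D₁ ≤ normalizer (U₁ : Set Γ) := by
    intro d hd
    apply Subgroup.mem_normalizer_fintype
    intro u hu
    obtain ⟨y, hy, x, hx, rfl⟩ := hU₁mem u hu
    obtain ⟨hyS, hyN⟩ := (hE₂ y).mp hy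
    obtain ⟨hxS, hxN⟩ := (hE₁ x).mp hx
    have hdk : (σ d)⁻¹ * σ K * σ d = σ K ∨ (σ d)⁻¹ * σ K * σ d = σ K * σ K := by
      rw [hKk]; exact hDk _ (hD₁σ d hd)
    have nx : nrm3 K (d * x * d⁻¹) = 1 := nrm3_conj_one hK' Et hEc K hKE hK3 d hdk hxS hxN
    have ny : nrm3 K (d * y * d⁻¹) = 1 := nrm3_conj_one hK' Et' hEc' K hKE' hK3 d hdk hyS hyN
    have e : d * (y * x) * d⁻¹ = (d * y * d⁻¹) * (d * x * d⁻¹) := by group
    rw [e]
    rcases hDS _ (hD₁σ d hd) with ⟨h1, h2⟩ | ⟨h1, h2⟩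
    · have mx : d * x * d⁻¹ ∈ E₁ := by
        rw [hE₁]; refine ⟨?_, nx⟩
        rw [map_mul, map_mul, map_inv]; exact h1 _ hxS
      have my : d * y * d⁻¹ ∈ E₂ := by
        rw [hE₂]; refine ⟨?_, ny⟩
        rw [map_mul, map_mul, map_inv]; exact h2 _ hyS
      exact U₁.mul_mem (le_sup_left (b := E₁) my) (le_sup_right (a := E₂) mx)
    · have mx : d * x * d⁻¹ ∈ E₂ := by
        rw [hE₂]; refine ⟨?_, nx⟩
        rw [map_mul, map_mul, map_inv]; exact h1 _ hxS
      have my : d * y * d⁻¹ ∈ E₁ := by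
        rw [hE₁]; refine ⟨?_, ny⟩
        rw [map_mul, map_mul, map_inv]; exact h2 _ hyS
      exact U₁.mul_mem (le_sup_right (a := E₂) my) (le_sup_left (b := E₁) mx)
  set P₁ : Subgroup Γ := D₁ ⊔ U₁ with hP₁
  -- cardinality of U₁
  have hcU : Nat.card U₁ ≤ Nat.card ↥(closure S ⊔ closure S') := by
    let f : U₁ → ↥(closure S ⊔ closure S') := fun x => ⟨σ x, hσU₁ x x.2⟩
    apply Nat.card_le_card_of_injective f
    intro x y hxy
    have h1 : σ (x : Γ) = σ (y : Γ) := congrArg Subtype.val hxy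
    have h2 : σ ((x : Γ)⁻¹ * y) = 1 := by rw [map_mul, map_inv, h1, inv_mul_cancel]
    rcases hw _ h2 with h | h
    · apply Subtype.ext
      exact inv_mul_eq_one.mp h
    · exfalso
      apply hzU₁
      rw [← h]
      exact U₁.mul_mem (U₁.inv_mem x.2) y.2
  have hcP₁ : Nat.card P₁ ≤ n * m := by
    have h1 : ((P₁ : Subgroup Γ) : Set Γ) = (D₁ : Set Γ) * (U₁ : Set Γ) :=
      Subgroup.coe_mul_of_left_le_normalizer_right D₁ U₁ hnormD
    have h2 : Nat.card P₁ = Nat.card ((D₁ : Set Γ) * (U₁ : Set Γ) : Set Γ) := by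
      rw [← h1]; rfl
    rw [h2]
    calc Nat.card ((D₁ : Set Γ) * (U₁ : Set Γ) : Set Γ)
        ≤ Nat.card (D₁ : Set Γ) * Nat.card (U₁ : Set Γ) := Set.natCard_mul_le
      _ ≤ m * n := Nat.mul_le_mul hm (hcU.trans hn)
      _ = n * m := mul_comm _ _
  -- every element of the preimage of P is in P₁ · ker
  have hdec : ∀ x : Γ, σ x ∈ P → ∃ y ∈ P₁, σ (y⁻¹ * x) = 1 := by
    intro x hx
    have h1 : closure S ≤ E₁.map σ := by
      intro e he
      obtain ⟨x, rfl⟩ := hsurj e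
      rcases hE₁or x he with h | h
      · exact ⟨x, h, rfl⟩
      · exact ⟨x * z, h, by rw [map_mul, hσz, mul_one]⟩
    have h1' : closure S' ≤ E₂.map σ := by
      intro e he
      obtain ⟨x, rfl⟩ := hsurj e
      rcases hE₂or x he with h | h
      · exact ⟨x, h, rfl⟩
      · exact ⟨x * z, h, by rw [map_mul, hσz, mul_one]⟩
    have h2 : closure S ⊔ closure S' ⊔ D ≤ P₁.map σ := by
      rw [hP₁, hU₁, Subgroup.map_sup, Subgroup.map_sup]
      refine sup_le (sup_le ?_ ?_) ?_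
      · exact h1.trans (le_sup_right.trans le_sup_right)
      · exact h1'.trans (le_sup_left.trans le_sup_right)
      · exact hDle.trans le_sup_left
    obtain ⟨y, hy, hyx⟩ := h2 (hPle hx)
    exact ⟨y, hy, by rw [map_mul, map_inv, hyx, inv_mul_cancel]⟩
  have hcomm : ⁅P.comap σ, P.comap σ⁆ ≤ P₁ := by
    rw [Subgroup.commutator_le]
    intro g₁ hg₁ g₂ hg₂
    obtain ⟨y₁, hy₁, hw₁⟩ := hdec g₁ hg₁
    obtain ⟨y₂, hy₂, hw₂⟩ := hdec g₂ hg₂
    have c₁ := hcen _ hw₁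
    have c₂ := hcen _ hw₂
    set w₁ := y₁⁻¹ * g₁ with hw₁d
    set w₂ := y₂⁻¹ * g₂ with hw₂d
    have e₁ : g₁ = y₁ * w₁ := by rw [hw₁d]; group
    have e₂ : g₂ = y₂ * w₂ := by rw [hw₂d]; group
    have : ⁅g₁, g₂⁆ = ⁅y₁, y₂⁆ := by
      rw [e₁, e₂, commutatorElement_def, commutatorElement_def]
      calc y₁ * w₁ * (y₂ * w₂) * (y₁ * w₁)⁻¹ * (y₂ * w₂)⁻¹
          = y₁ * (w₁ * y₂) * w₂ * w₁⁻¹ * y₁⁻¹ * w₂⁻¹ * y₂⁻¹ := by group
        _ = y₁ * (y₂ * w₁) * w₂ * w₁⁻¹ * y₁⁻¹ * w₂⁻¹ * y₂⁻¹ := by rw [← c₁ y₂]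
        _ = y₁ * y₂ * (w₁ * w₂) * w₁⁻¹ * y₁⁻¹ * w₂⁻¹ * y₂⁻¹ := by group
        _ = y₁ * y₂ * (w₂ * w₁) * w₁⁻¹ * y₁⁻¹ * w₂⁻¹ * y₂⁻¹ := by rw [c₂ w₁]
        _ = y₁ * y₂ * (w₂ * y₁⁻¹) * w₂⁻¹ * y₂⁻¹ := by group
        _ = y₁ * y₂ * (y₁⁻¹ * w₂) * w₂⁻¹ * y₂⁻¹ := by rw [← c₂ y₁⁻¹]
        _ = y₁ * y₂ * y₁⁻¹ * y₂⁻¹ := by group
    rw [this, commutatorElement_def]
    exact P₁.mul_mem (P₁.mul_mem (P₁.mul_mem hy₁ hy₂) (P₁.inv_mem hy₁)) (P₁.inv_mem hy₂)
  intro w hwc hw1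
  have hwP : w ∈ P₁ := hcomm hwc
  rcases hw w hw1 with h | h
  · exact h
  · exfalso
    rw [h] at hwP
    have hle : P.comap σ ≤ P₁ := by
      intro x hx
      obtain ⟨y, hy, hwx⟩ := hdec x hx
      have e : x = y * (y⁻¹ * x) := by group
      rw [e]
      rcases hw _ hwx with h' | h'
      · rw [h', mul_one]; exact hy
      · rw [h']; exact P₁.mul_mem hy hwP
    have hc1 : Nat.card (P.comap σ) ≤ Nat.card P₁ := Subgroup.card_le_of_le hle
    let f : P.comap σ → P := fun x => ⟨σ x, x.2⟩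
    have hfs : Function.Surjective f := by
      rintro ⟨g, hg⟩
      obtain ⟨x, rfl⟩ := hsurj g
      exact ⟨⟨x, hg⟩, rfl⟩
    have hfi : ¬ Function.Injective f := by
      intro hinj
      have hzm : z ∈ P.comap σ := by
        show σ z ∈ P
        rw [hσz]; exact one_mem _
      have : (⟨z, hzm⟩ : P.comap σ) = 1 := by
        apply hinj
        apply Subtype.ext
        show σ z = σ 1
        rw [hσz, map_one]
      exact hz1 (congrArg Subtype.val this)
    haveI : Fintype (P.comap σ) := Fintype.ofFinite _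
    haveI : Finite P := Finite.of_surjective f hfs
    haveI : Fintype P := Fintype.ofFinite _
    have hlt := Fintype.card_lt_of_surjective_not_injective f hfs hfi
    rw [← Nat.card_eq_fintype_card, ← Nat.card_eq_fintype_card] at hlt
    omega


/-- lifts of three elements whose squares and pairwise product squares are all `z` -/
theorem e8_core {z : Γ} (hK : Ker2 σ z) (A B C : Γ) (sA : A * A = z) (sB : B * B = z)
    (sC : C * C = z) (sAB : A * B * (A * B) = z) (sAC : A * C * (A * C) = z)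
    (sBC : B * C * (B * C) = z) : A * B * C * (A * B * C) = 1 := by
  obtain ⟨hz1, hz2, hσz, hw, hzc⟩ := hK
  have iA : A⁻¹ = A * z := by
    rw [inv_eq_iff_mul_eq_one]
    calc A * (A * z) = (A * A) * z := by group
      _ = 1 := by rw [sA, hz2]
  have iB : B⁻¹ = B * z := by
    rw [inv_eq_iff_mul_eq_one]
    calc B * (B * z) = (B * B) * z := by group
      _ = 1 := by rw [sB, hz2]
  have iC : C⁻¹ = C * z := by
    rw [inv_eq_iff_mul_eq_one]
    calc C * (C * z) = (C * C) * z := by group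
      _ = 1 := by rw [sC, hz2]
  have anti : ∀ X Y : Γ, X⁻¹ = X * z → Y⁻¹ = Y * z → X * Y * (X * Y) = z → Y * X = z * (X * Y) := by
    intro X Y iX iY s
    have e1 : Y * X = X⁻¹ * (X * Y * (X * Y)) * Y⁻¹ := by group
    rw [e1, s, iX, iY]
    calc X * z * z * (Y * z) = X * (z * z) * (Y * z) := by group
      _ = X * (Y * z) := by rw [hz2, mul_one]
      _ = X * (z * Y) := by rw [hzc Y]
      _ = (X * z) * Y := by group
      _ = (z * X) * Y := by rw [hzc X]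
      _ = z * (X * Y) := by group
  have cBA := anti A B iA iB sAB
  have cCA := anti A C iA iC sAC
  have cCB := anti B C iB iC sBC
  calc A * B * C * (A * B * C) = A * B * (C * A) * B * C := by group
    _ = A * B * (z * (A * C)) * B * C := by rw [cCA]
    _ = A * (B * z) * A * C * B * C := by group
    _ = A * (z * B) * A * C * B * C := by rw [hzc B]
    _ = (A * z) * (B * A) * C * B * C := by group
    _ = (A * z) * (z * (A * B)) * C * B * C := by rw [cBA]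
    _ = A * (z * z) * A * B * (C * B) * C := by group
    _ = A * A * B * (z * (B * C)) * C := by rw [hz2, cCB]; group
    _ = A * A * (B * z) * B * C * C := by group
    _ = A * A * (z * B) * B * C * C := by rw [hzc B]
    _ = (A * A) * z * (B * B) * (C * C) := by group
    _ = 1 := by rw [sA, sB, sC, hz2, one_mul, hz2]

/-- the `E₈` argument, mixed version: if six of the seven involutions of an elementary abelian
group of order eight are conjugate to one element `r`, the seventh lifts to involutions -/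
theorem qinv_of_E8_mixed (hsurj : Function.Surjective σ) {z : Γ} (hK : Ker2 σ z) (a b c r : G)
    (ha : a * a = 1) (hr : r * r = 1)
    (h1 : ∃ h : G, h * r * h⁻¹ = b) (h2 : ∃ h : G, h * r * h⁻¹ = c)
    (h3 : ∃ h : G, h * r * h⁻¹ = a * b) (h4 : ∃ h : G, h * r * h⁻¹ = a * c)
    (h5 : ∃ h : G, h * r * h⁻¹ = b * c) (h6 : ∃ h : G, h * r * h⁻¹ = a * b * c) :
    QInv σ a := by
  have hK' := hK
  obtain ⟨hz1, hz2, hσz, hw, hzc⟩ := hK
  have hinv : ∀ v : G, (∃ h : G, h * r * h⁻¹ = v) → v * v = 1 := by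
    rintro v ⟨h, rfl⟩
    calc h * r * h⁻¹ * (h * r * h⁻¹) = h * (r * r) * h⁻¹ := by group
      _ = 1 := by rw [hr]; group
  intro A hA
  obtain ⟨B, hB⟩ := hsurj b
  obtain ⟨C, hC⟩ := hsurj c
  by_cases hq : QInv σ r
  · have hconj : ∀ v : G, (∃ h : G, h * r * h⁻¹ = v) → QInv σ v := by
      rintro v ⟨h, rfl⟩
      exact qinv_conj hsurj hq h
    have sB : B * B = 1 := hconj b h1 B hB
    have sC : C * C = 1 := hconj c h2 C hC
    have sAB : A * B * (A * B) = 1 := hconj _ h3 (A * B) (by rw [map_mul, hA, hB])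
    have sAC : A * C * (A * C) = 1 := hconj _ h4 (A * C) (by rw [map_mul, hA, hC])
    have sBC : B * C * (B * C) = 1 := hconj _ h5 (B * C) (by rw [map_mul, hB, hC])
    have sABC : A * B * C * (A * B * C) = 1 :=
      hconj _ h6 (A * B * C) (by rw [map_mul, map_mul, hA, hB, hC])
    have iB : B⁻¹ = B := by rw [inv_eq_iff_mul_eq_one]; exact sB
    have iC : C⁻¹ = C := by rw [inv_eq_iff_mul_eq_one]; exact sC
    have e1 : B * A * B = A⁻¹ := by
      calc B * A * B = A⁻¹ * (A * B * (A * B)) := by group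
        _ = A⁻¹ := by rw [sAB, mul_one]
    have e2 : C * A * C = A⁻¹ := by
      calc C * A * C = A⁻¹ * (A * C * (A * C)) := by group
        _ = A⁻¹ := by rw [sAC, mul_one]
    have e3 : B * C * A * B * C = A⁻¹ := by
      calc B * C * A * B * C = A⁻¹ * (A * B * C * (A * B * C)) := by group
        _ = A⁻¹ := by rw [sABC, mul_one]
    have cBC : B * C = C * B := by
      calc B * C = B * (B * C * (B * C)) * C := by rw [sBC, mul_one]
        _ = (B * B) * C * B * (C * C) := by group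
        _ = C * B := by rw [sB, sC, one_mul, mul_one]
    have e4 : B * C * A * B * C = A := by
      calc B * C * A * B * C = B * C * A * (B * C) := by group
        _ = B * C * A * (C * B) := by rw [cBC]
        _ = B * (C * A * C) * B := by group
        _ = B * A⁻¹ * B := by rw [e2]
        _ = (B⁻¹ * A * B⁻¹)⁻¹ := by group
        _ = (B * A * B)⁻¹ := by rw [iB]
        _ = A := by rw [e1, inv_inv]
    have hAi : A = A⁻¹ := e4.symm.trans e3
    calc A * A = A * A⁻¹ := congrArg (fun t => A * t) hAi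
      _ = 1 := mul_inv_cancel A
  · have hconj : ∀ v : G, (∃ h : G, h * r * h⁻¹ = v) → ¬ QInv σ v := by
      rintro v ⟨h, rfl⟩ hqv
      apply hq
      have := qinv_conj hsurj hqv h⁻¹
      have e : h⁻¹ * (h * r * h⁻¹) * h⁻¹⁻¹ = r := by group
      rwa [e] at this
    have sB := sq_eq_z_of_not_qinv hK' (hinv b h1) (hconj b h1) B hB
    have sC := sq_eq_z_of_not_qinv hK' (hinv c h2) (hconj c h2) C hC
    have sAB := sq_eq_z_of_not_qinv hK' (hinv _ h3) (hconj _ h3) (A * B)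
      (by rw [map_mul, hA, hB])
    have sAC := sq_eq_z_of_not_qinv hK' (hinv _ h4) (hconj _ h4) (A * C)
      (by rw [map_mul, hA, hC])
    have sBC := sq_eq_z_of_not_qinv hK' (hinv _ h5) (hconj _ h5) (B * C)
      (by rw [map_mul, hB, hC])
    have sABC := sq_eq_z_of_not_qinv hK' (hinv _ h6) (hconj _ h6) (A * B * C)
      (by rw [map_mul, map_mul, hA, hB, hC])
    rcases lift_sq hK' ha hA with h | h
    · exact h
    · exfalso
      have := e8_core hK' A B C h sB sC sAB sAC sBC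
      rw [this] at sABC
      exact hz1 sABC.symm

end Cfsg.Agent.Lib.Helper5.Stem
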