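import Mathlib
import Cfsg.Agent.Lib.Helper5.J2MB
import Cfsg.Agent.Lib.Helper5.StemF
import Cfsg.Agent.Lib.Helper5.StemN
import Cfsg.Agent.Lib.helper3.StemTools2

set_option autoImplicit false

/-! The subgroups of the Hall–Janko group on 315 points used for the Schur multiplier. -/

namespace Cfsg.Agent.Lib.Helper5.J2M

open Cfsg.Agent.Lib.Lead.J2 Cfsg.Agent.Lib.helper23 Cfsg.Agent.Lib.helper4
open Cfsg.Agent.Lib.Helper5.Stem Cfsg.Agent.Lib.helper3
open Subgroup

instance p315_finite : Finite ↥P315 :=
  Nat.finite_of_card_ne_zero (by rw [P315_card]; norm_num)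

/-- conjugation maps a generated subgroup into another one if it does so on generators -/
theorem conj_mem_closure_of_gens₂ {G : Type*} [Group G] (S S' : Set G) (k : G)
    (hkS : ∀ a ∈ S, k * a * k⁻¹ ∈ closure S') : ∀ e ∈ closure S, k * e * k⁻¹ ∈ closure S' := by
  intro e he
  induction he using Subgroup.closure_induction with
  | mem x hx => exact hkS x hx
  | one => simp
  | mul x y _ _ ihx ihy =>
    have : k * (x * y) * k⁻¹ = (k * x * k⁻¹) * (k * y * k⁻¹) := by group
    rw [this]; exact mul_mem ihx ihy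
  | inv x _ ih =>
    have : k * x⁻¹ * k⁻¹ = (k * x * k⁻¹)⁻¹ := by group
    rw [this]; exact inv_mem ih

/-- generators of the first elementary abelian group of order sixteen -/
def SE : Set ↥P315 := {a1, a2, c1, c2}

/-- generators of the second elementary abelian group of order sixteen -/
def SE' : Set ↥P315 := {b1, b2, c1, c2}

/-- generators of a complement of the first group in their product -/
def SB : Set ↥P315 := {b1, b2}

theorem mem_SE {a : ↥P315} (ha : a ∈ SE) : a = a1 ∨ a = a2 ∨ a = c1 ∨ a = c2 := by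
  simpa [SE] using ha

theorem mem_SE' {a : ↥P315} (ha : a ∈ SE') : a = b1 ∨ a = b2 ∨ a = c1 ∨ a = c2 := by
  simpa [SE'] using ha

theorem a1_mem : a1 ∈ closure SE := subset_closure (by simp [SE])
theorem a2_mem : a2 ∈ closure SE := subset_closure (by simp [SE])
theorem c1_mem : c1 ∈ closure SE := subset_closure (by simp [SE])
theorem c2_mem : c2 ∈ closure SE := subset_closure (by simp [SE])
theorem b1_mem' : b1 ∈ closure SE' := subset_closure (by simp [SE'])
theorem b2_mem' : b2 ∈ closure SE' := subset_closure (by simp [SE'])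
theorem c1_mem' : c1 ∈ closure SE' := subset_closure (by simp [SE'])
theorem c2_mem' : c2 ∈ closure SE' := subset_closure (by simp [SE'])

theorem SE_sq : ∀ a ∈ SE, a * a = 1 := by
  intro a ha
  rcases mem_SE ha with rfl | rfl | rfl | rfl
  · exact a1_sq
  · exact a2_sq
  · exact c1_sq
  · exact c2_sq

theorem SE'_sq : ∀ a ∈ SE', a * a = 1 := by
  intro a ha
  rcases mem_SE' ha with rfl | rfl | rfl | rfl
  · exact b1_sq
  · exact b2_sq
  · exact c1_sq
  · exact c2_sq

theorem SE_comm : ∀ a ∈ SE, ∀ b ∈ SE, a * b = b * a := by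
  intro a ha b hb
  rcases mem_SE ha with rfl | rfl | rfl | rfl <;> rcases mem_SE hb with rfl | rfl | rfl | rfl <;>
    (first
      | rfl
      | exact a1_a2
      | exact a1_c1
      | exact a1_c2
      | exact a2_c1
      | exact a2_c2
      | exact c1_c2
      | exact a1_a2.symm
      | exact a1_c1.symm
      | exact a1_c2.symm
      | exact a2_c1.symm
      | exact a2_c2.symm
      | exact c1_c2.symm)

theorem SE'_comm : ∀ a ∈ SE', ∀ b ∈ SE', a * b = b * a := by
  intro a ha b hb
  rcases mem_SE' ha with rfl | rfl | rfl | rfl <;> rcases mem_SE' hb with rfl | rfl | rfl | rfl <;>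
    (first
      | rfl
      | exact b1_b2
      | exact b1_c1
      | exact b1_c2
      | exact b2_c1
      | exact b2_c2
      | exact c1_c2
      | exact b1_b2.symm
      | exact b1_c1.symm
      | exact b1_c2.symm
      | exact b2_c1.symm
      | exact b2_c2.symm
      | exact c1_c2.symm)

theorem k_SE : ∀ a ∈ SE, k * a * k⁻¹ ∈ closure SE := by
  intro a ha
  rcases mem_SE ha with rfl | rfl | rfl | rfl
  · rw [conj_of_mul k_a1]
    all_goals repeat (first | exact a1_mem | exact a2_mem | exact c1_mem | exact c2_mem | apply mul_mem)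
  · rw [conj_of_mul k_a2]
    all_goals repeat (first | exact a1_mem | exact a2_mem | exact c1_mem | exact c2_mem | apply mul_mem)
  · rw [conj_of_mul k_c1]
    all_goals repeat (first | exact a1_mem | exact a2_mem | exact c1_mem | exact c2_mem | apply mul_mem)
  · rw [conj_of_mul k_c2]
    all_goals repeat (first | exact a1_mem | exact a2_mem | exact c1_mem | exact c2_mem | apply mul_mem)

theorem k_SE' : ∀ a ∈ SE', k * a * k⁻¹ ∈ closure SE' := by
  intro a ha
  rcases mem_SE' ha with rfl | rfl | rfl | rfl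
  · rw [conj_of_mul k_b1]
    all_goals repeat (first | exact b1_mem' | exact b2_mem' | exact c1_mem' | exact c2_mem' | apply mul_mem)
  · rw [conj_of_mul k_b2]
    all_goals repeat (first | exact b1_mem' | exact b2_mem' | exact c1_mem' | exact c2_mem' | apply mul_mem)
  · rw [conj_of_mul k_c1]
    all_goals repeat (first | exact b1_mem' | exact b2_mem' | exact c1_mem' | exact c2_mem' | apply mul_mem)
  · rw [conj_of_mul k_c2]
    all_goals repeat (first | exact b1_mem' | exact b2_mem' | exact c1_mem' | exact c2_mem' | apply mul_mem)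

theorem k1_SE : ∀ a ∈ SE, k1 * a * k1⁻¹ ∈ closure SE := by
  intro a ha
  rcases mem_SE ha with rfl | rfl | rfl | rfl
  · rw [conj_of_mul k1_a1]
    all_goals repeat (first | exact a1_mem | exact a2_mem | exact c1_mem | exact c2_mem | apply mul_mem)
  · rw [conj_of_mul k1_a2]
    all_goals repeat (first | exact a1_mem | exact a2_mem | exact c1_mem | exact c2_mem | apply mul_mem)
  · rw [conj_of_mul k1_c1]
    all_goals repeat (first | exact a1_mem | exact a2_mem | exact c1_mem | exact c2_mem | apply mul_mem)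
  · rw [conj_of_mul k1_c2]
    all_goals repeat (first | exact a1_mem | exact a2_mem | exact c1_mem | exact c2_mem | apply mul_mem)

theorem k_nrm : ∀ a ∈ SE, nrm3 k a = 1 := by
  intro a ha
  rcases mem_SE ha with rfl | rfl | rfl | rfl
  · exact nrm_k_a1
  · exact nrm_k_a2
  · exact nrm_k_c1
  · exact nrm_k_c2

theorem k_nrm' : ∀ a ∈ SE', nrm3 k a = 1 := by
  intro a ha
  rcases mem_SE' ha with rfl | rfl | rfl | rfl
  · exact nrm_k_b1
  · exact nrm_k_b2
  · exact nrm_k_c1
  · exact nrm_k_c2

theorem k1_nrm : ∀ a ∈ SE, nrm3 k1 a = 1 := by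
  intro a ha
  rcases mem_SE ha with rfl | rfl | rfl | rfl
  · exact nrm_k1_a1
  · exact nrm_k1_a2
  · exact nrm_k1_c1
  · exact nrm_k1_c2

theorem b1_SE : ∀ a ∈ SE, b1 * a * b1⁻¹ ∈ closure SE := by
  intro a ha
  rcases mem_SE ha with rfl | rfl | rfl | rfl
  · rw [conj_of_mul b1_a1]
    all_goals repeat (first | exact a1_mem | exact a2_mem | exact c1_mem | exact c2_mem | apply mul_mem)
  · rw [conj_of_mul b1_a2]
    all_goals repeat (first | exact a1_mem | exact a2_mem | exact c1_mem | exact c2_mem | apply mul_mem)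
  · rw [conj_of_mul b1_c1]
    exact c1_mem
  · rw [conj_of_mul b1_c2]
    exact c2_mem

theorem b2_SE : ∀ a ∈ SE, b2 * a * b2⁻¹ ∈ closure SE := by
  intro a ha
  rcases mem_SE ha with rfl | rfl | rfl | rfl
  · rw [conj_of_mul b2_a1]
    all_goals repeat (first | exact a1_mem | exact a2_mem | exact c1_mem | exact c2_mem | apply mul_mem)
  · rw [conj_of_mul b2_a2]
    all_goals repeat (first | exact a1_mem | exact a2_mem | exact c1_mem | exact c2_mem | apply mul_mem)
  · rw [conj_of_mul b2_c1]
    exact c1_mem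
  · rw [conj_of_mul b2_c2]
    exact c2_mem

theorem SE'_N : ∀ b ∈ SE', b ∈ closure SE ∨
    ((∀ a ∈ SE, b * a * b⁻¹ ∈ closure SE) ∧ b⁻¹ * k1 * b = k1) := by
  intro b hb
  rcases mem_SE' hb with rfl | rfl | rfl | rfl
  · right; exact ⟨b1_SE, conj_of_mul' b1_k1⟩
  · right; exact ⟨b2_SE, conj_of_mul' b2_k1⟩
  · left; exact c1_mem
  · left; exact c2_mem

/-- the complement of order two -/
def DD : Subgroup ↥P315 := closure {tau}

theorem tau_inv : tau⁻¹ = tau := by
  rw [inv_eq_iff_mul_eq_one]; exact tau_sq

theorem DD_cases : ∀ d ∈ DD, d = 1 ∨ d = tau := by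
  intro d hd
  unfold DD at hd
  induction hd using Subgroup.closure_induction with
  | mem x hx => right; simpa using hx
  | one => left; rfl
  | mul x y _ _ ihx ihy =>
    rcases ihx with rfl | rfl <;> rcases ihy with rfl | rfl
    · left; rw [one_mul]
    · right; rw [one_mul]
    · right; rw [mul_one]
    · left; exact tau_sq
  | inv x _ ih =>
    rcases ih with rfl | rfl
    · left; rw [inv_one]
    · right; exact tau_inv

theorem tau_SE : ∀ a ∈ SE, tau * a * tau⁻¹ ∈ closure SE' := by
  intro a ha
  rcases mem_SE ha with rfl | rfl | rfl | rfl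
  · rw [conj_of_mul tau_a1]; exact b1_mem'
  · rw [conj_of_mul tau_a2]; exact b2_mem'
  · rw [conj_of_mul tau_c1]; exact mul_mem c1_mem' c2_mem'
  · rw [conj_of_mul tau_c2]; exact c2_mem'

theorem tau_SE' : ∀ a ∈ SE', tau * a * tau⁻¹ ∈ closure SE := by
  intro a ha
  rcases mem_SE' ha with rfl | rfl | rfl | rfl
  · rw [conj_of_mul tau_b1]; exact a1_mem
  · rw [conj_of_mul tau_b2]; exact a2_mem
  · rw [conj_of_mul tau_c1]; exact mul_mem c1_mem c2_mem
  · rw [conj_of_mul tau_c2]; exact c2_mem

theorem DD_S : ∀ d ∈ DD, ((∀ e ∈ closure SE, d * e * d⁻¹ ∈ closure SE) ∧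
      (∀ e ∈ closure SE', d * e * d⁻¹ ∈ closure SE')) ∨
    ((∀ e ∈ closure SE, d * e * d⁻¹ ∈ closure SE') ∧
      (∀ e ∈ closure SE', d * e * d⁻¹ ∈ closure SE)) := by
  intro d hd
  rcases DD_cases d hd with rfl | rfl
  · left
    constructor
    · intro e he; simpa using he
    · intro e he; simpa using he
  · right
    exact ⟨conj_mem_closure_of_gens₂ SE SE' tau tau_SE, conj_mem_closure_of_gens₂ SE' SE tau tau_SE'⟩

theorem DD_k : ∀ d ∈ DD, d⁻¹ * k * d = k ∨ d⁻¹ * k * d = k * k := by
  intro d hd
  rcases DD_cases d hd with rfl | rfl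
  · left; group
  · right
    have h := conj_of_mul tau_k
    rw [tau_inv]
    rw [tau_inv] at h
    exact h

/-! ### cardinalities -/

theorem card_SE_le : Nat.card (closure SE) ≤ 16 := by
  have h4 : Nat.card (closure ({c2} : Set ↥P315)) ≤ 2 :=
    card_closure_singleton_invol_le c2_sq
  have h3 : Nat.card (closure ({c1, c2} : Set ↥P315)) ≤ 2 * 2 := by
    refine (card_closure_insert_invol_le c1_sq ?_).trans (Nat.mul_le_mul_left _ h4)
    intro t ht
    rcases ht with rfl
    exact c1_c2
  have h2 : Nat.card (closure ({a2, c1, c2} : Set ↥P315)) ≤ 2 * (2 * 2) := by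
    refine (card_closure_insert_invol_le a2_sq ?_).trans (Nat.mul_le_mul_left _ h3)
    intro t ht
    rcases ht with rfl | rfl
    · exact a2_c1
    · exact a2_c2
  have h1 : Nat.card (closure ({a1, a2, c1, c2} : Set ↥P315)) ≤ 2 * (2 * (2 * 2)) := by
    refine (card_closure_insert_invol_le a1_sq ?_).trans (Nat.mul_le_mul_left _ h2)
    intro t ht
    rcases ht with rfl | rfl | rfl
    · exact a1_a2
    · exact a1_c1
    · exact a1_c2
  exact h1

theorem card_SB_le : Nat.card (closure SB) ≤ 4 := by
  have h2 : Nat.card (closure ({b2} : Set ↥P315)) ≤ 2 :=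
    card_closure_singleton_invol_le b2_sq
  have h1 : Nat.card (closure ({b1, b2} : Set ↥P315)) ≤ 2 * 2 := by
    refine (card_closure_insert_invol_le b1_sq ?_).trans (Nat.mul_le_mul_left _ h2)
    intro t ht
    rcases ht with rfl
    exact b1_b2
  exact h1

theorem SB_le_normalizer : closure SB ≤ normalizer ((closure SE : Subgroup ↥P315) : Set _) := by
  apply closure_le_normalizer_closure SE SB
  intro d hd a ha
  rcases hd with rfl | rfl
  · exact b1_SE a ha
  · exact b2_SE a ha

theorem card_U_le : Nat.card ↥(closure SE ⊔ closure SE') ≤ 64 := by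
  have hle : closure SE ⊔ closure SE' ≤ closure SE ⊔ closure SB := by
    apply sup_le le_sup_left
    rw [closure_le]
    intro x hx
    rcases mem_SE' hx with rfl | rfl | rfl | rfl
    · exact le_sup_right (a := closure SE) (subset_closure (by simp [SB]))
    · exact le_sup_right (a := closure SE) (subset_closure (by simp [SB]))
    · exact le_sup_left (b := closure SB) c1_mem
    · exact le_sup_left (b := closure SB) c2_mem
  calc Nat.card ↥(closure SE ⊔ closure SE') ≤ Nat.card ↥(closure SE ⊔ closure SB) :=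
        Subgroup.card_le_of_le hle
    _ ≤ Nat.card (closure SE) * Nat.card (closure SB) := card_sup_le_of_le_normalizer SB_le_normalizer
    _ ≤ 16 * 4 := Nat.mul_le_mul card_SE_le card_SB_le

/-- the Sylow `2`-subgroup -/
def PP : Subgroup ↥P315 := jqS.subgroupOf P315

theorem card_PP : Nat.card PP = 128 := by
  rw [← jqS_card]
  exact Nat.card_congr (Subgroup.subgroupOfEquivOfLe jqS_le).toEquiv

theorem PP_index : ¬ 2 ∣ PP.index := by
  have h1 := Subgroup.card_mul_index PP
  rw [card_PP, P315_card] at h1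
  have : PP.index = 4725 := by omega
  rw [this]
  norm_num

theorem PP_le : PP ≤ closure SE ⊔ closure SE' ⊔ DD := by
  have hA : closure SE ≤ closure SE ⊔ closure SE' ⊔ DD := le_sup_left.trans le_sup_left
  have hB : closure SE' ≤ closure SE ⊔ closure SE' ⊔ DD := le_sup_right.trans le_sup_left
  have hD : DD ≤ closure SE ⊔ closure SE' ⊔ DD := le_sup_right
  have ma1 := hA a1_mem
  have ma2 := hA a2_mem
  have mc1 := hA c1_mem
  have mc2 := hA c2_mem
  have mb1 := hB b1_mem'
  have mb2 := hB b2_mem'
  have mt : tau ∈ closure SE ⊔ closure SE' ⊔ DD := hD (subset_closure (by simp))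
  have key : ∀ y ∈ jqS, ∀ hy : y ∈ P315, (⟨y, hy⟩ : ↥P315) ∈ closure SE ⊔ closure SE' ⊔ DD := by
    intro y hy
    unfold jqS at hy
    induction hy using Subgroup.closure_induction with
    | mem y hy =>
      obtain ⟨j, rfl⟩ := hy
      intro hy'
      by_cases hj : j < 5
      · have e : (⟨jqSgen j, hy'⟩ : ↥P315) = el (jqSgw.getD j []) := rfl
        rw [e]
        interval_cases j
        · have l0 : jqSgw.getD 0 [] = [1,0,3,0,1] := rfl
          rw [l0, sgen_0]; exact mt
        · have l1 : jqSgw.getD 1 [] = [3,2,0,3,0,2,3,2] := rfl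
          rw [l1, sgen_1]
          repeat (first | exact ma1 | exact ma2 | exact mc1 | exact mc2 | exact mb1 | exact mb2 | exact mt | apply mul_mem)
        · have l2 : jqSgw.getD 2 [] = [0,1,3,0,2,0,3,1,0] := rfl
          rw [l2, sgen_2]
          repeat (first | exact ma1 | exact ma2 | exact mc1 | exact mc2 | exact mb1 | exact mb2 | exact mt | apply mul_mem)
        · have l3 : jqSgw.getD 3 [] = [0,2,1,2,0,3,0,1,3,2] := rfl
          rw [l3, sgen_3]
          repeat (first | exact ma1 | exact ma2 | exact mc1 | exact mc2 | exact mb1 | exact mb2 | exact mt | apply mul_mem)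
        · have l4 : jqSgw.getD 4 [] = [0,3,2,1,0,3,1,2,3,0] := rfl
          rw [l4, sgen_4]
          repeat (first | exact ma1 | exact ma2 | exact mc1 | exact mc2 | exact mb1 | exact mb2 | exact mt | apply mul_mem)
      · have e : (⟨jqSgen j, hy'⟩ : ↥P315) = 1 := by
          apply Subtype.ext
          exact jqSgen_big j (by omega)
        rw [e]; exact one_mem _
    | one => intro hy'; exact one_mem _
    | mul x y hx hy ihx ihy =>
      intro hy'
      have hx' : x ∈ P315 := by
        have : x ∈ jqS := hx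
        exact jqS_le this
      have hy'' : y ∈ P315 := by
        have : y ∈ jqS := hy
        exact jqS_le this
      have e : (⟨x * y, hy'⟩ : ↥P315) = ⟨x, hx'⟩ * ⟨y, hy''⟩ := rfl
      rw [e]
      exact mul_mem (ihx hx') (ihy hy'')
    | inv x hx ihx =>
      intro hy'
      have hx' : x ∈ P315 := by
        have : x ∈ jqS := hx
        exact jqS_le this
      have e : (⟨x⁻¹, hy'⟩ : ↥P315) = (⟨x, hx'⟩ : ↥P315)⁻¹ := rfl
      rw [e]
      exact inv_mem (ihx hx')
  intro x hx
  have hx' : (x : Equiv.Perm (Fin 315)) ∈ jqS := Subgroup.mem_subgroupOf.mp hx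
  exact key x.1 hx' x.2

end Cfsg.Agent.Lib.Helper5.J2M
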