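import Mathlib
import Cfsg.Agent.Lib.Helper5.J2MC

set_option autoImplicit false

/-! The Sylow `3`- and `5`-subgroups of the Hall–Janko group on 315 points. -/

namespace Cfsg.Agent.Lib.Helper5.J2M

open Cfsg.Agent.Lib.Lead.J2 Cfsg.Agent.Lib.helper23 Cfsg.Agent.Lib.helper4
open Cfsg.Agent.Lib.Helper5.Stem Cfsg.Agent.Lib.helper3
open Subgroup
open scoped commutatorElement

/-- words in two elements given by words -/
def evalW (u v : List ℕ) (l : List ℕ) : List ℕ := l.flatMap fun i => if i = 0 then u else v

/-- the corresponding products -/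
def evalG (x y : ↥P315) (l : List ℕ) : ↥P315 := (l.map fun i => if i = 0 then x else y).prod

theorem evalG_eq (u v : List ℕ) (l : List ℕ) : evalG (el u) (el v) l = el (evalW u v l) := by
  induction l with
  | nil => exact el_nil.symm
  | cons i l ih =>
    unfold evalG evalW at *
    rw [List.map_cons, List.prod_cons, List.flatMap_cons, ← el_mul, ih]
    by_cases hi : i = 0
    · rw [if_pos hi, if_pos hi]
    · rw [if_neg hi, if_neg hi]

theorem evalG_mem (x y : ↥P315) (l : List ℕ) : evalG x y l ∈ closure ({x, y} : Set ↥P315) := by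
  induction l with
  | nil => exact one_mem _
  | cons i l ih =>
    unfold evalG at *
    rw [List.map_cons, List.prod_cons]
    apply mul_mem _ ih
    by_cases hi : i = 0
    · rw [if_pos hi]; exact subset_closure (by simp)
    · rw [if_neg hi]; exact subset_closure (by simp)

/-- a lower bound for the order of a subgroup generated by two words -/
theorem card_closure_ge (u v : List ℕ) (ws : List (List ℕ))
    (h : (ws.map fun l => jqSig (jqWd (evalW u v l))).Nodup) :
    ws.length ≤ Nat.card (closure ({el u, el v} : Set ↥P315)) := by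
  classical
  have h1 : (ws.map (evalG (el u) (el v))).Nodup := by
    have h0 : ws.Nodup := List.Nodup.of_map _ h
    apply List.Nodup.map_on _ h0
    intro a ha b hb hab
    rw [evalG_eq, evalG_eq] at hab
    exact List.inj_on_of_nodup_map h ha hb (sig_of_el_eq hab)
  set F : Finset ↥P315 := (ws.map (evalG (el u) (el v))).toFinset with hF
  have hcard : F.card = ws.length := by
    rw [hF, List.toFinset_card_of_nodup h1, List.length_map]
  have hsub : (F : Set ↥P315) ⊆ (closure ({el u, el v} : Set ↥P315) : Set ↥P315) := by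
    intro g hg
    rw [hF, Finset.mem_coe, List.mem_toFinset, List.mem_map] at hg
    obtain ⟨w, _, rfl⟩ := hg
    exact evalG_mem _ _ w
  have h2 := Set.ncard_le_ncard hsub (Set.toFinite _)
  rw [Set.ncard_coe_finset, hcard] at h2
  exact h2

/-! ### the Sylow `3`-subgroup -/

/-- the Sylow `3`-subgroup -/
def S3 : Subgroup ↥P315 := closure {x3, y3}

/-- the 27 normal form words `x^i y^j [x,y]^l` -/
def words3 : List (List ℕ) :=
  (List.range 27).map fun n =>
    List.replicate (n % 3) 0 ++ List.replicate (n / 3 % 3) 1 ++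
      (List.replicate (n / 9 % 3) [0, 1, 0, 0, 1, 1]).flatten

theorem words3_nodup : (words3.map fun l => jqSig (jqWd (evalW [1,2,1,3,0,3,1,0,3,1,2]
    [2,3,2,0,1,0,3,0,2,1,3,0,1] l))).Nodup := by decide +kernel

theorem card_S3_ge : 27 ≤ Nat.card S3 := by
  have h := card_closure_ge _ _ words3 words3_nodup
  rw [← x3_def, ← y3_def] at h
  have hl : words3.length = 27 := by simp [words3]
  rw [hl] at h
  exact h

theorem card_S3_le : Nat.card S3 ≤ 27 := by
  have hrel : w3 * x3 * w3⁻¹ = x3 ^ 1 := by
    rw [pow_one, conj_of_mul w3_x3]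
  have hx3 : x3 ^ 3 = 1 := by rw [← x3_cube, pow_succ, pow_two]
  have hw3 : w3 ^ 3 = 1 := by rw [← w3_cube, pow_succ, pow_two]
  have hy3 : y3 ^ 3 = 1 := by rw [← y3_cube, pow_succ, pow_two]
  have hN := card_closure_pair_le hrel hx3 (by norm_num) hw3 (by norm_num)
  have hxN : x3 ∈ closure ({x3, w3} : Set ↥P315) := subset_closure (by simp)
  have hwN : w3 ∈ closure ({x3, w3} : Set ↥P315) := subset_closure (by simp)
  have hyn : zpowers y3 ≤ normalizer ((closure ({x3, w3} : Set ↥P315) : Subgroup _) : Set _) := by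
    rw [zpowers_le]
    apply Subgroup.mem_normalizer_fintype
    apply conj_mem_closure_of_gens
    intro a ha
    rcases ha with rfl | rfl
    · rw [conj_of_mul y3_x3]
      repeat (first | exact hxN | exact hwN | apply mul_mem)
    · have h : y3 * w3 = w3 * y3 := w3_y3.symm
      rw [conj_of_mul h]
      exact hwN
  have hle : S3 ≤ closure ({x3, w3} : Set ↥P315) ⊔ zpowers y3 := by
    unfold S3
    rw [closure_le]
    intro g hg
    rcases hg with rfl | rfl
    · exact le_sup_left (b := zpowers y3) hxN
    · exact le_sup_right (a := closure ({x3, w3} : Set ↥P315)) (mem_zpowers _)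
  have hz : Nat.card (zpowers y3) ≤ 3 := by
    rw [Nat.card_zpowers]
    apply Nat.le_of_dvd (by norm_num)
    exact orderOf_dvd_of_pow_eq_one hy3
  calc Nat.card S3 ≤ Nat.card (closure ({x3, w3} : Set ↥P315) ⊔ zpowers y3 : Subgroup _) :=
        Subgroup.card_le_of_le hle
    _ ≤ Nat.card (closure ({x3, w3} : Set ↥P315)) * Nat.card (zpowers y3) :=
        card_sup_le_of_le_normalizer hyn
    _ ≤ (3 * 3) * 3 := Nat.mul_le_mul hN hz

theorem card_S3 : Nat.card S3 = 27 := le_antisymm card_S3_le card_S3_ge

theorem S3_index : ¬ 3 ∣ S3.index := by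
  have h1 := Subgroup.card_mul_index S3
  rw [card_S3, P315_card] at h1
  have : S3.index = 22400 := by omega
  rw [this]
  norm_num

theorem x3_inv : x3⁻¹ = x3 * x3 := by
  rw [inv_eq_iff_mul_eq_one, ← x3_cube]; group

theorem y3_inv : y3⁻¹ = y3 * y3 := by
  rw [inv_eq_iff_mul_eq_one, ← y3_cube]; group

theorem comm_x3y3 : ⁅x3, y3⁆ = w3 := by
  rw [commutatorElement_def, x3_inv, y3_inv, ← w3_def]
  group

/-! ### the Sylow `5`-subgroup -/

/-- the Sylow `5`-subgroup -/
def S5 : Subgroup ↥P315 := closure {x5, y5}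

/-- the 25 words `x^i y^j` -/
def words5 : List (List ℕ) :=
  (List.range 25).map fun n => List.replicate (n % 5) 0 ++ List.replicate (n / 5) 1

theorem words5_nodup : (words5.map fun l => jqSig (jqWd (evalW [0,3,0,2,1,0,3,0,1]
    [1,2,1,0,2,1,3,0,2,1,3,1,0] l))).Nodup := by decide +kernel

theorem card_S5_ge : 25 ≤ Nat.card S5 := by
  have h := card_closure_ge _ _ words5 words5_nodup
  rw [← x5_def, ← y5_def] at h
  have hl : words5.length = 25 := by simp [words5]
  rw [hl] at h
  exact h

theorem card_S5_le : Nat.card S5 ≤ 25 := by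
  have hrel : y5 * x5 * y5⁻¹ = x5 ^ 1 := by
    rw [pow_one, conj_of_mul x5_y5.symm]
  have hx : x5 ^ 5 = 1 := by
    rw [← x5_pow]; simp only [pow_succ, pow_zero, one_mul]
  have hy : y5 ^ 5 = 1 := by
    rw [← y5_pow]; simp only [pow_succ, pow_zero, one_mul]
  exact card_closure_pair_le hrel hx (by norm_num) hy (by norm_num)

theorem card_S5 : Nat.card S5 = 25 := le_antisymm card_S5_le card_S5_ge

theorem S5_index : ¬ 5 ∣ S5.index := by
  have h1 := Subgroup.card_mul_index S5
  rw [card_S5, P315_card] at h1
  have : S5.index = 24192 := by omega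
  rw [this]
  norm_num

end Cfsg.Agent.Lib.Helper5.J2M
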