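import Mathlib
import Cfsg.Agent.Lib.Helper5.J2MD
import Cfsg.Agent.Lib.Lead.J2.K6
import Cfsg.Agent.Lib.Helper5.StemA
import Cfsg.Agent.Lib.Helper5.StemI
import Cfsg.Agent.Lib.Helper5.StemJ
import Cfsg.Agent.Lib.Helper5.StemN
import Cfsg.Agent.Lib.helper3.StemTools2

set_option autoImplicit false

/-! Stem extensions of the Hall–Janko group on 315 points have kernels of order at most two. -/

namespace Cfsg.Agent.Lib.Helper5.J2M

open Cfsg Cfsg.Agent.Lib.Lead.J2 Cfsg.Agent.Lib.helper23 Cfsg.Agent.Lib.helper4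
open Cfsg.Agent.Lib.Helper5.Stem Cfsg.Agent.Lib.helper3
open Subgroup
open scoped commutatorElement

/-- no double cover in which both classes of involutions lift to involutions -/
theorem no_stem_qinv {Γ : Type*} [Group Γ] [Finite Γ] (σ : Γ →* ↥P315)
    (hsurj : Function.Surjective σ) (hcen : σ.ker ≤ center Γ) (hder : σ.ker ≤ commutator Γ)
    {z : Γ} (hK : Ker2 σ z) (Qc : QInv σ c1) (Qa : QInv σ a1) : False := by
  have hK' := hK
  obtain ⟨hz1, hz2, hσz, hw, hzc⟩ := hK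
  have qA : ∀ {h v : ↥P315}, h * c1 = v * h → QInv σ v := by
    intro h v hh
    have := qinv_conj hsurj Qc h
    rwa [conj_of_mul hh] at this
  have qB : ∀ {h v : ↥P315}, h * a1 = v * h → QInv σ v := by
    intro h v hh
    have := qinv_conj hsurj Qa h
    rwa [conj_of_mul hh] at this
  have Q1 : QInv σ 1 := qinv_one hK'
  have Qa2 : QInv σ a2 := qB cj_a2_conj
  have Qc2 : QInv σ c2 := qA cj_c2_conj
  have Qb1 : QInv σ b1 := qB cj_b1_conj
  have Qb2 : QInv σ b2 := qB cj_b2_conj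
  have Qa1a2 : QInv σ (a1 * a2) := qB cj_a1a2_conj
  have Qa1c1 : QInv σ (a1 * c1) := qB cj_a1c1_conj
  have Qa1c2 : QInv σ (a1 * c2) := qB cj_a1c2_conj
  have Qa2c1 : QInv σ (a2 * c1) := qB cj_a2c1_conj
  have Qa2c2 : QInv σ (a2 * c2) := qB cj_a2c2_conj
  have Qc1c2 : QInv σ (c1 * c2) := qA cj_c1c2_conj
  have Qb1b2 : QInv σ (b1 * b2) := qB cj_b1b2_conj
  have Qb1c1 : QInv σ (b1 * c1) := qB cj_b1c1_conj
  have Qb1c2 : QInv σ (b1 * c2) := qB cj_b1c2_conj
  have Qb2c1 : QInv σ (b2 * c1) := qB cj_b2c1_conj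
  have Qb2c2 : QInv σ (b2 * c2) := qB cj_b2c2_conj
  have Qtau : QInv σ tau := qA cj_tau_conj
  have hSQ : ∀ a ∈ SE, QInv σ a := by
    intro a ha
    rcases mem_SE ha with rfl | rfl | rfl | rfl
    · exact Qa
    · exact Qa2
    · exact Qc
    · exact Qc2
  have hSQ' : ∀ a ∈ SE', QInv σ a := by
    intro a ha
    rcases mem_SE' ha with rfl | rfl | rfl | rfl
    · exact Qb1
    · exact Qb2
    · exact Qc
    · exact Qc2
  have hSQ2 : ∀ a ∈ SE, ∀ b ∈ SE, QInv σ (a * b) := by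
    intro a ha b hb
    rcases mem_SE ha with rfl | rfl | rfl | rfl <;> rcases mem_SE hb with rfl | rfl | rfl | rfl
    · rw [a1_sq]; exact Q1
    · exact Qa1a2
    · exact Qa1c1
    · exact Qa1c2
    · rw [← a1_a2]; exact Qa1a2
    · rw [a2_sq]; exact Q1
    · exact Qa2c1
    · exact Qa2c2
    · rw [← a1_c1]; exact Qa1c1
    · rw [← a2_c1]; exact Qa2c1
    · rw [c1_sq]; exact Q1
    · exact Qc1c2
    · rw [← a1_c2]; exact Qa1c2
    · rw [← a2_c2]; exact Qa2c2
    · rw [← c1_c2]; exact Qc1c2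
    · rw [c2_sq]; exact Q1
  have hSQ2' : ∀ a ∈ SE', ∀ b ∈ SE', QInv σ (a * b) := by
    intro a ha b hb
    rcases mem_SE' ha with rfl | rfl | rfl | rfl <;> rcases mem_SE' hb with rfl | rfl | rfl | rfl
    · rw [b1_sq]; exact Q1
    · exact Qb1b2
    · exact Qb1c1
    · exact Qb1c2
    · rw [← b1_b2]; exact Qb1b2
    · rw [b2_sq]; exact Q1
    · exact Qb2c1
    · exact Qb2c2
    · rw [← b1_c1]; exact Qb1c1
    · rw [← b2_c1]; exact Qb2c1
    · rw [c1_sq]; exact Q1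
    · exact Qc1c2
    · rw [← b1_c2]; exact Qb1c2
    · rw [← b2_c2]; exact Qb2c2
    · rw [← c1_c2]; exact Qc1c2
    · rw [c2_sq]; exact Q1
  obtain ⟨T, hT⟩ := hsurj tau
  have hT2 : T * T = 1 := Qtau T hT
  set D₁ : Subgroup Γ := closure ({T} : Set Γ) with hD₁
  have hmap : D₁.map σ = DD := by
    rw [hD₁, MonoidHom.map_closure, Set.image_singleton, hT]
    rfl
  have hD₁σ : ∀ x ∈ D₁, σ x ∈ DD := by
    intro x hx
    rw [← hmap]
    exact Subgroup.mem_map_of_mem σ hx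
  have hDle : DD ≤ D₁.map σ := by rw [hmap]
  have hm : Nat.card D₁ ≤ 2 := card_closure_singleton_invol_le hT2
  have hS := comm_comap_trivial_of_special hsurj hK' SE SE' SE_sq SE_comm hSQ hSQ2
    SE'_sq SE'_comm hSQ' hSQ2' k k_cube k_SE k_nrm k_SE' k_nrm' k1 k1_cube k_k1 k1_SE k1_nrm
    SE'_N DD DD_S DD_k D₁ hD₁σ hDle 64 2 card_U_le hm PP PP_le (by rw [card_PP])
  haveI : Fact (Nat.Prime 2) := ⟨Nat.prime_two⟩
  have := stem_no_prime_of_subgroup σ hsurj hcen hder PP PP_index hS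
    (MonoidHom.mem_ker.mpr hσz) (by rw [pow_two, hz2])
  exact hz1 this

/-- in every double cover the lifts of `a1` and `a2` do not commute -/
theorem lifts_noncomm {Γ : Type*} [Group Γ] [Finite Γ] (σ : Γ →* ↥P315)
    (hσ : Cfsg.IsStemExtension σ) (hcard : Nat.card σ.ker = 2) :
    ∀ X Y : Γ, σ X = a1 → σ Y = a2 → X * Y ≠ Y * X := by
  obtain ⟨hsurj, hcen, hder⟩ := hσ
  obtain ⟨z, hK⟩ := ker2_of_card hcen hcard
  have hK' := hK
  obtain ⟨hz1, hz2, hσz, hw, hzc⟩ := hK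
  have Qc : QInv σ c1 := by
    refine qinv_of_E8_mixed hsurj hK' c1 a1 a2 a1 c1_sq a1_sq ⟨1, by group⟩
      ⟨cj_a2, conj_of_mul cj_a2_conj⟩ ⟨cj_a1c1, ?_⟩ ⟨cj_a2c1, ?_⟩
      ⟨cj_a1a2, conj_of_mul cj_a1a2_conj⟩ ⟨cj_c1a1a2, conj_of_mul cj_c1a1a2_conj⟩
    · rw [conj_of_mul cj_a1c1_conj, a1_c1]
    · rw [conj_of_mul cj_a2c1_conj, a2_c1]
  have nQa : ¬ QInv σ a1 := fun Qa => no_stem_qinv σ hsurj hcen hder hK' Qc Qa
  have nQa2 : ¬ QInv σ a2 := by
    intro Q
    apply nQa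
    have := qinv_conj hsurj Q cj_a2⁻¹
    have e : cj_a2⁻¹ * a2 * cj_a2⁻¹⁻¹ = a1 := by
      rw [inv_inv]; exact conj_of_mul' cj_a2_conj
    rwa [e] at this
  have nQa12 : ¬ QInv σ (a1 * a2) := by
    intro Q
    apply nQa
    have := qinv_conj hsurj Q cj_a1a2⁻¹
    have e : cj_a1a2⁻¹ * (a1 * a2) * cj_a1a2⁻¹⁻¹ = a1 := by
      rw [inv_inv]; exact conj_of_mul' cj_a1a2_conj
    rwa [e] at this
  have h12 : (a1 * a2) * (a1 * a2) = 1 := by
    calc (a1 * a2) * (a1 * a2) = a1 * (a2 * a1) * a2 := by group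
      _ = a1 * (a1 * a2) * a2 := by rw [a1_a2]
      _ = (a1 * a1) * (a2 * a2) := by group
      _ = 1 := by rw [a1_sq, a2_sq, one_mul]
  intro X Y hX hY hcomm
  have h1 := sq_eq_z_of_not_qinv hK' a1_sq nQa X hX
  have h2 := sq_eq_z_of_not_qinv hK' a2_sq nQa2 Y hY
  have h3 := sq_eq_z_of_not_qinv hK' h12 nQa12 (X * Y) (by rw [map_mul, hX, hY])
  have h4 : (X * Y) * (X * Y) = 1 := by
    calc (X * Y) * (X * Y) = X * (Y * X) * Y := by group
      _ = X * (X * Y) * Y := by rw [hcomm]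
      _ = (X * X) * (Y * Y) := by group
      _ = 1 := by rw [h1, h2, hz2]
  rw [h4] at h3
  exact hz1 h3.symm

theorem t3_inv_x3 : t3 * x3 * t3⁻¹ = x3⁻¹ := by
  rw [x3_inv]; exact conj_of_mul t3_x3

theorem t3_inv_y3 : t3 * y3 * t3⁻¹ = y3⁻¹ := by
  rw [y3_inv]; exact conj_of_mul t3_y3

/-- no stem extension has a kernel of order three -/
theorem no_stem_three {Γ : Type*} [Group Γ] [Finite Γ] (σ : Γ →* ↥P315)
    (hσ : Cfsg.IsStemExtension σ) (hcard : Nat.card σ.ker = 3) : False := by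
  obtain ⟨hsurj, hcen, hder⟩ := hσ
  have hk3 : ∀ κ ∈ σ.ker, κ ^ 3 = 1 := by
    intro κ hκ
    have := pow_card_eq_one' (G := σ.ker) (x := ⟨κ, hκ⟩)
    rw [hcard] at this
    exact congrArg Subtype.val this
  have hx3 : x3 ^ 3 = 1 := by rw [← x3_cube, pow_succ, pow_two]
  have htw : t3 * ⁅x3, y3⁆ * t3⁻¹ = ⁅x3, y3⁆ := by rw [comm_x3y3]; exact conj_of_mul t3_w3
  have hS := comm_comap_trivial_of_heis hsurj hcen hk3 x3 y3 t3 hx3
    (by rw [comm_x3y3]; exact w3_x3) (by rw [comm_x3y3]; exact w3_y3)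
    (by rw [comm_x3y3]; exact w3_ne) t3_inv_x3 t3_inv_y3 htw
  haveI : Fact (Nat.Prime 3) := ⟨Nat.prime_three⟩
  have hall : ∀ z ∈ σ.ker, z = 1 := by
    intro z hz
    exact stem_no_prime_of_subgroup σ hsurj hcen hder S3 S3_index hS hz (hk3 z hz)
  have : Nat.card σ.ker = 1 := by
    rw [Nat.card_eq_one_iff_unique]
    refine ⟨⟨fun a b => ?_⟩, ⟨1⟩⟩
    apply Subtype.ext
    rw [hall a a.2, hall b b.2]
  omega

/-- no stem extension has a kernel of order five -/
theorem no_stem_five {Γ : Type*} [Group Γ] [Finite Γ] (σ : Γ →* ↥P315)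
    (hσ : Cfsg.IsStemExtension σ) (hcard : Nat.card σ.ker = 5) : False := by
  obtain ⟨hsurj, hcen, hder⟩ := hσ
  have hk5 : ∀ κ ∈ σ.ker, κ ^ 5 = 1 := by
    intro κ hκ
    have := pow_card_eq_one' (G := σ.ker) (x := ⟨κ, hκ⟩)
    rw [hcard] at this
    exact congrArg Subtype.val this
  have hx5 : x5 ^ 5 = 1 := by
    rw [← x5_pow]; simp only [pow_succ, pow_zero, one_mul]
  have x5_inv : x5⁻¹ = x5 * x5 * x5 * x5 := by
    rw [inv_eq_iff_mul_eq_one, ← x5_pow]; group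
  have htx : t5 * x5 * t5⁻¹ = x5⁻¹ := by
    rw [x5_inv]; exact conj_of_mul t5_x5
  have hty : t5 * y5 * t5⁻¹ = y5 := conj_of_mul t5_y5
  have hS := comm_comap_trivial_of_inverted_pair σ hsurj hcen x5 y5 t5 x5_y5 5 (by decide) hx5
    htx hty
  haveI : Fact (Nat.Prime 5) := ⟨by norm_num⟩
  have hall : ∀ z ∈ σ.ker, z = 1 := by
    intro z hz
    exact stem_no_prime_of_subgroup σ hsurj hcen hder S5 S5_index (fun w hw _ => hS w hw) hz
      (hk5 z hz)
  have : Nat.card σ.ker = 1 := by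
    rw [Nat.card_eq_one_iff_unique]
    refine ⟨⟨fun a b => ?_⟩, ⟨1⟩⟩
    apply Subtype.ext
    rw [hall a a.2, hall b b.2]
  omega

/-- no stem extension has a kernel of odd prime order -/
theorem no_stem_odd (p : ℕ) (hpP : p.Prime) (hp2 : p ≠ 2) {Γ : Type*} [Group Γ] [Finite Γ]
    (σ : Γ →* ↥P315) (hσ : Cfsg.IsStemExtension σ) : Nat.card σ.ker ≠ p := by
  intro hcardp
  by_cases hp3 : p = 3
  · subst hp3
    exact no_stem_three σ hσ hcardp
  by_cases hp5 : p = 5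
  · subst hp5
    exact no_stem_five σ hσ hcardp
  have hσ' := hσ
  obtain ⟨hsurj, hcen, hder⟩ := hσ
  have hcard := P315_card
  haveI : Fact p.Prime := ⟨hpP⟩
  obtain ⟨Rr⟩ : Nonempty (Sylow p ↥P315) := inferInstance
  have hcyc : IsCyclic (Rr : Subgroup ↥P315) := by
    obtain ⟨j, hj⟩ := IsPGroup.iff_card.mp Rr.2
    have hdvd : p ^ j ∣ 604800 := by
      rw [← hj, ← hcard]
      exact Subgroup.card_subgroup_dvd_card _
    have hj1 : j ≤ 1 := by
      by_contra hlt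
      push Not at hlt
      have h2 : p ^ 2 ∣ 604800 := dvd_trans (pow_dvd_pow p hlt) hdvd
      have e : (604800 : ℕ) = 2 ^ 7 * 3 ^ 3 * 5 ^ 2 * 7 := by norm_num
      rw [e] at h2
      have hpd : p ∣ 2 ^ 7 * 3 ^ 3 * 5 ^ 2 * 7 :=
        dvd_trans (dvd_pow_self p (by norm_num)) h2
      have hcases : p = 2 ∨ p = 3 ∨ p = 5 ∨ p = 7 := by
        rcases (Nat.Prime.dvd_mul hpP).mp hpd with h | h
        · rcases (Nat.Prime.dvd_mul hpP).mp h with h | h
          · rcases (Nat.Prime.dvd_mul hpP).mp h with h | h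
            · left
              exact (Nat.prime_dvd_prime_iff_eq hpP Nat.prime_two).mp (hpP.dvd_of_dvd_pow h)
            · right; left
              exact (Nat.prime_dvd_prime_iff_eq hpP Nat.prime_three).mp
                (hpP.dvd_of_dvd_pow h)
          · right; right; left
            exact (Nat.prime_dvd_prime_iff_eq hpP (by norm_num)).mp (hpP.dvd_of_dvd_pow h)
        · right; right; right
          exact (Nat.prime_dvd_prime_iff_eq hpP (by norm_num)).mp h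
      rcases hcases with rfl | rfl | rfl | rfl
      · exact hp2 rfl
      · exact hp3 rfl
      · exact hp5 rfl
      · revert h2; norm_num
    interval_cases j
    · rw [pow_zero] at hj
      haveI : Subsingleton (Rr : Subgroup ↥P315) :=
        (Nat.card_eq_one_iff_unique.mp hj).1
      exact isCyclic_of_subsingleton
    · rw [pow_one] at hj
      exact isCyclic_of_prime_card hj
  haveI := hcyc
  have hind : ¬ p ∣ (Rr : Subgroup ↥P315).index := Sylow.not_dvd_index Rr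
  have hall : ∀ z ∈ σ.ker, z = 1 := by
    intro z hz
    have hzp : z ^ p = 1 := by
      have := pow_card_eq_one' (G := σ.ker) (x := ⟨z, hz⟩)
      rw [hcardp] at this
      exact congrArg Subtype.val this
    refine stem_no_prime_of_subgroup σ hsurj hcen hder (Rr : Subgroup ↥P315) hind ?_
      hz hzp
    intro w hw _
    exact comm_comap_trivial_of_cyclic σ hcen (Rr : Subgroup ↥P315) w hw
  have : Nat.card σ.ker = 1 := by
    rw [Nat.card_eq_one_iff_unique]
    refine ⟨⟨fun a b => ?_⟩, ⟨1⟩⟩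
    apply Subtype.ext
    rw [hall a a.2, hall b b.2]
  rw [this] at hcardp
  exact hpP.one_lt.ne hcardp

/-- the kernel of every finite stem extension of the group on 315 points has order at most two -/
theorem p315_card_ker_le_two {Γ : Type} [Group Γ] [Finite Γ] (σ : Γ →* ↥P315)
    (hσ : Cfsg.IsStemExtension σ) : Nat.card σ.ker ≤ 2 := by
  refine card_ker_le_two a1 a2 a1_a2 a2_sq ?_ ?_ σ hσ
  · intro p hp hp2 Γ' _ _ σ' hσ'
    exact no_stem_odd p hp hp2 σ' hσ'
  · intro Γ' _ _ σ' hσ' hc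
    exact lifts_noncomm σ' hσ' hc

/-- the kernel of every finite stem extension of the Hall–Janko group has order at most two -/
theorem j2_card_ker_le_two {Γ : Type} [Group Γ] [Finite Γ] (σ : Γ →* Cfsg.Spor.J2)
    (hσ : Cfsg.IsStemExtension σ) : Nat.card σ.ker ≤ 2 := by
  obtain ⟨e⟩ := J2_equiv
  obtain ⟨hsurj, hcen, hder⟩ := hσ
  set σ' : Γ →* ↥P315 := e.toMonoidHom.comp σ with hσ'
  have hker : σ'.ker = σ.ker := by
    ext x
    rw [MonoidHom.mem_ker, MonoidHom.mem_ker, hσ', MonoidHom.comp_apply]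
    exact MulEquiv.map_eq_one_iff e
  have hst : Cfsg.IsStemExtension σ' := by
    refine ⟨e.surjective.comp hsurj, ?_, ?_⟩
    · rw [hker]; exact hcen
    · rw [hker]; exact hder
  have := p315_card_ker_le_two σ' hst
  rw [hker] at this
  exact this

end Cfsg.Agent.Lib.Helper5.J2M
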