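import Mathlib
import Cfsg.Agent.Lib.helper4.J3CInj
import Cfsg.Agent.Lib.helper4.J3Iota

set_option autoImplicit false

/-! Elements of the third Janko group given by words in the sixteen letters of its triple cover
over the concrete field with four elements. -/

namespace Cfsg.Agent.Lib.Helper5.J3M

open Cfsg.Agent.Lib.Lead.F4 Cfsg.Spor Cfsg.Agent.Lib.helper4 Matrix
open scoped MatrixGroups

theorem c_two : (2 : F4c) = 0 := by decide

theorem c_w : F4c.w * F4c.w = F4c.w + 1 := by decide

theorem c_card : Fintype.card F4c = 4 := rfl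

/-- the concrete triple cover -/
abbrev C3 : Type := threeJ3 F4c F4c.w

/-- validity of a word -/
def wok (w : List ℕ) : Bool := w.all fun l => Nat.blt l 16

theorem wok_lt {w : List ℕ} (h : wok w = true) : ∀ l ∈ w, l < 16 := by
  intro l hl
  unfold wok at h
  rw [List.all_eq_true] at h
  have := h l hl
  exact Nat.blt_eq.mp this

theorem wok_append {w v : List ℕ} (hw : wok w = true) (hv : wok v = true) : wok (w ++ v) = true := by
  unfold wok at *
  rw [List.all_append, hw, hv]
  rfl

/-- the element of the cover of a word -/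
noncomputable def cel (w : List ℕ) : C3 :=
  ⟨gword F4c.w c_two c_w w, gword_mem F4c.w c_two c_w _ (j3G_mem F4c.w c_two c_w) w⟩

theorem cel_nil : cel [] = 1 := rfl

theorem cel_mul (w v : List ℕ) : cel w * cel v = cel (w ++ v) := by
  apply Subtype.ext
  show gword F4c.w c_two c_w w * gword F4c.w c_two c_w v = gword F4c.w c_two c_w (w ++ v)
  rw [gword_append]

theorem cel_eq {w v : List ℕ} (hw : wok w = true) (hv : wok v = true) (h : cword w = cword v) :
    cel w = cel v := by
  apply Subtype.ext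
  exact gword_eq_of_code F4c.w c_two c_w w v h (wok_lt hw) (wok_lt hv)

theorem cel_crep {w : List ℕ} (hw : wok w = true) : CRep F4c.w c_two c_w (cword w) (cel w).1 :=
  crep_word F4c.w c_two c_w w (wok_lt hw)

/-- the scalar `ω` -/
noncomputable def zw : C3 := cel [7]

theorem zw_val : ((zw : C3) : GL F9 F4c).1 = F4c.w • (1 : Matrix F9 F9 F4c) := by
  show (gword F4c.w c_two c_w [7] : Matrix F9 F9 F4c) = _
  rw [gword_single F4c.w c_two c_w 7 (by norm_num), j3G7_val F4c.w c_two c_w]

theorem zw_mem_center : zw ∈ Subgroup.center C3 := j3_scalar_central F4c.w zw F4c.w zw_val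

theorem center_eq : Subgroup.center C3 = Subgroup.zpowers zw := by
  have h := j3_center_eq F4c.w c_two c_w c_card
  rw [h]
  congr 1
  apply Subtype.ext
  show j3G F4c.w c_two c_w 7 = gword F4c.w c_two c_w [7]
  rw [gword_single F4c.w c_two c_w 7 (by norm_num)]

theorem zw_cube : zw ^ 3 = 1 := by
  have h : cel [7] * cel [7] * cel [7] = cel [] := by
    rw [cel_mul, cel_mul]
    exact cel_eq (by decide) (by decide) (by decide +kernel)
  rw [pow_succ, pow_two]
  exact h


/-! ### bounds on codes -/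

theorem cpack_lt' (c0 c1 c2 c3 c4 c5 c6 c7 c8 : ℕ) (h0 : c0 < 262144) (h1 : c1 < 262144)
    (h2 : c2 < 262144) (h3 : c3 < 262144) (h4 : c4 < 262144) (h5 : c5 < 262144)
    (h6 : c6 < 262144) (h7 : c7 < 262144) (h8 : c8 < 262144) :
    cpack c0 c1 c2 c3 c4 c5 c6 c7 c8 < 262144 ^ 9 := by
  rw [cpack_eq]
  norm_num
  omega

theorem cmulT_lt (l : ℕ) (hl : l < 16) (C : ℕ) : cmulT (j3Tab16.getD l (0, 0)) C < 262144 ^ 9 := by
  have hk : ∀ x, x < 262144 → kapp (j3Tab16.getD l (0, 0)) x < 262144 := by
    intro x hx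
    rw [kapp_eq _ _ (j3Tab16_getD l hl) x hx]
    exact kkey_lt _
  unfold cmulT cmap
  exact cpack_lt' _ _ _ _ _ _ _ _ _ (hk _ (ccol_lt _ _)) (hk _ (ccol_lt _ _)) (hk _ (ccol_lt _ _))
    (hk _ (ccol_lt _ _)) (hk _ (ccol_lt _ _)) (hk _ (ccol_lt _ _)) (hk _ (ccol_lt _ _))
    (hk _ (ccol_lt _ _)) (hk _ (ccol_lt _ _))

theorem cid_lt' : cid < 262144 ^ 9 := by
  unfold cid
  exact cpack_lt' _ _ _ _ _ _ _ _ _ (by norm_num) (by norm_num) (by norm_num) (by norm_num)
    (by norm_num) (by norm_num) (by norm_num) (by norm_num) (by norm_num)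

theorem cword_lt {w : List ℕ} (hw : wok w = true) : cword w < 262144 ^ 9 := by
  induction w with
  | nil => exact cid_lt'
  | cons l w ih =>
    have hl : l < 16 := wok_lt hw l (by simp)
    exact cmulT_lt l hl _

theorem cword_of_cel_eq {w v : List ℕ} (hw : wok w = true) (hv : wok v = true)
    (h : cel w = cel v) : cword w = cword v := by
  have e1 := cel_crep hw
  have e2 := cel_crep hv
  rw [h] at e1
  exact crep_inj F4c.w c_two c_w _ _ (cword_lt hw) (cword_lt hv) _ e1 e2

/-! ### the projective signature -/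

/-- the least of the codes of the three scalar multiples -/
def psig (w : List ℕ) : ℕ := min (cword w) (min (cword (7 :: w)) (cword (7 :: 7 :: w)))

theorem wok_cons7 {w : List ℕ} (hw : wok w = true) : wok (7 :: w) = true := by
  unfold wok at *
  rw [List.all_cons, hw]
  rfl

theorem cel_cons7 (w : List ℕ) : cel (7 :: w) = zw * cel w := by
  rw [zw, cel_mul]
  rfl

theorem zw_comm (g : C3) : g * zw = zw * g := Subgroup.mem_center_iff.mp zw_mem_center g

theorem psig_eq_of_mul {w v : List ℕ} (hw : wok w = true) (hv : wok v = true) (k : ℤ)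
    (h : cel v = cel w * zw ^ k) : psig v = psig w := by
  have hz3 : zw * zw * zw = 1 := by
    have := zw_cube
    rwa [pow_succ, pow_two] at this
  have hk3 : zw ^ k = zw ^ (k % 3) := by
    have := zpow_mod_orderOf zw k
    have ho : orderOf zw ∣ 3 := orderOf_dvd_of_pow_eq_one zw_cube
    conv_lhs => rw [← Int.emod_add_mul_ediv k 3]
    rw [_root_.zpow_add, _root_.zpow_mul]
    have : zw ^ (3 : ℤ) = 1 := by
      have := zw_cube
      exact_mod_cast this
    rw [this, _root_.one_zpow, mul_one]
  rw [hk3] at h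
  have h0 : 0 ≤ k % 3 := Int.emod_nonneg _ (by norm_num)
  have h3 : k % 3 < 3 := Int.emod_lt_of_pos _ (by norm_num)
  have hw7 := wok_cons7 hw
  have hw77 := wok_cons7 hw7
  have hv7 := wok_cons7 hv
  have hv77 := wok_cons7 hv7
  obtain hc | hc | hc : k % 3 = 0 ∨ k % 3 = 1 ∨ k % 3 = 2 := by omega
  · rw [hc, zpow_zero, mul_one] at h
    have e1 : cword v = cword w := cword_of_cel_eq hv hw h
    have e2 : cword (7 :: v) = cword (7 :: w) :=
      cword_of_cel_eq hv7 hw7 (by rw [cel_cons7, cel_cons7, h])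
    have e3 : cword (7 :: 7 :: v) = cword (7 :: 7 :: w) :=
      cword_of_cel_eq hv77 hw77 (by rw [cel_cons7, cel_cons7, cel_cons7, cel_cons7, h])
    unfold psig
    rw [e1, e2, e3]
  · rw [hc, zpow_one, zw_comm] at h
    have e1 : cword v = cword (7 :: w) := cword_of_cel_eq hv hw7 (by rw [cel_cons7, h])
    have e2 : cword (7 :: v) = cword (7 :: 7 :: w) :=
      cword_of_cel_eq hv7 hw77 (by rw [cel_cons7, cel_cons7, cel_cons7, h])
    have e3 : cword (7 :: 7 :: v) = cword w :=
      cword_of_cel_eq hv77 hw (by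
        rw [cel_cons7, cel_cons7, h, ← mul_assoc, ← mul_assoc, hz3, one_mul])
    unfold psig
    rw [e1, e2, e3]
    omega
  · have hz2 : zw ^ (2 : ℤ) = zw * zw := by
      have : zw ^ (2 : ℤ) = zw ^ (2 : ℕ) := by exact_mod_cast rfl
      rw [this, pow_two]
    rw [hc, hz2] at h
    have h' : cel v = zw * zw * cel w := by
      calc cel v = (cel w * zw) * zw := by rw [h]; group
        _ = (zw * cel w) * zw := by rw [zw_comm (cel w)]
        _ = zw * (cel w * zw) := by group
        _ = zw * (zw * cel w) := by rw [zw_comm (cel w)]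
        _ = zw * zw * cel w := by group
    have e1 : cword v = cword (7 :: 7 :: w) :=
      cword_of_cel_eq hv hw77 (by rw [cel_cons7, cel_cons7, h', mul_assoc])
    have e2 : cword (7 :: v) = cword w :=
      cword_of_cel_eq hv7 hw (by rw [cel_cons7, h', ← mul_assoc, ← mul_assoc, hz3, one_mul])
    have e3 : cword (7 :: 7 :: v) = cword (7 :: w) :=
      cword_of_cel_eq hv77 hw7 (by
        rw [cel_cons7, cel_cons7, cel_cons7, h']
        have : zw * (zw * (zw * zw * cel w)) = (zw * zw * zw) * (zw * cel w) := by group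
        rw [this, hz3, one_mul])
    unfold psig
    rw [e1, e2, e3]
    omega

/-! ### elements of a quotient by the centre -/

section quot
variable {G : Type*} [Group G] (Ψ : C3 →* G)

/-- the element of a word -/
noncomputable def el (w : List ℕ) : G := Ψ (cel w)

theorem el_nil : el Ψ [] = 1 := by
  unfold el
  rw [cel_nil, map_one]

theorem el_mul (w v : List ℕ) : el Ψ w * el Ψ v = el Ψ (w ++ v) := by
  unfold el
  rw [← map_mul, cel_mul]

theorem el_eq {w v : List ℕ} (hw : wok w = true) (hv : wok v = true) (h : cword w = cword v) :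
    el Ψ w = el Ψ v := by
  unfold el
  rw [cel_eq hw hv h]

variable (hk : Ψ.ker = Subgroup.center C3)
include hk

theorem el_zw : Ψ zw = 1 := by
  rw [← MonoidHom.mem_ker, hk]
  exact zw_mem_center

theorem el_cons7 (w : List ℕ) : el Ψ (7 :: w) = el Ψ w := by
  unfold el
  rw [cel_cons7, map_mul, el_zw Ψ hk, one_mul]

/-- equality up to scalars, as a check on codes -/
def peq (w v : List ℕ) : Bool :=
  wok w && wok v && (Nat.beq (cword w) (cword v) || Nat.beq (cword (7 :: w)) (cword v) ||
    Nat.beq (cword (7 :: 7 :: w)) (cword v))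

omit hk in
theorem peq_spec {w v : List ℕ} (h : peq w v = true) : wok w = true ∧ wok v = true ∧
    (cword w = cword v ∨ cword (7 :: w) = cword v ∨ cword (7 :: 7 :: w) = cword v) := by
  unfold peq at h
  rw [Bool.and_eq_true, Bool.and_eq_true, Bool.or_eq_true, Bool.or_eq_true] at h
  obtain ⟨⟨h1, h2⟩, h3⟩ := h
  refine ⟨h1, h2, ?_⟩
  rcases h3 with (h3 | h3) | h3
  · left; exact Nat.eq_of_beq_eq_true h3
  · right; left; exact Nat.eq_of_beq_eq_true h3
  · right; right; exact Nat.eq_of_beq_eq_true h3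

theorem el_peq {w v : List ℕ} (h : peq w v = true) : el Ψ w = el Ψ v := by
  obtain ⟨hw, hv, h3⟩ := peq_spec h
  rcases h3 with h3 | h3 | h3
  · exact el_eq Ψ hw hv h3
  · rw [← el_cons7 Ψ hk w]
    exact el_eq Ψ (wok_cons7 hw) hv h3
  · rw [← el_cons7 Ψ hk w, ← el_cons7 Ψ hk (7 :: w)]
    exact el_eq Ψ (wok_cons7 (wok_cons7 hw)) hv h3

theorem psig_of_el_eq {w v : List ℕ} (hw : wok w = true) (hv : wok v = true)
    (h : el Ψ w = el Ψ v) : psig w = psig v := by
  unfold el at h
  have hm : (cel v)⁻¹ * cel w ∈ Ψ.ker := by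
    rw [MonoidHom.mem_ker, map_mul, map_inv, h, inv_mul_cancel]
  rw [hk, center_eq, Subgroup.mem_zpowers_iff] at hm
  obtain ⟨k, hk'⟩ := hm
  apply psig_eq_of_mul hv hw k
  rw [hk']
  group

theorem el_ne {w v : List ℕ} (hw : wok w = true) (hv : wok v = true) (h : psig w ≠ psig v) :
    el Ψ w ≠ el Ψ v := fun he => h (psig_of_el_eq Ψ hk hw hv he)

theorem card_G (hs : Function.Surjective Ψ) : Nat.card G = 50232960 := by
  have e := QuotientGroup.quotientKerEquivOfSurjective Ψ hs
  rw [← Nat.card_congr e.toEquiv]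
  have h := j3_quot_card F4c.w c_two c_w c_card
  unfold J3 at h
  rw [← hk] at h
  exact h

theorem finite_G (hs : Function.Surjective Ψ) : Finite G :=
  Nat.finite_of_card_ne_zero (by rw [card_G Ψ hk hs]; norm_num)

end quot

end Cfsg.Agent.Lib.Helper5.J3M
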