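import Mathlib
import Cfsg.Agent.Lib.Helper5.J3MA
import Cfsg.Prelude.Def_KGroupFacts

set_option autoImplicit false

/-! The triple cover of the third Janko group is a stem extension with kernel of order three. -/

namespace Cfsg.Agent.Lib.Helper5.J3M

open Cfsg Cfsg.Agent.Lib.Lead.F4 Cfsg.Spor Cfsg.Agent.Lib.helper4
open Subgroup
open scoped commutatorElement

theorem cel_inv0 : (cel [0])⁻¹ = cel [8] := by
  rw [inv_eq_iff_mul_eq_one, cel_mul, ← cel_nil]
  exact cel_eq (by decide) (by decide) (by decide +kernel)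

theorem cel_inv3 : (cel [3])⁻¹ = cel [11] := by
  rw [inv_eq_iff_mul_eq_one, cel_mul, ← cel_nil]
  exact cel_eq (by decide) (by decide) (by decide +kernel)

theorem zw_eq_comm : ⁅cel [0], cel [3]⁆ = zw := by
  rw [commutatorElement_def, cel_inv0, cel_inv3, cel_mul, cel_mul, cel_mul]
  exact cel_eq (by decide) (by decide) (by decide +kernel)

theorem c3_card : Nat.card C3 = 150698880 := threeJ3_card F4c.w c_two c_w c_card

instance c3_finite : Finite C3 :=
  Nat.finite_of_card_ne_zero (by rw [c3_card]; norm_num)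

universe u

section
variable {G : Type u} [Group G] (Ψ : C3 →* G)

/-- the covering map in the universe of the quotient -/
noncomputable def covσ : ULift.{u} C3 →* G := Ψ.comp (MulEquiv.ulift (α := C3)).toMonoidHom

theorem covσ_apply (x : ULift.{u} C3) : covσ Ψ x = Ψ x.down := rfl

variable (hk : Ψ.ker = Subgroup.center C3) (hs : Function.Surjective Ψ)
include hk

theorem mem_covσ_ker (x : ULift.{u} C3) : x ∈ (covσ Ψ).ker ↔ x.down ∈ Subgroup.center C3 := by
  rw [MonoidHom.mem_ker, covσ_apply, ← hk, MonoidHom.mem_ker]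

include hs in
theorem covσ_stem : Cfsg.IsStemExtension (covσ Ψ) := by
  refine ⟨?_, ?_, ?_⟩
  · intro y
    obtain ⟨x, rfl⟩ := hs y
    exact ⟨⟨x⟩, rfl⟩
  · intro x hx
    rw [mem_covσ_ker Ψ hk, Subgroup.mem_center_iff] at hx
    rw [Subgroup.mem_center_iff]
    intro g
    apply ULift.ext
    exact hx g.down
  · intro x hx
    rw [mem_covσ_ker Ψ hk, center_eq] at hx
    obtain ⟨n, hn⟩ := Subgroup.mem_zpowers_iff.mp hx
    have e : x = (⁅(⟨cel [0]⟩ : ULift.{u} C3), ⟨cel [3]⟩⁆) ^ n := by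
      apply ULift.ext
      rw [← hn, ← zw_eq_comm]
      rfl
    rw [e, commutator_def]
    exact zpow_mem (Subgroup.commutator_mem_commutator (Subgroup.mem_top _) (Subgroup.mem_top _)) n

theorem covσ_ker_card : Nat.card (covσ Ψ).ker = 3 := by
  refine Eq.trans ?_ (j3_center_card F4c.w c_two c_w c_card)
  refine Nat.card_congr ⟨fun x => ⟨x.1.down, (mem_covσ_ker Ψ hk x.1).mp x.2⟩,
    fun y => ⟨⟨y.1⟩, (mem_covσ_ker Ψ hk ⟨y.1⟩).mpr y.2⟩, ?_, ?_⟩
  · intro x; rfl
  · intro y; rfl

include hs in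
/-- the quotient has a finite stem extension with kernel of order three -/
theorem exists_stem_three : ∃ (Γ : Type u) (_ : Group Γ) (_ : Finite Γ) (σ : Γ →* G),
    Cfsg.IsStemExtension σ ∧ Nonempty (σ.ker ≃* Multiplicative (ZMod 3)) := by
  refine ⟨ULift.{u} C3, inferInstance, inferInstance, covσ Ψ, covσ_stem Ψ hk hs, ?_⟩
  haveI : Fact (Nat.Prime 3) := ⟨Nat.prime_three⟩
  have hcyc : IsCyclic (covσ Ψ).ker := isCyclic_of_prime_card (covσ_ker_card Ψ hk)
  have e2 := zmodCyclicMulEquiv hcyc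
  rw [covσ_ker_card Ψ hk] at e2
  exact ⟨e2.symm⟩

end

end Cfsg.Agent.Lib.Helper5.J3M
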