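import Mathlib
import Cfsg.Agent.Lib.Helper5.J3MA

set_option autoImplicit false

/-! Lower bounds for orders of subgroups of the third Janko group generated by words. -/

namespace Cfsg.Agent.Lib.Helper5.J3M

open Cfsg.Agent.Lib.Lead.F4 Cfsg.Spor Cfsg.Agent.Lib.helper4 Subgroup

/-- a list of numbers is strictly increasing -/
def isStrictInc : List ℕ → Bool
  | [] => true
  | [_] => true
  | a :: b :: t => Nat.blt a b && isStrictInc (b :: t)

theorem pairwise_of_isStrictInc : ∀ l : List ℕ, isStrictInc l = true → l.Pairwise (· < ·)
  | [], _ => List.Pairwise.nil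
  | [a], _ => List.pairwise_singleton _ _
  | a :: b :: t, h => by
    unfold isStrictInc at h
    rw [Bool.and_eq_true] at h
    have hab : a < b := Nat.blt_eq.mp h.1
    have ih := pairwise_of_isStrictInc (b :: t) h.2
    rw [List.pairwise_cons]
    refine ⟨?_, ih⟩
    intro c hc
    rcases List.mem_cons.mp hc with rfl | hc
    · exact hab
    · exact lt_trans hab ((List.pairwise_cons.mp ih).1 c hc)

theorem nodup_of_isStrictInc (l : List ℕ) (h : isStrictInc l = true) : l.Nodup := by
  have := pairwise_of_isStrictInc l h
  exact this.imp (fun hab => ne_of_lt hab)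

/-- words in generators given by words -/
def evalW (gens : List (List ℕ)) (l : List ℕ) : List ℕ := l.flatMap fun i => gens.getD i []

theorem wok_flatMap (gens : List (List ℕ)) (hg : ∀ g ∈ gens, wok g = true) (l : List ℕ) :
    wok (evalW gens l) = true := by
  induction l with
  | nil => rfl
  | cons i l ih =>
    unfold evalW at *
    rw [List.flatMap_cons]
    apply wok_append _ ih
    by_cases hi : i < gens.length
    · rw [List.getD_eq_getElem _ _ hi]
      exact hg _ (List.getElem_mem hi)
    · rw [List.getD_eq_default _ _ (by omega)]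
      rfl

section quot
variable {G : Type*} [Group G] (Ψ : C3 →* G)

/-- the corresponding products -/
noncomputable def evalG (gens : List (List ℕ)) (l : List ℕ) : G :=
  (l.map fun i => el Ψ (gens.getD i [])).prod

theorem evalG_eq (gens : List (List ℕ)) (l : List ℕ) : evalG Ψ gens l = el Ψ (evalW gens l) := by
  induction l with
  | nil => exact (el_nil Ψ).symm
  | cons i l ih =>
    unfold evalG evalW at *
    rw [List.map_cons, List.prod_cons, List.flatMap_cons, ← el_mul, ih]

theorem evalG_mem (gens : List (List ℕ)) (H : Subgroup G) (hH : ∀ g ∈ gens, el Ψ g ∈ H)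
    (l : List ℕ) : evalG Ψ gens l ∈ H := by
  induction l with
  | nil => exact one_mem _
  | cons i l ih =>
    unfold evalG at *
    rw [List.map_cons, List.prod_cons]
    apply mul_mem _ ih
    by_cases hi : i < gens.length
    · rw [List.getD_eq_getElem _ _ hi]
      exact hH _ (List.getElem_mem hi)
    · rw [List.getD_eq_default _ _ (by omega), el_nil]
      exact one_mem _

variable (hk : Ψ.ker = Subgroup.center C3)
include hk

/-- a lower bound for the order of a subgroup containing the elements of given words -/
theorem card_ge_of_words [Finite G] (gens : List (List ℕ)) (hg : ∀ g ∈ gens, wok g = true)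
    (H : Subgroup G) (hH : ∀ g ∈ gens, el Ψ g ∈ H) (ws : List (List ℕ))
    (h : isStrictInc (ws.map fun l => psig (evalW gens l)) = true) :
    ws.length ≤ Nat.card H := by
  classical
  have h' := nodup_of_isStrictInc _ h
  have h1 : (ws.map (evalG Ψ gens)).Nodup := by
    have h0 : ws.Nodup := List.Nodup.of_map _ h'
    apply List.Nodup.map_on _ h0
    intro a ha b hb hab
    rw [evalG_eq, evalG_eq] at hab
    exact List.inj_on_of_nodup_map h' ha hb
      (psig_of_el_eq Ψ hk (wok_flatMap gens hg a) (wok_flatMap gens hg b) hab)
  set F : Finset G := (ws.map (evalG Ψ gens)).toFinset with hF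
  have hcard : F.card = ws.length := by
    rw [hF, List.toFinset_card_of_nodup h1, List.length_map]
  have hsub : (F : Set G) ⊆ (H : Set G) := by
    intro g hg'
    rw [hF, Finset.mem_coe, List.mem_toFinset, List.mem_map] at hg'
    obtain ⟨w, _, rfl⟩ := hg'
    exact evalG_mem Ψ gens H hH w
  have h2 := Set.ncard_le_ncard hsub (Set.toFinite _)
  rw [Set.ncard_coe_finset, hcard] at h2
  exact h2

end quot

end Cfsg.Agent.Lib.Helper5.J3M
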