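import Mathlib
import Cfsg.Agent.Lib.Helper5.J3MAb
import Cfsg.Agent.Lib.Helper5.StemC

set_option autoImplicit false

/-! Elements of the third Janko group used for the Schur multiplier, and the relations between
them, all checked on codes of matrices. -/

namespace Cfsg.Agent.Lib.Helper5.J3M

open Cfsg.Agent.Lib.Lead.F4 Cfsg.Spor Cfsg.Agent.Lib.helper4
open Cfsg.Agent.Lib.Helper5.Stem

section
variable {G : Type*} [Group G] (Ψ : C3 →* G)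

/-- an element given by a word -/
noncomputable def a1 : G := el Ψ [3,1,6,11,6,3,1]

/-- an element given by a word -/
noncomputable def a2 : G := el Ψ [2,3,1,6,11,6,3,1,10]

/-- an element given by a word -/
noncomputable def c1 : G := el Ψ [5,5,5,5]

/-- an element given by a word -/
noncomputable def c2 : G := el Ψ [6,5,5]

/-- an element given by a word -/
noncomputable def b1 : G := el Ψ [12,0,6,12,6,12,0]

/-- an element given by a word -/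
noncomputable def b2 : G := el Ψ [2,12,0,6,12,6,12,0,10]

/-- an element given by a word -/
noncomputable def k : G := el Ψ [8,1,6,1,0]

/-- an element given by a word -/
noncomputable def k1 : G := el Ψ [8,1,6,2,1,0]

/-- an element given by a word -/
noncomputable def tau : G := el Ψ [6]

/-- an element given by a word -/
noncomputable def cj_tau : G := el Ψ [0,6,0]

/-- an element given by a word -/
noncomputable def cj_c1c2 : G := el Ψ [5,0,6,0]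

/-- an element given by a word -/
noncomputable def cj_c2 : G := el Ψ [13,0,6,0]

/-- an element given by a word -/
noncomputable def cj_a1 : G := el Ψ [8,6,4,6,0]

/-- an element given by a word -/
noncomputable def cj_b1 : G := el Ψ [8,6,12,6,0]

/-- an element given by a word -/
noncomputable def cj_b1c1 : G := el Ψ [8,4,6,12,0]

/-- an element given by a word -/
noncomputable def cj_a1c1 : G := el Ψ [3,1,6,3,1]

/-- an element given by a word -/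
noncomputable def cj_a1a2 : G := el Ψ [8,6,4,1,6,0]

/-- an element given by a word -/
noncomputable def cj_b2 : G := el Ψ [8,6,12,1,6,0]

/-- an element given by a word -/
noncomputable def cj_a2 : G := el Ψ [8,6,2,4,6,0]

/-- an element given by a word -/
noncomputable def cj_b1b2 : G := el Ψ [8,6,12,9,6,0]

/-- an element given by a word -/
noncomputable def cj_b2c1 : G := el Ψ [8,2,4,6,12,0]

/-- an element given by a word -/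
noncomputable def cj_a2c1 : G := el Ψ [2,3,1,6,3,1]

/-- an element given by a word -/
noncomputable def cj_a2c2 : G := el Ψ [0,6,4,6,3,6,1]

/-- an element given by a word -/
noncomputable def cj_a1c2 : G := el Ψ [9,0,6,3,6,3,1,0]

/-- an element given by a word -/
noncomputable def cj_b2c2 : G := el Ψ [8,4,6,12,1,6,1,0]

/-- an element given by a word -/
noncomputable def cj_b1c2 : G := el Ψ [8,4,1,6,12,6,1,0]

/-- an element given by a word -/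
noncomputable def cj_c1c2a1 : G := el Ψ [11,13,9,6,12,3,6,0]

/-- an element given by a word -/
noncomputable def za1 : G := el Ψ [0]

/-- an element given by a word -/
noncomputable def zai : G := el Ψ [1]

/-- an element given by a word -/
noncomputable def ze : G := el Ψ [2]

/-- an element given by a word -/
noncomputable def zd1 : G := el Ψ [3]

/-- an element given by a word -/
noncomputable def zdi : G := el Ψ [4]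

/-- an element given by a word -/
noncomputable def zb : G := el Ψ [5]

/-- an element given by a word -/
noncomputable def zc : G := el Ψ [5,5]

/-- an element given by a word -/
noncomputable def zt : G := el Ψ [5,5,5,5]

variable (hk : Ψ.ker = Subgroup.center C3)
include hk

theorem el_peq_one {w : List ℕ} (h : peq w [] = true) : el Ψ w = 1 := by
  rw [← el_nil Ψ]
  exact el_peq Ψ hk h

theorem a1_sq : a1 Ψ * a1 Ψ = 1 := by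
  simp only [a1, el_mul]
  exact el_peq_one Ψ hk (by decide +kernel)

theorem a2_sq : a2 Ψ * a2 Ψ = 1 := by
  simp only [a2, el_mul]
  exact el_peq_one Ψ hk (by decide +kernel)

theorem c1_sq : c1 Ψ * c1 Ψ = 1 := by
  simp only [c1, el_mul]
  exact el_peq_one Ψ hk (by decide +kernel)

theorem c2_sq : c2 Ψ * c2 Ψ = 1 := by
  simp only [c2, el_mul]
  exact el_peq_one Ψ hk (by decide +kernel)

theorem b1_sq : b1 Ψ * b1 Ψ = 1 := by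
  simp only [b1, el_mul]
  exact el_peq_one Ψ hk (by decide +kernel)

theorem b2_sq : b2 Ψ * b2 Ψ = 1 := by
  simp only [b2, el_mul]
  exact el_peq_one Ψ hk (by decide +kernel)

theorem tau_sq : tau Ψ * tau Ψ = 1 := by
  simp only [tau, el_mul]
  exact el_peq_one Ψ hk (by decide +kernel)

theorem a1_a2 : a1 Ψ * a2 Ψ = a2 Ψ * a1 Ψ := by
  simp only [a1, a2, el_mul]
  exact el_peq Ψ hk (by decide +kernel)

theorem a1_c1 : a1 Ψ * c1 Ψ = c1 Ψ * a1 Ψ := by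
  simp only [a1, c1, el_mul]
  exact el_peq Ψ hk (by decide +kernel)

theorem a1_c2 : a1 Ψ * c2 Ψ = c2 Ψ * a1 Ψ := by
  simp only [a1, c2, el_mul]
  exact el_peq Ψ hk (by decide +kernel)

theorem a2_c1 : a2 Ψ * c1 Ψ = c1 Ψ * a2 Ψ := by
  simp only [a2, c1, el_mul]
  exact el_peq Ψ hk (by decide +kernel)

theorem a2_c2 : a2 Ψ * c2 Ψ = c2 Ψ * a2 Ψ := by
  simp only [a2, c2, el_mul]
  exact el_peq Ψ hk (by decide +kernel)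

theorem c1_c2 : c1 Ψ * c2 Ψ = c2 Ψ * c1 Ψ := by
  simp only [c1, c2, el_mul]
  exact el_peq Ψ hk (by decide +kernel)

theorem b1_b2 : b1 Ψ * b2 Ψ = b2 Ψ * b1 Ψ := by
  simp only [b1, b2, el_mul]
  exact el_peq Ψ hk (by decide +kernel)

theorem b1_c1 : b1 Ψ * c1 Ψ = c1 Ψ * b1 Ψ := by
  simp only [b1, c1, el_mul]
  exact el_peq Ψ hk (by decide +kernel)

theorem b1_c2 : b1 Ψ * c2 Ψ = c2 Ψ * b1 Ψ := by
  simp only [b1, c2, el_mul]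
  exact el_peq Ψ hk (by decide +kernel)

theorem b2_c1 : b2 Ψ * c1 Ψ = c1 Ψ * b2 Ψ := by
  simp only [b2, c1, el_mul]
  exact el_peq Ψ hk (by decide +kernel)

theorem b2_c2 : b2 Ψ * c2 Ψ = c2 Ψ * b2 Ψ := by
  simp only [b2, c2, el_mul]
  exact el_peq Ψ hk (by decide +kernel)

theorem k_cube : k Ψ * k Ψ * k Ψ = 1 := by
  simp only [k, el_mul]
  exact el_peq_one Ψ hk (by decide +kernel)

theorem k1_cube : k1 Ψ * k1 Ψ * k1 Ψ = 1 := by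
  simp only [k1, el_mul]
  exact el_peq_one Ψ hk (by decide +kernel)

theorem k_k1 : k Ψ * k1 Ψ = k1 Ψ * k Ψ := by
  simp only [k, k1, el_mul]
  exact el_peq Ψ hk (by decide +kernel)

theorem k_a1 : k Ψ * a1 Ψ = a2 Ψ * k Ψ := by
  simp only [a1, a2, k, el_mul]
  exact el_peq Ψ hk (by decide +kernel)

theorem k_a2 : k Ψ * a2 Ψ = a1 Ψ * a2 Ψ * k Ψ := by
  simp only [a1, a2, k, el_mul]
  exact el_peq Ψ hk (by decide +kernel)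

theorem k_c1 : k Ψ * c1 Ψ = c2 Ψ * k Ψ := by
  simp only [c1, c2, k, el_mul]
  exact el_peq Ψ hk (by decide +kernel)

theorem k_c2 : k Ψ * c2 Ψ = c1 Ψ * c2 Ψ * k Ψ := by
  simp only [c1, c2, k, el_mul]
  exact el_peq Ψ hk (by decide +kernel)

theorem k1_a1 : k1 Ψ * a1 Ψ = a1 Ψ * a2 Ψ * k1 Ψ := by
  simp only [a1, a2, k1, el_mul]
  exact el_peq Ψ hk (by decide +kernel)

theorem k1_a2 : k1 Ψ * a2 Ψ = a1 Ψ * k1 Ψ := by
  simp only [a1, a2, k1, el_mul]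
  exact el_peq Ψ hk (by decide +kernel)

theorem k1_c1 : k1 Ψ * c1 Ψ = c2 Ψ * k1 Ψ := by
  simp only [c1, c2, k1, el_mul]
  exact el_peq Ψ hk (by decide +kernel)

theorem k1_c2 : k1 Ψ * c2 Ψ = c1 Ψ * c2 Ψ * k1 Ψ := by
  simp only [c1, c2, k1, el_mul]
  exact el_peq Ψ hk (by decide +kernel)

theorem k_b1 : k Ψ * b1 Ψ = b1 Ψ * b2 Ψ * k Ψ := by
  simp only [b1, b2, k, el_mul]
  exact el_peq Ψ hk (by decide +kernel)

theorem k_b2 : k Ψ * b2 Ψ = b1 Ψ * k Ψ := by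
  simp only [b1, b2, k, el_mul]
  exact el_peq Ψ hk (by decide +kernel)

theorem b1_a1 : b1 Ψ * a1 Ψ = a1 Ψ * c1 Ψ * b1 Ψ := by
  simp only [a1, b1, c1, el_mul]
  exact el_peq Ψ hk (by decide +kernel)

theorem b1_a2 : b1 Ψ * a2 Ψ = a2 Ψ * c1 Ψ * c2 Ψ * b1 Ψ := by
  simp only [a2, b1, c1, c2, el_mul]
  exact el_peq Ψ hk (by decide +kernel)

theorem b1_k1 : b1 Ψ * k1 Ψ = k1 Ψ * b1 Ψ := by
  simp only [b1, k1, el_mul]
  exact el_peq Ψ hk (by decide +kernel)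

theorem b2_a1 : b2 Ψ * a1 Ψ = a1 Ψ * c2 Ψ * b2 Ψ := by
  simp only [a1, b2, c2, el_mul]
  exact el_peq Ψ hk (by decide +kernel)

theorem b2_a2 : b2 Ψ * a2 Ψ = a2 Ψ * c1 Ψ * b2 Ψ := by
  simp only [a2, b2, c1, el_mul]
  exact el_peq Ψ hk (by decide +kernel)

theorem b2_k1 : b2 Ψ * k1 Ψ = k1 Ψ * b2 Ψ := by
  simp only [b2, k1, el_mul]
  exact el_peq Ψ hk (by decide +kernel)

theorem tau_a1 : tau Ψ * a1 Ψ = b1 Ψ * tau Ψ := by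
  simp only [a1, b1, tau, el_mul]
  exact el_peq Ψ hk (by decide +kernel)

theorem tau_a2 : tau Ψ * a2 Ψ = b2 Ψ * tau Ψ := by
  simp only [a2, b2, tau, el_mul]
  exact el_peq Ψ hk (by decide +kernel)

theorem tau_c1 : tau Ψ * c1 Ψ = c1 Ψ * tau Ψ := by
  simp only [c1, tau, el_mul]
  exact el_peq Ψ hk (by decide +kernel)

theorem tau_c2 : tau Ψ * c2 Ψ = c1 Ψ * c2 Ψ * tau Ψ := by
  simp only [c1, c2, tau, el_mul]
  exact el_peq Ψ hk (by decide +kernel)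

theorem tau_b1 : tau Ψ * b1 Ψ = a1 Ψ * tau Ψ := by
  simp only [a1, b1, tau, el_mul]
  exact el_peq Ψ hk (by decide +kernel)

theorem tau_b2 : tau Ψ * b2 Ψ = a2 Ψ * tau Ψ := by
  simp only [a2, b2, tau, el_mul]
  exact el_peq Ψ hk (by decide +kernel)

theorem tau_k : tau Ψ * k Ψ = k Ψ * k Ψ * tau Ψ := by
  simp only [k, tau, el_mul]
  exact el_peq Ψ hk (by decide +kernel)

theorem nrmw_k_a1 : a1 Ψ * k Ψ * a1 Ψ * k Ψ * a1 Ψ * k Ψ = 1 := by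
  simp only [a1, k, el_mul]
  exact el_peq_one Ψ hk (by decide +kernel)

theorem nrmw_k_a2 : a2 Ψ * k Ψ * a2 Ψ * k Ψ * a2 Ψ * k Ψ = 1 := by
  simp only [a2, k, el_mul]
  exact el_peq_one Ψ hk (by decide +kernel)

theorem nrmw_k_c1 : c1 Ψ * k Ψ * c1 Ψ * k Ψ * c1 Ψ * k Ψ = 1 := by
  simp only [c1, k, el_mul]
  exact el_peq_one Ψ hk (by decide +kernel)

theorem nrmw_k_c2 : c2 Ψ * k Ψ * c2 Ψ * k Ψ * c2 Ψ * k Ψ = 1 := by
  simp only [c2, k, el_mul]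
  exact el_peq_one Ψ hk (by decide +kernel)

theorem nrmw_k_b1 : b1 Ψ * k Ψ * b1 Ψ * k Ψ * b1 Ψ * k Ψ = 1 := by
  simp only [b1, k, el_mul]
  exact el_peq_one Ψ hk (by decide +kernel)

theorem nrmw_k_b2 : b2 Ψ * k Ψ * b2 Ψ * k Ψ * b2 Ψ * k Ψ = 1 := by
  simp only [b2, k, el_mul]
  exact el_peq_one Ψ hk (by decide +kernel)

theorem nrmw_k1_a1 : a1 Ψ * k1 Ψ * a1 Ψ * k1 Ψ * a1 Ψ * k1 Ψ = 1 := by
  simp only [a1, k1, el_mul]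
  exact el_peq_one Ψ hk (by decide +kernel)

theorem nrmw_k1_a2 : a2 Ψ * k1 Ψ * a2 Ψ * k1 Ψ * a2 Ψ * k1 Ψ = 1 := by
  simp only [a2, k1, el_mul]
  exact el_peq_one Ψ hk (by decide +kernel)

theorem nrmw_k1_c1 : c1 Ψ * k1 Ψ * c1 Ψ * k1 Ψ * c1 Ψ * k1 Ψ = 1 := by
  simp only [c1, k1, el_mul]
  exact el_peq_one Ψ hk (by decide +kernel)

theorem nrmw_k1_c2 : c2 Ψ * k1 Ψ * c2 Ψ * k1 Ψ * c2 Ψ * k1 Ψ = 1 := by
  simp only [c2, k1, el_mul]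
  exact el_peq_one Ψ hk (by decide +kernel)

theorem cj_tau_conj : cj_tau Ψ * c1 Ψ = tau Ψ * cj_tau Ψ := by
  simp only [c1, cj_tau, tau, el_mul]
  exact el_peq Ψ hk (by decide +kernel)

theorem cj_c1c2_conj : cj_c1c2 Ψ * c1 Ψ = c1 Ψ * c2 Ψ * cj_c1c2 Ψ := by
  simp only [c1, c2, cj_c1c2, el_mul]
  exact el_peq Ψ hk (by decide +kernel)

theorem cj_c2_conj : cj_c2 Ψ * c1 Ψ = c2 Ψ * cj_c2 Ψ := by
  simp only [c1, c2, cj_c2, el_mul]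
  exact el_peq Ψ hk (by decide +kernel)

theorem cj_a1_conj : cj_a1 Ψ * c1 Ψ = a1 Ψ * cj_a1 Ψ := by
  simp only [a1, c1, cj_a1, el_mul]
  exact el_peq Ψ hk (by decide +kernel)

theorem cj_b1_conj : cj_b1 Ψ * c1 Ψ = b1 Ψ * cj_b1 Ψ := by
  simp only [b1, c1, cj_b1, el_mul]
  exact el_peq Ψ hk (by decide +kernel)

theorem cj_b1c1_conj : cj_b1c1 Ψ * c1 Ψ = b1 Ψ * c1 Ψ * cj_b1c1 Ψ := by
  simp only [b1, c1, cj_b1c1, el_mul]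
  exact el_peq Ψ hk (by decide +kernel)

theorem cj_a1c1_conj : cj_a1c1 Ψ * c1 Ψ = a1 Ψ * c1 Ψ * cj_a1c1 Ψ := by
  simp only [a1, c1, cj_a1c1, el_mul]
  exact el_peq Ψ hk (by decide +kernel)

theorem cj_a1a2_conj : cj_a1a2 Ψ * c1 Ψ = a1 Ψ * a2 Ψ * cj_a1a2 Ψ := by
  simp only [a1, a2, c1, cj_a1a2, el_mul]
  exact el_peq Ψ hk (by decide +kernel)

theorem cj_b2_conj : cj_b2 Ψ * c1 Ψ = b2 Ψ * cj_b2 Ψ := by
  simp only [b2, c1, cj_b2, el_mul]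
  exact el_peq Ψ hk (by decide +kernel)

theorem cj_a2_conj : cj_a2 Ψ * c1 Ψ = a2 Ψ * cj_a2 Ψ := by
  simp only [a2, c1, cj_a2, el_mul]
  exact el_peq Ψ hk (by decide +kernel)

theorem cj_b1b2_conj : cj_b1b2 Ψ * c1 Ψ = b1 Ψ * b2 Ψ * cj_b1b2 Ψ := by
  simp only [b1, b2, c1, cj_b1b2, el_mul]
  exact el_peq Ψ hk (by decide +kernel)

theorem cj_b2c1_conj : cj_b2c1 Ψ * c1 Ψ = b2 Ψ * c1 Ψ * cj_b2c1 Ψ := by
  simp only [b2, c1, cj_b2c1, el_mul]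
  exact el_peq Ψ hk (by decide +kernel)

theorem cj_a2c1_conj : cj_a2c1 Ψ * c1 Ψ = a2 Ψ * c1 Ψ * cj_a2c1 Ψ := by
  simp only [a2, c1, cj_a2c1, el_mul]
  exact el_peq Ψ hk (by decide +kernel)

theorem cj_a2c2_conj : cj_a2c2 Ψ * c1 Ψ = a2 Ψ * c2 Ψ * cj_a2c2 Ψ := by
  simp only [a2, c1, c2, cj_a2c2, el_mul]
  exact el_peq Ψ hk (by decide +kernel)

theorem cj_a1c2_conj : cj_a1c2 Ψ * c1 Ψ = a1 Ψ * c2 Ψ * cj_a1c2 Ψ := by
  simp only [a1, c1, c2, cj_a1c2, el_mul]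
  exact el_peq Ψ hk (by decide +kernel)

theorem cj_b2c2_conj : cj_b2c2 Ψ * c1 Ψ = b2 Ψ * c2 Ψ * cj_b2c2 Ψ := by
  simp only [b2, c1, c2, cj_b2c2, el_mul]
  exact el_peq Ψ hk (by decide +kernel)

theorem cj_b1c2_conj : cj_b1c2 Ψ * c1 Ψ = b1 Ψ * c2 Ψ * cj_b1c2 Ψ := by
  simp only [b1, c1, c2, cj_b1c2, el_mul]
  exact el_peq Ψ hk (by decide +kernel)

theorem cj_c1c2a1_conj : cj_c1c2a1 Ψ * c1 Ψ = c1 Ψ * c2 Ψ * a1 Ψ * cj_c1c2a1 Ψ := by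
  simp only [a1, c1, c2, cj_c1c2a1, el_mul]
  exact el_peq Ψ hk (by decide +kernel)

theorem za1_cube : za1 Ψ * za1 Ψ * za1 Ψ = 1 := by
  simp only [za1, el_mul]
  exact el_peq_one Ψ hk (by decide +kernel)

theorem zai_cube : zai Ψ * zai Ψ * zai Ψ = 1 := by
  simp only [zai, el_mul]
  exact el_peq_one Ψ hk (by decide +kernel)

theorem ze_cube : ze Ψ * ze Ψ * ze Ψ = 1 := by
  simp only [ze, el_mul]
  exact el_peq_one Ψ hk (by decide +kernel)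

theorem za1_zai : za1 Ψ * zai Ψ = zai Ψ * za1 Ψ := by
  simp only [za1, zai, el_mul]
  exact el_peq Ψ hk (by decide +kernel)

theorem za1_ze : za1 Ψ * ze Ψ = ze Ψ * za1 Ψ := by
  simp only [za1, ze, el_mul]
  exact el_peq Ψ hk (by decide +kernel)

theorem zai_ze : zai Ψ * ze Ψ = ze Ψ * zai Ψ := by
  simp only [zai, ze, el_mul]
  exact el_peq Ψ hk (by decide +kernel)

theorem za1_zd1 : za1 Ψ * zd1 Ψ = zd1 Ψ * za1 Ψ := by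
  simp only [za1, zd1, el_mul]
  exact el_peq Ψ hk (by decide +kernel)

theorem za1_zdi : za1 Ψ * zdi Ψ = zdi Ψ * za1 Ψ := by
  simp only [za1, zdi, el_mul]
  exact el_peq Ψ hk (by decide +kernel)

theorem zai_zd1 : zai Ψ * zd1 Ψ = zd1 Ψ * zai Ψ := by
  simp only [zai, zd1, el_mul]
  exact el_peq Ψ hk (by decide +kernel)

theorem zai_zdi : zai Ψ * zdi Ψ = zdi Ψ * zai Ψ := by
  simp only [zai, zdi, el_mul]
  exact el_peq Ψ hk (by decide +kernel)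

theorem zd1_ze : zd1 Ψ * ze Ψ = za1 Ψ * ze Ψ * zd1 Ψ := by
  simp only [za1, zd1, ze, el_mul]
  exact el_peq Ψ hk (by decide +kernel)

theorem zdi_ze : zdi Ψ * ze Ψ = zai Ψ * ze Ψ * zdi Ψ := by
  simp only [zai, zdi, ze, el_mul]
  exact el_peq Ψ hk (by decide +kernel)

theorem zd1_zdi : zd1 Ψ * zdi Ψ = za1 Ψ * zai Ψ * ze Ψ * ze Ψ * zdi Ψ * zd1 Ψ := by
  simp only [za1, zai, zd1, zdi, ze, el_mul]
  exact el_peq Ψ hk (by decide +kernel)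

theorem zc_za1 : zc Ψ * za1 Ψ = zai Ψ * zai Ψ * zc Ψ := by
  simp only [za1, zai, zc, el_mul]
  exact el_peq Ψ hk (by decide +kernel)

theorem zc_zd1 : zdi Ψ * zc Ψ * zd1 Ψ = zc Ψ := by
  simp only [zc, zd1, zdi, el_mul]
  exact el_peq Ψ hk (by decide +kernel)

theorem zc_zdi : zc Ψ * zdi Ψ = zd1 Ψ * zc Ψ := by
  simp only [zc, zd1, zdi, el_mul]
  exact el_peq Ψ hk (by decide +kernel)

theorem zb_za1 : za1 Ψ * zai Ψ * zb Ψ * za1 Ψ = zb Ψ := by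
  simp only [za1, zai, zb, el_mul]
  exact el_peq Ψ hk (by decide +kernel)

theorem zb_zai : zb Ψ * zai Ψ = za1 Ψ * zai Ψ * zai Ψ * zb Ψ := by
  simp only [za1, zai, zb, el_mul]
  exact el_peq Ψ hk (by decide +kernel)

theorem zb_ze : ze Ψ * zb Ψ * ze Ψ = zb Ψ := by
  simp only [zb, ze, el_mul]
  exact el_peq Ψ hk (by decide +kernel)

theorem zt_za1 : za1 Ψ * zt Ψ * za1 Ψ = zt Ψ := by
  simp only [za1, zt, el_mul]
  exact el_peq Ψ hk (by decide +kernel)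

theorem zt_zai : zai Ψ * zt Ψ * zai Ψ = zt Ψ := by
  simp only [zai, zt, el_mul]
  exact el_peq Ψ hk (by decide +kernel)

theorem zt_ze : zt Ψ * ze Ψ = ze Ψ * zt Ψ := by
  simp only [ze, zt, el_mul]
  exact el_peq Ψ hk (by decide +kernel)

theorem zd1_cube : zd1 Ψ * zd1 Ψ * zd1 Ψ = zai Ψ := by
  simp only [zai, zd1, el_mul]
  exact el_peq Ψ hk (by decide +kernel)

theorem zdi_cube : zdi Ψ * zdi Ψ * zdi Ψ = za1 Ψ * za1 Ψ := by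
  simp only [za1, zdi, el_mul]
  exact el_peq Ψ hk (by decide +kernel)

end

/-- generators of the Sylow `2`-subgroup -/
def gens2 : List (List ℕ) := [[3,1,6,11,6,3,1], [2,3,1,6,11,6,3,1,10], [5,5,5,5], [6,5,5], [12,0,6,12,6,12,0], [2,12,0,6,12,6,12,0,10], [6]]

/-- the 128 normal form words of the Sylow `2`-subgroup, ordered by signature -/
def words2 : List (List ℕ) := [[2], [3,6], [2,3,6], [2,3], [0,1,4], [1,4,5], [0,5], [0,3,5], [3,4], [1], [0,1,3,4], [0], [3,4,5], [1,3,4,5], [3,5], [0,1], [0,1,3,4,5,6], [1,3,5,6], [0,3,4,6], [4], [0,1,3], [1,2,3,5,6], [1,3], [4,5], [0,2,3,4,6], [5], [0,3], [0,1,2,3,4,5,6], [], [1,2,5], [0,2,4], [0,1,2,4,5], [2,6], [0,4,5,6], [4,6], [0,1,2,3,6], [1,2,3,6], [0,1,5,6], [4,5,6], [5,6], [0,2,3,6], [1,4,6], [1,2,3,4,6], [0,2,3,4,5,6], [0,1,2,3,5,6], [0,1,4,5], [1,6], [2,3,4,6], [1,5], [2,3,4,5,6], [0,6],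 [0,4], [0,1,6], [2,3,5,6], [6], [3], [0,3,4,5], [0,1,3,5], [1,3,4], [0,5,6], [0,1,4,6], [1,4,5,6], [1,2,4], [0,1,3,4,6], [0,2,4,5], [1,3,4,5,6], [0,1,2,5], [0,3,5,6], [0,2,5,6], [0,1,2,4,6], [1,2,4,5,6], [1,2,3,4], [0,2,3,4,5], [0,1,2,3,5], [0,2,4,5,6], [0,1,3,6], [2,4,6], [1,2,3,4,5], [0,1,2], [2,3,5], [1,2,3,5], [0,2,4,6], [0,1,2,5,6], [2,4,5,6], [1,3,6], [2,3,4], [0,2,3,5], [1,2], [0,2,3,4], [0,1,2,4,5,6], [1,2,4,6], [0,3,6], [2,5,6], [0,2], [2,3,4,5], [0,1,2,3,4], [0,1,2,3,4,5], [1,2,5,6], [0,4,6], [0,1,4,5,6], [1,5,6], [0,1,3,4,5], [1,3,5], [0,3,4], [1,3,4,6], [3,4,5,6], [0,1,2,6], [0,1,2,3,4,6], [1,2,4,5], [0,2,3], [2,4], [0,4,5], [0,3,4,5,6], [1,2,6], [3,5,6], [1,2,3,4,5,6], [0,2,5], [2,4,5], [0,1,2,3], [0,1,5], [0,1,3,5,6], [3,4,6], [0,2,6], [0,2,3,5,6], [0,1,2,4], [1,2,3], [2,5], [1,4]]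

/-- generators of the Sylow `3`-subgroup -/
def gens3 : List (List ℕ) := [[3], [4]]

/-- 243 words of the Sylow `3`-subgroup, ordered by signature -/
def words3 : List (List ℕ) := [[1,1,1,1,0], [1,1,1,1,1,1,1,0], [1,0], [0,1,0,0,0], [1,1,1,0,1,0,0,0], [1,0,1,1,0,1,0,0], [1,0,0,1,0,1,1,0], [1,0,1,0,1,1,0,0], [0,0,1,0,0,0,0,0], [0,1], [1,1,1,0,1], [1,1,1,1,1,1,0,1], [1,1,1,0,0,1,0,0], [0,1,0,1,1,0,1,0], [0,0,1,0,0], [0,1,0,0,1,0,1,1], [1,1,0,1,0,1,0,0], [1,0,0,0,0,0,0,0], [1,1,0,0,1,0,1,0], [1,0,1,0,1,1,0,0,0,0,0], [0,1,1,0,0,1,1,0], [1,1,1,1,0,0,0,0], [0,0,1,0,1,1,0,1], [1,0,0,0,0], [0,1,0,0,0,0,0,0], [1,1,0,1,0,0,1,0], [0,1,1,0,1,0,1,0], [1,1,1,1,1,0], [1,1,1,1,1,1,1,1,0], [1,1,0], [1,0,1,0,0,0], [1,1,1,1,0,1,0,0,0], [0,0,1,1,0,0,0,0,0], [1,1,0,0,1,0,1,1,0], [0,1,1,0,0,0], [1,0,0,1,0,0,0,0,0], [1,0,1], [1,1,1,1,0,1], [0,0,1,1,0,0],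 [1,1,1,1,0,0,1,0,0], [0,1,1], [1,0,0,1,0,0], [0,1,0,1,0,0], [1,1,1,0,1,0,1,0,0], [1,1,0,0,0,0,0,0,0], [1,1,1,0,0,1,0,1,0], [0,1,1,0,0,0,0,0,0], [0,0,1,0,1,0], [1,1,1,1,1,0,0,0,0], [1,0,0,1,0,1,1,0,1], [1,1,0,0,0,0], [0,1,0,0,1,0], [1,1,1,0,1,0,0,1,0], [1,0,1,1,0,1,0,1,0], [1,1,1,0], [1,1,1,1,1,1,0], [0], [0,0,1,1,0,1,0], [1,1,0,1,0,0,0], [0,1,1,0,1,0,0], [0,0,1,0,1,1,0], [0,1,0,1,1,0,0], [1,0,1,1,0,0,0], [1,0,0,1,1,0,0], [1,1,0,1], [1,1,1,1,1,0,1], [1,1,0,0,1,0,0], [0,0,1,1,0,0,1], [1,0,1,1], [1,1,1,0,0,0,0,0,0,0], [1,0,1,0,1,0,0], [0,0,0,0,0,0,0], [1,0,0,1,0,1,0], [0,1,0,1,1,0,0,0,0,0], [0,1,0,0,1,0,1], [1,1,1,0,0,0,0], [1,1,1,1,1,1,0,0,0,0], [0,0,0,0], [0,0,1,1,0,1,0,0,0,0], [1,0,1,0,0,1,0], [0,1,0,1,0,0,1], [1,1,1,0,1,0], [1,0,1,1,0,1], [0,1,0], [0,0,1,0,0,0], [1,1,1,0,0,1,0,0,0], [1,0,1,0,1,1], [0,1,0,0,1,0,1,1,0], [1,1,0,1,0,1,0,0,0],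 [1,0,0,0,0,0,0,0,0], [0,0,1], [1,1,1,0,0,1], [1,1,1,1,1,1,0,0,1], [1,1,1,1,0,0,0,0,0], [1,1,0,1,0,1], [1,0,0,0,0,0], [1,1,0,1,0,0,1,0,0], [0,1,1,0,1,0,1,0,0], [1,1,0,0,1,1], [1,1,1,1,0,0], [1,1,1,1,1,1,1,0,0], [1,0,0], [1,1,1,0,1,0,0,0,0], [1,0,1,1,0,1,0,0,0], [0,1,0,0,0,0], [0,0,1,0,0,0,0,0,0], [1,0,0,1,0,1,1,0,0], [1,0,1,0,1,1,0,0,0], [1,0,0,1,0,0,0], [1,1,1,1,0,0,1,0,0,0], [0,1,1,0], [0,1,0,1,0,0,0], [1,1,1,0,1,0,1,0,0,0], [1,1,0,0,0,0,0,0,0,0], [1,1,1,1,0,1,0], [0,0,1,1,0,0,0], [1,0,1,0], [0,1,0,1], [1,1,1,0,1,0,1], [1,1,0,0,0,0,0], [1,1,1,0,1,0,0,1,0,0], [0,0,1,1], [0,1,0,0,1,0,0], [1,0,0,1], [1,1,1,1,0,0,1], [0,1,1,0,0,0,0,0,0,0], [1,1,1,1,0,1,0,0,0,0], [0,0,1,1,0,0,0,0,0,0], [1,0,1,0,0,0,0], [1,0,0,1,0,0,0,0,0,0], [1,1,0,0,1,0,1,1,0,0], [0,1,1,0,0,0,0], [1,1,1,1,1,0,0], [1,1,1,1,1,1,1,1,0,0], [1,1,0,0], [1,1,1,0,0], [1,1,1,1,1,1,0,0],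 [0,0], [1,1,0,1,0,0,0,0], [0,1,1,0,1,0,0,0], [0,0,1,1,0,1,0,0], [1,0,1,1,0,0,0,0], [0,0,1,0,1,1,0,0], [0,1,0,1,1,0,0,0], [1,1,0,1,0], [0,1,1,0,1], [1,0,0,1,1,0,0,0], [1,0,1,1,0], [1,1,0,0,1,0,0,0], [0,1,0,1,1], [1,1,1,0,0,0,0,0,0,0,0], [1,0,1,0,1,0,0,0], [0,0,0,0,0,0,0,0], [0,1,0,0,1,0,1,0], [1,1,0,0,1], [1,1,1,1,1,0,0,1], [1,1,1,0,0,0,0,0], [1,0,1,0,1], [0,0,0,0,0], [1,0,1,0,0,1,0,0], [0,1,0,1,0,0,1,0], [1,0,0,1,1], [1,1,0,0,1,0,1], [1,0,1,0,1,1,0,0,0,0], [0,1,1,0,0,1,1], [1,0,0,0], [1,1,1,1,0,0,0], [1,1,1,1,1,1,1,0,0,0], [1,1,0,1,0,0,1], [0,1,1,0,1,0,1], [0,1,0,0,0,0,0], [1], [1,1,1,1], [1,1,1,1,1,1,1], [1,1,1,0,1,0,0], [1,0,1,1,0,1,0], [0,1,0,0], [1,0,0,1,0,1,1], [1,0,1,0,1,1,0], [0,0,1,0,0,0,0], [1,0,1,0,0,1,1], [0,1,1,0,1,0,1,0,0,0], [1,1,0,0,1,1,0], [1,1,1,0,0,1,0], [0,1,0,1,1,0,1], [0,0,1,0], [1,0,0,0,0,0,0], [1,1,1,1,0,0,0,0,0,0],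 [1,1,0,1,0,1,0], [1,1,1,0,1,0,0,1], [1,0,1,1,0,1,0,1], [0,1,0,0,1], [1,1,1,0,0,1,0,1], [0,1,1,0,0,0,0,0], [0,0,1,0,1], [1,1,0,0,0], [1,1,1,1,1,0,0,0], [1,1,1,1,1,1,1,1,0,0,0], [1,1,0,0,1,0,1,1], [0,1,1,0,0], [1,0,0,1,0,0,0,0], [1,1], [1,1,1,1,1], [1,1,1,1,1,1,1,1], [1,1,1,1,0,1,0,0], [0,0,1,1,0,0,0,0], [1,0,1,0,0], [1,1,0,0,0,0,0,0], [0,1,0,1,0], [1,1,1,0,1,0,1,0], [1,1,0,1,0,0,1,1], [0,0,1,1,0], [0,1,0,0,1,0,0,0], [1,1,1,1,0,0,1,0], [1,0,1,0,1,1,0,1], [1,0,0,1,0], [], [1,1,1], [1,1,1,1,1,1], [1,1,0,1,0,0], [0,1,1,0,1,0], [0,0,1,1,0,1], [0,0,1,0,1,1], [0,1,0,1,1,0], [1,0,1,1,0,0], [0,1,0,0,1,1], [0,1,0,1,0,0,1,0,0], [1,0,0,1,1,0], [1,1,0,0,1,0], [1,1,1,1,1,0,0,1,0], [0,1,1,0,0,1], [0,0,0,0,0,0], [1,1,1,0,0,0,0,0,0], [1,0,1,0,1,0], [1,0,0,1,0,1], [0,1,0,1,1,0,0,0,0], [1,0,1,1,0,0,0,0,0], [0,0,0], [1,1,1,0,0,0], [1,1,1,1,1,1,0,0,0], [1,0,1,0,0,1],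 [0,1,1,0,1,0,0,0,0], [0,0,1,1,0,1,0,0,0]]

set_option maxRecDepth 100000 in
theorem words2_inc : isStrictInc (words2.map fun l => psig (evalW gens2 l)) = true := by
  decide +kernel

set_option maxRecDepth 100000 in
theorem words3_inc : isStrictInc (words3.map fun l => psig (evalW gens3 l)) = true := by
  decide +kernel

section
variable {G : Type*} [Group G] (Ψ : C3 →* G)

theorem a1_def : a1 Ψ = el Ψ [3,1,6,11,6,3,1] := rfl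

theorem a2_def : a2 Ψ = el Ψ [2,3,1,6,11,6,3,1,10] := rfl

theorem c1_def : c1 Ψ = el Ψ [5,5,5,5] := rfl

theorem c2_def : c2 Ψ = el Ψ [6,5,5] := rfl

theorem b1_def : b1 Ψ = el Ψ [12,0,6,12,6,12,0] := rfl

theorem b2_def : b2 Ψ = el Ψ [2,12,0,6,12,6,12,0,10] := rfl

theorem tau_def : tau Ψ = el Ψ [6] := rfl

theorem zd1_def : zd1 Ψ = el Ψ [3] := rfl

theorem zdi_def : zdi Ψ = el Ψ [4] := rfl

end

attribute [irreducible] a1 a2 c1 c2 b1 b2 k k1 tau cj_tau cj_c1c2 cj_c2 cj_a1 cj_b1 cj_b1c1 cj_a1c1 cj_a1a2 cj_b2 cj_a2 cj_b1b2 cj_b2c1 cj_a2c1 cj_a2c2 cj_a1c2 cj_b2c2 cj_b1c2 cj_c1c2a1 za1 zai ze zd1 zdi zb zc zt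


end Cfsg.Agent.Lib.Helper5.J3M
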