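import Mathlib
import Cfsg.Agent.Lib.Helper5.J3MB
import Cfsg.Agent.Lib.Helper5.StemF
import Cfsg.Agent.Lib.Helper5.StemN
import Cfsg.Agent.Lib.helper3.StemTools2

set_option autoImplicit false

/-! The `2`-local subgroups of the third Janko group used for the Schur multiplier. -/

namespace Cfsg.Agent.Lib.Helper5.J3M

open Cfsg.Agent.Lib.Lead.F4 Cfsg.Spor Cfsg.Agent.Lib.helper4
open Cfsg.Agent.Lib.Helper5.Stem Cfsg.Agent.Lib.helper3
open Subgroup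

/-- conjugation from a commutation relation -/
theorem conj_of_mul {G : Type*} [Group G] {a b c : G} (h : a * b = c * a) : a * b * a⁻¹ = c := by
  rw [h]; group

theorem conj_of_mul' {G : Type*} [Group G] {a b c : G} (h : a * b = c * a) : a⁻¹ * c * a = b := by
  calc a⁻¹ * c * a = a⁻¹ * (c * a) := by group
    _ = a⁻¹ * (a * b) := by rw [h]
    _ = b := by group

/-- conjugation maps a generated subgroup into another one if it does so on generators -/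
theorem conj_mem_closure_of_gens₂ {G : Type*} [Group G] (S S' : Set G) (k : G)
    (hkS : ∀ a ∈ S, k * a * k⁻¹ ∈ closure S') : ∀ e ∈ closure S, k * e * k⁻¹ ∈ closure S' := by
  intro e he
  induction he using Subgroup.closure_induction with
  | mem x hx => exact hkS x hx
  | one => simp
  | mul x y _ _ ihx ihy =>
    have : k * (x * y) * k⁻¹ = (k * x * k⁻¹) * (k * y * k⁻¹) := by group
    rw [this]; exact mul_mem ihx ihy
  | inv x _ ih =>
    have : k * x⁻¹ * k⁻¹ = (k * x * k⁻¹)⁻¹ := by group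
    rw [this]; exact inv_mem ih

theorem nrm3_of_cube {G : Type*} [Group G] {κ a : G} (hκ : κ * κ * κ = 1)
    (h : a * κ * a * κ * a * κ = 1) : nrm3 κ a = 1 := by
  unfold nrm3
  calc a * (κ * a * κ⁻¹) * (κ * (κ * a * κ⁻¹) * κ⁻¹)
      = (a * κ * a * κ * a * κ) * (κ * κ * κ)⁻¹ := by group
    _ = 1 := by rw [h, hκ]; group

section
variable {G : Type*} [Group G] (Ψ : C3 →* G)

/-- generators of the first elementary abelian group of order sixteen -/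
def SE : Set G := {a1 Ψ, a2 Ψ, c1 Ψ, c2 Ψ}

/-- generators of the second elementary abelian group of order sixteen -/
def SE' : Set G := {b1 Ψ, b2 Ψ, c1 Ψ, c2 Ψ}

/-- generators of a complement of the first group in their product -/
def SB : Set G := {b1 Ψ, b2 Ψ}

theorem mem_SE {a : G} (ha : a ∈ SE Ψ) : a = a1 Ψ ∨ a = a2 Ψ ∨ a = c1 Ψ ∨ a = c2 Ψ := by
  simpa [SE] using ha

theorem mem_SE' {a : G} (ha : a ∈ SE' Ψ) : a = b1 Ψ ∨ a = b2 Ψ ∨ a = c1 Ψ ∨ a = c2 Ψ := by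
  simpa [SE'] using ha

theorem a1_mem : a1 Ψ ∈ closure (SE Ψ) := subset_closure (by simp [SE])
theorem a2_mem : a2 Ψ ∈ closure (SE Ψ) := subset_closure (by simp [SE])
theorem c1_mem : c1 Ψ ∈ closure (SE Ψ) := subset_closure (by simp [SE])
theorem c2_mem : c2 Ψ ∈ closure (SE Ψ) := subset_closure (by simp [SE])
theorem b1_mem' : b1 Ψ ∈ closure (SE' Ψ) := subset_closure (by simp [SE'])
theorem b2_mem' : b2 Ψ ∈ closure (SE' Ψ) := subset_closure (by simp [SE'])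
theorem c1_mem' : c1 Ψ ∈ closure (SE' Ψ) := subset_closure (by simp [SE'])
theorem c2_mem' : c2 Ψ ∈ closure (SE' Ψ) := subset_closure (by simp [SE'])

variable (hk : Ψ.ker = Subgroup.center C3)
include hk

theorem SE_sq : ∀ a ∈ SE Ψ, a * a = 1 := by
  intro a ha
  rcases mem_SE Ψ ha with rfl | rfl | rfl | rfl
  · exact a1_sq Ψ hk
  · exact a2_sq Ψ hk
  · exact c1_sq Ψ hk
  · exact c2_sq Ψ hk

theorem SE'_sq : ∀ a ∈ SE' Ψ, a * a = 1 := by
  intro a ha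
  rcases mem_SE' Ψ ha with rfl | rfl | rfl | rfl
  · exact b1_sq Ψ hk
  · exact b2_sq Ψ hk
  · exact c1_sq Ψ hk
  · exact c2_sq Ψ hk

theorem SE_comm : ∀ a ∈ SE Ψ, ∀ b ∈ SE Ψ, a * b = b * a := by
  intro a ha b hb
  rcases mem_SE Ψ ha with rfl | rfl | rfl | rfl <;>
    rcases mem_SE Ψ hb with rfl | rfl | rfl | rfl <;>
    (first
      | rfl
      | exact a1_a2 Ψ hk
      | exact a1_c1 Ψ hk
      | exact a1_c2 Ψ hk
      | exact a2_c1 Ψ hk
      | exact a2_c2 Ψ hk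
      | exact c1_c2 Ψ hk
      | exact (a1_a2 Ψ hk).symm
      | exact (a1_c1 Ψ hk).symm
      | exact (a1_c2 Ψ hk).symm
      | exact (a2_c1 Ψ hk).symm
      | exact (a2_c2 Ψ hk).symm
      | exact (c1_c2 Ψ hk).symm)

theorem SE'_comm : ∀ a ∈ SE' Ψ, ∀ b ∈ SE' Ψ, a * b = b * a := by
  intro a ha b hb
  rcases mem_SE' Ψ ha with rfl | rfl | rfl | rfl <;>
    rcases mem_SE' Ψ hb with rfl | rfl | rfl | rfl <;>
    (first
      | rfl
      | exact b1_b2 Ψ hk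
      | exact b1_c1 Ψ hk
      | exact b1_c2 Ψ hk
      | exact b2_c1 Ψ hk
      | exact b2_c2 Ψ hk
      | exact c1_c2 Ψ hk
      | exact (b1_b2 Ψ hk).symm
      | exact (b1_c1 Ψ hk).symm
      | exact (b1_c2 Ψ hk).symm
      | exact (b2_c1 Ψ hk).symm
      | exact (b2_c2 Ψ hk).symm
      | exact (c1_c2 Ψ hk).symm)

theorem k_SE : ∀ a ∈ SE Ψ, k Ψ * a * (k Ψ)⁻¹ ∈ closure (SE Ψ) := by
  intro a ha
  rcases mem_SE Ψ ha with rfl | rfl | rfl | rfl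
  · rw [conj_of_mul (k_a1 Ψ hk)]
    all_goals repeat (first | exact a1_mem Ψ | exact a2_mem Ψ | exact c1_mem Ψ | exact c2_mem Ψ | apply mul_mem)
  · rw [conj_of_mul (k_a2 Ψ hk)]
    all_goals repeat (first | exact a1_mem Ψ | exact a2_mem Ψ | exact c1_mem Ψ | exact c2_mem Ψ | apply mul_mem)
  · rw [conj_of_mul (k_c1 Ψ hk)]
    all_goals repeat (first | exact a1_mem Ψ | exact a2_mem Ψ | exact c1_mem Ψ | exact c2_mem Ψ | apply mul_mem)
  · rw [conj_of_mul (k_c2 Ψ hk)]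
    all_goals repeat (first | exact a1_mem Ψ | exact a2_mem Ψ | exact c1_mem Ψ | exact c2_mem Ψ | apply mul_mem)

theorem k_SE' : ∀ a ∈ SE' Ψ, k Ψ * a * (k Ψ)⁻¹ ∈ closure (SE' Ψ) := by
  intro a ha
  rcases mem_SE' Ψ ha with rfl | rfl | rfl | rfl
  · rw [conj_of_mul (k_b1 Ψ hk)]
    all_goals repeat (first | exact b1_mem' Ψ | exact b2_mem' Ψ | exact c1_mem' Ψ | exact c2_mem' Ψ | apply mul_mem)
  · rw [conj_of_mul (k_b2 Ψ hk)]
    all_goals repeat (first | exact b1_mem' Ψ | exact b2_mem' Ψ | exact c1_mem' Ψ | exact c2_mem' Ψ | apply mul_mem)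
  · rw [conj_of_mul (k_c1 Ψ hk)]
    all_goals repeat (first | exact b1_mem' Ψ | exact b2_mem' Ψ | exact c1_mem' Ψ | exact c2_mem' Ψ | apply mul_mem)
  · rw [conj_of_mul (k_c2 Ψ hk)]
    all_goals repeat (first | exact b1_mem' Ψ | exact b2_mem' Ψ | exact c1_mem' Ψ | exact c2_mem' Ψ | apply mul_mem)

theorem k1_SE : ∀ a ∈ SE Ψ, k1 Ψ * a * (k1 Ψ)⁻¹ ∈ closure (SE Ψ) := by
  intro a ha
  rcases mem_SE Ψ ha with rfl | rfl | rfl | rfl
  · rw [conj_of_mul (k1_a1 Ψ hk)]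
    all_goals repeat (first | exact a1_mem Ψ | exact a2_mem Ψ | exact c1_mem Ψ | exact c2_mem Ψ | apply mul_mem)
  · rw [conj_of_mul (k1_a2 Ψ hk)]
    all_goals repeat (first | exact a1_mem Ψ | exact a2_mem Ψ | exact c1_mem Ψ | exact c2_mem Ψ | apply mul_mem)
  · rw [conj_of_mul (k1_c1 Ψ hk)]
    all_goals repeat (first | exact a1_mem Ψ | exact a2_mem Ψ | exact c1_mem Ψ | exact c2_mem Ψ | apply mul_mem)
  · rw [conj_of_mul (k1_c2 Ψ hk)]
    all_goals repeat (first | exact a1_mem Ψ | exact a2_mem Ψ | exact c1_mem Ψ | exact c2_mem Ψ | apply mul_mem)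

theorem k_nrm : ∀ a ∈ SE Ψ, nrm3 (k Ψ) a = 1 := by
  intro a ha
  rcases mem_SE Ψ ha with rfl | rfl | rfl | rfl
  · exact nrm3_of_cube (k_cube Ψ hk) (nrmw_k_a1 Ψ hk)
  · exact nrm3_of_cube (k_cube Ψ hk) (nrmw_k_a2 Ψ hk)
  · exact nrm3_of_cube (k_cube Ψ hk) (nrmw_k_c1 Ψ hk)
  · exact nrm3_of_cube (k_cube Ψ hk) (nrmw_k_c2 Ψ hk)

theorem k_nrm' : ∀ a ∈ SE' Ψ, nrm3 (k Ψ) a = 1 := by
  intro a ha
  rcases mem_SE' Ψ ha with rfl | rfl | rfl | rfl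
  · exact nrm3_of_cube (k_cube Ψ hk) (nrmw_k_b1 Ψ hk)
  · exact nrm3_of_cube (k_cube Ψ hk) (nrmw_k_b2 Ψ hk)
  · exact nrm3_of_cube (k_cube Ψ hk) (nrmw_k_c1 Ψ hk)
  · exact nrm3_of_cube (k_cube Ψ hk) (nrmw_k_c2 Ψ hk)

theorem k1_nrm : ∀ a ∈ SE Ψ, nrm3 (k1 Ψ) a = 1 := by
  intro a ha
  rcases mem_SE Ψ ha with rfl | rfl | rfl | rfl
  · exact nrm3_of_cube (k1_cube Ψ hk) (nrmw_k1_a1 Ψ hk)
  · exact nrm3_of_cube (k1_cube Ψ hk) (nrmw_k1_a2 Ψ hk)
  · exact nrm3_of_cube (k1_cube Ψ hk) (nrmw_k1_c1 Ψ hk)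
  · exact nrm3_of_cube (k1_cube Ψ hk) (nrmw_k1_c2 Ψ hk)

theorem b1_SE : ∀ a ∈ SE Ψ, b1 Ψ * a * (b1 Ψ)⁻¹ ∈ closure (SE Ψ) := by
  intro a ha
  rcases mem_SE Ψ ha with rfl | rfl | rfl | rfl
  · rw [conj_of_mul (b1_a1 Ψ hk)]
    all_goals repeat (first | exact a1_mem Ψ | exact a2_mem Ψ | exact c1_mem Ψ | exact c2_mem Ψ | apply mul_mem)
  · rw [conj_of_mul (b1_a2 Ψ hk)]
    all_goals repeat (first | exact a1_mem Ψ | exact a2_mem Ψ | exact c1_mem Ψ | exact c2_mem Ψ | apply mul_mem)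
  · rw [conj_of_mul (b1_c1 Ψ hk)]
    exact c1_mem Ψ
  · rw [conj_of_mul (b1_c2 Ψ hk)]
    exact c2_mem Ψ

theorem b2_SE : ∀ a ∈ SE Ψ, b2 Ψ * a * (b2 Ψ)⁻¹ ∈ closure (SE Ψ) := by
  intro a ha
  rcases mem_SE Ψ ha with rfl | rfl | rfl | rfl
  · rw [conj_of_mul (b2_a1 Ψ hk)]
    all_goals repeat (first | exact a1_mem Ψ | exact a2_mem Ψ | exact c1_mem Ψ | exact c2_mem Ψ | apply mul_mem)
  · rw [conj_of_mul (b2_a2 Ψ hk)]
    all_goals repeat (first | exact a1_mem Ψ | exact a2_mem Ψ | exact c1_mem Ψ | exact c2_mem Ψ | apply mul_mem)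
  · rw [conj_of_mul (b2_c1 Ψ hk)]
    exact c1_mem Ψ
  · rw [conj_of_mul (b2_c2 Ψ hk)]
    exact c2_mem Ψ

theorem SE'_N : ∀ b ∈ SE' Ψ, b ∈ closure (SE Ψ) ∨
    ((∀ a ∈ SE Ψ, b * a * b⁻¹ ∈ closure (SE Ψ)) ∧ b⁻¹ * k1 Ψ * b = k1 Ψ) := by
  intro b hb
  rcases mem_SE' Ψ hb with rfl | rfl | rfl | rfl
  · right; exact ⟨b1_SE Ψ hk, conj_of_mul' (b1_k1 Ψ hk)⟩
  · right; exact ⟨b2_SE Ψ hk, conj_of_mul' (b2_k1 Ψ hk)⟩
  · left; exact c1_mem Ψ
  · left; exact c2_mem Ψ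

omit hk in
/-- the complement of order two -/
def DD : Subgroup G := closure {tau Ψ}

theorem tau_inv : (tau Ψ)⁻¹ = tau Ψ := by
  rw [inv_eq_iff_mul_eq_one]; exact tau_sq Ψ hk

theorem DD_cases : ∀ d ∈ DD Ψ, d = 1 ∨ d = tau Ψ := by
  intro d hd
  unfold DD at hd
  induction hd using Subgroup.closure_induction with
  | mem x hx => right; simpa using hx
  | one => left; rfl
  | mul x y _ _ ihx ihy =>
    rcases ihx with rfl | rfl <;> rcases ihy with rfl | rfl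
    · left; rw [one_mul]
    · right; rw [one_mul]
    · right; rw [mul_one]
    · left; exact tau_sq Ψ hk
  | inv x _ ih =>
    rcases ih with rfl | rfl
    · left; rw [inv_one]
    · right; exact tau_inv Ψ hk

theorem tau_SE : ∀ a ∈ SE Ψ, tau Ψ * a * (tau Ψ)⁻¹ ∈ closure (SE' Ψ) := by
  intro a ha
  rcases mem_SE Ψ ha with rfl | rfl | rfl | rfl
  · rw [conj_of_mul (tau_a1 Ψ hk)]
    all_goals repeat (first | exact b1_mem' Ψ | exact b2_mem' Ψ | exact c1_mem' Ψ | exact c2_mem' Ψ | apply mul_mem)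
  · rw [conj_of_mul (tau_a2 Ψ hk)]
    all_goals repeat (first | exact b1_mem' Ψ | exact b2_mem' Ψ | exact c1_mem' Ψ | exact c2_mem' Ψ | apply mul_mem)
  · rw [conj_of_mul (tau_c1 Ψ hk)]
    all_goals repeat (first | exact b1_mem' Ψ | exact b2_mem' Ψ | exact c1_mem' Ψ | exact c2_mem' Ψ | apply mul_mem)
  · rw [conj_of_mul (tau_c2 Ψ hk)]
    all_goals repeat (first | exact b1_mem' Ψ | exact b2_mem' Ψ | exact c1_mem' Ψ | exact c2_mem' Ψ | apply mul_mem)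

theorem tau_SE' : ∀ a ∈ SE' Ψ, tau Ψ * a * (tau Ψ)⁻¹ ∈ closure (SE Ψ) := by
  intro a ha
  rcases mem_SE' Ψ ha with rfl | rfl | rfl | rfl
  · rw [conj_of_mul (tau_b1 Ψ hk)]
    all_goals repeat (first | exact a1_mem Ψ | exact a2_mem Ψ | exact c1_mem Ψ | exact c2_mem Ψ | apply mul_mem)
  · rw [conj_of_mul (tau_b2 Ψ hk)]
    all_goals repeat (first | exact a1_mem Ψ | exact a2_mem Ψ | exact c1_mem Ψ | exact c2_mem Ψ | apply mul_mem)
  · rw [conj_of_mul (tau_c1 Ψ hk)]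
    all_goals repeat (first | exact a1_mem Ψ | exact a2_mem Ψ | exact c1_mem Ψ | exact c2_mem Ψ | apply mul_mem)
  · rw [conj_of_mul (tau_c2 Ψ hk)]
    all_goals repeat (first | exact a1_mem Ψ | exact a2_mem Ψ | exact c1_mem Ψ | exact c2_mem Ψ | apply mul_mem)

theorem DD_S : ∀ d ∈ DD Ψ, ((∀ e ∈ closure (SE Ψ), d * e * d⁻¹ ∈ closure (SE Ψ)) ∧
      (∀ e ∈ closure (SE' Ψ), d * e * d⁻¹ ∈ closure (SE' Ψ))) ∨
    ((∀ e ∈ closure (SE Ψ), d * e * d⁻¹ ∈ closure (SE' Ψ)) ∧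
      (∀ e ∈ closure (SE' Ψ), d * e * d⁻¹ ∈ closure (SE Ψ))) := by
  intro d hd
  rcases DD_cases Ψ hk d hd with rfl | rfl
  · left
    constructor
    · intro e he; simpa using he
    · intro e he; simpa using he
  · right
    exact ⟨conj_mem_closure_of_gens₂ (SE Ψ) (SE' Ψ) (tau Ψ) (tau_SE Ψ hk),
      conj_mem_closure_of_gens₂ (SE' Ψ) (SE Ψ) (tau Ψ) (tau_SE' Ψ hk)⟩

theorem DD_k : ∀ d ∈ DD Ψ, d⁻¹ * k Ψ * d = k Ψ ∨ d⁻¹ * k Ψ * d = k Ψ * k Ψ := by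
  intro d hd
  rcases DD_cases Ψ hk d hd with rfl | rfl
  · left; group
  · right
    have h := conj_of_mul (tau_k Ψ hk)
    rw [tau_inv Ψ hk]
    rw [tau_inv Ψ hk] at h
    exact h

end

end Cfsg.Agent.Lib.Helper5.J3M
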