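import Mathlib
import Cfsg.Agent.Lib.Helper5.J3MC
import Cfsg.Agent.Lib.Helper5.StemS

set_option autoImplicit false

/-! Orders of the Sylow `2`- and `3`-subgroups of the third Janko group. -/

namespace Cfsg.Agent.Lib.Helper5.J3M

open Cfsg.Agent.Lib.Lead.F4 Cfsg.Spor Cfsg.Agent.Lib.helper4
open Cfsg.Agent.Lib.Helper5.Stem Cfsg.Agent.Lib.helper3
open Subgroup

/-- adjoining an element normalising a generated subgroup with `n`-th power inside multiplies the
order by at most `n` -/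
theorem card_closure_insert_le {G : Type*} [Group G] [Finite G] {x : G} {T : Set G} (n : ℕ)
    (hn0 : 0 < n) (hxn : x ^ n ∈ closure T) (hc : ∀ t ∈ T, x * t * x⁻¹ ∈ closure T) :
    Nat.card (closure (insert x T)) ≤ n * Nat.card (closure T) := by
  have e : closure (insert x T) = closure T ⊔ zpowers x := by
    rw [Set.insert_eq, Subgroup.closure_union, sup_comm, Subgroup.zpowers_eq_closure]
  rw [e]
  exact card_sup_zpowers_le (conj_mem_closure_of_gens₂ T T x hc) n hn0 hxn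

section
variable {G : Type*} [Group G] [Finite G] (Ψ : C3 →* G)
variable (hk : Ψ.ker = Subgroup.center C3)
include hk

theorem card_SE_le : Nat.card (closure (SE Ψ)) ≤ 16 := by
  have h4 : Nat.card (closure ({c2 Ψ} : Set G)) ≤ 2 :=
    card_closure_singleton_invol_le (c2_sq Ψ hk)
  have h3 : Nat.card (closure ({c1 Ψ, c2 Ψ} : Set G)) ≤ 2 * 2 := by
    refine (card_closure_insert_invol_le (c1_sq Ψ hk) ?_).trans (Nat.mul_le_mul_left _ h4)
    intro t ht
    rcases ht with rfl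
    exact c1_c2 Ψ hk
  have h2 : Nat.card (closure ({a2 Ψ, c1 Ψ, c2 Ψ} : Set G)) ≤ 2 * (2 * 2) := by
    refine (card_closure_insert_invol_le (a2_sq Ψ hk) ?_).trans (Nat.mul_le_mul_left _ h3)
    intro t ht
    rcases ht with rfl | rfl
    · exact a2_c1 Ψ hk
    · exact a2_c2 Ψ hk
  have h1 : Nat.card (closure ({a1 Ψ, a2 Ψ, c1 Ψ, c2 Ψ} : Set G)) ≤ 2 * (2 * (2 * 2)) := by
    refine (card_closure_insert_invol_le (a1_sq Ψ hk) ?_).trans (Nat.mul_le_mul_left _ h2)
    intro t ht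
    rcases ht with rfl | rfl | rfl
    · exact a1_a2 Ψ hk
    · exact a1_c1 Ψ hk
    · exact a1_c2 Ψ hk
  exact h1

theorem card_SB_le : Nat.card (closure (SB Ψ)) ≤ 4 := by
  have h2 : Nat.card (closure ({b2 Ψ} : Set G)) ≤ 2 :=
    card_closure_singleton_invol_le (b2_sq Ψ hk)
  have h1 : Nat.card (closure ({b1 Ψ, b2 Ψ} : Set G)) ≤ 2 * 2 := by
    refine (card_closure_insert_invol_le (b1_sq Ψ hk) ?_).trans (Nat.mul_le_mul_left _ h2)
    intro t ht
    rcases ht with rfl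
    exact b1_b2 Ψ hk
  exact h1

theorem SB_le_normalizer :
    closure (SB Ψ) ≤ normalizer ((closure (SE Ψ) : Subgroup G) : Set _) := by
  apply closure_le_normalizer_closure (SE Ψ) (SB Ψ)
  intro d hd a ha
  rcases hd with rfl | rfl
  · exact b1_SE Ψ hk a ha
  · exact b2_SE Ψ hk a ha

theorem card_U_le : Nat.card ↥(closure (SE Ψ) ⊔ closure (SE' Ψ)) ≤ 64 := by
  have hle : closure (SE Ψ) ⊔ closure (SE' Ψ) ≤ closure (SE Ψ) ⊔ closure (SB Ψ) := by
    apply sup_le le_sup_left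
    rw [closure_le]
    intro x hx
    rcases mem_SE' Ψ hx with rfl | rfl | rfl | rfl
    · exact le_sup_right (a := closure (SE Ψ)) (subset_closure (by simp [SB]))
    · exact le_sup_right (a := closure (SE Ψ)) (subset_closure (by simp [SB]))
    · exact le_sup_left (b := closure (SB Ψ)) (c1_mem Ψ)
    · exact le_sup_left (b := closure (SB Ψ)) (c2_mem Ψ)
  calc Nat.card ↥(closure (SE Ψ) ⊔ closure (SE' Ψ))
      ≤ Nat.card ↥(closure (SE Ψ) ⊔ closure (SB Ψ)) := Subgroup.card_le_of_le hle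
    _ ≤ Nat.card (closure (SE Ψ)) * Nat.card (closure (SB Ψ)) :=
        card_sup_le_of_le_normalizer (SB_le_normalizer Ψ hk)
    _ ≤ 16 * 4 := Nat.mul_le_mul (card_SE_le Ψ hk) (card_SB_le Ψ hk)

omit hk in
/-- the Sylow `2`-subgroup -/
def PP : Subgroup G := closure (SE Ψ) ⊔ closure (SE' Ψ) ⊔ DD Ψ

theorem card_DD_le : Nat.card (DD Ψ) ≤ 2 := card_closure_singleton_invol_le (tau_sq Ψ hk)

theorem DD_le_normalizer :
    DD Ψ ≤ normalizer ((closure (SE Ψ) ⊔ closure (SE' Ψ) : Subgroup G) : Set _) := by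
  intro d hd
  apply Subgroup.mem_normalizer_fintype
  intro n hn
  have hmap : (closure (SE Ψ) ⊔ closure (SE' Ψ)).map (MulAut.conj d).toMonoidHom ≤
      closure (SE Ψ) ⊔ closure (SE' Ψ) := by
    rw [Subgroup.map_sup]
    rcases DD_S Ψ hk d hd with ⟨h1, h2⟩ | ⟨h1, h2⟩
    · apply sup_le
      · rintro _ ⟨e, he, rfl⟩
        exact le_sup_left (b := closure (SE' Ψ)) (h1 e he)
      · rintro _ ⟨e, he, rfl⟩
        exact le_sup_right (a := closure (SE Ψ)) (h2 e he)
    · apply sup_le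
      · rintro _ ⟨e, he, rfl⟩
        exact le_sup_right (a := closure (SE Ψ)) (h1 e he)
      · rintro _ ⟨e, he, rfl⟩
        exact le_sup_left (b := closure (SE' Ψ)) (h2 e he)
  exact hmap ⟨n, hn, rfl⟩

theorem card_PP_le : Nat.card (PP Ψ) ≤ 128 := by
  calc Nat.card (PP Ψ) ≤ Nat.card ↥(closure (SE Ψ) ⊔ closure (SE' Ψ)) * Nat.card (DD Ψ) :=
        card_sup_le_of_le_normalizer (DD_le_normalizer Ψ hk)
    _ ≤ 64 * 2 := Nat.mul_le_mul (card_U_le Ψ hk) (card_DD_le Ψ hk)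

set_option maxRecDepth 100000 in
theorem card_PP_ge : 128 ≤ Nat.card (PP Ψ) := by
  have hA : closure (SE Ψ) ≤ PP Ψ := le_sup_left.trans le_sup_left
  have hB : closure (SE' Ψ) ≤ PP Ψ := le_sup_right.trans le_sup_left
  have hD : DD Ψ ≤ PP Ψ := le_sup_right
  have h := card_ge_of_words Ψ hk gens2 (by decide) (PP Ψ) ?_ words2 words2_inc
  · have e : words2.length = 128 := by decide +kernel
    rwa [e] at h
  · intro g hg
    simp only [gens2, List.mem_cons, List.not_mem_nil, or_false] at hg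
    rcases hg with rfl | rfl | rfl | rfl | rfl | rfl | rfl
    · rw [← a1_def]; exact hA (a1_mem Ψ)
    · rw [← a2_def]; exact hA (a2_mem Ψ)
    · rw [← c1_def]; exact hA (c1_mem Ψ)
    · rw [← c2_def]; exact hA (c2_mem Ψ)
    · rw [← b1_def]; exact hB (b1_mem' Ψ)
    · rw [← b2_def]; exact hB (b2_mem' Ψ)
    · rw [← tau_def]; exact hD (subset_closure (by simp))

theorem card_PP : Nat.card (PP Ψ) = 128 := le_antisymm (card_PP_le Ψ hk) (card_PP_ge Ψ hk)

theorem PP_index (hs : Function.Surjective Ψ) : ¬ 2 ∣ (PP Ψ).index := by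
  have h1 := Subgroup.card_mul_index (PP Ψ)
  rw [card_PP Ψ hk, card_G Ψ hk hs] at h1
  have : (PP Ψ).index = 392445 := by omega
  rw [this]
  norm_num

/-! ### the Sylow `3`-subgroup -/

omit hk in
/-- the Sylow `3`-subgroup -/
def P3 : Subgroup G := closure {zd1 Ψ, zdi Ψ}

theorem card_T_le : Nat.card (closure ({za1 Ψ, zai Ψ, ze Ψ} : Set G)) ≤ 27 := by
  have h3 : Nat.card (closure ({ze Ψ} : Set G)) ≤ 3 :=
    card_closure_singleton_cube_le (ze_cube Ψ hk)
  have h2 : Nat.card (closure ({zai Ψ, ze Ψ} : Set G)) ≤ 3 * 3 := by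
    refine (card_closure_insert_cube_le (zai_cube Ψ hk) ?_).trans (Nat.mul_le_mul_left _ h3)
    intro t ht
    rcases ht with rfl
    exact zai_ze Ψ hk
  have h1 : Nat.card (closure ({za1 Ψ, zai Ψ, ze Ψ} : Set G)) ≤ 3 * (3 * 3) := by
    refine (card_closure_insert_cube_le (za1_cube Ψ hk) ?_).trans (Nat.mul_le_mul_left _ h2)
    intro t ht
    rcases ht with rfl | rfl
    · exact za1_zai Ψ hk
    · exact za1_ze Ψ hk
  exact h1

theorem card_T1_le : Nat.card (closure ({zd1 Ψ, za1 Ψ, zai Ψ, ze Ψ} : Set G)) ≤ 81 := by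
  have ma1 : za1 Ψ ∈ closure ({za1 Ψ, zai Ψ, ze Ψ} : Set G) := subset_closure (by simp)
  have mai : zai Ψ ∈ closure ({za1 Ψ, zai Ψ, ze Ψ} : Set G) := subset_closure (by simp)
  have me : ze Ψ ∈ closure ({za1 Ψ, zai Ψ, ze Ψ} : Set G) := subset_closure (by simp)
  refine (card_closure_insert_le 3 (by norm_num) ?_ ?_).trans
    (Nat.mul_le_mul_left 3 (card_T_le Ψ hk))
  · rw [pow_succ, pow_two, zd1_cube Ψ hk]; exact mai
  · intro t ht
    rcases ht with rfl | rfl | rfl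
    · rw [conj_of_mul (za1_zd1 Ψ hk).symm]; exact ma1
    · rw [conj_of_mul (zai_zd1 Ψ hk).symm]; exact mai
    · rw [conj_of_mul (zd1_ze Ψ hk)]; exact mul_mem ma1 me

theorem card_T2_le :
    Nat.card (closure ({zdi Ψ, zd1 Ψ, za1 Ψ, zai Ψ, ze Ψ} : Set G)) ≤ 243 := by
  have md1 : zd1 Ψ ∈ closure ({zd1 Ψ, za1 Ψ, zai Ψ, ze Ψ} : Set G) := subset_closure (by simp)
  have ma1 : za1 Ψ ∈ closure ({zd1 Ψ, za1 Ψ, zai Ψ, ze Ψ} : Set G) := subset_closure (by simp)
  have mai : zai Ψ ∈ closure ({zd1 Ψ, za1 Ψ, zai Ψ, ze Ψ} : Set G) := subset_closure (by simp)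
  have me : ze Ψ ∈ closure ({zd1 Ψ, za1 Ψ, zai Ψ, ze Ψ} : Set G) := subset_closure (by simp)
  refine (card_closure_insert_le 3 (by norm_num) ?_ ?_).trans
    (Nat.mul_le_mul_left 3 (card_T1_le Ψ hk))
  · rw [pow_succ, pow_two, zdi_cube Ψ hk]; exact mul_mem ma1 ma1
  · intro t ht
    rcases ht with rfl | rfl | rfl | rfl
    · have h : zdi Ψ * zd1 Ψ = (za1 Ψ * zai Ψ * ze Ψ * ze Ψ)⁻¹ * zd1 Ψ * zdi Ψ := by
        have := zd1_zdi Ψ hk
        calc zdi Ψ * zd1 Ψ = (za1 Ψ * zai Ψ * ze Ψ * ze Ψ)⁻¹ *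
              (za1 Ψ * zai Ψ * ze Ψ * ze Ψ * zdi Ψ * zd1 Ψ) := by group
          _ = (za1 Ψ * zai Ψ * ze Ψ * ze Ψ)⁻¹ * (zd1 Ψ * zdi Ψ) := by rw [← this]
          _ = _ := by group
      rw [conj_of_mul h]
      exact mul_mem (inv_mem (mul_mem (mul_mem (mul_mem ma1 mai) me) me)) md1
    · rw [conj_of_mul (za1_zdi Ψ hk).symm]; exact ma1
    · rw [conj_of_mul (zai_zdi Ψ hk).symm]; exact mai
    · rw [conj_of_mul (zdi_ze Ψ hk)]; exact mul_mem mai me

theorem card_P3_le : Nat.card (P3 Ψ) ≤ 243 := by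
  refine (Subgroup.card_le_of_le ?_).trans (card_T2_le Ψ hk)
  unfold P3
  apply Subgroup.closure_mono
  intro x hx
  rcases hx with rfl | rfl
  · simp
  · simp

set_option maxRecDepth 100000 in
theorem card_P3_ge : 243 ≤ Nat.card (P3 Ψ) := by
  have h := card_ge_of_words Ψ hk gens3 (by decide) (P3 Ψ) ?_ words3 words3_inc
  · have e : words3.length = 243 := by decide +kernel
    rwa [e] at h
  · intro g hg
    simp only [gens3, List.mem_cons, List.not_mem_nil, or_false] at hg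
    rcases hg with rfl | rfl
    · rw [← zd1_def]; exact subset_closure (by simp)
    · rw [← zdi_def]; exact subset_closure (by simp)

theorem card_P3 : Nat.card (P3 Ψ) = 243 := le_antisymm (card_P3_le Ψ hk) (card_P3_ge Ψ hk)

theorem P3_index (hs : Function.Surjective Ψ) : ¬ 3 ∣ (P3 Ψ).index := by
  have h1 := Subgroup.card_mul_index (P3 Ψ)
  rw [card_P3 Ψ hk, card_G Ψ hk hs] at h1
  have : (P3 Ψ).index = 206720 := by omega
  rw [this]
  norm_num

end

/-! ### independence in the elementary abelian subgroup of order `27` -/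

/-- the word of `v ^ i * a1 ^ j * ai ^ k` -/
def iw (i j k : ℕ) : List ℕ :=
  (List.replicate i [0,1,2,2]).flatten ++ (List.replicate j 0 ++ List.replicate k 1)

theorem iw_check : ∀ i j k : Fin 3, psig (iw i j k) = psig [] →
    (i : ℕ) = 0 ∧ (j : ℕ) = 0 ∧ (k : ℕ) = 0 := by
  decide +kernel

theorem iw_wok : ∀ i j k : Fin 3, wok (iw i j k) = true := by
  decide +kernel

section
variable {G : Type*} [Group G] (Ψ : C3 →* G)

theorem za1_def : za1 Ψ = el Ψ [0] := by with_unfolding_all rfl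
theorem zai_def : zai Ψ = el Ψ [1] := by with_unfolding_all rfl
theorem ze_def : ze Ψ = el Ψ [2] := by with_unfolding_all rfl

theorem el_pow (w : List ℕ) (n : ℕ) : el Ψ w ^ n = el Ψ (List.replicate n w).flatten := by
  induction n with
  | zero => rw [pow_zero, List.replicate_zero, List.flatten_nil, el_nil]
  | succ n ih => rw [pow_succ', ih, el_mul, List.replicate_succ, List.flatten_cons]

theorem el_pow_single (l : ℕ) (n : ℕ) : el Ψ [l] ^ n = el Ψ (List.replicate n l) := by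
  induction n with
  | zero => rw [pow_zero, List.replicate_zero, el_nil]
  | succ n ih =>
    rw [pow_succ', ih, el_mul, List.replicate_succ]
    rfl

theorem iw_eq (i j k : ℕ) :
    (za1 Ψ * zai Ψ * ze Ψ * ze Ψ) ^ i * za1 Ψ ^ j * zai Ψ ^ k = el Ψ (iw i j k) := by
  rw [za1_def, zai_def, ze_def, el_mul, el_mul, el_mul, el_pow, el_pow_single, el_pow_single,
    mul_assoc, el_mul, el_mul]
  rfl

variable (hk : Ψ.ker = Subgroup.center C3)
include hk

theorem z_indep : ∀ i j k : ℕ, i < 3 → j < 3 → k < 3 →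
    (za1 Ψ * zai Ψ * ze Ψ * ze Ψ) ^ i * za1 Ψ ^ j * zai Ψ ^ k = 1 → i = 0 ∧ j = 0 ∧ k = 0 := by
  intro i j k hi hj hk' h
  rw [iw_eq, ← el_nil Ψ] at h
  exact iw_check ⟨i, hi⟩ ⟨j, hj⟩ ⟨k, hk'⟩
    (psig_of_el_eq Ψ hk (iw_wok ⟨i, hi⟩ ⟨j, hj⟩ ⟨k, hk'⟩) (by decide) h)

end

end Cfsg.Agent.Lib.Helper5.J3M
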