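import Mathlib
import Cfsg.Prelude.Def_KGroupFacts
import Cfsg.Agent.Lib.Helper5.StemA
import Cfsg.Agent.Lib.Helper5.StemJ

set_option autoImplicit false

/-! Kernels of stem extensions: a cyclic bound from a pair of commuting elements whose lifts never
commute, and the calculus of commutators of lifts. -/

namespace Cfsg.Agent.Lib.Helper5.Stem

universe u v

open scoped commutatorElement

/-- the kernel of a stem extension is generated by an element of order dividing the prime `q` as
soon as kernels of other prime orders do not occur and some pair of commuting elements never has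
commuting lifts in a stem extension with kernel of order `q` -/
theorem ker_cyclic_of_noncomm {G : Type v} [Group G] (q : ℕ) (x y : G)
    (hxy : x * y = y * x) (hyq : y ^ q = 1)
    (hoth : ∀ (p : ℕ), p.Prime → p ≠ q → ∀ (Γ : Type u) [Group Γ] [Finite Γ] (σ : Γ →* G),
      Cfsg.IsStemExtension σ → Nat.card σ.ker ≠ p)
    (hnc : ∀ (Γ : Type u) [Group Γ] [Finite Γ] (σ : Γ →* G), Cfsg.IsStemExtension σ →
      Nat.card σ.ker = q → ∀ X Y : Γ, σ X = x → σ Y = y → X * Y ≠ Y * X)
    {Γ : Type u} [Group Γ] [Finite Γ] (σ : Γ →* G) (hσ : Cfsg.IsStemExtension σ) :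
    ∃ c : σ.ker, c ^ q = 1 ∧ ∀ z : σ.ker, z ∈ Subgroup.zpowers c := by
  classical
  have hσ' := hσ
  obtain ⟨hsurj, hcen, hder⟩ := hσ
  obtain ⟨X, hX⟩ := hsurj x
  obtain ⟨Y, hY⟩ := hsurj y
  set c : Γ := X * Y * X⁻¹ * Y⁻¹ with hc
  have hcker : c ∈ σ.ker := by
    rw [MonoidHom.mem_ker, hc, map_mul, map_mul, map_mul, map_inv, map_inv, hX, hY, hxy]
    group
  have hccen : ∀ g : Γ, g * c = c * g := Subgroup.mem_center_iff.mp (hcen hcker)
  have hYqker : Y ^ q ∈ σ.ker := by
    rw [MonoidHom.mem_ker, map_pow, hY, hyq]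
  have hYqcen : ∀ g : Γ, g * Y ^ q = Y ^ q * g := Subgroup.mem_center_iff.mp (hcen hYqker)
  have hcq : c ^ q = 1 := by
    have h1 : X * Y * X⁻¹ = c * Y := by rw [hc]; group
    have h2 : X * Y ^ q * X⁻¹ = c ^ q * Y ^ q := by
      rw [← conj_pow, h1]
      have hcomm : Commute c Y := (hccen Y).symm
      exact hcomm.mul_pow q
    rw [hYqcen X, mul_inv_cancel_right] at h2
    have h3 : c ^ q * Y ^ q = 1 * Y ^ q := by rw [← h2, one_mul]
    exact mul_right_cancel h3
  letI : CommGroup σ.ker :=
    { (inferInstance : Group σ.ker) with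
      mul_comm := fun a b => Subtype.ext (by
        have := Subgroup.mem_center_iff.mp (hcen a.2) b.1
        show (a : Γ) * b = b * a
        exact this.symm) }
  set C : Subgroup σ.ker := Subgroup.zpowers ⟨c, hcker⟩ with hC
  have hCtop : C = ⊤ := by
    by_contra hne
    have hnt : Nat.card (σ.ker ⧸ C) ≠ 1 := by
      intro h1
      apply hne
      have : C.index = 1 := h1
      exact Subgroup.index_eq_one.mp this
    obtain ⟨p, hp, hpd⟩ := Nat.exists_prime_and_dvd hnt
    haveI : Fact p.Prime := ⟨hp⟩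
    obtain ⟨M₀, hM₀⟩ := exists_index_prime (K := σ.ker ⧸ C) p hpd
    set M : Subgroup σ.ker := M₀.comap (QuotientGroup.mk' C) with hM
    have hMidx : M.index = p := by
      rw [hM, Subgroup.index_comap_of_surjective _ (QuotientGroup.mk'_surjective C), hM₀]
    have hcM : (⟨c, hcker⟩ : σ.ker) ∈ M := by
      rw [hM, Subgroup.mem_comap]
      have : (QuotientGroup.mk' C) (⟨c, hcker⟩ : σ.ker) = 1 := by
        rw [QuotientGroup.mk'_apply, QuotientGroup.eq_one_iff]
        exact Subgroup.mem_zpowers _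
      rw [this]
      exact one_mem _
    obtain ⟨Γ', _, _, σ', π, hσ'', hqs, hπ, hπM, hcard⟩ := exists_stem_quot σ hσ' M
    rw [hMidx] at hcard
    by_cases hpq : p = q
    · rw [hpq] at hcard
      apply hnc Γ' σ' hσ'' hcard (π X) (π Y) (by rw [hπ, hX]) (by rw [hπ, hY])
      have h1 : π c = 1 := hπM c hcker hcM
      rw [hc, map_mul, map_mul, map_mul, map_inv, map_inv] at h1
      calc π X * π Y = (π X * π Y * (π X)⁻¹ * (π Y)⁻¹) * (π Y * π X) := by group
        _ = π Y * π X := by rw [h1, one_mul]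
    · exact hoth p hp hpq Γ' σ' hσ'' hcard
  refine ⟨⟨c, hcker⟩, ?_, ?_⟩
  · apply Subtype.ext
    show c ^ q = 1
    exact hcq
  · intro z
    have : z ∈ C := by rw [hCtop]; trivial
    exact this

end Cfsg.Agent.Lib.Helper5.Stem
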