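import Mathlib
import Cfsg.Agent.Lib.Helper5.StemQ
import Cfsg.Agent.Lib.Helper5.StemN

set_option autoImplicit false

/-! The splitting criterion for the Sylow `3`-subgroup of the third Janko group. -/

namespace Cfsg.Agent.Lib.Helper5.Stem

open Subgroup
open scoped commutatorElement

variable {Γ G : Type*} [Group Γ] [Group G] {σ : Γ →* G}

theorem zpow_eq_pow_lt_three {x : Γ} (h : x ^ 3 = 1) (i : ℤ) : ∃ n : ℕ, n < 3 ∧ x ^ i = x ^ n := by
  refine ⟨(i % 3).toNat, ?_, ?_⟩
  · have h3 : i % 3 < 3 := Int.emod_lt_of_pos _ (by norm_num)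
    have h0 : 0 ≤ i % 3 := Int.emod_nonneg _ (by norm_num)
    omega
  · have h0 : 0 ≤ i % 3 := Int.emod_nonneg _ (by norm_num)
    have e : x ^ i = x ^ (i % 3) := by
      conv_lhs => rw [← Int.emod_add_mul_ediv i 3]
      rw [zpow_add, zpow_mul]
      have : x ^ (3 : ℤ) = 1 := by exact_mod_cast h
      rw [this, one_zpow, mul_one]
    rw [e]
    conv_lhs => rw [← Int.toNat_of_nonneg h0]
    exact zpow_natCast x _

/-- lifts commute when the commutator of lifts is trivial -/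
theorem lifts_comm_of_bet (hs : Function.Surjective σ) (hcen : σ.ker ≤ center Γ) {g h : G}
    (hb : bet hs g h = 1) {X Y : Γ} (hX : σ X = g) (hY : σ Y = h) : X * Y = Y * X := by
  rw [← commutatorElement_eq_one_iff_mul_comm, ← bet_eq hs hcen, hX, hY]
  exact hb

theorem comm_inv_of_comm {x y : Γ} (h : x * y = y * x) : x⁻¹ * y = y * x⁻¹ := by
  calc x⁻¹ * y = x⁻¹ * (y * x) * x⁻¹ := by group
    _ = x⁻¹ * (x * y) * x⁻¹ := by rw [h]
    _ = y * x⁻¹ := by group

section j3
variable (hs : Function.Surjective σ) (hcen : σ.ker ≤ center Γ) (hk3 : ∀ κ ∈ σ.ker, κ ^ 3 = 1)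
include hs hcen hk3

/-- lifts of two commuting elements transformed by some element with determinant `-1` commute -/
theorem bet_eq_one_of_det {a1 ai b : G} (c_a1ai : a1 * ai = ai * a1)
    (rb_a1 : b * a1 * b⁻¹ = (a1 * ai)⁻¹) (rb_ai : b * ai * b⁻¹ = a1 * ai⁻¹) :
    bet hs a1 ai = 1 := by
  have Caa : Commute a1 ai := c_a1ai
  have C1 : Commute a1 (a1 * ai⁻¹) := (Commute.refl a1).mul_right Caa.inv_right
  have C2 : Commute ai (a1 * ai⁻¹) := Caa.symm.mul_right (Commute.refl ai).inv_right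
  have C3 : Commute (a1 * ai) (a1 * ai⁻¹) := C1.mul_left C2
  have e := bet_conj hs hcen b c_a1ai
  rw [rb_a1, rb_ai, bet_inv_left hs hcen C3.eq, bet_mul_left hs hcen C1.eq C2.eq,
    bet_mul_right hs hcen (Commute.refl a1).eq Caa.inv_right.eq,
    bet_mul_right hs hcen Caa.symm.eq (Commute.refl ai).inv_right.eq, bet_self,
    bet_inv_right hs hcen c_a1ai, bet_inv_right hs hcen (Commute.refl ai).eq, bet_self,
    bet_swap hs a1 ai, one_mul, inv_one, mul_one] at e
  -- e : (x⁻¹ * x⁻¹)⁻¹ = x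
  set x := bet hs a1 ai with hx
  have hxk : x ∈ σ.ker := bet_mem_ker hs c_a1ai
  have h1 : x * x = x := by
    rw [mul_inv_rev, inv_inv] at e
    exact e
  have : x * x = x * 1 := by rw [h1, mul_one]
  exact mul_left_cancel this

/-- the splitting criterion for the Sylow `3`-subgroup `⟨d1, di⟩` of order `3 ^ 5` of the third
Janko group: centre `⟨a1, ai⟩`, elements of order three `⟨a1, ai, e⟩`, normalised by `b` of order
eight (`c = b ^ 2`, `t = b ^ 4`). If the lifts of `a1` and `d1` commute, the kernel of exponent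
three meets the derived group of the preimage trivially. -/
theorem comm_comap_trivial_of_j3syl3 [Finite Γ] (a1 ai e d1 di b c t : G)
    (ha1 : a1 ^ 3 = 1) (hai : ai ^ 3 = 1) (he : e ^ 3 = 1)
    (c_a1ai : a1 * ai = ai * a1) (c_a1e : a1 * e = e * a1) (c_aie : ai * e = e * ai)
    (c_a1d1 : a1 * d1 = d1 * a1) (c_a1di : a1 * di = di * a1) (c_aid1 : ai * d1 = d1 * ai)
    (c_aidi : ai * di = di * ai)
    (r_d1e : ⁅d1, e⁆ = a1) (r_die : ⁅di, e⁆ = ai) (r_v : ⁅d1, di⁆ = a1 * ai * e * e)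
    (rc_a1 : c * a1 * c⁻¹ = ai⁻¹) (rc_d1 : c * d1 * c⁻¹ = di⁻¹) (rc_di : c * di * c⁻¹ = d1)
    (rb_a1 : b * a1 * b⁻¹ = (a1 * ai)⁻¹) (rb_ai : b * ai * b⁻¹ = a1 * ai⁻¹)
    (rb_e : b * e * b⁻¹ = e⁻¹)
    (rt_a1 : t * a1 * t⁻¹ = a1⁻¹) (rt_ai : t * ai * t⁻¹ = ai⁻¹) (rt_e : t * e * t⁻¹ = e)
    (indep : ∀ i j k : ℕ, i < 3 → j < 3 → k < 3 →
      (a1 * ai * e * e) ^ i * a1 ^ j * ai ^ k = 1 → i = 0 ∧ j = 0 ∧ k = 0)
    (H : ∃ X Y : Γ, σ X = a1 ∧ σ Y = d1 ∧ X * Y = Y * X) :
    ∀ w ∈ ⁅(closure ({d1, di} : Set G)).comap σ, (closure ({d1, di} : Set G)).comap σ⁆,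
      σ w = 1 → w = 1 := by
  -- values of the commutator pairing
  have b_aa : bet hs a1 ai = 1 := bet_eq_one_of_det hs hcen hk3 c_a1ai rb_a1 rb_ai
  have b_a1e : bet hs a1 e = 1 := bet_eq_one_of_inverted hs hcen hk3 c_a1e rt_a1 rt_e
  have b_aie : bet hs ai e = 1 := bet_eq_one_of_inverted hs hcen hk3 c_aie rt_ai rt_e
  have b_11 : bet hs a1 d1 = 1 := by
    obtain ⟨X, Y, hX, hY, hXY⟩ := H
    rw [← hX, ← hY, bet_eq hs hcen, commutatorElement_eq_one_iff_mul_comm]
    exact hXY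
  have b_ii : bet hs ai di = 1 := by
    have e1 := bet_conj hs hcen c c_a1d1
    rw [rc_a1, rc_d1, b_11, bet_inv_left hs hcen (comm_inv_of_comm c_aidi.symm).symm,
      bet_inv_right hs hcen c_aidi, inv_inv] at e1
    exact e1
  have b_sw : (bet hs ai d1)⁻¹ = bet hs a1 di := by
    have e1 := bet_conj hs hcen c c_a1di
    rw [rc_a1, rc_di, bet_inv_left hs hcen c_aid1] at e1
    exact e1
  -- lifts
  obtain ⟨D1, hD1⟩ := hs d1
  obtain ⟨Di, hDi⟩ := hs di
  obtain ⟨E, hE⟩ := hs e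
  set A1 : Γ := ⁅D1, E⁆ with hA1d
  set Ai : Γ := ⁅Di, E⁆ with hAid
  set V : Γ := ⁅D1, Di⁆ with hVd
  have hA1 : σ A1 = a1 := by rw [hA1d, map_commutatorElement, hD1, hE, r_d1e]
  have hAi : σ Ai = ai := by rw [hAid, map_commutatorElement, hDi, hE, r_die]
  have hV : σ V = a1 * ai * e * e := by rw [hVd, map_commutatorElement, hD1, hDi, r_v]
  have F1 : A1 * Ai = Ai * A1 := lifts_comm_of_bet hs hcen b_aa hA1 hAi
  have F2 : A1 * E = E * A1 := lifts_comm_of_bet hs hcen b_a1e hA1 hE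
  have F3 : Ai * E = E * Ai := lifts_comm_of_bet hs hcen b_aie hAi hE
  have F4 : A1 * D1 = D1 * A1 := lifts_comm_of_bet hs hcen b_11 hA1 hD1
  have F5 : Ai * Di = Di * Ai := lifts_comm_of_bet hs hcen b_ii hAi hDi
  -- the lift of v commutes with the lifts of a1, ai, e
  have Cae : Commute (a1 * ai) e := Commute.mul_left c_a1e c_aie
  have Caee : Commute (a1 * ai * e) e := Cae.mul_left (Commute.refl e)
  have b_ve : bet hs (a1 * ai * e * e) e = 1 := by
    rw [bet_mul_left hs hcen Caee.eq rfl, bet_mul_left hs hcen Cae.eq rfl,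
      bet_mul_left hs hcen c_a1e c_aie, b_a1e, b_aie, bet_self, one_mul, one_mul, one_mul]
  have Ca1 : Commute (a1 * ai) a1 := Commute.mul_left (Commute.refl a1) (Commute.symm c_a1ai)
  have Cea1 : Commute e a1 := Commute.symm c_a1e
  have b_va1 : bet hs (a1 * ai * e * e) a1 = 1 := by
    rw [bet_mul_left hs hcen (Ca1.mul_left Cea1).eq Cea1.eq,
      bet_mul_left hs hcen Ca1.eq Cea1.eq,
      bet_mul_left hs hcen rfl c_a1ai.symm, bet_self, bet_swap hs a1 ai, b_aa,
      bet_swap hs a1 e, b_a1e, inv_one, one_mul, one_mul, one_mul]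
  have Cai : Commute (a1 * ai) ai := Commute.mul_left c_a1ai (Commute.refl ai)
  have Ceai : Commute e ai := Commute.symm c_aie
  have b_vai : bet hs (a1 * ai * e * e) ai = 1 := by
    rw [bet_mul_left hs hcen (Cai.mul_left Ceai).eq Ceai.eq,
      bet_mul_left hs hcen Cai.eq Ceai.eq,
      bet_mul_left hs hcen c_a1ai rfl, bet_self, b_aa,
      bet_swap hs ai e, b_aie, inv_one, one_mul, one_mul, one_mul]
  have G1 : V * E = E * V := lifts_comm_of_bet hs hcen b_ve hV hE
  have G2 : V * A1 = A1 * V := lifts_comm_of_bet hs hcen b_va1 hV hA1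
  have G3 : V * Ai = Ai * V := lifts_comm_of_bet hs hcen b_vai hV hAi
  -- conjugation by the lift of e
  have hED1 : E * D1 * E⁻¹ = A1⁻¹ * D1 := by rw [hA1d, commutatorElement_def]; group
  have hEDi : E * Di * E⁻¹ = Ai⁻¹ * Di := by rw [hAid, commutatorElement_def]; group
  set κ₁ : Γ := ⁅A1⁻¹, Di⁆ with hκ₁
  set κ₂ : Γ := ⁅D1, Ai⁻¹⁆ with hκ₂
  have hκ₁b : κ₁ = (bet hs a1 di)⁻¹ := by
    rw [hκ₁, ← bet_eq hs hcen, map_inv, hA1, hDi, bet_inv_left hs hcen c_a1di]
  have hκ₂b : κ₂ = bet hs ai d1 := by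
    rw [hκ₂, ← bet_eq hs hcen, map_inv, hAi, hD1, bet_inv_right hs hcen c_aid1.symm,
      bet_swap hs ai d1, inv_inv]
  have hκ₁c : ∀ x : Γ, x * κ₁ = κ₁ * x := by
    apply Subgroup.mem_center_iff.mp
    apply hcen
    rw [hκ₁b]
    exact inv_mem (bet_mem_ker hs c_a1di)
  have hκ₂c : ∀ x : Γ, x * κ₂ = κ₂ * x := by
    apply Subgroup.mem_center_iff.mp
    apply hcen
    rw [hκ₂b]
    exact bet_mem_ker hs c_aid1
  have hHW : ⁅A1⁻¹ * D1, Ai⁻¹ * Di⁆ = κ₁ * κ₂ * ⁅D1, Di⁆ := by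
    apply comm_mul_mul_of_central hκ₁c hκ₂c
    · rw [hκ₁, commutatorElement_def]; group
    · rw [hκ₂, commutatorElement_def]; group
    · exact comm_inv_of_comm F4
    · exact comm_inv_of_comm F5
    · have : Commute A1 Ai := F1
      exact this.inv_inv.eq
    · exact comm_inv_of_comm G2.symm
  have hEVE : E * V * E⁻¹ = ⁅E * D1 * E⁻¹, E * Di * E⁻¹⁆ := by
    rw [hVd, commutatorElement_def, commutatorElement_def]; group
  have hEVE' : E * V * E⁻¹ = V := by rw [← G1]; group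
  rw [hEVE', hED1, hEDi, hHW, ← hVd] at hEVE
  have hκκ : κ₁ * κ₂ = 1 := by
    have : 1 * V = κ₁ * κ₂ * V := by rw [one_mul]; exact hEVE
    exact (mul_right_cancel this).symm
  have b_i1 : bet hs ai d1 = 1 := by
    rw [hκ₁b, hκ₂b, ← b_sw, inv_inv] at hκκ
    -- y * y = 1
    set y := bet hs ai d1 with hy
    have hyk : y ∈ σ.ker := bet_mem_ker hs c_aid1
    exact ker_eq_one_of_eq_inv hk3 hyk (eq_inv_of_mul_eq_one_left hκκ)
  have b_1i : bet hs a1 di = 1 := by rw [← b_sw, b_i1, inv_one]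
  have F6 : A1 * Di = Di * A1 := lifts_comm_of_bet hs hcen b_1i hA1 hDi
  have F7 : Ai * D1 = D1 * Ai := lifts_comm_of_bet hs hcen b_i1 hAi hD1
  -- orders
  have hA13 : A1 ^ 3 = 1 := lift_cube_of_inverted hs hcen hk3 rt_a1 ha1 A1 hA1
  have hAi3 : Ai ^ 3 = 1 := lift_cube_of_inverted hs hcen hk3 rt_ai hai Ai hAi
  have hE3 : E ^ 3 = 1 := lift_cube_of_inverted hs hcen hk3 rb_e he E hE
  set W : Γ := A1 * Ai * E * E with hWd
  have CA : Commute A1 Ai := F1
  have CAE : Commute (A1 * Ai) E := Commute.mul_left F2 F3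
  have CAEE : Commute (A1 * Ai * E) E := CAE.mul_left (Commute.refl E)
  have hW3 : W ^ 3 = 1 := by
    rw [hWd, CAEE.mul_pow, CAE.mul_pow, CA.mul_pow, hA13, hAi3, hE3, one_mul, one_mul, one_mul]
  set κ₀ : Γ := W⁻¹ * V with hκ₀
  have hκ₀k : κ₀ ∈ σ.ker := by
    rw [MonoidHom.mem_ker, hκ₀, map_mul, map_inv, hV, hWd, map_mul, map_mul, map_mul, hA1, hAi, hE,
      inv_mul_cancel]
  have hκ₀c : ∀ x : Γ, x * κ₀ = κ₀ * x := Subgroup.mem_center_iff.mp (hcen hκ₀k)
  have hVW : V = W * κ₀ := by rw [hκ₀]; group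
  have hV3 : V ^ 3 = 1 := by
    have hc : Commute W κ₀ := hκ₀c W
    rw [hVW, hc.mul_pow, hW3, hk3 κ₀ hκ₀k, one_mul]
  -- the complement of the kernel in the preimage of the group of elements of order three
  set L : Subgroup Γ := closure ({V, A1, Ai} : Set Γ) with hL
  have hVL : V ∈ L := subset_closure (by simp)
  have hA1L : A1 ∈ L := subset_closure (by simp)
  have hAiL : Ai ∈ L := subset_closure (by simp)
  have hLker : ∀ w ∈ L, σ w = 1 → w = 1 := by
    intro w hw hw1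
    obtain ⟨i, j, k, rfl⟩ := mem_closure_triple_comm G2 G3 F1 hw
    obtain ⟨n1, hn1, e1⟩ := zpow_eq_pow_lt_three hV3 i
    obtain ⟨n2, hn2, e2⟩ := zpow_eq_pow_lt_three hA13 j
    obtain ⟨n3, hn3, e3⟩ := zpow_eq_pow_lt_three hAi3 k
    rw [e1, e2, e3] at hw1 ⊢
    rw [map_mul, map_mul, map_pow, map_pow, map_pow, hV, hA1, hAi] at hw1
    obtain ⟨r1, r2, r3⟩ := indep n1 n2 n3 hn1 hn2 hn3 hw1
    rw [r1, r2, r3, pow_zero, pow_zero, pow_zero, one_mul, one_mul]
  -- conjugation of W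
  have hD1E : D1 * E * D1⁻¹ = A1 * E := by rw [hA1d, commutatorElement_def]; group
  have hDiE : Di * E * Di⁻¹ = Ai * E := by rw [hAid, commutatorElement_def]; group
  have hD1W : D1 * W * D1⁻¹ = A1 * A1 * W := by
    have e1 : D1 * A1 * D1⁻¹ = A1 := by rw [← F4]; group
    have e2 : D1 * Ai * D1⁻¹ = Ai := by rw [← F7]; group
    calc D1 * W * D1⁻¹
        = (D1 * A1 * D1⁻¹) * (D1 * Ai * D1⁻¹) * (D1 * E * D1⁻¹) * (D1 * E * D1⁻¹) := by
          rw [hWd]; group
      _ = A1 * Ai * (A1 * E) * (A1 * E) := by rw [e1, e2, hD1E]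
      _ = A1 * (Ai * A1) * (E * A1) * E := by group
      _ = A1 * (A1 * Ai) * (A1 * E) * E := by rw [← F1, ← F2]
      _ = A1 * A1 * (Ai * A1) * E * E := by group
      _ = A1 * A1 * (A1 * Ai) * E * E := by rw [← F1]
      _ = A1 * A1 * A1 * (Ai * E) * E := by group
      _ = A1 * A1 * A1 * (E * Ai) * E := by rw [F3]
      _ = A1 * A1 * (A1 * E) * Ai * E := by group
      _ = A1 * A1 * (E * A1) * Ai * E := by rw [F2]
      _ = A1 * A1 * E * (A1 * Ai) * E := by group
      _ = A1 * A1 * (E * (A1 * Ai)) * E := by group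
      _ = A1 * A1 * ((A1 * Ai) * E) * E := by rw [CAE.eq]
      _ = A1 * A1 * W := by rw [hWd]; group
  have hDiW : Di * W * Di⁻¹ = Ai * Ai * W := by
    have e1 : Di * A1 * Di⁻¹ = A1 := by rw [← F6]; group
    have e2 : Di * Ai * Di⁻¹ = Ai := by rw [← F5]; group
    have C1 : Commute (A1 * Ai) Ai := Commute.mul_left CA (Commute.refl Ai)
    have C2 : Commute (A1 * Ai) (Ai * Ai) := C1.mul_right C1
    calc Di * W * Di⁻¹
        = (Di * A1 * Di⁻¹) * (Di * Ai * Di⁻¹) * (Di * E * Di⁻¹) * (Di * E * Di⁻¹) := by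
          rw [hWd]; group
      _ = A1 * Ai * (Ai * E) * (Ai * E) := by rw [e1, e2, hDiE]
      _ = A1 * Ai * Ai * (E * Ai) * E := by group
      _ = A1 * Ai * Ai * (Ai * E) * E := by rw [← F3]
      _ = ((A1 * Ai) * (Ai * Ai)) * E * E := by group
      _ = ((Ai * Ai) * (A1 * Ai)) * E * E := by rw [C2.eq]
      _ = Ai * Ai * W := by rw [hWd]; group
  have hD1V : D1 * V * D1⁻¹ = A1 * A1 * V := by
    calc D1 * V * D1⁻¹ = D1 * W * (κ₀ * D1⁻¹) := by rw [hVW]; group
      _ = D1 * W * (D1⁻¹ * κ₀) := by rw [hκ₀c D1⁻¹]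
      _ = (D1 * W * D1⁻¹) * κ₀ := by group
      _ = A1 * A1 * (W * κ₀) := by rw [hD1W]; group
      _ = A1 * A1 * V := by rw [← hVW]
  have hDiV : Di * V * Di⁻¹ = Ai * Ai * V := by
    calc Di * V * Di⁻¹ = Di * W * (κ₀ * Di⁻¹) := by rw [hVW]; group
      _ = Di * W * (Di⁻¹ * κ₀) := by rw [hκ₀c Di⁻¹]
      _ = (Di * W * Di⁻¹) * κ₀ := by group
      _ = Ai * Ai * (W * κ₀) := by rw [hDiW]; group
      _ = Ai * Ai * V := by rw [← hVW]
  -- the generators of the preimage
  set S : Set Γ := ({D1, Di} : Set Γ) ∪ (σ.ker : Set Γ) with hS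
  have hN : ∀ s ∈ S, ∀ x ∈ L, s * x * s⁻¹ ∈ L := by
    intro s hs'
    apply conj_mem_closure_of_gens
    intro a ha
    rcases hs' with hs' | hs'
    · rcases hs' with rfl | hs'
      · rcases ha with rfl | rfl | ha
        · rw [hD1V]; exact mul_mem (mul_mem hA1L hA1L) hVL
        · have : s * A1 * s⁻¹ = A1 := by rw [← F4]; group
          rw [this]; exact hA1L
        · rw [Set.mem_singleton_iff] at ha
          subst ha
          have : s * Ai * s⁻¹ = Ai := by rw [← F7]; group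
          rw [this]; exact hAiL
      · rw [Set.mem_singleton_iff] at hs'
        subst hs'
        rcases ha with rfl | rfl | ha
        · rw [hDiV]; exact mul_mem (mul_mem hAiL hAiL) hVL
        · have : s * A1 * s⁻¹ = A1 := by rw [← F6]; group
          rw [this]; exact hA1L
        · rw [Set.mem_singleton_iff] at ha
          subst ha
          have : s * Ai * s⁻¹ = Ai := by rw [← F5]; group
          rw [this]; exact hAiL
    · have hsc : ∀ x : Γ, x * s = s * x := Subgroup.mem_center_iff.mp (hcen hs')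
      have : s * a * s⁻¹ = a := by rw [← hsc a]; group
      rw [this]
      exact subset_closure ha
  have hc : ∀ s ∈ S, ∀ s' ∈ S, ⁅s, s'⁆ ∈ L := by
    intro s hs' s' hs''
    rcases hs' with hs' | hs'
    · rcases hs'' with hs'' | hs''
      · rcases hs' with rfl | hs' <;> rcases hs'' with rfl | hs''
        · rw [commutatorElement_self]; exact one_mem _
        · rw [Set.mem_singleton_iff] at hs''
          subst hs''
          exact hVL
        · rw [Set.mem_singleton_iff] at hs'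
          subst hs'
          rw [← commutatorElement_inv]
          exact inv_mem hVL
        · rw [Set.mem_singleton_iff] at hs' hs''
          subst hs'
          subst hs''
          rw [commutatorElement_self]; exact one_mem _
      · have hsc : ∀ x : Γ, x * s' = s' * x := Subgroup.mem_center_iff.mp (hcen hs'')
        have : ⁅s, s'⁆ = 1 := by
          rw [commutatorElement_eq_one_iff_mul_comm]; exact hsc s
        rw [this]; exact one_mem _
    · have hsc : ∀ x : Γ, x * s = s * x := Subgroup.mem_center_iff.mp (hcen hs')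
      have : ⁅s, s'⁆ = 1 := by
        rw [commutatorElement_eq_one_iff_mul_comm]; exact (hsc s').symm
      rw [this]; exact one_mem _
  have hder := commutator_le_of_gens S L hN hc
  have hP : (closure ({d1, di} : Set G)).comap σ ≤ closure S := by
    apply comap_closure_le_of_lifts hs
    · intro x hx
      exact subset_closure (Or.inr hx)
    · intro y hy
      have key : ∀ Z : Γ, Z ∈ S → σ y = σ Z → y ∈ closure S := by
        intro Z hZ hyZ
        have hk : Z⁻¹ * y ∈ σ.ker := by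
          rw [MonoidHom.mem_ker, map_mul, map_inv, hyZ, inv_mul_cancel]
        have : y = Z * (Z⁻¹ * y) := by group
        rw [this]
        exact mul_mem (subset_closure hZ) (subset_closure (Or.inr hk))
      rcases hy with hy | hy
      · exact key D1 (Or.inl (by simp)) (by rw [hy, hD1])
      · rw [Set.mem_singleton_iff] at hy
        exact key Di (Or.inl (by simp)) (by rw [hy, hDi])
  intro w hw hw1
  exact hLker w (hder (Subgroup.commutator_mono hP hP hw)) hw1

end j3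

end Cfsg.Agent.Lib.Helper5.Stem
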