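import Mathlib
import Cfsg.Agent.Lib.Helper5.J3MD
import Cfsg.Agent.Lib.Helper5.StemA
import Cfsg.Agent.Lib.Helper5.StemI
import Cfsg.Agent.Lib.Helper5.StemJ
import Cfsg.Agent.Lib.Helper5.StemN
import Cfsg.Agent.Lib.Helper5.StemP
import Cfsg.Agent.Lib.Helper5.StemR
import Cfsg.Agent.Lib.helper3.StemTools2

set_option autoImplicit false

/-! Kernels of stem extensions of the third Janko group are cyclic of order dividing three. -/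

namespace Cfsg.Agent.Lib.Helper5.J3M

open Cfsg Cfsg.Agent.Lib.Lead.F4 Cfsg.Spor Cfsg.Agent.Lib.helper4
open Cfsg.Agent.Lib.Helper5.Stem Cfsg.Agent.Lib.helper3
open Subgroup
open scoped commutatorElement

section
variable {G : Type*} [Group G] (Ψ : C3 →* G)
variable (hk : Ψ.ker = Subgroup.center C3) (hs : Function.Surjective Ψ)
include hk hs

/-- no stem extension has a kernel of order two -/
theorem no_stem_two {Γ : Type*} [Group Γ] [Finite Γ] (σ : Γ →* G)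
    (hσ : Cfsg.IsStemExtension σ) (hcard : Nat.card σ.ker = 2) : False := by
  haveI : Finite G := finite_G Ψ hk hs
  obtain ⟨hsurj, hcen, hder⟩ := hσ
  obtain ⟨z, hK⟩ := ker2_of_card hcen hcard
  have hK' := hK
  obtain ⟨hz1, hz2, hσz, hw, hzc⟩ := hK
  have Qc : QInv σ (c1 Ψ) := by
    refine qinv_of_E8 hsurj hK' (c1 Ψ) (c2 Ψ) (a1 Ψ) (c1_sq Ψ hk) (c1_c2 Ψ hk)
      (a1_c1 Ψ hk).symm (a1_c2 Ψ hk).symm
      ⟨cj_c2 Ψ, conj_of_mul (cj_c2_conj Ψ hk)⟩ ⟨cj_a1 Ψ, conj_of_mul (cj_a1_conj Ψ hk)⟩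
      ⟨cj_c1c2 Ψ, conj_of_mul (cj_c1c2_conj Ψ hk)⟩ ⟨cj_a1c1 Ψ, ?_⟩ ⟨cj_a1c2 Ψ, ?_⟩
      ⟨cj_c1c2a1 Ψ, conj_of_mul (cj_c1c2a1_conj Ψ hk)⟩
    · rw [conj_of_mul (cj_a1c1_conj Ψ hk), a1_c1 Ψ hk]
    · rw [conj_of_mul (cj_a1c2_conj Ψ hk), a1_c2 Ψ hk]
  have qA : ∀ {h v : G}, h * c1 Ψ = v * h → QInv σ v := by
    intro h v hh
    have := qinv_conj hsurj Qc h
    rwa [conj_of_mul hh] at this
  have Q1 : QInv σ 1 := qinv_one hK'
  have Qa : QInv σ (a1 Ψ) := qA (cj_a1_conj Ψ hk)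
  have Qa2 : QInv σ (a2 Ψ) := qA (cj_a2_conj Ψ hk)
  have Qc2 : QInv σ (c2 Ψ) := qA (cj_c2_conj Ψ hk)
  have Qb1 : QInv σ (b1 Ψ) := qA (cj_b1_conj Ψ hk)
  have Qb2 : QInv σ (b2 Ψ) := qA (cj_b2_conj Ψ hk)
  have Qa1a2 : QInv σ (a1 Ψ * a2 Ψ) := qA (cj_a1a2_conj Ψ hk)
  have Qa1c1 : QInv σ (a1 Ψ * c1 Ψ) := qA (cj_a1c1_conj Ψ hk)
  have Qa1c2 : QInv σ (a1 Ψ * c2 Ψ) := qA (cj_a1c2_conj Ψ hk)
  have Qa2c1 : QInv σ (a2 Ψ * c1 Ψ) := qA (cj_a2c1_conj Ψ hk)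
  have Qa2c2 : QInv σ (a2 Ψ * c2 Ψ) := qA (cj_a2c2_conj Ψ hk)
  have Qc1c2 : QInv σ (c1 Ψ * c2 Ψ) := qA (cj_c1c2_conj Ψ hk)
  have Qb1b2 : QInv σ (b1 Ψ * b2 Ψ) := qA (cj_b1b2_conj Ψ hk)
  have Qb1c1 : QInv σ (b1 Ψ * c1 Ψ) := qA (cj_b1c1_conj Ψ hk)
  have Qb1c2 : QInv σ (b1 Ψ * c2 Ψ) := qA (cj_b1c2_conj Ψ hk)
  have Qb2c1 : QInv σ (b2 Ψ * c1 Ψ) := qA (cj_b2c1_conj Ψ hk)
  have Qb2c2 : QInv σ (b2 Ψ * c2 Ψ) := qA (cj_b2c2_conj Ψ hk)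
  have Qtau : QInv σ (tau Ψ) := qA (cj_tau_conj Ψ hk)
  have hSQ : ∀ a ∈ SE Ψ, QInv σ a := by
    intro a ha
    rcases mem_SE Ψ ha with rfl | rfl | rfl | rfl
    · exact Qa
    · exact Qa2
    · exact Qc
    · exact Qc2
  have hSQ' : ∀ a ∈ SE' Ψ, QInv σ a := by
    intro a ha
    rcases mem_SE' Ψ ha with rfl | rfl | rfl | rfl
    · exact Qb1
    · exact Qb2
    · exact Qc
    · exact Qc2
  have hSQ2 : ∀ a ∈ SE Ψ, ∀ b ∈ SE Ψ, QInv σ (a * b) := by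
    intro a ha b hb
    rcases mem_SE Ψ ha with rfl | rfl | rfl | rfl <;>
      rcases mem_SE Ψ hb with rfl | rfl | rfl | rfl
    · rw [a1_sq Ψ hk]; exact Q1
    · exact Qa1a2
    · exact Qa1c1
    · exact Qa1c2
    · rw [← a1_a2 Ψ hk]; exact Qa1a2
    · rw [a2_sq Ψ hk]; exact Q1
    · exact Qa2c1
    · exact Qa2c2
    · rw [← a1_c1 Ψ hk]; exact Qa1c1
    · rw [← a2_c1 Ψ hk]; exact Qa2c1
    · rw [c1_sq Ψ hk]; exact Q1
    · exact Qc1c2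
    · rw [← a1_c2 Ψ hk]; exact Qa1c2
    · rw [← a2_c2 Ψ hk]; exact Qa2c2
    · rw [← c1_c2 Ψ hk]; exact Qc1c2
    · rw [c2_sq Ψ hk]; exact Q1
  have hSQ2' : ∀ a ∈ SE' Ψ, ∀ b ∈ SE' Ψ, QInv σ (a * b) := by
    intro a ha b hb
    rcases mem_SE' Ψ ha with rfl | rfl | rfl | rfl <;>
      rcases mem_SE' Ψ hb with rfl | rfl | rfl | rfl
    · rw [b1_sq Ψ hk]; exact Q1
    · exact Qb1b2
    · exact Qb1c1
    · exact Qb1c2
    · rw [← b1_b2 Ψ hk]; exact Qb1b2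
    · rw [b2_sq Ψ hk]; exact Q1
    · exact Qb2c1
    · exact Qb2c2
    · rw [← b1_c1 Ψ hk]; exact Qb1c1
    · rw [← b2_c1 Ψ hk]; exact Qb2c1
    · rw [c1_sq Ψ hk]; exact Q1
    · exact Qc1c2
    · rw [← b1_c2 Ψ hk]; exact Qb1c2
    · rw [← b2_c2 Ψ hk]; exact Qb2c2
    · rw [← c1_c2 Ψ hk]; exact Qc1c2
    · rw [c2_sq Ψ hk]; exact Q1
  obtain ⟨T, hT⟩ := hsurj (tau Ψ)
  have hT2 : T * T = 1 := Qtau T hT
  set D₁ : Subgroup Γ := closure ({T} : Set Γ) with hD₁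
  have hmap : D₁.map σ = DD Ψ := by
    rw [hD₁, MonoidHom.map_closure, Set.image_singleton, hT]
    rfl
  have hD₁σ : ∀ x ∈ D₁, σ x ∈ DD Ψ := by
    intro x hx
    rw [← hmap]
    exact Subgroup.mem_map_of_mem σ hx
  have hDle : DD Ψ ≤ D₁.map σ := by rw [hmap]
  have hm : Nat.card D₁ ≤ 2 := card_closure_singleton_invol_le hT2
  have hS := comm_comap_trivial_of_special hsurj hK' (SE Ψ) (SE' Ψ) (SE_sq Ψ hk) (SE_comm Ψ hk)
    hSQ hSQ2 (SE'_sq Ψ hk) (SE'_comm Ψ hk) hSQ' hSQ2' (k Ψ) (k_cube Ψ hk) (k_SE Ψ hk)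
    (k_nrm Ψ hk) (k_SE' Ψ hk) (k_nrm' Ψ hk) (k1 Ψ) (k1_cube Ψ hk) (k_k1 Ψ hk) (k1_SE Ψ hk)
    (k1_nrm Ψ hk) (SE'_N Ψ hk) (DD Ψ) (DD_S Ψ hk) (DD_k Ψ hk) D₁ hD₁σ hDle 64 2
    (card_U_le Ψ hk) hm (PP Ψ) (le_refl _) (by rw [card_PP Ψ hk])
  haveI : Fact (Nat.Prime 2) := ⟨Nat.prime_two⟩
  have := stem_no_prime_of_subgroup σ hsurj hcen hder (PP Ψ) (PP_index Ψ hk hs) hS
    (MonoidHom.mem_ker.mpr hσz) (by rw [pow_two, hz2])
  exact hz1 this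

omit hs in
theorem inv_of_cube {g : G} (h : g * g * g = 1) : g⁻¹ = g * g := by
  rw [inv_eq_iff_mul_eq_one, ← h]; group

/-- in a stem extension with kernel of order three the lifts of `d1` and `a1` do not commute -/
theorem lifts_noncomm_three {Γ : Type*} [Group Γ] [Finite Γ] (σ : Γ →* G)
    (hσ : Cfsg.IsStemExtension σ) (hcard : Nat.card σ.ker = 3) :
    ∀ X Y : Γ, σ X = zd1 Ψ → σ Y = za1 Ψ → X * Y ≠ Y * X := by
  haveI : Finite G := finite_G Ψ hk hs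
  obtain ⟨hsurj, hcen, hder⟩ := hσ
  have hk3 : ∀ κ ∈ σ.ker, κ ^ 3 = 1 := by
    intro κ hκ
    have := pow_card_eq_one' (G := σ.ker) (x := ⟨κ, hκ⟩)
    rw [hcard] at this
    exact congrArg Subtype.val this
  intro X Y hX hY hcomm
  have ha1 : za1 Ψ ^ 3 = 1 := by rw [pow_succ, pow_two]; exact za1_cube Ψ hk
  have hai : zai Ψ ^ 3 = 1 := by rw [pow_succ, pow_two]; exact zai_cube Ψ hk
  have he : ze Ψ ^ 3 = 1 := by rw [pow_succ, pow_two]; exact ze_cube Ψ hk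
  have r_d1e : ⁅zd1 Ψ, ze Ψ⁆ = za1 Ψ := by
    rw [commutatorElement_def, conj_of_mul (zd1_ze Ψ hk)]; group
  have r_die : ⁅zdi Ψ, ze Ψ⁆ = zai Ψ := by
    rw [commutatorElement_def, conj_of_mul (zdi_ze Ψ hk)]; group
  have r_v : ⁅zd1 Ψ, zdi Ψ⁆ = za1 Ψ * zai Ψ * ze Ψ * ze Ψ := by
    rw [commutatorElement_def, conj_of_mul (zd1_zdi Ψ hk)]; group
  have rc_a1 : zc Ψ * za1 Ψ * (zc Ψ)⁻¹ = (zai Ψ)⁻¹ := by
    rw [conj_of_mul (zc_za1 Ψ hk), inv_of_cube Ψ hk (zai_cube Ψ hk)]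
  have rc_d1 : zc Ψ * zd1 Ψ * (zc Ψ)⁻¹ = (zdi Ψ)⁻¹ := by
    have h : zc Ψ * zd1 Ψ = (zdi Ψ)⁻¹ * zc Ψ := by
      calc zc Ψ * zd1 Ψ = (zdi Ψ)⁻¹ * (zdi Ψ * zc Ψ * zd1 Ψ) := by group
        _ = _ := by rw [zc_zd1 Ψ hk]
    exact conj_of_mul h
  have rc_di : zc Ψ * zdi Ψ * (zc Ψ)⁻¹ = zd1 Ψ := conj_of_mul (zc_zdi Ψ hk)
  have rb_a1 : zb Ψ * za1 Ψ * (zb Ψ)⁻¹ = (za1 Ψ * zai Ψ)⁻¹ := by
    have h : zb Ψ * za1 Ψ = (za1 Ψ * zai Ψ)⁻¹ * zb Ψ := by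
      calc zb Ψ * za1 Ψ = (za1 Ψ * zai Ψ)⁻¹ * (za1 Ψ * zai Ψ * zb Ψ * za1 Ψ) := by group
        _ = _ := by rw [zb_za1 Ψ hk]
    exact conj_of_mul h
  have rb_ai : zb Ψ * zai Ψ * (zb Ψ)⁻¹ = za1 Ψ * (zai Ψ)⁻¹ := by
    rw [conj_of_mul (zb_zai Ψ hk), inv_of_cube Ψ hk (zai_cube Ψ hk), mul_assoc]
  have rb_e : zb Ψ * ze Ψ * (zb Ψ)⁻¹ = (ze Ψ)⁻¹ := by
    have h : zb Ψ * ze Ψ = (ze Ψ)⁻¹ * zb Ψ := by
      calc zb Ψ * ze Ψ = (ze Ψ)⁻¹ * (ze Ψ * zb Ψ * ze Ψ) := by group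
        _ = _ := by rw [zb_ze Ψ hk]
    exact conj_of_mul h
  have rt_a1 : zt Ψ * za1 Ψ * (zt Ψ)⁻¹ = (za1 Ψ)⁻¹ := by
    have h : zt Ψ * za1 Ψ = (za1 Ψ)⁻¹ * zt Ψ := by
      calc zt Ψ * za1 Ψ = (za1 Ψ)⁻¹ * (za1 Ψ * zt Ψ * za1 Ψ) := by group
        _ = _ := by rw [zt_za1 Ψ hk]
    exact conj_of_mul h
  have rt_ai : zt Ψ * zai Ψ * (zt Ψ)⁻¹ = (zai Ψ)⁻¹ := by
    have h : zt Ψ * zai Ψ = (zai Ψ)⁻¹ * zt Ψ := by
      calc zt Ψ * zai Ψ = (zai Ψ)⁻¹ * (zai Ψ * zt Ψ * zai Ψ) := by group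
        _ = _ := by rw [zt_zai Ψ hk]
    exact conj_of_mul h
  have rt_e : zt Ψ * ze Ψ * (zt Ψ)⁻¹ = ze Ψ := conj_of_mul (zt_ze Ψ hk)
  have hS := comm_comap_trivial_of_j3syl3 hsurj hcen hk3 (za1 Ψ) (zai Ψ) (ze Ψ) (zd1 Ψ) (zdi Ψ)
    (zb Ψ) (zc Ψ) (zt Ψ) ha1 hai he (za1_zai Ψ hk) (za1_ze Ψ hk) (zai_ze Ψ hk) (za1_zd1 Ψ hk)
    (za1_zdi Ψ hk) (zai_zd1 Ψ hk) (zai_zdi Ψ hk) r_d1e r_die r_v rc_a1 rc_d1 rc_di rb_a1 rb_ai
    rb_e rt_a1 rt_ai rt_e (z_indep Ψ hk) ⟨Y, X, hY, hX, hcomm.symm⟩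
  haveI : Fact (Nat.Prime 3) := ⟨Nat.prime_three⟩
  have hall : ∀ z ∈ σ.ker, z = 1 := by
    intro z hz
    exact stem_no_prime_of_subgroup σ hsurj hcen hder (P3 Ψ) (P3_index Ψ hk hs) hS hz (hk3 z hz)
  have : Nat.card σ.ker = 1 := by
    rw [Nat.card_eq_one_iff_unique]
    refine ⟨⟨fun a b => ?_⟩, ⟨1⟩⟩
    apply Subtype.ext
    rw [hall a a.2, hall b b.2]
  omega

/-- no stem extension has a kernel of prime order other than three -/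
theorem no_stem_other (p : ℕ) (hpP : p.Prime) (hp3 : p ≠ 3) {Γ : Type*} [Group Γ] [Finite Γ]
    (σ : Γ →* G) (hσ : Cfsg.IsStemExtension σ) : Nat.card σ.ker ≠ p := by
  haveI : Finite G := finite_G Ψ hk hs
  intro hcardp
  by_cases hp2 : p = 2
  · subst hp2
    exact no_stem_two Ψ hk hs σ hσ hcardp
  have hσ' := hσ
  obtain ⟨hsurj, hcen, hder⟩ := hσ
  have hcard := card_G Ψ hk hs
  haveI : Fact p.Prime := ⟨hpP⟩
  obtain ⟨Rr⟩ : Nonempty (Sylow p G) := inferInstance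
  have hcyc : IsCyclic (Rr : Subgroup G) := by
    obtain ⟨j, hj⟩ := IsPGroup.iff_card.mp Rr.2
    have hdvd : p ^ j ∣ 50232960 := by
      rw [← hj, ← hcard]
      exact Subgroup.card_subgroup_dvd_card _
    have hj1 : j ≤ 1 := by
      by_contra hlt
      push Not at hlt
      have h2 : p ^ 2 ∣ 50232960 := dvd_trans (pow_dvd_pow p hlt) hdvd
      have e : (50232960 : ℕ) = 2 ^ 7 * 3 ^ 5 * 5 * 17 * 19 := by norm_num
      have hpd : p ∣ 2 ^ 7 * 3 ^ 5 * 5 * 17 * 19 := by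
        rw [← e]
        exact dvd_trans (dvd_pow_self p (by norm_num)) h2
      have hcases : p = 2 ∨ p = 3 ∨ p = 5 ∨ p = 17 ∨ p = 19 := by
        rcases (Nat.Prime.dvd_mul hpP).mp hpd with h | h
        · rcases (Nat.Prime.dvd_mul hpP).mp h with h | h
          · rcases (Nat.Prime.dvd_mul hpP).mp h with h | h
            · rcases (Nat.Prime.dvd_mul hpP).mp h with h | h
              · left
                exact (Nat.prime_dvd_prime_iff_eq hpP Nat.prime_two).mp (hpP.dvd_of_dvd_pow h)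
              · right; left
                exact (Nat.prime_dvd_prime_iff_eq hpP Nat.prime_three).mp
                  (hpP.dvd_of_dvd_pow h)
            · right; right; left
              exact (Nat.prime_dvd_prime_iff_eq hpP (by norm_num)).mp h
          · right; right; right; left
            exact (Nat.prime_dvd_prime_iff_eq hpP (by norm_num)).mp h
        · right; right; right; right
          exact (Nat.prime_dvd_prime_iff_eq hpP (by norm_num)).mp h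
      rcases hcases with rfl | rfl | rfl | rfl | rfl
      · exact hp2 rfl
      · exact hp3 rfl
      · revert h2; norm_num
      · revert h2; norm_num
      · revert h2; norm_num
    interval_cases j
    · rw [pow_zero] at hj
      haveI : Subsingleton (Rr : Subgroup G) :=
        (Nat.card_eq_one_iff_unique.mp hj).1
      exact isCyclic_of_subsingleton
    · rw [pow_one] at hj
      exact isCyclic_of_prime_card hj
  haveI := hcyc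
  have hind : ¬ p ∣ (Rr : Subgroup G).index := Sylow.not_dvd_index Rr
  have hall : ∀ z ∈ σ.ker, z = 1 := by
    intro z hz
    have hzp : z ^ p = 1 := by
      have := pow_card_eq_one' (G := σ.ker) (x := ⟨z, hz⟩)
      rw [hcardp] at this
      exact congrArg Subtype.val this
    refine stem_no_prime_of_subgroup σ hsurj hcen hder (Rr : Subgroup G) hind ?_
      hz hzp
    intro w hw _
    exact comm_comap_trivial_of_cyclic σ hcen (Rr : Subgroup G) w hw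
  have : Nat.card σ.ker = 1 := by
    rw [Nat.card_eq_one_iff_unique]
    refine ⟨⟨fun a b => ?_⟩, ⟨1⟩⟩
    apply Subtype.ext
    rw [hall a a.2, hall b b.2]
  rw [this] at hcardp
  exact hpP.one_lt.ne hcardp

end

universe u v

/-- the kernel of every finite stem extension is generated by an element of order dividing three -/
theorem j3_ker_cyclic {G : Type v} [Group G] (Ψ : C3 →* G)
    (hk : Ψ.ker = Subgroup.center C3) (hs : Function.Surjective Ψ)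
    {Γ : Type u} [Group Γ] [Finite Γ] (σ : Γ →* G) (hσ : Cfsg.IsStemExtension σ) :
    ∃ c : σ.ker, c ^ 3 = 1 ∧ ∀ z : σ.ker, z ∈ Subgroup.zpowers c := by
  refine ker_cyclic_of_noncomm.{u, v} 3 (zd1 Ψ) (za1 Ψ) (za1_zd1 Ψ hk).symm ?_ ?_ ?_ σ hσ
  · rw [pow_succ, pow_two]; exact za1_cube Ψ hk
  · intro p hp hp3 Γ' _ _ σ' hσ'
    exact no_stem_other Ψ hk hs p hp hp3 σ' hσ'
  · intro Γ' _ _ σ' hσ' hc
    exact lifts_noncomm_three Ψ hk hs σ' hσ' hc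

end Cfsg.Agent.Lib.Helper5.J3M
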