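import Cfsg.Agent.Lib.Helper5.L34BaseData
import Cfsg.Agent.Lib.helper23.PgX

set_option autoImplicit false
set_option maxRecDepth 1000000
set_option Elab.async false

/-! The projective special linear group of degree three over the field with four elements on 21 points: the checks of the stabiliser chain (generated). -/

namespace Cfsg.Agent.Lib.Helper5.L34M

open Cfsg.Agent.Lib.helper23 Subgroup MulAction

theorem lbchk0x4 : pgChkLvlW0 21 lbL4 [] = true := by decide +kernel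
theorem lbchk0x3 : pgChkLvlW0 21 lbL3 [lbL4] = true := by decide +kernel
theorem lbchk0x2 : pgChkLvlW0 21 lbL2 [lbL3, lbL4] = true := by decide +kernel
theorem lbchk0x1 : pgChkLvlW0 21 lbL1 [lbL2, lbL3, lbL4] = true := by decide +kernel

theorem lbcl4x0 : pgChkGenW 21 (List.range 21) lbL4 []
    (lbgen lbT4x0 lbI4x0) 0 21 = true := by
  decide +kernel
theorem lbcl4x1 : pgChkGenW 21 (List.range 21) lbL4 []
    (lbgen lbT4x1 lbI4x1) 0 21 = true := by
  decide +kernel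
theorem lbcl4x2 : pgChkGenW 21 (List.range 21) lbL4 []
    (lbgen lbT4x2 lbI4x2) 0 21 = true := by
  decide +kernel
theorem lbcl4x3 : pgChkGenW 21 (List.range 21) lbL4 []
    (lbgen lbT4x3 lbI4x3) 0 21 = true := by
  decide +kernel
theorem lbcl3x0 : pgChkGenW 21 (List.range 21) lbL3 [lbL4]
    (lbgen lbT3x0 lbI3x0) 0 21 = true := by
  decide +kernel
theorem lbcl3x1 : pgChkGenW 21 (List.range 21) lbL3 [lbL4]
    (lbgen lbT3x1 lbI3x1) 0 21 = true := by
  decide +kernel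
theorem lbcl3x2 : pgChkGenW 21 (List.range 21) lbL3 [lbL4]
    (lbgen lbT3x2 lbI3x2) 0 21 = true := by
  decide +kernel
theorem lbcl2x0 : pgChkGenW 21 (List.range 21) lbL2 [lbL3, lbL4]
    (lbgen lbT2x0 lbI2x0) 0 21 = true := by
  decide +kernel
theorem lbcl2x1 : pgChkGenW 21 (List.range 21) lbL2 [lbL3, lbL4]
    (lbgen lbT2x1 lbI2x1) 0 21 = true := by
  decide +kernel
theorem lbcl1x0 : pgChkGenW 21 (List.range 21) lbL1 [lbL2, lbL3, lbL4]
    (lbgen lbT1x0 lbI1x0) 0 21 = true := by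
  decide +kernel
theorem lbcl1x1 : pgChkGenW 21 (List.range 21) lbL1 [lbL2, lbL3, lbL4]
    (lbgen lbT1x1 lbI1x1) 0 21 = true := by
  decide +kernel
theorem lbcl1x2 : pgChkGenW 21 (List.range 21) lbL1 [lbL2, lbL3, lbL4]
    (lbgen lbT1x2 lbI1x2) 0 21 = true := by
  decide +kernel
theorem lbcl1x3 : pgChkGenW 21 (List.range 21) lbL1 [lbL2, lbL3, lbL4]
    (lbgen lbT1x3 lbI1x3) 0 21 = true := by
  decide +kernel
theorem lbcl1x4 : pgChkGenW 21 (List.range 21) lbL1 [lbL2, lbL3, lbL4]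
    (lbgen lbT1x4 lbI1x4) 0 21 = true := by
  decide +kernel
theorem lbcl1x5 : pgChkGenW 21 (List.range 21) lbL1 [lbL2, lbL3, lbL4]
    (lbgen lbT1x5 lbI1x5) 0 21 = true := by
  decide +kernel
theorem lbcl1x6 : pgChkGenW 21 (List.range 21) lbL1 [lbL2, lbL3, lbL4]
    (lbgen lbT1x6 lbI1x6) 0 21 = true := by
  decide +kernel
theorem lbcl1x7 : pgChkGenW 21 (List.range 21) lbL1 [lbL2, lbL3, lbL4]
    (lbgen lbT1x7 lbI1x7) 0 21 = true := by
  decide +kernel
theorem lbcl1x8 : pgChkGenW 21 (List.range 21) lbL1 [lbL2, lbL3, lbL4]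
    (lbgen lbT1x8 lbI1x8) 0 21 = true := by
  decide +kernel
theorem lbcl1x9 : pgChkGenW 21 (List.range 21) lbL1 [lbL2, lbL3, lbL4]
    (lbgen lbT1x9 lbI1x9) 0 21 = true := by
  decide +kernel
theorem lbcl1x10 : pgChkGenW 21 (List.range 21) lbL1 [lbL2, lbL3, lbL4]
    (lbgen lbT1x10 lbI1x10) 0 21 = true := by
  decide +kernel
theorem lbcl1x11 : pgChkGenW 21 (List.range 21) lbL1 [lbL2, lbL3, lbL4]
    (lbgen lbT1x11 lbI1x11) 0 21 = true := by
  decide +kernel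
theorem lbcl1x12 : pgChkGenW 21 (List.range 21) lbL1 [lbL2, lbL3, lbL4]
    (lbgen lbT1x12 lbI1x12) 0 21 = true := by
  decide +kernel
theorem lbcl1x13 : pgChkGenW 21 (List.range 21) lbL1 [lbL2, lbL3, lbL4]
    (lbgen lbT1x13 lbI1x13) 0 21 = true := by
  decide +kernel
theorem lbcl1x14 : pgChkGenW 21 (List.range 21) lbL1 [lbL2, lbL3, lbL4]
    (lbgen lbT1x14 lbI1x14) 0 21 = true := by
  decide +kernel
theorem lbcl1x15 : pgChkGenW 21 (List.range 21) lbL1 [lbL2, lbL3, lbL4]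
    (lbgen lbT1x15 lbI1x15) 0 21 = true := by
  decide +kernel
theorem lbcl1x16 : pgChkGenW 21 (List.range 21) lbL1 [lbL2, lbL3, lbL4]
    (lbgen lbT1x16 lbI1x16) 0 21 = true := by
  decide +kernel
theorem lbcl1x17 : pgChkGenW 21 (List.range 21) lbL1 [lbL2, lbL3, lbL4]
    (lbgen lbT1x17 lbI1x17) 0 21 = true := by
  decide +kernel

theorem lbchkL4 : pgChkLvlW 21 (List.range 21) lbL4 [] = true := by
  apply pgChkLvlW_ofAllX lbchk0x4
  intro s hs
  change s ∈ [lbgen lbT4x0 lbI4x0, lbgen lbT4x1 lbI4x1, lbgen lbT4x2 lbI4x2, lbgen lbT4x3 lbI4x3] at hs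
  simp only [List.mem_cons, List.not_mem_nil, or_false] at hs
  rcases hs with rfl | rfl | rfl | rfl
  · exact lbcl4x0
  · exact lbcl4x1
  · exact lbcl4x2
  · exact lbcl4x3

theorem lbchkL3 : pgChkLvlW 21 (List.range 21) lbL3 [lbL4] = true := by
  apply pgChkLvlW_ofAllX lbchk0x3
  intro s hs
  change s ∈ [lbgen lbT3x0 lbI3x0, lbgen lbT3x1 lbI3x1, lbgen lbT3x2 lbI3x2] at hs
  simp only [List.mem_cons, List.not_mem_nil, or_false] at hs
  rcases hs with rfl | rfl | rfl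
  · exact lbcl3x0
  · exact lbcl3x1
  · exact lbcl3x2

theorem lbchkL2 : pgChkLvlW 21 (List.range 21) lbL2 [lbL3, lbL4] = true := by
  apply pgChkLvlW_ofAllX lbchk0x2
  intro s hs
  change s ∈ [lbgen lbT2x0 lbI2x0, lbgen lbT2x1 lbI2x1] at hs
  simp only [List.mem_cons, List.not_mem_nil, or_false] at hs
  rcases hs with rfl | rfl
  · exact lbcl2x0
  · exact lbcl2x1

theorem lbchkL1 : pgChkLvlW 21 (List.range 21) lbL1 [lbL2, lbL3, lbL4] = true := by
  apply pgChkLvlW_ofAllX lbchk0x1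
  intro s hs
  change s ∈ [lbgen lbT1x0 lbI1x0, lbgen lbT1x1 lbI1x1, lbgen lbT1x2 lbI1x2, lbgen lbT1x3 lbI1x3, lbgen lbT1x4 lbI1x4, lbgen lbT1x5 lbI1x5, lbgen lbT1x6 lbI1x6, lbgen lbT1x7 lbI1x7, lbgen lbT1x8 lbI1x8, lbgen lbT1x9 lbI1x9, lbgen lbT1x10 lbI1x10, lbgen lbT1x11 lbI1x11, lbgen lbT1x12 lbI1x12, lbgen lbT1x13 lbI1x13, lbgen lbT1x14 lbI1x14, lbgen lbT1x15 lbI1x15, lbgen lbT1x16 lbI1x16, lbgen lbT1x17 lbI1x17] at hs
  simp only [List.mem_cons, List.not_mem_nil, or_false] at hs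
  rcases hs with rfl | rfl | rfl | rfl | rfl | rfl | rfl | rfl | rfl | rfl | rfl | rfl | rfl | rfl | rfl | rfl | rfl | rfl
  · exact lbcl1x0
  · exact lbcl1x1
  · exact lbcl1x2
  · exact lbcl1x3
  · exact lbcl1x4
  · exact lbcl1x5
  · exact lbcl1x6
  · exact lbcl1x7
  · exact lbcl1x8
  · exact lbcl1x9
  · exact lbcl1x10
  · exact lbcl1x11
  · exact lbcl1x12
  · exact lbcl1x13
  · exact lbcl1x14
  · exact lbcl1x15
  · exact lbcl1x16
  · exact lbcl1x17

/-- the stabiliser chain -/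
def lbC : List PgLvlW := [lbL1, lbL2, lbL3, lbL4]

theorem lbchkC : pgChkW 21 (pgRigidAll 21).base lbC = true := by
  change pgChkW 21 (List.range 21) [lbL1, lbL2, lbL3, lbL4] = true
  rw [pgChkW_cons, pgChkW_cons, pgChkW_cons, pgChkW_cons, lbchkL1, lbchkL2, lbchkL3, lbchkL4]
  rfl

end Cfsg.Agent.Lib.Helper5.L34M
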