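import Mathlib
import Cfsg.Agent.Lib.Helper5.CodedPerm
import Cfsg.Agent.Lib.Helper5.L34BaseChk

set_option autoImplicit false
set_option maxRecDepth 1000000

/-! The projective special linear group of degree three over the field with four elements as a group of permutations
of `Fin 21` (the vectors, coded by their bits), generated by the 63 transvections. -/

namespace Cfsg.Agent.Lib.Helper5.L34M

open Cfsg Cfsg.Agent.Lib.helper23 Cfsg.Agent.Lib.Helper5.CP Subgroup

theorem lbA : pgGrpW 21 lbC ≤ (pgRigidAll 21).A := le_top

theorem lbok : ∀ P ∈ lbL1.own, P.ok 21 = true :=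
  pgChkW_own_ok 21 (pgRigidAll 21).base lbC lbchkC

theorem lbord : pgOrdW 21 lbC = 20160 := by decide +kernel

/-- the group on 21 points -/
abbrev H21 : Subgroup (Equiv.Perm (Fin 21)) := closure (pgSet 21 lbL1.own)

/-- the group on 21 points, as a type -/
abbrev HG : Type := ↥H21

theorem H21_eq : H21 = pgGrpW 21 lbC := rfl

theorem card_HG : Nat.card HG = 20160 := by
  show Nat.card H21 = 20160
  rw [H21_eq, pgCardW (pgRigidAll 21) lbC lbchkC lbA, lbord]

instance : Finite HG := Nat.finite_of_card_ne_zero (by rw [card_HG]; norm_num)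

/-- a coded permutation represents an element -/
abbrev RepH (T : ℕ) (g : HG) : Prop := RepS lblk 21 H21 T g

/-- the generator of index `k` -/
noncomputable def tg (k : ℕ) : HG := ⟨(lbL1.own.getD k PFun.one).perm 21, pgGetD_mem k⟩

theorem rep_tg (k T I : ℕ) (h : lbL1.own.getD k PFun.one = lbgen T I) : RepH T (tg k) := by
  intro i
  show (((lbL1.own.getD k PFun.one).perm 21) i).1 = lblk T i.1
  rw [PFun.perm_apply (pgGetD_ok lbok k), h]
  rfl

end Cfsg.Agent.Lib.Helper5.L34M
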