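import Mathlib

set_option autoImplicit false

/-! Coded permutations of elements of the projective special linear group of degree three over the field with four elements (generated). -/

namespace Cfsg.Agent.Lib.Helper5.L34M

/-- the coded identity -/
def Uid : ℕ := 26128640051322339214200517265440

/-- a coded permutation -/
def Ul18 : ℕ := 23141048119787355267725621874080

/-- a coded permutation -/
def Ul19 : ℕ := 15316076390048329611320592875872

/-- a coded permutation -/
def Ul20 : ℕ := 19143795675985131158771358872960

/-- a coded permutation -/
def Ul21 : ℕ := 21060399617454095164932088729632

/-- a coded permutation -/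
def Ul22 : ℕ := 23590441890315200001782877129760

/-- a coded permutation -/
def Ul23 : ℕ := 18281022733292977308645317511200

/-- a coded permutation -/
def Ul24 : ℕ := 15495935232291735183697490577440

/-- a coded permutation -/
def Ul25 : ℕ := 21757584723171907415222360573984

/-- a coded permutation -/
def Ul26 : ℕ := 10549075263662953076707735734304

/-- a coded permutation -/
def Ug0 : ℕ := 18165010244599943896966968247360

/-- a coded permutation -/
def Ug1 : ℕ := 9400278997899911886209532628096

/-- a coded permutation -/
def Ug2 : ℕ := 21019472837743734926701886539808

/-- a coded permutation -/
def Ug3 : ℕ := 24897665690344530000893968484384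

/-- a coded permutation -/
def Ug4 : ℕ := 18281022733292977308645317511200

/-- a coded permutation -/
def Ug5 : ℕ := 9370670893098430876016636430368

/-- a coded permutation -/
def UaE : ℕ := 18165010244599943896966968247360

/-- a coded permutation -/
def UebE : ℕ := 9400278997899911886209532628096

/-- a coded permutation -/
def UecE : ℕ := 18281022733292977308645317511200

/-- a coded permutation -/
def UqEb : ℕ := 19316088998051373602120061193280

/-- a coded permutation -/
def UqEc : ℕ := 20809197305087287171242965541088

/-- a coded permutation -/
def UqEab : ℕ := 15593415805490641609365052821568

/-- a coded permutation -/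
def UqEac : ℕ := 21019472837743734926701886539808

/-- a coded permutation -/
def UqEbc : ℕ := 20379252130725098149573133912608

/-- a coded permutation -/
def UqEabc : ℕ := 20603092982630757739301945587072

/-- a coded permutation -/
def UqE0 : ℕ := 26128640051322339214200517265440

/-- a coded permutation -/
def UqE1 : ℕ := 19316088998051373602120061193280

/-- a coded permutation -/
def UqE2 : ℕ := 15826603539818205250883707771137

/-- a coded permutation -/
def UqE3 : ℕ := 10663037908544175613413346099777

/-- a coded permutation -/
def UqE01 : ℕ := 15593415805490641609365052821568

/-- a coded permutation -/
def UqE23 : ℕ := 11706701563748060938785418325409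

/-- a coded permutation -/
def Ux1 : ℕ := 20968748690205427690292357760064

/-- a coded permutation -/
def Uy1 : ℕ := 16776768159177314456006359583872

/-- a coded permutation -/
def Ux2 : ℕ := 15548738883092042093053649916000

/-- a coded permutation -/
def Uy2 : ℕ := 20655425605650589141156353870976

/-- a coded permutation -/
def Ua3 : ℕ := 17091284594330818846838126414880

/-- a coded permutation -/
def Ub3 : ℕ := 12179283854401909844155888442529

end Cfsg.Agent.Lib.Helper5.L34M
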