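import Mathlib
import Cfsg.Agent.Lib.Helper5.L34A
import Cfsg.Agent.Lib.Helper5.L34Data

set_option autoImplicit false

/-! Elements of the projective special linear group of degree three over the field with four elements given by words,
with their coded permutations (generated). -/

namespace Cfsg.Agent.Lib.Helper5.L34M

open Cfsg.Agent.Lib.helper23 Cfsg.Agent.Lib.Helper5.CP

/-- a generator -/
noncomputable def t0 : HG := tg 0

theorem rep_t0 : RepH lbT1x0 t0 := rep_tg 0 lbT1x0 lbI1x0 rfl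

/-- a generator -/
noncomputable def t1 : HG := tg 1

theorem rep_t1 : RepH lbT1x1 t1 := rep_tg 1 lbT1x1 lbI1x1 rfl

/-- a generator -/
noncomputable def t2 : HG := tg 2

theorem rep_t2 : RepH lbT1x2 t2 := rep_tg 2 lbT1x2 lbI1x2 rfl

/-- a generator -/
noncomputable def t3 : HG := tg 3

theorem rep_t3 : RepH lbT1x3 t3 := rep_tg 3 lbT1x3 lbI1x3 rfl

/-- a generator -/
noncomputable def t4 : HG := tg 4

theorem rep_t4 : RepH lbT1x4 t4 := rep_tg 4 lbT1x4 lbI1x4 rfl

/-- a generator -/
noncomputable def t5 : HG := tg 5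

theorem rep_t5 : RepH lbT1x5 t5 := rep_tg 5 lbT1x5 lbI1x5 rfl

/-- a generator -/
noncomputable def t6 : HG := tg 6

theorem rep_t6 : RepH lbT1x6 t6 := rep_tg 6 lbT1x6 lbI1x6 rfl

/-- a generator -/
noncomputable def t7 : HG := tg 7

theorem rep_t7 : RepH lbT1x7 t7 := rep_tg 7 lbT1x7 lbI1x7 rfl

/-- a generator -/
noncomputable def t8 : HG := tg 8

theorem rep_t8 : RepH lbT1x8 t8 := rep_tg 8 lbT1x8 lbI1x8 rfl

/-- a generator -/
noncomputable def t9 : HG := tg 9

theorem rep_t9 : RepH lbT1x9 t9 := rep_tg 9 lbT1x9 lbI1x9 rfl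

/-- a generator -/
noncomputable def t10 : HG := tg 10

theorem rep_t10 : RepH lbT1x10 t10 := rep_tg 10 lbT1x10 lbI1x10 rfl

/-- a generator -/
noncomputable def t11 : HG := tg 11

theorem rep_t11 : RepH lbT1x11 t11 := rep_tg 11 lbT1x11 lbI1x11 rfl

/-- a generator -/
noncomputable def t12 : HG := tg 12

theorem rep_t12 : RepH lbT1x12 t12 := rep_tg 12 lbT1x12 lbI1x12 rfl

/-- a generator -/
noncomputable def t13 : HG := tg 13

theorem rep_t13 : RepH lbT1x13 t13 := rep_tg 13 lbT1x13 lbI1x13 rfl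

/-- a generator -/
noncomputable def t14 : HG := tg 14

theorem rep_t14 : RepH lbT1x14 t14 := rep_tg 14 lbT1x14 lbI1x14 rfl

/-- a generator -/
noncomputable def t15 : HG := tg 15

theorem rep_t15 : RepH lbT1x15 t15 := rep_tg 15 lbT1x15 lbI1x15 rfl

/-- a generator -/
noncomputable def t16 : HG := tg 16

theorem rep_t16 : RepH lbT1x16 t16 := rep_tg 16 lbT1x16 lbI1x16 rfl

/-- a generator -/
noncomputable def t17 : HG := tg 17

theorem rep_t17 : RepH lbT1x17 t17 := rep_tg 17 lbT1x17 lbI1x17 rfl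

/-- an element given by a word -/
noncomputable def l18 : HG := [t8, t13, t2, t8, t3, t15, t14, t15, t12, t6].prod

theorem rep_l18 : RepH Ul18 l18 :=
  rep_word Ul18 [lbT1x8, lbT1x13, lbT1x2, lbT1x8, lbT1x3, lbT1x15, lbT1x14, lbT1x15, lbT1x12, lbT1x6] [t8, t13, t2, t8, t3, t15, t14, t15, t12, t6]
    (List.Forall₂.cons rep_t8 (List.Forall₂.cons rep_t13 (List.Forall₂.cons rep_t2 (List.Forall₂.cons rep_t8 (List.Forall₂.cons rep_t3 (List.Forall₂.cons rep_t15 (List.Forall₂.cons rep_t14 (List.Forall₂.cons rep_t15 (List.Forall₂.cons rep_t12 (List.Forall₂.cons rep_t6 List.Forall₂.nil))))))))))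
    (by decide +kernel)

/-- an element given by a word -/
noncomputable def l19 : HG := [t6, t12, t15, t14, t15, t3, t8, t2, t13, t8].prod

theorem rep_l19 : RepH Ul19 l19 :=
  rep_word Ul19 [lbT1x6, lbT1x12, lbT1x15, lbT1x14, lbT1x15, lbT1x3, lbT1x8, lbT1x2, lbT1x13, lbT1x8] [t6, t12, t15, t14, t15, t3, t8, t2, t13, t8]
    (List.Forall₂.cons rep_t6 (List.Forall₂.cons rep_t12 (List.Forall₂.cons rep_t15 (List.Forall₂.cons rep_t14 (List.Forall₂.cons rep_t15 (List.Forall₂.cons rep_t3 (List.Forall₂.cons rep_t8 (List.Forall₂.cons rep_t2 (List.Forall₂.cons rep_t13 (List.Forall₂.cons rep_t8 List.Forall₂.nil))))))))))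
    (by decide +kernel)

/-- an element given by a word -/
noncomputable def l20 : HG := [t8, t12, t15, t0, t12, t13, t0, t14, t8].prod

theorem rep_l20 : RepH Ul20 l20 :=
  rep_word Ul20 [lbT1x8, lbT1x12, lbT1x15, lbT1x0, lbT1x12, lbT1x13, lbT1x0, lbT1x14, lbT1x8] [t8, t12, t15, t0, t12, t13, t0, t14, t8]
    (List.Forall₂.cons rep_t8 (List.Forall₂.cons rep_t12 (List.Forall₂.cons rep_t15 (List.Forall₂.cons rep_t0 (List.Forall₂.cons rep_t12 (List.Forall₂.cons rep_t13 (List.Forall₂.cons rep_t0 (List.Forall₂.cons rep_t14 (List.Forall₂.cons rep_t8 List.Forall₂.nil)))))))))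
    (by decide +kernel)

/-- an element given by a word -/
noncomputable def l21 : HG := [l18, l18, t8, t14, t3, t10, t0, t0, t0, t17, t0, t12, t6].prod

theorem rep_l21 : RepH Ul21 l21 :=
  rep_word Ul21 [Ul18, Ul18, lbT1x8, lbT1x14, lbT1x3, lbT1x10, lbT1x0, lbT1x0, lbT1x0, lbT1x17, lbT1x0, lbT1x12, lbT1x6] [l18, l18, t8, t14, t3, t10, t0, t0, t0, t17, t0, t12, t6]
    (List.Forall₂.cons rep_l18 (List.Forall₂.cons rep_l18 (List.Forall₂.cons rep_t8 (List.Forall₂.cons rep_t14 (List.Forall₂.cons rep_t3 (List.Forall₂.cons rep_t10 (List.Forall₂.cons rep_t0 (List.Forall₂.cons rep_t0 (List.Forall₂.cons rep_t0 (List.Forall₂.cons rep_t17 (List.Forall₂.cons rep_t0 (List.Forall₂.cons rep_t12 (List.Forall₂.cons rep_t6 List.Forall₂.nil)))))))))))))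
    (by decide +kernel)

/-- an element given by a word -/
noncomputable def l22 : HG := [t6, t12, t0, t17, t0, t0, t0, t10, t3, t14, t8, l19, l19].prod

theorem rep_l22 : RepH Ul22 l22 :=
  rep_word Ul22 [lbT1x6, lbT1x12, lbT1x0, lbT1x17, lbT1x0, lbT1x0, lbT1x0, lbT1x10, lbT1x3, lbT1x14, lbT1x8, Ul19, Ul19] [t6, t12, t0, t17, t0, t0, t0, t10, t3, t14, t8, l19, l19]
    (List.Forall₂.cons rep_t6 (List.Forall₂.cons rep_t12 (List.Forall₂.cons rep_t0 (List.Forall₂.cons rep_t17 (List.Forall₂.cons rep_t0 (List.Forall₂.cons rep_t0 (List.Forall₂.cons rep_t0 (List.Forall₂.cons rep_t10 (List.Forall₂.cons rep_t3 (List.Forall₂.cons rep_t14 (List.Forall₂.cons rep_t8 (List.Forall₂.cons rep_l19 (List.Forall₂.cons rep_l19 List.Forall₂.nil)))))))))))))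
    (by decide +kernel)

/-- an element given by a word -/
noncomputable def l23 : HG := [l18, l22, t8, t12, t0, t16, t7, t14, t15, t17, t7, t11, t7, t7, t14, t9].prod

theorem rep_l23 : RepH Ul23 l23 :=
  rep_word Ul23 [Ul18, Ul22, lbT1x8, lbT1x12, lbT1x0, lbT1x16, lbT1x7, lbT1x14, lbT1x15, lbT1x17, lbT1x7, lbT1x11, lbT1x7, lbT1x7, lbT1x14, lbT1x9] [l18, l22, t8, t12, t0, t16, t7, t14, t15, t17, t7, t11, t7, t7, t14, t9]
    (List.Forall₂.cons rep_l18 (List.Forall₂.cons rep_l22 (List.Forall₂.cons rep_t8 (List.Forall₂.cons rep_t12 (List.Forall₂.cons rep_t0 (List.Forall₂.cons rep_t16 (List.Forall₂.cons rep_t7 (List.Forall₂.cons rep_t14 (List.Forall₂.cons rep_t15 (List.Forall₂.cons rep_t17 (List.Forall₂.cons rep_t7 (List.Forall₂.cons rep_t11 (List.Forall₂.cons rep_t7 (List.Forall₂.cons rep_t7 (List.Forall₂.cons rep_t14 (List.Forall₂.cons rep_t9 List.Forall₂.nil))))))))))))))))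
    (by decide +kernel)

/-- an element given by a word -/
noncomputable def l24 : HG := [l21, l19, l19, l21, t13, t13, t17, t3, t5, t9, t3].prod

theorem rep_l24 : RepH Ul24 l24 :=
  rep_word Ul24 [Ul21, Ul19, Ul19, Ul21, lbT1x13, lbT1x13, lbT1x17, lbT1x3, lbT1x5, lbT1x9, lbT1x3] [l21, l19, l19, l21, t13, t13, t17, t3, t5, t9, t3]
    (List.Forall₂.cons rep_l21 (List.Forall₂.cons rep_l19 (List.Forall₂.cons rep_l19 (List.Forall₂.cons rep_l21 (List.Forall₂.cons rep_t13 (List.Forall₂.cons rep_t13 (List.Forall₂.cons rep_t17 (List.Forall₂.cons rep_t3 (List.Forall₂.cons rep_t5 (List.Forall₂.cons rep_t9 (List.Forall₂.cons rep_t3 List.Forall₂.nil)))))))))))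
    (by decide +kernel)

/-- an element given by a word -/
noncomputable def l25 : HG := [l19, l22, t6, t14, t16, t13, t16, t6, t9, t9, t15, t16, t12, t1, t15].prod

theorem rep_l25 : RepH Ul25 l25 :=
  rep_word Ul25 [Ul19, Ul22, lbT1x6, lbT1x14, lbT1x16, lbT1x13, lbT1x16, lbT1x6, lbT1x9, lbT1x9, lbT1x15, lbT1x16, lbT1x12, lbT1x1, lbT1x15] [l19, l22, t6, t14, t16, t13, t16, t6, t9, t9, t15, t16, t12, t1, t15]
    (List.Forall₂.cons rep_l19 (List.Forall₂.cons rep_l22 (List.Forall₂.cons rep_t6 (List.Forall₂.cons rep_t14 (List.Forall₂.cons rep_t16 (List.Forall₂.cons rep_t13 (List.Forall₂.cons rep_t16 (List.Forall₂.cons rep_t6 (List.Forall₂.cons rep_t9 (List.Forall₂.cons rep_t9 (List.Forall₂.cons rep_t15 (List.Forall₂.cons rep_t16 (List.Forall₂.cons rep_t12 (List.Forall₂.cons rep_t1 (List.Forall₂.cons rep_t15 List.Forall₂.nil)))))))))))))))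
    (by decide +kernel)

/-- an element given by a word -/
noncomputable def l26 : HG := [l22, l18, l23, t12, l18, t12, t13, t5, t11, t17, t11, t2, t14, t16].prod

theorem rep_l26 : RepH Ul26 l26 :=
  rep_word Ul26 [Ul22, Ul18, Ul23, lbT1x12, Ul18, lbT1x12, lbT1x13, lbT1x5, lbT1x11, lbT1x17, lbT1x11, lbT1x2, lbT1x14, lbT1x16] [l22, l18, l23, t12, l18, t12, t13, t5, t11, t17, t11, t2, t14, t16]
    (List.Forall₂.cons rep_l22 (List.Forall₂.cons rep_l18 (List.Forall₂.cons rep_l23 (List.Forall₂.cons rep_t12 (List.Forall₂.cons rep_l18 (List.Forall₂.cons rep_t12 (List.Forall₂.cons rep_t13 (List.Forall₂.cons rep_t5 (List.Forall₂.cons rep_t11 (List.Forall₂.cons rep_t17 (List.Forall₂.cons rep_t11 (List.Forall₂.cons rep_t2 (List.Forall₂.cons rep_t14 (List.Forall₂.cons rep_t16 List.Forall₂.nil))))))))))))))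
    (by decide +kernel)

/-- an element given by a word -/
noncomputable def g0 : HG := [t0].prod

theorem rep_g0 : RepH Ug0 g0 :=
  rep_word Ug0 [lbT1x0] [t0]
    (List.Forall₂.cons rep_t0 List.Forall₂.nil)
    (by decide +kernel)

/-- an element given by a word -/
noncomputable def g1 : HG := [t1].prod

theorem rep_g1 : RepH Ug1 g1 :=
  rep_word Ug1 [lbT1x1] [t1]
    (List.Forall₂.cons rep_t1 List.Forall₂.nil)
    (by decide +kernel)

/-- an element given by a word -/
noncomputable def g2 : HG := [t9].prod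

theorem rep_g2 : RepH Ug2 g2 :=
  rep_word Ug2 [lbT1x9] [t9]
    (List.Forall₂.cons rep_t9 List.Forall₂.nil)
    (by decide +kernel)

/-- an element given by a word -/
noncomputable def g3 : HG := [t10].prod

theorem rep_g3 : RepH Ug3 g3 :=
  rep_word Ug3 [lbT1x10] [t10]
    (List.Forall₂.cons rep_t10 List.Forall₂.nil)
    (by decide +kernel)

/-- an element given by a word -/
noncomputable def g4 : HG := [t3].prod

theorem rep_g4 : RepH Ug4 g4 :=
  rep_word Ug4 [lbT1x3] [t3]
    (List.Forall₂.cons rep_t3 List.Forall₂.nil)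
    (by decide +kernel)

/-- an element given by a word -/
noncomputable def g5 : HG := [t4].prod

theorem rep_g5 : RepH Ug5 g5 :=
  rep_word Ug5 [lbT1x4] [t4]
    (List.Forall₂.cons rep_t4 List.Forall₂.nil)
    (by decide +kernel)

/-- an element given by a word -/
noncomputable def aE : HG := [g0].prod

theorem rep_aE : RepH UaE aE :=
  rep_word UaE [Ug0] [g0]
    (List.Forall₂.cons rep_g0 List.Forall₂.nil)
    (by decide +kernel)

/-- an element given by a word -/
noncomputable def ebE : HG := [g1].prod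

theorem rep_ebE : RepH UebE ebE :=
  rep_word UebE [Ug1] [g1]
    (List.Forall₂.cons rep_g1 List.Forall₂.nil)
    (by decide +kernel)

/-- an element given by a word -/
noncomputable def ecE : HG := [g4].prod

theorem rep_ecE : RepH UecE ecE :=
  rep_word UecE [Ug4] [g4]
    (List.Forall₂.cons rep_g4 List.Forall₂.nil)
    (by decide +kernel)

/-- an element given by a word -/
noncomputable def qEb : HG := [l20, l18, l24].prod

theorem rep_qEb : RepH UqEb qEb :=
  rep_word UqEb [Ul20, Ul18, Ul24] [l20, l18, l24]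
    (List.Forall₂.cons rep_l20 (List.Forall₂.cons rep_l18 (List.Forall₂.cons rep_l24 List.Forall₂.nil)))
    (by decide +kernel)

/-- an element given by a word -/
noncomputable def qEc : HG := [l22, l19, l22, l26, l25].prod

theorem rep_qEc : RepH UqEc qEc :=
  rep_word UqEc [Ul22, Ul19, Ul22, Ul26, Ul25] [l22, l19, l22, l26, l25]
    (List.Forall₂.cons rep_l22 (List.Forall₂.cons rep_l19 (List.Forall₂.cons rep_l22 (List.Forall₂.cons rep_l26 (List.Forall₂.cons rep_l25 List.Forall₂.nil)))))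
    (by decide +kernel)

/-- an element given by a word -/
noncomputable def qEab : HG := [l20, l18, l21, l26, l23].prod

theorem rep_qEab : RepH UqEab qEab :=
  rep_word UqEab [Ul20, Ul18, Ul21, Ul26, Ul23] [l20, l18, l21, l26, l23]
    (List.Forall₂.cons rep_l20 (List.Forall₂.cons rep_l18 (List.Forall₂.cons rep_l21 (List.Forall₂.cons rep_l26 (List.Forall₂.cons rep_l23 List.Forall₂.nil)))))
    (by decide +kernel)

/-- an element given by a word -/
noncomputable def qEac : HG := [l25, l24].prod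

theorem rep_qEac : RepH UqEac qEac :=
  rep_word UqEac [Ul25, Ul24] [l25, l24]
    (List.Forall₂.cons rep_l25 (List.Forall₂.cons rep_l24 List.Forall₂.nil))
    (by decide +kernel)

/-- an element given by a word -/
noncomputable def qEbc : HG := [l22, l18, l18, l22, l26, l24].prod

theorem rep_qEbc : RepH UqEbc qEbc :=
  rep_word UqEbc [Ul22, Ul18, Ul18, Ul22, Ul26, Ul24] [l22, l18, l18, l22, l26, l24]
    (List.Forall₂.cons rep_l22 (List.Forall₂.cons rep_l18 (List.Forall₂.cons rep_l18 (List.Forall₂.cons rep_l22 (List.Forall₂.cons rep_l26 (List.Forall₂.cons rep_l24 List.Forall₂.nil))))))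
    (by decide +kernel)

/-- an element given by a word -/
noncomputable def qEabc : HG := [l20, l25, l24].prod

theorem rep_qEabc : RepH UqEabc qEabc :=
  rep_word UqEabc [Ul20, Ul25, Ul24] [l20, l25, l24]
    (List.Forall₂.cons rep_l20 (List.Forall₂.cons rep_l25 (List.Forall₂.cons rep_l24 List.Forall₂.nil)))
    (by decide +kernel)

/-- an element given by a word -/
noncomputable def qE0 : HG := [].prod

theorem rep_qE0 : RepH UqE0 qE0 :=
  rep_word UqE0 [] []
    List.Forall₂.nil
    (by decide +kernel)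

/-- an element given by a word -/
noncomputable def qE1 : HG := [l20, l18, l24].prod

theorem rep_qE1 : RepH UqE1 qE1 :=
  rep_word UqE1 [Ul20, Ul18, Ul24] [l20, l18, l24]
    (List.Forall₂.cons rep_l20 (List.Forall₂.cons rep_l18 (List.Forall₂.cons rep_l24 List.Forall₂.nil)))
    (by decide +kernel)

/-- an element given by a word -/
noncomputable def qE2 : HG := [t0, t6, l22, l19, l22, l26, l25, l23].prod

theorem rep_qE2 : RepH UqE2 qE2 :=
  rep_word UqE2 [lbT1x0, lbT1x6, Ul22, Ul19, Ul22, Ul26, Ul25, Ul23] [t0, t6, l22, l19, l22, l26, l25, l23]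
    (List.Forall₂.cons rep_t0 (List.Forall₂.cons rep_t6 (List.Forall₂.cons rep_l22 (List.Forall₂.cons rep_l19 (List.Forall₂.cons rep_l22 (List.Forall₂.cons rep_l26 (List.Forall₂.cons rep_l25 (List.Forall₂.cons rep_l23 List.Forall₂.nil))))))))
    (by decide +kernel)

/-- an element given by a word -/
noncomputable def qE3 : HG := [t0, t6, l22, l18, l18, l22, l26, l25, l24].prod

theorem rep_qE3 : RepH UqE3 qE3 :=
  rep_word UqE3 [lbT1x0, lbT1x6, Ul22, Ul18, Ul18, Ul22, Ul26, Ul25, Ul24] [t0, t6, l22, l18, l18, l22, l26, l25, l24]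
    (List.Forall₂.cons rep_t0 (List.Forall₂.cons rep_t6 (List.Forall₂.cons rep_l22 (List.Forall₂.cons rep_l18 (List.Forall₂.cons rep_l18 (List.Forall₂.cons rep_l22 (List.Forall₂.cons rep_l26 (List.Forall₂.cons rep_l25 (List.Forall₂.cons rep_l24 List.Forall₂.nil)))))))))
    (by decide +kernel)

/-- an element given by a word -/
noncomputable def qE01 : HG := [l20, l18, l21, l26, l23].prod

theorem rep_qE01 : RepH UqE01 qE01 :=
  rep_word UqE01 [Ul20, Ul18, Ul21, Ul26, Ul23] [l20, l18, l21, l26, l23]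
    (List.Forall₂.cons rep_l20 (List.Forall₂.cons rep_l18 (List.Forall₂.cons rep_l21 (List.Forall₂.cons rep_l26 (List.Forall₂.cons rep_l23 List.Forall₂.nil)))))
    (by decide +kernel)

/-- an element given by a word -/
noncomputable def qE23 : HG := [t0, t6, l20, l25, l23].prod

theorem rep_qE23 : RepH UqE23 qE23 :=
  rep_word UqE23 [lbT1x0, lbT1x6, Ul20, Ul25, Ul23] [t0, t6, l20, l25, l23]
    (List.Forall₂.cons rep_t0 (List.Forall₂.cons rep_t6 (List.Forall₂.cons rep_l20 (List.Forall₂.cons rep_l25 (List.Forall₂.cons rep_l23 List.Forall₂.nil)))))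
    (by decide +kernel)

/-- an element given by a word -/
noncomputable def x1 : HG := [g0, g2].prod

theorem rep_x1 : RepH Ux1 x1 :=
  rep_word Ux1 [Ug0, Ug2] [g0, g2]
    (List.Forall₂.cons rep_g0 (List.Forall₂.cons rep_g2 List.Forall₂.nil))
    (by decide +kernel)

/-- an element given by a word -/
noncomputable def y1 : HG := [g1, g3].prod

theorem rep_y1 : RepH Uy1 y1 :=
  rep_word Uy1 [Ug1, Ug3] [g1, g3]
    (List.Forall₂.cons rep_g1 (List.Forall₂.cons rep_g3 List.Forall₂.nil))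
    (by decide +kernel)

/-- an element given by a word -/
noncomputable def x2 : HG := [g0, g1, g3].prod

theorem rep_x2 : RepH Ux2 x2 :=
  rep_word Ux2 [Ug0, Ug1, Ug3] [g0, g1, g3]
    (List.Forall₂.cons rep_g0 (List.Forall₂.cons rep_g1 (List.Forall₂.cons rep_g3 List.Forall₂.nil)))
    (by decide +kernel)

/-- an element given by a word -/
noncomputable def y2 : HG := [g1, g2].prod

theorem rep_y2 : RepH Uy2 y2 :=
  rep_word Uy2 [Ug1, Ug2] [g1, g2]
    (List.Forall₂.cons rep_g1 (List.Forall₂.cons rep_g2 List.Forall₂.nil))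
    (by decide +kernel)

/-- an element given by a word -/
noncomputable def a3 : HG := [l22, l24, l23].prod

theorem rep_a3 : RepH Ua3 a3 :=
  rep_word Ua3 [Ul22, Ul24, Ul23] [l22, l24, l23]
    (List.Forall₂.cons rep_l22 (List.Forall₂.cons rep_l24 (List.Forall₂.cons rep_l23 List.Forall₂.nil)))
    (by decide +kernel)

/-- an element given by a word -/
noncomputable def b3 : HG := [t0, t6, l26, l19, l25].prod

theorem rep_b3 : RepH Ub3 b3 :=
  rep_word Ub3 [lbT1x0, lbT1x6, Ul26, Ul19, Ul25] [t0, t6, l26, l19, l25]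
    (List.Forall₂.cons rep_t0 (List.Forall₂.cons rep_t6 (List.Forall₂.cons rep_l26 (List.Forall₂.cons rep_l19 (List.Forall₂.cons rep_l25 List.Forall₂.nil)))))
    (by decide +kernel)

attribute [irreducible] t0 t1 t2 t3 t4 t5 t6 t7 t8 t9 t10 t11 t12 t13 t14 t15 t16 t17 l18 l19 l20 l21 l22 l23 l24 l25 l26 g0 g1 g2 g3 g4 g5 aE ebE ecE qEb qEc qEab qEac qEbc qEabc qE0 qE1 qE2 qE3 qE01 qE23 x1 y1 x2 y2 a3 b3

end Cfsg.Agent.Lib.Helper5.L34M
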