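import Cfsg.Agent.Lib.helper23.PgK
import Cfsg.Agent.Lib.helper23.PgJ

set_option autoImplicit false
set_option maxRecDepth 100000

/-! The projective special linear group of degree three over the field with four elements on 21 points: data of the stabiliser chain (generated). -/

namespace Cfsg.Agent.Lib.Helper5.L34M

open Cfsg.Agent.Lib.helper23

/-- lookup in a packed table, 5 bits per entry -/
def lblk (T i : ℕ) : ℕ := Nat.land (Nat.shiftRight T (Nat.mul 5 i)) 31

/-- a generator from its table and the table of its inverse -/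
def lbgen (T T' : ℕ) : PFun := ⟨fun i => lblk T i, fun i => lblk T' i⟩

/-- the word of a point, from a list of pairs -/
def lbpath : List (ℕ × List ℕ) → ℕ → List ℕ
  | [], _ => []
  | (a, w) :: l, z => bif Nat.beq a z then w else lbpath l z

/-- level 1: orbit -/
def lbM1 : ℕ := 2097151

/-- level 1: words -/
def lbP1 : List (ℕ × List ℕ) := [(0, []), (1, [0, 6]), (2, [6]), (3, [7]), (4, [8]), (5, [3, 12]), (6, [12]), (7, [15, 0, 6]), (8, [12, 6]), (9, [12, 7]), (10, [12, 8]), (11, [13]), (12, [16, 0, 6]), (13, [13, 6]), (14, [13, 7]), (15, [13, 8]), (16, [14]), (17, [17, 0, 6]), (18, [14, 6]), (19, [14, 7]), (20, [14, 8])]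

/-- level 1: generator 0 -/
def lbT1x0 : ℕ := 18165010244599943896966968247360

/-- level 1: inverse of generator 0 -/
def lbI1x0 : ℕ := 18165010244599943896966968247360

/-- level 1: generator 1 -/
def lbT1x1 : ℕ := 9400278997899911886209532628096

/-- level 1: inverse of generator 1 -/
def lbI1x1 : ℕ := 9400278997899911886209532628096

/-- level 1: generator 2 -/
def lbT1x2 : ℕ := 10635511079626031631318202224736

/-- level 1: inverse of generator 2 -/
def lbI1x2 : ℕ := 10635511079626031631318202224736

/-- level 1: generator 3 -/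
def lbT1x3 : ℕ := 18281022733292977308645317511200

/-- level 1: inverse of generator 3 -/
def lbI1x3 : ℕ := 18281022733292977308645317511200

/-- level 1: generator 4 -/
def lbT1x4 : ℕ := 9370670893098430876016636430368

/-- level 1: inverse of generator 4 -/
def lbI1x4 : ℕ := 9370670893098430876016636430368

/-- level 1: generator 5 -/
def lbT1x5 : ℕ := 10549075263662953076707735734304

/-- level 1: inverse of generator 5 -/
def lbI1x5 : ℕ := 10549075263662953076707735734304

/-- level 1: generator 6 -/
def lbT1x6 : ℕ := 24898130033452254196356174970914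

/-- level 1: inverse of generator 6 -/
def lbI1x6 : ℕ := 24898130033452254196356174970914

/-- level 1: generator 7 -/
def lbT1x7 : ℕ := 23476976034924767628722767400995

/-- level 1: inverse of generator 7 -/
def lbI1x7 : ℕ := 23476976034924767628722767400995

/-- level 1: generator 8 -/
def lbT1x8 : ℕ := 21019666192635567271317770144804

/-- level 1: inverse of generator 8 -/
def lbI1x8 : ℕ := 21019666192635567271317770144804

/-- level 1: generator 9 -/
def lbT1x9 : ℕ := 21019472837743734926701886539808

/-- level 1: inverse of generator 9 -/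
def lbI1x9 : ℕ := 21019472837743734926701886539808

/-- level 1: generator 10 -/
def lbT1x10 : ℕ := 24897665690344530000893968484384

/-- level 1: inverse of generator 10 -/
def lbI1x10 : ℕ := 24897665690344530000893968484384

/-- level 1: generator 11 -/
def lbT1x11 : ℕ := 23476589221008106679109052106784

/-- level 1: inverse of generator 11 -/
def lbI1x11 : ℕ := 23476589221008106679109052106784

/-- level 1: generator 12 -/
def lbT1x12 : ℕ := 19586121094052264418198648299558

/-- level 1: inverse of generator 12 -/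
def lbI1x12 : ℕ := 19586121094052264418198648299558

/-- level 1: generator 13 -/
def lbT1x13 : ℕ := 13043601317856702177264560190507

/-- level 1: inverse of generator 13 -/
def lbI1x13 : ℕ := 13043601317856702177264560190507

/-- level 1: generator 14 -/
def lbT1x14 : ℕ := 5192578569132614978869016512560

/-- level 1: inverse of generator 14 -/
def lbI1x14 : ℕ := 5192578569132614978869016512560

/-- level 1: generator 15 -/
def lbT1x15 : ℕ := 5443706305080852740365938532576

/-- level 1: inverse of generator 15 -/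
def lbI1x15 : ℕ := 5443706305080852740365938532576

/-- level 1: generator 16 -/
def lbT1x16 : ℕ := 19143795675985131158771358872960

/-- level 1: inverse of generator 16 -/
def lbI1x16 : ℕ := 19143795675985131158771358872960

/-- level 1: generator 17 -/
def lbT1x17 : ℕ := 13233637222250662197074142218784

/-- level 1: inverse of generator 17 -/
def lbI1x17 : ℕ := 13233637222250662197074142218784

/-- level 1 -/
def lbL1 : PgLvlW := ⟨0, pgBit lbM1, lbpath lbP1, [lbgen lbT1x0 lbI1x0, lbgen lbT1x1 lbI1x1, lbgen lbT1x2 lbI1x2, lbgen lbT1x3 lbI1x3, lbgen lbT1x4 lbI1x4, lbgen lbT1x5 lbI1x5, lbgen lbT1x6 lbI1x6, lbgen lbT1x7 lbI1x7, lbgen lbT1x8 lbI1x8, lbgen lbT1x9 lbI1x9, lbgen lbT1x10 lbI1x10, lbgen lbT1x11 lbI1x11, lbgen lbT1x12 lbI1x12, lbgen lbT1x13 lbI1x13, lbgen lbT1x14 lbI1x14, lbgen lbT1x15 lbI1x15, lbgen lbT1x16 lbI1x16, lbgen lbT1x17 lbI1x17], [[24, 18, 33, 21, 12, 6], [25, 19, 6]]⟩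

/-- level 2: orbit -/
def lbM2 : ℕ := 2097150

/-- level 2: words -/
def lbP2 : List (ℕ × List ℕ) := [(1, []), (2, [1]), (3, [3]), (4, [2, 1, 0]), (5, [0, 1]), (6, [0]), (7, [2]), (8, [2, 1]), (9, [1, 2, 1]), (10, [2, 3, 2]), (11, [1, 0]), (12, [3, 2, 1]), (13, [3, 2, 3]), (14, [2, 3]), (15, [1, 0, 1, 0]), (16, [3, 0]), (17, [1, 2, 3]), (18, [1, 2]), (19, [3, 2]), (20, [0, 1, 0])]

/-- level 2: generator 0 -/
def lbT2x0 : ℕ := 5568620038578667685938892117184

/-- level 2: inverse of generator 0 -/
def lbI2x0 : ℕ := 14363164606361387597694199341280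

/-- level 2: generator 1 -/
def lbT2x1 : ℕ := 19316088998051373602120061193280

/-- level 2: inverse of generator 1 -/
def lbI2x1 : ℕ := 13398780713701001107161598723168

/-- level 2 -/
def lbL2 : PgLvlW := ⟨1, pgBit lbM2, lbpath lbP2, [lbgen lbT2x0 lbI2x0, lbgen lbT2x1 lbI2x1], [[1, 0, 1, 0, 3, 2, 3], [3, 0, 1, 0, 3, 2], [2, 3, 2, 3, 0, 1, 2, 1]]⟩

/-- level 3: orbit -/
def lbM3 : ℕ := 28

/-- level 3: words -/
def lbP3 : List (ℕ × List ℕ) := [(2, []), (3, [0]), (4, [1])]

/-- level 3: generator 0 -/
def lbT3x0 : ℕ := 9087004095249755744512700976160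

/-- level 3: inverse of generator 0 -/
def lbI3x0 : ℕ := 18355571846346816260907058925600

/-- level 3: generator 1 -/
def lbT3x1 : ℕ := 9553430336693281989868840357920

/-- level 3: inverse of generator 1 -/
def lbI3x1 : ℕ := 10392015105071402767956142328864

/-- level 3: generator 2 -/
def lbT3x2 : ℕ := 7027291537588849360487336478752

/-- level 3: inverse of generator 2 -/
def lbI3x2 : ℕ := 7027291537588849360487336478752

/-- level 3 -/
def lbL3 : PgLvlW := ⟨2, pgBit lbM3, lbpath lbP3, [lbgen lbT3x0 lbI3x0, lbgen lbT3x1 lbI3x1, lbgen lbT3x2 lbI3x2], [[3, 3, 1], [3, 2, 0], [3, 4], [5]]⟩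

/-- level 4: orbit -/
def lbM4 : ℕ := 2097120

/-- level 4: words -/
def lbP4 : List (ℕ × List ℕ) := [(5, []), (6, [0]), (7, [3, 2, 0]), (8, [3, 2]), (9, [1]), (10, [3, 2, 1, 0]), (11, [2]), (12, [3, 2, 1]), (13, [3, 1]), (14, [3, 0]), (15, [2, 1, 0]), (16, [2, 0]), (17, [1, 0]), (18, [2, 1]), (19, [3, 1, 0]), (20, [3])]

/-- level 4: generator 0 -/
def lbT4x0 : ℕ := 18281022733292977308645317511200

/-- level 4: inverse of generator 0 -/
def lbI4x0 : ℕ := 18281022733292977308645317511200

/-- level 4: generator 1 -/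
def lbT4x1 : ℕ := 17047923156285532318929489332256

/-- level 4: inverse of generator 1 -/
def lbI4x1 : ℕ := 17047923156285532318929489332256

/-- level 4: generator 2 -/
def lbT4x2 : ℕ := 10549075263662953076707735734304

/-- level 4: inverse of generator 2 -/
def lbI4x2 : ℕ := 10549075263662953076707735734304

/-- level 4: generator 3 -/
def lbT4x3 : ℕ := 7027291537588849360487336478752

/-- level 4: inverse of generator 3 -/
def lbI4x3 : ℕ := 7027291537588849360487336478752

/-- level 4 -/
def lbL4 : PgLvlW := ⟨5, pgBit lbM4, lbpath lbP4, [lbgen lbT4x0 lbI4x0, lbgen lbT4x1 lbI4x1, lbgen lbT4x2 lbI4x2, lbgen lbT4x3 lbI4x3], []⟩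

end Cfsg.Agent.Lib.Helper5.L34M
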