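import Mathlib
import Cfsg.Agent.Lib.Helper5.L34B

set_option autoImplicit false

/-! Relations between elements of the projective special linear group of degree three over the field with four elements,
checked on coded permutations (generated). -/

namespace Cfsg.Agent.Lib.Helper5.L34M

open Cfsg.Agent.Lib.helper23 Cfsg.Agent.Lib.Helper5.CP

theorem aE_sq : aE * aE = 1 := by
  have h := eq_of_chk (look := lblk) (n := 21) (H := H21) [UaE, UaE] [] [aE, aE] []
    (List.Forall₂.cons rep_aE (List.Forall₂.cons rep_aE List.Forall₂.nil))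
    List.Forall₂.nil
    (by decide +kernel)
  simpa only [List.prod_cons, List.prod_nil, mul_one, mul_assoc] using h

theorem aE_eb : aE * ebE = ebE * aE := by
  have h := eq_of_chk (look := lblk) (n := 21) (H := H21) [UaE, UebE] [UebE, UaE] [aE, ebE] [ebE, aE]
    (List.Forall₂.cons rep_aE (List.Forall₂.cons rep_ebE List.Forall₂.nil))
    (List.Forall₂.cons rep_ebE (List.Forall₂.cons rep_aE List.Forall₂.nil))
    (by decide +kernel)
  simpa only [List.prod_cons, List.prod_nil, mul_one, mul_assoc] using h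

theorem aE_ec : aE * ecE = ecE * aE := by
  have h := eq_of_chk (look := lblk) (n := 21) (H := H21) [UaE, UecE] [UecE, UaE] [aE, ecE] [ecE, aE]
    (List.Forall₂.cons rep_aE (List.Forall₂.cons rep_ecE List.Forall₂.nil))
    (List.Forall₂.cons rep_ecE (List.Forall₂.cons rep_aE List.Forall₂.nil))
    (by decide +kernel)
  simpa only [List.prod_cons, List.prod_nil, mul_one, mul_assoc] using h

theorem ebE_ec : ebE * ecE = ecE * ebE := by
  have h := eq_of_chk (look := lblk) (n := 21) (H := H21) [UebE, UecE] [UecE, UebE] [ebE, ecE] [ecE, ebE]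
    (List.Forall₂.cons rep_ebE (List.Forall₂.cons rep_ecE List.Forall₂.nil))
    (List.Forall₂.cons rep_ecE (List.Forall₂.cons rep_ebE List.Forall₂.nil))
    (by decide +kernel)
  simpa only [List.prod_cons, List.prod_nil, mul_one, mul_assoc] using h

theorem qEb_conj : qEb * aE = ebE * qEb := by
  have h := eq_of_chk (look := lblk) (n := 21) (H := H21) [UqEb, UaE] [UebE, UqEb] [qEb, aE] [ebE, qEb]
    (List.Forall₂.cons rep_qEb (List.Forall₂.cons rep_aE List.Forall₂.nil))
    (List.Forall₂.cons rep_ebE (List.Forall₂.cons rep_qEb List.Forall₂.nil))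
    (by decide +kernel)
  simpa only [List.prod_cons, List.prod_nil, mul_one, mul_assoc] using h

theorem qEc_conj : qEc * aE = ecE * qEc := by
  have h := eq_of_chk (look := lblk) (n := 21) (H := H21) [UqEc, UaE] [UecE, UqEc] [qEc, aE] [ecE, qEc]
    (List.Forall₂.cons rep_qEc (List.Forall₂.cons rep_aE List.Forall₂.nil))
    (List.Forall₂.cons rep_ecE (List.Forall₂.cons rep_qEc List.Forall₂.nil))
    (by decide +kernel)
  simpa only [List.prod_cons, List.prod_nil, mul_one, mul_assoc] using h

theorem qEab_conj : qEab * aE = (aE * ebE) * qEab := by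
  have h := eq_of_chk (look := lblk) (n := 21) (H := H21) [UqEab, UaE] [UaE, UebE, UqEab] [qEab, aE] [aE, ebE, qEab]
    (List.Forall₂.cons rep_qEab (List.Forall₂.cons rep_aE List.Forall₂.nil))
    (List.Forall₂.cons rep_aE (List.Forall₂.cons rep_ebE (List.Forall₂.cons rep_qEab List.Forall₂.nil)))
    (by decide +kernel)
  simpa only [List.prod_cons, List.prod_nil, mul_one, mul_assoc] using h

theorem qEac_conj : qEac * aE = (aE * ecE) * qEac := by
  have h := eq_of_chk (look := lblk) (n := 21) (H := H21) [UqEac, UaE] [UaE, UecE, UqEac] [qEac, aE] [aE, ecE, qEac]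
    (List.Forall₂.cons rep_qEac (List.Forall₂.cons rep_aE List.Forall₂.nil))
    (List.Forall₂.cons rep_aE (List.Forall₂.cons rep_ecE (List.Forall₂.cons rep_qEac List.Forall₂.nil)))
    (by decide +kernel)
  simpa only [List.prod_cons, List.prod_nil, mul_one, mul_assoc] using h

theorem qEbc_conj : qEbc * aE = (ebE * ecE) * qEbc := by
  have h := eq_of_chk (look := lblk) (n := 21) (H := H21) [UqEbc, UaE] [UebE, UecE, UqEbc] [qEbc, aE] [ebE, ecE, qEbc]
    (List.Forall₂.cons rep_qEbc (List.Forall₂.cons rep_aE List.Forall₂.nil))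
    (List.Forall₂.cons rep_ebE (List.Forall₂.cons rep_ecE (List.Forall₂.cons rep_qEbc List.Forall₂.nil)))
    (by decide +kernel)
  simpa only [List.prod_cons, List.prod_nil, mul_one, mul_assoc] using h

theorem qEabc_conj : qEabc * aE = (aE * ebE * ecE) * qEabc := by
  have h := eq_of_chk (look := lblk) (n := 21) (H := H21) [UqEabc, UaE] [UaE, UebE, UecE, UqEabc] [qEabc, aE] [aE, ebE, ecE, qEabc]
    (List.Forall₂.cons rep_qEabc (List.Forall₂.cons rep_aE List.Forall₂.nil))
    (List.Forall₂.cons rep_aE (List.Forall₂.cons rep_ebE (List.Forall₂.cons rep_ecE (List.Forall₂.cons rep_qEabc List.Forall₂.nil))))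
    (by decide +kernel)
  simpa only [List.prod_cons, List.prod_nil, mul_one, mul_assoc] using h

theorem qE0_conj : qE0 * aE = g0 * qE0 := by
  have h := eq_of_chk (look := lblk) (n := 21) (H := H21) [UqE0, UaE] [Ug0, UqE0] [qE0, aE] [g0, qE0]
    (List.Forall₂.cons rep_qE0 (List.Forall₂.cons rep_aE List.Forall₂.nil))
    (List.Forall₂.cons rep_g0 (List.Forall₂.cons rep_qE0 List.Forall₂.nil))
    (by decide +kernel)
  simpa only [List.prod_cons, List.prod_nil, mul_one, mul_assoc] using h

theorem qE1_conj : qE1 * aE = g1 * qE1 := by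
  have h := eq_of_chk (look := lblk) (n := 21) (H := H21) [UqE1, UaE] [Ug1, UqE1] [qE1, aE] [g1, qE1]
    (List.Forall₂.cons rep_qE1 (List.Forall₂.cons rep_aE List.Forall₂.nil))
    (List.Forall₂.cons rep_g1 (List.Forall₂.cons rep_qE1 List.Forall₂.nil))
    (by decide +kernel)
  simpa only [List.prod_cons, List.prod_nil, mul_one, mul_assoc] using h

theorem qE2_conj : qE2 * aE = g2 * qE2 := by
  have h := eq_of_chk (look := lblk) (n := 21) (H := H21) [UqE2, UaE] [Ug2, UqE2] [qE2, aE] [g2, qE2]
    (List.Forall₂.cons rep_qE2 (List.Forall₂.cons rep_aE List.Forall₂.nil))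
    (List.Forall₂.cons rep_g2 (List.Forall₂.cons rep_qE2 List.Forall₂.nil))
    (by decide +kernel)
  simpa only [List.prod_cons, List.prod_nil, mul_one, mul_assoc] using h

theorem qE3_conj : qE3 * aE = g3 * qE3 := by
  have h := eq_of_chk (look := lblk) (n := 21) (H := H21) [UqE3, UaE] [Ug3, UqE3] [qE3, aE] [g3, qE3]
    (List.Forall₂.cons rep_qE3 (List.Forall₂.cons rep_aE List.Forall₂.nil))
    (List.Forall₂.cons rep_g3 (List.Forall₂.cons rep_qE3 List.Forall₂.nil))
    (by decide +kernel)
  simpa only [List.prod_cons, List.prod_nil, mul_one, mul_assoc] using h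

theorem qE01_conj : qE01 * aE = (g0 * g1) * qE01 := by
  have h := eq_of_chk (look := lblk) (n := 21) (H := H21) [UqE01, UaE] [Ug0, Ug1, UqE01] [qE01, aE] [g0, g1, qE01]
    (List.Forall₂.cons rep_qE01 (List.Forall₂.cons rep_aE List.Forall₂.nil))
    (List.Forall₂.cons rep_g0 (List.Forall₂.cons rep_g1 (List.Forall₂.cons rep_qE01 List.Forall₂.nil)))
    (by decide +kernel)
  simpa only [List.prod_cons, List.prod_nil, mul_one, mul_assoc] using h

theorem qE23_conj : qE23 * aE = (g2 * g3) * qE23 := by
  have h := eq_of_chk (look := lblk) (n := 21) (H := H21) [UqE23, UaE] [Ug2, Ug3, UqE23] [qE23, aE] [g2, g3, qE23]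
    (List.Forall₂.cons rep_qE23 (List.Forall₂.cons rep_aE List.Forall₂.nil))
    (List.Forall₂.cons rep_g2 (List.Forall₂.cons rep_g3 (List.Forall₂.cons rep_qE23 List.Forall₂.nil)))
    (by decide +kernel)
  simpa only [List.prod_cons, List.prod_nil, mul_one, mul_assoc] using h

theorem x1_def : x1 = g0 * g2 := by
  have h := eq_of_chk (look := lblk) (n := 21) (H := H21) [Ux1] [Ug0, Ug2] [x1] [g0, g2]
    (List.Forall₂.cons rep_x1 List.Forall₂.nil)
    (List.Forall₂.cons rep_g0 (List.Forall₂.cons rep_g2 List.Forall₂.nil))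
    (by decide +kernel)
  simpa only [List.prod_cons, List.prod_nil, mul_one, mul_assoc] using h

theorem y1_def : y1 = g1 * g3 := by
  have h := eq_of_chk (look := lblk) (n := 21) (H := H21) [Uy1] [Ug1, Ug3] [y1] [g1, g3]
    (List.Forall₂.cons rep_y1 List.Forall₂.nil)
    (List.Forall₂.cons rep_g1 (List.Forall₂.cons rep_g3 List.Forall₂.nil))
    (by decide +kernel)
  simpa only [List.prod_cons, List.prod_nil, mul_one, mul_assoc] using h

theorem x2_def : x2 = g0 * (g1 * g3) := by
  have h := eq_of_chk (look := lblk) (n := 21) (H := H21) [Ux2] [Ug0, Ug1, Ug3] [x2] [g0, g1, g3]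
    (List.Forall₂.cons rep_x2 List.Forall₂.nil)
    (List.Forall₂.cons rep_g0 (List.Forall₂.cons rep_g1 (List.Forall₂.cons rep_g3 List.Forall₂.nil)))
    (by decide +kernel)
  simpa only [List.prod_cons, List.prod_nil, mul_one, mul_assoc] using h

theorem y2_def : y2 = g1 * g2 := by
  have h := eq_of_chk (look := lblk) (n := 21) (H := H21) [Uy2] [Ug1, Ug2] [y2] [g1, g2]
    (List.Forall₂.cons rep_y2 List.Forall₂.nil)
    (List.Forall₂.cons rep_g1 (List.Forall₂.cons rep_g2 List.Forall₂.nil))
    (by decide +kernel)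
  simpa only [List.prod_cons, List.prod_nil, mul_one, mul_assoc] using h

theorem x1_y1 : x1 * y1 = y1 * x1 := by
  have h := eq_of_chk (look := lblk) (n := 21) (H := H21) [Ux1, Uy1] [Uy1, Ux1] [x1, y1] [y1, x1]
    (List.Forall₂.cons rep_x1 (List.Forall₂.cons rep_y1 List.Forall₂.nil))
    (List.Forall₂.cons rep_y1 (List.Forall₂.cons rep_x1 List.Forall₂.nil))
    (by decide +kernel)
  simpa only [List.prod_cons, List.prod_nil, mul_one, mul_assoc] using h

theorem x2_y2 : x2 * y2 = y2 * x2 := by
  have h := eq_of_chk (look := lblk) (n := 21) (H := H21) [Ux2, Uy2] [Uy2, Ux2] [x2, y2] [y2, x2]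
    (List.Forall₂.cons rep_x2 (List.Forall₂.cons rep_y2 List.Forall₂.nil))
    (List.Forall₂.cons rep_y2 (List.Forall₂.cons rep_x2 List.Forall₂.nil))
    (by decide +kernel)
  simpa only [List.prod_cons, List.prod_nil, mul_one, mul_assoc] using h

theorem y1_four : y1 * (y1 * (y1 * y1)) = 1 := by
  have h := eq_of_chk (look := lblk) (n := 21) (H := H21) [Uy1, Uy1, Uy1, Uy1] [] [y1, y1, y1, y1] []
    (List.Forall₂.cons rep_y1 (List.Forall₂.cons rep_y1 (List.Forall₂.cons rep_y1 (List.Forall₂.cons rep_y1 List.Forall₂.nil))))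
    List.Forall₂.nil
    (by decide +kernel)
  simpa only [List.prod_cons, List.prod_nil, mul_one, mul_assoc] using h

theorem y2_four : y2 * (y2 * (y2 * y2)) = 1 := by
  have h := eq_of_chk (look := lblk) (n := 21) (H := H21) [Uy2, Uy2, Uy2, Uy2] [] [y2, y2, y2, y2] []
    (List.Forall₂.cons rep_y2 (List.Forall₂.cons rep_y2 (List.Forall₂.cons rep_y2 (List.Forall₂.cons rep_y2 List.Forall₂.nil))))
    List.Forall₂.nil
    (by decide +kernel)
  simpa only [List.prod_cons, List.prod_nil, mul_one, mul_assoc] using h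

theorem a3_cube : a3 * a3 * a3 = 1 := by
  have h := eq_of_chk (look := lblk) (n := 21) (H := H21) [Ua3, Ua3, Ua3] [] [a3, a3, a3] []
    (List.Forall₂.cons rep_a3 (List.Forall₂.cons rep_a3 (List.Forall₂.cons rep_a3 List.Forall₂.nil)))
    List.Forall₂.nil
    (by decide +kernel)
  simpa only [List.prod_cons, List.prod_nil, mul_one, mul_assoc] using h

theorem b3_cube : b3 * b3 * b3 = 1 := by
  have h := eq_of_chk (look := lblk) (n := 21) (H := H21) [Ub3, Ub3, Ub3] [] [b3, b3, b3] []
    (List.Forall₂.cons rep_b3 (List.Forall₂.cons rep_b3 (List.Forall₂.cons rep_b3 List.Forall₂.nil)))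
    List.Forall₂.nil
    (by decide +kernel)
  simpa only [List.prod_cons, List.prod_nil, mul_one, mul_assoc] using h

theorem a3_b3 : a3 * b3 = b3 * a3 := by
  have h := eq_of_chk (look := lblk) (n := 21) (H := H21) [Ua3, Ub3] [Ub3, Ua3] [a3, b3] [b3, a3]
    (List.Forall₂.cons rep_a3 (List.Forall₂.cons rep_b3 List.Forall₂.nil))
    (List.Forall₂.cons rep_b3 (List.Forall₂.cons rep_a3 List.Forall₂.nil))
    (by decide +kernel)
  simpa only [List.prod_cons, List.prod_nil, mul_one, mul_assoc] using h

end Cfsg.Agent.Lib.Helper5.L34M
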