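import Cfsg.Agent.Lib.Helper5.L34CovData
import Cfsg.Agent.Lib.helper23.PgX

set_option autoImplicit false
set_option maxRecDepth 1000000
set_option Elab.async false

/-! The full covering group of the projective special linear group of degree three over the field with four elements on 532 points: the checks of the stabiliser chain (generated). -/

namespace Cfsg.Agent.Lib.Helper5.L34Cov

open Cfsg.Agent.Lib.helper23 Subgroup MulAction

theorem lcchk0x7 : pgChkLvlW0 532 lcL7 [] = true := by decide +kernel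
theorem lcchk0x6 : pgChkLvlW0 532 lcL6 [lcL7] = true := by decide +kernel
theorem lcchk0x5 : pgChkLvlW0 532 lcL5 [lcL6, lcL7] = true := by decide +kernel
theorem lcchk0x4 : pgChkLvlW0 532 lcL4 [lcL5, lcL6, lcL7] = true := by decide +kernel
theorem lcchk0x3 : pgChkLvlW0 532 lcL3 [lcL4, lcL5, lcL6, lcL7] = true := by decide +kernel
theorem lcchk0x2 : pgChkLvlW0 532 lcL2 [lcL3, lcL4, lcL5, lcL6, lcL7] = true := by decide +kernel
theorem lcchk0x1 : pgChkLvlW0 532 lcL1 [lcL2, lcL3, lcL4, lcL5, lcL6, lcL7] = true := by decide +kernel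

theorem lccl7x0 : pgChkGenW 532 (List.range 532) lcL7 []
    (lcgen lcT7x0 lcI7x0) 0 532 = true := by
  decide +kernel
theorem lccl7x1 : pgChkGenW 532 (List.range 532) lcL7 []
    (lcgen lcT7x1 lcI7x1) 0 532 = true := by
  decide +kernel
theorem lccl6x0 : pgChkGenW 532 (List.range 532) lcL6 [lcL7]
    (lcgen lcT6x0 lcI6x0) 0 532 = true := by
  decide +kernel
theorem lccl6x1 : pgChkGenW 532 (List.range 532) lcL6 [lcL7]
    (lcgen lcT6x1 lcI6x1) 0 532 = true := by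
  decide +kernel
theorem lccl5x0 : pgChkGenW 532 (List.range 532) lcL5 [lcL6, lcL7]
    (lcgen lcT5x0 lcI5x0) 0 532 = true := by
  decide +kernel
theorem lccl5x1 : pgChkGenW 532 (List.range 532) lcL5 [lcL6, lcL7]
    (lcgen lcT5x1 lcI5x1) 0 532 = true := by
  decide +kernel
theorem lccl4x0 : pgChkGenW 532 (List.range 532) lcL4 [lcL5, lcL6, lcL7]
    (lcgen lcT4x0 lcI4x0) 0 532 = true := by
  decide +kernel
theorem lccl4x1 : pgChkGenW 532 (List.range 532) lcL4 [lcL5, lcL6, lcL7]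
    (lcgen lcT4x1 lcI4x1) 0 532 = true := by
  decide +kernel
theorem lccl4x2 : pgChkGenW 532 (List.range 532) lcL4 [lcL5, lcL6, lcL7]
    (lcgen lcT4x2 lcI4x2) 0 532 = true := by
  decide +kernel
theorem lccl4x3 : pgChkGenW 532 (List.range 532) lcL4 [lcL5, lcL6, lcL7]
    (lcgen lcT4x3 lcI4x3) 0 532 = true := by
  decide +kernel
theorem lccl4x4 : pgChkGenW 532 (List.range 532) lcL4 [lcL5, lcL6, lcL7]
    (lcgen lcT4x4 lcI4x4) 0 532 = true := by
  decide +kernel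
theorem lccl4x5 : pgChkGenW 532 (List.range 532) lcL4 [lcL5, lcL6, lcL7]
    (lcgen lcT4x5 lcI4x5) 0 532 = true := by
  decide +kernel
theorem lccl3x0 : pgChkGenW 532 (List.range 532) lcL3 [lcL4, lcL5, lcL6, lcL7]
    (lcgen lcT3x0 lcI3x0) 0 532 = true := by
  decide +kernel
theorem lccl3x1 : pgChkGenW 532 (List.range 532) lcL3 [lcL4, lcL5, lcL6, lcL7]
    (lcgen lcT3x1 lcI3x1) 0 532 = true := by
  decide +kernel
theorem lccl3x2 : pgChkGenW 532 (List.range 532) lcL3 [lcL4, lcL5, lcL6, lcL7]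
    (lcgen lcT3x2 lcI3x2) 0 532 = true := by
  decide +kernel
theorem lccl2x0 : pgChkGenW 532 (List.range 532) lcL2 [lcL3, lcL4, lcL5, lcL6, lcL7]
    (lcgen lcT2x0 lcI2x0) 0 532 = true := by
  decide +kernel
theorem lccl2x1 : pgChkGenW 532 (List.range 532) lcL2 [lcL3, lcL4, lcL5, lcL6, lcL7]
    (lcgen lcT2x1 lcI2x1) 0 532 = true := by
  decide +kernel
theorem lccl1x0 : pgChkGenW 532 (List.range 532) lcL1 [lcL2, lcL3, lcL4, lcL5, lcL6, lcL7]
    (lcgen lcT1x0 lcI1x0) 0 532 = true := by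
  decide +kernel
theorem lccl1x1 : pgChkGenW 532 (List.range 532) lcL1 [lcL2, lcL3, lcL4, lcL5, lcL6, lcL7]
    (lcgen lcT1x1 lcI1x1) 0 532 = true := by
  decide +kernel
theorem lccl1x2 : pgChkGenW 532 (List.range 532) lcL1 [lcL2, lcL3, lcL4, lcL5, lcL6, lcL7]
    (lcgen lcT1x2 lcI1x2) 0 532 = true := by
  decide +kernel
theorem lccl1x3 : pgChkGenW 532 (List.range 532) lcL1 [lcL2, lcL3, lcL4, lcL5, lcL6, lcL7]
    (lcgen lcT1x3 lcI1x3) 0 532 = true := by
  decide +kernel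
theorem lccl1x4 : pgChkGenW 532 (List.range 532) lcL1 [lcL2, lcL3, lcL4, lcL5, lcL6, lcL7]
    (lcgen lcT1x4 lcI1x4) 0 532 = true := by
  decide +kernel
theorem lccl1x5 : pgChkGenW 532 (List.range 532) lcL1 [lcL2, lcL3, lcL4, lcL5, lcL6, lcL7]
    (lcgen lcT1x5 lcI1x5) 0 532 = true := by
  decide +kernel
theorem lccl1x6 : pgChkGenW 532 (List.range 532) lcL1 [lcL2, lcL3, lcL4, lcL5, lcL6, lcL7]
    (lcgen lcT1x6 lcI1x6) 0 532 = true := by
  decide +kernel
theorem lccl1x7 : pgChkGenW 532 (List.range 532) lcL1 [lcL2, lcL3, lcL4, lcL5, lcL6, lcL7]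
    (lcgen lcT1x7 lcI1x7) 0 532 = true := by
  decide +kernel
theorem lccl1x8 : pgChkGenW 532 (List.range 532) lcL1 [lcL2, lcL3, lcL4, lcL5, lcL6, lcL7]
    (lcgen lcT1x8 lcI1x8) 0 532 = true := by
  decide +kernel
theorem lccl1x9 : pgChkGenW 532 (List.range 532) lcL1 [lcL2, lcL3, lcL4, lcL5, lcL6, lcL7]
    (lcgen lcT1x9 lcI1x9) 0 532 = true := by
  decide +kernel
theorem lccl1x10 : pgChkGenW 532 (List.range 532) lcL1 [lcL2, lcL3, lcL4, lcL5, lcL6, lcL7]
    (lcgen lcT1x10 lcI1x10) 0 532 = true := by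
  decide +kernel
theorem lccl1x11 : pgChkGenW 532 (List.range 532) lcL1 [lcL2, lcL3, lcL4, lcL5, lcL6, lcL7]
    (lcgen lcT1x11 lcI1x11) 0 532 = true := by
  decide +kernel
theorem lccl1x12 : pgChkGenW 532 (List.range 532) lcL1 [lcL2, lcL3, lcL4, lcL5, lcL6, lcL7]
    (lcgen lcT1x12 lcI1x12) 0 532 = true := by
  decide +kernel
theorem lccl1x13 : pgChkGenW 532 (List.range 532) lcL1 [lcL2, lcL3, lcL4, lcL5, lcL6, lcL7]
    (lcgen lcT1x13 lcI1x13) 0 532 = true := by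
  decide +kernel
theorem lccl1x14 : pgChkGenW 532 (List.range 532) lcL1 [lcL2, lcL3, lcL4, lcL5, lcL6, lcL7]
    (lcgen lcT1x14 lcI1x14) 0 532 = true := by
  decide +kernel
theorem lccl1x15 : pgChkGenW 532 (List.range 532) lcL1 [lcL2, lcL3, lcL4, lcL5, lcL6, lcL7]
    (lcgen lcT1x15 lcI1x15) 0 532 = true := by
  decide +kernel
theorem lccl1x16 : pgChkGenW 532 (List.range 532) lcL1 [lcL2, lcL3, lcL4, lcL5, lcL6, lcL7]
    (lcgen lcT1x16 lcI1x16) 0 532 = true := by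
  decide +kernel
theorem lccl1x17 : pgChkGenW 532 (List.range 532) lcL1 [lcL2, lcL3, lcL4, lcL5, lcL6, lcL7]
    (lcgen lcT1x17 lcI1x17) 0 532 = true := by
  decide +kernel

theorem lcchkL7 : pgChkLvlW 532 (List.range 532) lcL7 [] = true := by
  apply pgChkLvlW_ofAllX lcchk0x7
  intro s hs
  change s ∈ [lcgen lcT7x0 lcI7x0, lcgen lcT7x1 lcI7x1] at hs
  simp only [List.mem_cons, List.not_mem_nil, or_false] at hs
  rcases hs with rfl | rfl
  · exact lccl7x0
  · exact lccl7x1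

theorem lcchkL6 : pgChkLvlW 532 (List.range 532) lcL6 [lcL7] = true := by
  apply pgChkLvlW_ofAllX lcchk0x6
  intro s hs
  change s ∈ [lcgen lcT6x0 lcI6x0, lcgen lcT6x1 lcI6x1] at hs
  simp only [List.mem_cons, List.not_mem_nil, or_false] at hs
  rcases hs with rfl | rfl
  · exact lccl6x0
  · exact lccl6x1

theorem lcchkL5 : pgChkLvlW 532 (List.range 532) lcL5 [lcL6, lcL7] = true := by
  apply pgChkLvlW_ofAllX lcchk0x5
  intro s hs
  change s ∈ [lcgen lcT5x0 lcI5x0, lcgen lcT5x1 lcI5x1] at hs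
  simp only [List.mem_cons, List.not_mem_nil, or_false] at hs
  rcases hs with rfl | rfl
  · exact lccl5x0
  · exact lccl5x1

theorem lcchkL4 : pgChkLvlW 532 (List.range 532) lcL4 [lcL5, lcL6, lcL7] = true := by
  apply pgChkLvlW_ofAllX lcchk0x4
  intro s hs
  change s ∈ [lcgen lcT4x0 lcI4x0, lcgen lcT4x1 lcI4x1, lcgen lcT4x2 lcI4x2, lcgen lcT4x3 lcI4x3, lcgen lcT4x4 lcI4x4, lcgen lcT4x5 lcI4x5] at hs
  simp only [List.mem_cons, List.not_mem_nil, or_false] at hs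
  rcases hs with rfl | rfl | rfl | rfl | rfl | rfl
  · exact lccl4x0
  · exact lccl4x1
  · exact lccl4x2
  · exact lccl4x3
  · exact lccl4x4
  · exact lccl4x5

theorem lcchkL3 : pgChkLvlW 532 (List.range 532) lcL3 [lcL4, lcL5, lcL6, lcL7] = true := by
  apply pgChkLvlW_ofAllX lcchk0x3
  intro s hs
  change s ∈ [lcgen lcT3x0 lcI3x0, lcgen lcT3x1 lcI3x1, lcgen lcT3x2 lcI3x2] at hs
  simp only [List.mem_cons, List.not_mem_nil, or_false] at hs
  rcases hs with rfl | rfl | rfl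
  · exact lccl3x0
  · exact lccl3x1
  · exact lccl3x2

theorem lcchkL2 : pgChkLvlW 532 (List.range 532) lcL2 [lcL3, lcL4, lcL5, lcL6, lcL7] = true := by
  apply pgChkLvlW_ofAllX lcchk0x2
  intro s hs
  change s ∈ [lcgen lcT2x0 lcI2x0, lcgen lcT2x1 lcI2x1] at hs
  simp only [List.mem_cons, List.not_mem_nil, or_false] at hs
  rcases hs with rfl | rfl
  · exact lccl2x0
  · exact lccl2x1

theorem lcchkL1 : pgChkLvlW 532 (List.range 532) lcL1 [lcL2, lcL3, lcL4, lcL5, lcL6, lcL7] = true := by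
  apply pgChkLvlW_ofAllX lcchk0x1
  intro s hs
  change s ∈ [lcgen lcT1x0 lcI1x0, lcgen lcT1x1 lcI1x1, lcgen lcT1x2 lcI1x2, lcgen lcT1x3 lcI1x3, lcgen lcT1x4 lcI1x4, lcgen lcT1x5 lcI1x5, lcgen lcT1x6 lcI1x6, lcgen lcT1x7 lcI1x7, lcgen lcT1x8 lcI1x8, lcgen lcT1x9 lcI1x9, lcgen lcT1x10 lcI1x10, lcgen lcT1x11 lcI1x11, lcgen lcT1x12 lcI1x12, lcgen lcT1x13 lcI1x13, lcgen lcT1x14 lcI1x14, lcgen lcT1x15 lcI1x15, lcgen lcT1x16 lcI1x16, lcgen lcT1x17 lcI1x17] at hs
  simp only [List.mem_cons, List.not_mem_nil, or_false] at hs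
  rcases hs with rfl | rfl | rfl | rfl | rfl | rfl | rfl | rfl | rfl | rfl | rfl | rfl | rfl | rfl | rfl | rfl | rfl | rfl
  · exact lccl1x0
  · exact lccl1x1
  · exact lccl1x2
  · exact lccl1x3
  · exact lccl1x4
  · exact lccl1x5
  · exact lccl1x6
  · exact lccl1x7
  · exact lccl1x8
  · exact lccl1x9
  · exact lccl1x10
  · exact lccl1x11
  · exact lccl1x12
  · exact lccl1x13
  · exact lccl1x14
  · exact lccl1x15
  · exact lccl1x16
  · exact lccl1x17

/-- the stabiliser chain -/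
def lcC : List PgLvlW := [lcL1, lcL2, lcL3, lcL4, lcL5, lcL6, lcL7]

theorem lcchkC : pgChkW 532 (pgRigidAll 532).base lcC = true := by
  change pgChkW 532 (List.range 532) [lcL1, lcL2, lcL3, lcL4, lcL5, lcL6, lcL7] = true
  rw [pgChkW_cons, pgChkW_cons, pgChkW_cons, pgChkW_cons, pgChkW_cons, pgChkW_cons, pgChkW_cons, lcchkL1, lcchkL2, lcchkL3, lcchkL4, lcchkL5, lcchkL6, lcchkL7]
  rfl

end Cfsg.Agent.Lib.Helper5.L34Cov
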