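import Mathlib
import Cfsg.Agent.Lib.Helper5.StemP
import Cfsg.Agent.Lib.Helper5.PcTF

set_option autoImplicit false

/-! Kernels of stem extensions: a cyclic bound from two pairs of commuting elements whose lifts
never commute, for two primes. -/

namespace Cfsg.Agent.Lib.Helper5.Stem

universe u v

open scoped commutatorElement
open Cfsg.Agent.Lib.Helper5.PcT

/-- if some lifts commute then all lifts commute -/
theorem qcomm_of_lifts {Γ G : Type*} [Group Γ] [Group G] {σ : Γ →* G}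
    (hcen : σ.ker ≤ Subgroup.center Γ) {a b : G} {X Y : Γ} (hX : σ X = a) (hY : σ Y = b)
    (h : X * Y = Y * X) : QComm σ a b := by
  intro X' Y' hX' hY'
  have h1 : X⁻¹ * X' ∈ σ.ker := by
    rw [MonoidHom.mem_ker, map_mul, map_inv, hX, hX', inv_mul_cancel]
  have h2 : Y⁻¹ * Y' ∈ σ.ker := by
    rw [MonoidHom.mem_ker, map_mul, map_inv, hY, hY', inv_mul_cancel]
  have c1 : ∀ g : Γ, g * (X⁻¹ * X') = (X⁻¹ * X') * g := Subgroup.mem_center_iff.mp (hcen h1)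
  have c2 : ∀ g : Γ, g * (Y⁻¹ * Y') = (Y⁻¹ * Y') * g := Subgroup.mem_center_iff.mp (hcen h2)
  have e1 : X' = X * (X⁻¹ * X') := by group
  have e2 : Y' = Y * (Y⁻¹ * Y') := by group
  set κ₁ := X⁻¹ * X' with hκ₁
  set κ₂ := Y⁻¹ * Y' with hκ₂
  rw [e1, e2]
  calc X * κ₁ * (Y * κ₂) = X * (κ₁ * Y) * κ₂ := by group
    _ = X * (Y * κ₁) * κ₂ := by rw [c1 Y]
    _ = (X * Y) * (κ₁ * κ₂) := by group
    _ = (Y * X) * (κ₂ * κ₁) := by rw [h, c1 κ₂]
    _ = Y * (X * κ₂) * κ₁ := by group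
    _ = Y * (κ₂ * X) * κ₁ := by rw [c2 X]
    _ = Y * κ₂ * (X * κ₁) := by group

/-- the kernel of a stem extension is cyclic of order dividing `q₁ * q₂` as soon as kernels of prime
orders other than `p₁`, `p₂` do not occur and for each of the two primes some pair of commuting
elements never has commuting lifts in a stem extension with kernel of that prime order -/
theorem ker_cyclic_of_noncomm_two {G : Type v} [Group G] (p₁ p₂ q₁ q₂ n₁ n₂ : ℕ)
    (hn₁ : ∃ k, n₁ = k * q₁ + 1) (hn₁' : q₂ ∣ n₁) (hn₂ : ∃ k, n₂ = k * q₂ + 1) (hn₂' : q₁ ∣ n₂)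
    (x₁ y₁ x₂ y₂ : G)
    (hxy₁ : x₁ * y₁ = y₁ * x₁) (hyq₁ : y₁ ^ q₁ = 1)
    (hxy₂ : x₂ * y₂ = y₂ * x₂) (hyq₂ : y₂ ^ q₂ = 1)
    (hoth : ∀ (p : ℕ), p.Prime → p ≠ p₁ → p ≠ p₂ → ∀ (Γ : Type u) [Group Γ] [Finite Γ]
      (σ : Γ →* G), Cfsg.IsStemExtension σ → Nat.card σ.ker ≠ p)
    (hnc₁ : ∀ (Γ : Type u) [Group Γ] [Finite Γ] (σ : Γ →* G), Cfsg.IsStemExtension σ →
      Nat.card σ.ker = p₁ → ∀ X Y : Γ, σ X = x₁ → σ Y = y₁ → X * Y ≠ Y * X)
    (hnc₂ : ∀ (Γ : Type u) [Group Γ] [Finite Γ] (σ : Γ →* G), Cfsg.IsStemExtension σ →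
      Nat.card σ.ker = p₂ → ∀ X Y : Γ, σ X = x₂ → σ Y = y₂ → X * Y ≠ Y * X)
    {Γ : Type u} [Group Γ] [Finite Γ] (σ : Γ →* G) (hσ : Cfsg.IsStemExtension σ) :
    ∃ c : σ.ker, c ^ (q₁ * q₂) = 1 ∧ ∀ z : σ.ker, z ∈ Subgroup.zpowers c := by
  classical
  have hσ' := hσ
  obtain ⟨hsurj, hcen, hder⟩ := hσ
  -- a commutator of lifts is a central element of the kernel of order dividing the exponent
  have key : ∀ (x y : G) (q : ℕ), x * y = y * x → y ^ q = 1 → ∀ X Y : Γ, σ X = x → σ Y = y →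
      (X * Y * X⁻¹ * Y⁻¹ ∈ σ.ker) ∧ (X * Y * X⁻¹ * Y⁻¹) ^ q = 1 := by
    intro x y q hxy hyq X Y hX hY
    set c : Γ := X * Y * X⁻¹ * Y⁻¹ with hc
    have hcker : c ∈ σ.ker := by
      rw [MonoidHom.mem_ker, hc, map_mul, map_mul, map_mul, map_inv, map_inv, hX, hY, hxy]
      group
    have hccen : ∀ g : Γ, g * c = c * g := Subgroup.mem_center_iff.mp (hcen hcker)
    have hYqker : Y ^ q ∈ σ.ker := by
      rw [MonoidHom.mem_ker, map_pow, hY, hyq]
    have hYqcen : ∀ g : Γ, g * Y ^ q = Y ^ q * g := Subgroup.mem_center_iff.mp (hcen hYqker)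
    refine ⟨hcker, ?_⟩
    have h1 : X * Y * X⁻¹ = c * Y := by rw [hc]; group
    have h2 : X * Y ^ q * X⁻¹ = c ^ q * Y ^ q := by
      rw [← conj_pow, h1]
      have hcomm : Commute c Y := (hccen Y).symm
      exact hcomm.mul_pow q
    rw [hYqcen X, mul_inv_cancel_right] at h2
    have h3 : c ^ q * Y ^ q = 1 * Y ^ q := by rw [← h2, one_mul]
    exact mul_right_cancel h3
  obtain ⟨X₁, hX₁⟩ := hsurj x₁
  obtain ⟨Y₁, hY₁⟩ := hsurj y₁
  obtain ⟨X₂, hX₂⟩ := hsurj x₂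
  obtain ⟨Y₂, hY₂⟩ := hsurj y₂
  obtain ⟨hc₁ker, hc₁q⟩ := key x₁ y₁ q₁ hxy₁ hyq₁ X₁ Y₁ hX₁ hY₁
  obtain ⟨hc₂ker, hc₂q⟩ := key x₂ y₂ q₂ hxy₂ hyq₂ X₂ Y₂ hX₂ hY₂
  set c₁ : Γ := X₁ * Y₁ * X₁⁻¹ * Y₁⁻¹ with hc₁
  set c₂ : Γ := X₂ * Y₂ * X₂⁻¹ * Y₂⁻¹ with hc₂
  letI : CommGroup σ.ker :=
    { (inferInstance : Group σ.ker) with
      mul_comm := fun a b => Subtype.ext (by
        have := Subgroup.mem_center_iff.mp (hcen a.2) b.1
        show (a : Γ) * b = b * a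
        exact this.symm) }
  set k₁ : σ.ker := ⟨c₁, hc₁ker⟩ with hk₁
  set k₂ : σ.ker := ⟨c₂, hc₂ker⟩ with hk₂
  have hk₁q : k₁ ^ q₁ = 1 := Subtype.ext hc₁q
  have hk₂q : k₂ ^ q₂ = 1 := Subtype.ext hc₂q
  set C : Subgroup σ.ker := Subgroup.zpowers (k₁ * k₂) with hC
  -- both commutators are powers of the product
  have hk₁C : k₁ ∈ C := by
    obtain ⟨a, ha⟩ := hn₁
    obtain ⟨b, hb⟩ := hn₁'
    have e1 : k₁ ^ n₁ = k₁ := by
      rw [ha, pow_add, pow_one, mul_comm a q₁, pow_mul, hk₁q, one_pow, one_mul]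
    have e2 : k₂ ^ n₁ = 1 := by
      rw [hb, pow_mul, hk₂q, one_pow]
    have : (k₁ * k₂) ^ n₁ = k₁ := by
      rw [mul_pow, e1, e2, mul_one]
    rw [← this]
    exact Subgroup.pow_mem _ (Subgroup.mem_zpowers _) _
  have hk₂C : k₂ ∈ C := by
    obtain ⟨a, ha⟩ := hn₂
    obtain ⟨b, hb⟩ := hn₂'
    have e1 : k₂ ^ n₂ = k₂ := by
      rw [ha, pow_add, pow_one, mul_comm a q₂, pow_mul, hk₂q, one_pow, one_mul]
    have e2 : k₁ ^ n₂ = 1 := by
      rw [hb, pow_mul, hk₁q, one_pow]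
    have : (k₁ * k₂) ^ n₂ = k₂ := by
      rw [mul_pow, e1, e2, one_mul]
    rw [← this]
    exact Subgroup.pow_mem _ (Subgroup.mem_zpowers _) _
  have hCtop : C = ⊤ := by
    by_contra hne
    have hnt : Nat.card (σ.ker ⧸ C) ≠ 1 := by
      intro h1
      apply hne
      have : C.index = 1 := h1
      exact Subgroup.index_eq_one.mp this
    obtain ⟨p, hp, hpd⟩ := Nat.exists_prime_and_dvd hnt
    haveI : Fact p.Prime := ⟨hp⟩
    obtain ⟨M₀, hM₀⟩ := exists_index_prime (K := σ.ker ⧸ C) p hpd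
    set M : Subgroup σ.ker := M₀.comap (QuotientGroup.mk' C) with hM
    have hMidx : M.index = p := by
      rw [hM, Subgroup.index_comap_of_surjective _ (QuotientGroup.mk'_surjective C), hM₀]
    have hCM : ∀ κ ∈ C, κ ∈ M := by
      intro κ hκ
      rw [hM, Subgroup.mem_comap]
      have : (QuotientGroup.mk' C) κ = 1 := by
        rw [QuotientGroup.mk'_apply, QuotientGroup.eq_one_iff]
        exact hκ
      rw [this]
      exact one_mem _
    obtain ⟨Γ', _, _, σ', π, hσ'', hqs, hπ, hπM, hcard⟩ := exists_stem_quot σ hσ' M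
    rw [hMidx] at hcard
    by_cases hp1 : p = p₁
    · rw [hp1] at hcard
      apply hnc₁ Γ' σ' hσ'' hcard (π X₁) (π Y₁) (by rw [hπ, hX₁]) (by rw [hπ, hY₁])
      have h1 : π c₁ = 1 := hπM c₁ hc₁ker (hCM _ hk₁C)
      rw [hc₁, map_mul, map_mul, map_mul, map_inv, map_inv] at h1
      calc π X₁ * π Y₁ = (π X₁ * π Y₁ * (π X₁)⁻¹ * (π Y₁)⁻¹) * (π Y₁ * π X₁) := by group
        _ = π Y₁ * π X₁ := by rw [h1, one_mul]
    by_cases hp2 : p = p₂
    · rw [hp2] at hcard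
      apply hnc₂ Γ' σ' hσ'' hcard (π X₂) (π Y₂) (by rw [hπ, hX₂]) (by rw [hπ, hY₂])
      have h1 : π c₂ = 1 := hπM c₂ hc₂ker (hCM _ hk₂C)
      rw [hc₂, map_mul, map_mul, map_mul, map_inv, map_inv] at h1
      calc π X₂ * π Y₂ = (π X₂ * π Y₂ * (π X₂)⁻¹ * (π Y₂)⁻¹) * (π Y₂ * π X₂) := by group
        _ = π Y₂ * π X₂ := by rw [h1, one_mul]
    · exact hoth p hp hp1 hp2 Γ' σ' hσ'' hcard
  refine ⟨k₁ * k₂, ?_, ?_⟩
  · rw [mul_pow, pow_mul, hk₁q, one_pow, one_mul, mul_comm q₁ q₂, pow_mul, hk₂q, one_pow]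
  · intro z
    have : z ∈ C := by rw [hCtop]; trivial
    exact this

/-- the preimage of the subgroup generated by two elements with commuting lifts is abelian -/
theorem comm_comap_trivial_of_comm_lifts {Γ G : Type*} [Group Γ] [Group G] (σ : Γ →* G)
    (hcen : σ.ker ≤ Subgroup.center Γ) {x y : G} {X Y : Γ} (hX : σ X = x) (hY : σ Y = y)
    (hXY : X * Y = Y * X) :
    ∀ w ∈ ⁅(Subgroup.closure {x, y}).comap σ, (Subgroup.closure {x, y}).comap σ⁆, w = 1 := by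
  have hcommS : ∀ g ∈ ({X, Y} ∪ (σ.ker : Set Γ) : Set Γ), ∀ h ∈ ({X, Y} ∪ (σ.ker : Set Γ) : Set Γ),
      g * h = h * g := by
    intro g hg h hh
    rcases hg with hg | hg
    · rcases hh with hh | hh
      · rcases hg with rfl | hg <;> rcases hh with rfl | hh
        · rfl
        · rw [Set.mem_singleton_iff] at hh; subst hh; exact hXY
        · rw [Set.mem_singleton_iff] at hg; subst hg; exact hXY.symm
        · rw [Set.mem_singleton_iff] at hg hh; subst hg; subst hh; rfl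
      · exact Subgroup.mem_center_iff.mp (hcen hh) g
    · exact (Subgroup.mem_center_iff.mp (hcen hg) h).symm
  have hmc := Subgroup.isMulCommutative_closure hcommS
  have hle : (Subgroup.closure {x, y}).comap σ ≤
      Subgroup.closure ({X, Y} ∪ (σ.ker : Set Γ)) := by
    intro g hg
    rw [Subgroup.mem_comap] at hg
    have h1 : σ g ∈ (Subgroup.closure {X, Y}).map σ := by
      rw [MonoidHom.map_closure, Set.image_pair, hX, hY]
      exact hg
    obtain ⟨w, hw, hwg⟩ := h1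
    have h2 : g = w * (w⁻¹ * g) := by group
    rw [h2]
    apply Subgroup.mul_mem
    · exact Subgroup.closure_mono Set.subset_union_left hw
    · apply Subgroup.subset_closure
      right
      show w⁻¹ * g ∈ σ.ker
      rw [MonoidHom.mem_ker, map_mul, map_inv, hwg, inv_mul_cancel]
  have hbot : ⁅(Subgroup.closure {x, y}).comap σ, (Subgroup.closure {x, y}).comap σ⁆ = ⊥ := by
    rw [eq_bot_iff, Subgroup.commutator_le]
    intro g₁ h₁ g₂ h₂
    rw [Subgroup.mem_bot, commutatorElement_eq_one_iff_mul_comm]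
    have := hmc.is_comm.comm ⟨g₁, hle h₁⟩ ⟨g₂, hle h₂⟩
    exact congrArg Subtype.val this
  intro w hw
  rw [hbot, Subgroup.mem_bot] at hw
  exact hw

end Cfsg.Agent.Lib.Helper5.Stem
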