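import Mathlib
import Cfsg.Agent.Lib.Helper5.StemV

set_option autoImplicit false

/-! Kernels of stem extensions: a bound by a product of three cyclic groups, from three pairs of
commuting elements whose lifts never all commute when the kernel has prime order. -/

namespace Cfsg.Agent.Lib.Helper5.Stem

universe u v

open scoped commutatorElement
open Cfsg.Agent.Lib.Helper5.PcT

/-- the homomorphism from a cyclic group given by an element of suitable order -/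
noncomputable def zmodHom {K : Type*} [Group K] (n : ℕ) (k : K) (hk : k ^ n = 1) :
    Multiplicative (ZMod n) →* K :=
  AddMonoidHom.toMultiplicativeLeft
    (ZMod.lift n ⟨zmultiplesHom (Additive K) (Additive.ofMul k), by
      simp only [zmultiplesHom_apply, natCast_zsmul]
      rw [← ofMul_pow, hk, ofMul_one]⟩)

theorem zmodHom_apply {K : Type*} [Group K] (n : ℕ) (k : K) (hk : k ^ n = 1) (j : ℤ) :
    zmodHom n k hk (Multiplicative.ofAdd (j : ZMod n)) = k ^ j := by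
  unfold zmodHom
  show Additive.toMul ((ZMod.lift n _) (j : ZMod n)) = k ^ j
  rw [ZMod.lift_coe]
  simp only [zmultiplesHom_apply]
  rfl

theorem zmodHom_one {K : Type*} [Group K] (n : ℕ) (k : K) (hk : k ^ n = 1) :
    zmodHom n k hk (Multiplicative.ofAdd (1 : ZMod n)) = k := by
  have := zmodHom_apply n k hk 1
  simpa using this

/-- the homomorphism from a product of three cyclic groups into a commutative group -/
noncomputable def zmod3Hom {K : Type*} [CommGroup K] (n₁ n₂ n₃ : ℕ) (k₁ k₂ k₃ : K)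
    (h₁ : k₁ ^ n₁ = 1) (h₂ : k₂ ^ n₂ = 1) (h₃ : k₃ ^ n₃ = 1) :
    Multiplicative (ZMod n₁ × ZMod n₂ × ZMod n₃) →* K :=
  ((zmodHom n₁ k₁ h₁).coprod
      (((zmodHom n₂ k₂ h₂).coprod (zmodHom n₃ k₃ h₃)).comp
        (MulEquiv.prodMultiplicative (ZMod n₂) (ZMod n₃)).toMonoidHom)).comp
    (MulEquiv.prodMultiplicative (ZMod n₁) (ZMod n₂ × ZMod n₃)).toMonoidHom

theorem zmod3Hom_apply {K : Type*} [CommGroup K] (n₁ n₂ n₃ : ℕ) (k₁ k₂ k₃ : K)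
    (h₁ : k₁ ^ n₁ = 1) (h₂ : k₂ ^ n₂ = 1) (h₃ : k₃ ^ n₃ = 1) (a b c : ℤ) :
    zmod3Hom n₁ n₂ n₃ k₁ k₂ k₃ h₁ h₂ h₃
      (Multiplicative.ofAdd ((a : ZMod n₁), (b : ZMod n₂), (c : ZMod n₃))) =
      k₁ ^ a * (k₂ ^ b * k₃ ^ c) := by
  unfold zmod3Hom
  simp only [MonoidHom.comp_apply, MulEquiv.coe_toMonoidHom, MonoidHom.coprod_apply]
  show zmodHom n₁ k₁ h₁ (Multiplicative.ofAdd (a : ZMod n₁)) *
    (zmodHom n₂ k₂ h₂ (Multiplicative.ofAdd (b : ZMod n₂)) *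
      zmodHom n₃ k₃ h₃ (Multiplicative.ofAdd (c : ZMod n₃))) = _
  rw [zmodHom_apply, zmodHom_apply, zmodHom_apply]

theorem zmod3Hom_surjective {K : Type*} [CommGroup K] (n₁ n₂ n₃ : ℕ) (k₁ k₂ k₃ : K)
    (h₁ : k₁ ^ n₁ = 1) (h₂ : k₂ ^ n₂ = 1) (h₃ : k₃ ^ n₃ = 1)
    (htop : Subgroup.closure {k₁, k₂, k₃} = ⊤) :
    Function.Surjective (zmod3Hom n₁ n₂ n₃ k₁ k₂ k₃ h₁ h₂ h₃) := by
  rw [← MonoidHom.range_eq_top, eq_top_iff, ← htop, Subgroup.closure_le]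
  intro x hx
  rcases hx with rfl | rfl | hx
  · refine ⟨Multiplicative.ofAdd (((1 : ℤ) : ZMod n₁), ((0 : ℤ) : ZMod n₂), ((0 : ℤ) : ZMod n₃)), ?_⟩
    rw [zmod3Hom_apply]; simp
  · refine ⟨Multiplicative.ofAdd (((0 : ℤ) : ZMod n₁), ((1 : ℤ) : ZMod n₂), ((0 : ℤ) : ZMod n₃)), ?_⟩
    rw [zmod3Hom_apply]; simp
  · rw [Set.mem_singleton_iff] at hx
    subst hx
    refine ⟨Multiplicative.ofAdd (((0 : ℤ) : ZMod n₁), ((0 : ℤ) : ZMod n₂), ((1 : ℤ) : ZMod n₃)), ?_⟩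
    rw [zmod3Hom_apply]; simp

/-- the kernel of a stem extension is a quotient of a product of three cyclic groups as soon as
kernels of prime orders other than `p₁`, `p₃` do not occur, two pairs of commuting elements never
both have commuting lifts when the kernel has order `p₁`, and a third pair never has commuting lifts
when the kernel has order `p₃` -/
theorem ker_quot_of_noncomm_three {G : Type v} [Group G] (p₁ p₃ q₁ q₂ q₃ : ℕ)
    (x₁ y₁ x₂ y₂ x₃ y₃ : G)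
    (hxy₁ : x₁ * y₁ = y₁ * x₁) (hyq₁ : y₁ ^ q₁ = 1)
    (hxy₂ : x₂ * y₂ = y₂ * x₂) (hyq₂ : y₂ ^ q₂ = 1)
    (hxy₃ : x₃ * y₃ = y₃ * x₃) (hyq₃ : y₃ ^ q₃ = 1)
    (hoth : ∀ (p : ℕ), p.Prime → p ≠ p₁ → p ≠ p₃ → ∀ (Γ : Type u) [Group Γ] [Finite Γ]
      (σ : Γ →* G), Cfsg.IsStemExtension σ → Nat.card σ.ker ≠ p)
    (hnc₁ : ∀ (Γ : Type u) [Group Γ] [Finite Γ] (σ : Γ →* G), Cfsg.IsStemExtension σ →
      Nat.card σ.ker = p₁ → ¬ (QComm σ x₁ y₁ ∧ QComm σ x₂ y₂))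
    (hnc₃ : ∀ (Γ : Type u) [Group Γ] [Finite Γ] (σ : Γ →* G), Cfsg.IsStemExtension σ →
      Nat.card σ.ker = p₃ → ¬ QComm σ x₃ y₃)
    {Γ : Type u} [Group Γ] [Finite Γ] (σ : Γ →* G) (hσ : Cfsg.IsStemExtension σ) :
    ∃ π : Multiplicative (ZMod q₃ × ZMod q₁ × ZMod q₂) →* σ.ker, Function.Surjective π := by
  classical
  have hσ' := hσ
  obtain ⟨hsurj, hcen, hder⟩ := hσ
  have key : ∀ (x y : G) (q : ℕ), x * y = y * x → y ^ q = 1 → ∀ X Y : Γ, σ X = x → σ Y = y →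
      (X * Y * X⁻¹ * Y⁻¹ ∈ σ.ker) ∧ (X * Y * X⁻¹ * Y⁻¹) ^ q = 1 := by
    intro x y q hxy hyq X Y hX hY
    set c : Γ := X * Y * X⁻¹ * Y⁻¹ with hc
    have hcker : c ∈ σ.ker := by
      rw [MonoidHom.mem_ker, hc, map_mul, map_mul, map_mul, map_inv, map_inv, hX, hY, hxy]
      group
    have hccen : ∀ g : Γ, g * c = c * g := Subgroup.mem_center_iff.mp (hcen hcker)
    have hYqker : Y ^ q ∈ σ.ker := by
      rw [MonoidHom.mem_ker, map_pow, hY, hyq]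
    have hYqcen : ∀ g : Γ, g * Y ^ q = Y ^ q * g := Subgroup.mem_center_iff.mp (hcen hYqker)
    refine ⟨hcker, ?_⟩
    have h1 : X * Y * X⁻¹ = c * Y := by rw [hc]; group
    have h2 : X * Y ^ q * X⁻¹ = c ^ q * Y ^ q := by
      rw [← conj_pow, h1]
      have hcomm : Commute c Y := (hccen Y).symm
      exact hcomm.mul_pow q
    rw [hYqcen X, mul_inv_cancel_right] at h2
    have h3 : c ^ q * Y ^ q = 1 * Y ^ q := by rw [← h2, one_mul]
    exact mul_right_cancel h3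
  obtain ⟨X₁, hX₁⟩ := hsurj x₁
  obtain ⟨Y₁, hY₁⟩ := hsurj y₁
  obtain ⟨X₂, hX₂⟩ := hsurj x₂
  obtain ⟨Y₂, hY₂⟩ := hsurj y₂
  obtain ⟨X₃, hX₃⟩ := hsurj x₃
  obtain ⟨Y₃, hY₃⟩ := hsurj y₃
  obtain ⟨hc₁ker, hc₁q⟩ := key x₁ y₁ q₁ hxy₁ hyq₁ X₁ Y₁ hX₁ hY₁
  obtain ⟨hc₂ker, hc₂q⟩ := key x₂ y₂ q₂ hxy₂ hyq₂ X₂ Y₂ hX₂ hY₂
  obtain ⟨hc₃ker, hc₃q⟩ := key x₃ y₃ q₃ hxy₃ hyq₃ X₃ Y₃ hX₃ hY₃
  set c₁ : Γ := X₁ * Y₁ * X₁⁻¹ * Y₁⁻¹ with hc₁
  set c₂ : Γ := X₂ * Y₂ * X₂⁻¹ * Y₂⁻¹ with hc₂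
  set c₃ : Γ := X₃ * Y₃ * X₃⁻¹ * Y₃⁻¹ with hc₃
  letI : CommGroup σ.ker :=
    { (inferInstance : Group σ.ker) with
      mul_comm := fun a b => Subtype.ext (by
        have := Subgroup.mem_center_iff.mp (hcen a.2) b.1
        show (a : Γ) * b = b * a
        exact this.symm) }
  set k₁ : σ.ker := ⟨c₁, hc₁ker⟩ with hk₁
  set k₂ : σ.ker := ⟨c₂, hc₂ker⟩ with hk₂
  set k₃ : σ.ker := ⟨c₃, hc₃ker⟩ with hk₃
  have hk₁q : k₁ ^ q₁ = 1 := Subtype.ext hc₁q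
  have hk₂q : k₂ ^ q₂ = 1 := Subtype.ext hc₂q
  have hk₃q : k₃ ^ q₃ = 1 := Subtype.ext hc₃q
  set C : Subgroup σ.ker := Subgroup.closure {k₃, k₁, k₂} with hC
  have hk₁C : k₁ ∈ C := Subgroup.subset_closure (by simp)
  have hk₂C : k₂ ∈ C := Subgroup.subset_closure (by simp)
  have hk₃C : k₃ ∈ C := Subgroup.subset_closure (by simp)
  have hCtop : C = ⊤ := by
    by_contra hne
    have hnt : Nat.card (σ.ker ⧸ C) ≠ 1 := by
      intro h1
      apply hne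
      have : C.index = 1 := h1
      exact Subgroup.index_eq_one.mp this
    obtain ⟨p, hp, hpd⟩ := Nat.exists_prime_and_dvd hnt
    haveI : Fact p.Prime := ⟨hp⟩
    obtain ⟨M₀, hM₀⟩ := exists_index_prime (K := σ.ker ⧸ C) p hpd
    set M : Subgroup σ.ker := M₀.comap (QuotientGroup.mk' C) with hM
    have hMidx : M.index = p := by
      rw [hM, Subgroup.index_comap_of_surjective _ (QuotientGroup.mk'_surjective C), hM₀]
    have hCM : ∀ κ ∈ C, κ ∈ M := by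
      intro κ hκ
      rw [hM, Subgroup.mem_comap]
      have : (QuotientGroup.mk' C) κ = 1 := by
        rw [QuotientGroup.mk'_apply, QuotientGroup.eq_one_iff]
        exact hκ
      rw [this]
      exact one_mem _
    obtain ⟨Γ', _, _, σ', π, hσ'', hqs, hπ, hπM, hcard⟩ := exists_stem_quot σ hσ' M
    rw [hMidx] at hcard
    have hcen' : σ'.ker ≤ Subgroup.center Γ' := hσ''.2.1
    have comm_of : ∀ (X Y c : Γ) (hc : c = X * Y * X⁻¹ * Y⁻¹), π c = 1 →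
        π X * π Y = π Y * π X := by
      intro X Y c hc h1
      rw [hc, map_mul, map_mul, map_mul, map_inv, map_inv] at h1
      calc π X * π Y = (π X * π Y * (π X)⁻¹ * (π Y)⁻¹) * (π Y * π X) := by group
        _ = π Y * π X := by rw [h1, one_mul]
    have q1 : QComm σ' x₁ y₁ :=
      qcomm_of_lifts hcen' (X := π X₁) (Y := π Y₁) (by rw [hπ, hX₁]) (by rw [hπ, hY₁])
        (comm_of X₁ Y₁ c₁ hc₁ (hπM c₁ hc₁ker (hCM _ hk₁C)))
    have q2 : QComm σ' x₂ y₂ :=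
      qcomm_of_lifts hcen' (X := π X₂) (Y := π Y₂) (by rw [hπ, hX₂]) (by rw [hπ, hY₂])
        (comm_of X₂ Y₂ c₂ hc₂ (hπM c₂ hc₂ker (hCM _ hk₂C)))
    have q3 : QComm σ' x₃ y₃ :=
      qcomm_of_lifts hcen' (X := π X₃) (Y := π Y₃) (by rw [hπ, hX₃]) (by rw [hπ, hY₃])
        (comm_of X₃ Y₃ c₃ hc₃ (hπM c₃ hc₃ker (hCM _ hk₃C)))
    by_cases hp1 : p = p₁
    · rw [hp1] at hcard
      exact hnc₁ Γ' σ' hσ'' hcard ⟨q1, q2⟩
    by_cases hp3 : p = p₃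
    · rw [hp3] at hcard
      exact hnc₃ Γ' σ' hσ'' hcard q3
    · exact hoth p hp hp1 hp3 Γ' σ' hσ'' hcard
  exact ⟨zmod3Hom q₃ q₁ q₂ k₃ k₁ k₂ hk₃q hk₁q hk₂q,
    zmod3Hom_surjective q₃ q₁ q₂ k₃ k₁ k₂ hk₃q hk₁q hk₂q hCtop⟩

/-- the kernel is a product of three cyclic groups as soon as it has the right order and contains
three central elements of suitable orders whose products of powers are pairwise different -/
theorem ker_equiv_of_three {Γ G : Type*} [Group Γ] [Group G] (σ : Γ →* G)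
    (n₁ n₂ n₃ : ℕ) [NeZero n₁] [NeZero n₂] [NeZero n₃]
    (k₁ k₂ k₃ : Γ) (hk₁ : k₁ ∈ σ.ker) (hk₂ : k₂ ∈ σ.ker) (hk₃ : k₃ ∈ σ.ker)
    (hc₁ : k₁ ∈ Subgroup.center Γ) (hc₂ : k₂ ∈ Subgroup.center Γ) (hc₃ : k₃ ∈ Subgroup.center Γ)
    (h₁ : k₁ ^ n₁ = 1) (h₂ : k₂ ^ n₂ = 1) (h₃ : k₃ ^ n₃ = 1)
    (hinj : ∀ a b c : ℕ, a < n₁ → b < n₂ → c < n₃ → k₁ ^ a * (k₂ ^ b * k₃ ^ c) = 1 →
      a = 0 ∧ b = 0 ∧ c = 0)
    (hcard : Nat.card σ.ker = n₁ * n₂ * n₃) :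
    (∀ x ∈ σ.ker, ∃ a b c : ℕ, x = k₁ ^ a * (k₂ ^ b * k₃ ^ c)) ∧
    Nonempty (σ.ker ≃* Multiplicative (ZMod n₁ × ZMod n₂ × ZMod n₃)) := by
  classical
  letI : CommGroup (Subgroup.center Γ) :=
    { (inferInstance : Group (Subgroup.center Γ)) with
      mul_comm := fun a b => Subtype.ext (by
        have := Subgroup.mem_center_iff.mp a.2 b.1
        show (a : Γ) * b = b * a
        exact this.symm) }
  set κ₁ : Subgroup.center Γ := ⟨k₁, hc₁⟩ with hκ₁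
  set κ₂ : Subgroup.center Γ := ⟨k₂, hc₂⟩ with hκ₂
  set κ₃ : Subgroup.center Γ := ⟨k₃, hc₃⟩ with hκ₃
  have e₁ : κ₁ ^ n₁ = 1 := Subtype.ext h₁
  have e₂ : κ₂ ^ n₂ = 1 := Subtype.ext h₂
  have e₃ : κ₃ ^ n₃ = 1 := Subtype.ext h₃
  set φ := zmod3Hom n₁ n₂ n₃ κ₁ κ₂ κ₃ e₁ e₂ e₃ with hφ
  have hval : ∀ x : Multiplicative (ZMod n₁ × ZMod n₂ × ZMod n₃),
      ((φ x : Subgroup.center Γ) : Γ) =
        k₁ ^ (Multiplicative.toAdd x).1.val * (k₂ ^ (Multiplicative.toAdd x).2.1.val *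
          k₃ ^ (Multiplicative.toAdd x).2.2.val) := by
    intro x
    have hxe : x = Multiplicative.ofAdd (Multiplicative.toAdd x) := rfl
    set t := Multiplicative.toAdd x with ht
    have hrepr : t = (((t.1.val : ℤ) : ZMod n₁), ((t.2.1.val : ℤ) : ZMod n₂),
        ((t.2.2.val : ℤ) : ZMod n₃)) := by
      ext <;> simp
    have h1 : φ x = κ₁ ^ (t.1.val : ℤ) * (κ₂ ^ (t.2.1.val : ℤ) * κ₃ ^ (t.2.2.val : ℤ)) := by
      rw [hxe]
      conv_lhs => rw [hrepr]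
      rw [hφ, zmod3Hom_apply]
    rw [h1]
    simp only [zpow_natCast]
    rfl
  have hmem : ∀ x, ((φ x : Subgroup.center Γ) : Γ) ∈ σ.ker := by
    intro x
    rw [hval]
    exact mul_mem (pow_mem hk₁ _) (mul_mem (pow_mem hk₂ _) (pow_mem hk₃ _))
  set ψ : Multiplicative (ZMod n₁ × ZMod n₂ × ZMod n₃) →* σ.ker :=
    ((Subgroup.center Γ).subtype.comp φ).codRestrict σ.ker hmem with hψ
  have hψval : ∀ x, ((ψ x : σ.ker) : Γ) = ((φ x : Subgroup.center Γ) : Γ) := fun x => rfl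
  have hinjψ : Function.Injective ψ := by
    rw [injective_iff_map_eq_one]
    intro x hx
    have hx' : ((ψ x : σ.ker) : Γ) = 1 := by rw [hx]; rfl
    rw [hψval, hval] at hx'
    obtain ⟨ha, hb, hc⟩ := hinj _ _ _ (ZMod.val_lt _) (ZMod.val_lt _) (ZMod.val_lt _) hx'
    have hxe : x = Multiplicative.ofAdd (Multiplicative.toAdd x) := rfl
    rw [hxe]
    have : Multiplicative.toAdd x = 0 := by
      ext
      · exact (ZMod.val_eq_zero _).mp ha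
      · exact (ZMod.val_eq_zero _).mp hb
      · exact (ZMod.val_eq_zero _).mp hc
    rw [this]
    rfl
  have hc2 : Nat.card (Multiplicative (ZMod n₁ × ZMod n₂ × ZMod n₃)) = n₁ * n₂ * n₃ := by
    show Nat.card (ZMod n₁ × ZMod n₂ × ZMod n₃) = _
    rw [Nat.card_prod, Nat.card_prod, Nat.card_zmod, Nat.card_zmod, Nat.card_zmod, mul_assoc]
  have hne : n₁ * n₂ * n₃ ≠ 0 :=
    Nat.mul_ne_zero (Nat.mul_ne_zero (NeZero.ne _) (NeZero.ne _)) (NeZero.ne _)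
  have : Finite σ.ker := Nat.finite_of_card_ne_zero (by rw [hcard]; exact hne)
  have hbij : Function.Bijective ψ := by
    have : Finite (Multiplicative (ZMod n₁ × ZMod n₂ × ZMod n₃)) :=
      Nat.finite_of_card_ne_zero (by rw [hc2]; exact hne)
    exact (Nat.bijective_iff_injective_and_card ψ).mpr ⟨hinjψ, by rw [hc2, hcard]⟩
  refine ⟨?_, ⟨(MulEquiv.ofBijective ψ hbij).symm⟩⟩
  intro x hx
  obtain ⟨y, hy⟩ := hbij.2 ⟨x, hx⟩
  have : x = ((ψ y : σ.ker) : Γ) := by rw [hy]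
  rw [this, hψval, hval]
  exact ⟨_, _, _, rfl⟩

end Cfsg.Agent.Lib.Helper5.Stem
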