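import Mathlib
import Cfsg.Agent.Lib.Helper5.L34CovChk
import Cfsg.Agent.Lib.Helper5.L34A
import Cfsg.Agent.Lib.Helper5.StemY
import Cfsg.Prelude.Def_KGroupFacts

set_option autoImplicit false
set_option maxRecDepth 1000000

/-! The group on 532 points generated by lifts of the 18 transvections is a stem extension of the
projective special linear group of degree three over the field with four elements, with kernel the
product of cyclic groups of orders three, four and four. -/

namespace Cfsg.Agent.Lib.Helper5.L34Cov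

open Cfsg Cfsg.Agent.Lib.helper23 Cfsg.Agent.Lib.Helper5.L34M
open Subgroup
open scoped commutatorElement

theorem lcA : pgGrpW 532 lcC ≤ (pgRigidAll 532).A := le_top

theorem lcok : ∀ P ∈ lcL1.own, P.ok 532 = true :=
  pgChkW_own_ok 532 (pgRigidAll 532).base lcC lcchkC

theorem lcord : pgOrdW 532 lcC = 967680 := by decide +kernel

/-- the covering group on 532 points -/
abbrev Cov : Subgroup (Equiv.Perm (Fin 532)) := closure (pgSet 532 lcL1.own)

theorem Cov_eq : Cov = pgGrpW 532 lcC := rfl

theorem Cov_card : Nat.card Cov = 967680 := by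
  rw [Cov_eq, pgCardW (pgRigidAll 532) lcC lcchkC lcA, lcord]

instance Cov_finite : Finite Cov := Nat.finite_of_card_ne_zero (by rw [Cov_card]; norm_num)

/-! ### the restriction to the first twenty-one points -/

/-- the permutations preserving the first twenty-one points -/
def Stab : Subgroup (Equiv.Perm (Fin 532)) where
  carrier := {g | ∀ i : Fin 532, (g i).1 < 21 ↔ i.1 < 21}
  one_mem' := fun _ => Iff.rfl
  mul_mem' := by
    intro a b ha hb i
    rw [Equiv.Perm.mul_apply]
    exact (ha (b i)).trans (hb i)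
  inv_mem' := by
    intro a ha i
    have := ha (a⁻¹ i)
    have e : a (a⁻¹ i) = i := by simp
    rw [e] at this
    exact this.symm

/-- the embedding of the first twenty-one points -/
def emb (i : Fin 21) : Fin 532 := ⟨i.1, by omega⟩

theorem emb_injective : Function.Injective emb := by
  intro i j h
  apply Fin.ext
  have h' : (emb i).1 = (emb j).1 := congrArg Fin.val h
  exact h'

/-- the restriction to the first twenty-one points, as a function -/
def resFun (g : Stab) (i : Fin 21) : Fin 21 := ⟨(g.1 (emb i)).1, (g.2 (emb i)).2 i.2⟩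

theorem emb_resFun (g : Stab) (i : Fin 21) : emb (resFun g i) = g.1 (emb i) := Fin.ext rfl

theorem resFun_mul (g h : Stab) (i : Fin 21) : resFun (g * h) i = resFun g (resFun h i) := by
  apply emb_injective
  rw [emb_resFun, emb_resFun, emb_resFun]
  rfl

theorem resFun_one (i : Fin 21) : resFun 1 i = i := by
  apply emb_injective
  rw [emb_resFun]
  rfl

/-- the restriction to the first twenty-one points -/
def res : Stab →* Equiv.Perm (Fin 21) where
  toFun g :=
    { toFun := resFun g
      invFun := resFun g⁻¹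
      left_inv := fun i => by rw [← resFun_mul, inv_mul_cancel, resFun_one]
      right_inv := fun i => by rw [← resFun_mul, mul_inv_cancel, resFun_one] }
  map_one' := by
    apply Equiv.ext
    intro i
    exact resFun_one i
  map_mul' := by
    intro g h
    apply Equiv.ext
    intro i
    exact resFun_mul g h i

theorem res_apply (g : Stab) (i : Fin 21) : ((res g) i).1 = (g.1 (emb i)).1 := rfl

/-! ### the generators -/

/-- the lift of the generator of index `k`, as a pair of lookups -/
def cG (k : ℕ) : PFun := lcL1.own.getD k PFun.one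

/-- the generator of index `k`, as a pair of lookups -/
def bG (k : ℕ) : PFun := lbL1.own.getD k PFun.one

theorem cG_ok (k : ℕ) : (cG k).ok 532 = true := pgGetD_ok lcok k

theorem bG_ok (k : ℕ) : (bG k).ok 21 = true := pgGetD_ok lbok k

theorem own_length : lcL1.own.length = 18 := rfl

theorem bown_length : lbL1.own.length = 18 := rfl

theorem mem_own {P : PFun} (hP : P ∈ lcL1.own) : ∃ k, k < 18 ∧ P = cG k := by
  obtain ⟨k, hk, rfl⟩ := List.mem_iff_getElem.mp hP
  refine ⟨k, by rw [← own_length]; exact hk, ?_⟩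
  unfold cG
  rw [List.getD_eq_getElem _ _ hk]

theorem mem_bown {P : PFun} (hP : P ∈ lbL1.own) : ∃ k, k < 18 ∧ P = bG k := by
  obtain ⟨k, hk, rfl⟩ := List.mem_iff_getElem.mp hP
  refine ⟨k, by rw [← bown_length]; exact hk, ?_⟩
  unfold bG
  rw [List.getD_eq_getElem _ _ hk]

theorem stab_chk : pgAll 18 (fun k => pgAll 532 (fun i =>
    pgEqB (Nat.blt ((cG k).f i) 21) (Nat.blt i 21))) = true := by decide +kernel

theorem res_chk : pgAll 18 (fun k => pgAll 21 (fun i =>
    Nat.beq ((cG k).f i) ((bG k).f i))) = true := by decide +kernel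

theorem perm_mem_Stab {P : PFun} (hP : P.ok 532 = true)
    (h : pgAll 532 (fun i => pgEqB (Nat.blt (P.f i) 21) (Nat.blt i 21)) = true) :
    P.perm 532 ∈ Stab := by
  intro i
  rw [PFun.perm_apply hP]
  have := (pgAll_iff _ _).1 h i.1 i.2
  rw [pgEqB_iff] at this
  constructor
  · intro h1
    have h2 : Nat.blt (P.f i.1) 21 = true := by simpa using h1
    rw [this] at h2
    simpa using h2
  · intro h1
    have h2 : Nat.blt i.1 21 = true := by simpa using h1
    rw [← this] at h2
    simpa using h2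

theorem cG_stab (k : ℕ) (hk : k < 18) : (cG k).perm 532 ∈ Stab :=
  perm_mem_Stab (cG_ok k) ((pgAll_iff _ _).1 stab_chk k hk)

theorem Cov_le_Stab : Cov ≤ Stab := by
  rw [closure_le]
  rintro _ ⟨P, hP, rfl⟩
  obtain ⟨k, hk, rfl⟩ := mem_own hP
  exact cG_stab k hk

theorem res_perm {P Q : PFun} (hP : P.ok 532 = true) (hs : P.perm 532 ∈ Stab)
    (hQ : Q.ok 21 = true) (h : pgAll 21 (fun i => Nat.beq (P.f i) (Q.f i)) = true) :
    res ⟨P.perm 532, hs⟩ = Q.perm 21 := by
  apply Equiv.ext
  intro i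
  apply Fin.ext
  rw [res_apply, PFun.perm_apply hP, PFun.perm_apply hQ]
  have := (pgAll_iff _ _).1 h i.1 i.2
  rw [Nat.beq_eq] at this
  exact this

theorem res_cG (k : ℕ) (hk : k < 18) : res ⟨(cG k).perm 532, cG_stab k hk⟩ = (bG k).perm 21 :=
  res_perm (cG_ok k) (cG_stab k hk) (bG_ok k) ((pgAll_iff _ _).1 res_chk k hk)

/-- the restriction on the covering group -/
def sig0 : Cov →* Equiv.Perm (Fin 21) := res.comp (Subgroup.inclusion Cov_le_Stab)

theorem sig0_mem (γ : Cov) : sig0 γ ∈ H21 := by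
  have hle : Cov ≤ (H21.comap res).map Stab.subtype := by
    rw [closure_le]
    rintro _ ⟨P, hP, rfl⟩
    obtain ⟨k, hk, rfl⟩ := mem_own hP
    refine ⟨⟨(cG k).perm 532, cG_stab k hk⟩, ?_, rfl⟩
    show res _ ∈ H21
    rw [res_cG k hk]
    exact pgGetD_mem k
  obtain ⟨s, hs, hsγ⟩ := hle γ.2
  have e : Subgroup.inclusion Cov_le_Stab γ = s := Subtype.ext hsγ.symm
  show res (Subgroup.inclusion Cov_le_Stab γ) ∈ H21
  rw [e]
  exact hs

/-- the covering map -/
def sig : Cov →* HG := sig0.codRestrict H21 sig0_mem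

theorem sig_coe (γ : Cov) : ((sig γ : HG) : Equiv.Perm (Fin 21)) = sig0 γ := rfl

/-- the lift of the generator of index `k` -/
def xG (k : ℕ) : Cov := ⟨(cG k).perm 532, pgGetD_mem k⟩

theorem sig0_xG (k : ℕ) (hk : k < 18) : sig0 (xG k) = (bG k).perm 21 := res_cG k hk

theorem sig_surj : Function.Surjective sig := by
  rintro ⟨y, hy⟩
  have key : ∀ y (hy : y ∈ H21), ∃ γ : Cov, sig0 γ = y := by
    intro y hy
    induction hy using Subgroup.closure_induction with
    | mem y hy =>
      obtain ⟨P, hP, rfl⟩ := hy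
      obtain ⟨k, hk, rfl⟩ := mem_bown hP
      exact ⟨xG k, sig0_xG k hk⟩
    | one => exact ⟨1, map_one _⟩
    | mul a b ha hb iha ihb =>
      obtain ⟨γ, hγ⟩ := iha
      obtain ⟨δ, hδ⟩ := ihb
      exact ⟨γ * δ, by rw [map_mul, hγ, hδ]⟩
    | inv a ha iha =>
      obtain ⟨γ, hγ⟩ := iha
      exact ⟨γ⁻¹, by rw [map_inv, hγ]⟩
  obtain ⟨γ, hγ⟩ := key y hy
  exact ⟨γ, Subtype.ext hγ⟩

theorem card_ker_sig : Nat.card sig.ker = 48 := by
  have h1 := Subgroup.card_eq_card_quotient_mul_card_subgroup sig.ker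
  have e := QuotientGroup.quotientKerEquivOfSurjective sig sig_surj
  rw [Nat.card_congr e.toEquiv, Cov_card, card_HG] at h1
  omega

/-! ### elements given by words -/

/-- the element of a word -/
def wEl (w : List ℕ) : Cov := ⟨pgWordPerm 532 lcL1.own w, pgWordPerm_mem lcok w⟩

theorem wEl_apply (w : List ℕ) (i : Fin 532) : ((wEl w).1 i).1 = pgEvalW lcL1.own w i.1 :=
  pgWordPerm_apply lcok w i

theorem wEl_append (w v : List ℕ) : wEl (w ++ v) = wEl w * wEl v :=
  Subtype.ext (pgWordPerm_append 532 lcL1.own w v)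

theorem wEl_eq_of_chk (w v : List ℕ)
    (h : pgAll 532 (fun i => Nat.beq (pgEvalW lcL1.own w i) (pgEvalW lcL1.own v i)) = true) :
    wEl w = wEl v := by
  apply Subtype.ext
  apply Equiv.ext
  intro i
  apply Fin.ext
  rw [wEl_apply, wEl_apply]
  have := (pgAll_iff _ _).1 h i.1 i.2
  rwa [Nat.beq_eq] at this

theorem wEl_nil : wEl [] = 1 := Subtype.ext rfl

theorem wEl_ker (w : List ℕ)
    (h : pgAll 21 (fun i => Nat.beq (pgEvalW lcL1.own w i) i) = true) : wEl w ∈ sig.ker := by
  rw [MonoidHom.mem_ker]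
  apply Subtype.ext
  rw [sig_coe]
  apply Equiv.ext
  intro i
  apply Fin.ext
  show ((res (Subgroup.inclusion Cov_le_Stab (wEl w))) i).1 = i.1
  rw [res_apply]
  show ((wEl w).1 (emb i)).1 = i.1
  rw [wEl_apply]
  have := (pgAll_iff _ _).1 h i.1 i.2
  rw [Nat.beq_eq] at this
  exact this

theorem pgLetter_lt (k : ℕ) (hk : k < 18) : pgLetter lcL1.own k = cG k := by
  unfold pgLetter cG
  have : Nat.blt k lcL1.own.length = true := by
    rw [own_length]
    simpa using hk
  rw [this]
  rfl

theorem wEl_single (k : ℕ) (hk : k < 18) : (wEl [k]).1 = (cG k).perm 532 := by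
  show pgWordPerm 532 lcL1.own [k] = _
  unfold pgWordPerm
  rw [List.map_cons, List.map_nil, List.prod_cons, List.prod_nil, mul_one, pgLetter_lt k hk]

theorem wEl_central (w : List ℕ)
    (h : pgAll 18 (fun k => pgAll 532 (fun i =>
      Nat.beq (pgEvalW lcL1.own (k :: w) i) (pgEvalW lcL1.own (w ++ [k]) i))) = true) :
    wEl w ∈ Subgroup.center Cov := by
  rw [Subgroup.mem_center_iff]
  intro g
  apply Subtype.ext
  show g.1 * (wEl w).1 = (wEl w).1 * g.1
  have hle : Cov ≤ Subgroup.centralizer {(wEl w).1} := by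
    rw [closure_le]
    rintro _ ⟨P, hP, rfl⟩
    obtain ⟨k, hk, rfl⟩ := mem_own hP
    rw [SetLike.mem_coe, Subgroup.mem_centralizer_iff]
    intro z hz
    rw [Set.mem_singleton_iff] at hz
    subst hz
    have e := wEl_eq_of_chk (k :: w) (w ++ [k]) ((pgAll_iff _ _).1 h k hk)
    have e1 : wEl (k :: w) = wEl [k] * wEl w := wEl_append [k] w
    rw [e1, wEl_append] at e
    have e2 := congrArg Subtype.val e
    rw [Subgroup.coe_mul, Subgroup.coe_mul, wEl_single k hk] at e2
    exact e2.symm
  have := Subgroup.mem_centralizer_iff.mp (hle g.2) (wEl w).1 rfl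
  exact this.symm

/-- the repetition of a word -/
def rep (n : ℕ) (w : List ℕ) : List ℕ := (List.replicate n w).flatten

theorem wEl_rep (n : ℕ) (w : List ℕ) : wEl (rep n w) = wEl w ^ n := by
  induction n with
  | zero => exact wEl_nil
  | succ n ih =>
    have : rep (n + 1) w = w ++ rep n w := by
      unfold rep
      rw [List.replicate_succ, List.flatten_cons]
    rw [this, wEl_append, ih, pow_succ']

theorem wEl_pow (n : ℕ) (w : List ℕ)
    (h : pgAll 532 (fun i => Nat.beq (pgEvalW lcL1.own (rep n w) i) i) = true) :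
    wEl w ^ n = 1 := by
  rw [← wEl_rep]
  exact Subtype.ext (pgWordPerm_eq_one lcok h)

/-- the commutator word -/
def commW (w1 w2 : List ℕ) : List ℕ := w1 ++ (w2 ++ (pgInvW 18 w1 ++ pgInvW 18 w2))

theorem wEl_comm (w1 w2 : List ℕ) (h1 : ∀ j ∈ w1, j < 2 * lcL1.own.length)
    (h2 : ∀ j ∈ w2, j < 2 * lcL1.own.length) : wEl (commW w1 w2) = ⁅wEl w1, wEl w2⁆ := by
  apply Subtype.ext
  show pgWordPerm 532 lcL1.own (commW w1 w2) = _
  have hl : lcL1.own.length = 18 := rfl
  have e1 := pgInvW_perm lcok w1 h1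
  have e2 := pgInvW_perm lcok w2 h2
  rw [hl] at e1 e2
  unfold commW
  rw [pgWordPerm_append, pgWordPerm_append, pgWordPerm_append, e1, e2,
    commutatorElement_def]
  show _ = pgWordPerm 532 lcL1.own w1 * pgWordPerm 532 lcL1.own w2 *
    (pgWordPerm 532 lcL1.own w1)⁻¹ * (pgWordPerm 532 lcL1.own w2)⁻¹
  group

/-! ### the three central elements -/

/-- the words of the element of order three -/
def u3 : List ℕ := [10, 17, 10, 9, 15, 9]
def v3 : List ℕ := [0, 6, 0, 9, 15, 9]

/-- the words of the first element of order four -/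
def ua : List ℕ := [0, 9]
def va : List ℕ := [1, 10]

/-- the words of the second element of order four -/
def ub : List ℕ := [0, 11]
def vb : List ℕ := [1, 9]

/-- the three central elements -/
def z3 : Cov := wEl (commW u3 v3)
def za : Cov := wEl (commW ua va)
def zb : Cov := wEl (commW ub vb)

theorem z3_eq : z3 = ⁅wEl u3, wEl v3⁆ := wEl_comm u3 v3 (by decide) (by decide)
theorem za_eq : za = ⁅wEl ua, wEl va⁆ := wEl_comm ua va (by decide) (by decide)
theorem zb_eq : zb = ⁅wEl ub, wEl vb⁆ := wEl_comm ub vb (by decide) (by decide)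

theorem z3_ker : z3 ∈ sig.ker := wEl_ker _ (by decide +kernel)
theorem za_ker : za ∈ sig.ker := wEl_ker _ (by decide +kernel)
theorem zb_ker : zb ∈ sig.ker := wEl_ker _ (by decide +kernel)

theorem z3_central : z3 ∈ Subgroup.center Cov := wEl_central _ (by decide +kernel)
theorem za_central : za ∈ Subgroup.center Cov := wEl_central _ (by decide +kernel)
theorem zb_central : zb ∈ Subgroup.center Cov := wEl_central _ (by decide +kernel)

theorem z3_pow : z3 ^ 3 = 1 := wEl_pow 3 _ (by decide +kernel)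
theorem za_pow : za ^ 4 = 1 := wEl_pow 4 _ (by decide +kernel)
theorem zb_pow : zb ^ 4 = 1 := wEl_pow 4 _ (by decide +kernel)

/-- the values of the three elements at the three test points -/
theorem vals_chk :
    (pgEvalW lcL1.own (commW u3 v3) 21 = 22 ∧ pgEvalW lcL1.own (commW u3 v3) 22 = 23) ∧
    (pgEvalW lcL1.own (commW ua va) 21 = 21 ∧ pgEvalW lcL1.own (commW ub vb) 21 = 21) ∧
    (pgEvalW lcL1.own (commW ua va) 84 = 86 ∧ pgEvalW lcL1.own (commW ua va) 86 = 85 ∧
      pgEvalW lcL1.own (commW ua va) 85 = 87) ∧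
    pgEvalW lcL1.own (commW ub vb) 84 = 84 ∧
    (pgEvalW lcL1.own (commW ub vb) 308 = 311 ∧ pgEvalW lcL1.own (commW ub vb) 311 = 309 ∧
      pgEvalW lcL1.own (commW ub vb) 309 = 310) := by
  decide +kernel

theorem el_val (w : List ℕ) (i j : ℕ) (hi : i < 532) (hj : j < 532)
    (h : pgEvalW lcL1.own w i = j) : (wEl w).1 ⟨i, hi⟩ = ⟨j, hj⟩ := by
  apply Fin.ext
  rw [wEl_apply]
  exact h

theorem pow_fix {g : Equiv.Perm (Fin 532)} {x : Fin 532} (h : g x = x) (n : ℕ) :
    (g ^ n) x = x := Equiv.Perm.pow_apply_eq_self_of_apply_eq_self h n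

theorem indep : ∀ a b c : ℕ, a < 3 → b < 4 → c < 4 → z3 ^ a * (za ^ b * zb ^ c) = 1 →
    a = 0 ∧ b = 0 ∧ c = 0 := by
  intro a b c ha hb hc h
  obtain ⟨⟨e1, e2⟩, ⟨e3, e4⟩, ⟨e5, e6, e7⟩, e8, e9, e10, e11⟩ := vals_chk
  have h' : z3.1 ^ a * (za.1 ^ b * zb.1 ^ c) = 1 := by
    have := congrArg Subtype.val h
    simpa using this
  -- the first point
  have ha0 : a = 0 := by
    have f1 : za.1 ⟨21, by norm_num⟩ = ⟨21, by norm_num⟩ := el_val _ 21 21 _ _ e3
    have f2 : zb.1 ⟨21, by norm_num⟩ = ⟨21, by norm_num⟩ := el_val _ 21 21 _ _ e4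
    have g1 : z3.1 ⟨21, by norm_num⟩ = ⟨22, by norm_num⟩ := el_val _ 21 22 _ _ e1
    have g2 : z3.1 ⟨22, by norm_num⟩ = ⟨23, by norm_num⟩ := el_val _ 22 23 _ _ e2
    have h1 := congrArg (fun g : Equiv.Perm (Fin 532) => g ⟨21, by norm_num⟩) h'
    simp only [Equiv.Perm.mul_apply, Equiv.Perm.one_apply] at h1
    rw [pow_fix f2, pow_fix f1] at h1
    interval_cases a
    · rfl
    · rw [pow_one, g1] at h1
      exact absurd (congrArg Fin.val h1) (by norm_num)
    · rw [pow_two, Equiv.Perm.mul_apply, g1, g2] at h1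
      exact absurd (congrArg Fin.val h1) (by norm_num)
  subst ha0
  rw [pow_zero, one_mul] at h'
  have hb0 : b = 0 := by
    have f2 : zb.1 ⟨84, by norm_num⟩ = ⟨84, by norm_num⟩ := el_val _ 84 84 _ _ e8
    have g1 : za.1 ⟨84, by norm_num⟩ = ⟨86, by norm_num⟩ := el_val _ 84 86 _ _ e5
    have g2 : za.1 ⟨86, by norm_num⟩ = ⟨85, by norm_num⟩ := el_val _ 86 85 _ _ e6
    have g3 : za.1 ⟨85, by norm_num⟩ = ⟨87, by norm_num⟩ := el_val _ 85 87 _ _ e7
    have h1 := congrArg (fun g : Equiv.Perm (Fin 532) => g ⟨84, by norm_num⟩) h'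
    simp only [Equiv.Perm.mul_apply, Equiv.Perm.one_apply] at h1
    rw [pow_fix f2] at h1
    interval_cases b
    · rfl
    · rw [pow_one, g1] at h1
      exact absurd (congrArg Fin.val h1) (by norm_num)
    · rw [pow_two, Equiv.Perm.mul_apply, g1, g2] at h1
      exact absurd (congrArg Fin.val h1) (by norm_num)
    · rw [pow_succ, pow_two, Equiv.Perm.mul_apply, Equiv.Perm.mul_apply, g1, g2, g3] at h1
      exact absurd (congrArg Fin.val h1) (by norm_num)
  subst hb0
  rw [pow_zero, one_mul] at h'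
  have hc0 : c = 0 := by
    have g1 : zb.1 ⟨308, by norm_num⟩ = ⟨311, by norm_num⟩ := el_val _ 308 311 _ _ e9
    have g2 : zb.1 ⟨311, by norm_num⟩ = ⟨309, by norm_num⟩ := el_val _ 311 309 _ _ e10
    have g3 : zb.1 ⟨309, by norm_num⟩ = ⟨310, by norm_num⟩ := el_val _ 309 310 _ _ e11
    have h1 := congrArg (fun g : Equiv.Perm (Fin 532) => g ⟨308, by norm_num⟩) h'
    simp only [Equiv.Perm.one_apply] at h1
    interval_cases c
    · rfl
    · rw [pow_one, g1] at h1
      exact absurd (congrArg Fin.val h1) (by norm_num)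
    · rw [pow_two, Equiv.Perm.mul_apply, g1, g2] at h1
      exact absurd (congrArg Fin.val h1) (by norm_num)
    · rw [pow_succ, pow_two, Equiv.Perm.mul_apply, Equiv.Perm.mul_apply, g1, g2, g3] at h1
      exact absurd (congrArg Fin.val h1) (by norm_num)
  exact ⟨rfl, rfl, hc0⟩

/-! ### the stem extension -/

theorem ker_struct :
    (∀ x ∈ sig.ker, ∃ a b c : ℕ, x = z3 ^ a * (za ^ b * zb ^ c)) ∧
    Nonempty (sig.ker ≃* Multiplicative (ZMod 3 × ZMod 4 × ZMod 4)) :=
  Cfsg.Agent.Lib.Helper5.Stem.ker_equiv_of_three sig 3 4 4 z3 za zb z3_ker za_ker zb_ker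
    z3_central za_central zb_central z3_pow za_pow zb_pow indep (by rw [card_ker_sig])

theorem sig_stem : Cfsg.IsStemExtension sig := by
  refine ⟨sig_surj, ?_, ?_⟩
  · intro k hk
    obtain ⟨a, b, c, rfl⟩ := ker_struct.1 k hk
    exact mul_mem (pow_mem z3_central _) (mul_mem (pow_mem za_central _) (pow_mem zb_central _))
  · intro k hk
    obtain ⟨a, b, c, rfl⟩ := ker_struct.1 k hk
    have h3 : z3 ∈ commutator Cov := by
      rw [z3_eq, commutator_def]
      exact Subgroup.commutator_mem_commutator (Subgroup.mem_top _) (Subgroup.mem_top _)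
    have ha : za ∈ commutator Cov := by
      rw [za_eq, commutator_def]
      exact Subgroup.commutator_mem_commutator (Subgroup.mem_top _) (Subgroup.mem_top _)
    have hb : zb ∈ commutator Cov := by
      rw [zb_eq, commutator_def]
      exact Subgroup.commutator_mem_commutator (Subgroup.mem_top _) (Subgroup.mem_top _)
    exact mul_mem (pow_mem h3 _) (mul_mem (pow_mem ha _) (pow_mem hb _))

/-- the group on 21 points has a finite stem extension with kernel the product of cyclic groups of
orders three, four and four -/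
theorem exists_stem_HG : ∃ (Γ : Type) (_ : Group Γ) (_ : Finite Γ) (σ : Γ →* HG),
    Cfsg.IsStemExtension σ ∧
      Nonempty (σ.ker ≃* Multiplicative (ZMod 3 × ZMod 4 × ZMod 4)) :=
  ⟨↥Cov, inferInstance, inferInstance, sig, sig_stem, ker_struct.2⟩

end Cfsg.Agent.Lib.Helper5.L34Cov
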