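import Mathlib
import Cfsg.Agent.Lib.Helper5.L34C
import Cfsg.Agent.Lib.Helper5.PcTE
import Cfsg.Agent.Lib.Helper5.PcTF

set_option autoImplicit false

/-! Word lists for the orders of the Sylow subgroups of the projective special linear group of degree three over the field with four elements,
and the certificate for the splitting of the Sylow 2-subgroup (generated). -/

namespace Cfsg.Agent.Lib.Helper5.L34M

open Cfsg.Agent.Lib.helper23 Cfsg.Agent.Lib.Helper5.CP Cfsg.Agent.Lib.Helper5.PcT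

/-- the base points for signatures -/
def sbase : List ℕ := [0, 1, 2, 5]

theorem sbase_lt : ∀ b ∈ sbase, b < 21 := by decide

theorem chk_id : eqW lblk 21 Uid [] = true := by decide +kernel

/-- coded generators -/
def gT2 : List ℕ := [Ug0, Ug1, Ug2, Ug3, Ug4, Ug5]

/-- generators -/
noncomputable def gG2 : List HG := [g0, g1, g2, g3, g4, g5]

theorem gRep2 : List.Forall₂ RepH gT2 gG2 :=
  (List.Forall₂.cons rep_g0 (List.Forall₂.cons rep_g1 (List.Forall₂.cons rep_g2 (List.Forall₂.cons rep_g3 (List.Forall₂.cons rep_g4 (List.Forall₂.cons rep_g5 List.Forall₂.nil))))))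

/-- words with pairwise different values -/
def words2 : List (List ℕ) := [[0], [], [1], [0, 1], [0, 4], [4], [1, 4], [0, 1, 4], [0, 2, 4], [2], [1, 2, 5], [0, 1, 2, 4, 5], [0, 2], [2, 4], [1, 2, 4, 5], [0, 1, 2, 5], [0, 3, 4, 5], [3, 4], [1, 3, 5], [0, 1, 3], [0, 2, 3, 5], [2, 3, 4], [1, 2, 3], [0, 1, 2, 3, 4, 5], [0, 4, 5], [4, 5], [1, 4, 5], [0, 1, 4, 5], [0, 2, 3, 4, 5], [2, 3], [1, 2, 3, 4], [0, 1, 2, 3, 5], [0, 2, 3], [2, 3, 4, 5], [1, 2, 3, 5], [0, 1, 2, 3, 4], [0, 2, 5], [2, 4, 5], [1, 2, 4], [0, 1, 2], [0, 3, 4], [3, 4, 5], [1, 3], [0, 1, 3, 5], [0, 5], [5], [1, 5], [0, 1, 5], [0, 3, 5], [3], [1, 3, 4, 5], [0, 1, 3, 4], [0, 3], [3, 5], [1, 3, 4], [0, 1, 3, 4, 5], [0, 2, 3, 4], [2, 3, 5], [1, 2, 3, 4, 5], [0, 1, 2, 3], [0, 2, 4, 5], [2, 5], [1, 2], [0, 1, 2, 4]]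

theorem words2_length : words2.length = 64 := by decide +kernel

theorem words2_inc : isStrictInc (words2.map fun l => sigW lblk sbase (l.map fun i => gT2.getD i Uid)) = true := by
  decide +kernel

/-- coded generators -/
def gT3 : List ℕ := [Ua3, Ub3]

/-- generators -/
noncomputable def gG3 : List HG := [a3, b3]

theorem gRep3 : List.Forall₂ RepH gT3 gG3 :=
  (List.Forall₂.cons rep_a3 (List.Forall₂.cons rep_b3 List.Forall₂.nil))

/-- words with pairwise different values -/
def words3 : List (List ℕ) := [[1], [0, 1], [0, 0, 1], [1, 1], [0, 0, 1, 1], [0, 1, 1], [], [0], [0, 0]]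

theorem words3_length : words3.length = 9 := by decide +kernel

theorem words3_inc : isStrictInc (words3.map fun l => sigW lblk sbase (l.map fun i => gT3.getD i Uid)) = true := by
  decide +kernel

/-- the squares of the polycyclic generators -/
def sqL : List (List ℕ) := [[], [], [], [], [], []]

/-- the commutators of the polycyclic generators -/
def cmL : List (List (List ℕ)) := [[[], [], [4], [5], [], []], [[], [], [5], [4, 5], [], []], [[], [], [], [], [], []], [[], [], [], [], [], []], [[], [], [], [], [], []], [[], [], [], [], [], []]]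

/-- the involution words used -/
def invW : List (List ℕ) := [[0], [1], [2], [3], [0, 1], [2, 3]]

/-- the associativity triples used -/
def triL : List (ℕ × ℕ × ℕ) := [(2, 0, 0), (3, 0, 0), (2, 1, 0), (3, 1, 0), (2, 2, 0), (3, 2, 0), (5, 2, 0), (3, 3, 0), (2, 1, 1), (3, 1, 1), (2, 2, 1)]

/-- the commuting pairs used -/
def commW : List (List ℕ × List ℕ) := [([0, 2], [1, 3]), ([0, 1, 3], [1, 2])]

/-- the forms of the correcting exponents -/
def CC : List (List (ℕ × ℕ)) := [[], [], [], [], [(0, 2)], [(0, 3)]]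

/-- the certificates -/
def certs : List (List ℕ) := [[0], [0, 1, 4], [], [], [7, 9, 12, 14], [6, 7, 8, 9, 12, 15], [], [1], [0, 1, 2, 3, 4, 5, 13, 16, 17], [6, 8, 9, 10, 11, 14, 16, 17, 18], [6, 7, 9, 15], [6, 8, 9, 12, 14, 15], [], [], [2], [2, 3, 5], [6, 7, 9, 10, 12, 14], [6, 8, 9, 12, 15, 16], [], [], [], [3], [6, 8, 9, 11, 15, 16], [6, 8, 9, 12, 13, 15], [], [], [], [], [6, 7, 9, 12, 14], [12], [], [], [], [], [], [6, 8, 9, 12, 15]]

theorem data_ok : dataOK 6 sqL cmL = true := by decide +kernel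

theorem cert_ok : certOK (PcD.ofLists 6 sqL cmL) CC (zforms2 (PcD.ofLists 6 sqL cmL) 40 invW triL commW) certs = true := by
  decide +kernel

theorem rels_ok : relsChk lblk 21 Uid gT2 6 sqL cmL = true := by decide +kernel

end Cfsg.Agent.Lib.Helper5.L34M
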