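import Mathlib
import Cfsg.Agent.Lib.Helper5.L34D
import Cfsg.Agent.Lib.Helper5.StemY
import Cfsg.Agent.Lib.Helper5.StemS
import Cfsg.Agent.Lib.Helper5.StemT

set_option autoImplicit false

/-! Kernels of stem extensions of the projective special linear group of degree three over the field
with four elements are quotients of the product of cyclic groups of orders three, four and four. -/

namespace Cfsg.Agent.Lib.Helper5.L34M

open Cfsg Cfsg.Agent.Lib.helper23 Cfsg.Agent.Lib.Helper5.CP Cfsg.Agent.Lib.Helper5.PcT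
open Cfsg.Agent.Lib.Helper5.Stem Cfsg.Agent.Lib.helper3
open Subgroup
open scoped commutatorElement

/-- the Sylow `3`-subgroup -/
def P3 : Subgroup HG := closure {a3, b3}

theorem a3_mem : a3 ∈ P3 := subset_closure (by simp)
theorem b3_mem : b3 ∈ P3 := subset_closure (by simp)

theorem card_P3_ge : 9 ≤ Nat.card P3 := by
  have h := card_ge_of_words Uid chk_id sbase sbase_lt gT3 gG3 gRep3 P3 ?_ words3 words3_inc
  · rwa [words3_length] at h
  · intro g hg
    simp only [gG3, List.mem_cons, List.not_mem_nil, or_false] at hg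
    rcases hg with rfl | rfl
    · exact a3_mem
    · exact b3_mem

theorem card_P3_le : Nat.card P3 ≤ 9 := by
  have h1 : Nat.card (closure ({b3} : Set HG)) ≤ 3 := card_closure_singleton_cube_le b3_cube
  have h2 : Nat.card (closure (insert a3 ({b3} : Set HG))) ≤
      3 * Nat.card (closure ({b3} : Set HG)) := by
    apply card_closure_insert_cube_le a3_cube
    intro x hx
    rw [Set.mem_singleton_iff] at hx
    subst hx
    exact a3_b3
  show Nat.card (closure ({a3, b3} : Set HG)) ≤ 9
  omega

theorem card_P3 : Nat.card P3 = 9 := le_antisymm card_P3_le card_P3_ge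

theorem P3_index : ¬ 3 ∣ P3.index := by
  have h1 := Subgroup.card_mul_index P3
  rw [card_P3, card_HG] at h1
  have : P3.index = 2240 := by omega
  rw [this]
  norm_num

theorem card_one_of_all {Γ : Type*} [Group Γ] (K : Subgroup Γ) (hall : ∀ z ∈ K, z = 1) :
    Nat.card K = 1 := by
  rw [Nat.card_eq_one_iff_unique]
  refine ⟨⟨fun a b => ?_⟩, ⟨1⟩⟩
  apply Subtype.ext
  rw [hall a a.2, hall b b.2]

/-- in a stem extension with kernel of order three the lifts of the two generators of the Sylow
`3`-subgroup do not commute -/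
theorem not_comm_three {Γ : Type*} [Group Γ] [Finite Γ] (σ : Γ →* HG)
    (hσ : Cfsg.IsStemExtension σ) (hcard : Nat.card σ.ker = 3) : ¬ QComm σ a3 b3 := by
  intro hq
  obtain ⟨hsurj, hcen, hder⟩ := hσ
  have hk3 : ∀ κ ∈ σ.ker, κ ^ 3 = 1 := by
    intro κ hκ
    have := pow_card_eq_one' (G := σ.ker) (x := ⟨κ, hκ⟩)
    rw [hcard] at this
    exact congrArg Subtype.val this
  obtain ⟨X, hX⟩ := hsurj a3
  obtain ⟨Y, hY⟩ := hsurj b3
  have hXY : X * Y = Y * X := hq X Y hX hY
  have hS := comm_comap_trivial_of_comm_lifts σ hcen hX hY hXY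
  have : Fact (Nat.Prime 3) := ⟨by norm_num⟩
  have hall : ∀ z ∈ σ.ker, z = 1 := by
    intro z hz
    exact stem_no_prime_of_subgroup σ hsurj hcen hder P3 P3_index (fun w hw _ => hS w hw) hz
      (hk3 z hz)
  have := card_one_of_all σ.ker hall
  omega

/-- no stem extension has a kernel of prime order at least five -/
theorem no_stem_other (p : ℕ) (hpP : p.Prime) (hp2 : p ≠ 2) (hp3 : p ≠ 3) {Γ : Type*} [Group Γ]
    [Finite Γ] (σ : Γ →* HG) (hσ : Cfsg.IsStemExtension σ) : Nat.card σ.ker ≠ p := by
  intro hcardp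
  obtain ⟨hsurj, hcen, hder⟩ := hσ
  have hcard := card_HG
  have : Fact p.Prime := ⟨hpP⟩
  obtain ⟨Rr⟩ : Nonempty (Sylow p HG) := inferInstance
  have hcyc : IsCyclic (Rr : Subgroup HG) := by
    obtain ⟨j, hj⟩ := IsPGroup.iff_card.mp Rr.2
    have hdvd : p ^ j ∣ 20160 := by
      rw [← hj, ← hcard]
      exact Subgroup.card_subgroup_dvd_card _
    have hj1 : j ≤ 1 := by
      by_contra hlt
      push Not at hlt
      have h2 : p ^ 2 ∣ 20160 := dvd_trans (pow_dvd_pow p hlt) hdvd
      have e : (20160 : ℕ) = 2 ^ 6 * 3 ^ 2 * 5 * 7 := by norm_num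
      rw [e] at h2
      have hpd : p ∣ 2 ^ 6 * 3 ^ 2 * 5 * 7 :=
        dvd_trans (dvd_pow_self p (by norm_num)) h2
      have hcases : p = 2 ∨ p = 3 ∨ p = 5 ∨ p = 7 := by
        rcases (Nat.Prime.dvd_mul hpP).mp hpd with h | h
        · rcases (Nat.Prime.dvd_mul hpP).mp h with h | h
          · rcases (Nat.Prime.dvd_mul hpP).mp h with h | h
            · left
              exact (Nat.prime_dvd_prime_iff_eq hpP Nat.prime_two).mp (hpP.dvd_of_dvd_pow h)
            · right; left
              exact (Nat.prime_dvd_prime_iff_eq hpP Nat.prime_three).mp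
                (hpP.dvd_of_dvd_pow h)
          · right; right; left
            exact (Nat.prime_dvd_prime_iff_eq hpP (by norm_num)).mp h
        · right; right; right
          exact (Nat.prime_dvd_prime_iff_eq hpP (by norm_num)).mp h
      rcases hcases with rfl | rfl | rfl | rfl
      · exact hp2 rfl
      · exact hp3 rfl
      · revert h2; norm_num
      · revert h2; norm_num
    interval_cases j
    · rw [pow_zero] at hj
      have : Subsingleton (Rr : Subgroup HG) :=
        (Nat.card_eq_one_iff_unique.mp hj).1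
      exact isCyclic_of_subsingleton
    · rw [pow_one] at hj
      exact isCyclic_of_prime_card hj
  have hind : ¬ p ∣ (Rr : Subgroup HG).index := Sylow.not_dvd_index Rr
  have hall : ∀ z ∈ σ.ker, z = 1 := by
    intro z hz
    have hzp : z ^ p = 1 := by
      have := pow_card_eq_one' (G := σ.ker) (x := ⟨z, hz⟩)
      rw [hcardp] at this
      exact congrArg Subtype.val this
    refine stem_no_prime_of_subgroup σ hsurj hcen hder (Rr : Subgroup HG) hind ?_
      hz hzp
    intro w hw _
    exact comm_comap_trivial_of_cyclic σ hcen (Rr : Subgroup HG) w hw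
  have := card_one_of_all σ.ker hall
  rw [this] at hcardp
  exact hpP.one_lt.ne hcardp

/-- the kernel of every finite stem extension of the group on 21 points is a quotient of the product
of cyclic groups of orders three, four and four -/
theorem hg_ker_quot {Γ : Type*} [Group Γ] [Finite Γ] (σ : Γ →* HG)
    (hσ : Cfsg.IsStemExtension σ) :
    ∃ π : Multiplicative (ZMod 3 × ZMod 4 × ZMod 4) →* σ.ker, Function.Surjective π := by
  have hy1 : y1 ^ 4 = 1 := by
    rw [← y1_four]; simp [pow_succ, mul_assoc]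
  have hy2 : y2 ^ 4 = 1 := by
    rw [← y2_four]; simp [pow_succ, mul_assoc]
  have hb3 : b3 ^ 3 = 1 := by
    rw [← b3_cube, pow_succ, pow_two]
  refine ker_quot_of_noncomm_three 2 3 4 4 3 x1 y1 x2 y2 a3 b3 x1_y1 hy1 x2_y2 hy2 a3_b3 hb3
    ?_ ?_ ?_ σ hσ
  · intro p hp hp2 hp3 Γ' _ _ σ' hσ'
    exact no_stem_other p hp hp2 hp3 σ' hσ'
  · intro Γ' _ _ σ' hσ' hc
    exact not_both_comm σ' hσ' hc
  · intro Γ' _ _ σ' hσ' hc
    exact not_comm_three σ' hσ' hc

end Cfsg.Agent.Lib.Helper5.L34M
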