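import Mathlib
import Cfsg.Agent.Lib.Lead.F4c
import Cfsg.Agent.Lib.Lead.SLn
import Cfsg.Agent.Lib.Helper5.L34A

set_option autoImplicit false
set_option maxRecDepth 1000000

/-! The projective special linear group of degree three over a field with four elements is
isomorphic to the group of permutations of the 21 projective points generated by the 18
transvections. -/

namespace Cfsg.Agent.Lib.Helper5.L34M

open Cfsg Cfsg.Agent.Lib.helper23 Cfsg.Agent.Lib.Lead.F4 Matrix Subgroup
open scoped LinearAlgebra.Projectivization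

/-- the vectors over the field with four elements -/
abbrev V4 : Type := Fin 3 → F4c

/-- the number of an element of the field -/
def n4 : F4c → ℕ
  | .z => 0
  | .o => 1
  | .w => 2
  | .v => 3

/-- the element of the field of a number -/
def f4 (a : ℕ) : F4c :=
  match a with
  | 0 => .z
  | 1 => .o
  | 2 => .w
  | _ => .v

/-- the code of a vector -/
def codeV (x : V4) : ℕ := n4 (x 0) + 4 * n4 (x 1) + 16 * n4 (x 2)

/-- the vector of a code -/
def decodeV (a : ℕ) : V4 := ![f4 (a % 4), f4 (a / 4 % 4), f4 (a / 16 % 4)]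

/-- the leading coefficient of a vector -/
def lead (x : V4) : F4c := if x 0 ≠ 0 then x 0 else if x 1 ≠ 0 then x 1 else x 2

/-- the normalised multiple of a vector -/
def nrm (x : V4) : V4 := (lead x)⁻¹ • x

/-- the codes of the points -/
def ptList : List ℕ :=
  [1, 4, 5, 9, 13, 16, 17, 20, 21, 25, 29, 33, 36, 37, 41, 45, 49, 52, 53, 57, 61]

/-- the number of the point of a vector -/
def ptIdx (x : V4) : ℕ := ptList.idxOf (codeV (nrm x))

/-- the vector of a point -/
def ptVec (k : ℕ) : V4 := decodeV (ptList.getD k 1)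

theorem vec_eta (x : V4) : x = ![x 0, x 1, x 2] := by
  funext i
  fin_cases i <;> rfl

theorem idx_lt_chk : ∀ a b c : F4c, ![a, b, c] ≠ 0 → ptIdx ![a, b, c] < 21 := by
  decide +kernel

theorem idx_smul_chk : ∀ a b c t : F4c, t ≠ 0 → ptIdx (t • ![a, b, c]) = ptIdx ![a, b, c] := by
  decide +kernel

theorem vec_idx_chk : ∀ a b c : F4c, ![a, b, c] ≠ 0 →
    lead ![a, b, c] • ptVec (ptIdx ![a, b, c]) = ![a, b, c] := by
  decide +kernel

theorem idx_vec_chk : ∀ k : Fin 21, ptIdx (ptVec k.1) = k.1 ∧ ptVec k.1 ≠ 0 := by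
  decide +kernel

theorem ptIdx_lt (x : V4) (hx : x ≠ 0) : ptIdx x < 21 := by
  rw [vec_eta x] at hx ⊢
  exact idx_lt_chk _ _ _ hx

theorem ptIdx_smul (x : V4) (t : F4c) (ht : t ≠ 0) : ptIdx (t • x) = ptIdx x := by
  rw [vec_eta x]
  exact idx_smul_chk _ _ _ t ht

theorem lead_ne (x : V4) (hx : x ≠ 0) : lead x ≠ 0 := by
  unfold lead
  by_cases h0 : x 0 = 0
  · by_cases h1 : x 1 = 0
    · have h2 : x 2 ≠ 0 := by
        intro h2
        apply hx
        funext i
        fin_cases i
        · exact h0
        · exact h1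
        · exact h2
      rw [if_neg (not_not.mpr h0), if_neg (not_not.mpr h1)]
      exact h2
    · rw [if_neg (not_not.mpr h0), if_pos h1]
      exact h1
  · rw [if_pos h0]
    exact h0

theorem ptVec_ptIdx (x : V4) (hx : x ≠ 0) : lead x • ptVec (ptIdx x) = x := by
  rw [vec_eta x] at hx ⊢
  exact vec_idx_chk _ _ _ hx

theorem ptIdx_ptVec (k : ℕ) (hk : k < 21) : ptIdx (ptVec k) = k := (idx_vec_chk ⟨k, hk⟩).1

theorem ptVec_ne (k : ℕ) (hk : k < 21) : ptVec k ≠ 0 := (idx_vec_chk ⟨k, hk⟩).2

/-- the numbering of the projective points -/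
noncomputable def ptE : ℙ F4c V4 ≃ Fin 21 where
  toFun x := ⟨ptIdx x.rep, ptIdx_lt _ x.rep_nonzero⟩
  invFun k := Projectivization.mk F4c (ptVec k.1) (ptVec_ne k.1 k.2)
  left_inv x := by
    conv_rhs => rw [← Projectivization.mk_rep x]
    rw [Projectivization.mk_eq_mk_iff']
    refine ⟨(lead x.rep)⁻¹, ?_⟩
    have h := ptVec_ptIdx x.rep x.rep_nonzero
    show (lead x.rep)⁻¹ • x.rep = ptVec (ptIdx x.rep)
    have h2 : (lead x.rep)⁻¹ • (lead x.rep • ptVec (ptIdx x.rep)) = ptVec (ptIdx x.rep) := by
      rw [smul_smul, inv_mul_cancel₀ (lead_ne _ x.rep_nonzero), one_smul]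
    rw [h] at h2
    exact h2
  right_inv k := by
    apply Fin.ext
    show ptIdx (Projectivization.mk F4c (ptVec k.1) (ptVec_ne k.1 k.2)).rep = k.1
    obtain ⟨a, ha⟩ := (Projectivization.mk_eq_mk_iff' F4c _ _
      (Projectivization.rep_nonzero _) (ptVec_ne k.1 k.2)).mp
      (Projectivization.mk_rep (Projectivization.mk F4c (ptVec k.1) (ptVec_ne k.1 k.2)))
    have ha0 : a ≠ 0 := by
      intro h0
      rw [h0, zero_smul] at ha
      exact Projectivization.rep_nonzero _ ha.symm
    rw [← ha, ptIdx_smul _ a ha0, ptIdx_ptVec k.1 k.2]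

theorem ptE_mk (x : V4) (hx : x ≠ 0) : (ptE (Projectivization.mk F4c x hx)).1 = ptIdx x := by
  show ptIdx (Projectivization.mk F4c x hx).rep = ptIdx x
  obtain ⟨a, ha⟩ := (Projectivization.mk_eq_mk_iff' F4c _ _
    (Projectivization.rep_nonzero _) hx).mp
    (Projectivization.mk_rep (Projectivization.mk F4c x hx))
  have ha0 : a ≠ 0 := by
    intro h0
    rw [h0, zero_smul] at ha
    exact Projectivization.rep_nonzero _ ha.symm
  rw [← ha, ptIdx_smul _ a ha0]

/-! ### the action -/

/-- the special linear group over the field with four elements -/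
abbrev SLK : Type := Matrix.SpecialLinearGroup (Fin 3) F4c

/-- the projective special linear group over the field with four elements -/
abbrev PSLK : Type := Matrix.ProjectiveSpecialLinearGroup (Fin 3) F4c

/-- the action on the numbers of the points -/
noncomputable def rho : PSLK →* Equiv.Perm (Fin 21) :=
  (ptE.permCongrHom).toMonoidHom.comp Projectivization.PSLAction.toPermHom

theorem rho_injective : Function.Injective rho := by
  intro a b h
  apply Matrix.ProjectiveSpecialLinearGroup.toPermHom_injective
  exact (ptE.permCongrHom).injective h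

theorem rho_apply (A : SLK) (k : Fin 21) :
    ((rho (QuotientGroup.mk A)) k).1 = ptIdx (A.1 *ᵥ ptVec k.1) := by
  show (ptE ((A : PSLK) • (ptE.symm k))).1 = _
  have e1 : ptE.symm k = Projectivization.mk F4c (ptVec k.1) (ptVec_ne k.1 k.2) := rfl
  rw [e1, Matrix.ProjectiveSpecialLinearGroup.smul_proj_mk, Projectivization.smul_mk, ptE_mk]
  rfl

theorem transvection_mulVec (i j : Fin 3) (c : F4c) (x : V4) :
    (Matrix.transvection i j c) *ᵥ x = Function.update x i (x i + c * x j) := by
  unfold Matrix.transvection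
  rw [Matrix.add_mulVec, Matrix.one_mulVec]
  funext k
  by_cases hk : k = i
  · subst hk
    simp [Matrix.mulVec, dotProduct, Matrix.single_apply]
  · simp [Matrix.mulVec, dotProduct, Function.update_of_ne hk, Ne.symm hk]

/-- the generator of index `k`, as a pair of lookups -/
def bG (k : ℕ) : PFun := lbL1.own.getD k PFun.one

theorem bG_ok (k : ℕ) : (bG k).ok 21 = true := pgGetD_ok lbok k

/-- the index of a transvection -/
def trIdx (i j : Fin 3) (c : F4c) : ℕ :=
  3 * (2 * i.1 + (if j.1 < i.1 then j.1 else j.1 - 1)) + (n4 c - 1)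

theorem tr_chk : ∀ i j : Fin 3, i ≠ j → ∀ c : F4c, c ≠ 0 → ∀ k : Fin 21,
    ptIdx (Function.update (ptVec k.1) i (ptVec k.1 i + c * ptVec k.1 j)) =
      (bG (trIdx i j c)).f k.1 := by
  decide +kernel

theorem tr_surj_chk : ∀ k : Fin 18, ∃ i j : Fin 3, ∃ c : F4c, i ≠ j ∧ c ≠ 0 ∧ trIdx i j c = k.1 := by
  decide +kernel

theorem rho_transvection (i j : Fin 3) (hij : i ≠ j) (c : F4c) (hc : c ≠ 0) :
    rho (QuotientGroup.mk (Matrix.SpecialLinearGroup.transvection hij c)) =
      (bG (trIdx i j c)).perm 21 := by
  apply Equiv.ext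
  intro k
  apply Fin.ext
  rw [rho_apply, PFun.perm_apply (bG_ok _)]
  show ptIdx ((Matrix.transvection i j c) *ᵥ ptVec k.1) = _
  rw [transvection_mulVec]
  exact tr_chk i j hij c hc k

theorem rho_mem (x : PSLK) : rho x ∈ H21 := by
  induction x using QuotientGroup.induction_on with
  | H A =>
    have htop : A ∈ (⊤ : Subgroup SLK) := Subgroup.mem_top A
    rw [← Cfsg.Agent.Lib.Lead.SL_closure_transvections] at htop
    induction htop using Subgroup.closure_induction with
    | mem B hB =>
      obtain ⟨i, j, hij, c, rfl⟩ := hB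
      by_cases hc : c = 0
      · subst hc
        rw [Matrix.SpecialLinearGroup.transvection_coeff_zero]
        have : ((1 : SLK) : PSLK) = 1 := rfl
        rw [this, map_one]
        exact one_mem _
      · rw [rho_transvection i j hij c hc]
        exact pgGetD_mem _
    | one =>
      have : ((1 : SLK) : PSLK) = 1 := rfl
      rw [this, map_one]
      exact one_mem _
    | mul x y _ _ hx hy =>
      have : ((x * y : SLK) : PSLK) = (x : PSLK) * (y : PSLK) := rfl
      rw [this, map_mul]
      exact mul_mem hx hy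
    | inv x _ hx =>
      have : ((x⁻¹ : SLK) : PSLK) = (x : PSLK)⁻¹ := rfl
      rw [this, map_inv]
      exact inv_mem hx

/-- the action, into the group on 21 points -/
noncomputable def rhoH : PSLK →* HG := rho.codRestrict H21 rho_mem

theorem rhoH_coe (x : PSLK) : ((rhoH x : HG) : Equiv.Perm (Fin 21)) = rho x := rfl

theorem rhoH_inj : Function.Injective rhoH := by
  intro a b h
  apply rho_injective
  rw [← rhoH_coe, ← rhoH_coe, h]

theorem rhoH_surj : Function.Surjective rhoH := by
  rintro ⟨y, hy⟩
  have key : ∀ y (hy : y ∈ H21), ∃ x : PSLK, rho x = y := by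
    intro y hy
    induction hy using Subgroup.closure_induction with
    | mem y hy =>
      obtain ⟨P, hP, rfl⟩ := hy
      obtain ⟨k, hk, rfl⟩ := List.mem_iff_getElem.mp hP
      have hk' : k < 18 := hk
      obtain ⟨i, j, c, hij, hc, hidx⟩ := tr_surj_chk ⟨k, hk'⟩
      refine ⟨QuotientGroup.mk (Matrix.SpecialLinearGroup.transvection hij c), ?_⟩
      rw [rho_transvection i j hij c hc, hidx]
      show (bG k).perm 21 = _
      unfold bG
      rw [List.getD_eq_getElem _ _ hk]
    | one => exact ⟨1, map_one _⟩
    | mul a b ha hb iha ihb =>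
      obtain ⟨γ, hγ⟩ := iha
      obtain ⟨δ, hδ⟩ := ihb
      exact ⟨γ * δ, by rw [map_mul, hγ, hδ]⟩
    | inv a ha iha =>
      obtain ⟨γ, hγ⟩ := iha
      exact ⟨γ⁻¹, by rw [map_inv, hγ]⟩
  obtain ⟨x, hx⟩ := key y hy
  exact ⟨x, Subtype.ext hx⟩

/-- the projective special linear group over the field with four elements is the group on 21
points -/
noncomputable def isoK : PSLK ≃* HG := MulEquiv.ofBijective rhoH ⟨rhoH_inj, rhoH_surj⟩

/-! ### change of field -/

section field

variable {R S : Type*} [CommRing R] [CommRing S]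

/-- special linear groups over isomorphic rings -/
noncomputable def slCongr (e : R ≃+* S) :
    Matrix.SpecialLinearGroup (Fin 3) R ≃* Matrix.SpecialLinearGroup (Fin 3) S where
  toFun := Matrix.SpecialLinearGroup.map e.toRingHom
  invFun := Matrix.SpecialLinearGroup.map e.symm.toRingHom
  left_inv := by
    intro A
    ext i j
    show e.symm (e ((A : Matrix (Fin 3) (Fin 3) R) i j)) = _
    simp
  right_inv := by
    intro A
    ext i j
    show e (e.symm ((A : Matrix (Fin 3) (Fin 3) S) i j)) = _
    simp
  map_mul' := fun A B => map_mul _ A B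

theorem map_center_equiv {A B : Type*} [Group A] [Group B] (e : A ≃* B) :
    (Subgroup.center A).map e.toMonoidHom = Subgroup.center B := by
  ext x
  rw [Subgroup.mem_map, Subgroup.mem_center_iff]
  constructor
  · rintro ⟨a, ha, rfl⟩ g
    rw [Subgroup.mem_center_iff] at ha
    obtain ⟨g', rfl⟩ := e.surjective g
    show e g' * e a = e a * e g'
    rw [← map_mul, ← map_mul, ha g']
  · intro hx
    refine ⟨e.symm x, ?_, by simp⟩
    rw [Subgroup.mem_center_iff]
    intro g
    apply e.injective
    rw [map_mul, map_mul, e.apply_symm_apply]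
    exact hx (e g)

/-- projective special linear groups over isomorphic rings -/
noncomputable def pslCongr (e : R ≃+* S) :
    Matrix.ProjectiveSpecialLinearGroup (Fin 3) R ≃*
      Matrix.ProjectiveSpecialLinearGroup (Fin 3) S :=
  QuotientGroup.congr _ _ (slCongr e) (map_center_equiv (slCongr e))

end field

universe u

theorem card_F4c' : Fintype.card F4c = 4 := by decide

/-- the projective special linear group of degree three over a field with four elements is the
group on 21 points -/
theorem exists_iso {F : Type u} [Field F] [Fintype F] (hF : Fintype.card F = 4) :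
    Nonempty (Matrix.ProjectiveSpecialLinearGroup (Fin 3) F ≃* HG) := by
  have hcard : Fintype.card F = Fintype.card F4c := by rw [hF, card_F4c']
  let e : F ≃+* F4c := FiniteField.ringEquivOfCardEq hcard
  exact ⟨(pslCongr e).trans isoK⟩

end Cfsg.Agent.Lib.Helper5.L34M
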