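import Mathlib
import Cfsg.Agent.Lib.Helper5.L34Iso
import Cfsg.Agent.Lib.Helper5.L34E
import Cfsg.Agent.Lib.Helper5.L34CovMain
import Cfsg.Agent.Lib.Helper5.StemX

set_option autoImplicit false

/-! The Schur multiplier of the projective special linear group of degree three over a field with
four elements is the product of cyclic groups of orders three, four and four. -/

namespace Cfsg.Agent.Lib.Helper5.L34M

open Cfsg Cfsg.Agent.Lib.Helper5.Stem

universe u

theorem l34_multiplier {F : Type u} [Field F] [Fintype F] (hF : Fintype.card F = 4) :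
    Cfsg.HasSchurMultiplier (Matrix.ProjectiveSpecialLinearGroup (Fin 3) F)
      (Multiplicative (ZMod 3 × ZMod 4 × ZMod 4)) := by
  obtain ⟨e⟩ := exists_iso hF
  apply hasSchurMultiplier_of_equiv e
  · exact Cfsg.Agent.Lib.Helper5.L34Cov.exists_stem_HG
  · intro Γ _ _ σ hσ
    exact hg_ker_quot σ hσ

end Cfsg.Agent.Lib.Helper5.L34M
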