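import Mathlib
import Cfsg.Agent.Lib.Helper5.L34Main
import Cfsg.Agent.Lib.Helper5.StemZ
import Cfsg.Agent.Lib.Lead.SLn
import Cfsg.Prelude.Def_CaseTheorems

set_option autoImplicit false

/-! Quasisimple groups with centre a four-group and central quotient the projective special linear
group of degree three over a field with four elements are all isomorphic. -/

namespace Cfsg.Agent.Lib.Helper5.L34M

open Cfsg Cfsg.Agent.Lib.Helper5.Stem Cfsg.Agent.Lib.Helper5.L34Cov Subgroup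

universe u v

/-- a stem extension of a perfect group is perfect -/
theorem perfect_of_stem {Γ G : Type*} [Group Γ] [Group G] (σ : Γ →* G)
    (hσ : Cfsg.IsStemExtension σ) [hG : Group.IsPerfect G] : Group.IsPerfect Γ := by
  obtain ⟨hs, -, hd⟩ := hσ
  constructor
  rw [eq_top_iff]
  intro x _
  have h1 : σ x ∈ (commutator Γ).map σ := by
    rw [commutator_def, Subgroup.map_commutator, ← MonoidHom.range_eq_map,
      MonoidHom.range_eq_top_of_surjective _ hs, ← commutator_def, hG.commutator_eq_top]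
    trivial
  obtain ⟨k, hk, hkx⟩ := h1
  have h2 : x * k⁻¹ ∈ σ.ker := by
    rw [MonoidHom.mem_ker, map_mul, map_inv, hkx, mul_inv_cancel]
  have h3 : x = (x * k⁻¹) * k := by group
  rw [h3]
  exact mul_mem (hd h2) hk

instance SLK_perfect : Group.IsPerfect SLK :=
  ⟨Cfsg.Agent.Lib.Lead.SL_commutator_eq_top (by simp)⟩

instance HG_perfect : Group.IsPerfect HG :=
  Group.IsPerfect.ofSurjective (f := isoK.toMonoidHom) isoK.surjective

instance Cov_perfect : Group.IsPerfect Cov := perfect_of_stem sig sig_stem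

theorem card_A : Nat.card (Multiplicative (ZMod 3 × ZMod 4 × ZMod 4)) = 48 := by
  show Nat.card (ZMod 3 × ZMod 4 × ZMod 4) = 48
  rw [Nat.card_prod, Nat.card_prod, Nat.card_zmod, Nat.card_zmod]

theorem sig_max (D : Type u) [Group D] [Finite D] (ρ : D →* HG) (hρ : Cfsg.IsStemExtension ρ) :
    Nat.card ρ.ker ≤ Nat.card sig.ker := by
  obtain ⟨π, hπ⟩ := hg_ker_quot ρ hρ
  have : Finite (Multiplicative (ZMod 3 × ZMod 4 × ZMod 4)) :=
    Nat.finite_of_card_ne_zero (by rw [card_A]; norm_num)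
  have := Nat.card_le_card_of_surjective π hπ
  rw [card_A] at this
  rw [card_ker_sig]
  exact this

/-- the kernel of a homomorphism from the covering group onto a central extension by a four-group -/
theorem ker_of_cover {L : Type u} [Group L] [Finite L] (φ : Cov →* L)
    (hφ : Function.Surjective φ) (σ : L →* HG) (hcompat : ∀ c, σ (φ c) = sig c)
    (hc : Nat.card σ.ker = 4) (he : ∀ x ∈ σ.ker, x * x = 1) :
    φ.ker = closure {z3, za ^ 2, zb ^ 2} := by
  have hσs : Function.Surjective σ := by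
    intro y
    obtain ⟨c, hc⟩ := sig_surj y
    exact ⟨φ c, by rw [hcompat, hc]⟩
  have hmem : ∀ z ∈ sig.ker, φ z ∈ σ.ker := by
    intro z hz
    rw [MonoidHom.mem_ker, hcompat]
    exact hz
  have h3 : z3 ∈ φ.ker := by
    rw [MonoidHom.mem_ker]
    have h1 := he _ (hmem z3 z3_ker)
    have h2 : φ z3 ^ 3 = 1 := by rw [← map_pow, z3_pow, map_one]
    calc φ z3 = φ z3 ^ 3 * (φ z3 * φ z3)⁻¹ := by group
      _ = 1 := by rw [h2, h1]; group
  have ha : za ^ 2 ∈ φ.ker := by
    rw [MonoidHom.mem_ker, map_pow, pow_two]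
    exact he _ (hmem za za_ker)
  have hb : zb ^ 2 ∈ φ.ker := by
    rw [MonoidHom.mem_ker, map_pow, pow_two]
    exact he _ (hmem zb zb_ker)
  have hcardL : Nat.card L = 80640 := by
    have h1 := Subgroup.card_eq_card_quotient_mul_card_subgroup σ.ker
    have e := QuotientGroup.quotientKerEquivOfSurjective σ hσs
    rw [Nat.card_congr e.toEquiv, card_HG, hc] at h1
    omega
  have hcardK : Nat.card φ.ker = 3 * 2 * 2 := by
    have h1 := Subgroup.card_eq_card_quotient_mul_card_subgroup φ.ker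
    have e := QuotientGroup.quotientKerEquivOfSurjective φ hφ
    rw [Nat.card_congr e.toEquiv, Cov_card, hcardL] at h1
    omega
  have hinj : ∀ a b c : ℕ, a < 3 → b < 2 → c < 2 →
      z3 ^ a * ((za ^ 2) ^ b * (zb ^ 2) ^ c) = 1 → a = 0 ∧ b = 0 ∧ c = 0 := by
    intro a b c ha hb hc h
    rw [← pow_mul, ← pow_mul] at h
    obtain ⟨h1, h2, h3⟩ := indep a (2 * b) (2 * c) ha (by omega) (by omega) h
    exact ⟨h1, by omega, by omega⟩
  have hstruct := ker_equiv_of_three φ 3 2 2 z3 (za ^ 2) (zb ^ 2) h3 ha hb z3_central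
    (pow_mem za_central _) (pow_mem zb_central _) z3_pow
    (by rw [← pow_mul]; exact za_pow) (by rw [← pow_mul]; exact zb_pow) hinj hcardK
  apply le_antisymm
  · intro x hx
    obtain ⟨a, b, c, rfl⟩ := hstruct.1 x hx
    have m3 : z3 ∈ closure ({z3, za ^ 2, zb ^ 2} : Set Cov) := subset_closure (by simp)
    have ma : za ^ 2 ∈ closure ({z3, za ^ 2, zb ^ 2} : Set Cov) := subset_closure (by simp)
    have mb : zb ^ 2 ∈ closure ({z3, za ^ 2, zb ^ 2} : Set Cov) := subset_closure (by simp)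
    exact mul_mem (pow_mem m3 _) (mul_mem (pow_mem ma _) (pow_mem mb _))
  · rw [closure_le]
    intro x hx
    rcases hx with rfl | rfl | hx
    · exact h3
    · exact ha
    · rw [Set.mem_singleton_iff] at hx
      subst hx
      exact hb

/-- any two central extensions of the group on 21 points by a four-group which are perfect are
isomorphic -/
theorem iso_of_covers {L₁ : Type u} {L₂ : Type v} [Group L₁] [Finite L₁] [Group L₂] [Finite L₂]
    [Group.IsPerfect L₁] [Group.IsPerfect L₂]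
    (σ₁ : L₁ →* HG) (σ₂ : L₂ →* HG) (hs₁ : Function.Surjective σ₁) (hs₂ : Function.Surjective σ₂)
    (hk₁ : σ₁.ker ≤ center L₁) (hk₂ : σ₂.ker ≤ center L₂)
    (hc₁ : Nat.card σ₁.ker = 4) (hc₂ : Nat.card σ₂.ker = 4)
    (he₁ : ∀ x ∈ σ₁.ker, x * x = 1) (he₂ : ∀ x ∈ σ₂.ker, x * x = 1) : Nonempty (L₁ ≃* L₂) := by
  obtain ⟨φ₁, hφ₁, hcp₁⟩ := exists_cover_hom sig sig_stem (fun D _ _ ρ hρ => sig_max D ρ hρ)
    σ₁ hs₁ hk₁
  obtain ⟨φ₂, hφ₂, hcp₂⟩ := exists_cover_hom sig sig_stem (fun D _ _ ρ hρ => sig_max D ρ hρ)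
    σ₂ hs₂ hk₂
  have h1 := ker_of_cover φ₁ hφ₁ σ₁ hcp₁ hc₁ he₁
  have h2 := ker_of_cover φ₂ hφ₂ σ₂ hcp₂ hc₂ he₂
  have heq : φ₁.ker = φ₂.ker := h1.trans h2.symm
  have e1 := QuotientGroup.quotientKerEquivOfSurjective φ₁ hφ₁
  have e2 := QuotientGroup.quotientKerEquivOfSurjective φ₂ hφ₂
  exact ⟨(e1.symm.trans (QuotientGroup.quotientMulEquivOfEq heq)).trans e2⟩

/-- the statement for quasisimple groups -/
theorem l34_four_unique {L₁ : Type u} {L₂ : Type v} [Group L₁] [Finite L₁] [Group L₂] [Finite L₂]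
    (F : Type) [Field F] [Fintype F] (hF : Fintype.card F = 4)
    (h₁ : Cfsg.IsQuasisimple L₁) (h₂ : Cfsg.IsQuasisimple L₂)
    (hc₁ : Nat.card (Subgroup.center L₁) = 4) (hc₂ : Nat.card (Subgroup.center L₂) = 4)
    (he₁ : ∀ x ∈ Subgroup.center L₁, x * x = 1) (he₂ : ∀ x ∈ Subgroup.center L₂, x * x = 1)
    (e₁ : L₁ ⧸ Subgroup.center L₁ ≃* Matrix.ProjectiveSpecialLinearGroup (Fin 3) F)
    (e₂ : L₂ ⧸ Subgroup.center L₂ ≃* Matrix.ProjectiveSpecialLinearGroup (Fin 3) F) :
    Nonempty (L₁ ≃* L₂) := by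
  obtain ⟨e⟩ := exists_iso hF
  have : Group.IsPerfect L₁ := h₁.1
  have : Group.IsPerfect L₂ := h₂.1
  set σ₁ : L₁ →* HG := (e₁.trans e).toMonoidHom.comp (QuotientGroup.mk' (Subgroup.center L₁))
    with hσ₁
  set σ₂ : L₂ →* HG := (e₂.trans e).toMonoidHom.comp (QuotientGroup.mk' (Subgroup.center L₂))
    with hσ₂
  have k₁ : σ₁.ker = Subgroup.center L₁ := by
    ext x
    rw [MonoidHom.mem_ker, hσ₁, MonoidHom.comp_apply]
    show (e₁.trans e) _ = 1 ↔ _
    rw [MulEquiv.map_eq_one_iff, QuotientGroup.mk'_apply, QuotientGroup.eq_one_iff]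
  have k₂ : σ₂.ker = Subgroup.center L₂ := by
    ext x
    rw [MonoidHom.mem_ker, hσ₂, MonoidHom.comp_apply]
    show (e₂.trans e) _ = 1 ↔ _
    rw [MulEquiv.map_eq_one_iff, QuotientGroup.mk'_apply, QuotientGroup.eq_one_iff]
  refine iso_of_covers σ₁ σ₂ ?_ ?_ (le_of_eq k₁) (le_of_eq k₂) (by rw [k₁]; exact hc₁)
    (by rw [k₂]; exact hc₂) (by rw [k₁]; exact he₁) (by rw [k₂]; exact he₂)
  · exact (e₁.trans e).surjective.comp (QuotientGroup.mk'_surjective _)
  · exact (e₂.trans e).surjective.comp (QuotientGroup.mk'_surjective _)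

end Cfsg.Agent.Lib.Helper5.L34M
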