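import Mathlib
import Cfsg.Agent.Lib.helper4.OutM12

set_option autoImplicit false

/-! explicit tables of elements of the stabiliser of the dodecad of squares used for the multiplier computation -/

namespace Cfsg.Agent.Lib.Helper5.M12M

open Cfsg.Agent.Lib.helper4 Cfsg.Agent.Lib.Helper12.Golay

def tA1 : List ℕ := [1,0,3,2,6,5,12,22,18,4,11,7,9,8,14,20,13,17,16,21,19,15,10,23]
def tA2 : List ℕ := [3,2,0,1,12,23,9,7,18,6,10,11,4,8,17,21,13,5,16,20,15,19,22,14]
def tK : List ℕ := [6,9,4,12,8,22,18,21,2,13,20,15,16,1,11,14,3,10,0,5,17,23,19,7]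
def tC : List ℕ := [3,2,1,0,9,17,12,11,13,4,22,7,6,8,23,21,18,5,16,20,19,15,10,14]
def tS : List ℕ := [2,3,0,1,18,14,8,20,6,16,21,19,13,12,5,22,9,23,4,11,7,10,15,17]
def tE1 : List ℕ := [2,3,0,1,4,17,9,7,8,6,10,22,12,18,23,15,16,5,13,19,21,20,11,14]
def tE2 : List ℕ := [2,3,0,1,12,17,6,10,16,9,7,11,4,13,23,19,8,5,18,15,20,21,22,14]
def tE3 : List ℕ := [3,2,1,0,4,23,9,7,16,6,10,22,12,13,17,19,8,14,18,15,20,21,11,5]
def tX : List ℕ := [16,13,4,6,8,7,9,15,2,3,17,23,1,12,19,5,18,21,0,20,14,10,11,22]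
def tY : List ℕ := [0,13,2,8,9,5,6,7,18,16,17,21,1,12,23,15,4,19,3,10,14,22,11,20]
def tT : List ℕ := [0,1,2,9,8,15,6,7,4,3,17,22,13,12,20,5,18,10,16,19,14,21,11,23]
def tW : List ℕ := [6,1,0,8,16,5,2,7,18,4,22,14,12,13,17,15,9,11,3,21,10,23,20,19]
def tQe2 : List ℕ := [3,8,1,16,13,5,12,22,18,4,21,14,9,0,7,20,6,17,2,11,15,19,23,10]
def tQe3 : List ℕ := [1,9,2,6,4,17,0,10,18,3,21,11,13,8,19,7,12,14,16,20,5,23,22,15]
def tQe12 : List ℕ := [4,16,12,8,3,7,13,23,2,18,14,11,1,9,15,5,0,10,6,17,21,20,22,19]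
def tQe13 : List ℕ := [8,2,16,3,12,20,18,11,6,13,7,23,9,0,14,22,4,21,1,10,15,19,17,5]
def tQe23 : List ℕ := [4,1,12,0,8,22,3,19,16,2,21,7,13,6,14,20,18,11,9,15,23,17,10,5]
def tQe123 : List ℕ := [0,12,3,4,6,14,13,15,9,18,11,5,8,2,21,22,16,17,1,19,7,10,23,20]
def tQa1c : List ℕ := [0,1,2,3,4,5,6,7,8,9,10,11,12,13,14,15,16,17,18,19,20,21,22,23]
def tQa2c : List ℕ := [9,1,12,0,8,11,4,20,2,6,5,23,3,18,15,21,16,7,13,14,22,10,17,19]
def tQa12c : List ℕ := [18,4,8,12,1,21,3,10,0,2,5,19,6,13,17,14,9,15,16,7,22,11,20,23]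
def tQs : List ℕ := [8,18,4,6,2,15,16,17,1,0,11,23,9,3,7,5,12,22,13,10,21,14,19,20]
def tQcs : List ℕ := [1,9,18,0,13,17,8,22,4,6,10,21,12,16,20,19,2,14,3,5,23,7,15,11]

theorem tA1_ok : okK tA1 = true := by decide +kernel
theorem tA1_fix : actK tA1 dSq = dSq := by decide +kernel
theorem tA2_ok : okK tA2 = true := by decide +kernel
theorem tA2_fix : actK tA2 dSq = dSq := by decide +kernel
theorem tK_ok : okK tK = true := by decide +kernel
theorem tK_fix : actK tK dSq = dSq := by decide +kernel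
theorem tC_ok : okK tC = true := by decide +kernel
theorem tC_fix : actK tC dSq = dSq := by decide +kernel
theorem tS_ok : okK tS = true := by decide +kernel
theorem tS_fix : actK tS dSq = dSq := by decide +kernel
theorem tE1_ok : okK tE1 = true := by decide +kernel
theorem tE1_fix : actK tE1 dSq = dSq := by decide +kernel
theorem tE2_ok : okK tE2 = true := by decide +kernel
theorem tE2_fix : actK tE2 dSq = dSq := by decide +kernel
theorem tE3_ok : okK tE3 = true := by decide +kernel
theorem tE3_fix : actK tE3 dSq = dSq := by decide +kernel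
theorem tX_ok : okK tX = true := by decide +kernel
theorem tX_fix : actK tX dSq = dSq := by decide +kernel
theorem tY_ok : okK tY = true := by decide +kernel
theorem tY_fix : actK tY dSq = dSq := by decide +kernel
theorem tT_ok : okK tT = true := by decide +kernel
theorem tT_fix : actK tT dSq = dSq := by decide +kernel
theorem tW_ok : okK tW = true := by decide +kernel
theorem tW_fix : actK tW dSq = dSq := by decide +kernel
theorem tQe2_ok : okK tQe2 = true := by decide +kernel
theorem tQe2_fix : actK tQe2 dSq = dSq := by decide +kernel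
theorem tQe3_ok : okK tQe3 = true := by decide +kernel
theorem tQe3_fix : actK tQe3 dSq = dSq := by decide +kernel
theorem tQe12_ok : okK tQe12 = true := by decide +kernel
theorem tQe12_fix : actK tQe12 dSq = dSq := by decide +kernel
theorem tQe13_ok : okK tQe13 = true := by decide +kernel
theorem tQe13_fix : actK tQe13 dSq = dSq := by decide +kernel
theorem tQe23_ok : okK tQe23 = true := by decide +kernel
theorem tQe23_fix : actK tQe23 dSq = dSq := by decide +kernel
theorem tQe123_ok : okK tQe123 = true := by decide +kernel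
theorem tQe123_fix : actK tQe123 dSq = dSq := by decide +kernel
theorem tQa1c_ok : okK tQa1c = true := by decide +kernel
theorem tQa1c_fix : actK tQa1c dSq = dSq := by decide +kernel
theorem tQa2c_ok : okK tQa2c = true := by decide +kernel
theorem tQa2c_fix : actK tQa2c dSq = dSq := by decide +kernel
theorem tQa12c_ok : okK tQa12c = true := by decide +kernel
theorem tQa12c_fix : actK tQa12c dSq = dSq := by decide +kernel
theorem tQs_ok : okK tQs = true := by decide +kernel
theorem tQs_fix : actK tQs dSq = dSq := by decide +kernel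
theorem tQcs_ok : okK tQcs = true := by decide +kernel
theorem tQcs_fix : actK tQcs dSq = dSq := by decide +kernel

end Cfsg.Agent.Lib.Helper5.M12M
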