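import Mathlib
import Cfsg.Agent.Lib.Helper5.M12MData

set_option autoImplicit false

namespace Cfsg.Agent.Lib.Helper5.M12M

open Cfsg Cfsg.Agent.Lib.helper4 Cfsg.Agent.Lib.Helper12.Golay

/-- element of the group from a table -/
noncomputable def mk (L : List ℕ) (h : okK L = true) (h2 : actK L dSq = dSq) : ↥Cfsg.Spor.M12 :=
  ⟨fperm L, fperm_mem_M12 h h2⟩

/-- table of an element -/
def Tb (g : ↥Cfsg.Spor.M12) : List ℕ := tblOf g.1

theorem Tb_mk (L : List ℕ) (h : okK L = true) (h2 : actK L dSq = dSq) : Tb (mk L h h2) = L :=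
  tblOf_fperm (okK_valid h)

theorem Tb_mul (g h : ↥Cfsg.Spor.M12) : Tb (g * h) = compTbl (Tb g) (Tb h) := tblOf_mul _ _

theorem Tb_one : Tb 1 = List.range 24 := tblOf_one

theorem Tb_inj : Function.Injective Tb := fun _ _ h => Subtype.ext (tblOf_injective h)

noncomputable def a1 : ↥Cfsg.Spor.M12 := mk tA1 tA1_ok tA1_fix
noncomputable def a2 : ↥Cfsg.Spor.M12 := mk tA2 tA2_ok tA2_fix
noncomputable def k : ↥Cfsg.Spor.M12 := mk tK tK_ok tK_fix
noncomputable def c : ↥Cfsg.Spor.M12 := mk tC tC_ok tC_fix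
noncomputable def s : ↥Cfsg.Spor.M12 := mk tS tS_ok tS_fix
noncomputable def e1 : ↥Cfsg.Spor.M12 := mk tE1 tE1_ok tE1_fix
noncomputable def e2 : ↥Cfsg.Spor.M12 := mk tE2 tE2_ok tE2_fix
noncomputable def e3 : ↥Cfsg.Spor.M12 := mk tE3 tE3_ok tE3_fix
noncomputable def x : ↥Cfsg.Spor.M12 := mk tX tX_ok tX_fix
noncomputable def y : ↥Cfsg.Spor.M12 := mk tY tY_ok tY_fix
noncomputable def t : ↥Cfsg.Spor.M12 := mk tT tT_ok tT_fix
noncomputable def w : ↥Cfsg.Spor.M12 := mk tW tW_ok tW_fix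
noncomputable def qe2 : ↥Cfsg.Spor.M12 := mk tQe2 tQe2_ok tQe2_fix
noncomputable def qe3 : ↥Cfsg.Spor.M12 := mk tQe3 tQe3_ok tQe3_fix
noncomputable def qe12 : ↥Cfsg.Spor.M12 := mk tQe12 tQe12_ok tQe12_fix
noncomputable def qe13 : ↥Cfsg.Spor.M12 := mk tQe13 tQe13_ok tQe13_fix
noncomputable def qe23 : ↥Cfsg.Spor.M12 := mk tQe23 tQe23_ok tQe23_fix
noncomputable def qe123 : ↥Cfsg.Spor.M12 := mk tQe123 tQe123_ok tQe123_fix
noncomputable def qa1c : ↥Cfsg.Spor.M12 := mk tQa1c tQa1c_ok tQa1c_fix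
noncomputable def qa2c : ↥Cfsg.Spor.M12 := mk tQa2c tQa2c_ok tQa2c_fix
noncomputable def qa12c : ↥Cfsg.Spor.M12 := mk tQa12c tQa12c_ok tQa12c_fix
noncomputable def qs : ↥Cfsg.Spor.M12 := mk tQs tQs_ok tQs_fix
noncomputable def qcs : ↥Cfsg.Spor.M12 := mk tQcs tQcs_ok tQcs_fix

theorem Tb_a1 : Tb a1 = tA1 := Tb_mk _ _ _
theorem Tb_a2 : Tb a2 = tA2 := Tb_mk _ _ _
theorem Tb_k : Tb k = tK := Tb_mk _ _ _
theorem Tb_c : Tb c = tC := Tb_mk _ _ _
theorem Tb_s : Tb s = tS := Tb_mk _ _ _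
theorem Tb_e1 : Tb e1 = tE1 := Tb_mk _ _ _
theorem Tb_e2 : Tb e2 = tE2 := Tb_mk _ _ _
theorem Tb_e3 : Tb e3 = tE3 := Tb_mk _ _ _
theorem Tb_x : Tb x = tX := Tb_mk _ _ _
theorem Tb_y : Tb y = tY := Tb_mk _ _ _
theorem Tb_t : Tb t = tT := Tb_mk _ _ _
theorem Tb_w : Tb w = tW := Tb_mk _ _ _
theorem Tb_qe2 : Tb qe2 = tQe2 := Tb_mk _ _ _
theorem Tb_qe3 : Tb qe3 = tQe3 := Tb_mk _ _ _
theorem Tb_qe12 : Tb qe12 = tQe12 := Tb_mk _ _ _
theorem Tb_qe13 : Tb qe13 = tQe13 := Tb_mk _ _ _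
theorem Tb_qe23 : Tb qe23 = tQe23 := Tb_mk _ _ _
theorem Tb_qe123 : Tb qe123 = tQe123 := Tb_mk _ _ _
theorem Tb_qa1c : Tb qa1c = tQa1c := Tb_mk _ _ _
theorem Tb_qa2c : Tb qa2c = tQa2c := Tb_mk _ _ _
theorem Tb_qa12c : Tb qa12c = tQa12c := Tb_mk _ _ _
theorem Tb_qs : Tb qs = tQs := Tb_mk _ _ _
theorem Tb_qcs : Tb qcs = tQcs := Tb_mk _ _ _

theorem a1_four : a1 * a1 * a1 * a1 = 1 := by
  apply Tb_inj
  simp only [Tb_mul, Tb_one, Tb_a1]
  decide +kernel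
theorem a2_four : a2 * a2 * a2 * a2 = 1 := by
  apply Tb_inj
  simp only [Tb_mul, Tb_one, Tb_a2]
  decide +kernel
theorem a12_comm : a1 * a2 = a2 * a1 := by
  apply Tb_inj
  simp only [Tb_mul, Tb_a1, Tb_a2]
  decide +kernel
theorem k_cube : k * k * k = 1 := by
  apply Tb_inj
  simp only [Tb_mul, Tb_one, Tb_k]
  decide +kernel
theorem k_a1 : k * a1 = a2 * k := by
  apply Tb_inj
  simp only [Tb_mul, Tb_a1, Tb_a2, Tb_k]
  decide +kernel
theorem k_a2 : k * a2 = a1 * a1 * a1 * a2 * a2 * a2 * k := by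
  apply Tb_inj
  simp only [Tb_mul, Tb_a1, Tb_a2, Tb_k]
  decide +kernel
theorem k_nrm1 : a1 * (k * a1 * (k * k)) * (k * (k * a1 * (k * k)) * (k * k)) = 1 := by
  apply Tb_inj
  simp only [Tb_mul, Tb_one, Tb_a1, Tb_k]
  decide +kernel
theorem k_nrm2 : a2 * (k * a2 * (k * k)) * (k * (k * a2 * (k * k)) * (k * k)) = 1 := by
  apply Tb_inj
  simp only [Tb_mul, Tb_one, Tb_a2, Tb_k]
  decide +kernel
theorem c_sq : c * c = 1 := by
  apply Tb_inj
  simp only [Tb_mul, Tb_one, Tb_c]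
  decide +kernel
theorem s_sq : s * s = 1 := by
  apply Tb_inj
  simp only [Tb_mul, Tb_one, Tb_s]
  decide +kernel
theorem c_s : c * s = s * c := by
  apply Tb_inj
  simp only [Tb_mul, Tb_c, Tb_s]
  decide +kernel
theorem c_a1 : c * a1 = a1 * a1 * a1 * c := by
  apply Tb_inj
  simp only [Tb_mul, Tb_a1, Tb_c]
  decide +kernel
theorem c_a2 : c * a2 = a2 * a2 * a2 * c := by
  apply Tb_inj
  simp only [Tb_mul, Tb_a2, Tb_c]
  decide +kernel
theorem s_a1 : s * a1 = a1 * a1 * a1 * s := by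
  apply Tb_inj
  simp only [Tb_mul, Tb_a1, Tb_s]
  decide +kernel
theorem s_a2 : s * a2 = a1 * a2 * s := by
  apply Tb_inj
  simp only [Tb_mul, Tb_a1, Tb_a2, Tb_s]
  decide +kernel
theorem c_k : c * k = k * c := by
  apply Tb_inj
  simp only [Tb_mul, Tb_c, Tb_k]
  decide +kernel
theorem s_k : s * k = k * k * s := by
  apply Tb_inj
  simp only [Tb_mul, Tb_k, Tb_s]
  decide +kernel
theorem e1_sq : e1 * e1 = 1 := by
  apply Tb_inj
  simp only [Tb_mul, Tb_one, Tb_e1]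
  decide +kernel
theorem e12_comm : e1 * e2 = e2 * e1 := by
  apply Tb_inj
  simp only [Tb_mul, Tb_e1, Tb_e2]
  decide +kernel
theorem e13_comm : e1 * e3 = e3 * e1 := by
  apply Tb_inj
  simp only [Tb_mul, Tb_e1, Tb_e3]
  decide +kernel
theorem e23_comm : e2 * e3 = e3 * e2 := by
  apply Tb_inj
  simp only [Tb_mul, Tb_e2, Tb_e3]
  decide +kernel
theorem qe2_conj : qe2 * e1 = e2 * qe2 := by
  apply Tb_inj
  simp only [Tb_mul, Tb_e1, Tb_e2, Tb_qe2]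
  decide +kernel
theorem qe3_conj : qe3 * e1 = e3 * qe3 := by
  apply Tb_inj
  simp only [Tb_mul, Tb_e1, Tb_e3, Tb_qe3]
  decide +kernel
theorem qe12_conj : qe12 * e1 = (e1 * e2) * qe12 := by
  apply Tb_inj
  simp only [Tb_mul, Tb_e1, Tb_e2, Tb_qe12]
  decide +kernel
theorem qe13_conj : qe13 * e1 = (e1 * e3) * qe13 := by
  apply Tb_inj
  simp only [Tb_mul, Tb_e1, Tb_e3, Tb_qe13]
  decide +kernel
theorem qe23_conj : qe23 * e1 = (e2 * e3) * qe23 := by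
  apply Tb_inj
  simp only [Tb_mul, Tb_e1, Tb_e2, Tb_e3, Tb_qe23]
  decide +kernel
theorem qe123_conj : qe123 * e1 = (e1 * e2 * e3) * qe123 := by
  apply Tb_inj
  simp only [Tb_mul, Tb_e1, Tb_e2, Tb_e3, Tb_qe123]
  decide +kernel
theorem qa1c_conj : qa1c * e1 = (a1 * c) * qa1c := by
  apply Tb_inj
  simp only [Tb_mul, Tb_a1, Tb_c, Tb_e1, Tb_qa1c]
  decide +kernel
theorem qa2c_conj : qa2c * e1 = (a2 * c) * qa2c := by
  apply Tb_inj
  simp only [Tb_mul, Tb_a2, Tb_c, Tb_e1, Tb_qa2c]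
  decide +kernel
theorem qa12c_conj : qa12c * e1 = (a1 * a2 * c) * qa12c := by
  apply Tb_inj
  simp only [Tb_mul, Tb_a1, Tb_a2, Tb_c, Tb_e1, Tb_qa12c]
  decide +kernel
theorem qs_conj : qs * c = s * qs := by
  apply Tb_inj
  simp only [Tb_mul, Tb_c, Tb_qs, Tb_s]
  decide +kernel
theorem qcs_conj : qcs * c = (c * s) * qcs := by
  apply Tb_inj
  simp only [Tb_mul, Tb_c, Tb_qcs, Tb_s]
  decide +kernel
theorem x_cube : x * x * x = 1 := by
  apply Tb_inj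
  simp only [Tb_mul, Tb_one, Tb_x]
  decide +kernel
theorem y_cube : y * y * y = 1 := by
  apply Tb_inj
  simp only [Tb_mul, Tb_one, Tb_y]
  decide +kernel
theorem w_cube : w * w * w = 1 := by
  apply Tb_inj
  simp only [Tb_mul, Tb_one, Tb_w]
  decide +kernel
theorem w_def : w = x * y * (x * x) * (y * y) := by
  apply Tb_inj
  simp only [Tb_mul, Tb_w, Tb_x, Tb_y]
  decide +kernel
theorem w_x : w * x = x * w := by
  apply Tb_inj
  simp only [Tb_mul, Tb_w, Tb_x]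
  decide +kernel
theorem w_y : w * y = y * w := by
  apply Tb_inj
  simp only [Tb_mul, Tb_w, Tb_y]
  decide +kernel
theorem t_x : t * x = x * x * t := by
  apply Tb_inj
  simp only [Tb_mul, Tb_t, Tb_x]
  decide +kernel
theorem t_y : t * y = y * y * t := by
  apply Tb_inj
  simp only [Tb_mul, Tb_t, Tb_y]
  decide +kernel
theorem t_w : t * w = w * t := by
  apply Tb_inj
  simp only [Tb_mul, Tb_t, Tb_w]
  decide +kernel
theorem y_x : y * x = w * w * x * y := by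
  apply Tb_inj
  simp only [Tb_mul, Tb_w, Tb_x, Tb_y]
  decide +kernel
theorem w_ne : w ≠ 1 := by
  intro h
  have := congrArg Tb h
  rw [Tb_w, Tb_one] at this
  revert this
  decide +kernel

end Cfsg.Agent.Lib.Helper5.M12M
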