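import Mathlib
import Cfsg.Agent.Lib.Helper5.M12CovData
import Cfsg.Agent.Lib.Helper5.M12MB

set_option autoImplicit false

namespace Cfsg.Agent.Lib.Helper5.M12M

open Cfsg Cfsg.Agent.Lib.helper4 Cfsg.Agent.Lib.Helper12.Golay
open Subgroup
open scoped Pointwise

/-- projection of the 24 signed points onto the dodecad -/
def prj (p : GolayPt) : GolayPt := pt (dl.getD (idx p / 2) 0)

/-- the ternary code as a family of sets of signed points -/
def C3 : Set (Finset GolayPt) := {s | ∃ m ∈ codeList, s = fs m}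

theorem C3_finite : C3.Finite := Set.toFinite _

theorem codeList_lt : ∀ m ∈ codeList, m < 2 ^ 24 := by decide +kernel

/-- the cover relation: `h` is a signed permutation over `g` -/
def Cov (g h : Equiv.Perm GolayPt) : Prop := ∀ p, prj (h p) = g (prj p)

theorem cov_fperm {L H : List ℕ} (hvL : ValidT L) (hvH : ValidT H)
    (h : ∀ p, prj (tblFun H p) = tblFun L (prj p)) : Cov (fperm L) (fperm H) := by
  intro p
  rw [fperm_apply hvH, fperm_apply hvL]
  exact h p

theorem mem_aut_C3 {H : List ℕ} (hv : ValidT H)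
    (h : codeList.all (fun m => codeList.contains (actK H m)) = true) :
    fperm H ∈ setSystemAut C3 := by
  have h1 : permT H ∈ setSystemAut C3 := by
    show permT H ∈ MulAction.stabilizer (Equiv.Perm GolayPt) C3
    rw [MulAction.mem_stabilizer_set' C3_finite]
    rintro s ⟨m, hm, rfl⟩
    rw [permT_smul_fs hv (codeList_lt m hm)]
    rw [List.all_eq_true] at h
    have h2 := h m hm
    rw [List.contains_iff_mem] at h2
    exact ⟨_, by rw [← actK_eq]; exact h2, rfl⟩
  unfold fperm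
  exact inv_mem h1

/-- the double cover: signed permutations over elements of the dodecad stabiliser preserving the
ternary code -/
def N : Subgroup (↥Cfsg.Spor.M12 × Equiv.Perm GolayPt) where
  carrier := {x | Cov x.1.1 x.2 ∧ x.2 ∈ setSystemAut C3}
  mul_mem' := by
    rintro ⟨g, h⟩ ⟨g', h'⟩ ⟨c1, a1⟩ ⟨c2, a2⟩
    refine ⟨?_, mul_mem a1 a2⟩
    intro p
    show prj ((h * h') p) = (g * g').1 (prj p)
    rw [Equiv.Perm.mul_apply, c1 (h' p), c2 p]
    rfl
  one_mem' := ⟨fun p => rfl, one_mem _⟩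
  inv_mem' := by
    rintro ⟨g, h⟩ ⟨c1, a1⟩
    refine ⟨?_, inv_mem a1⟩
    intro p
    show prj (h⁻¹ p) = (g.1)⁻¹ (prj p)
    have h2 : prj (h (h⁻¹ p)) = g.1 (prj (h⁻¹ p)) := c1 (h⁻¹ p)
    have h3 : h (h⁻¹ p) = p := by
      rw [← Equiv.Perm.mul_apply, mul_inv_cancel, Equiv.Perm.one_apply]
    rw [h3] at h2
    rw [h2, ← Equiv.Perm.mul_apply, inv_mul_cancel, Equiv.Perm.one_apply]

theorem mem_N {x : ↥Cfsg.Spor.M12 × Equiv.Perm GolayPt} :
    x ∈ N ↔ Cov x.1.1 x.2 ∧ x.2 ∈ setSystemAut C3 := Iff.rfl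

/-- the covering map -/
def sig : ↥N →* ↥Cfsg.Spor.M12 := (MonoidHom.fst _ _).comp N.subtype

theorem sig_apply (n : ↥N) : sig n = n.1.1 := rfl

end Cfsg.Agent.Lib.Helper5.M12M
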