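import Mathlib
import Cfsg.Agent.Lib.Helper5.M12CovA

set_option autoImplicit false

namespace Cfsg.Agent.Lib.Helper5.M12M

open Cfsg Cfsg.Agent.Lib.helper4 Cfsg.Agent.Lib.Helper12.Golay
open Subgroup
open scoped Pointwise

theorem hU_valid : ValidT hU := by decide
theorem hC_valid : ValidT hC := by decide
theorem hZ_valid : ValidT hZ := by decide
theorem hc_valid : ValidT hc := by decide
theorem hs_valid : ValidT hs := by decide
theorem tNu_valid : ValidT tNu := by decide

theorem hU_pres : codeList.all (fun m => codeList.contains (actK hU m)) = true := by decide +kernel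
theorem hC_pres : codeList.all (fun m => codeList.contains (actK hC m)) = true := by decide +kernel
theorem hZ_pres : codeList.all (fun m => codeList.contains (actK hZ m)) = true := by decide +kernel
theorem hc_pres : codeList.all (fun m => codeList.contains (actK hc m)) = true := by decide +kernel
theorem hs_pres : codeList.all (fun m => codeList.contains (actK hs m)) = true := by decide +kernel
theorem tNu_pres : codeList.all (fun m => codeList.contains (actK tNu m)) = true := by
  decide +kernel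

theorem hU_cov : ∀ p, prj (tblFun hU p) = tblFun tU24 (prj p) := by decide
theorem hC_cov : ∀ p, prj (tblFun hC p) = tblFun tC24 (prj p) := by decide
theorem hZ_cov : ∀ p, prj (tblFun hZ p) = tblFun Z12 (prj p) := by decide
theorem hc_cov : ∀ p, prj (tblFun hc p) = tblFun tC (prj p) := by decide
theorem hs_cov : ∀ p, prj (tblFun hs p) = tblFun tS (prj p) := by decide
theorem tNu_cov : ∀ p, prj (tblFun tNu p) = prj p := by decide

/-- the sign change -/
noncomputable def nu : Equiv.Perm GolayPt := fperm tNu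

theorem nu_apply (p : GolayPt) : nu p = tblFun tNu p := fperm_apply tNu_valid p

theorem nu_mem : ((1 : ↥Cfsg.Spor.M12), nu) ∈ N := by
  refine ⟨?_, mem_aut_C3 tNu_valid tNu_pres⟩
  intro p
  show prj (nu p) = prj p
  rw [nu_apply]
  exact tNu_cov p

noncomputable def nNu : ↥N := ⟨((1 : ↥Cfsg.Spor.M12), nu), nu_mem⟩

noncomputable def nU : ↥N :=
  ⟨(⟨fperm tU24, hu12⟩, fperm hU),
    cov_fperm (okK_valid out24_basic.2.1) hU_valid hU_cov, mem_aut_C3 hU_valid hU_pres⟩

noncomputable def nC : ↥N :=
  ⟨(⟨fperm tC24, hc12⟩, fperm hC),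
    cov_fperm (okK_valid out24_basic.2.2.2.1) hC_valid hC_cov, mem_aut_C3 hC_valid hC_pres⟩

noncomputable def nZ : ↥N :=
  ⟨(⟨fperm Z12, hZ12⟩, fperm hZ),
    cov_fperm (okK_valid out12_basic.1) hZ_valid hZ_cov, mem_aut_C3 hZ_valid hZ_pres⟩

noncomputable def nc : ↥N :=
  ⟨(c, fperm hc), cov_fperm (okK_valid tC_ok) hc_valid hc_cov, mem_aut_C3 hc_valid hc_pres⟩

noncomputable def ns : ↥N :=
  ⟨(s, fperm hs), cov_fperm (okK_valid tS_ok) hs_valid hs_cov, mem_aut_C3 hs_valid hs_pres⟩

theorem sig_surj : Function.Surjective sig := by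
  intro m
  have hm := gen12 m.2
  set R : Subgroup (Equiv.Perm GolayPt) := sig.range.map Cfsg.Spor.M12.subtype with hR
  have hle : closure ({fperm tU24, fperm tC24, fperm Z12} : Set (Equiv.Perm GolayPt)) ≤ R := by
    rw [closure_le]
    rintro g (rfl | rfl | rfl)
    · exact ⟨⟨fperm tU24, hu12⟩, ⟨nU, rfl⟩, rfl⟩
    · exact ⟨⟨fperm tC24, hc12⟩, ⟨nC, rfl⟩, rfl⟩
    · exact ⟨⟨fperm Z12, hZ12⟩, ⟨nZ, rfl⟩, rfl⟩
  obtain ⟨m', ⟨n, rfl⟩, hm'⟩ := hle hm
  exact ⟨n, Subtype.ext hm'⟩

/-- the commutator of the lifts of `c` and `s` is the sign change -/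
theorem comm_nc_ns : nc * ns = nNu * (ns * nc) := by
  apply Subtype.ext
  apply Prod.ext
  · show c * s = 1 * (s * c)
    rw [one_mul, c_s]
  · show fperm hc * fperm hs = nu * (fperm hs * fperm hc)
    apply tblOf_injective
    unfold nu
    simp only [tblOf_mul, tblOf_fperm hc_valid, tblOf_fperm hs_valid, tblOf_fperm tNu_valid]
    decide +kernel

end Cfsg.Agent.Lib.Helper5.M12M
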