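import Mathlib
import Cfsg.Agent.Lib.Helper5.M12CovB

set_option autoImplicit false

namespace Cfsg.Agent.Lib.Helper5.M12M

open Cfsg Cfsg.Agent.Lib.helper4 Cfsg.Agent.Lib.Helper12.Golay
open Subgroup
open scoped Pointwise

/-- the sign change as a function -/
def nuF (p : GolayPt) : GolayPt := tblFun tNu p

theorem nu_eq (p : GolayPt) : nu p = nuF p := nu_apply p

theorem prj_eq : ∀ p q : GolayPt, prj p = prj q → q = p ∨ q = nuF p := by decide

theorem nuF_ne : ∀ p : GolayPt, nuF p ≠ p := by decide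

theorem nuF_nuF : ∀ p : GolayPt, nuF (nuF p) = p := by decide

theorem idx_nuF : ∀ j : Fin 24, idx (nuF (pt j)) = (j : ℕ) ^^^ 1 := by decide

/-- same pair support -/
def condB (m' m : ℕ) : Bool :=
  (List.range 24).all fun j =>
    (!m.testBit j || m'.testBit j || m'.testBit (j ^^^ 1)) &&
      (!m'.testBit j || m.testBit j || m.testBit (j ^^^ 1))

theorem condB_of {m' m : ℕ}
    (h1 : ∀ j < 24, m.testBit j = true → m'.testBit j = true ∨ m'.testBit (j ^^^ 1) = true)
    (h2 : ∀ j < 24, m'.testBit j = true → m.testBit j = true ∨ m.testBit (j ^^^ 1) = true) :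
    condB m' m = true := by
  unfold condB
  rw [List.all_eq_true]
  intro j hj
  rw [List.mem_range] at hj
  rw [Bool.and_eq_true]
  constructor
  · cases hb : m.testBit j
    · simp
    · rcases h1 j hj hb with h | h <;> simp [h]
  · cases hb : m'.testBit j
    · simp
    · rcases h2 j hj hb with h | h <;> simp [h]

theorem hex_claim (h : Equiv.Perm GolayPt) (hp : ∀ p, h p = p ∨ h p = nuF p)
    (ha : h ∈ setSystemAut C3) (m m₂ : ℕ) (hm : m ∈ codeList)
    (huniq : ∀ m' ∈ codeList, condB m' m = true → m' = m ∨ m' = m₂)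
    (hd1 : ∀ p, p ∈ fs m → nuF p ∉ fs m) (hd2 : ∀ p, p ∈ fs m → p ∉ fs m₂)
    (hd3 : ∀ p, p ∈ fs m₂ → nuF p ∈ fs m) :
    (∀ p, p ∈ fs m ∨ p ∈ fs m₂ → h p = p) ∨ (∀ p, p ∈ fs m ∨ p ∈ fs m₂ → h p = nuF p) := by
  have hmem : h • fs m ∈ C3 := by
    have h1 : h • C3 = C3 := ha
    rw [← h1]
    exact Set.smul_mem_smul_set ⟨m, hm, rfl⟩
  obtain ⟨m', hm', hsm⟩ := hmem
  have hcond : condB m' m = true := by
    apply condB_of
    · intro j hj hb
      have hpm : pt j ∈ fs m := by rw [mem_fs, idx_pt hj]; exact hb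
      have h2 : h (pt j) ∈ fs m' := by
        rw [← hsm]
        exact Finset.smul_mem_smul_finset hpm
      rcases hp (pt j) with e | e
      · left
        rw [e, mem_fs, idx_pt hj] at h2
        exact h2
      · right
        rw [e, mem_fs, idx_nuF ⟨j, hj⟩] at h2
        exact h2
    · intro j hj hb
      have hpm : pt j ∈ fs m' := by rw [mem_fs, idx_pt hj]; exact hb
      rw [← hsm] at hpm
      obtain ⟨p, hpmem, hpe⟩ := Finset.mem_smul_finset.mp hpm
      have hpe' : h p = pt j := hpe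
      rcases hp p with e | e
      · left
        rw [e] at hpe'
        rw [hpe', mem_fs, idx_pt hj] at hpmem
        exact hpmem
      · right
        rw [e] at hpe'
        have : p = nuF (pt j) := by rw [← hpe', nuF_nuF]
        rw [this, mem_fs, idx_nuF ⟨j, hj⟩] at hpmem
        exact hpmem
  have hinj := h.injective
  rcases huniq m' hm' hcond with rfl | rfl
  · left
    have key : ∀ p, p ∈ fs m' → h p = p := by
      intro p hpm
      rcases hp p with e | e
      · exact e
      · exfalso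
        have h2 : h p ∈ fs m' := by
          rw [← hsm]
          exact Finset.smul_mem_smul_finset hpm
        rw [e] at h2
        exact hd1 p hpm h2
    intro p hpm
    rcases hpm with hpm | hpm
    · exact key p hpm
    · have h1 := key _ (hd3 p hpm)
      rcases hp p with e | e
      · exact e
      · exfalso
        have : h p = h (nuF p) := by rw [e, h1]
        exact nuF_ne p (hinj this).symm
  · right
    have key : ∀ p, p ∈ fs m → h p = nuF p := by
      intro p hpm
      rcases hp p with e | e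
      · exfalso
        have h2 : h p ∈ fs m' := by
          rw [← hsm]
          exact Finset.smul_mem_smul_finset hpm
        rw [e] at h2
        exact hd2 p hpm h2
      · exact e
    intro p hpm
    rcases hpm with hpm | hpm
    · exact key p hpm
    · have h1 := key _ (hd3 p hpm)
      rw [nuF_nuF] at h1
      rcases hp p with e | e
      · exfalso
        have : h p = h (nuF p) := by rw [e, h1]
        exact nuF_ne p (hinj this).symm
      · exact e

def hx1n : ℕ := 10521
def hx2n : ℕ := 34986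
def hx3n : ℕ := 11092096

theorem hx_mem : hx1 ∈ codeList ∧ hx2 ∈ codeList ∧ hx3 ∈ codeList := by decide +kernel

theorem hx1_uniq : ∀ m' ∈ codeList, condB m' hx1 = true → m' = hx1 ∨ m' = hx1n := by
  decide +kernel
theorem hx2_uniq : ∀ m' ∈ codeList, condB m' hx2 = true → m' = hx2 ∨ m' = hx2n := by
  decide +kernel
theorem hx3_uniq : ∀ m' ∈ codeList, condB m' hx3 = true → m' = hx3 ∨ m' = hx3n := by
  decide +kernel

theorem hx1_d : (∀ p, p ∈ fs hx1 → nuF p ∉ fs hx1) ∧ (∀ p, p ∈ fs hx1 → p ∉ fs hx1n) ∧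
    (∀ p, p ∈ fs hx1n → nuF p ∈ fs hx1) := by decide
theorem hx2_d : (∀ p, p ∈ fs hx2 → nuF p ∉ fs hx2) ∧ (∀ p, p ∈ fs hx2 → p ∉ fs hx2n) ∧
    (∀ p, p ∈ fs hx2n → nuF p ∈ fs hx2) := by decide
theorem hx3_d : (∀ p, p ∈ fs hx3 → nuF p ∉ fs hx3) ∧ (∀ p, p ∈ fs hx3 → p ∉ fs hx3n) ∧
    (∀ p, p ∈ fs hx3n → nuF p ∈ fs hx3) := by decide

theorem hx_cover : ∀ p : GolayPt, (p ∈ fs hx1 ∨ p ∈ fs hx1n) ∨ (p ∈ fs hx2 ∨ p ∈ fs hx2n) ∨
    (p ∈ fs hx3 ∨ p ∈ fs hx3n) := by decide

theorem hx_link : (pt 1 ∈ fs hx1 ∨ pt 1 ∈ fs hx1n) ∧ (pt 1 ∈ fs hx2 ∨ pt 1 ∈ fs hx2n) ∧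
    (pt 14 ∈ fs hx2 ∨ pt 14 ∈ fs hx2n) ∧ (pt 14 ∈ fs hx3 ∨ pt 14 ∈ fs hx3n) := by decide

/-- a signed permutation over the identity preserving the code is `1` or the sign change -/
theorem ker_cases (h : Equiv.Perm GolayPt) (hc : ∀ p, prj (h p) = prj p)
    (ha : h ∈ setSystemAut C3) : h = 1 ∨ h = nu := by
  have hp : ∀ p, h p = p ∨ h p = nuF p := fun p => prj_eq p (h p) (hc p).symm
  have c1 := hex_claim h hp ha hx1 hx1n hx_mem.1 hx1_uniq hx1_d.1 hx1_d.2.1 hx1_d.2.2
  have c2 := hex_claim h hp ha hx2 hx2n hx_mem.2.1 hx2_uniq hx2_d.1 hx2_d.2.1 hx2_d.2.2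
  have c3 := hex_claim h hp ha hx3 hx3n hx_mem.2.2 hx3_uniq hx3_d.1 hx3_d.2.1 hx3_d.2.2
  obtain ⟨l1, l2, l3, l4⟩ := hx_link
  have hid : ∀ (q : GolayPt), h q = q → h q = nuF q → False := by
    intro q e1 e2
    rw [e1] at e2
    exact nuF_ne q e2.symm
  rcases c1 with c1 | c1 <;> rcases c2 with c2 | c2 <;> rcases c3 with c3 | c3
  · left
    apply Equiv.ext
    intro p
    show h p = p
    rcases hx_cover p with hh | hh | hh
    · exact c1 p hh
    · exact c2 p hh
    · exact c3 p hh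
  · exact (hid _ (c2 _ l3) (c3 _ l4)).elim
  · exact (hid _ (c1 _ l1) (c2 _ l2)).elim
  · exact (hid _ (c1 _ l1) (c2 _ l2)).elim
  · exact (hid _ (c2 _ l2) (c1 _ l1)).elim
  · exact (hid _ (c2 _ l2) (c1 _ l1)).elim
  · exact (hid _ (c3 _ l4) (c2 _ l3)).elim
  · right
    apply Equiv.ext
    intro p
    rw [nu_eq]
    rcases hx_cover p with hh | hh | hh
    · exact c1 p hh
    · exact c2 p hh
    · exact c3 p hh

theorem ker_sig (n : ↥N) (hn : sig n = 1) : n = 1 ∨ n = nNu := by
  obtain ⟨⟨g, h⟩, hcov, haut⟩ := n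
  have hg : g = 1 := hn
  subst hg
  have hc : ∀ p, prj (h p) = prj p := hcov
  rcases ker_cases h hc haut with rfl | rfl
  · left; rfl
  · right; rfl

theorem nu_ne_one : nu ≠ 1 := by
  intro h
  have := congrArg (fun f : Equiv.Perm GolayPt => f (pt 0)) h
  simp only [Equiv.Perm.one_apply] at this
  rw [nu_eq] at this
  exact nuF_ne _ this

theorem nNu_ne_one : nNu ≠ 1 := by
  intro h
  have h1 : (nNu : ↥Cfsg.Spor.M12 × Equiv.Perm GolayPt).2 = 1 := by rw [h]; rfl
  exact nu_ne_one h1

theorem sig_nNu : sig nNu = 1 := rfl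

/-- members of the cover commute with the sign change -/
theorem nNu_central (n : ↥N) : n * nNu = nNu * n := by
  obtain ⟨⟨g, h⟩, hcov, haut⟩ := n
  apply Subtype.ext
  apply Prod.ext
  · show g * 1 = 1 * g
    rw [mul_one, one_mul]
  · show h * nu = nu * h
    apply Equiv.ext
    intro p
    rw [Equiv.Perm.mul_apply, Equiv.Perm.mul_apply, nu_eq, nu_eq]
    have hc : ∀ q, prj (h q) = g.1 (prj q) := hcov
    have h1 : prj (h (nuF p)) = prj (h p) := by
      rw [hc, hc]
      have : prj (nuF p) = prj p := tNu_cov p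
      rw [this]
    rcases prj_eq (h p) (h (nuF p)) h1.symm with e | e
    · exfalso
      exact nuF_ne p (h.injective e)
    · exact e

theorem sig_stem : Cfsg.IsStemExtension sig := by
  refine ⟨sig_surj, ?_, ?_⟩
  · intro n hn
    rw [Subgroup.mem_center_iff]
    intro g
    rcases ker_sig n hn with rfl | rfl
    · rw [mul_one, one_mul]
    · exact nNu_central g
  · intro n hn
    rcases ker_sig n hn with rfl | rfl
    · exact one_mem _
    · have h1 : nNu = nc * ns * nc⁻¹ * ns⁻¹ := by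
        rw [comm_nc_ns]; group
      rw [h1]
      have := Subgroup.commutator_mem_commutator (Subgroup.mem_top nc) (Subgroup.mem_top ns)
      rw [commutatorElement_def] at this
      exact this

theorem card_ker_sig : Nat.card sig.ker = 2 := by
  rw [Nat.card_eq_two_iff]
  refine ⟨1, ⟨nNu, sig_nNu⟩, ?_, ?_⟩
  · intro h
    exact nNu_ne_one (congrArg Subtype.val h).symm
  · ext x
    simp only [Set.mem_insert_iff, Set.mem_singleton_iff, Set.mem_univ, iff_true]
    rcases ker_sig x.1 x.2 with h | h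
    · left; exact Subtype.ext h
    · right; exact Subtype.ext h

/-- the dodecad stabiliser has a finite stem extension with kernel of order two -/
theorem exists_stem_two : ∃ (Γ : Type) (_ : Group Γ) (_ : Finite Γ) (σ : Γ →* ↥Cfsg.Spor.M12),
    Cfsg.IsStemExtension σ ∧ Nonempty (σ.ker ≃* Multiplicative (ZMod 2)) := by
  refine ⟨↥N, inferInstance, inferInstance, sig, sig_stem, ?_⟩
  haveI : Fact (Nat.Prime 2) := ⟨Nat.prime_two⟩
  have hcyc : IsCyclic sig.ker := isCyclic_of_prime_card card_ker_sig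
  have e2 := zmodCyclicMulEquiv hcyc
  rw [card_ker_sig] at e2
  exact ⟨e2.symm⟩

end Cfsg.Agent.Lib.Helper5.M12M
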