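import Mathlib
import Cfsg.Agent.Lib.Helper5.StemF

set_option autoImplicit false

namespace Cfsg.Agent.Lib.Helper5.Stem

open Subgroup
open scoped Pointwise commutatorElement

theorem nrm3_inv {X : Type*} [Group X] (A : Subgroup X) (hA : ∀ a ∈ A, ∀ b ∈ A, a * b = b * a)
    (κ : X) (hκ : ∀ a ∈ A, κ * a * κ⁻¹ ∈ A) {a : X} (ha : a ∈ A) :
    nrm3 κ a⁻¹ = (nrm3 κ a)⁻¹ := by
  have h1 := nrm3_mul A hA κ hκ ha (A.inv_mem ha)
  rw [mul_inv_cancel, nrm3_one] at h1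
  exact eq_inv_of_mul_eq_one_right h1.symm

variable {Γ G : Type*} [Group Γ] [Group G] {σ : Γ →* G}

/-- the preimage of a subgroup generated by two commuting elements inverted by an involution `c`,
such that `c`, `a₁c`, `a₂c`, `a₁a₂c` all lift to involutions, is abelian -/
theorem comap_closure_pair_comm (hsurj : Function.Surjective σ) {z : Γ} (hK : Ker2 σ z)
    (a₁ a₂ c : G) (Qc : QInv σ c) (Q1 : QInv σ (a₁ * c)) (Q2 : QInv σ (a₂ * c))
    (Q12 : QInv σ (a₁ * a₂ * c)) :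
    ∀ x ∈ (closure ({a₁, a₂} : Set G)).comap σ, ∀ y ∈ (closure ({a₁, a₂} : Set G)).comap σ,
      x * y = y * x := by
  obtain ⟨hz1, hz2, hσz, hw, hzc⟩ := hK
  set S : Set G := {a₁, a₂} with hS
  set T : Set Γ := σ ⁻¹' S ∪ (σ.ker : Set Γ) with hT
  have hcomap : (closure S).comap σ = closure T := by
    have h1 : (closure (σ ⁻¹' S)).map σ = closure S := by
      rw [MonoidHom.map_closure, Set.image_preimage_eq S hsurj]
    rw [← h1, Subgroup.comap_map_eq, hT, Subgroup.closure_union, Subgroup.closure_eq]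
  have hcen : ∀ w : Γ, σ w = 1 → ∀ g : Γ, g * w = w * g := by
    intro w hw1 g
    rcases hw w hw1 with h | h
    · rw [h, one_mul, mul_one]
    · rw [h]; exact hzc g
  obtain ⟨C, hC⟩ := hsurj c
  have hC2 : C * C = 1 := Qc C hC
  have hCinv : C⁻¹ = C := by rw [inv_eq_iff_mul_eq_one, hC2]
  -- `C` inverts lifts of elements `a` such that `a c` lifts to involutions
  have hinv : ∀ (A : Γ) (a : G), σ A = a → QInv σ (a * c) → C * A * C⁻¹ = A⁻¹ := by
    intro A a hA hQ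
    have h1 : (A * C) * (A * C) = 1 := hQ (A * C) (by rw [map_mul, hA, hC])
    rw [hCinv]
    have h2 : A * (C * A * C) = 1 := by rw [← h1]; group
    exact eq_inv_of_mul_eq_one_right h2
  -- lifts of a₁ and a₂ commute
  have h12 : ∀ A₁ A₂ : Γ, σ A₁ = a₁ → σ A₂ = a₂ → A₁ * A₂ = A₂ * A₁ := by
    intro A₁ A₂ h1 h2
    have e1 := hinv A₁ a₁ h1 Q1
    have e2 := hinv A₂ a₂ h2 Q2
    have e3 := hinv (A₁ * A₂) (a₁ * a₂) (by rw [map_mul, h1, h2]) Q12
    have e4 : C * (A₁ * A₂) * C⁻¹ = (C * A₁ * C⁻¹) * (C * A₂ * C⁻¹) := by group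
    rw [e4, e1, e2, mul_inv_rev] at e3
    -- A₁⁻¹ A₂⁻¹ = A₂⁻¹ A₁⁻¹
    calc A₁ * A₂ = (A₂⁻¹ * A₁⁻¹)⁻¹ := by group
      _ = (A₁⁻¹ * A₂⁻¹)⁻¹ := by rw [e3]
      _ = A₂ * A₁ := by group
  -- two lifts of the same element commute
  have hsame : ∀ A B : Γ, σ A = σ B → A * B = B * A := by
    intro A B h
    have h1 : σ (A⁻¹ * B) = 1 := by rw [map_mul, map_inv, h, inv_mul_cancel]
    have h2 := hcen _ h1 A
    calc A * B = A * (A * (A⁻¹ * B)) := by group
      _ = A * ((A⁻¹ * B) * A) := by rw [h2]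
      _ = B * A := by group
  have hTc : ∀ x ∈ T, ∀ y ∈ T, x * y = y * x := by
    intro x hx y hy
    rcases hx with hx | hx
    · rcases hy with hy | hy
      · have hx' : σ x = a₁ ∨ σ x = a₂ := hx
        have hy' : σ y = a₁ ∨ σ y = a₂ := hy
        rcases hx' with hx' | hx' <;> rcases hy' with hy' | hy'
        · exact hsame x y (by rw [hx', hy'])
        · exact h12 x y hx' hy'
        · exact (h12 y x hy' hx').symm
        · exact hsame x y (by rw [hx', hy'])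
      · exact hcen y hy x
    · exact (hcen x hx y).symm
  rw [hcomap]
  intro x hx y hy
  have := Subgroup.isMulCommutative_closure hTc
  exact setLike_mul_comm hx hy

/-- the canonical complement to `⟨z⟩` in an abelian preimage on which an element of order three
acts without fixed points downstairs -/
theorem exists_compl_ab (hsurj : Function.Surjective σ) {z : Γ} (hK : Ker2 σ z) (S : Set G)
    (hEc : ∀ x ∈ (closure S).comap σ, ∀ y ∈ (closure S).comap σ, x * y = y * x)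
    (k : G) (hk3 : k * k * k = 1) (hkS : ∀ a ∈ S, k * a * k⁻¹ ∈ closure S)
    (hkN : ∀ a ∈ S, nrm3 k a = 1) :
    ∃ (E₁ : Subgroup Γ) (K : Γ), σ K = k ∧ K * K * K = 1 ∧
      (∀ x, x ∈ E₁ ↔ σ x ∈ closure S ∧ nrm3 K x = 1) ∧ z ∉ E₁ ∧
      (∀ x, σ x ∈ closure S → x ∈ E₁ ∨ x * z ∈ E₁) := by
  have hK' := hK
  obtain ⟨hz1, hz2, hσz, hw, hzc⟩ := hK
  obtain ⟨K, hKk, hK3⟩ := exists_lift_cube hsurj hK' k hk3
  have hGc : ∀ x ∈ closure S, ∀ y ∈ closure S, x * y = y * x := by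
    intro x hx y hy
    obtain ⟨X, rfl⟩ := hsurj x
    obtain ⟨Y, rfl⟩ := hsurj y
    rw [← map_mul, hEc X hx Y hy, map_mul]
  have hkE := conj_mem_closure_of_gens S k hkS
  set Et : Subgroup Γ := (closure S).comap σ with hEt
  have hKE : ∀ a ∈ Et, K * a * K⁻¹ ∈ Et := by
    intro a ha
    show σ (K * a * K⁻¹) ∈ closure S
    rw [map_mul, map_mul, map_inv, hKk]
    exact hkE _ ha
  -- the norm is trivial downstairs
  have hN1 : ∀ e ∈ closure S, nrm3 k e = 1 := by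
    intro e he
    induction he using Subgroup.closure_induction with
    | mem x hx => exact hkN x hx
    | one => exact nrm3_one k
    | mul x y hx hy ihx ihy =>
      rw [nrm3_mul (closure S) hGc k hkE hx hy, ihx, ihy, one_mul]
    | inv x hx ih =>
      rw [nrm3_inv (closure S) hGc k hkE hx, ih, inv_one]
  have hNker : ∀ x ∈ Et, nrm3 K x = 1 ∨ nrm3 K x = z := by
    intro x hx
    apply hw
    rw [map_nrm3, hKk]
    exact hN1 _ hx
  have hNz : nrm3 K z = z := by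
    have h1 : ∀ b : Γ, b * z * b⁻¹ = z := by
      intro b
      rw [hzc b]; group
    unfold nrm3
    rw [h1, h1, hz2, one_mul]
  have hzE : z ∈ Et := by
    show σ z ∈ closure S
    rw [hσz]; exact one_mem _
  let E₁ : Subgroup Γ :=
    { carrier := {x | σ x ∈ closure S ∧ nrm3 K x = 1}
      one_mem' := ⟨by rw [map_one]; exact one_mem _, nrm3_one K⟩
      mul_mem' := by
        rintro a b ⟨ha, hna⟩ ⟨hb, hnb⟩
        refine ⟨by rw [map_mul]; exact mul_mem ha hb, ?_⟩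
        rw [nrm3_mul Et hEc K hKE ha hb, hna, hnb, one_mul]
      inv_mem' := by
        rintro a ⟨ha, hna⟩
        refine ⟨by rw [map_inv]; exact inv_mem ha, ?_⟩
        rw [nrm3_inv Et hEc K hKE ha, hna, inv_one] }
  refine ⟨E₁, K, hKk, hK3, fun x => Iff.rfl, ?_, ?_⟩
  · rintro ⟨_, h⟩
    rw [hNz] at h
    exact hz1 h
  · intro x hx
    rcases hNker x hx with h | h
    · left; exact ⟨hx, h⟩
    · right
      refine ⟨by rw [map_mul, hσz, mul_one]; exact hx, ?_⟩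
      rw [nrm3_mul Et hEc K hKE hx hzE, h, hNz, hz2]

/-- lifts of elements normalising `E` and `⟨k⟩` normalise the complement -/
theorem compl_conj_mem_ab {z : Γ} (hK : Ker2 σ z) (S : Set G)
    (hEc : ∀ x ∈ (closure S).comap σ, ∀ y ∈ (closure S).comap σ, x * y = y * x)
    (k : G) (hkS : ∀ a ∈ S, k * a * k⁻¹ ∈ closure S)
    (E₁ : Subgroup Γ) (K : Γ) (hKk : σ K = k) (hK3 : K * K * K = 1)
    (hE₁ : ∀ x, x ∈ E₁ ↔ σ x ∈ closure S ∧ nrm3 K x = 1)
    (d : Γ) (hdS : ∀ e ∈ closure S, σ d * e * (σ d)⁻¹ ∈ closure S)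
    (hdk : (σ d)⁻¹ * k * σ d = k ∨ (σ d)⁻¹ * k * σ d = k * k) :
    ∀ x ∈ E₁, d * x * d⁻¹ ∈ E₁ := by
  obtain ⟨hz1, hz2, hσz, hw, hzc⟩ := hK
  have hkE := conj_mem_closure_of_gens S k hkS
  set Et : Subgroup Γ := (closure S).comap σ with hEt
  have hKE : ∀ a ∈ Et, K * a * K⁻¹ ∈ Et := by
    intro a ha
    show σ (K * a * K⁻¹) ∈ closure S
    rw [map_mul, map_mul, map_inv, hKk]
    exact hkE _ ha
  have hcen : ∀ w : Γ, σ w = 1 → ∀ g : Γ, g * w = w * g := by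
    intro w hw1 g
    rcases hw w hw1 with h | h
    · rw [h, one_mul, mul_one]
    · rw [h]; exact hzc g
  intro x hx
  obtain ⟨hxS, hxN⟩ := (hE₁ x).mp hx
  rw [hE₁]
  refine ⟨by rw [map_mul, map_mul, map_inv]; exact hdS _ hxS, ?_⟩
  rw [nrm3_conj]
  have key : nrm3 (d⁻¹ * K * d) x = 1 := by
    rcases hdk with h | h
    · have hw1 : σ (K⁻¹ * (d⁻¹ * K * d)) = 1 := by
        rw [map_mul, map_inv, map_mul, map_mul, map_inv, hKk, h, inv_mul_cancel]
      have e : d⁻¹ * K * d = K * (K⁻¹ * (d⁻¹ * K * d)) := by group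
      rw [e, nrm3_central K _ x (hcen _ hw1), hxN]
    · have hw1 : σ ((K * K)⁻¹ * (d⁻¹ * K * d)) = 1 := by
        rw [map_mul, map_inv, map_mul, map_mul, map_mul, map_inv, hKk, h, inv_mul_cancel]
      have e : d⁻¹ * K * d = (K * K) * ((K * K)⁻¹ * (d⁻¹ * K * d)) := by group
      rw [e, nrm3_central (K * K) _ x (hcen _ hw1), nrm3_sq Et hEc K hKE hK3 hxS, hxN]
  rw [key]; group

/-- the splitting criterion, abelian version: `P ≤ E ⊔ D` with `E = ⟨S⟩` whose preimage is abelian,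
an element `k` of order three acting fixed point freely on `E`, `D` normalising `E` and `⟨k⟩` and
lifting isomorphically to `D₁`. Then the kernel of order two meets the derived group of the
preimage of `P` trivially. -/
theorem comm_comap_trivial_of_split_ab [Finite Γ] (hsurj : Function.Surjective σ) {z : Γ}
    (hK : Ker2 σ z) (S : Set G)
    (hEc : ∀ x ∈ (closure S).comap σ, ∀ y ∈ (closure S).comap σ, x * y = y * x)
    (k : G) (hk3 : k * k * k = 1) (hkS : ∀ a ∈ S, k * a * k⁻¹ ∈ closure S)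
    (hkN : ∀ a ∈ S, nrm3 k a = 1)
    (D : Subgroup G) (hDS : ∀ d ∈ D, ∀ e ∈ closure S, d * e * d⁻¹ ∈ closure S)
    (hDk : ∀ d ∈ D, d⁻¹ * k * d = k ∨ d⁻¹ * k * d = k * k)
    (D₁ : Subgroup Γ) (hD₁σ : ∀ x ∈ D₁, σ x ∈ D) (hDle : D ≤ D₁.map σ)
    (n m : ℕ) (hn : Nat.card (closure S) ≤ n) (hm : Nat.card D₁ ≤ m)
    (P : Subgroup G) (hPle : P ≤ closure S ⊔ D) (hPcard : n * m ≤ Nat.card P) :
    ∀ w ∈ ⁅P.comap σ, P.comap σ⁆, σ w = 1 → w = 1 := by
  classical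
  haveI : Finite G := Finite.of_surjective σ hsurj
  have hK' := hK
  obtain ⟨hz1, hz2, hσz, hw, hzc⟩ := hK
  obtain ⟨E₁, K, hKk, hK3, hE₁, hzE₁, hE₁or⟩ :=
    exists_compl_ab hsurj hK' S hEc k hk3 hkS hkN
  have hnorm : D₁ ≤ normalizer (E₁ : Set Γ) := by
    intro d hd
    apply Subgroup.mem_normalizer_fintype
    intro x hx
    exact compl_conj_mem_ab hK' S hEc k hkS E₁ K hKk hK3 hE₁ d
      (hDS _ (hD₁σ d hd)) (hDk _ (hD₁σ d hd)) x hx
  set P₁ : Subgroup Γ := D₁ ⊔ E₁ with hP₁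
  have hcE : Nat.card E₁ ≤ Nat.card (closure S) := by
    let f : E₁ → closure S := fun x => ⟨σ x, ((hE₁ x).mp x.2).1⟩
    apply Nat.card_le_card_of_injective f
    intro x y hxy
    have h1 : σ (x : Γ) = σ (y : Γ) := congrArg Subtype.val hxy
    have h2 : σ ((x : Γ)⁻¹ * y) = 1 := by rw [map_mul, map_inv, h1, inv_mul_cancel]
    rcases hw _ h2 with h | h
    · apply Subtype.ext
      exact inv_mul_eq_one.mp h
    · exfalso
      apply hzE₁
      rw [← h]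
      exact E₁.mul_mem (E₁.inv_mem x.2) y.2
  have hcP₁ : Nat.card P₁ ≤ n * m := by
    have h1 : ((P₁ : Subgroup Γ) : Set Γ) = (D₁ : Set Γ) * (E₁ : Set Γ) :=
      Subgroup.coe_mul_of_left_le_normalizer_right D₁ E₁ hnorm
    have h2 : Nat.card P₁ = Nat.card ((D₁ : Set Γ) * (E₁ : Set Γ) : Set Γ) := by
      rw [← h1]; rfl
    rw [h2]
    calc Nat.card ((D₁ : Set Γ) * (E₁ : Set Γ) : Set Γ)
        ≤ Nat.card (D₁ : Set Γ) * Nat.card (E₁ : Set Γ) := Set.natCard_mul_le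
      _ ≤ m * n := Nat.mul_le_mul hm (hcE.trans hn)
      _ = n * m := mul_comm _ _
  have hdec : ∀ x : Γ, σ x ∈ P → ∃ y ∈ P₁, σ (y⁻¹ * x) = 1 := by
    intro x hx
    have h1 : closure S ≤ E₁.map σ := by
      intro e he
      obtain ⟨x, rfl⟩ := hsurj e
      rcases hE₁or x he with h | h
      · exact ⟨x, h, rfl⟩
      · exact ⟨x * z, h, by rw [map_mul, hσz, mul_one]⟩
    have h2 : closure S ⊔ D ≤ P₁.map σ := by
      rw [hP₁, Subgroup.map_sup]
      exact sup_le (h1.trans le_sup_right) (hDle.trans le_sup_left)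
    obtain ⟨y, hy, hyx⟩ := h2 (hPle hx)
    exact ⟨y, hy, by rw [map_mul, map_inv, hyx, inv_mul_cancel]⟩
  have hcen : ∀ w : Γ, σ w = 1 → ∀ g : Γ, g * w = w * g := by
    intro w hw1 g
    rcases hw w hw1 with h | h
    · rw [h, one_mul, mul_one]
    · rw [h]; exact hzc g
  have hcomm : ⁅P.comap σ, P.comap σ⁆ ≤ P₁ := by
    rw [Subgroup.commutator_le]
    intro g₁ hg₁ g₂ hg₂
    obtain ⟨y₁, hy₁, hw₁⟩ := hdec g₁ hg₁
    obtain ⟨y₂, hy₂, hw₂⟩ := hdec g₂ hg₂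
    have c₁ := hcen _ hw₁
    have c₂ := hcen _ hw₂
    set w₁ := y₁⁻¹ * g₁ with hw₁d
    set w₂ := y₂⁻¹ * g₂ with hw₂d
    have e₁ : g₁ = y₁ * w₁ := by rw [hw₁d]; group
    have e₂ : g₂ = y₂ * w₂ := by rw [hw₂d]; group
    have : ⁅g₁, g₂⁆ = ⁅y₁, y₂⁆ := by
      rw [e₁, e₂, commutatorElement_def, commutatorElement_def]
      calc y₁ * w₁ * (y₂ * w₂) * (y₁ * w₁)⁻¹ * (y₂ * w₂)⁻¹
          = y₁ * (w₁ * y₂) * w₂ * w₁⁻¹ * y₁⁻¹ * w₂⁻¹ * y₂⁻¹ := by group
        _ = y₁ * (y₂ * w₁) * w₂ * w₁⁻¹ * y₁⁻¹ * w₂⁻¹ * y₂⁻¹ := by rw [← c₁ y₂]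
        _ = y₁ * y₂ * (w₁ * w₂) * w₁⁻¹ * y₁⁻¹ * w₂⁻¹ * y₂⁻¹ := by group
        _ = y₁ * y₂ * (w₂ * w₁) * w₁⁻¹ * y₁⁻¹ * w₂⁻¹ * y₂⁻¹ := by rw [c₂ w₁]
        _ = y₁ * y₂ * (w₂ * y₁⁻¹) * w₂⁻¹ * y₂⁻¹ := by group
        _ = y₁ * y₂ * (y₁⁻¹ * w₂) * w₂⁻¹ * y₂⁻¹ := by rw [← c₂ y₁⁻¹]
        _ = y₁ * y₂ * y₁⁻¹ * y₂⁻¹ := by group
    rw [this, commutatorElement_def]
    exact P₁.mul_mem (P₁.mul_mem (P₁.mul_mem hy₁ hy₂) (P₁.inv_mem hy₁)) (P₁.inv_mem hy₂)
  intro w hwc hw1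
  have hwP : w ∈ P₁ := hcomm hwc
  rcases hw w hw1 with h | h
  · exact h
  · exfalso
    rw [h] at hwP
    have hle : P.comap σ ≤ P₁ := by
      intro x hx
      obtain ⟨y, hy, hwx⟩ := hdec x hx
      have e : x = y * (y⁻¹ * x) := by group
      rw [e]
      rcases hw _ hwx with h' | h'
      · rw [h', mul_one]; exact hy
      · rw [h']; exact P₁.mul_mem hy hwP
    have hc1 : Nat.card (P.comap σ) ≤ Nat.card P₁ := Subgroup.card_le_of_le hle
    let f : P.comap σ → P := fun x => ⟨σ x, x.2⟩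
    have hfs : Function.Surjective f := by
      rintro ⟨g, hg⟩
      obtain ⟨x, rfl⟩ := hsurj g
      exact ⟨⟨x, hg⟩, rfl⟩
    have hfi : ¬ Function.Injective f := by
      intro hinj
      have hzm : z ∈ P.comap σ := by
        show σ z ∈ P
        rw [hσz]; exact one_mem _
      have : (⟨z, hzm⟩ : P.comap σ) = 1 := by
        apply hinj
        apply Subtype.ext
        show σ z = σ 1
        rw [hσz, map_one]
      exact hz1 (congrArg Subtype.val this)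
    haveI : Fintype (P.comap σ) := Fintype.ofFinite _
    haveI : Finite P := Finite.of_surjective f hfs
    haveI : Fintype P := Fintype.ofFinite _
    have hlt := Fintype.card_lt_of_surjective_not_injective f hfs hfi
    rw [← Nat.card_eq_fintype_card, ← Nat.card_eq_fintype_card] at hlt
    omega

end Cfsg.Agent.Lib.Helper5.Stem
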