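import Mathlib
import Cfsg.Agent.Lib.Helper5.M12MB
import Cfsg.Agent.Lib.Helper5.StemM
import Cfsg.Agent.Lib.Helper5.StemG
import Cfsg.Agent.Lib.helper3.StemTools2

set_option autoImplicit false

namespace Cfsg.Agent.Lib.Helper5.M12M

open Cfsg Cfsg.Agent.Lib.helper4 Cfsg.Agent.Lib.Helper12.Golay Cfsg.Agent.Lib.Helper5.Stem
open Cfsg.Agent.Lib.helper3
open Subgroup
open scoped commutatorElement

theorem card_M12' : Nat.card ↥Cfsg.Spor.M12 = 95040 := card_SporM12

/-- generators of the homocyclic group -/
def SA : Set ↥Cfsg.Spor.M12 := {a1, a2}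

theorem a1_mem : a1 ∈ closure SA := subset_closure (by simp [SA])
theorem a2_mem : a2 ∈ closure SA := subset_closure (by simp [SA])

theorem k_inv : k⁻¹ = k * k := by
  rw [inv_eq_iff_mul_eq_one]
  rw [← k_cube]; group

theorem conj_of_mul {a b c : ↥Cfsg.Spor.M12} (h : a * b = c * a) : a * b * a⁻¹ = c := by
  rw [h]; group

theorem k_SA : ∀ a ∈ SA, k * a * k⁻¹ ∈ closure SA := by
  intro a ha
  rcases ha with rfl | rfl
  · rw [conj_of_mul k_a1]
    exact a2_mem
  · rw [conj_of_mul k_a2]
    all_goals repeat (first | exact a1_mem | exact a2_mem | apply mul_mem)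

theorem c_SA : ∀ a ∈ SA, c * a * c⁻¹ ∈ closure SA := by
  intro a ha
  rcases ha with rfl | rfl
  · rw [conj_of_mul c_a1]
    all_goals repeat (first | exact a1_mem | exact a2_mem | apply mul_mem)
  · rw [conj_of_mul c_a2]
    all_goals repeat (first | exact a1_mem | exact a2_mem | apply mul_mem)

theorem s_SA : ∀ a ∈ SA, s * a * s⁻¹ ∈ closure SA := by
  intro a ha
  rcases ha with rfl | rfl
  · rw [conj_of_mul s_a1]
    all_goals repeat (first | exact a1_mem | exact a2_mem | apply mul_mem)
  · rw [conj_of_mul s_a2]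
    all_goals repeat (first | exact a1_mem | exact a2_mem | apply mul_mem)

theorem k_nrm : ∀ a ∈ SA, nrm3 k a = 1 := by
  intro a ha
  unfold nrm3
  rw [k_inv]
  rcases ha with rfl | rfl
  · exact k_nrm1
  · exact k_nrm2

/-- the complement -/
def DD : Subgroup ↥Cfsg.Spor.M12 := closure {c, s}

theorem DD_le_normalizer : DD ≤ normalizer ((closure SA : Subgroup ↥Cfsg.Spor.M12) : Set _) := by
  apply closure_le_normalizer_closure
  intro d hd
  rcases hd with rfl | rfl
  · exact c_SA
  · exact s_SA

theorem DD_SA : ∀ d ∈ DD, ∀ e ∈ closure SA, d * e * d⁻¹ ∈ closure SA :=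
  conj_mem_of_le_normalizer DD_le_normalizer

theorem DD_k : ∀ d ∈ DD, d⁻¹ * k * d = k ∨ d⁻¹ * k * d = k * k := by
  apply conj_k_closure k_cube
  intro d hd
  rcases hd with rfl | rfl
  · left; exact conj_of_mul c_k
  · right; exact conj_of_mul s_k

theorem card_SA_le : Nat.card (closure SA) ≤ 16 := by
  have hrel : a2 * a1 * a2⁻¹ = a1 ^ 1 := by
    rw [pow_one, conj_of_mul a12_comm.symm]
  have h1 : a1 ^ 4 = 1 := by
    rw [← a1_four, pow_succ, pow_succ, pow_two]
  have h2 : a2 ^ 4 = 1 := by
    rw [← a2_four, pow_succ, pow_succ, pow_two]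
  exact card_closure_pair_le hrel h1 (by norm_num) h2 (by norm_num)

theorem card_DD_le : Nat.card DD ≤ 4 := by
  have hrel : s * c * s⁻¹ = c ^ 1 := by
    rw [pow_one, conj_of_mul c_s.symm]
  have h1 : c ^ 2 = 1 := by rw [pow_two, c_sq]
  have h2 : s ^ 2 = 1 := by rw [pow_two, s_sq]
  exact card_closure_pair_le hrel h1 (by norm_num) h2 (by norm_num)

/-- the Sylow `2`-subgroup -/
def PP : Subgroup ↥Cfsg.Spor.M12 := closure SA ⊔ DD

theorem card_PP_le : Nat.card PP ≤ 64 := by
  calc Nat.card PP ≤ Nat.card (closure SA) * Nat.card DD :=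
        card_sup_le_of_le_normalizer DD_le_normalizer
    _ ≤ 16 * 4 := Nat.mul_le_mul card_SA_le card_DD_le

/-- tables of the generators of the Sylow subgroup -/
def gensT : List (List ℕ) := [tA1, tA2, tC, tS]

/-- table of a word in the generators -/
def evalT (w : List ℕ) : List ℕ :=
  w.foldr (fun i acc => compTbl (gensT.getD i (List.range 24)) acc) (List.range 24)

/-- the generators of the Sylow subgroup -/
noncomputable def gensG : List ↥Cfsg.Spor.M12 := [a1, a2, c, s]

/-- value of a word in the generators -/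
noncomputable def evalG (w : List ℕ) : ↥Cfsg.Spor.M12 :=
  w.foldr (fun i acc => gensG.getD i 1 * acc) 1

theorem Tb_gens (i : ℕ) : Tb (gensG.getD i 1) = gensT.getD i (List.range 24) := by
  rcases i with _ | _ | _ | _ | i
  · exact Tb_a1
  · exact Tb_a2
  · exact Tb_c
  · exact Tb_s
  · simp [gensG, gensT, Tb_one]

theorem Tb_evalG (w : List ℕ) : Tb (evalG w) = evalT w := by
  induction w with
  | nil => exact Tb_one
  | cons i w ih =>
    show Tb (gensG.getD i 1 * evalG w) = compTbl (gensT.getD i (List.range 24)) (evalT w)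
    rw [Tb_mul, ih, Tb_gens]

theorem gens_mem (i : ℕ) : gensG.getD i 1 ∈ PP := by
  have hE : closure SA ≤ PP := le_sup_left
  have hD : DD ≤ PP := le_sup_right
  rcases i with _ | _ | _ | _ | i
  · exact hE a1_mem
  · exact hE a2_mem
  · exact hD (subset_closure (show c ∈ ({c, s} : Set _) by simp))
  · exact hD (subset_closure (show s ∈ ({c, s} : Set _) by simp))
  · simp [gensG]

theorem evalG_mem (w : List ℕ) : evalG w ∈ PP := by
  induction w with
  | nil => exact one_mem _
  | cons i w ih => exact mul_mem (gens_mem i) ih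

/-- the 64 normal form words -/
def words : List (List ℕ) :=
  (List.range 64).map fun n =>
    List.replicate (n % 4) 0 ++ List.replicate (n / 4 % 4) 1 ++ List.replicate (n / 16 % 2) 2 ++
      List.replicate (n / 32 % 2) 3

theorem words_nodup : (words.map evalT).Nodup := by decide +kernel

theorem card_PP_ge : 64 ≤ Nat.card PP := by
  classical
  have h1 : (words.map evalG).Nodup := by
    have : (words.map evalG).map Tb = words.map evalT := by
      rw [List.map_map]
      apply List.map_congr_left
      intro w _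
      exact Tb_evalG w
    apply List.Nodup.of_map Tb
    rw [this]
    exact words_nodup
  set F : Finset ↥Cfsg.Spor.M12 := (words.map evalG).toFinset with hF
  have hcard : F.card = 64 := by
    rw [hF, List.toFinset_card_of_nodup h1, List.length_map]
    simp [words]
  have hsub : (F : Set ↥Cfsg.Spor.M12) ⊆ (PP : Set ↥Cfsg.Spor.M12) := by
    intro g hg
    rw [hF, Finset.mem_coe, List.mem_toFinset, List.mem_map] at hg
    obtain ⟨w, _, rfl⟩ := hg
    exact evalG_mem w
  have h2 := Set.ncard_le_ncard hsub (Set.toFinite _)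
  rw [Set.ncard_coe_finset, hcard] at h2
  exact h2

theorem card_PP : Nat.card PP = 64 := le_antisymm card_PP_le card_PP_ge

theorem PP_index : ¬ 2 ∣ PP.index := by
  have h1 := Subgroup.card_mul_index PP
  rw [card_PP, card_M12'] at h1
  have : PP.index = 1485 := by omega
  rw [this]
  norm_num

end Cfsg.Agent.Lib.Helper5.M12M
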