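import Mathlib
import Cfsg.Agent.Lib.Helper5.M12MC
import Cfsg.Agent.Lib.Helper5.StemA
import Cfsg.Agent.Lib.Helper5.StemI
import Cfsg.Agent.Lib.Helper5.StemJ
import Cfsg.Agent.Lib.helper3.StemTools2

set_option autoImplicit false

namespace Cfsg.Agent.Lib.Helper5.M12M

open Cfsg Cfsg.Agent.Lib.helper4 Cfsg.Agent.Lib.Helper12.Golay Cfsg.Agent.Lib.Helper5.Stem
open Cfsg.Agent.Lib.helper3
open Subgroup
open scoped commutatorElement

theorem conj_of_mul' {a b c : ↥Cfsg.Spor.M12} (h : a * b = c * a) : a⁻¹ * c * a⁻¹⁻¹ = b := by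
  rw [inv_inv]
  calc a⁻¹ * c * a = a⁻¹ * (c * a) := by group
    _ = a⁻¹ * (a * b) := by rw [h]
    _ = b := by group

/-- no double cover of the dodecad stabiliser in which both classes of involutions lift to
involutions -/
theorem no_stem_qinv {Γ : Type*} [Group Γ] [Finite Γ] (σ : Γ →* ↥Cfsg.Spor.M12)
    (hsurj : Function.Surjective σ) (hcen : σ.ker ≤ center Γ) (hder : σ.ker ≤ commutator Γ)
    {z : Γ} (hK : Ker2 σ z) (Qc : QInv σ c) (Qe : QInv σ e1) : False := by
  have hK' := hK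
  obtain ⟨hz1, hz2, hσz, hw, hzc⟩ := hK
  have qcB : ∀ {h v : ↥Cfsg.Spor.M12}, h * e1 = v * h → QInv σ v := by
    intro h v hh
    have := qinv_conj hsurj Qe h
    rwa [conj_of_mul hh] at this
  have qcA : ∀ {h v : ↥Cfsg.Spor.M12}, h * c = v * h → QInv σ v := by
    intro h v hh
    have := qinv_conj hsurj Qc h
    rwa [conj_of_mul hh] at this
  have Qa1c : QInv σ (a1 * c) := qcB qa1c_conj
  have Qa2c : QInv σ (a2 * c) := qcB qa2c_conj
  have Qa12c : QInv σ (a1 * a2 * c) := qcB qa12c_conj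
  have Qs : QInv σ s := qcA qs_conj
  have Qcs : QInv σ (c * s) := qcA qcs_conj
  have hEc : ∀ x ∈ (closure SA).comap σ, ∀ y ∈ (closure SA).comap σ, x * y = y * x :=
    comap_closure_pair_comm hsurj hK' a1 a2 c Qc Qa1c Qa2c Qa12c
  obtain ⟨C, hC⟩ := hsurj c
  obtain ⟨S', hS'⟩ := hsurj s
  have hC2 : C * C = 1 := Qc C hC
  have hS2 : S' * S' = 1 := Qs S' hS'
  have hCS2 : (C * S') * (C * S') = 1 := Qcs (C * S') (by rw [map_mul, hC, hS'])
  have hCS : C * S' = S' * C := by
    calc C * S' = C * ((C * S') * (C * S')) * S' := by rw [hCS2, mul_one]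
      _ = (C * C) * S' * C * (S' * S') := by group
      _ = S' * C := by rw [hC2, hS2, one_mul, mul_one]
  set D₁ : Subgroup Γ := closure ({C, S'} : Set Γ) with hD₁
  have hmap : D₁.map σ = DD := by
    rw [hD₁, MonoidHom.map_closure, Set.image_pair, hC, hS']
    rfl
  have hD₁σ : ∀ x ∈ D₁, σ x ∈ DD := by
    intro x hx
    rw [← hmap]
    exact Subgroup.mem_map_of_mem σ hx
  have hDle : DD ≤ D₁.map σ := by rw [hmap]
  have hm : Nat.card D₁ ≤ 4 := by
    have hrel : S' * C * S'⁻¹ = C ^ 1 := by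
      rw [pow_one, ← hCS]; group
    exact card_closure_pair_le hrel (by rw [pow_two, hC2]) (by norm_num)
      (by rw [pow_two, hS2]) (by norm_num)
  have hS := comm_comap_trivial_of_split_ab hsurj hK' SA hEc k k_cube k_SA k_nrm
    DD DD_SA DD_k D₁ hD₁σ hDle 16 4 card_SA_le hm PP (le_refl _) card_PP_ge
  haveI : Fact (Nat.Prime 2) := ⟨Nat.prime_two⟩
  have := stem_no_prime_of_subgroup σ hsurj hcen hder PP PP_index hS
    (MonoidHom.mem_ker.mpr hσz) (by rw [pow_two, hz2])
  exact hz1 this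

/-- in every double cover of the dodecad stabiliser the lifts of `c` and `s` do not commute -/
theorem lifts_noncomm {Γ : Type*} [Group Γ] [Finite Γ] (σ : Γ →* ↥Cfsg.Spor.M12)
    (hσ : Cfsg.IsStemExtension σ) (hcard : Nat.card σ.ker = 2) :
    ∀ C S' : Γ, σ C = c → σ S' = s → C * S' ≠ S' * C := by
  obtain ⟨hsurj, hcen, hder⟩ := hσ
  obtain ⟨z, hK⟩ := ker2_of_card hcen hcard
  have hK' := hK
  obtain ⟨hz1, hz2, hσz, hw, hzc⟩ := hK
  have Qe : QInv σ e1 :=
    qinv_of_E8 hsurj hK' e1 e2 e3 e1_sq e12_comm e13_comm e23_comm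
      ⟨qe2, conj_of_mul qe2_conj⟩ ⟨qe3, conj_of_mul qe3_conj⟩ ⟨qe12, conj_of_mul qe12_conj⟩
      ⟨qe13, conj_of_mul qe13_conj⟩ ⟨qe23, conj_of_mul qe23_conj⟩
      ⟨qe123, conj_of_mul qe123_conj⟩
  have nQc : ¬ QInv σ c := fun Qc => no_stem_qinv σ hsurj hcen hder hK' Qc Qe
  have nQs : ¬ QInv σ s := by
    intro Q
    apply nQc
    have := qinv_conj hsurj Q qs⁻¹
    rwa [conj_of_mul' qs_conj] at this
  have nQcs : ¬ QInv σ (c * s) := by
    intro Q
    apply nQc
    have := qinv_conj hsurj Q qcs⁻¹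
    rwa [conj_of_mul' qcs_conj] at this
  have hcs2 : (c * s) * (c * s) = 1 := by
    calc (c * s) * (c * s) = c * (s * c) * s := by group
      _ = c * (c * s) * s := by rw [c_s]
      _ = (c * c) * (s * s) := by group
      _ = 1 := by rw [c_sq, s_sq, one_mul]
  intro C S' hC hS' hcomm
  have h1 := sq_eq_z_of_not_qinv hK' c_sq nQc C hC
  have h2 := sq_eq_z_of_not_qinv hK' s_sq nQs S' hS'
  have h3 := sq_eq_z_of_not_qinv hK' hcs2 nQcs (C * S') (by rw [map_mul, hC, hS'])
  have h4 : (C * S') * (C * S') = 1 := by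
    calc (C * S') * (C * S') = C * (S' * C) * S' := by group
      _ = C * (C * S') * S' := by rw [hcomm]
      _ = (C * C) * (S' * S') := by group
      _ = 1 := by rw [h1, h2, hz2]
  rw [h4] at h3
  exact hz1 h3.symm

/-! ### the Sylow `3`-subgroup -/

def gensT3 : List (List ℕ) := [tX, tY]

def evalT3 (w : List ℕ) : List ℕ :=
  w.foldr (fun i acc => compTbl (gensT3.getD i (List.range 24)) acc) (List.range 24)

noncomputable def gensG3 : List ↥Cfsg.Spor.M12 := [x, y]

noncomputable def evalG3 (w : List ℕ) : ↥Cfsg.Spor.M12 :=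
  w.foldr (fun i acc => gensG3.getD i 1 * acc) 1

theorem Tb_gens3 (i : ℕ) : Tb (gensG3.getD i 1) = gensT3.getD i (List.range 24) := by
  rcases i with _ | _ | i
  · exact Tb_x
  · exact Tb_y
  · simp [gensG3, gensT3, Tb_one]

theorem Tb_evalG3 (w : List ℕ) : Tb (evalG3 w) = evalT3 w := by
  induction w with
  | nil => exact Tb_one
  | cons i w ih =>
    show Tb (gensG3.getD i 1 * evalG3 w) = compTbl (gensT3.getD i (List.range 24)) (evalT3 w)
    rw [Tb_mul, ih, Tb_gens3]

/-- the Sylow `3`-subgroup -/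
def S3 : Subgroup ↥Cfsg.Spor.M12 := closure {x, y}

theorem gens3_mem (i : ℕ) : gensG3.getD i 1 ∈ S3 := by
  rcases i with _ | _ | i
  · exact subset_closure (show x ∈ ({x, y} : Set _) by simp)
  · exact subset_closure (show y ∈ ({x, y} : Set _) by simp)
  · simp [gensG3]

theorem evalG3_mem (w : List ℕ) : evalG3 w ∈ S3 := by
  induction w with
  | nil => exact one_mem _
  | cons i w ih => exact mul_mem (gens3_mem i) ih

/-- the 27 normal form words `x^i y^j [x,y]^l` -/
def words3 : List (List ℕ) :=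
  (List.range 27).map fun n =>
    List.replicate (n % 3) 0 ++ List.replicate (n / 3 % 3) 1 ++
      (List.replicate (n / 9 % 3) [0, 1, 0, 0, 1, 1]).flatten

theorem words3_nodup : (words3.map evalT3).Nodup := by decide +kernel

theorem card_S3_ge : 27 ≤ Nat.card S3 := by
  classical
  have h1 : (words3.map evalG3).Nodup := by
    have : (words3.map evalG3).map Tb = words3.map evalT3 := by
      rw [List.map_map]
      apply List.map_congr_left
      intro w _
      exact Tb_evalG3 w
    apply List.Nodup.of_map Tb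
    rw [this]
    exact words3_nodup
  set F : Finset ↥Cfsg.Spor.M12 := (words3.map evalG3).toFinset with hF
  have hcard : F.card = 27 := by
    rw [hF, List.toFinset_card_of_nodup h1, List.length_map]
    simp [words3]
  have hsub : (F : Set ↥Cfsg.Spor.M12) ⊆ (S3 : Set ↥Cfsg.Spor.M12) := by
    intro g hg
    rw [hF, Finset.mem_coe, List.mem_toFinset, List.mem_map] at hg
    obtain ⟨w, _, rfl⟩ := hg
    exact evalG3_mem w
  have h2 := Set.ncard_le_ncard hsub (Set.toFinite _)
  rw [Set.ncard_coe_finset, hcard] at h2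
  exact h2

theorem card_S3_le : Nat.card S3 ≤ 27 := by
  have hrel : w * x * w⁻¹ = x ^ 1 := by
    rw [pow_one, conj_of_mul w_x]
  have hx3 : x ^ 3 = 1 := by rw [← x_cube, pow_succ, pow_two]
  have hw3 : w ^ 3 = 1 := by rw [← w_cube, pow_succ, pow_two]
  have hy3 : y ^ 3 = 1 := by rw [← y_cube, pow_succ, pow_two]
  have hN := card_closure_pair_le hrel hx3 (by norm_num) hw3 (by norm_num)
  have hxN : x ∈ closure ({x, w} : Set ↥Cfsg.Spor.M12) := subset_closure (by simp)
  have hwN : w ∈ closure ({x, w} : Set ↥Cfsg.Spor.M12) := subset_closure (by simp)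
  have hyn : zpowers y ≤ normalizer ((closure ({x, w} : Set ↥Cfsg.Spor.M12) : Subgroup _) : Set _) := by
    rw [zpowers_le]
    apply Subgroup.mem_normalizer_fintype
    apply conj_mem_closure_of_gens
    intro a ha
    rcases ha with rfl | rfl
    · have h : y * x = (w * w * x) * y := by rw [y_x]
      rw [conj_of_mul h]
      exact mul_mem (mul_mem hwN hwN) hxN
    · have h : y * w = w * y := w_y.symm
      rw [conj_of_mul h]
      exact hwN
  have hle : S3 ≤ closure ({x, w} : Set ↥Cfsg.Spor.M12) ⊔ zpowers y := by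
    unfold S3
    rw [closure_le]
    intro g hg
    rcases hg with rfl | rfl
    · exact le_sup_left (a := closure ({x, w} : Set ↥Cfsg.Spor.M12)) hxN
    · exact le_sup_right (a := closure ({x, w} : Set ↥Cfsg.Spor.M12)) (mem_zpowers y)
  have hz : Nat.card (zpowers y) ≤ 3 := by
    rw [Nat.card_zpowers]
    apply Nat.le_of_dvd (by norm_num)
    exact orderOf_dvd_of_pow_eq_one hy3
  calc Nat.card S3 ≤ Nat.card (closure ({x, w} : Set ↥Cfsg.Spor.M12) ⊔ zpowers y : Subgroup _) :=
        Subgroup.card_le_of_le hle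
    _ ≤ Nat.card (closure ({x, w} : Set ↥Cfsg.Spor.M12)) * Nat.card (zpowers y) :=
        card_sup_le_of_le_normalizer hyn
    _ ≤ (3 * 3) * 3 := Nat.mul_le_mul hN hz

theorem card_S3 : Nat.card S3 = 27 := le_antisymm card_S3_le card_S3_ge

theorem S3_index : ¬ 3 ∣ S3.index := by
  have h1 := Subgroup.card_mul_index S3
  rw [card_S3, card_M12'] at h1
  have : S3.index = 3520 := by omega
  rw [this]
  norm_num

theorem comm_xy : ⁅x, y⁆ = w := by
  have hxinv : x⁻¹ = x * x := by
    rw [inv_eq_iff_mul_eq_one, ← x_cube]; group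
  have hyinv : y⁻¹ = y * y := by
    rw [inv_eq_iff_mul_eq_one, ← y_cube]; group
  rw [commutatorElement_def, hxinv, hyinv, w_def]

/-- no stem extension of the dodecad stabiliser has a kernel of order three -/
theorem no_stem_three {Γ : Type*} [Group Γ] [Finite Γ] (σ : Γ →* ↥Cfsg.Spor.M12)
    (hσ : Cfsg.IsStemExtension σ) (hcard : Nat.card σ.ker = 3) : False := by
  obtain ⟨hsurj, hcen, hder⟩ := hσ
  have hk3 : ∀ κ ∈ σ.ker, κ ^ 3 = 1 := by
    intro κ hκ
    have := pow_card_eq_one' (G := σ.ker) (x := ⟨κ, hκ⟩)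
    rw [hcard] at this
    exact congrArg Subtype.val this
  have hxinv : x⁻¹ = x * x := by
    rw [inv_eq_iff_mul_eq_one, ← x_cube]; group
  have hyinv : y⁻¹ = y * y := by
    rw [inv_eq_iff_mul_eq_one, ← y_cube]; group
  have hx3 : x ^ 3 = 1 := by rw [← x_cube, pow_succ, pow_two]
  have htx : t * x * t⁻¹ = x⁻¹ := by rw [hxinv]; exact conj_of_mul t_x
  have hty : t * y * t⁻¹ = y⁻¹ := by rw [hyinv]; exact conj_of_mul t_y
  have htw : t * ⁅x, y⁆ * t⁻¹ = ⁅x, y⁆ := by rw [comm_xy]; exact conj_of_mul t_w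
  have hS := comm_comap_trivial_of_heis hsurj hcen hk3 x y t hx3
    (by rw [comm_xy]; exact w_x) (by rw [comm_xy]; exact w_y) (by rw [comm_xy]; exact w_ne)
    htx hty htw
  haveI : Fact (Nat.Prime 3) := ⟨Nat.prime_three⟩
  have hall : ∀ z ∈ σ.ker, z = 1 := by
    intro z hz
    exact stem_no_prime_of_subgroup σ hsurj hcen hder S3 S3_index hS hz (hk3 z hz)
  have : Nat.card σ.ker = 1 := by
    rw [Nat.card_eq_one_iff_unique]
    refine ⟨⟨fun a b => ?_⟩, ⟨1⟩⟩
    apply Subtype.ext
    rw [hall a a.2, hall b b.2]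
  omega

/-- no stem extension of the dodecad stabiliser has a kernel of odd prime order -/
theorem no_stem_odd (p : ℕ) (hpP : p.Prime) (hp2 : p ≠ 2) {Γ : Type*} [Group Γ] [Finite Γ]
    (σ : Γ →* ↥Cfsg.Spor.M12) (hσ : Cfsg.IsStemExtension σ) : Nat.card σ.ker ≠ p := by
  intro hcardp
  by_cases hp3 : p = 3
  · subst hp3
    exact no_stem_three σ hσ hcardp
  have hσ' := hσ
  obtain ⟨hsurj, hcen, hder⟩ := hσ
  have hcard := card_M12'
  haveI : Fact p.Prime := ⟨hpP⟩
  obtain ⟨Rr⟩ : Nonempty (Sylow p ↥Cfsg.Spor.M12) := inferInstance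
  have hcyc : IsCyclic (Rr : Subgroup ↥Cfsg.Spor.M12) := by
    obtain ⟨j, hj⟩ := IsPGroup.iff_card.mp Rr.2
    have hdvd : p ^ j ∣ 95040 := by
      rw [← hj, ← hcard]
      exact Subgroup.card_subgroup_dvd_card _
    have hj1 : j ≤ 1 := by
      by_contra hlt
      push Not at hlt
      have h2 : p ^ 2 ∣ 95040 := dvd_trans (pow_dvd_pow p hlt) hdvd
      have e : (95040 : ℕ) = 2 ^ 6 * 3 ^ 3 * 5 * 11 := by norm_num
      rw [e] at h2
      have hpd : p ∣ 2 ^ 6 * 3 ^ 3 * 5 * 11 :=
        dvd_trans (dvd_pow_self p (by norm_num)) h2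
      have hcases : p = 2 ∨ p = 3 ∨ p = 5 ∨ p = 11 := by
        rcases (Nat.Prime.dvd_mul hpP).mp hpd with h | h
        · rcases (Nat.Prime.dvd_mul hpP).mp h with h | h
          · rcases (Nat.Prime.dvd_mul hpP).mp h with h | h
            · left
              exact (Nat.prime_dvd_prime_iff_eq hpP Nat.prime_two).mp (hpP.dvd_of_dvd_pow h)
            · right; left
              exact (Nat.prime_dvd_prime_iff_eq hpP Nat.prime_three).mp
                (hpP.dvd_of_dvd_pow h)
          · right; right; left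
            exact (Nat.prime_dvd_prime_iff_eq hpP (by norm_num)).mp h
        · right; right; right
          exact (Nat.prime_dvd_prime_iff_eq hpP (by norm_num)).mp h
      rcases hcases with rfl | rfl | rfl | rfl
      · exact hp2 rfl
      · exact hp3 rfl
      · revert h2; norm_num
      · revert h2; norm_num
    interval_cases j
    · rw [pow_zero] at hj
      haveI : Subsingleton (Rr : Subgroup ↥Cfsg.Spor.M12) :=
        (Nat.card_eq_one_iff_unique.mp hj).1
      exact isCyclic_of_subsingleton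
    · rw [pow_one] at hj
      exact isCyclic_of_prime_card hj
  haveI := hcyc
  have hind : ¬ p ∣ (Rr : Subgroup ↥Cfsg.Spor.M12).index := Sylow.not_dvd_index Rr
  have hall : ∀ z ∈ σ.ker, z = 1 := by
    intro z hz
    have hzp : z ^ p = 1 := by
      have := pow_card_eq_one' (G := σ.ker) (x := ⟨z, hz⟩)
      rw [hcardp] at this
      exact congrArg Subtype.val this
    refine stem_no_prime_of_subgroup σ hsurj hcen hder (Rr : Subgroup ↥Cfsg.Spor.M12) hind ?_
      hz hzp
    intro w hw _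
    exact comm_comap_trivial_of_cyclic σ hcen (Rr : Subgroup ↥Cfsg.Spor.M12) w hw
  have : Nat.card σ.ker = 1 := by
    rw [Nat.card_eq_one_iff_unique]
    refine ⟨⟨fun a b => ?_⟩, ⟨1⟩⟩
    apply Subtype.ext
    rw [hall a a.2, hall b b.2]
  rw [this] at hcardp
  exact hpP.one_lt.ne hcardp

/-- the kernel of every finite stem extension of the dodecad stabiliser has order at most two -/
theorem m12_card_ker_le_two {Γ : Type} [Group Γ] [Finite Γ] (σ : Γ →* ↥Cfsg.Spor.M12)
    (hσ : Cfsg.IsStemExtension σ) : Nat.card σ.ker ≤ 2 := by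
  refine card_ker_le_two c s c_s s_sq ?_ ?_ σ hσ
  · intro p hp hp2 Γ' _ _ σ' hσ'
    exact no_stem_odd p hp hp2 σ' hσ'
  · intro Γ' _ _ σ' hσ' hc
    exact lifts_noncomm σ' hσ' hc

end Cfsg.Agent.Lib.Helper5.M12M
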