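import Cfsg.Agent.Lib.Helper5.M22CovData
import Cfsg.Agent.Lib.helper23.PgX

set_option autoImplicit false
set_option maxRecDepth 1000000
set_option Elab.async false

/-! The twelvefold cover of the Mathieu group of degree 22 on 5645 points: the checks of the
stabiliser chain (generated). -/

namespace Cfsg.Agent.Lib.Helper5.M22Cov

open Cfsg.Agent.Lib.helper23 Subgroup MulAction

theorem mcvchk0x7 : pgChkLvlW0 5645 mcvL7 [] = true := by decide +kernel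
theorem mcvchk0x6 : pgChkLvlW0 5645 mcvL6 [mcvL7] = true := by decide +kernel
theorem mcvchk0x5 : pgChkLvlW0 5645 mcvL5 [mcvL6, mcvL7] = true := by decide +kernel
theorem mcvchk0x4 : pgChkLvlW0 5645 mcvL4 [mcvL5, mcvL6, mcvL7] = true := by decide +kernel
theorem mcvchk0x3 : pgChkLvlW0 5645 mcvL3 [mcvL4, mcvL5, mcvL6, mcvL7] = true := by decide +kernel
theorem mcvchk0x2 : pgChkLvlW0 5645 mcvL2 [mcvL3, mcvL4, mcvL5, mcvL6, mcvL7] = true := by decide +kernel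
theorem mcvchk0x1 : pgChkLvlW0 5645 mcvL1 [mcvL2, mcvL3, mcvL4, mcvL5, mcvL6, mcvL7] = true := by decide +kernel

theorem mcvcl7x0 : pgChkGenW 5645 (List.range 5645) mcvL7 []
    (mcvgen mcvT7x0 mcvI7x0) 0 5645 = true := by
  decide +kernel
theorem mcvcl7x1 : pgChkGenW 5645 (List.range 5645) mcvL7 []
    (mcvgen mcvT7x1 mcvI7x1) 0 5645 = true := by
  decide +kernel
theorem mcvcl6x0 : pgChkGenW 5645 (List.range 5645) mcvL6 [mcvL7]
    (mcvgen mcvT6x0 mcvI6x0) 0 5645 = true := by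
  decide +kernel
theorem mcvcl6x1 : pgChkGenW 5645 (List.range 5645) mcvL6 [mcvL7]
    (mcvgen mcvT6x1 mcvI6x1) 0 5645 = true := by
  decide +kernel
theorem mcvcl5x0 : pgChkGenW 5645 (List.range 5645) mcvL5 [mcvL6, mcvL7]
    (mcvgen mcvT5x0 mcvI5x0) 0 5645 = true := by
  decide +kernel
theorem mcvcl5x1 : pgChkGenW 5645 (List.range 5645) mcvL5 [mcvL6, mcvL7]
    (mcvgen mcvT5x1 mcvI5x1) 0 5645 = true := by
  decide +kernel
theorem mcvcl4x0 : pgChkGenW 5645 (List.range 5645) mcvL4 [mcvL5, mcvL6, mcvL7]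
    (mcvgen mcvT4x0 mcvI4x0) 0 5645 = true := by
  decide +kernel
theorem mcvcl4x1 : pgChkGenW 5645 (List.range 5645) mcvL4 [mcvL5, mcvL6, mcvL7]
    (mcvgen mcvT4x1 mcvI4x1) 0 5645 = true := by
  decide +kernel
theorem mcvcl4x2 : pgChkGenW 5645 (List.range 5645) mcvL4 [mcvL5, mcvL6, mcvL7]
    (mcvgen mcvT4x2 mcvI4x2) 0 5645 = true := by
  decide +kernel
theorem mcvcl3x0 : pgChkGenW 5645 (List.range 5645) mcvL3 [mcvL4, mcvL5, mcvL6, mcvL7]
    (mcvgen mcvT3x0 mcvI3x0) 0 5645 = true := by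
  decide +kernel
theorem mcvcl3x1 : pgChkGenW 5645 (List.range 5645) mcvL3 [mcvL4, mcvL5, mcvL6, mcvL7]
    (mcvgen mcvT3x1 mcvI3x1) 0 5645 = true := by
  decide +kernel
theorem mcvcl2x0 : pgChkGenW 5645 (List.range 5645) mcvL2 [mcvL3, mcvL4, mcvL5, mcvL6, mcvL7]
    (mcvgen mcvT2x0 mcvI2x0) 0 5645 = true := by
  decide +kernel
theorem mcvcl2x1 : pgChkGenW 5645 (List.range 5645) mcvL2 [mcvL3, mcvL4, mcvL5, mcvL6, mcvL7]
    (mcvgen mcvT2x1 mcvI2x1) 0 5645 = true := by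
  decide +kernel
theorem mcvcl1x0 : pgChkGenW 5645 (List.range 5645) mcvL1 [mcvL2, mcvL3, mcvL4, mcvL5, mcvL6, mcvL7]
    (mcvgen mcvT1x0 mcvI1x0) 0 5645 = true := by
  decide +kernel
theorem mcvcl1x1 : pgChkGenW 5645 (List.range 5645) mcvL1 [mcvL2, mcvL3, mcvL4, mcvL5, mcvL6, mcvL7]
    (mcvgen mcvT1x1 mcvI1x1) 0 5645 = true := by
  decide +kernel
theorem mcvcl1x2 : pgChkGenW 5645 (List.range 5645) mcvL1 [mcvL2, mcvL3, mcvL4, mcvL5, mcvL6, mcvL7]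
    (mcvgen mcvT1x2 mcvI1x2) 0 5645 = true := by
  decide +kernel

theorem mcvchkL7 : pgChkLvlW 5645 (List.range 5645) mcvL7 [] = true := by
  apply pgChkLvlW_ofAllX mcvchk0x7
  intro s hs
  change s ∈ [mcvgen mcvT7x0 mcvI7x0, mcvgen mcvT7x1 mcvI7x1] at hs
  simp only [List.mem_cons, List.not_mem_nil, or_false] at hs
  rcases hs with rfl | rfl
  · exact mcvcl7x0
  · exact mcvcl7x1

theorem mcvchkL6 : pgChkLvlW 5645 (List.range 5645) mcvL6 [mcvL7] = true := by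
  apply pgChkLvlW_ofAllX mcvchk0x6
  intro s hs
  change s ∈ [mcvgen mcvT6x0 mcvI6x0, mcvgen mcvT6x1 mcvI6x1] at hs
  simp only [List.mem_cons, List.not_mem_nil, or_false] at hs
  rcases hs with rfl | rfl
  · exact mcvcl6x0
  · exact mcvcl6x1

theorem mcvchkL5 : pgChkLvlW 5645 (List.range 5645) mcvL5 [mcvL6, mcvL7] = true := by
  apply pgChkLvlW_ofAllX mcvchk0x5
  intro s hs
  change s ∈ [mcvgen mcvT5x0 mcvI5x0, mcvgen mcvT5x1 mcvI5x1] at hs
  simp only [List.mem_cons, List.not_mem_nil, or_false] at hs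
  rcases hs with rfl | rfl
  · exact mcvcl5x0
  · exact mcvcl5x1

theorem mcvchkL4 : pgChkLvlW 5645 (List.range 5645) mcvL4 [mcvL5, mcvL6, mcvL7] = true := by
  apply pgChkLvlW_ofAllX mcvchk0x4
  intro s hs
  change s ∈ [mcvgen mcvT4x0 mcvI4x0, mcvgen mcvT4x1 mcvI4x1, mcvgen mcvT4x2 mcvI4x2] at hs
  simp only [List.mem_cons, List.not_mem_nil, or_false] at hs
  rcases hs with rfl | rfl | rfl
  · exact mcvcl4x0
  · exact mcvcl4x1
  · exact mcvcl4x2

theorem mcvchkL3 : pgChkLvlW 5645 (List.range 5645) mcvL3 [mcvL4, mcvL5, mcvL6, mcvL7] = true := by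
  apply pgChkLvlW_ofAllX mcvchk0x3
  intro s hs
  change s ∈ [mcvgen mcvT3x0 mcvI3x0, mcvgen mcvT3x1 mcvI3x1] at hs
  simp only [List.mem_cons, List.not_mem_nil, or_false] at hs
  rcases hs with rfl | rfl
  · exact mcvcl3x0
  · exact mcvcl3x1

theorem mcvchkL2 : pgChkLvlW 5645 (List.range 5645) mcvL2 [mcvL3, mcvL4, mcvL5, mcvL6, mcvL7] = true := by
  apply pgChkLvlW_ofAllX mcvchk0x2
  intro s hs
  change s ∈ [mcvgen mcvT2x0 mcvI2x0, mcvgen mcvT2x1 mcvI2x1] at hs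
  simp only [List.mem_cons, List.not_mem_nil, or_false] at hs
  rcases hs with rfl | rfl
  · exact mcvcl2x0
  · exact mcvcl2x1

theorem mcvchkL1 : pgChkLvlW 5645 (List.range 5645) mcvL1 [mcvL2, mcvL3, mcvL4, mcvL5, mcvL6, mcvL7] = true := by
  apply pgChkLvlW_ofAllX mcvchk0x1
  intro s hs
  change s ∈ [mcvgen mcvT1x0 mcvI1x0, mcvgen mcvT1x1 mcvI1x1, mcvgen mcvT1x2 mcvI1x2] at hs
  simp only [List.mem_cons, List.not_mem_nil, or_false] at hs
  rcases hs with rfl | rfl | rfl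
  · exact mcvcl1x0
  · exact mcvcl1x1
  · exact mcvcl1x2

/-- the stabiliser chain -/
def mcvC : List PgLvlW := [mcvL1, mcvL2, mcvL3, mcvL4, mcvL5, mcvL6, mcvL7]

theorem mcvchkC : pgChkW 5645 (pgRigidAll 5645).base mcvC = true := by
  change pgChkW 5645 (List.range 5645) [mcvL1, mcvL2, mcvL3, mcvL4, mcvL5, mcvL6, mcvL7] = true
  rw [pgChkW_cons, pgChkW_cons, pgChkW_cons, pgChkW_cons, pgChkW_cons, pgChkW_cons, pgChkW_cons, mcvchkL1, mcvchkL2, mcvchkL3, mcvchkL4, mcvchkL5, mcvchkL6, mcvchkL7]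
  rfl

end Cfsg.Agent.Lib.Helper5.M22Cov
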