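import Mathlib

set_option autoImplicit false

/-! Coded permutations of elements of the Mathieu group on 22 points (generated). -/

namespace Cfsg.Agent.Lib.Helper5.M22M

/-- the coded identity -/
def Uid : ℕ := 984818244535754528103549039458486304

/-- a coded generator -/
def TU : ℕ := 983435072843990828779021698901151808

/-- a coded generator -/
def TUi : ℕ := 970567384681219435340729552166356352

/-- a coded generator -/
def TC : ℕ := 974380510768821363662145534143076928

/-- a coded generator -/
def TCi : ℕ := 980275914351787324191492553553580224

/-- a coded generator -/
def TX : ℕ := 984447756380300809835322717071984672

/-- a coded generator -/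
def TXi : ℕ := 984444188461805708752323088099022880

/-- a coded permutation -/
def Ul6 : ℕ := 964976898176813812492531966692429856

/-- a coded permutation -/
def Ul7 : ℕ := 967516002347206031694005371815503904

/-- a coded permutation -/
def Ul8 : ℕ := 963599896707347998041774125232536608

/-- a coded permutation -/
def Ul9 : ℕ := 962570622126417058078443843845463072

/-- a coded permutation -/
def Ul10 : ℕ := 960988986577231320736564629526349856

/-- a coded permutation -/
def Ul11 : ℕ := 961207837431344953759349665863829536

/-- a coded permutation -/
def Ul12 : ℕ := 979121071158219704299181131031480352

/-- a coded permutation -/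
def Ul13 : ℕ := 961167123722574983539925332540065824

/-- a coded permutation -/
def Ul14 : ℕ := 976767427358753176783636127151228960

/-- a coded permutation -/
def Ul15 : ℕ := 964862721552653238424309835408443424

/-- a coded permutation -/
def Ul16 : ℕ := 981515887986994088769278604842469408

/-- a coded permutation -/
def Ul17 : ℕ := 966039336168793943308839874394687520

/-- a coded permutation -/
def Ul18 : ℕ := 982125237077252311731715764534741024

/-- a coded permutation -/
def Ul19 : ℕ := 976531636853126291160407323722221600

/-- a coded permutation -/
def Ul20 : ℕ := 972606645568131968584696805283956768

/-- a coded permutation -/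
def Ug0 : ℕ := 984811429714710091765093624538563648

/-- a coded permutation -/
def Ug1 : ℕ := 968732419091982706451765460932898848

/-- a coded permutation -/
def Ug2 : ℕ := 969217929027288503143687768511230176

/-- a coded permutation -/
def Ug3 : ℕ := 964046246854116924572671177954233376

/-- a coded permutation -/
def Ug4 : ℕ := 969240118097008726526406917528625184

/-- a coded permutation -/
def Ug5 : ℕ := 984815434334561325912895118470422688

/-- a coded permutation -/
def Ug6 : ℕ := 984808064567918337519799801439391072

/-- a coded permutation -/
def Ueb : ℕ := 984810545863915030200161621005872224

/-- a coded permutation -/
def Uec : ℕ := 984801601476593682234882581479994496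

/-- a coded permutation -/
def Uqb : ℕ := 969034753980299655864225918451323040

/-- a coded permutation -/
def Uqc : ℕ := 969036826348592123620307226672534624

/-- a coded permutation -/
def Uqab : ℕ := 967961849470628137658785812115083648

/-- a coded permutation -/
def Uqac : ℕ := 984808003792934666697392169787079904

/-- a coded permutation -/
def Uqbc : ℕ := 963555498848753706522567668332006528

/-- a coded permutation -/
def Uqabc : ℕ := 983545423833170585750443892267168864

/-- a coded permutation -/
def Uq1 : ℕ := 976748461964864624907677091658745056

/-- a coded permutation -/
def Uq3 : ℕ := 972303911225570084956626908888762464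

/-- a coded permutation -/
def Uq4 : ℕ := 957050354301419917472520077732006272

/-- a coded permutation -/
def Uq24 : ℕ := 967935079088711241958662139306950048

/-- a coded permutation -/
def Ux4 : ℕ := 964045052165061943334674145765010496

/-- a coded permutation -/
def Uy4 : ℕ := 969217014228388002673163268315920992

/-- a coded permutation -/
def Ux3 : ℕ := 984574438203729108353556248726555808

/-- a coded permutation -/
def Uy3 : ℕ := 963604705720992899039160742235776032

end Cfsg.Agent.Lib.Helper5.M22M
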