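import Mathlib
import Cfsg.Agent.Lib.Helper5.CodedPerm
import Cfsg.Agent.Lib.Helper5.M22MData
import Cfsg.Agent.Lib.helper23.PgE
import Cfsg.Agent.Lib.helper4.OutM22

set_option autoImplicit false

/-! The Mathieu group on 22 points as a group of permutations of `Fin 24` given by coded
permutations, and its identification with the two-point stabiliser in the automorphism group of the
Golay code. -/

namespace Cfsg.Agent.Lib.Helper5.M22M

open Cfsg Cfsg.Agent.Lib.helper23 Cfsg.Agent.Lib.helper4 Cfsg.Agent.Lib.Helper12.Golay
open Cfsg.Agent.Lib.Helper5.CP Subgroup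

/-- lookup in a packed table, 5 bits per entry -/
def lk24 (T i : ℕ) : ℕ := Nat.land (Nat.shiftRight T (Nat.mul 5 i)) 31

/-- a generator from its table and the table of its inverse -/
def gen24 (T T' : ℕ) : PFun := ⟨fun i => lk24 T i, fun i => lk24 T' i⟩

/-- the three generators, as pairs of lookups -/
def pU : PFun := gen24 TU TUi
def pC : PFun := gen24 TC TCi
def pX : PFun := gen24 TX TXi

theorem pU_ok : pU.ok 24 = true := by decide +kernel
theorem pC_ok : pC.ok 24 = true := by decide +kernel
theorem pX_ok : pX.ok 24 = true := by decide +kernel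

/-- the Mathieu group on 22 points, acting on 24 points -/
def H24 : Subgroup (Equiv.Perm (Fin 24)) := closure {pU.perm 24, pC.perm 24, pX.perm 24}

/-- the Mathieu group on 22 points, as a type -/
abbrev HG : Type := ↥H24

/-- a coded permutation represents an element -/
abbrev RepH (T : ℕ) (g : HG) : Prop := RepS lk24 24 H24 T g

noncomputable def gU : HG := ⟨pU.perm 24, subset_closure (by simp)⟩
noncomputable def gUi : HG := gU⁻¹
noncomputable def gC : HG := ⟨pC.perm 24, subset_closure (by simp)⟩
noncomputable def gCi : HG := gC⁻¹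
noncomputable def gX : HG := ⟨pX.perm 24, subset_closure (by simp)⟩
noncomputable def gXi : HG := gX⁻¹

theorem rep_gU : RepH TU gU := fun i => PFun.perm_apply pU_ok i
theorem rep_gUi : RepH TUi gUi := fun i => PFun.perm_inv_apply pU_ok i
theorem rep_gC : RepH TC gC := fun i => PFun.perm_apply pC_ok i
theorem rep_gCi : RepH TCi gCi := fun i => PFun.perm_inv_apply pC_ok i
theorem rep_gX : RepH TX gX := fun i => PFun.perm_apply pX_ok i
theorem rep_gXi : RepH TXi gXi := fun i => PFun.perm_inv_apply pX_ok i

/-- the group is generated by the three generators -/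
theorem closure_gens : closure ({gU, gC, gX} : Set HG) = ⊤ := by
  rw [eq_top_iff]
  rintro ⟨x, hx⟩ -
  have key : ∀ y (hy : y ∈ H24), (⟨y, hy⟩ : HG) ∈ closure ({gU, gC, gX} : Set HG) := by
    intro y hy
    induction hy using Subgroup.closure_induction with
    | mem y hy =>
      rcases hy with rfl | rfl | rfl
      · exact subset_closure (Set.mem_insert _ _)
      · exact subset_closure (Set.mem_insert_of_mem _ (Set.mem_insert _ _))
      · exact subset_closure (Set.mem_insert_of_mem _ (Set.mem_insert_of_mem _ rfl))
    | one => exact one_mem _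
    | mul a b ha hb iha ihb => exact mul_mem iha ihb
    | inv a ha iha => exact inv_mem iha
  exact key x hx

/-! ### the identification -/

/-- the points -/
def ePt : Fin 24 ≃ GolayPt where
  toFun i := pt i.1
  invFun p := ⟨idx p, idx_lt p⟩
  left_inv i := Fin.ext (idx_pt i.2)
  right_inv p := pt_idx p

/-- the permutations -/
noncomputable def phi : Equiv.Perm (Fin 24) ≃* Equiv.Perm GolayPt := ePt.permCongrHom

theorem phi_apply (g : Equiv.Perm (Fin 24)) (p : GolayPt) :
    phi g p = pt (g ⟨idx p, idx_lt p⟩).1 := rfl

theorem phi_perm {P : PFun} (hP : P.ok 24 = true) {L : List ℕ} (hv : ValidT L)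
    (h : ∀ i : Fin 24, P.f i.1 = L.getD i.1 0) : phi (P.perm 24) = fperm L := by
  apply Equiv.ext
  intro p
  rw [phi_apply, PFun.perm_apply hP, fperm_apply hv]
  unfold tblFun
  rw [h ⟨idx p, idx_lt p⟩]

theorem phi_pU : phi (pU.perm 24) = fperm tU24 :=
  phi_perm pU_ok (okK_valid out24_basic.2.1) (by decide +kernel)

theorem phi_pC : phi (pC.perm 24) = fperm tC24 :=
  phi_perm pC_ok (okK_valid out24_basic.2.2.2.1) (by decide +kernel)

theorem phi_pX : phi (pX.perm 24) = fperm X22 :=
  phi_perm pX_ok (okK_valid out22_basic.1) (by decide +kernel)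

theorem H24_map : H24.map phi.toMonoidHom = Cfsg.Spor.M22 := by
  unfold H24
  rw [MonoidHom.map_closure]
  have hset : (phi.toMonoidHom '' ({pU.perm 24, pC.perm 24, pX.perm 24} :
      Set (Equiv.Perm (Fin 24)))) = {fperm tU24, fperm tC24, fperm X22} := by
    rw [Set.image_insert_eq, Set.image_insert_eq, Set.image_singleton]
    show ({phi (pU.perm 24), phi (pC.perm 24), phi (pX.perm 24)} : Set _) = _
    rw [phi_pU, phi_pC, phi_pX]
  rw [hset]
  apply le_antisymm
  · rw [closure_le]
    rintro g (rfl | rfl | rfl)
    · exact hu22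
    · exact hc22
    · exact hX22
  · exact gen22

/-- the identification with the two-point stabiliser -/
noncomputable def iso : HG ≃* ↥Cfsg.Spor.M22 :=
  (Subgroup.equivMapOfInjective H24 phi.toMonoidHom phi.injective).trans
    (MulEquiv.subgroupCongr H24_map)

theorem card_HG : Nat.card HG = 443520 := by
  rw [Nat.card_congr iso.toEquiv, card_SporM22]

instance : Finite HG := Nat.finite_of_card_ne_zero (by rw [card_HG]; norm_num)

end Cfsg.Agent.Lib.Helper5.M22M
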