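import Mathlib
import Cfsg.Agent.Lib.Helper5.M22CovChk
import Cfsg.Agent.Lib.Helper5.M22MA
import Cfsg.Prelude.Def_KGroupFacts

set_option autoImplicit false
set_option maxRecDepth 1000000

/-! The group on 5645 points generated by lifts of three generators of the Mathieu group of degree
22 is a stem extension of it with cyclic kernel of order twelve. -/

namespace Cfsg.Agent.Lib.Helper5.M22Cov

open Cfsg Cfsg.Agent.Lib.helper23 Cfsg.Agent.Lib.Helper5.M22M
open Subgroup
open scoped commutatorElement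

theorem mcvA : pgGrpW 5645 mcvC ≤ (pgRigidAll 5645).A := le_top

theorem mcvok : ∀ P ∈ mcvL1.own, P.ok 5645 = true :=
  pgChkW_own_ok 5645 (pgRigidAll 5645).base mcvC mcvchkC

theorem mcvord : pgOrdW 5645 mcvC = 5322240 := by decide +kernel

/-- the covering group on 5645 points -/
abbrev Cov : Subgroup (Equiv.Perm (Fin 5645)) := closure (pgSet 5645 mcvL1.own)

theorem Cov_eq : Cov = pgGrpW 5645 mcvC := rfl

theorem Cov_card : Nat.card Cov = 5322240 := by
  rw [Cov_eq, pgCardW (pgRigidAll 5645) mcvC mcvchkC mcvA, mcvord]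

instance Cov_finite : Finite Cov := Nat.finite_of_card_ne_zero (by rw [Cov_card]; norm_num)

/-! ### the restriction to the first twenty-four points -/

/-- the permutations preserving the first twenty-four points -/
def Stab : Subgroup (Equiv.Perm (Fin 5645)) where
  carrier := {g | ∀ i : Fin 5645, (g i).1 < 24 ↔ i.1 < 24}
  one_mem' := fun _ => Iff.rfl
  mul_mem' := by
    intro a b ha hb i
    rw [Equiv.Perm.mul_apply]
    exact (ha (b i)).trans (hb i)
  inv_mem' := by
    intro a ha i
    have := ha (a⁻¹ i)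
    have e : a (a⁻¹ i) = i := by simp
    rw [e] at this
    exact this.symm

/-- the embedding of the first twenty-four points -/
def emb (i : Fin 24) : Fin 5645 := ⟨i.1, by omega⟩

theorem emb_injective : Function.Injective emb := by
  intro i j h
  apply Fin.ext
  have h' : (emb i).1 = (emb j).1 := congrArg Fin.val h
  exact h'

/-- the restriction to the first twenty-four points, as a function -/
def resFun (g : Stab) (i : Fin 24) : Fin 24 := ⟨(g.1 (emb i)).1, (g.2 (emb i)).2 i.2⟩

theorem emb_resFun (g : Stab) (i : Fin 24) : emb (resFun g i) = g.1 (emb i) := Fin.ext rfl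

theorem resFun_mul (g h : Stab) (i : Fin 24) : resFun (g * h) i = resFun g (resFun h i) := by
  apply emb_injective
  rw [emb_resFun, emb_resFun, emb_resFun]
  rfl

theorem resFun_one (i : Fin 24) : resFun 1 i = i := by
  apply emb_injective
  rw [emb_resFun]
  rfl

/-- the restriction to the first twenty-four points -/
def res : Stab →* Equiv.Perm (Fin 24) where
  toFun g :=
    { toFun := resFun g
      invFun := resFun g⁻¹
      left_inv := fun i => by rw [← resFun_mul, inv_mul_cancel, resFun_one]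
      right_inv := fun i => by rw [← resFun_mul, mul_inv_cancel, resFun_one] }
  map_one' := by
    apply Equiv.ext
    intro i
    exact resFun_one i
  map_mul' := by
    intro g h
    apply Equiv.ext
    intro i
    exact resFun_mul g h i

theorem res_apply (g : Stab) (i : Fin 24) : ((res g) i).1 = (g.1 (emb i)).1 := rfl

/-! ### the generators -/

/-- the first generator, as a pair of lookups -/
def cU : PFun := mcvgen mcvT1x0 mcvI1x0

/-- the second generator, as a pair of lookups -/
def cC : PFun := mcvgen mcvT1x1 mcvI1x1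

/-- the third generator, as a pair of lookups -/
def cX : PFun := mcvgen mcvT1x2 mcvI1x2

theorem own_eq : mcvL1.own = [cU, cC, cX] := rfl

theorem cU_mem : cU ∈ mcvL1.own := by rw [own_eq]; exact List.mem_cons_self

theorem cC_mem : cC ∈ mcvL1.own := by
  rw [own_eq]; exact List.mem_cons_of_mem _ List.mem_cons_self

theorem cX_mem : cX ∈ mcvL1.own := by
  rw [own_eq]; exact List.mem_cons_of_mem _ (List.mem_cons_of_mem _ List.mem_cons_self)

theorem cU_ok : cU.ok 5645 = true := mcvok cU cU_mem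

theorem cC_ok : cC.ok 5645 = true := mcvok cC cC_mem

theorem cX_ok : cX.ok 5645 = true := mcvok cX cX_mem

theorem perm_mem_Stab {P : PFun} (hP : P.ok 5645 = true)
    (h : pgAll 5645 (fun i => pgEqB (Nat.blt (P.f i) 24) (Nat.blt i 24)) = true) :
    P.perm 5645 ∈ Stab := by
  intro i
  rw [PFun.perm_apply hP]
  have := (pgAll_iff _ _).1 h i.1 i.2
  rw [pgEqB_iff] at this
  constructor
  · intro h1
    have h2 : Nat.blt (P.f i.1) 24 = true := by simpa using h1
    rw [this] at h2
    simpa using h2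
  · intro h1
    have h2 : Nat.blt i.1 24 = true := by simpa using h1
    rw [← this] at h2
    simpa using h2

theorem cU_stab : cU.perm 5645 ∈ Stab := perm_mem_Stab cU_ok (by decide +kernel)

theorem cC_stab : cC.perm 5645 ∈ Stab := perm_mem_Stab cC_ok (by decide +kernel)

theorem cX_stab : cX.perm 5645 ∈ Stab := perm_mem_Stab cX_ok (by decide +kernel)

theorem Cov_le_Stab : Cov ≤ Stab := by
  rw [closure_le]
  rintro _ ⟨P, hP, rfl⟩
  rw [own_eq] at hP
  simp only [List.mem_cons, List.not_mem_nil, or_false] at hP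
  rcases hP with rfl | rfl | rfl
  · exact cU_stab
  · exact cC_stab
  · exact cX_stab

theorem res_perm {P Q : PFun} (hP : P.ok 5645 = true) (hs : P.perm 5645 ∈ Stab)
    (hQ : Q.ok 24 = true) (h : pgAll 24 (fun i => Nat.beq (P.f i) (Q.f i)) = true) :
    res ⟨P.perm 5645, hs⟩ = Q.perm 24 := by
  apply Equiv.ext
  intro i
  apply Fin.ext
  rw [res_apply, PFun.perm_apply hP, PFun.perm_apply hQ]
  have := (pgAll_iff _ _).1 h i.1 i.2
  rw [Nat.beq_eq] at this
  exact this

theorem res_cU : res ⟨cU.perm 5645, cU_stab⟩ = pU.perm 24 :=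
  res_perm cU_ok cU_stab pU_ok (by decide +kernel)

theorem res_cC : res ⟨cC.perm 5645, cC_stab⟩ = pC.perm 24 :=
  res_perm cC_ok cC_stab pC_ok (by decide +kernel)

theorem res_cX : res ⟨cX.perm 5645, cX_stab⟩ = pX.perm 24 :=
  res_perm cX_ok cX_stab pX_ok (by decide +kernel)

/-- the restriction on the covering group -/
def sig0 : Cov →* Equiv.Perm (Fin 24) := res.comp (Subgroup.inclusion Cov_le_Stab)

theorem sig0_mem (γ : Cov) : sig0 γ ∈ H24 := by
  have hle : Cov ≤ (H24.comap res).map Stab.subtype := by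
    rw [closure_le]
    rintro _ ⟨P, hP, rfl⟩
    rw [own_eq] at hP
    simp only [List.mem_cons, List.not_mem_nil, or_false] at hP
    rcases hP with rfl | rfl | rfl
    · refine ⟨⟨cU.perm 5645, cU_stab⟩, ?_, rfl⟩
      show res _ ∈ H24
      rw [res_cU]
      exact subset_closure (by simp)
    · refine ⟨⟨cC.perm 5645, cC_stab⟩, ?_, rfl⟩
      show res _ ∈ H24
      rw [res_cC]
      exact subset_closure (by simp)
    · refine ⟨⟨cX.perm 5645, cX_stab⟩, ?_, rfl⟩
      show res _ ∈ H24
      rw [res_cX]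
      exact subset_closure (by simp)
  obtain ⟨s, hs, hsγ⟩ := hle γ.2
  have e : Subgroup.inclusion Cov_le_Stab γ = s := Subtype.ext hsγ.symm
  show res (Subgroup.inclusion Cov_le_Stab γ) ∈ H24
  rw [e]
  exact hs

/-- the covering map -/
def sig : Cov →* HG := sig0.codRestrict H24 sig0_mem

theorem sig_coe (γ : Cov) : ((sig γ : HG) : Equiv.Perm (Fin 24)) = sig0 γ := rfl

/-- the lift of the first generator -/
def xU : Cov := ⟨cU.perm 5645, subset_closure ⟨cU, cU_mem, rfl⟩⟩

/-- the lift of the second generator -/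
def xC : Cov := ⟨cC.perm 5645, subset_closure ⟨cC, cC_mem, rfl⟩⟩

/-- the lift of the third generator -/
def xX : Cov := ⟨cX.perm 5645, subset_closure ⟨cX, cX_mem, rfl⟩⟩

theorem sig0_xU : sig0 xU = pU.perm 24 := res_cU

theorem sig0_xC : sig0 xC = pC.perm 24 := res_cC

theorem sig0_xX : sig0 xX = pX.perm 24 := res_cX

theorem sig_surj : Function.Surjective sig := by
  rintro ⟨y, hy⟩
  have key : ∀ y (hy : y ∈ H24), ∃ γ : Cov, sig0 γ = y := by
    intro y hy
    induction hy using Subgroup.closure_induction with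
    | mem y hy =>
      simp only [Set.mem_insert_iff, Set.mem_singleton_iff] at hy
      rcases hy with rfl | rfl | rfl
      · exact ⟨xU, sig0_xU⟩
      · exact ⟨xC, sig0_xC⟩
      · exact ⟨xX, sig0_xX⟩
    | one => exact ⟨1, map_one _⟩
    | mul a b ha hb iha ihb =>
      obtain ⟨γ, hγ⟩ := iha
      obtain ⟨δ, hδ⟩ := ihb
      exact ⟨γ * δ, by rw [map_mul, hγ, hδ]⟩
    | inv a ha iha =>
      obtain ⟨γ, hγ⟩ := iha
      exact ⟨γ⁻¹, by rw [map_inv, hγ]⟩
  obtain ⟨γ, hγ⟩ := key y hy
  exact ⟨γ, Subtype.ext hγ⟩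

theorem card_ker_sig : Nat.card sig.ker = 12 := by
  have h1 := Subgroup.card_eq_card_quotient_mul_card_subgroup sig.ker
  have e := QuotientGroup.quotientKerEquivOfSurjective sig sig_surj
  rw [Nat.card_congr e.toEquiv, Cov_card, card_HG] at h1
  omega

/-! ### the central element of order twelve -/

/-- the first word -/
def w1 : List ℕ := [0, 2, 3]

/-- the second word -/
def w2 : List ℕ := [2, 4, 3, 2, 1, 0, 2, 3, 4, 5, 0, 1, 5]

/-- the third word -/
def w3 : List ℕ := [0, 2, 4, 2]

/-- the fourth word -/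
def w4 : List ℕ := [5, 0, 2, 1, 0, 0, 2, 4, 2, 3, 4, 5, 3, 2]

/-- the first commutator word -/
def wa : List ℕ := w1 ++ (w2 ++ (pgInvW 3 w1 ++ pgInvW 3 w2))

/-- the second commutator word -/
def wb : List ℕ := w3 ++ (w4 ++ (pgInvW 3 w3 ++ pgInvW 3 w4))

/-- the product of the two commutator words -/
def wz : List ℕ := wa ++ wb

/-- the four elements and the product of their commutators -/
def eX1 : Cov := ⟨pgWordPerm 5645 mcvL1.own w1, pgWordPerm_mem mcvok w1⟩
def eY1 : Cov := ⟨pgWordPerm 5645 mcvL1.own w2, pgWordPerm_mem mcvok w2⟩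
def eX2 : Cov := ⟨pgWordPerm 5645 mcvL1.own w3, pgWordPerm_mem mcvok w3⟩
def eY2 : Cov := ⟨pgWordPerm 5645 mcvL1.own w4, pgWordPerm_mem mcvok w4⟩
def zeta : Cov := ⟨pgWordPerm 5645 mcvL1.own wz, pgWordPerm_mem mcvok wz⟩

theorem w1_lt : ∀ j ∈ w1, j < 2 * mcvL1.own.length := by decide
theorem w2_lt : ∀ j ∈ w2, j < 2 * mcvL1.own.length := by decide
theorem w3_lt : ∀ j ∈ w3, j < 2 * mcvL1.own.length := by decide
theorem w4_lt : ∀ j ∈ w4, j < 2 * mcvL1.own.length := by decide

theorem comm_word (u v : List ℕ) (hu : ∀ j ∈ u, j < 2 * mcvL1.own.length)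
    (hv : ∀ j ∈ v, j < 2 * mcvL1.own.length) :
    pgWordPerm 5645 mcvL1.own (u ++ (v ++ (pgInvW 3 u ++ pgInvW 3 v))) =
      ⁅pgWordPerm 5645 mcvL1.own u, pgWordPerm 5645 mcvL1.own v⁆ := by
  have hl : mcvL1.own.length = 3 := rfl
  have e1 := pgInvW_perm mcvok u hu
  have e2 := pgInvW_perm mcvok v hv
  rw [hl] at e1 e2
  rw [pgWordPerm_append, pgWordPerm_append, pgWordPerm_append, e1, e2,
    commutatorElement_def]
  group

theorem zeta_eq : zeta = ⁅eX1, eY1⁆ * ⁅eX2, eY2⁆ := by
  apply Subtype.ext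
  show pgWordPerm 5645 mcvL1.own wz = _
  unfold wz wa wb
  rw [pgWordPerm_append, comm_word w1 w2 w1_lt w2_lt, comm_word w3 w4 w3_lt w4_lt]
  rfl

theorem zeta_fix : pgAll 24 (fun i => Nat.beq (pgEvalW mcvL1.own wz i) i) = true := by
  decide +kernel

theorem zeta_ker : zeta ∈ sig.ker := by
  rw [MonoidHom.mem_ker]
  apply Subtype.ext
  rw [sig_coe]
  apply Equiv.ext
  intro i
  apply Fin.ext
  show ((res (Subgroup.inclusion Cov_le_Stab zeta)) i).1 = i.1
  rw [res_apply]
  show ((pgWordPerm 5645 mcvL1.own wz) (emb i)).1 = i.1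
  rw [pgWordPerm_apply mcvok]
  have := (pgAll_iff _ _).1 zeta_fix i.1 i.2
  rw [Nat.beq_eq] at this
  exact this

/-- the fourth power of the word -/
def wz4 : List ℕ := wz ++ (wz ++ (wz ++ wz))

/-- the sixth power of the word -/
def wz6 : List ℕ := wz ++ (wz ++ (wz ++ (wz ++ (wz ++ wz))))

theorem zeta_pow4 : (zeta : Equiv.Perm (Fin 5645)) ^ 4 = pgWordPerm 5645 mcvL1.own wz4 := by
  unfold wz4
  rw [pgWordPerm_append, pgWordPerm_append, pgWordPerm_append]
  show (pgWordPerm 5645 mcvL1.own wz) ^ 4 = _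
  simp only [pow_succ, pow_zero, one_mul, mul_assoc]

theorem zeta_pow6 : (zeta : Equiv.Perm (Fin 5645)) ^ 6 = pgWordPerm 5645 mcvL1.own wz6 := by
  unfold wz6
  rw [pgWordPerm_append, pgWordPerm_append, pgWordPerm_append, pgWordPerm_append,
    pgWordPerm_append]
  show (pgWordPerm 5645 mcvL1.own wz) ^ 6 = _
  simp only [pow_succ, pow_zero, one_mul, mul_assoc]

theorem zeta4_move : Nat.beq (pgEvalW mcvL1.own wz4 24) 24 = false := by decide +kernel

theorem zeta6_move : Nat.beq (pgEvalW mcvL1.own wz6 717) 717 = false := by decide +kernel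

theorem word_ne_one {w : List ℕ} {p : ℕ} (hp : p < 5645)
    (h : Nat.beq (pgEvalW mcvL1.own w p) p = false) : pgWordPerm 5645 mcvL1.own w ≠ 1 := by
  intro h1
  have h2 : ((pgWordPerm 5645 mcvL1.own w) ⟨p, hp⟩).1 = p := by
    rw [h1]
    rfl
  rw [pgWordPerm_apply mcvok] at h2
  rw [← Bool.not_eq_true, Nat.beq_eq] at h
  exact h h2

theorem zeta_pow4_ne : zeta ^ 4 ≠ 1 := by
  intro h
  have h1 : (zeta : Equiv.Perm (Fin 5645)) ^ 4 = 1 := by
    have := congrArg Subtype.val h
    simpa using this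
  rw [zeta_pow4] at h1
  exact word_ne_one (by norm_num) zeta4_move h1

theorem zeta_pow6_ne : zeta ^ 6 ≠ 1 := by
  intro h
  have h1 : (zeta : Equiv.Perm (Fin 5645)) ^ 6 = 1 := by
    have := congrArg Subtype.val h
    simpa using this
  rw [zeta_pow6] at h1
  exact word_ne_one (by norm_num) zeta6_move h1

theorem zeta_pow12 : zeta ^ 12 = 1 := by
  have h : (⟨zeta, zeta_ker⟩ : sig.ker) ^ 12 = 1 := by
    rw [← card_ker_sig]
    exact pow_card_eq_one'
  have := congrArg Subtype.val h
  simpa using this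

theorem orderOf_zeta : orderOf zeta = 12 := by
  have hd : orderOf zeta ∣ 12 := orderOf_dvd_of_pow_eq_one zeta_pow12
  have h4 : ¬ orderOf zeta ∣ 4 := fun h => zeta_pow4_ne (orderOf_dvd_iff_pow_eq_one.mp h)
  have h6 : ¬ orderOf zeta ∣ 6 := fun h => zeta_pow6_ne (orderOf_dvd_iff_pow_eq_one.mp h)
  have hle : orderOf zeta ≤ 12 := Nat.le_of_dvd (by norm_num) hd
  interval_cases h : orderOf zeta <;> simp_all

theorem ker_eq : sig.ker = zpowers zeta := by
  symm
  apply Subgroup.eq_of_le_of_card_ge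
  · rw [zpowers_le]
    exact zeta_ker
  · rw [Nat.card_zpowers, orderOf_zeta, card_ker_sig]

/-! ### centrality -/

theorem word_eq {w v : List ℕ}
    (h : pgAll 5645 (fun p => Nat.beq (pgEvalW mcvL1.own w p) (pgEvalW mcvL1.own v p)) = true) :
    pgWordPerm 5645 mcvL1.own w = pgWordPerm 5645 mcvL1.own v := by
  ext i
  rw [pgWordPerm_apply mcvok, pgWordPerm_apply mcvok]
  simpa using (pgAll_iff _ _).1 h i.1 i.2

theorem word_single (j : ℕ) :
    pgWordPerm 5645 mcvL1.own [j] = (pgLetter mcvL1.own j).perm 5645 := by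
  unfold pgWordPerm
  rw [List.map_cons, List.map_nil, List.prod_cons, List.prod_nil, mul_one]

theorem comm0 : pgAll 5645 (fun p => Nat.beq (pgEvalW mcvL1.own ([0] ++ wz) p)
    (pgEvalW mcvL1.own (wz ++ [0]) p)) = true := by decide +kernel

theorem comm1 : pgAll 5645 (fun p => Nat.beq (pgEvalW mcvL1.own ([1] ++ wz) p)
    (pgEvalW mcvL1.own (wz ++ [1]) p)) = true := by decide +kernel

theorem comm2 : pgAll 5645 (fun p => Nat.beq (pgEvalW mcvL1.own ([2] ++ wz) p)
    (pgEvalW mcvL1.own (wz ++ [2]) p)) = true := by decide +kernel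

theorem letter_comm (j : ℕ)
    (h : pgAll 5645 (fun p => Nat.beq (pgEvalW mcvL1.own ([j] ++ wz) p)
      (pgEvalW mcvL1.own (wz ++ [j]) p)) = true) :
    (pgLetter mcvL1.own j).perm 5645 * (zeta : Equiv.Perm (Fin 5645)) =
      (zeta : Equiv.Perm (Fin 5645)) * (pgLetter mcvL1.own j).perm 5645 := by
  have := word_eq h
  rw [pgWordPerm_append, pgWordPerm_append, word_single] at this
  exact this

theorem zeta_central (g : Cov) : g * zeta = zeta * g := by
  have hle : Cov ≤ Subgroup.centralizer {(zeta : Equiv.Perm (Fin 5645))} := by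
    rw [closure_le]
    rintro _ ⟨P, hP, rfl⟩
    rw [own_eq] at hP
    simp only [List.mem_cons, List.not_mem_nil, or_false] at hP
    show _ ∈ Subgroup.centralizer _
    rw [Subgroup.mem_centralizer_iff]
    intro z hz
    rw [Set.mem_singleton_iff] at hz
    subst hz
    rcases hP with rfl | rfl | rfl
    · exact (letter_comm 0 comm0).symm
    · exact (letter_comm 1 comm1).symm
    · exact (letter_comm 2 comm2).symm
  have h := hle g.2
  rw [Subgroup.mem_centralizer_iff] at h
  apply Subtype.ext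
  exact (h _ rfl).symm

theorem sig_stem : Cfsg.IsStemExtension sig := by
  refine ⟨sig_surj, ?_, ?_⟩
  · intro k hk
    rw [ker_eq, mem_zpowers_iff] at hk
    obtain ⟨n, rfl⟩ := hk
    rw [Subgroup.mem_center_iff]
    intro g
    have hc : Commute g zeta := zeta_central g
    exact (hc.zpow_right n).eq
  · intro k hk
    rw [ker_eq, mem_zpowers_iff] at hk
    obtain ⟨n, rfl⟩ := hk
    apply zpow_mem
    rw [zeta_eq, commutator_def]
    exact mul_mem (Subgroup.commutator_mem_commutator (Subgroup.mem_top _) (Subgroup.mem_top _))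
      (Subgroup.commutator_mem_commutator (Subgroup.mem_top _) (Subgroup.mem_top _))

theorem ker_cyclic : IsCyclic sig.ker := by
  rw [ker_eq]
  infer_instance

/-- the Mathieu group on 24 points fixing two points has a finite stem extension with cyclic kernel
of order twelve -/
theorem exists_stem_twelve_HG : ∃ (Γ : Type) (_ : Group Γ) (_ : Finite Γ) (σ : Γ →* HG),
    Cfsg.IsStemExtension σ ∧ Nat.card σ.ker = 12 ∧ IsCyclic σ.ker :=
  ⟨↥Cov, inferInstance, inferInstance, sig, sig_stem, card_ker_sig, ker_cyclic⟩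

/-- the Mathieu group of degree 22 has a finite stem extension with cyclic kernel of order twelve -/
theorem exists_stem_twelve_M22 : ∃ (Γ : Type) (_ : Group Γ) (_ : Finite Γ)
    (σ : Γ →* Cfsg.Spor.M22),
    Cfsg.IsStemExtension σ ∧ Nonempty (σ.ker ≃* Multiplicative (ZMod 12)) := by
  obtain ⟨Γ, iG, iF, σ, ⟨hsurj, hcen, hder⟩, hcard, hcyc⟩ := exists_stem_twelve_HG
  set σ' : Γ →* Cfsg.Spor.M22 := iso.toMonoidHom.comp σ with hσ'
  have hker : σ'.ker = σ.ker := by
    ext x
    rw [MonoidHom.mem_ker, MonoidHom.mem_ker, hσ', MonoidHom.comp_apply]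
    exact MulEquiv.map_eq_one_iff iso
  refine ⟨Γ, iG, iF, σ', ⟨iso.surjective.comp hsurj, ?_, ?_⟩, ?_⟩
  · rw [hker]; exact hcen
  · rw [hker]; exact hder
  · have hc : Nat.card σ'.ker = 12 := by rw [hker]; exact hcard
    have hcyc' : IsCyclic σ'.ker := by rw [hker]; exact hcyc
    have e2 := zmodCyclicMulEquiv hcyc'
    rw [hc] at e2
    exact ⟨e2.symm⟩

end Cfsg.Agent.Lib.Helper5.M22Cov
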