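import Mathlib
import Cfsg.Agent.Lib.Helper5.M22MA

set_option autoImplicit false

/-! Elements of the Mathieu group on 22 points given by words, with their coded permutations
(generated). -/

namespace Cfsg.Agent.Lib.Helper5.M22M

open Cfsg.Agent.Lib.helper23 Cfsg.Agent.Lib.Helper5.CP

/-- an element given by a word -/
noncomputable def l6 : HG := [gU, gCi, gX, gX, gU, gC, gU, gCi, gCi, gCi, gXi].prod

theorem rep_l6 : RepH Ul6 l6 :=
  rep_word Ul6 [TU, TCi, TX, TX, TU, TC, TU, TCi, TCi, TCi, TXi] [gU, gCi, gX, gX, gU, gC, gU, gCi, gCi, gCi, gXi]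
    (List.Forall₂.cons rep_gU (List.Forall₂.cons rep_gCi (List.Forall₂.cons rep_gX (List.Forall₂.cons rep_gX (List.Forall₂.cons rep_gU (List.Forall₂.cons rep_gC (List.Forall₂.cons rep_gU (List.Forall₂.cons rep_gCi (List.Forall₂.cons rep_gCi (List.Forall₂.cons rep_gCi (List.Forall₂.cons rep_gXi List.Forall₂.nil)))))))))))
    (by decide +kernel)

/-- an element given by a word -/
noncomputable def l7 : HG := [gX, gC, gC, gC, gUi, gCi, gUi, gXi, gXi, gC, gUi].prod

theorem rep_l7 : RepH Ul7 l7 :=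
  rep_word Ul7 [TX, TC, TC, TC, TUi, TCi, TUi, TXi, TXi, TC, TUi] [gX, gC, gC, gC, gUi, gCi, gUi, gXi, gXi, gC, gUi]
    (List.Forall₂.cons rep_gX (List.Forall₂.cons rep_gC (List.Forall₂.cons rep_gC (List.Forall₂.cons rep_gC (List.Forall₂.cons rep_gUi (List.Forall₂.cons rep_gCi (List.Forall₂.cons rep_gUi (List.Forall₂.cons rep_gXi (List.Forall₂.cons rep_gXi (List.Forall₂.cons rep_gC (List.Forall₂.cons rep_gUi List.Forall₂.nil)))))))))))
    (by decide +kernel)

/-- an element given by a word -/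
noncomputable def l8 : HG := [gU, gC, gUi, gU, gCi, gU, gCi, gCi, gX, gU, gXi, gCi, gC, gXi].prod

theorem rep_l8 : RepH Ul8 l8 :=
  rep_word Ul8 [TU, TC, TUi, TU, TCi, TU, TCi, TCi, TX, TU, TXi, TCi, TC, TXi] [gU, gC, gUi, gU, gCi, gU, gCi, gCi, gX, gU, gXi, gCi, gC, gXi]
    (List.Forall₂.cons rep_gU (List.Forall₂.cons rep_gC (List.Forall₂.cons rep_gUi (List.Forall₂.cons rep_gU (List.Forall₂.cons rep_gCi (List.Forall₂.cons rep_gU (List.Forall₂.cons rep_gCi (List.Forall₂.cons rep_gCi (List.Forall₂.cons rep_gX (List.Forall₂.cons rep_gU (List.Forall₂.cons rep_gXi (List.Forall₂.cons rep_gCi (List.Forall₂.cons rep_gC (List.Forall₂.cons rep_gXi List.Forall₂.nil))))))))))))))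
    (by decide +kernel)

/-- an element given by a word -/
noncomputable def l9 : HG := [gX, gCi, gC, gX, gUi, gXi, gC, gC, gUi, gC, gUi, gU, gCi, gUi].prod

theorem rep_l9 : RepH Ul9 l9 :=
  rep_word Ul9 [TX, TCi, TC, TX, TUi, TXi, TC, TC, TUi, TC, TUi, TU, TCi, TUi] [gX, gCi, gC, gX, gUi, gXi, gC, gC, gUi, gC, gUi, gU, gCi, gUi]
    (List.Forall₂.cons rep_gX (List.Forall₂.cons rep_gCi (List.Forall₂.cons rep_gC (List.Forall₂.cons rep_gX (List.Forall₂.cons rep_gUi (List.Forall₂.cons rep_gXi (List.Forall₂.cons rep_gC (List.Forall₂.cons rep_gC (List.Forall₂.cons rep_gUi (List.Forall₂.cons rep_gC (List.Forall₂.cons rep_gUi (List.Forall₂.cons rep_gU (List.Forall₂.cons rep_gCi (List.Forall₂.cons rep_gUi List.Forall₂.nil))))))))))))))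
    (by decide +kernel)

/-- an element given by a word -/
noncomputable def l10 : HG := [l7, l7, l8, gUi, l9, gX, gU, gC, gU, gU, gU, gXi, gX, gU].prod

theorem rep_l10 : RepH Ul10 l10 :=
  rep_word Ul10 [Ul7, Ul7, Ul8, TUi, Ul9, TX, TU, TC, TU, TU, TU, TXi, TX, TU] [l7, l7, l8, gUi, l9, gX, gU, gC, gU, gU, gU, gXi, gX, gU]
    (List.Forall₂.cons rep_l7 (List.Forall₂.cons rep_l7 (List.Forall₂.cons rep_l8 (List.Forall₂.cons rep_gUi (List.Forall₂.cons rep_l9 (List.Forall₂.cons rep_gX (List.Forall₂.cons rep_gU (List.Forall₂.cons rep_gC (List.Forall₂.cons rep_gU (List.Forall₂.cons rep_gU (List.Forall₂.cons rep_gU (List.Forall₂.cons rep_gXi (List.Forall₂.cons rep_gX (List.Forall₂.cons rep_gU List.Forall₂.nil))))))))))))))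
    (by decide +kernel)

/-- an element given by a word -/
noncomputable def l11 : HG := [gUi, gXi, gX, gUi, gUi, gUi, gCi, gUi, gXi, l8, gU, l9, l6, l6].prod

theorem rep_l11 : RepH Ul11 l11 :=
  rep_word Ul11 [TUi, TXi, TX, TUi, TUi, TUi, TCi, TUi, TXi, Ul8, TU, Ul9, Ul6, Ul6] [gUi, gXi, gX, gUi, gUi, gUi, gCi, gUi, gXi, l8, gU, l9, l6, l6]
    (List.Forall₂.cons rep_gUi (List.Forall₂.cons rep_gXi (List.Forall₂.cons rep_gX (List.Forall₂.cons rep_gUi (List.Forall₂.cons rep_gUi (List.Forall₂.cons rep_gUi (List.Forall₂.cons rep_gCi (List.Forall₂.cons rep_gUi (List.Forall₂.cons rep_gXi (List.Forall₂.cons rep_l8 (List.Forall₂.cons rep_gU (List.Forall₂.cons rep_l9 (List.Forall₂.cons rep_l6 (List.Forall₂.cons rep_l6 List.Forall₂.nil))))))))))))))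
    (by decide +kernel)

/-- an element given by a word -/
noncomputable def l12 : HG := [l11, l11, l7, l7, gC, gXi, gUi, gCi, gXi, gU, gX, gUi, gCi, gCi, gX, gUi, gC].prod

theorem rep_l12 : RepH Ul12 l12 :=
  rep_word Ul12 [Ul11, Ul11, Ul7, Ul7, TC, TXi, TUi, TCi, TXi, TU, TX, TUi, TCi, TCi, TX, TUi, TC] [l11, l11, l7, l7, gC, gXi, gUi, gCi, gXi, gU, gX, gUi, gCi, gCi, gX, gUi, gC]
    (List.Forall₂.cons rep_l11 (List.Forall₂.cons rep_l11 (List.Forall₂.cons rep_l7 (List.Forall₂.cons rep_l7 (List.Forall₂.cons rep_gC (List.Forall₂.cons rep_gXi (List.Forall₂.cons rep_gUi (List.Forall₂.cons rep_gCi (List.Forall₂.cons rep_gXi (List.Forall₂.cons rep_gU (List.Forall₂.cons rep_gX (List.Forall₂.cons rep_gUi (List.Forall₂.cons rep_gCi (List.Forall₂.cons rep_gCi (List.Forall₂.cons rep_gX (List.Forall₂.cons rep_gUi (List.Forall₂.cons rep_gC List.Forall₂.nil)))))))))))))))))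
    (by decide +kernel)

/-- an element given by a word -/
noncomputable def l13 : HG := [l7, gCi, gXi, gUi, gCi, gC, gU, gCi, gX, gXi, gU].prod

theorem rep_l13 : RepH Ul13 l13 :=
  rep_word Ul13 [Ul7, TCi, TXi, TUi, TCi, TC, TU, TCi, TX, TXi, TU] [l7, gCi, gXi, gUi, gCi, gC, gU, gCi, gX, gXi, gU]
    (List.Forall₂.cons rep_l7 (List.Forall₂.cons rep_gCi (List.Forall₂.cons rep_gXi (List.Forall₂.cons rep_gUi (List.Forall₂.cons rep_gCi (List.Forall₂.cons rep_gC (List.Forall₂.cons rep_gU (List.Forall₂.cons rep_gCi (List.Forall₂.cons rep_gX (List.Forall₂.cons rep_gXi (List.Forall₂.cons rep_gU List.Forall₂.nil)))))))))))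
    (by decide +kernel)

/-- an element given by a word -/
noncomputable def l14 : HG := [gUi, gX, gXi, gC, gUi, gCi, gC, gU, gX, gC, l6].prod

theorem rep_l14 : RepH Ul14 l14 :=
  rep_word Ul14 [TUi, TX, TXi, TC, TUi, TCi, TC, TU, TX, TC, Ul6] [gUi, gX, gXi, gC, gUi, gCi, gC, gU, gX, gC, l6]
    (List.Forall₂.cons rep_gUi (List.Forall₂.cons rep_gX (List.Forall₂.cons rep_gXi (List.Forall₂.cons rep_gC (List.Forall₂.cons rep_gUi (List.Forall₂.cons rep_gCi (List.Forall₂.cons rep_gC (List.Forall₂.cons rep_gU (List.Forall₂.cons rep_gX (List.Forall₂.cons rep_gC (List.Forall₂.cons rep_l6 List.Forall₂.nil)))))))))))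
    (by decide +kernel)

/-- an element given by a word -/
noncomputable def l15 : HG := [l13, l10, l7, l7, gUi, gUi, gXi, gXi, gC, gU, gXi, gC, gXi, gXi].prod

theorem rep_l15 : RepH Ul15 l15 :=
  rep_word Ul15 [Ul13, Ul10, Ul7, Ul7, TUi, TUi, TXi, TXi, TC, TU, TXi, TC, TXi, TXi] [l13, l10, l7, l7, gUi, gUi, gXi, gXi, gC, gU, gXi, gC, gXi, gXi]
    (List.Forall₂.cons rep_l13 (List.Forall₂.cons rep_l10 (List.Forall₂.cons rep_l7 (List.Forall₂.cons rep_l7 (List.Forall₂.cons rep_gUi (List.Forall₂.cons rep_gUi (List.Forall₂.cons rep_gXi (List.Forall₂.cons rep_gXi (List.Forall₂.cons rep_gC (List.Forall₂.cons rep_gU (List.Forall₂.cons rep_gXi (List.Forall₂.cons rep_gC (List.Forall₂.cons rep_gXi (List.Forall₂.cons rep_gXi List.Forall₂.nil))))))))))))))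
    (by decide +kernel)

/-- an element given by a word -/
noncomputable def l16 : HG := [gX, gX, gCi, gX, gUi, gCi, gX, gX, gU, gU, l6, l6, l11, l14].prod

theorem rep_l16 : RepH Ul16 l16 :=
  rep_word Ul16 [TX, TX, TCi, TX, TUi, TCi, TX, TX, TU, TU, Ul6, Ul6, Ul11, Ul14] [gX, gX, gCi, gX, gUi, gCi, gX, gX, gU, gU, l6, l6, l11, l14]
    (List.Forall₂.cons rep_gX (List.Forall₂.cons rep_gX (List.Forall₂.cons rep_gCi (List.Forall₂.cons rep_gX (List.Forall₂.cons rep_gUi (List.Forall₂.cons rep_gCi (List.Forall₂.cons rep_gX (List.Forall₂.cons rep_gX (List.Forall₂.cons rep_gU (List.Forall₂.cons rep_gU (List.Forall₂.cons rep_l6 (List.Forall₂.cons rep_l6 (List.Forall₂.cons rep_l11 (List.Forall₂.cons rep_l14 List.Forall₂.nil))))))))))))))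
    (by decide +kernel)

/-- an element given by a word -/
noncomputable def l17 : HG := [l11, l11, l15, gCi, l10, gCi, gX, gXi, gUi, gC, gC, gX, gCi, gX, gCi, gX, gU, gCi, gUi].prod

theorem rep_l17 : RepH Ul17 l17 :=
  rep_word Ul17 [Ul11, Ul11, Ul15, TCi, Ul10, TCi, TX, TXi, TUi, TC, TC, TX, TCi, TX, TCi, TX, TU, TCi, TUi] [l11, l11, l15, gCi, l10, gCi, gX, gXi, gUi, gC, gC, gX, gCi, gX, gCi, gX, gU, gCi, gUi]
    (List.Forall₂.cons rep_l11 (List.Forall₂.cons rep_l11 (List.Forall₂.cons rep_l15 (List.Forall₂.cons rep_gCi (List.Forall₂.cons rep_l10 (List.Forall₂.cons rep_gCi (List.Forall₂.cons rep_gX (List.Forall₂.cons rep_gXi (List.Forall₂.cons rep_gUi (List.Forall₂.cons rep_gC (List.Forall₂.cons rep_gC (List.Forall₂.cons rep_gX (List.Forall₂.cons rep_gCi (List.Forall₂.cons rep_gX (List.Forall₂.cons rep_gCi (List.Forall₂.cons rep_gX (List.Forall₂.cons rep_gU (List.Forall₂.cons rep_gCi (List.Forall₂.cons rep_gUi List.Forall₂.nil)))))))))))))))))))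
    (by decide +kernel)

/-- an element given by a word -/
noncomputable def l18 : HG := [gU, gC, gUi, gXi, gC, gXi, gC, gXi, gCi, gCi, gU, gX, gXi, gC, l11, gC, l16, l10, l10].prod

theorem rep_l18 : RepH Ul18 l18 :=
  rep_word Ul18 [TU, TC, TUi, TXi, TC, TXi, TC, TXi, TCi, TCi, TU, TX, TXi, TC, Ul11, TC, Ul16, Ul10, Ul10] [gU, gC, gUi, gXi, gC, gXi, gC, gXi, gCi, gCi, gU, gX, gXi, gC, l11, gC, l16, l10, l10]
    (List.Forall₂.cons rep_gU (List.Forall₂.cons rep_gC (List.Forall₂.cons rep_gUi (List.Forall₂.cons rep_gXi (List.Forall₂.cons rep_gC (List.Forall₂.cons rep_gXi (List.Forall₂.cons rep_gC (List.Forall₂.cons rep_gXi (List.Forall₂.cons rep_gCi (List.Forall₂.cons rep_gCi (List.Forall₂.cons rep_gU (List.Forall₂.cons rep_gX (List.Forall₂.cons rep_gXi (List.Forall₂.cons rep_gC (List.Forall₂.cons rep_l11 (List.Forall₂.cons rep_gC (List.Forall₂.cons rep_l16 (List.Forall₂.cons rep_l10 (List.Forall₂.cons rep_l10 List.Forall₂.nil)))))))))))))))))))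
    (by decide +kernel)

/-- an element given by a word -/
noncomputable def l19 : HG := [l12, l18, l10, l18, l7, l9, l18, gU, l12, gXi, gUi, gUi, gX, gUi, gU, gUi, gX, gX, gUi, gCi, gX].prod

theorem rep_l19 : RepH Ul19 l19 :=
  rep_word Ul19 [Ul12, Ul18, Ul10, Ul18, Ul7, Ul9, Ul18, TU, Ul12, TXi, TUi, TUi, TX, TUi, TU, TUi, TX, TX, TUi, TCi, TX] [l12, l18, l10, l18, l7, l9, l18, gU, l12, gXi, gUi, gUi, gX, gUi, gU, gUi, gX, gX, gUi, gCi, gX]
    (List.Forall₂.cons rep_l12 (List.Forall₂.cons rep_l18 (List.Forall₂.cons rep_l10 (List.Forall₂.cons rep_l18 (List.Forall₂.cons rep_l7 (List.Forall₂.cons rep_l9 (List.Forall₂.cons rep_l18 (List.Forall₂.cons rep_gU (List.Forall₂.cons rep_l12 (List.Forall₂.cons rep_gXi (List.Forall₂.cons rep_gUi (List.Forall₂.cons rep_gUi (List.Forall₂.cons rep_gX (List.Forall₂.cons rep_gUi (List.Forall₂.cons rep_gU (List.Forall₂.cons rep_gUi (List.Forall₂.cons rep_gX (List.Forall₂.cons rep_gX (List.Forall₂.cons rep_gUi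 (List.Forall₂.cons rep_gCi (List.Forall₂.cons rep_gX List.Forall₂.nil)))))))))))))))))))))
    (by decide +kernel)

/-- an element given by a word -/
noncomputable def l20 : HG := [gXi, gC, gU, gXi, gXi, gU, gUi, gU, gXi, gU, gU, gX, l12, gUi, l17, l8, l6, l17, l11, l17, l12].prod

theorem rep_l20 : RepH Ul20 l20 :=
  rep_word Ul20 [TXi, TC, TU, TXi, TXi, TU, TUi, TU, TXi, TU, TU, TX, Ul12, TUi, Ul17, Ul8, Ul6, Ul17, Ul11, Ul17, Ul12] [gXi, gC, gU, gXi, gXi, gU, gUi, gU, gXi, gU, gU, gX, l12, gUi, l17, l8, l6, l17, l11, l17, l12]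
    (List.Forall₂.cons rep_gXi (List.Forall₂.cons rep_gC (List.Forall₂.cons rep_gU (List.Forall₂.cons rep_gXi (List.Forall₂.cons rep_gXi (List.Forall₂.cons rep_gU (List.Forall₂.cons rep_gUi (List.Forall₂.cons rep_gU (List.Forall₂.cons rep_gXi (List.Forall₂.cons rep_gU (List.Forall₂.cons rep_gU (List.Forall₂.cons rep_gX (List.Forall₂.cons rep_l12 (List.Forall₂.cons rep_gUi (List.Forall₂.cons rep_l17 (List.Forall₂.cons rep_l8 (List.Forall₂.cons rep_l6 (List.Forall₂.cons rep_l17 (List.Forall₂.cons rep_l11 (List.Forall₂.cons rep_l17 (List.Forall₂.cons rep_l12 List.Forall₂.nil)))))))))))))))))))))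
    (by decide +kernel)

/-- an element given by a word -/
noncomputable def g0 : HG := [gU, l17, l6, l14, l10, l16, l19].prod

theorem rep_g0 : RepH Ug0 g0 :=
  rep_word Ug0 [TU, Ul17, Ul6, Ul14, Ul10, Ul16, Ul19] [gU, l17, l6, l14, l10, l16, l19]
    (List.Forall₂.cons rep_gU (List.Forall₂.cons rep_l17 (List.Forall₂.cons rep_l6 (List.Forall₂.cons rep_l14 (List.Forall₂.cons rep_l10 (List.Forall₂.cons rep_l16 (List.Forall₂.cons rep_l19 List.Forall₂.nil)))))))
    (by decide +kernel)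

/-- an element given by a word -/
noncomputable def g1 : HG := [l17, l6, l12, l11, l15, l19].prod

theorem rep_g1 : RepH Ug1 g1 :=
  rep_word Ug1 [Ul17, Ul6, Ul12, Ul11, Ul15, Ul19] [l17, l6, l12, l11, l15, l19]
    (List.Forall₂.cons rep_l17 (List.Forall₂.cons rep_l6 (List.Forall₂.cons rep_l12 (List.Forall₂.cons rep_l11 (List.Forall₂.cons rep_l15 (List.Forall₂.cons rep_l19 List.Forall₂.nil))))))
    (by decide +kernel)

/-- an element given by a word -/
noncomputable def g2 : HG := [l9, gU, l6, l14, l18, l16, l20].prod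

theorem rep_g2 : RepH Ug2 g2 :=
  rep_word Ug2 [Ul9, TU, Ul6, Ul14, Ul18, Ul16, Ul20] [l9, gU, l6, l14, l18, l16, l20]
    (List.Forall₂.cons rep_l9 (List.Forall₂.cons rep_gU (List.Forall₂.cons rep_l6 (List.Forall₂.cons rep_l14 (List.Forall₂.cons rep_l18 (List.Forall₂.cons rep_l16 (List.Forall₂.cons rep_l20 List.Forall₂.nil)))))))
    (by decide +kernel)

/-- an element given by a word -/
noncomputable def g3 : HG := [l14, l7, l12, l11, l17, l12].prod

theorem rep_g3 : RepH Ug3 g3 :=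
  rep_word Ug3 [Ul14, Ul7, Ul12, Ul11, Ul17, Ul12] [l14, l7, l12, l11, l17, l12]
    (List.Forall₂.cons rep_l14 (List.Forall₂.cons rep_l7 (List.Forall₂.cons rep_l12 (List.Forall₂.cons rep_l11 (List.Forall₂.cons rep_l17 (List.Forall₂.cons rep_l12 List.Forall₂.nil))))))
    (by decide +kernel)

/-- an element given by a word -/
noncomputable def g4 : HG := [l6, l6, l13].prod

theorem rep_g4 : RepH Ug4 g4 :=
  rep_word Ug4 [Ul6, Ul6, Ul13] [l6, l6, l13]
    (List.Forall₂.cons rep_l6 (List.Forall₂.cons rep_l6 (List.Forall₂.cons rep_l13 List.Forall₂.nil)))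
    (by decide +kernel)

/-- an element given by a word -/
noncomputable def g5 : HG := [l11, gUi, l13, l7, l15, l13, l17, l12, l19].prod

theorem rep_g5 : RepH Ug5 g5 :=
  rep_word Ug5 [Ul11, TUi, Ul13, Ul7, Ul15, Ul13, Ul17, Ul12, Ul19] [l11, gUi, l13, l7, l15, l13, l17, l12, l19]
    (List.Forall₂.cons rep_l11 (List.Forall₂.cons rep_gUi (List.Forall₂.cons rep_l13 (List.Forall₂.cons rep_l7 (List.Forall₂.cons rep_l15 (List.Forall₂.cons rep_l13 (List.Forall₂.cons rep_l17 (List.Forall₂.cons rep_l12 (List.Forall₂.cons rep_l19 List.Forall₂.nil)))))))))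
    (by decide +kernel)

/-- an element given by a word -/
noncomputable def g6 : HG := [l14, gUi, l15, l9, l10, l10, l15, l18, l19].prod

theorem rep_g6 : RepH Ug6 g6 :=
  rep_word Ug6 [Ul14, TUi, Ul15, Ul9, Ul10, Ul10, Ul15, Ul18, Ul19] [l14, gUi, l15, l9, l10, l10, l15, l18, l19]
    (List.Forall₂.cons rep_l14 (List.Forall₂.cons rep_gUi (List.Forall₂.cons rep_l15 (List.Forall₂.cons rep_l9 (List.Forall₂.cons rep_l10 (List.Forall₂.cons rep_l10 (List.Forall₂.cons rep_l15 (List.Forall₂.cons rep_l18 (List.Forall₂.cons rep_l19 List.Forall₂.nil)))))))))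
    (by decide +kernel)

/-- an element given by a word -/
noncomputable def eb : HG := [l11, gC, l9, l17, l11, l16, l17].prod

theorem rep_eb : RepH Ueb eb :=
  rep_word Ueb [Ul11, TC, Ul9, Ul17, Ul11, Ul16, Ul17] [l11, gC, l9, l17, l11, l16, l17]
    (List.Forall₂.cons rep_l11 (List.Forall₂.cons rep_gC (List.Forall₂.cons rep_l9 (List.Forall₂.cons rep_l17 (List.Forall₂.cons rep_l11 (List.Forall₂.cons rep_l16 (List.Forall₂.cons rep_l17 List.Forall₂.nil)))))))
    (by decide +kernel)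

/-- an element given by a word -/
noncomputable def ec : HG := [gU, gU, l16, l6, l12, l19].prod

theorem rep_ec : RepH Uec ec :=
  rep_word Uec [TU, TU, Ul16, Ul6, Ul12, Ul19] [gU, gU, l16, l6, l12, l19]
    (List.Forall₂.cons rep_gU (List.Forall₂.cons rep_gU (List.Forall₂.cons rep_l16 (List.Forall₂.cons rep_l6 (List.Forall₂.cons rep_l12 (List.Forall₂.cons rep_l19 List.Forall₂.nil))))))
    (by decide +kernel)

/-- an element given by a word -/
noncomputable def qb : HG := [l11, gUi, l15, l6, l14, l10, l18, l16, l19].prod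

theorem rep_qb : RepH Uqb qb :=
  rep_word Uqb [Ul11, TUi, Ul15, Ul6, Ul14, Ul10, Ul18, Ul16, Ul19] [l11, gUi, l15, l6, l14, l10, l18, l16, l19]
    (List.Forall₂.cons rep_l11 (List.Forall₂.cons rep_gUi (List.Forall₂.cons rep_l15 (List.Forall₂.cons rep_l6 (List.Forall₂.cons rep_l14 (List.Forall₂.cons rep_l10 (List.Forall₂.cons rep_l18 (List.Forall₂.cons rep_l16 (List.Forall₂.cons rep_l19 List.Forall₂.nil)))))))))
    (by decide +kernel)

/-- an element given by a word -/
noncomputable def qc : HG := [l11, gC, l16, l6, l10, l18, l15].prod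

theorem rep_qc : RepH Uqc qc :=
  rep_word Uqc [Ul11, TC, Ul16, Ul6, Ul10, Ul18, Ul15] [l11, gC, l16, l6, l10, l18, l15]
    (List.Forall₂.cons rep_l11 (List.Forall₂.cons rep_gC (List.Forall₂.cons rep_l16 (List.Forall₂.cons rep_l6 (List.Forall₂.cons rep_l10 (List.Forall₂.cons rep_l18 (List.Forall₂.cons rep_l15 List.Forall₂.nil)))))))
    (by decide +kernel)

/-- an element given by a word -/
noncomputable def qab : HG := [gUi, l13, l9, l13, l16, l17].prod

theorem rep_qab : RepH Uqab qab :=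
  rep_word Uqab [TUi, Ul13, Ul9, Ul13, Ul16, Ul17] [gUi, l13, l9, l13, l16, l17]
    (List.Forall₂.cons rep_gUi (List.Forall₂.cons rep_l13 (List.Forall₂.cons rep_l9 (List.Forall₂.cons rep_l13 (List.Forall₂.cons rep_l16 (List.Forall₂.cons rep_l17 List.Forall₂.nil))))))
    (by decide +kernel)

/-- an element given by a word -/
noncomputable def qac : HG := [l9, gU, l19, l8, l10, l13, l18, l16].prod

theorem rep_qac : RepH Uqac qac :=
  rep_word Uqac [Ul9, TU, Ul19, Ul8, Ul10, Ul13, Ul18, Ul16] [l9, gU, l19, l8, l10, l13, l18, l16]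
    (List.Forall₂.cons rep_l9 (List.Forall₂.cons rep_gU (List.Forall₂.cons rep_l19 (List.Forall₂.cons rep_l8 (List.Forall₂.cons rep_l10 (List.Forall₂.cons rep_l13 (List.Forall₂.cons rep_l18 (List.Forall₂.cons rep_l16 List.Forall₂.nil))))))))
    (by decide +kernel)

/-- an element given by a word -/
noncomputable def qbc : HG := [gU, gU, l19, l8, l17, l11, l15].prod

theorem rep_qbc : RepH Uqbc qbc :=
  rep_word Uqbc [TU, TU, Ul19, Ul8, Ul17, Ul11, Ul15] [gU, gU, l19, l8, l17, l11, l15]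
    (List.Forall₂.cons rep_gU (List.Forall₂.cons rep_gU (List.Forall₂.cons rep_l19 (List.Forall₂.cons rep_l8 (List.Forall₂.cons rep_l17 (List.Forall₂.cons rep_l11 (List.Forall₂.cons rep_l15 List.Forall₂.nil)))))))
    (by decide +kernel)

/-- an element given by a word -/
noncomputable def qabc : HG := [l11, gC, l6, l6, l14, l19, l17, l15, l20].prod

theorem rep_qabc : RepH Uqabc qabc :=
  rep_word Uqabc [Ul11, TC, Ul6, Ul6, Ul14, Ul19, Ul17, Ul15, Ul20] [l11, gC, l6, l6, l14, l19, l17, l15, l20]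
    (List.Forall₂.cons rep_l11 (List.Forall₂.cons rep_gC (List.Forall₂.cons rep_l6 (List.Forall₂.cons rep_l6 (List.Forall₂.cons rep_l14 (List.Forall₂.cons rep_l19 (List.Forall₂.cons rep_l17 (List.Forall₂.cons rep_l15 (List.Forall₂.cons rep_l20 List.Forall₂.nil)))))))))
    (by decide +kernel)

/-- an element given by a word -/
noncomputable def q1 : HG := [l9, gU, l10, l6, l13, l17].prod

theorem rep_q1 : RepH Uq1 q1 :=
  rep_word Uq1 [Ul9, TU, Ul10, Ul6, Ul13, Ul17] [l9, gU, l10, l6, l13, l17]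
    (List.Forall₂.cons rep_l9 (List.Forall₂.cons rep_gU (List.Forall₂.cons rep_l10 (List.Forall₂.cons rep_l6 (List.Forall₂.cons rep_l13 (List.Forall₂.cons rep_l17 List.Forall₂.nil))))))
    (by decide +kernel)

/-- an element given by a word -/
noncomputable def q3 : HG := [l11, gC, l6, l11, l15, l18].prod

theorem rep_q3 : RepH Uq3 q3 :=
  rep_word Uq3 [Ul11, TC, Ul6, Ul11, Ul15, Ul18] [l11, gC, l6, l11, l15, l18]
    (List.Forall₂.cons rep_l11 (List.Forall₂.cons rep_gC (List.Forall₂.cons rep_l6 (List.Forall₂.cons rep_l11 (List.Forall₂.cons rep_l15 (List.Forall₂.cons rep_l18 List.Forall₂.nil))))))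
    (by decide +kernel)

/-- an element given by a word -/
noncomputable def q4 : HG := [gUi, l15, l7, l10, l17, l16].prod

theorem rep_q4 : RepH Uq4 q4 :=
  rep_word Uq4 [TUi, Ul15, Ul7, Ul10, Ul17, Ul16] [gUi, l15, l7, l10, l17, l16]
    (List.Forall₂.cons rep_gUi (List.Forall₂.cons rep_l15 (List.Forall₂.cons rep_l7 (List.Forall₂.cons rep_l10 (List.Forall₂.cons rep_l17 (List.Forall₂.cons rep_l16 List.Forall₂.nil))))))
    (by decide +kernel)

/-- an element given by a word -/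
noncomputable def q24 : HG := [gU, gC, l18, l8, l17, l10, l17, l12, l20].prod

theorem rep_q24 : RepH Uq24 q24 :=
  rep_word Uq24 [TU, TC, Ul18, Ul8, Ul17, Ul10, Ul17, Ul12, Ul20] [gU, gC, l18, l8, l17, l10, l17, l12, l20]
    (List.Forall₂.cons rep_gU (List.Forall₂.cons rep_gC (List.Forall₂.cons rep_l18 (List.Forall₂.cons rep_l8 (List.Forall₂.cons rep_l17 (List.Forall₂.cons rep_l10 (List.Forall₂.cons rep_l17 (List.Forall₂.cons rep_l12 (List.Forall₂.cons rep_l20 List.Forall₂.nil)))))))))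
    (by decide +kernel)

/-- an element given by a word -/
noncomputable def x4 : HG := [g0, g3].prod

theorem rep_x4 : RepH Ux4 x4 :=
  rep_word Ux4 [Ug0, Ug3] [g0, g3]
    (List.Forall₂.cons rep_g0 (List.Forall₂.cons rep_g3 List.Forall₂.nil))
    (by decide +kernel)

/-- an element given by a word -/
noncomputable def y4 : HG := [g0, g2].prod

theorem rep_y4 : RepH Uy4 y4 :=
  rep_word Uy4 [Ug0, Ug2] [g0, g2]
    (List.Forall₂.cons rep_g0 (List.Forall₂.cons rep_g2 List.Forall₂.nil))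
    (by decide +kernel)

/-- an element given by a word -/
noncomputable def x3 : HG := [l11, gUi, l13, l9, l15, l10, l10, l19, l17, l15, l20].prod

theorem rep_x3 : RepH Ux3 x3 :=
  rep_word Ux3 [Ul11, TUi, Ul13, Ul9, Ul15, Ul10, Ul10, Ul19, Ul17, Ul15, Ul20] [l11, gUi, l13, l9, l15, l10, l10, l19, l17, l15, l20]
    (List.Forall₂.cons rep_l11 (List.Forall₂.cons rep_gUi (List.Forall₂.cons rep_l13 (List.Forall₂.cons rep_l9 (List.Forall₂.cons rep_l15 (List.Forall₂.cons rep_l10 (List.Forall₂.cons rep_l10 (List.Forall₂.cons rep_l19 (List.Forall₂.cons rep_l17 (List.Forall₂.cons rep_l15 (List.Forall₂.cons rep_l20 List.Forall₂.nil)))))))))))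
    (by decide +kernel)

/-- an element given by a word -/
noncomputable def y3 : HG := [l16, l6, l10, l13, l15].prod

theorem rep_y3 : RepH Uy3 y3 :=
  rep_word Uy3 [Ul16, Ul6, Ul10, Ul13, Ul15] [l16, l6, l10, l13, l15]
    (List.Forall₂.cons rep_l16 (List.Forall₂.cons rep_l6 (List.Forall₂.cons rep_l10 (List.Forall₂.cons rep_l13 (List.Forall₂.cons rep_l15 List.Forall₂.nil)))))
    (by decide +kernel)

attribute [irreducible] l6 l7 l8 l9 l10 l11 l12 l13 l14 l15 l16 l17 l18 l19 l20 g0 g1 g2 g3 g4 g5 g6 eb ec qb qc qab qac qbc qabc q1 q3 q4 q24 x4 y4 x3 y3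

end Cfsg.Agent.Lib.Helper5.M22M
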