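import Mathlib
import Cfsg.Agent.Lib.Helper5.M22MB

set_option autoImplicit false

/-! Relations between elements of the Mathieu group on 22 points, checked on coded
permutations (generated). -/

namespace Cfsg.Agent.Lib.Helper5.M22M

open Cfsg.Agent.Lib.helper23 Cfsg.Agent.Lib.Helper5.CP

theorem g0_sq : g0 * g0 = 1 := by
  have h := eq_of_chk (look := lk24) (n := 24) (H := H24) [Ug0, Ug0] [] [g0, g0] []
    (List.Forall₂.cons rep_g0 (List.Forall₂.cons rep_g0 List.Forall₂.nil))
    List.Forall₂.nil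
    (by decide +kernel)
  simpa only [List.prod_cons, List.prod_nil, mul_one, mul_assoc] using h

theorem g0_eb : g0 * eb = eb * g0 := by
  have h := eq_of_chk (look := lk24) (n := 24) (H := H24) [Ug0, Ueb] [Ueb, Ug0] [g0, eb] [eb, g0]
    (List.Forall₂.cons rep_g0 (List.Forall₂.cons rep_eb List.Forall₂.nil))
    (List.Forall₂.cons rep_eb (List.Forall₂.cons rep_g0 List.Forall₂.nil))
    (by decide +kernel)
  simpa only [List.prod_cons, List.prod_nil, mul_one, mul_assoc] using h

theorem g0_ec : g0 * ec = ec * g0 := by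
  have h := eq_of_chk (look := lk24) (n := 24) (H := H24) [Ug0, Uec] [Uec, Ug0] [g0, ec] [ec, g0]
    (List.Forall₂.cons rep_g0 (List.Forall₂.cons rep_ec List.Forall₂.nil))
    (List.Forall₂.cons rep_ec (List.Forall₂.cons rep_g0 List.Forall₂.nil))
    (by decide +kernel)
  simpa only [List.prod_cons, List.prod_nil, mul_one, mul_assoc] using h

theorem eb_ec : eb * ec = ec * eb := by
  have h := eq_of_chk (look := lk24) (n := 24) (H := H24) [Ueb, Uec] [Uec, Ueb] [eb, ec] [ec, eb]
    (List.Forall₂.cons rep_eb (List.Forall₂.cons rep_ec List.Forall₂.nil))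
    (List.Forall₂.cons rep_ec (List.Forall₂.cons rep_eb List.Forall₂.nil))
    (by decide +kernel)
  simpa only [List.prod_cons, List.prod_nil, mul_one, mul_assoc] using h

theorem qb_conj : qb * g0 = eb * qb := by
  have h := eq_of_chk (look := lk24) (n := 24) (H := H24) [Uqb, Ug0] [Ueb, Uqb] [qb, g0] [eb, qb]
    (List.Forall₂.cons rep_qb (List.Forall₂.cons rep_g0 List.Forall₂.nil))
    (List.Forall₂.cons rep_eb (List.Forall₂.cons rep_qb List.Forall₂.nil))
    (by decide +kernel)
  simpa only [List.prod_cons, List.prod_nil, mul_one, mul_assoc] using h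

theorem qc_conj : qc * g0 = ec * qc := by
  have h := eq_of_chk (look := lk24) (n := 24) (H := H24) [Uqc, Ug0] [Uec, Uqc] [qc, g0] [ec, qc]
    (List.Forall₂.cons rep_qc (List.Forall₂.cons rep_g0 List.Forall₂.nil))
    (List.Forall₂.cons rep_ec (List.Forall₂.cons rep_qc List.Forall₂.nil))
    (by decide +kernel)
  simpa only [List.prod_cons, List.prod_nil, mul_one, mul_assoc] using h

theorem qab_conj : qab * g0 = (g0 * eb) * qab := by
  have h := eq_of_chk (look := lk24) (n := 24) (H := H24) [Uqab, Ug0] [Ug0, Ueb, Uqab] [qab, g0] [g0, eb, qab]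
    (List.Forall₂.cons rep_qab (List.Forall₂.cons rep_g0 List.Forall₂.nil))
    (List.Forall₂.cons rep_g0 (List.Forall₂.cons rep_eb (List.Forall₂.cons rep_qab List.Forall₂.nil)))
    (by decide +kernel)
  simpa only [List.prod_cons, List.prod_nil, mul_one, mul_assoc] using h

theorem qac_conj : qac * g0 = (g0 * ec) * qac := by
  have h := eq_of_chk (look := lk24) (n := 24) (H := H24) [Uqac, Ug0] [Ug0, Uec, Uqac] [qac, g0] [g0, ec, qac]
    (List.Forall₂.cons rep_qac (List.Forall₂.cons rep_g0 List.Forall₂.nil))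
    (List.Forall₂.cons rep_g0 (List.Forall₂.cons rep_ec (List.Forall₂.cons rep_qac List.Forall₂.nil)))
    (by decide +kernel)
  simpa only [List.prod_cons, List.prod_nil, mul_one, mul_assoc] using h

theorem qbc_conj : qbc * g0 = (eb * ec) * qbc := by
  have h := eq_of_chk (look := lk24) (n := 24) (H := H24) [Uqbc, Ug0] [Ueb, Uec, Uqbc] [qbc, g0] [eb, ec, qbc]
    (List.Forall₂.cons rep_qbc (List.Forall₂.cons rep_g0 List.Forall₂.nil))
    (List.Forall₂.cons rep_eb (List.Forall₂.cons rep_ec (List.Forall₂.cons rep_qbc List.Forall₂.nil)))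
    (by decide +kernel)
  simpa only [List.prod_cons, List.prod_nil, mul_one, mul_assoc] using h

theorem qabc_conj : qabc * g0 = (g0 * eb * ec) * qabc := by
  have h := eq_of_chk (look := lk24) (n := 24) (H := H24) [Uqabc, Ug0] [Ug0, Ueb, Uec, Uqabc] [qabc, g0] [g0, eb, ec, qabc]
    (List.Forall₂.cons rep_qabc (List.Forall₂.cons rep_g0 List.Forall₂.nil))
    (List.Forall₂.cons rep_g0 (List.Forall₂.cons rep_eb (List.Forall₂.cons rep_ec (List.Forall₂.cons rep_qabc List.Forall₂.nil))))
    (by decide +kernel)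
  simpa only [List.prod_cons, List.prod_nil, mul_one, mul_assoc] using h

theorem q1_conj : q1 * g0 = g1 * q1 := by
  have h := eq_of_chk (look := lk24) (n := 24) (H := H24) [Uq1, Ug0] [Ug1, Uq1] [q1, g0] [g1, q1]
    (List.Forall₂.cons rep_q1 (List.Forall₂.cons rep_g0 List.Forall₂.nil))
    (List.Forall₂.cons rep_g1 (List.Forall₂.cons rep_q1 List.Forall₂.nil))
    (by decide +kernel)
  simpa only [List.prod_cons, List.prod_nil, mul_one, mul_assoc] using h

theorem q3_conj : q3 * g0 = g3 * q3 := by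
  have h := eq_of_chk (look := lk24) (n := 24) (H := H24) [Uq3, Ug0] [Ug3, Uq3] [q3, g0] [g3, q3]
    (List.Forall₂.cons rep_q3 (List.Forall₂.cons rep_g0 List.Forall₂.nil))
    (List.Forall₂.cons rep_g3 (List.Forall₂.cons rep_q3 List.Forall₂.nil))
    (by decide +kernel)
  simpa only [List.prod_cons, List.prod_nil, mul_one, mul_assoc] using h

theorem q4_conj : q4 * g0 = g4 * q4 := by
  have h := eq_of_chk (look := lk24) (n := 24) (H := H24) [Uq4, Ug0] [Ug4, Uq4] [q4, g0] [g4, q4]
    (List.Forall₂.cons rep_q4 (List.Forall₂.cons rep_g0 List.Forall₂.nil))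
    (List.Forall₂.cons rep_g4 (List.Forall₂.cons rep_q4 List.Forall₂.nil))
    (by decide +kernel)
  simpa only [List.prod_cons, List.prod_nil, mul_one, mul_assoc] using h

theorem q24_conj : q24 * g0 = (g2 * g4) * q24 := by
  have h := eq_of_chk (look := lk24) (n := 24) (H := H24) [Uq24, Ug0] [Ug2, Ug4, Uq24] [q24, g0] [g2, g4, q24]
    (List.Forall₂.cons rep_q24 (List.Forall₂.cons rep_g0 List.Forall₂.nil))
    (List.Forall₂.cons rep_g2 (List.Forall₂.cons rep_g4 (List.Forall₂.cons rep_q24 List.Forall₂.nil)))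
    (by decide +kernel)
  simpa only [List.prod_cons, List.prod_nil, mul_one, mul_assoc] using h

theorem x4_def : x4 = g0 * g3 := by
  have h := eq_of_chk (look := lk24) (n := 24) (H := H24) [Ux4] [Ug0, Ug3] [x4] [g0, g3]
    (List.Forall₂.cons rep_x4 List.Forall₂.nil)
    (List.Forall₂.cons rep_g0 (List.Forall₂.cons rep_g3 List.Forall₂.nil))
    (by decide +kernel)
  simpa only [List.prod_cons, List.prod_nil, mul_one, mul_assoc] using h

theorem y4_def : y4 = g0 * g2 := by
  have h := eq_of_chk (look := lk24) (n := 24) (H := H24) [Uy4] [Ug0, Ug2] [y4] [g0, g2]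
    (List.Forall₂.cons rep_y4 List.Forall₂.nil)
    (List.Forall₂.cons rep_g0 (List.Forall₂.cons rep_g2 List.Forall₂.nil))
    (by decide +kernel)
  simpa only [List.prod_cons, List.prod_nil, mul_one, mul_assoc] using h

theorem x4_y4 : x4 * y4 = y4 * x4 := by
  have h := eq_of_chk (look := lk24) (n := 24) (H := H24) [Ux4, Uy4] [Uy4, Ux4] [x4, y4] [y4, x4]
    (List.Forall₂.cons rep_x4 (List.Forall₂.cons rep_y4 List.Forall₂.nil))
    (List.Forall₂.cons rep_y4 (List.Forall₂.cons rep_x4 List.Forall₂.nil))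
    (by decide +kernel)
  simpa only [List.prod_cons, List.prod_nil, mul_one, mul_assoc] using h

theorem y4_pow : y4 * y4 * y4 * y4 = 1 := by
  have h := eq_of_chk (look := lk24) (n := 24) (H := H24) [Uy4, Uy4, Uy4, Uy4] [] [y4, y4, y4, y4] []
    (List.Forall₂.cons rep_y4 (List.Forall₂.cons rep_y4 (List.Forall₂.cons rep_y4 (List.Forall₂.cons rep_y4 List.Forall₂.nil))))
    List.Forall₂.nil
    (by decide +kernel)
  simpa only [List.prod_cons, List.prod_nil, mul_one, mul_assoc] using h

theorem x3_cube : x3 * x3 * x3 = 1 := by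
  have h := eq_of_chk (look := lk24) (n := 24) (H := H24) [Ux3, Ux3, Ux3] [] [x3, x3, x3] []
    (List.Forall₂.cons rep_x3 (List.Forall₂.cons rep_x3 (List.Forall₂.cons rep_x3 List.Forall₂.nil)))
    List.Forall₂.nil
    (by decide +kernel)
  simpa only [List.prod_cons, List.prod_nil, mul_one, mul_assoc] using h

theorem y3_cube : y3 * y3 * y3 = 1 := by
  have h := eq_of_chk (look := lk24) (n := 24) (H := H24) [Uy3, Uy3, Uy3] [] [y3, y3, y3] []
    (List.Forall₂.cons rep_y3 (List.Forall₂.cons rep_y3 (List.Forall₂.cons rep_y3 List.Forall₂.nil)))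
    List.Forall₂.nil
    (by decide +kernel)
  simpa only [List.prod_cons, List.prod_nil, mul_one, mul_assoc] using h

theorem x3_y3 : x3 * y3 = y3 * x3 := by
  have h := eq_of_chk (look := lk24) (n := 24) (H := H24) [Ux3, Uy3] [Uy3, Ux3] [x3, y3] [y3, x3]
    (List.Forall₂.cons rep_x3 (List.Forall₂.cons rep_y3 List.Forall₂.nil))
    (List.Forall₂.cons rep_y3 (List.Forall₂.cons rep_x3 List.Forall₂.nil))
    (by decide +kernel)
  simpa only [List.prod_cons, List.prod_nil, mul_one, mul_assoc] using h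

end Cfsg.Agent.Lib.Helper5.M22M
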