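import Mathlib
import Cfsg.Agent.Lib.Helper5.M22MC
import Cfsg.Agent.Lib.Helper5.PcTE
import Cfsg.Agent.Lib.Helper5.PcTF

set_option autoImplicit false

/-! Word lists for the orders of the Sylow subgroups of the Mathieu group on 22 points, and the
certificate for the splitting of the Sylow 2-subgroup (generated). -/

namespace Cfsg.Agent.Lib.Helper5.M22M

open Cfsg.Agent.Lib.helper23 Cfsg.Agent.Lib.Helper5.CP Cfsg.Agent.Lib.Helper5.PcT

/-- the base points for signatures -/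
def sbase : List ℕ := [1, 2, 3, 4, 5]

theorem sbase_lt : ∀ b ∈ sbase, b < 24 := by decide

theorem chk_id : eqW lk24 24 Uid [] = true := by decide +kernel

/-- coded generators -/
def gT2 : List ℕ := [Ug0, Ug1, Ug2, Ug3, Ug4, Ug5, Ug6]

/-- generators -/
noncomputable def gG2 : List HG := [g0, g1, g2, g3, g4, g5, g6]

theorem gRep2 : List.Forall₂ RepH gT2 gG2 :=
  (List.Forall₂.cons rep_g0 (List.Forall₂.cons rep_g1 (List.Forall₂.cons rep_g2 (List.Forall₂.cons rep_g3 (List.Forall₂.cons rep_g4 (List.Forall₂.cons rep_g5 (List.Forall₂.cons rep_g6 List.Forall₂.nil)))))))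

/-- words with pairwise different values -/
def words2 : List (List ℕ) := [[3, 5], [5], [4, 5], [3, 4, 5], [1, 3, 5], [1, 3, 4, 5], [1, 4, 5], [1, 5], [0, 3, 5], [0, 3, 4, 5], [0, 1, 4, 5], [0, 5], [0, 4, 5], [0, 1, 3, 5], [0, 1, 5], [0, 1, 3, 4, 5], [0, 5, 6], [0, 4, 5, 6], [0, 1, 3, 4, 5, 6], [0, 3, 5, 6], [0, 3, 4, 5, 6], [0, 1, 5, 6], [0, 1, 3, 5, 6], [0, 1, 4, 5, 6], [0, 4, 6], [0, 6], [0, 1], [0, 3, 4, 6], [0, 3, 6], [0, 1, 3, 4], [0, 1, 4], [0, 1, 3], [3, 4], [4], [], [3], [1, 4, 6], [1, 6], [1, 3, 6], [1, 3, 4, 6], [1, 2, 5, 6], [1, 2, 3, 5, 6], [1, 2, 4, 5, 6], [1, 2, 3, 4, 5, 6], [2, 3, 5], [2, 4, 5], [2, 3, 4, 5], [2, 5], [0, 3, 4], [0, 3], [0, 1, 3, 6], [0, 4], [0], [0, 1, 4, 6], [0, 1, 3, 4, 6], [0, 1, 6], [5, 6], [3, 5, 6], [3, 4, 5, 6], [4, 5, 6], [1, 5, 6], [1, 4, 5, 6], [1, 3, 4, 5, 6], [1, 3, 5, 6], [0, 1, 2, 3, 4], [0, 1, 2], [0, 2, 3], [0, 1, 2, 4], [0, 1, 2, 3], [0, 2, 3, 4],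 [0, 2, 4], [0, 2], [4, 6], [3, 4, 6], [3, 6], [6], [1, 3, 4], [1, 3], [1], [1, 4], [1, 2, 3, 4], [1, 2, 4], [1, 2, 3], [1, 2], [2, 3, 4], [2], [2, 3], [2, 4], [1, 2, 4, 6], [1, 2, 3, 4, 6], [1, 2, 6], [1, 2, 3, 6], [2, 4, 6], [2, 3, 6], [2, 6], [2, 3, 4, 6], [1, 2, 3, 5], [1, 2, 5], [1, 2, 3, 4, 5], [1, 2, 4, 5], [2, 5, 6], [2, 3, 4, 5, 6], [2, 4, 5, 6], [2, 3, 5, 6], [0, 1, 2, 3, 5], [0, 1, 2, 4, 5], [0, 2, 4, 5, 6], [0, 1, 2, 5], [0, 1, 2, 3, 4, 5], [0, 2, 5, 6], [0, 2, 3, 5, 6], [0, 2, 3, 4, 5, 6], [0, 1, 2, 5, 6], [0, 1, 2, 3, 4, 5, 6], [0, 2, 3, 4, 5], [0, 1, 2, 3, 5, 6], [0, 1, 2, 4, 5, 6], [0, 2, 3, 5], [0, 2, 5], [0, 2, 4, 5], [0, 1, 2, 4, 6], [0, 1, 2, 3, 6], [0, 2, 6], [0, 1, 2, 3, 4, 6], [0, 1, 2, 6], [0, 2, 4, 6], [0, 2, 3, 4, 6], [0, 2, 3, 6]]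

theorem words2_length : words2.length = 128 := by decide +kernel

theorem words2_inc : isStrictInc (words2.map fun l => sigW lk24 sbase (l.map fun i => gT2.getD i Uid)) = true := by
  decide +kernel

/-- coded generators -/
def gT3 : List ℕ := [Ux3, Uy3]

/-- generators -/
noncomputable def gG3 : List HG := [x3, y3]

theorem gRep3 : List.Forall₂ RepH gT3 gG3 :=
  (List.Forall₂.cons rep_x3 (List.Forall₂.cons rep_y3 List.Forall₂.nil))

/-- words with pairwise different values -/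
def words3 : List (List ℕ) := [[0, 0], [0, 0, 1, 1], [0, 0, 1], [], [1, 1], [1], [0, 1, 1], [0], [0, 1]]

theorem words3_length : words3.length = 9 := by decide +kernel

theorem words3_inc : isStrictInc (words3.map fun l => sigW lk24 sbase (l.map fun i => gT3.getD i Uid)) = true := by
  decide +kernel

/-- the squares of the polycyclic generators -/
def sqL : List (List ℕ) := [[], [], [6], [], [], [], []]

/-- the commutators of the polycyclic generators -/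
def cmL : List (List (List ℕ)) := [[[], [2, 4, 5], [5], [6], [5], [], []], [[], [], [6], [4], [], [6], []], [[], [], [], [5, 6], [6], [], []], [[], [], [], [], [], [], []], [[], [], [], [], [], [], []], [[], [], [], [], [], [], []], [[], [], [], [], [], [], []]]

/-- the involution words used -/
def invW : List (List ℕ) := [[0], [1], [3], [4], [2, 4]]

/-- the associativity triples used -/
def triL : List (ℕ × ℕ × ℕ) := [(1, 0, 0), (2, 0, 0), (3, 0, 0), (1, 1, 0), (2, 1, 0), (3, 1, 0), (4, 1, 0), (5, 1, 0), (6, 1, 0), (2, 2, 0), (3, 2, 0), (6, 2, 0), (3, 3, 0), (4, 3, 0), (2, 1, 1), (3, 1, 1), (2, 2, 1), (3, 3, 1)]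

/-- the commuting pairs used -/
def commW : List (List ℕ × List ℕ) := [([0, 3], [0, 2])]

/-- the forms of the correcting exponents -/
def CC : List (List (ℕ × ℕ)) := [[], [], [(0, 1), (0, 2), (1, 3)], [], [(1, 3)], [(0, 2)], [(0, 3)]]

/-- the certificates -/
def certs : List (List ℕ) := [[0], [], [], [], [4, 5, 6, 7, 9, 11, 12, 13, 14, 19, 21], [7, 9, 11, 12, 15, 16, 18, 19, 21], [7, 9, 11, 12, 13, 19, 21], [], [1], [5, 8, 9, 10, 12, 14, 15, 16, 18, 19, 20, 22, 23], [], [3, 20], [3, 4, 5, 6, 10, 11, 12, 14, 19, 22, 23], [9, 11, 12, 13, 21], [], [], [5, 10, 12, 15, 16, 18, 19, 22, 23], [9, 11, 12, 18, 19, 21, 23], [3, 4, 5, 9, 10, 11, 15, 18, 19, 22, 23], [6, 13, 14, 15, 16, 18], [19, 21], [], [], [], [2], [3, 22], [13, 18, 19, 21], [9, 11, 12, 13, 17, 19, 21], [], [], [], [], [3], [6, 7, 9, 11, 13, 14, 15, 16, 18, 19, 21], [13, 16, 19, 21], [], [], [], [], [], [6, 7, 9, 11, 12, 15, 16, 18, 19,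 21], [16], [], [], [], [], [], [], [9, 11, 12, 13, 19, 21]]

theorem data_ok : dataOK 7 sqL cmL = true := by decide +kernel

theorem cert_ok : certOK (PcD.ofLists 7 sqL cmL) CC (zforms2 (PcD.ofLists 7 sqL cmL) 40 invW triL commW) certs = true := by
  decide +kernel

theorem rels_ok : relsChk lk24 24 Uid gT2 7 sqL cmL = true := by decide +kernel

end Cfsg.Agent.Lib.Helper5.M22M
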