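import Mathlib
import Cfsg.Agent.Lib.Helper5.M22MD

set_option autoImplicit false

/-! Kernels of stem extensions of the Mathieu group on 22 points are cyclic of order dividing 12. -/

namespace Cfsg.Agent.Lib.Helper5.M22M

open Cfsg Cfsg.Agent.Lib.helper23 Cfsg.Agent.Lib.Helper5.CP Cfsg.Agent.Lib.Helper5.PcT
open Cfsg.Agent.Lib.Helper5.Stem Cfsg.Agent.Lib.helper3
open Subgroup
open scoped commutatorElement

/-- the Sylow `3`-subgroup -/
def S3 : Subgroup HG := closure {x3, y3}

theorem x3_pow' : x3 ^ 3 = 1 := by rw [← x3_cube, pow_succ, pow_two]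
theorem y3_pow' : y3 ^ 3 = 1 := by rw [← y3_cube, pow_succ, pow_two]

theorem y4_pow' : y4 ^ 4 = 1 := by
  rw [← y4_pow]; simp only [pow_succ, pow_zero, one_mul]

theorem card_S3_ge : 9 ≤ Nat.card S3 := by
  have h := card_ge_of_words Uid chk_id sbase sbase_lt gT3 gG3 gRep3 S3 ?_ words3 words3_inc
  · rwa [words3_length] at h
  · intro g hg
    simp only [gG3, List.mem_cons, List.not_mem_nil, or_false] at hg
    rcases hg with rfl | rfl
    · exact subset_closure (by simp)
    · exact subset_closure (by simp)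

theorem card_S3_le : Nat.card S3 ≤ 9 := by
  have hrel : y3 * x3 * y3⁻¹ = x3 ^ 1 := by
    rw [pow_one, conj_of_mul x3_y3.symm]
  exact card_closure_pair_le hrel x3_pow' (by norm_num) y3_pow' (by norm_num)

theorem card_S3 : Nat.card S3 = 9 := le_antisymm card_S3_le card_S3_ge

theorem S3_index : ¬ 3 ∣ S3.index := by
  have h1 := Subgroup.card_mul_index S3
  rw [card_S3, card_HG] at h1
  have : S3.index = 49280 := by omega
  rw [this]
  norm_num

theorem card_one_of_all {Γ : Type*} [Group Γ] (K : Subgroup Γ) (hall : ∀ z ∈ K, z = 1) :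
    Nat.card K = 1 := by
  rw [Nat.card_eq_one_iff_unique]
  refine ⟨⟨fun a b => ?_⟩, ⟨1⟩⟩
  apply Subtype.ext
  rw [hall a a.2, hall b b.2]

/-- in every triple cover the lifts of `x3` and `y3` do not commute -/
theorem lifts_noncomm_three {Γ : Type*} [Group Γ] [Finite Γ] (σ : Γ →* HG)
    (hσ : Cfsg.IsStemExtension σ) (hcard : Nat.card σ.ker = 3) :
    ∀ X Y : Γ, σ X = x3 → σ Y = y3 → X * Y ≠ Y * X := by
  obtain ⟨hsurj, hcen, hder⟩ := hσ
  intro X Y hX hY hcomm
  have hk3 : ∀ κ ∈ σ.ker, κ ^ 3 = 1 := by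
    intro κ hκ
    have := pow_card_eq_one' (G := σ.ker) (x := ⟨κ, hκ⟩)
    rw [hcard] at this
    exact congrArg Subtype.val this
  have hS := comm_comap_trivial_of_comm_lifts σ hcen hX hY hcomm
  have : Fact (Nat.Prime 3) := ⟨by norm_num⟩
  have hall : ∀ z ∈ σ.ker, z = 1 := by
    intro z hz
    exact stem_no_prime_of_subgroup σ hsurj hcen hder S3 S3_index (fun w hw _ => hS w hw) hz
      (hk3 z hz)
  have := card_one_of_all σ.ker hall
  omega

/-- no stem extension has a kernel of prime order at least five -/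
theorem no_stem_other (p : ℕ) (hpP : p.Prime) (hp2 : p ≠ 2) (hp3 : p ≠ 3) {Γ : Type*} [Group Γ]
    [Finite Γ] (σ : Γ →* HG) (hσ : Cfsg.IsStemExtension σ) : Nat.card σ.ker ≠ p := by
  intro hcardp
  obtain ⟨hsurj, hcen, hder⟩ := hσ
  have hcard := card_HG
  have : Fact p.Prime := ⟨hpP⟩
  obtain ⟨Rr⟩ : Nonempty (Sylow p HG) := inferInstance
  have hcyc : IsCyclic (Rr : Subgroup HG) := by
    obtain ⟨j, hj⟩ := IsPGroup.iff_card.mp Rr.2
    have hdvd : p ^ j ∣ 443520 := by
      rw [← hj, ← hcard]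
      exact Subgroup.card_subgroup_dvd_card _
    have hj1 : j ≤ 1 := by
      by_contra hlt
      push Not at hlt
      have h2 : p ^ 2 ∣ 443520 := dvd_trans (pow_dvd_pow p hlt) hdvd
      have e : (443520 : ℕ) = 2 ^ 7 * 3 ^ 2 * 5 * 7 * 11 := by norm_num
      rw [e] at h2
      have hpd : p ∣ 2 ^ 7 * 3 ^ 2 * 5 * 7 * 11 :=
        dvd_trans (dvd_pow_self p (by norm_num)) h2
      have hcases : p = 2 ∨ p = 3 ∨ p = 5 ∨ p = 7 ∨ p = 11 := by
        rcases (Nat.Prime.dvd_mul hpP).mp hpd with h | h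
        · rcases (Nat.Prime.dvd_mul hpP).mp h with h | h
          · rcases (Nat.Prime.dvd_mul hpP).mp h with h | h
            · rcases (Nat.Prime.dvd_mul hpP).mp h with h | h
              · left
                exact (Nat.prime_dvd_prime_iff_eq hpP Nat.prime_two).mp (hpP.dvd_of_dvd_pow h)
              · right; left
                exact (Nat.prime_dvd_prime_iff_eq hpP Nat.prime_three).mp
                  (hpP.dvd_of_dvd_pow h)
            · right; right; left
              exact (Nat.prime_dvd_prime_iff_eq hpP (by norm_num)).mp h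
          · right; right; right; left
            exact (Nat.prime_dvd_prime_iff_eq hpP (by norm_num)).mp h
        · right; right; right; right
          exact (Nat.prime_dvd_prime_iff_eq hpP (by norm_num)).mp h
      rcases hcases with rfl | rfl | rfl | rfl | rfl
      · exact hp2 rfl
      · exact hp3 rfl
      · revert h2; norm_num
      · revert h2; norm_num
      · revert h2; norm_num
    interval_cases j
    · rw [pow_zero] at hj
      have : Subsingleton (Rr : Subgroup HG) :=
        (Nat.card_eq_one_iff_unique.mp hj).1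
      exact isCyclic_of_subsingleton
    · rw [pow_one] at hj
      exact isCyclic_of_prime_card hj
  have hind : ¬ p ∣ (Rr : Subgroup HG).index := Sylow.not_dvd_index Rr
  have hall : ∀ z ∈ σ.ker, z = 1 := by
    intro z hz
    have hzp : z ^ p = 1 := by
      have := pow_card_eq_one' (G := σ.ker) (x := ⟨z, hz⟩)
      rw [hcardp] at this
      exact congrArg Subtype.val this
    refine stem_no_prime_of_subgroup σ hsurj hcen hder (Rr : Subgroup HG) hind ?_
      hz hzp
    intro w hw _
    exact comm_comap_trivial_of_cyclic σ hcen (Rr : Subgroup HG) w hw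
  have := card_one_of_all σ.ker hall
  rw [this] at hcardp
  exact hpP.one_lt.ne hcardp

/-- the kernel of every finite stem extension of the group on 24 points is cyclic of order
dividing 12 -/
theorem h24_ker_cyclic {Γ : Type} [Group Γ] [Finite Γ] (σ : Γ →* HG)
    (hσ : Cfsg.IsStemExtension σ) :
    ∃ c : σ.ker, c ^ (4 * 3) = 1 ∧ ∀ z : σ.ker, z ∈ Subgroup.zpowers c := by
  refine ker_cyclic_of_noncomm_two 2 3 4 3 9 4 ⟨2, rfl⟩ ⟨3, rfl⟩ ⟨1, rfl⟩ ⟨1, rfl⟩
    x4 y4 x3 y3 x4_y4 y4_pow' x3_y3 y3_pow' ?_ ?_ ?_ σ hσ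
  · intro p hp hp2 hp3 Γ' _ _ σ' hσ'
    exact no_stem_other p hp hp2 hp3 σ' hσ'
  · intro Γ' _ _ σ' hσ' hc
    exact lifts_noncomm σ' hσ' hc
  · intro Γ' _ _ σ' hσ' hc
    exact lifts_noncomm_three σ' hσ' hc

/-- the kernel of every finite stem extension of the Mathieu group on 22 points is cyclic of order
dividing 12 -/
theorem m22_ker_cyclic {Γ : Type} [Group Γ] [Finite Γ] (σ : Γ →* ↥Cfsg.Spor.M22)
    (hσ : Cfsg.IsStemExtension σ) :
    ∃ c : σ.ker, c ^ 12 = 1 ∧ ∀ z : σ.ker, z ∈ Subgroup.zpowers c := by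
  obtain ⟨hsurj, hcen, hder⟩ := hσ
  set σ' : Γ →* HG := iso.symm.toMonoidHom.comp σ with hσ'
  have hker : σ'.ker = σ.ker := by
    ext x
    rw [MonoidHom.mem_ker, MonoidHom.mem_ker, hσ', MonoidHom.comp_apply]
    exact MulEquiv.map_eq_one_iff iso.symm
  have hst : Cfsg.IsStemExtension σ' := by
    refine ⟨iso.symm.surjective.comp hsurj, ?_, ?_⟩
    · rw [hker]; exact hcen
    · rw [hker]; exact hder
  obtain ⟨c, hc, hgen⟩ := h24_ker_cyclic σ' hst
  have hcm : (c : Γ) ∈ σ.ker := by rw [← hker]; exact c.2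
  refine ⟨⟨c, hcm⟩, ?_, ?_⟩
  · apply Subtype.ext
    have := congrArg Subtype.val hc
    exact this
  · intro z
    have hz : (z : Γ) ∈ σ'.ker := by rw [hker]; exact z.2
    obtain ⟨k, hk⟩ := Subgroup.mem_zpowers_iff.mp (hgen ⟨z, hz⟩)
    rw [Subgroup.mem_zpowers_iff]
    refine ⟨k, ?_⟩
    apply Subtype.ext
    have := congrArg Subtype.val hk
    simpa using this

end Cfsg.Agent.Lib.Helper5.M22M
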