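import Mathlib
import Cfsg.Agent.Lib.helper4.OutM23

set_option autoImplicit false

/-! explicit tables of elements of the point stabiliser used for the multiplier computation -/

namespace Cfsg.Agent.Lib.Helper5.M23M

open Cfsg.Agent.Lib.helper4 Cfsg.Agent.Lib.Helper12.Golay

def tE1 : List ℕ := [0,1,6,4,3,12,2,21,22,14,16,20,5,13,9,15,10,17,18,19,11,7,8,23]
def tE2 : List ℕ := [0,1,7,11,20,10,21,2,9,8,5,3,16,13,22,15,12,17,18,19,4,6,14,23]
def tE3 : List ℕ := [0,1,22,10,16,11,8,14,6,21,3,5,20,13,7,15,4,17,18,19,12,9,2,23]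
def tE4 : List ℕ := [0,1,4,6,2,9,3,20,10,5,8,21,14,13,12,15,22,17,18,19,7,11,16,23]
def tK : List ℕ := [1,13,2,20,22,6,12,9,7,8,14,10,5,0,11,15,4,17,18,19,21,3,16,23]
def tR : List ℕ := [1,0,2,11,16,8,9,20,21,3,5,6,7,13,12,17,4,18,19,15,14,10,22,23]
def tS : List ℕ := [1,0,2,5,16,3,21,7,9,8,11,10,20,13,14,18,4,17,15,19,12,6,22,23]
def tCe2 : List ℕ := [17,19,8,22,14,20,9,6,10,3,12,2,4,15,11,0,16,18,1,13,7,21,5,23]
def tCe3 : List ℕ := [13,0,21,14,7,16,9,5,6,10,2,20,4,18,3,17,22,19,15,1,12,11,8,23]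
def tCe4 : List ℕ := [17,0,12,4,2,9,14,16,11,3,8,20,5,13,6,19,10,1,15,18,7,22,21,23]
def tCe12 : List ℕ := [15,1,14,7,6,10,8,21,5,20,4,9,12,0,3,17,11,19,18,13,22,2,16,23]
def tCe13 : List ℕ := [19,18,10,6,22,11,4,20,8,7,16,14,12,0,9,17,3,1,13,15,21,5,2,23]
def tCe14 : List ℕ := [13,15,12,5,14,21,9,8,2,11,4,22,20,17,7,1,6,19,18,0,10,16,3,23]
def tCe23 : List ℕ := [1,15,22,20,16,14,7,6,11,12,21,5,2,18,4,0,8,17,19,13,3,9,10,23]
def tCe24 : List ℕ := [15,17,6,20,2,9,11,4,5,14,12,21,10,0,16,13,22,18,1,19,3,7,8,23]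
def tCe34 : List ℕ := [15,1,12,22,4,3,7,2,6,5,9,20,8,13,21,18,11,0,19,17,14,16,10,23]
def tCe123 : List ℕ := [19,15,12,6,14,20,3,11,9,7,5,22,10,0,8,13,4,1,17,18,21,16,2,23]
def tCrr : List ℕ := [0,1,5,14,7,3,21,9,18,19,10,20,6,4,17,16,8,2,22,13,12,11,15,23]
def tCs : List ℕ := [17,22,0,16,4,12,1,11,3,15,6,9,20,19,18,2,21,14,13,7,8,10,5,23]
def tCsr : List ℕ := [22,1,15,7,12,9,17,20,11,8,10,19,5,0,6,16,3,13,2,4,18,14,21,23]
def tX : List ℕ := [16,9,7,3,4,1,20,21,19,5,10,6,14,8,18,15,17,0,12,13,11,2,22,23]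
def tY : List ℕ := [19,9,0,22,4,1,11,16,21,5,3,20,12,7,14,15,13,8,18,2,6,17,10,23]
def tT : List ℕ := [16,20,7,3,15,11,9,2,8,6,10,5,18,19,14,4,0,17,12,13,1,21,22,23]

theorem tE1_ok : okK tE1 = true ∧ tE1.getD 23 0 = 23 := by decide +kernel
theorem tE2_ok : okK tE2 = true ∧ tE2.getD 23 0 = 23 := by decide +kernel
theorem tE3_ok : okK tE3 = true ∧ tE3.getD 23 0 = 23 := by decide +kernel
theorem tE4_ok : okK tE4 = true ∧ tE4.getD 23 0 = 23 := by decide +kernel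
theorem tK_ok : okK tK = true ∧ tK.getD 23 0 = 23 := by decide +kernel
theorem tR_ok : okK tR = true ∧ tR.getD 23 0 = 23 := by decide +kernel
theorem tS_ok : okK tS = true ∧ tS.getD 23 0 = 23 := by decide +kernel
theorem tCe2_ok : okK tCe2 = true ∧ tCe2.getD 23 0 = 23 := by decide +kernel
theorem tCe3_ok : okK tCe3 = true ∧ tCe3.getD 23 0 = 23 := by decide +kernel
theorem tCe4_ok : okK tCe4 = true ∧ tCe4.getD 23 0 = 23 := by decide +kernel
theorem tCe12_ok : okK tCe12 = true ∧ tCe12.getD 23 0 = 23 := by decide +kernel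
theorem tCe13_ok : okK tCe13 = true ∧ tCe13.getD 23 0 = 23 := by decide +kernel
theorem tCe14_ok : okK tCe14 = true ∧ tCe14.getD 23 0 = 23 := by decide +kernel
theorem tCe23_ok : okK tCe23 = true ∧ tCe23.getD 23 0 = 23 := by decide +kernel
theorem tCe24_ok : okK tCe24 = true ∧ tCe24.getD 23 0 = 23 := by decide +kernel
theorem tCe34_ok : okK tCe34 = true ∧ tCe34.getD 23 0 = 23 := by decide +kernel
theorem tCe123_ok : okK tCe123 = true ∧ tCe123.getD 23 0 = 23 := by decide +kernel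
theorem tCrr_ok : okK tCrr = true ∧ tCrr.getD 23 0 = 23 := by decide +kernel
theorem tCs_ok : okK tCs = true ∧ tCs.getD 23 0 = 23 := by decide +kernel
theorem tCsr_ok : okK tCsr = true ∧ tCsr.getD 23 0 = 23 := by decide +kernel
theorem tX_ok : okK tX = true ∧ tX.getD 23 0 = 23 := by decide +kernel
theorem tY_ok : okK tY = true ∧ tY.getD 23 0 = 23 := by decide +kernel
theorem tT_ok : okK tT = true ∧ tT.getD 23 0 = 23 := by decide +kernel

end Cfsg.Agent.Lib.Helper5.M23M
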