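import Mathlib
import Cfsg.Agent.Lib.Helper5.M23MData

set_option autoImplicit false

namespace Cfsg.Agent.Lib.Helper5.M23M

open Cfsg Cfsg.Agent.Lib.helper4 Cfsg.Agent.Lib.Helper12.Golay

/-- element of the point stabiliser from a table -/
noncomputable def mk (L : List ℕ) (h : okK L = true ∧ L.getD 23 0 = 23) : ↥Cfsg.Spor.M23 :=
  ⟨fperm L, mem_SporM23 h.1 h.2⟩

/-- table of an element -/
def Tb (g : ↥Cfsg.Spor.M23) : List ℕ := tblOf g.1

theorem Tb_mk (L : List ℕ) (h : okK L = true ∧ L.getD 23 0 = 23) : Tb (mk L h) = L :=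
  tblOf_fperm (okK_valid h.1)

theorem Tb_mul (g h : ↥Cfsg.Spor.M23) : Tb (g * h) = compTbl (Tb g) (Tb h) := tblOf_mul _ _

theorem Tb_one : Tb 1 = List.range 24 := tblOf_one

theorem Tb_inj : Function.Injective Tb := fun _ _ h => Subtype.ext (tblOf_injective h)

noncomputable def e1 : ↥Cfsg.Spor.M23 := mk tE1 tE1_ok
noncomputable def e2 : ↥Cfsg.Spor.M23 := mk tE2 tE2_ok
noncomputable def e3 : ↥Cfsg.Spor.M23 := mk tE3 tE3_ok
noncomputable def e4 : ↥Cfsg.Spor.M23 := mk tE4 tE4_ok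
noncomputable def k : ↥Cfsg.Spor.M23 := mk tK tK_ok
noncomputable def r : ↥Cfsg.Spor.M23 := mk tR tR_ok
noncomputable def s : ↥Cfsg.Spor.M23 := mk tS tS_ok
noncomputable def ce2 : ↥Cfsg.Spor.M23 := mk tCe2 tCe2_ok
noncomputable def ce3 : ↥Cfsg.Spor.M23 := mk tCe3 tCe3_ok
noncomputable def ce4 : ↥Cfsg.Spor.M23 := mk tCe4 tCe4_ok
noncomputable def ce12 : ↥Cfsg.Spor.M23 := mk tCe12 tCe12_ok
noncomputable def ce13 : ↥Cfsg.Spor.M23 := mk tCe13 tCe13_ok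
noncomputable def ce14 : ↥Cfsg.Spor.M23 := mk tCe14 tCe14_ok
noncomputable def ce23 : ↥Cfsg.Spor.M23 := mk tCe23 tCe23_ok
noncomputable def ce24 : ↥Cfsg.Spor.M23 := mk tCe24 tCe24_ok
noncomputable def ce34 : ↥Cfsg.Spor.M23 := mk tCe34 tCe34_ok
noncomputable def ce123 : ↥Cfsg.Spor.M23 := mk tCe123 tCe123_ok
noncomputable def crr : ↥Cfsg.Spor.M23 := mk tCrr tCrr_ok
noncomputable def cs : ↥Cfsg.Spor.M23 := mk tCs tCs_ok
noncomputable def csr : ↥Cfsg.Spor.M23 := mk tCsr tCsr_ok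
noncomputable def x : ↥Cfsg.Spor.M23 := mk tX tX_ok
noncomputable def y : ↥Cfsg.Spor.M23 := mk tY tY_ok
noncomputable def t : ↥Cfsg.Spor.M23 := mk tT tT_ok

theorem Tb_e1 : Tb e1 = tE1 := Tb_mk _ _
theorem Tb_e2 : Tb e2 = tE2 := Tb_mk _ _
theorem Tb_e3 : Tb e3 = tE3 := Tb_mk _ _
theorem Tb_e4 : Tb e4 = tE4 := Tb_mk _ _
theorem Tb_k : Tb k = tK := Tb_mk _ _
theorem Tb_r : Tb r = tR := Tb_mk _ _
theorem Tb_s : Tb s = tS := Tb_mk _ _
theorem Tb_ce2 : Tb ce2 = tCe2 := Tb_mk _ _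
theorem Tb_ce3 : Tb ce3 = tCe3 := Tb_mk _ _
theorem Tb_ce4 : Tb ce4 = tCe4 := Tb_mk _ _
theorem Tb_ce12 : Tb ce12 = tCe12 := Tb_mk _ _
theorem Tb_ce13 : Tb ce13 = tCe13 := Tb_mk _ _
theorem Tb_ce14 : Tb ce14 = tCe14 := Tb_mk _ _
theorem Tb_ce23 : Tb ce23 = tCe23 := Tb_mk _ _
theorem Tb_ce24 : Tb ce24 = tCe24 := Tb_mk _ _
theorem Tb_ce34 : Tb ce34 = tCe34 := Tb_mk _ _
theorem Tb_ce123 : Tb ce123 = tCe123 := Tb_mk _ _
theorem Tb_crr : Tb crr = tCrr := Tb_mk _ _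
theorem Tb_cs : Tb cs = tCs := Tb_mk _ _
theorem Tb_csr : Tb csr = tCsr := Tb_mk _ _
theorem Tb_x : Tb x = tX := Tb_mk _ _
theorem Tb_y : Tb y = tY := Tb_mk _ _
theorem Tb_t : Tb t = tT := Tb_mk _ _

theorem e1_sq : e1 * e1 = 1 := by
  apply Tb_inj
  simp only [Tb_mul, Tb_one, Tb_e1]
  decide +kernel
theorem e2_sq : e2 * e2 = 1 := by
  apply Tb_inj
  simp only [Tb_mul, Tb_one, Tb_e2]
  decide +kernel
theorem e3_sq : e3 * e3 = 1 := by
  apply Tb_inj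
  simp only [Tb_mul, Tb_one, Tb_e3]
  decide +kernel
theorem e4_sq : e4 * e4 = 1 := by
  apply Tb_inj
  simp only [Tb_mul, Tb_one, Tb_e4]
  decide +kernel
theorem e12_comm : e1 * e2 = e2 * e1 := by
  apply Tb_inj
  simp only [Tb_mul, Tb_e1, Tb_e2]
  decide +kernel
theorem e13_comm : e1 * e3 = e3 * e1 := by
  apply Tb_inj
  simp only [Tb_mul, Tb_e1, Tb_e3]
  decide +kernel
theorem e14_comm : e1 * e4 = e4 * e1 := by
  apply Tb_inj
  simp only [Tb_mul, Tb_e1, Tb_e4]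
  decide +kernel
theorem e23_comm : e2 * e3 = e3 * e2 := by
  apply Tb_inj
  simp only [Tb_mul, Tb_e2, Tb_e3]
  decide +kernel
theorem e24_comm : e2 * e4 = e4 * e2 := by
  apply Tb_inj
  simp only [Tb_mul, Tb_e2, Tb_e4]
  decide +kernel
theorem e34_comm : e3 * e4 = e4 * e3 := by
  apply Tb_inj
  simp only [Tb_mul, Tb_e3, Tb_e4]
  decide +kernel
theorem k_cube : k * k * k = 1 := by
  apply Tb_inj
  simp only [Tb_mul, Tb_one, Tb_k]
  decide +kernel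
theorem k_e1 : k * e1 = e2 * e3 * e4 * k := by
  apply Tb_inj
  simp only [Tb_mul, Tb_e1, Tb_e2, Tb_e3, Tb_e4, Tb_k]
  decide +kernel
theorem k_e2 : k * e2 = e1 * e2 * e3 * k := by
  apply Tb_inj
  simp only [Tb_mul, Tb_e1, Tb_e2, Tb_e3, Tb_k]
  decide +kernel
theorem k_e3 : k * e3 = e3 * e4 * k := by
  apply Tb_inj
  simp only [Tb_mul, Tb_e3, Tb_e4, Tb_k]
  decide +kernel
theorem k_e4 : k * e4 = e3 * k := by
  apply Tb_inj
  simp only [Tb_mul, Tb_e3, Tb_e4, Tb_k]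
  decide +kernel
theorem k_nrm1 : e1 * (k * e1 * (k * k)) * (k * (k * e1 * (k * k)) * (k * k)) = 1 := by
  apply Tb_inj
  simp only [Tb_mul, Tb_one, Tb_e1, Tb_k]
  decide +kernel
theorem k_nrm2 : e2 * (k * e2 * (k * k)) * (k * (k * e2 * (k * k)) * (k * k)) = 1 := by
  apply Tb_inj
  simp only [Tb_mul, Tb_one, Tb_e2, Tb_k]
  decide +kernel
theorem k_nrm3 : e3 * (k * e3 * (k * k)) * (k * (k * e3 * (k * k)) * (k * k)) = 1 := by
  apply Tb_inj
  simp only [Tb_mul, Tb_one, Tb_e3, Tb_k]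
  decide +kernel
theorem k_nrm4 : e4 * (k * e4 * (k * k)) * (k * (k * e4 * (k * k)) * (k * k)) = 1 := by
  apply Tb_inj
  simp only [Tb_mul, Tb_one, Tb_e4, Tb_k]
  decide +kernel
theorem r_e1 : r * e1 = e1 * e2 * e3 * r := by
  apply Tb_inj
  simp only [Tb_mul, Tb_e1, Tb_e2, Tb_e3, Tb_r]
  decide +kernel
theorem r_e2 : r * e2 = e2 * e4 * r := by
  apply Tb_inj
  simp only [Tb_mul, Tb_e2, Tb_e4, Tb_r]
  decide +kernel
theorem r_e3 : r * e3 = e3 * r := by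
  apply Tb_inj
  simp only [Tb_mul, Tb_e3, Tb_r]
  decide +kernel
theorem r_e4 : r * e4 = e3 * e4 * r := by
  apply Tb_inj
  simp only [Tb_mul, Tb_e3, Tb_e4, Tb_r]
  decide +kernel
theorem s_e1 : s * e1 = e1 * e2 * s := by
  apply Tb_inj
  simp only [Tb_mul, Tb_e1, Tb_e2, Tb_s]
  decide +kernel
theorem s_e2 : s * e2 = e2 * s := by
  apply Tb_inj
  simp only [Tb_mul, Tb_e2, Tb_s]
  decide +kernel
theorem s_e3 : s * e3 = e3 * s := by
  apply Tb_inj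
  simp only [Tb_mul, Tb_e3, Tb_s]
  decide +kernel
theorem s_e4 : s * e4 = e3 * e4 * s := by
  apply Tb_inj
  simp only [Tb_mul, Tb_e3, Tb_e4, Tb_s]
  decide +kernel
theorem r_k : r * k = k * k * r := by
  apply Tb_inj
  simp only [Tb_mul, Tb_k, Tb_r]
  decide +kernel
theorem s_k : s * k = k * k * s := by
  apply Tb_inj
  simp only [Tb_mul, Tb_k, Tb_s]
  decide +kernel
theorem r_four : r * r * r * r = 1 := by
  apply Tb_inj
  simp only [Tb_mul, Tb_one, Tb_r]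
  decide +kernel
theorem s_sq : s * s = 1 := by
  apply Tb_inj
  simp only [Tb_mul, Tb_one, Tb_s]
  decide +kernel
theorem s_r : s * r = r * r * r * s := by
  apply Tb_inj
  simp only [Tb_mul, Tb_r, Tb_s]
  decide +kernel
theorem ce2_conj : ce2 * e1 = e2 * ce2 := by
  apply Tb_inj
  simp only [Tb_mul, Tb_ce2, Tb_e1, Tb_e2]
  decide +kernel
theorem ce3_conj : ce3 * e1 = e3 * ce3 := by
  apply Tb_inj
  simp only [Tb_mul, Tb_ce3, Tb_e1, Tb_e3]
  decide +kernel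
theorem ce4_conj : ce4 * e1 = e4 * ce4 := by
  apply Tb_inj
  simp only [Tb_mul, Tb_ce4, Tb_e1, Tb_e4]
  decide +kernel
theorem ce12_conj : ce12 * e1 = e1 * e2 * ce12 := by
  apply Tb_inj
  simp only [Tb_mul, Tb_ce12, Tb_e1, Tb_e2]
  decide +kernel
theorem ce13_conj : ce13 * e1 = e1 * e3 * ce13 := by
  apply Tb_inj
  simp only [Tb_mul, Tb_ce13, Tb_e1, Tb_e3]
  decide +kernel
theorem ce14_conj : ce14 * e1 = e1 * e4 * ce14 := by
  apply Tb_inj
  simp only [Tb_mul, Tb_ce14, Tb_e1, Tb_e4]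
  decide +kernel
theorem ce23_conj : ce23 * e1 = e2 * e3 * ce23 := by
  apply Tb_inj
  simp only [Tb_mul, Tb_ce23, Tb_e1, Tb_e2, Tb_e3]
  decide +kernel
theorem ce24_conj : ce24 * e1 = e2 * e4 * ce24 := by
  apply Tb_inj
  simp only [Tb_mul, Tb_ce24, Tb_e1, Tb_e2, Tb_e4]
  decide +kernel
theorem ce34_conj : ce34 * e1 = e3 * e4 * ce34 := by
  apply Tb_inj
  simp only [Tb_mul, Tb_ce34, Tb_e1, Tb_e3, Tb_e4]
  decide +kernel
theorem ce123_conj : ce123 * e1 = e1 * e2 * e3 * ce123 := by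
  apply Tb_inj
  simp only [Tb_mul, Tb_ce123, Tb_e1, Tb_e2, Tb_e3]
  decide +kernel
theorem crr_conj : crr * e1 = r * r * crr := by
  apply Tb_inj
  simp only [Tb_mul, Tb_crr, Tb_e1, Tb_r]
  decide +kernel
theorem cs_conj : cs * e1 = s * cs := by
  apply Tb_inj
  simp only [Tb_mul, Tb_cs, Tb_e1, Tb_s]
  decide +kernel
theorem csr_conj : csr * e1 = s * r * csr := by
  apply Tb_inj
  simp only [Tb_mul, Tb_csr, Tb_e1, Tb_r, Tb_s]
  decide +kernel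
theorem x_y : x * y = y * x := by
  apply Tb_inj
  simp only [Tb_mul, Tb_x, Tb_y]
  decide +kernel
theorem x_cube : x * x * x = 1 := by
  apply Tb_inj
  simp only [Tb_mul, Tb_one, Tb_x]
  decide +kernel
theorem y_cube : y * y * y = 1 := by
  apply Tb_inj
  simp only [Tb_mul, Tb_one, Tb_y]
  decide +kernel
theorem t_x : t * x = x * x * t := by
  apply Tb_inj
  simp only [Tb_mul, Tb_t, Tb_x]
  decide +kernel
theorem t_y : t * y = y * t := by
  apply Tb_inj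
  simp only [Tb_mul, Tb_t, Tb_y]
  decide +kernel
theorem x_ne : x ≠ 1 := by
  intro h
  have := congrArg Tb h
  rw [Tb_x, Tb_one] at this
  revert this
  decide +kernel
theorem y_ne : y ≠ 1 := by
  intro h
  have := congrArg Tb h
  rw [Tb_y, Tb_one] at this
  revert this
  decide +kernel

end Cfsg.Agent.Lib.Helper5.M23M
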