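import Mathlib
import Cfsg.Agent.Lib.Helper5.M23MB
import Cfsg.Agent.Lib.Helper5.StemF
import Cfsg.Agent.Lib.helper3.StemTools2

set_option autoImplicit false

namespace Cfsg.Agent.Lib.Helper5.M23M

open Cfsg Cfsg.Agent.Lib.helper4 Cfsg.Agent.Lib.Helper12.Golay Cfsg.Agent.Lib.Helper5.Stem
open Subgroup

instance m23_finite : Finite ↥Cfsg.Spor.M23 :=
  Nat.finite_of_card_ne_zero (by rw [card_SporM23]; norm_num)

/-- the generators of the elementary abelian group of order sixteen -/
def SE : Set ↥Cfsg.Spor.M23 := {e1, e2, e3, e4}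

theorem mem_SE {a : ↥Cfsg.Spor.M23} (ha : a ∈ SE) : a = e1 ∨ a = e2 ∨ a = e3 ∨ a = e4 := by
  simpa [SE] using ha

theorem e1_mem : e1 ∈ closure SE := subset_closure (by simp [SE])
theorem e2_mem : e2 ∈ closure SE := subset_closure (by simp [SE])
theorem e3_mem : e3 ∈ closure SE := subset_closure (by simp [SE])
theorem e4_mem : e4 ∈ closure SE := subset_closure (by simp [SE])

theorem SE_sq : ∀ a ∈ SE, a * a = 1 := by
  intro a ha
  rcases mem_SE ha with rfl | rfl | rfl | rfl
  · exact e1_sq
  · exact e2_sq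
  · exact e3_sq
  · exact e4_sq

theorem SE_comm : ∀ a ∈ SE, ∀ b ∈ SE, a * b = b * a := by
  intro a ha b hb
  rcases mem_SE ha with rfl | rfl | rfl | rfl <;> rcases mem_SE hb with rfl | rfl | rfl | rfl <;>
    (first
      | rfl
      | exact e12_comm
      | exact e13_comm
      | exact e14_comm
      | exact e23_comm
      | exact e24_comm
      | exact e34_comm
      | exact e12_comm.symm
      | exact e13_comm.symm
      | exact e14_comm.symm
      | exact e23_comm.symm
      | exact e24_comm.symm
      | exact e34_comm.symm)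

theorem k_inv : k⁻¹ = k * k := by
  rw [inv_eq_iff_mul_eq_one]
  rw [← k_cube]; group

theorem conj_of_mul {a b c : ↥Cfsg.Spor.M23} (h : a * b = c * a) : a * b * a⁻¹ = c := by
  rw [h]; group

theorem k_SE : ∀ a ∈ SE, k * a * k⁻¹ ∈ closure SE := by
  intro a ha
  rcases mem_SE ha with rfl | rfl | rfl | rfl
  · rw [conj_of_mul k_e1]
    all_goals repeat (first | exact e1_mem | exact e2_mem | exact e3_mem | exact e4_mem | apply mul_mem)
  · rw [conj_of_mul k_e2]
    all_goals repeat (first | exact e1_mem | exact e2_mem | exact e3_mem | exact e4_mem | apply mul_mem)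
  · rw [conj_of_mul k_e3]
    all_goals repeat (first | exact e1_mem | exact e2_mem | exact e3_mem | exact e4_mem | apply mul_mem)
  · rw [conj_of_mul k_e4]
    all_goals repeat (first | exact e1_mem | exact e2_mem | exact e3_mem | exact e4_mem | apply mul_mem)

theorem k_nrm : ∀ a ∈ SE, nrm3 k a = 1 := by
  intro a ha
  unfold nrm3
  rw [k_inv]
  rcases mem_SE ha with rfl | rfl | rfl | rfl
  · exact k_nrm1
  · exact k_nrm2
  · exact k_nrm3
  · exact k_nrm4

/-- the dihedral complement -/
def DD : Subgroup ↥Cfsg.Spor.M23 := closure {r, s}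

theorem r_SE : ∀ a ∈ SE, r * a * r⁻¹ ∈ closure SE := by
  intro a ha
  rcases mem_SE ha with rfl | rfl | rfl | rfl
  · rw [conj_of_mul r_e1]
    all_goals repeat (first | exact e1_mem | exact e2_mem | exact e3_mem | exact e4_mem | apply mul_mem)
  · rw [conj_of_mul r_e2]
    all_goals repeat (first | exact e1_mem | exact e2_mem | exact e3_mem | exact e4_mem | apply mul_mem)
  · rw [conj_of_mul r_e3]
    all_goals repeat (first | exact e1_mem | exact e2_mem | exact e3_mem | exact e4_mem | apply mul_mem)
  · rw [conj_of_mul r_e4]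
    all_goals repeat (first | exact e1_mem | exact e2_mem | exact e3_mem | exact e4_mem | apply mul_mem)

theorem s_SE : ∀ a ∈ SE, s * a * s⁻¹ ∈ closure SE := by
  intro a ha
  rcases mem_SE ha with rfl | rfl | rfl | rfl
  · rw [conj_of_mul s_e1]
    all_goals repeat (first | exact e1_mem | exact e2_mem | exact e3_mem | exact e4_mem | apply mul_mem)
  · rw [conj_of_mul s_e2]
    all_goals repeat (first | exact e1_mem | exact e2_mem | exact e3_mem | exact e4_mem | apply mul_mem)
  · rw [conj_of_mul s_e3]
    all_goals repeat (first | exact e1_mem | exact e2_mem | exact e3_mem | exact e4_mem | apply mul_mem)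
  · rw [conj_of_mul s_e4]
    all_goals repeat (first | exact e1_mem | exact e2_mem | exact e3_mem | exact e4_mem | apply mul_mem)

theorem DD_le_normalizer : DD ≤ normalizer ((closure SE : Subgroup ↥Cfsg.Spor.M23) : Set _) := by
  apply closure_le_normalizer_closure SE {r, s}
  intro d hd a ha
  rcases hd with rfl | rfl
  · exact r_SE a ha
  · exact s_SE a ha

theorem DD_SE : ∀ d ∈ DD, ∀ e ∈ closure SE, d * e * d⁻¹ ∈ closure SE :=
  conj_mem_of_le_normalizer DD_le_normalizer

theorem DD_k : ∀ d ∈ DD, d⁻¹ * k * d = k ∨ d⁻¹ * k * d = k * k := by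
  apply conj_k_closure k_cube
  intro d hd
  rcases hd with rfl | rfl
  · right; exact conj_of_mul r_k
  · right; exact conj_of_mul s_k

theorem card_SE_le : Nat.card (closure SE) ≤ 16 := by
  have h4 : Nat.card (closure ({e4} : Set ↥Cfsg.Spor.M23)) ≤ 2 :=
    card_closure_singleton_invol_le e4_sq
  have h3 : Nat.card (closure ({e3, e4} : Set ↥Cfsg.Spor.M23)) ≤ 2 * 2 := by
    refine (card_closure_insert_invol_le e3_sq ?_).trans (Nat.mul_le_mul_left _ h4)
    intro t ht
    rcases ht with rfl
    exact e34_comm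
  have h2 : Nat.card (closure ({e2, e3, e4} : Set ↥Cfsg.Spor.M23)) ≤ 2 * (2 * 2) := by
    refine (card_closure_insert_invol_le e2_sq ?_).trans (Nat.mul_le_mul_left _ h3)
    intro t ht
    rcases ht with rfl | rfl
    · exact e23_comm
    · exact e24_comm
  have h1 : Nat.card (closure ({e1, e2, e3, e4} : Set ↥Cfsg.Spor.M23)) ≤ 2 * (2 * (2 * 2)) := by
    refine (card_closure_insert_invol_le e1_sq ?_).trans (Nat.mul_le_mul_left _ h2)
    intro t ht
    rcases ht with rfl | rfl | rfl
    · exact e12_comm
    · exact e13_comm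
    · exact e14_comm
  exact h1

theorem card_DD_le : Nat.card DD ≤ 8 := by
  have hrel : s * r * s⁻¹ = r ^ 3 := by
    rw [conj_of_mul s_r, pow_succ, pow_two]
  have h4 : r ^ 4 = 1 := by
    rw [← r_four, pow_succ, pow_succ, pow_two]
  have h2 : s ^ 2 = 1 := by rw [pow_two, s_sq]
  exact Cfsg.Agent.Lib.helper3.card_closure_pair_le hrel h4 (by norm_num) h2 (by norm_num)

/-- the Sylow `2`-subgroup -/
def PP : Subgroup ↥Cfsg.Spor.M23 := closure SE ⊔ DD

theorem card_PP_le : Nat.card PP ≤ 128 := by
  calc Nat.card PP ≤ Nat.card (closure SE) * Nat.card DD :=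
        card_sup_le_of_le_normalizer DD_le_normalizer
    _ ≤ 16 * 8 := Nat.mul_le_mul card_SE_le card_DD_le

end Cfsg.Agent.Lib.Helper5.M23M
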