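import Mathlib
import Cfsg.Agent.Lib.Helper5.M23MC

set_option autoImplicit false

namespace Cfsg.Agent.Lib.Helper5.M23M

open Cfsg Cfsg.Agent.Lib.helper4 Cfsg.Agent.Lib.Helper12.Golay Cfsg.Agent.Lib.Helper5.Stem
open Subgroup

/-- tables of the generators of the Sylow subgroup -/
def gensT : List (List ℕ) := [tE1, tE2, tE3, tE4, tR, tS]

/-- table of a word in the generators -/
def evalT (w : List ℕ) : List ℕ :=
  w.foldr (fun i acc => compTbl (gensT.getD i (List.range 24)) acc) (List.range 24)

/-- the generators of the Sylow subgroup -/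
noncomputable def gensG : List ↥Cfsg.Spor.M23 := [e1, e2, e3, e4, r, s]

/-- value of a word in the generators -/
noncomputable def evalG (w : List ℕ) : ↥Cfsg.Spor.M23 :=
  w.foldr (fun i acc => gensG.getD i 1 * acc) 1

theorem Tb_gens (i : ℕ) : Tb (gensG.getD i 1) = gensT.getD i (List.range 24) := by
  rcases i with _ | _ | _ | _ | _ | _ | i
  · exact Tb_e1
  · exact Tb_e2
  · exact Tb_e3
  · exact Tb_e4
  · exact Tb_r
  · exact Tb_s
  · simp [gensG, gensT, Tb_one]

theorem Tb_evalG (w : List ℕ) : Tb (evalG w) = evalT w := by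
  induction w with
  | nil => exact Tb_one
  | cons i w ih =>
    show Tb (gensG.getD i 1 * evalG w) = compTbl (gensT.getD i (List.range 24)) (evalT w)
    rw [Tb_mul, ih, Tb_gens]

theorem gens_mem (i : ℕ) : gensG.getD i 1 ∈ PP := by
  have hE : closure SE ≤ PP := le_sup_left
  have hD : DD ≤ PP := le_sup_right
  rcases i with _ | _ | _ | _ | _ | _ | i
  · exact hE e1_mem
  · exact hE e2_mem
  · exact hE e3_mem
  · exact hE e4_mem
  · exact hD (subset_closure (show r ∈ ({r, s} : Set _) by simp))
  · exact hD (subset_closure (show s ∈ ({r, s} : Set _) by simp))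
  · simp [gensG]

theorem evalG_mem (w : List ℕ) : evalG w ∈ PP := by
  induction w with
  | nil => exact one_mem _
  | cons i w ih => exact mul_mem (gens_mem i) ih

/-- the 128 normal form words -/
def words : List (List ℕ) :=
  (List.range 128).map fun n =>
    List.replicate (n % 2) 0 ++ List.replicate (n / 2 % 2) 1 ++ List.replicate (n / 4 % 2) 2 ++
      List.replicate (n / 8 % 2) 3 ++ List.replicate (n / 16 % 4) 4 ++ List.replicate (n / 64 % 2) 5

theorem words_nodup : (words.map evalT).Nodup := by decide +kernel

theorem card_PP_ge : 128 ≤ Nat.card PP := by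
  classical
  have h1 : (words.map evalG).Nodup := by
    have : (words.map evalG).map Tb = words.map evalT := by
      rw [List.map_map]
      apply List.map_congr_left
      intro w _
      exact Tb_evalG w
    apply List.Nodup.of_map Tb
    rw [this]
    exact words_nodup
  set F : Finset ↥Cfsg.Spor.M23 := (words.map evalG).toFinset with hF
  have hcard : F.card = 128 := by
    rw [hF, List.toFinset_card_of_nodup h1, List.length_map]
    rfl
  have hsub : (F : Set ↥Cfsg.Spor.M23) ⊆ (PP : Set ↥Cfsg.Spor.M23) := by
    intro g hg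
    rw [hF, Finset.mem_coe, List.mem_toFinset, List.mem_map] at hg
    obtain ⟨w, _, rfl⟩ := hg
    exact evalG_mem w
  have h2 := Set.ncard_le_ncard hsub (Set.toFinite _)
  rw [Set.ncard_coe_finset, hcard] at h2
  exact h2

theorem card_PP : Nat.card PP = 128 := le_antisymm card_PP_le card_PP_ge

theorem PP_index : ¬ 2 ∣ PP.index := by
  have h1 := Subgroup.card_mul_index PP
  rw [card_PP, card_SporM23] at h1
  have : PP.index = 79695 := by omega
  rw [this]
  norm_num

end Cfsg.Agent.Lib.Helper5.M23M
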