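import Mathlib
import Cfsg.Agent.Lib.Helper5.M23MD
import Cfsg.Agent.Lib.Helper5.StemA
import Cfsg.Agent.Lib.Helper5.StemG
import Cfsg.Agent.Lib.helper3.StemTools2

set_option autoImplicit false

namespace Cfsg.Agent.Lib.Helper5.M23M

open Cfsg Cfsg.Agent.Lib.helper4 Cfsg.Agent.Lib.Helper12.Golay Cfsg.Agent.Lib.Helper5.Stem
open Cfsg.Agent.Lib.helper3
open Subgroup

/-- no stem extension of the point stabiliser has a kernel of order two -/
theorem no_stem_two {Γ : Type*} [Group Γ] [Finite Γ] (σ : Γ →* ↥Cfsg.Spor.M23)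
    (hσ : Cfsg.IsStemExtension σ) (hcard : Nat.card σ.ker = 2) : False := by
  obtain ⟨hsurj, hcen, hder⟩ := hσ
  obtain ⟨z, hK⟩ := ker2_of_card hcen hcard
  have hK' := hK
  obtain ⟨hz1, hz2, hσz, hw, hzc⟩ := hK
  -- all involutions lift to involutions
  have q1 : QInv σ e1 :=
    qinv_of_E8 hsurj hK' e1 e2 e3 e1_sq e12_comm e13_comm e23_comm
      ⟨ce2, conj_of_mul ce2_conj⟩ ⟨ce3, conj_of_mul ce3_conj⟩ ⟨ce12, conj_of_mul ce12_conj⟩
      ⟨ce13, conj_of_mul ce13_conj⟩ ⟨ce23, conj_of_mul ce23_conj⟩
      ⟨ce123, conj_of_mul ce123_conj⟩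
  have qc : ∀ {c v : ↥Cfsg.Spor.M23}, c * e1 = v * c → QInv σ v := by
    intro c v h
    have := qinv_conj hsurj q1 c
    rwa [conj_of_mul h] at this
  have q2 := qc ce2_conj
  have q3 := qc ce3_conj
  have q4 := qc ce4_conj
  have q12 := qc ce12_conj
  have q13 := qc ce13_conj
  have q14 := qc ce14_conj
  have q23 := qc ce23_conj
  have q24 := qc ce24_conj
  have q34 := qc ce34_conj
  have qrr := qc crr_conj
  have qs := qc cs_conj
  have qsr := qc csr_conj
  have qone : QInv σ 1 := qinv_one hK'
  have hSQ : ∀ a ∈ SE, QInv σ a := by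
    intro a ha
    rcases mem_SE ha with rfl | rfl | rfl | rfl
    · exact q1
    · exact q2
    · exact q3
    · exact q4
  have hSQ2 : ∀ a ∈ SE, ∀ b ∈ SE, QInv σ (a * b) := by
    intro a ha b hb
    rcases mem_SE ha with rfl | rfl | rfl | rfl <;> rcases mem_SE hb with rfl | rfl | rfl | rfl
    · rw [e1_sq]; exact qone
    · exact q12
    · exact q13
    · exact q14
    · rw [← e12_comm]; exact q12
    · rw [e2_sq]; exact qone
    · exact q23
    · exact q24
    · rw [← e13_comm]; exact q13
    · rw [← e23_comm]; exact q23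
    · rw [e3_sq]; exact qone
    · exact q34
    · rw [← e14_comm]; exact q14
    · rw [← e24_comm]; exact q24
    · rw [← e34_comm]; exact q34
    · rw [e4_sq]; exact qone
  obtain ⟨R, hR⟩ := hsurj r
  obtain ⟨S', hS'⟩ := hsurj s
  set D₁ : Subgroup Γ := closure ({R, S'} : Set Γ) with hD₁
  have hmap : D₁.map σ = DD := by
    rw [hD₁, map_closure_pair, hR, hS']
    rfl
  have hD₁σ : ∀ x ∈ D₁, σ x ∈ DD := by
    intro x hx
    rw [← hmap]
    exact Subgroup.mem_map_of_mem σ hx
  have hDle : DD ≤ D₁.map σ := by rw [hmap]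
  have hm : Nat.card D₁ ≤ 8 := card_lift_dihedral_le R S' hR hS' qs qrr qsr
  have hS := comm_comap_trivial_of_split hsurj hK' SE SE_sq SE_comm hSQ hSQ2 k k_cube k_SE k_nrm
    DD DD_SE DD_k D₁ hD₁σ hDle 16 8 card_SE_le hm PP (le_refl _) card_PP_ge
  haveI : Fact (Nat.Prime 2) := ⟨Nat.prime_two⟩
  have := stem_no_prime_of_subgroup σ hsurj hcen hder PP PP_index hS
    (MonoidHom.mem_ker.mpr hσz) (by rw [pow_two, hz2])
  exact hz1 this

/-- the Sylow `3`-subgroup -/
theorem card_S3 : Nat.card (closure ({x, y} : Set ↥Cfsg.Spor.M23)) = 9 := by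
  have hx3 : x ^ 3 = 1 := by rw [← x_cube, pow_succ, pow_two]
  have hy3 : y ^ 3 = 1 := by rw [← y_cube, pow_succ, pow_two]
  have hxinv : x⁻¹ = x * x := by
    rw [inv_eq_iff_mul_eq_one, ← x_cube]; group
  have htx : t * x * t⁻¹ = x⁻¹ := by rw [hxinv]; exact conj_of_mul t_x
  have hty : t * y * t⁻¹ = y := conj_of_mul t_y
  exact card_closure_pair_nine x_y hx3 hy3 x_ne y_ne htx hty

/-- every finite stem extension of the point stabiliser is trivial -/
theorem m23_stem_ker_trivial {Γ : Type} [Group Γ] [Finite Γ] (σ : Γ →* ↥Cfsg.Spor.M23)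
    (hσ : Cfsg.IsStemExtension σ) : ∀ z ∈ σ.ker, z = 1 := by
  have hσ' := hσ
  obtain ⟨hsurj, hcen, hder⟩ := hσ
  have hcard := card_SporM23
  apply stem_ker_trivial_of_primes σ
  intro p hp z hz hzp
  have hpP : p.Prime := hp.out
  by_cases hp2 : p = 2
  · subst hp2
    by_contra hz1
    obtain ⟨Γ', _, _, σ', hσ'', hc⟩ := exists_stem_prime_ker σ hσ' 2 z hz hzp hz1
    exact no_stem_two σ' hσ'' hc
  · by_cases hp3 : p = 3
    · subst hp3
      have hind : ¬ 3 ∣ (closure ({x, y} : Set ↥Cfsg.Spor.M23)).index := by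
        have h1 := Subgroup.card_mul_index (closure ({x, y} : Set ↥Cfsg.Spor.M23))
        rw [card_S3, hcard] at h1
        have : (closure ({x, y} : Set ↥Cfsg.Spor.M23)).index = 1133440 := by omega
        rw [this]
        norm_num
      have hx3 : x ^ 3 = 1 := by rw [← x_cube, pow_succ, pow_two]
      have hxinv : x⁻¹ = x * x := by
        rw [inv_eq_iff_mul_eq_one, ← x_cube]; group
      have htx : t * x * t⁻¹ = x⁻¹ := by rw [hxinv]; exact conj_of_mul t_x
      have hty : t * y * t⁻¹ = y := conj_of_mul t_y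
      refine stem_no_prime_of_subgroup σ hsurj hcen hder _ hind ?_ hz hzp
      intro w hw _
      exact comm_comap_trivial_of_inverted_pair σ hsurj hcen x y t x_y 3 (by decide) hx3 htx hty
        w hw
    · obtain ⟨Rr⟩ : Nonempty (Sylow p ↥Cfsg.Spor.M23) := inferInstance
      have hcyc : IsCyclic (Rr : Subgroup ↥Cfsg.Spor.M23) := by
        obtain ⟨j, hj⟩ := IsPGroup.iff_card.mp Rr.2
        have hdvd : p ^ j ∣ 10200960 := by
          rw [← hj, ← hcard]
          exact Subgroup.card_subgroup_dvd_card _
        have hj1 : j ≤ 1 := by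
          by_contra hlt
          push Not at hlt
          have h2 : p ^ 2 ∣ 10200960 := dvd_trans (pow_dvd_pow p hlt) hdvd
          have e : (10200960 : ℕ) = 2 ^ 7 * 3 ^ 2 * 5 * 7 * 11 * 23 := by norm_num
          rw [e] at h2
          have hpd : p ∣ 2 ^ 7 * 3 ^ 2 * 5 * 7 * 11 * 23 := dvd_trans (dvd_pow_self p (by norm_num)) h2
          have hcases : p = 2 ∨ p = 3 ∨ p = 5 ∨ p = 7 ∨ p = 11 ∨ p = 23 := by
            rcases (Nat.Prime.dvd_mul hpP).mp hpd with h | h
            · rcases (Nat.Prime.dvd_mul hpP).mp h with h | h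
              · rcases (Nat.Prime.dvd_mul hpP).mp h with h | h
                · rcases (Nat.Prime.dvd_mul hpP).mp h with h | h
                  · rcases (Nat.Prime.dvd_mul hpP).mp h with h | h
                    · left
                      exact (Nat.prime_dvd_prime_iff_eq hpP Nat.prime_two).mp (hpP.dvd_of_dvd_pow h)
                    · right; left
                      exact (Nat.prime_dvd_prime_iff_eq hpP Nat.prime_three).mp
                        (hpP.dvd_of_dvd_pow h)
                  · right; right; left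
                    exact (Nat.prime_dvd_prime_iff_eq hpP (by norm_num)).mp h
                · right; right; right; left
                  exact (Nat.prime_dvd_prime_iff_eq hpP (by norm_num)).mp h
              · right; right; right; right; left
                exact (Nat.prime_dvd_prime_iff_eq hpP (by norm_num)).mp h
            · right; right; right; right; right
              exact (Nat.prime_dvd_prime_iff_eq hpP (by norm_num)).mp h
          rcases hcases with rfl | rfl | rfl | rfl | rfl | rfl
          · exact hp2 rfl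
          · exact hp3 rfl
          · revert h2; norm_num
          · revert h2; norm_num
          · revert h2; norm_num
          · revert h2; norm_num
        interval_cases j
        · rw [pow_zero] at hj
          haveI : Subsingleton (Rr : Subgroup ↥Cfsg.Spor.M23) :=
            (Nat.card_eq_one_iff_unique.mp hj).1
          exact isCyclic_of_subsingleton
        · rw [pow_one] at hj
          exact isCyclic_of_prime_card hj
      haveI := hcyc
      have hind : ¬ p ∣ (Rr : Subgroup ↥Cfsg.Spor.M23).index := Sylow.not_dvd_index Rr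
      refine stem_no_prime_of_subgroup σ hsurj hcen hder (Rr : Subgroup ↥Cfsg.Spor.M23) hind ?_
        hz hzp
      intro w hw _
      exact comm_comap_trivial_of_cyclic σ hcen (Rr : Subgroup ↥Cfsg.Spor.M23) w hw

end Cfsg.Agent.Lib.Helper5.M23M
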