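import Mathlib
import Cfsg.Agent.Lib.helper4.ElemEnum

set_option autoImplicit false

/-! explicit tables of elements of the group of the length-24 code used for the multiplier computation -/

namespace Cfsg.Agent.Lib.Helper5.M24M

open Cfsg.Agent.Lib.helper4 Cfsg.Agent.Lib.Helper12.Golay

def tE1 : List ℕ := [19,15,2,3,10,5,22,9,8,7,4,12,11,23,14,1,16,18,17,0,20,21,6,13]
def tE2 : List ℕ := [18,13,2,3,11,5,7,6,8,22,12,4,10,1,14,23,16,19,0,17,20,21,9,15]
def tE3 : List ℕ := [13,18,2,3,7,5,11,4,8,10,9,6,22,0,14,17,16,15,1,23,20,21,12,19]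
def tE4 : List ℕ := [0,1,3,2,6,14,4,11,16,12,22,7,9,13,5,15,8,17,18,19,21,20,10,23]
def tE5 : List ℕ := [0,1,21,20,11,16,7,6,14,22,12,4,10,13,8,15,5,17,18,19,3,2,9,23]
def tE6 : List ℕ := [0,1,5,14,9,2,12,10,20,4,7,22,6,13,3,15,21,17,18,19,8,16,11,23]
def tK : List ℕ := [4,6,19,15,8,13,16,5,0,20,2,14,21,7,18,22,1,12,11,10,23,17,3,9]
def tR : List ℕ := [1,19,14,20,6,3,10,22,16,12,11,4,7,15,8,23,2,13,0,18,21,5,9,17]
def tS : List ℕ := [13,17,20,14,7,8,12,4,5,10,9,22,6,0,3,18,21,1,15,23,2,16,11,19]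
def tC : List ℕ := [0,1,10,22,8,7,16,5,4,20,2,14,21,13,11,15,6,17,18,19,9,12,3,23]
def tBp : List ℕ := [17,15,2,20,4,16,7,6,8,22,10,11,12,23,14,1,5,0,19,18,3,21,9,13]
def tCp : List ℕ := [0,15,8,3,12,5,7,6,2,22,11,10,4,23,21,1,16,17,18,19,20,14,9,13]
def tX : List ℕ := [0,6,14,3,4,1,5,23,17,20,22,11,7,10,18,9,16,19,2,8,15,21,13,12]
def tY : List ℕ := [15,19,18,9,21,23,1,5,12,22,11,20,17,0,2,13,4,8,14,6,10,16,3,7]
def tT : List ℕ := [0,6,2,3,16,5,1,23,17,22,20,11,12,15,18,13,4,8,14,19,10,21,9,7]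
def tW : List ℕ := [3,8,2,11,4,19,17,1,7,20,13,0,5,22,14,9,16,23,18,12,15,21,10,6]
def tQe2 : List ℕ := [23,4,5,21,17,2,6,22,3,9,19,18,0,10,20,11,14,1,13,15,8,16,7,12]
def tQe3 : List ℕ := [12,18,20,21,23,2,7,0,8,13,19,10,9,6,16,1,14,17,15,22,5,3,4,11]
def tQe4 : List ℕ := [3,7,13,23,14,1,10,8,0,16,5,12,9,20,17,11,15,4,6,2,18,19,22,21]
def tQe5 : List ℕ := [22,7,19,17,16,1,20,12,0,10,5,4,11,14,15,6,18,21,2,9,23,13,3,8]
def tQe6 : List ℕ := [6,11,23,13,9,15,10,16,19,21,4,14,3,20,18,22,0,5,2,12,1,17,7,8]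
def tQe12 : List ℕ := [18,22,20,2,10,16,13,4,5,12,11,23,1,17,8,7,21,9,6,19,3,14,15,0]
def tQe13 : List ℕ := [10,13,20,16,23,8,4,18,14,15,0,22,11,6,2,19,5,1,17,7,3,21,9,12]
def tQe14 : List ℕ := [11,21,15,18,4,13,2,16,1,8,6,22,10,5,0,20,23,12,9,7,17,19,3,14]
def tQe15 : List ℕ := [1,10,7,17,3,19,21,8,22,14,16,20,5,4,6,11,0,13,15,23,18,9,2,12]
def tQe16 : List ℕ := [17,19,20,9,12,7,21,3,8,14,6,22,11,13,5,0,4,1,18,15,10,2,16,23]
def tQe23 : List ℕ := [7,1,16,5,19,8,12,18,20,13,15,4,6,22,3,0,2,17,23,11,21,14,9,10]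
def tQe24 : List ℕ := [22,17,13,4,16,6,20,3,1,2,14,8,5,15,18,19,11,10,12,9,7,0,21,23]
def tQe25 : List ℕ := [16,8,9,22,13,11,18,3,10,20,1,2,21,23,6,14,12,19,17,5,7,4,0,15]
def tQe26 : List ℕ := [16,4,19,15,20,0,12,6,17,10,14,8,3,9,13,22,18,5,21,2,23,1,7,11]
def tQe34 : List ℕ := [11,5,19,0,10,1,3,20,23,21,22,12,9,16,17,14,18,6,4,7,13,15,2,8]
def tQe35 : List ℕ := [16,4,13,12,17,22,21,20,0,3,23,15,19,7,18,6,10,8,5,14,9,1,2,11]
def tQe36 : List ℕ := [20,15,19,21,22,14,7,4,23,10,11,6,12,18,0,17,3,5,8,2,16,13,9,1]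
def tQe45 : List ℕ := [8,11,1,17,14,23,4,2,19,20,16,12,22,21,15,6,0,9,10,5,18,13,7,3]
def tQe46 : List ℕ := [4,16,13,23,6,0,8,11,17,10,9,5,3,7,1,20,19,2,14,12,15,18,21,22]
def tQe56 : List ℕ := [4,10,17,23,11,15,12,21,18,5,9,14,20,2,0,6,13,3,8,22,19,1,7,16]
def tQe123 : List ℕ := [1,0,20,21,10,8,22,12,14,7,6,9,11,13,16,15,5,23,18,19,3,2,4,17]
def tQbp : List ℕ := [1,5,2,4,7,21,19,22,14,9,6,0,17,13,12,16,10,20,3,15,8,11,18,23]
def tQcp : List ℕ := [1,4,5,17,14,16,7,8,3,2,21,22,9,13,18,12,19,11,10,15,20,0,6,23]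
def tQe1bp : List ℕ := [0,10,2,8,3,23,6,17,15,19,20,12,11,5,14,4,13,7,22,18,21,1,9,16]
def tQe1cp : List ℕ := [0,17,20,16,12,1,11,7,5,22,10,6,9,14,23,18,3,8,2,19,15,13,4,21]
def tQbpcp : List ℕ := [5,12,1,9,10,23,20,17,7,0,11,8,2,21,15,4,13,18,19,16,22,6,3,14]
def tQs : List ℕ := [18,0,21,4,20,10,6,11,16,22,8,2,5,19,14,13,9,1,15,17,7,3,12,23]
def tQrr : List ℕ := [8,23,4,21,18,14,11,12,10,22,15,1,17,0,7,13,16,20,2,5,3,9,6,19]
def tQsr : List ℕ := [13,0,12,22,14,11,16,8,4,21,2,5,3,1,6,17,7,19,18,15,10,9,20,23]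
def tQc : List ℕ := [4,22,19,13,16,1,2,7,15,5,6,12,21,14,17,3,23,9,20,8,18,0,10,11]
def tQcs : List ℕ := [0,22,12,23,4,15,9,8,16,7,10,5,20,6,3,14,18,1,13,17,19,11,2,21]
def tQcsr : List ℕ := [21,22,1,18,20,0,10,14,23,7,12,6,8,5,19,2,17,16,4,9,13,15,3,11]

theorem tE1_ok : okK tE1 = true := by decide +kernel
theorem tE2_ok : okK tE2 = true := by decide +kernel
theorem tE3_ok : okK tE3 = true := by decide +kernel
theorem tE4_ok : okK tE4 = true := by decide +kernel
theorem tE5_ok : okK tE5 = true := by decide +kernel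
theorem tE6_ok : okK tE6 = true := by decide +kernel
theorem tK_ok : okK tK = true := by decide +kernel
theorem tR_ok : okK tR = true := by decide +kernel
theorem tS_ok : okK tS = true := by decide +kernel
theorem tC_ok : okK tC = true := by decide +kernel
theorem tBp_ok : okK tBp = true := by decide +kernel
theorem tCp_ok : okK tCp = true := by decide +kernel
theorem tX_ok : okK tX = true := by decide +kernel
theorem tY_ok : okK tY = true := by decide +kernel
theorem tT_ok : okK tT = true := by decide +kernel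
theorem tW_ok : okK tW = true := by decide +kernel
theorem tQe2_ok : okK tQe2 = true := by decide +kernel
theorem tQe3_ok : okK tQe3 = true := by decide +kernel
theorem tQe4_ok : okK tQe4 = true := by decide +kernel
theorem tQe5_ok : okK tQe5 = true := by decide +kernel
theorem tQe6_ok : okK tQe6 = true := by decide +kernel
theorem tQe12_ok : okK tQe12 = true := by decide +kernel
theorem tQe13_ok : okK tQe13 = true := by decide +kernel
theorem tQe14_ok : okK tQe14 = true := by decide +kernel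
theorem tQe15_ok : okK tQe15 = true := by decide +kernel
theorem tQe16_ok : okK tQe16 = true := by decide +kernel
theorem tQe23_ok : okK tQe23 = true := by decide +kernel
theorem tQe24_ok : okK tQe24 = true := by decide +kernel
theorem tQe25_ok : okK tQe25 = true := by decide +kernel
theorem tQe26_ok : okK tQe26 = true := by decide +kernel
theorem tQe34_ok : okK tQe34 = true := by decide +kernel
theorem tQe35_ok : okK tQe35 = true := by decide +kernel
theorem tQe36_ok : okK tQe36 = true := by decide +kernel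
theorem tQe45_ok : okK tQe45 = true := by decide +kernel
theorem tQe46_ok : okK tQe46 = true := by decide +kernel
theorem tQe56_ok : okK tQe56 = true := by decide +kernel
theorem tQe123_ok : okK tQe123 = true := by decide +kernel
theorem tQbp_ok : okK tQbp = true := by decide +kernel
theorem tQcp_ok : okK tQcp = true := by decide +kernel
theorem tQe1bp_ok : okK tQe1bp = true := by decide +kernel
theorem tQe1cp_ok : okK tQe1cp = true := by decide +kernel
theorem tQbpcp_ok : okK tQbpcp = true := by decide +kernel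
theorem tQs_ok : okK tQs = true := by decide +kernel
theorem tQrr_ok : okK tQrr = true := by decide +kernel
theorem tQsr_ok : okK tQsr = true := by decide +kernel
theorem tQc_ok : okK tQc = true := by decide +kernel
theorem tQcs_ok : okK tQcs = true := by decide +kernel
theorem tQcsr_ok : okK tQcsr = true := by decide +kernel

end Cfsg.Agent.Lib.Helper5.M24M
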