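import Mathlib
import Cfsg.Agent.Lib.Helper5.M24MData

set_option autoImplicit false

namespace Cfsg.Agent.Lib.Helper5.M24M

open Cfsg Cfsg.Agent.Lib.helper4 Cfsg.Agent.Lib.Helper12.Golay

/-- element of the group from a table -/
noncomputable def mk (L : List ℕ) (h : okK L = true) : ↥Cfsg.M24 := ⟨fperm L, fperm_mem h⟩

/-- table of an element -/
def Tb (g : ↥Cfsg.M24) : List ℕ := tblOf g.1

theorem Tb_mk (L : List ℕ) (h : okK L = true) : Tb (mk L h) = L := tblOf_fperm (okK_valid h)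

theorem Tb_mul (g h : ↥Cfsg.M24) : Tb (g * h) = compTbl (Tb g) (Tb h) := tblOf_mul _ _

theorem Tb_one : Tb 1 = List.range 24 := tblOf_one

theorem Tb_inj : Function.Injective Tb := fun _ _ h => Subtype.ext (tblOf_injective h)

noncomputable def e1 : ↥Cfsg.M24 := mk tE1 tE1_ok
noncomputable def e2 : ↥Cfsg.M24 := mk tE2 tE2_ok
noncomputable def e3 : ↥Cfsg.M24 := mk tE3 tE3_ok
noncomputable def e4 : ↥Cfsg.M24 := mk tE4 tE4_ok
noncomputable def e5 : ↥Cfsg.M24 := mk tE5 tE5_ok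
noncomputable def e6 : ↥Cfsg.M24 := mk tE6 tE6_ok
noncomputable def k : ↥Cfsg.M24 := mk tK tK_ok
noncomputable def r : ↥Cfsg.M24 := mk tR tR_ok
noncomputable def s : ↥Cfsg.M24 := mk tS tS_ok
noncomputable def c : ↥Cfsg.M24 := mk tC tC_ok
noncomputable def bp : ↥Cfsg.M24 := mk tBp tBp_ok
noncomputable def cp : ↥Cfsg.M24 := mk tCp tCp_ok
noncomputable def x : ↥Cfsg.M24 := mk tX tX_ok
noncomputable def y : ↥Cfsg.M24 := mk tY tY_ok
noncomputable def t : ↥Cfsg.M24 := mk tT tT_ok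
noncomputable def w : ↥Cfsg.M24 := mk tW tW_ok
noncomputable def qe2 : ↥Cfsg.M24 := mk tQe2 tQe2_ok
noncomputable def qe3 : ↥Cfsg.M24 := mk tQe3 tQe3_ok
noncomputable def qe4 : ↥Cfsg.M24 := mk tQe4 tQe4_ok
noncomputable def qe5 : ↥Cfsg.M24 := mk tQe5 tQe5_ok
noncomputable def qe6 : ↥Cfsg.M24 := mk tQe6 tQe6_ok
noncomputable def qe12 : ↥Cfsg.M24 := mk tQe12 tQe12_ok
noncomputable def qe13 : ↥Cfsg.M24 := mk tQe13 tQe13_ok
noncomputable def qe14 : ↥Cfsg.M24 := mk tQe14 tQe14_ok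
noncomputable def qe15 : ↥Cfsg.M24 := mk tQe15 tQe15_ok
noncomputable def qe16 : ↥Cfsg.M24 := mk tQe16 tQe16_ok
noncomputable def qe23 : ↥Cfsg.M24 := mk tQe23 tQe23_ok
noncomputable def qe24 : ↥Cfsg.M24 := mk tQe24 tQe24_ok
noncomputable def qe25 : ↥Cfsg.M24 := mk tQe25 tQe25_ok
noncomputable def qe26 : ↥Cfsg.M24 := mk tQe26 tQe26_ok
noncomputable def qe34 : ↥Cfsg.M24 := mk tQe34 tQe34_ok
noncomputable def qe35 : ↥Cfsg.M24 := mk tQe35 tQe35_ok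
noncomputable def qe36 : ↥Cfsg.M24 := mk tQe36 tQe36_ok
noncomputable def qe45 : ↥Cfsg.M24 := mk tQe45 tQe45_ok
noncomputable def qe46 : ↥Cfsg.M24 := mk tQe46 tQe46_ok
noncomputable def qe56 : ↥Cfsg.M24 := mk tQe56 tQe56_ok
noncomputable def qe123 : ↥Cfsg.M24 := mk tQe123 tQe123_ok
noncomputable def qbp : ↥Cfsg.M24 := mk tQbp tQbp_ok
noncomputable def qcp : ↥Cfsg.M24 := mk tQcp tQcp_ok
noncomputable def qe1bp : ↥Cfsg.M24 := mk tQe1bp tQe1bp_ok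
noncomputable def qe1cp : ↥Cfsg.M24 := mk tQe1cp tQe1cp_ok
noncomputable def qbpcp : ↥Cfsg.M24 := mk tQbpcp tQbpcp_ok
noncomputable def qs : ↥Cfsg.M24 := mk tQs tQs_ok
noncomputable def qrr : ↥Cfsg.M24 := mk tQrr tQrr_ok
noncomputable def qsr : ↥Cfsg.M24 := mk tQsr tQsr_ok
noncomputable def qc : ↥Cfsg.M24 := mk tQc tQc_ok
noncomputable def qcs : ↥Cfsg.M24 := mk tQcs tQcs_ok
noncomputable def qcsr : ↥Cfsg.M24 := mk tQcsr tQcsr_ok

theorem Tb_e1 : Tb e1 = tE1 := Tb_mk _ _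
theorem Tb_e2 : Tb e2 = tE2 := Tb_mk _ _
theorem Tb_e3 : Tb e3 = tE3 := Tb_mk _ _
theorem Tb_e4 : Tb e4 = tE4 := Tb_mk _ _
theorem Tb_e5 : Tb e5 = tE5 := Tb_mk _ _
theorem Tb_e6 : Tb e6 = tE6 := Tb_mk _ _
theorem Tb_k : Tb k = tK := Tb_mk _ _
theorem Tb_r : Tb r = tR := Tb_mk _ _
theorem Tb_s : Tb s = tS := Tb_mk _ _
theorem Tb_c : Tb c = tC := Tb_mk _ _
theorem Tb_bp : Tb bp = tBp := Tb_mk _ _
theorem Tb_cp : Tb cp = tCp := Tb_mk _ _
theorem Tb_x : Tb x = tX := Tb_mk _ _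
theorem Tb_y : Tb y = tY := Tb_mk _ _
theorem Tb_t : Tb t = tT := Tb_mk _ _
theorem Tb_w : Tb w = tW := Tb_mk _ _
theorem Tb_qe2 : Tb qe2 = tQe2 := Tb_mk _ _
theorem Tb_qe3 : Tb qe3 = tQe3 := Tb_mk _ _
theorem Tb_qe4 : Tb qe4 = tQe4 := Tb_mk _ _
theorem Tb_qe5 : Tb qe5 = tQe5 := Tb_mk _ _
theorem Tb_qe6 : Tb qe6 = tQe6 := Tb_mk _ _
theorem Tb_qe12 : Tb qe12 = tQe12 := Tb_mk _ _
theorem Tb_qe13 : Tb qe13 = tQe13 := Tb_mk _ _
theorem Tb_qe14 : Tb qe14 = tQe14 := Tb_mk _ _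
theorem Tb_qe15 : Tb qe15 = tQe15 := Tb_mk _ _
theorem Tb_qe16 : Tb qe16 = tQe16 := Tb_mk _ _
theorem Tb_qe23 : Tb qe23 = tQe23 := Tb_mk _ _
theorem Tb_qe24 : Tb qe24 = tQe24 := Tb_mk _ _
theorem Tb_qe25 : Tb qe25 = tQe25 := Tb_mk _ _
theorem Tb_qe26 : Tb qe26 = tQe26 := Tb_mk _ _
theorem Tb_qe34 : Tb qe34 = tQe34 := Tb_mk _ _
theorem Tb_qe35 : Tb qe35 = tQe35 := Tb_mk _ _
theorem Tb_qe36 : Tb qe36 = tQe36 := Tb_mk _ _
theorem Tb_qe45 : Tb qe45 = tQe45 := Tb_mk _ _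
theorem Tb_qe46 : Tb qe46 = tQe46 := Tb_mk _ _
theorem Tb_qe56 : Tb qe56 = tQe56 := Tb_mk _ _
theorem Tb_qe123 : Tb qe123 = tQe123 := Tb_mk _ _
theorem Tb_qbp : Tb qbp = tQbp := Tb_mk _ _
theorem Tb_qcp : Tb qcp = tQcp := Tb_mk _ _
theorem Tb_qe1bp : Tb qe1bp = tQe1bp := Tb_mk _ _
theorem Tb_qe1cp : Tb qe1cp = tQe1cp := Tb_mk _ _
theorem Tb_qbpcp : Tb qbpcp = tQbpcp := Tb_mk _ _
theorem Tb_qs : Tb qs = tQs := Tb_mk _ _
theorem Tb_qrr : Tb qrr = tQrr := Tb_mk _ _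
theorem Tb_qsr : Tb qsr = tQsr := Tb_mk _ _
theorem Tb_qc : Tb qc = tQc := Tb_mk _ _
theorem Tb_qcs : Tb qcs = tQcs := Tb_mk _ _
theorem Tb_qcsr : Tb qcsr = tQcsr := Tb_mk _ _

theorem e1_sq : e1 * e1 = 1 := by
  apply Tb_inj
  simp only [Tb_mul, Tb_one, Tb_e1]
  decide +kernel
theorem e2_sq : e2 * e2 = 1 := by
  apply Tb_inj
  simp only [Tb_mul, Tb_one, Tb_e2]
  decide +kernel
theorem e3_sq : e3 * e3 = 1 := by
  apply Tb_inj
  simp only [Tb_mul, Tb_one, Tb_e3]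
  decide +kernel
theorem e4_sq : e4 * e4 = 1 := by
  apply Tb_inj
  simp only [Tb_mul, Tb_one, Tb_e4]
  decide +kernel
theorem e5_sq : e5 * e5 = 1 := by
  apply Tb_inj
  simp only [Tb_mul, Tb_one, Tb_e5]
  decide +kernel
theorem e6_sq : e6 * e6 = 1 := by
  apply Tb_inj
  simp only [Tb_mul, Tb_one, Tb_e6]
  decide +kernel
theorem e12_comm : e1 * e2 = e2 * e1 := by
  apply Tb_inj
  simp only [Tb_mul, Tb_e1, Tb_e2]
  decide +kernel
theorem e13_comm : e1 * e3 = e3 * e1 := by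
  apply Tb_inj
  simp only [Tb_mul, Tb_e1, Tb_e3]
  decide +kernel
theorem e14_comm : e1 * e4 = e4 * e1 := by
  apply Tb_inj
  simp only [Tb_mul, Tb_e1, Tb_e4]
  decide +kernel
theorem e15_comm : e1 * e5 = e5 * e1 := by
  apply Tb_inj
  simp only [Tb_mul, Tb_e1, Tb_e5]
  decide +kernel
theorem e16_comm : e1 * e6 = e6 * e1 := by
  apply Tb_inj
  simp only [Tb_mul, Tb_e1, Tb_e6]
  decide +kernel
theorem e23_comm : e2 * e3 = e3 * e2 := by
  apply Tb_inj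
  simp only [Tb_mul, Tb_e2, Tb_e3]
  decide +kernel
theorem e24_comm : e2 * e4 = e4 * e2 := by
  apply Tb_inj
  simp only [Tb_mul, Tb_e2, Tb_e4]
  decide +kernel
theorem e25_comm : e2 * e5 = e5 * e2 := by
  apply Tb_inj
  simp only [Tb_mul, Tb_e2, Tb_e5]
  decide +kernel
theorem e26_comm : e2 * e6 = e6 * e2 := by
  apply Tb_inj
  simp only [Tb_mul, Tb_e2, Tb_e6]
  decide +kernel
theorem e34_comm : e3 * e4 = e4 * e3 := by
  apply Tb_inj
  simp only [Tb_mul, Tb_e3, Tb_e4]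
  decide +kernel
theorem e35_comm : e3 * e5 = e5 * e3 := by
  apply Tb_inj
  simp only [Tb_mul, Tb_e3, Tb_e5]
  decide +kernel
theorem e36_comm : e3 * e6 = e6 * e3 := by
  apply Tb_inj
  simp only [Tb_mul, Tb_e3, Tb_e6]
  decide +kernel
theorem e45_comm : e4 * e5 = e5 * e4 := by
  apply Tb_inj
  simp only [Tb_mul, Tb_e4, Tb_e5]
  decide +kernel
theorem e46_comm : e4 * e6 = e6 * e4 := by
  apply Tb_inj
  simp only [Tb_mul, Tb_e4, Tb_e6]
  decide +kernel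
theorem e56_comm : e5 * e6 = e6 * e5 := by
  apply Tb_inj
  simp only [Tb_mul, Tb_e5, Tb_e6]
  decide +kernel
theorem k_cube : k * k * k = 1 := by
  apply Tb_inj
  simp only [Tb_mul, Tb_one, Tb_k]
  decide +kernel
theorem k_e1 : k * e1 = e4 * e5 * e6 * k := by
  apply Tb_inj
  simp only [Tb_mul, Tb_e1, Tb_e4, Tb_e5, Tb_e6, Tb_k]
  decide +kernel
theorem k_e2 : k * e2 = e5 * k := by
  apply Tb_inj
  simp only [Tb_mul, Tb_e2, Tb_e5, Tb_k]
  decide +kernel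
theorem k_e3 : k * e3 = e4 * e5 * k := by
  apply Tb_inj
  simp only [Tb_mul, Tb_e3, Tb_e4, Tb_e5, Tb_k]
  decide +kernel
theorem k_e4 : k * e4 = e2 * e3 * e4 * k := by
  apply Tb_inj
  simp only [Tb_mul, Tb_e2, Tb_e3, Tb_e4, Tb_k]
  decide +kernel
theorem k_e5 : k * e5 = e2 * e5 * k := by
  apply Tb_inj
  simp only [Tb_mul, Tb_e2, Tb_e5, Tb_k]
  decide +kernel
theorem k_e6 : k * e6 = e1 * e3 * e6 * k := by
  apply Tb_inj
  simp only [Tb_mul, Tb_e1, Tb_e3, Tb_e6, Tb_k]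
  decide +kernel
theorem k_nrm1 : e1 * (k * e1 * (k * k)) * (k * (k * e1 * (k * k)) * (k * k)) = 1 := by
  apply Tb_inj
  simp only [Tb_mul, Tb_one, Tb_e1, Tb_k]
  decide +kernel
theorem k_nrm2 : e2 * (k * e2 * (k * k)) * (k * (k * e2 * (k * k)) * (k * k)) = 1 := by
  apply Tb_inj
  simp only [Tb_mul, Tb_one, Tb_e2, Tb_k]
  decide +kernel
theorem k_nrm3 : e3 * (k * e3 * (k * k)) * (k * (k * e3 * (k * k)) * (k * k)) = 1 := by
  apply Tb_inj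
  simp only [Tb_mul, Tb_one, Tb_e3, Tb_k]
  decide +kernel
theorem k_nrm4 : e4 * (k * e4 * (k * k)) * (k * (k * e4 * (k * k)) * (k * k)) = 1 := by
  apply Tb_inj
  simp only [Tb_mul, Tb_one, Tb_e4, Tb_k]
  decide +kernel
theorem k_nrm5 : e5 * (k * e5 * (k * k)) * (k * (k * e5 * (k * k)) * (k * k)) = 1 := by
  apply Tb_inj
  simp only [Tb_mul, Tb_one, Tb_e5, Tb_k]
  decide +kernel
theorem k_nrm6 : e6 * (k * e6 * (k * k)) * (k * (k * e6 * (k * k)) * (k * k)) = 1 := by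
  apply Tb_inj
  simp only [Tb_mul, Tb_one, Tb_e6, Tb_k]
  decide +kernel
theorem r_e1 : r * e1 = e3 * r := by
  apply Tb_inj
  simp only [Tb_mul, Tb_e1, Tb_e3, Tb_r]
  decide +kernel
theorem r_e2 : r * e2 = e2 * e3 * r := by
  apply Tb_inj
  simp only [Tb_mul, Tb_e2, Tb_e3, Tb_r]
  decide +kernel
theorem r_e3 : r * e3 = e1 * r := by
  apply Tb_inj
  simp only [Tb_mul, Tb_e1, Tb_e3, Tb_r]
  decide +kernel
theorem r_e4 : r * e4 = e5 * e6 * r := by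
  apply Tb_inj
  simp only [Tb_mul, Tb_e4, Tb_e5, Tb_e6, Tb_r]
  decide +kernel
theorem r_e5 : r * e5 = e4 * r := by
  apply Tb_inj
  simp only [Tb_mul, Tb_e4, Tb_e5, Tb_r]
  decide +kernel
theorem r_e6 : r * e6 = e6 * r := by
  apply Tb_inj
  simp only [Tb_mul, Tb_e6, Tb_r]
  decide +kernel
theorem s_e1 : s * e1 = e1 * s := by
  apply Tb_inj
  simp only [Tb_mul, Tb_e1, Tb_s]
  decide +kernel
theorem s_e2 : s * e2 = e1 * e2 * s := by
  apply Tb_inj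
  simp only [Tb_mul, Tb_e1, Tb_e2, Tb_s]
  decide +kernel
theorem s_e3 : s * e3 = e3 * s := by
  apply Tb_inj
  simp only [Tb_mul, Tb_e3, Tb_s]
  decide +kernel
theorem s_e4 : s * e4 = e5 * e6 * s := by
  apply Tb_inj
  simp only [Tb_mul, Tb_e4, Tb_e5, Tb_e6, Tb_s]
  decide +kernel
theorem s_e5 : s * e5 = e4 * e6 * s := by
  apply Tb_inj
  simp only [Tb_mul, Tb_e4, Tb_e5, Tb_e6, Tb_s]
  decide +kernel
theorem s_e6 : s * e6 = e6 * s := by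
  apply Tb_inj
  simp only [Tb_mul, Tb_e6, Tb_s]
  decide +kernel
theorem c_e1 : c * e1 = e1 * e4 * e5 * e6 * c := by
  apply Tb_inj
  simp only [Tb_mul, Tb_c, Tb_e1, Tb_e4, Tb_e5, Tb_e6]
  decide +kernel
theorem c_e2 : c * e2 = e2 * e5 * c := by
  apply Tb_inj
  simp only [Tb_mul, Tb_c, Tb_e2, Tb_e5]
  decide +kernel
theorem c_e3 : c * e3 = e3 * e4 * e5 * c := by
  apply Tb_inj
  simp only [Tb_mul, Tb_c, Tb_e3, Tb_e4, Tb_e5]
  decide +kernel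
theorem c_e4 : c * e4 = e4 * c := by
  apply Tb_inj
  simp only [Tb_mul, Tb_c, Tb_e4]
  decide +kernel
theorem c_e5 : c * e5 = e5 * c := by
  apply Tb_inj
  simp only [Tb_mul, Tb_c, Tb_e5]
  decide +kernel
theorem c_e6 : c * e6 = e6 * c := by
  apply Tb_inj
  simp only [Tb_mul, Tb_c, Tb_e6]
  decide +kernel
theorem r_k : r * k = k * r := by
  apply Tb_inj
  simp only [Tb_mul, Tb_k, Tb_r]
  decide +kernel
theorem s_k : s * k = k * s := by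
  apply Tb_inj
  simp only [Tb_mul, Tb_k, Tb_s]
  decide +kernel
theorem c_k : c * k = k * k * c := by
  apply Tb_inj
  simp only [Tb_mul, Tb_c, Tb_k]
  decide +kernel
theorem r_four : r * r * r * r = 1 := by
  apply Tb_inj
  simp only [Tb_mul, Tb_one, Tb_r]
  decide +kernel
theorem s_sq : s * s = 1 := by
  apply Tb_inj
  simp only [Tb_mul, Tb_one, Tb_s]
  decide +kernel
theorem s_r : s * r = r * r * r * s := by
  apply Tb_inj
  simp only [Tb_mul, Tb_r, Tb_s]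
  decide +kernel
theorem c_sq : c * c = 1 := by
  apply Tb_inj
  simp only [Tb_mul, Tb_one, Tb_c]
  decide +kernel
theorem c_r : c * r = r * c := by
  apply Tb_inj
  simp only [Tb_mul, Tb_c, Tb_r]
  decide +kernel
theorem c_s : c * s = s * c := by
  apply Tb_inj
  simp only [Tb_mul, Tb_c, Tb_s]
  decide +kernel
theorem qe2_conj : qe2 * e1 = e2 * qe2 := by
  apply Tb_inj
  simp only [Tb_mul, Tb_e1, Tb_e2, Tb_qe2]
  decide +kernel
theorem qe3_conj : qe3 * e1 = e3 * qe3 := by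
  apply Tb_inj
  simp only [Tb_mul, Tb_e1, Tb_e3, Tb_qe3]
  decide +kernel
theorem qe4_conj : qe4 * e1 = e4 * qe4 := by
  apply Tb_inj
  simp only [Tb_mul, Tb_e1, Tb_e4, Tb_qe4]
  decide +kernel
theorem qe5_conj : qe5 * e1 = e5 * qe5 := by
  apply Tb_inj
  simp only [Tb_mul, Tb_e1, Tb_e5, Tb_qe5]
  decide +kernel
theorem qe6_conj : qe6 * e1 = e6 * qe6 := by
  apply Tb_inj
  simp only [Tb_mul, Tb_e1, Tb_e6, Tb_qe6]
  decide +kernel
theorem qe12_conj : qe12 * e1 = (e1 * e2) * qe12 := by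
  apply Tb_inj
  simp only [Tb_mul, Tb_e1, Tb_e2, Tb_qe12]
  decide +kernel
theorem qe13_conj : qe13 * e1 = (e1 * e3) * qe13 := by
  apply Tb_inj
  simp only [Tb_mul, Tb_e1, Tb_e3, Tb_qe13]
  decide +kernel
theorem qe14_conj : qe14 * (e1 * bp * cp) = (e1 * e4) * qe14 := by
  apply Tb_inj
  simp only [Tb_mul, Tb_bp, Tb_cp, Tb_e1, Tb_e4, Tb_qe14]
  decide +kernel
theorem qe15_conj : qe15 * (e1 * bp * cp) = (e1 * e5) * qe15 := by
  apply Tb_inj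
  simp only [Tb_mul, Tb_bp, Tb_cp, Tb_e1, Tb_e5, Tb_qe15]
  decide +kernel
theorem qe16_conj : qe16 * (e1 * bp * cp) = (e1 * e6) * qe16 := by
  apply Tb_inj
  simp only [Tb_mul, Tb_bp, Tb_cp, Tb_e1, Tb_e6, Tb_qe16]
  decide +kernel
theorem qe23_conj : qe23 * e1 = (e2 * e3) * qe23 := by
  apply Tb_inj
  simp only [Tb_mul, Tb_e1, Tb_e2, Tb_e3, Tb_qe23]
  decide +kernel
theorem qe24_conj : qe24 * (e1 * bp * cp) = (e2 * e4) * qe24 := by
  apply Tb_inj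
  simp only [Tb_mul, Tb_bp, Tb_cp, Tb_e1, Tb_e2, Tb_e4, Tb_qe24]
  decide +kernel
theorem qe25_conj : qe25 * e1 = (e2 * e5) * qe25 := by
  apply Tb_inj
  simp only [Tb_mul, Tb_e1, Tb_e2, Tb_e5, Tb_qe25]
  decide +kernel
theorem qe26_conj : qe26 * (e1 * bp * cp) = (e2 * e6) * qe26 := by
  apply Tb_inj
  simp only [Tb_mul, Tb_bp, Tb_cp, Tb_e1, Tb_e2, Tb_e6, Tb_qe26]
  decide +kernel
theorem qe34_conj : qe34 * (e1 * bp * cp) = (e3 * e4) * qe34 := by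
  apply Tb_inj
  simp only [Tb_mul, Tb_bp, Tb_cp, Tb_e1, Tb_e3, Tb_e4, Tb_qe34]
  decide +kernel
theorem qe35_conj : qe35 * (e1 * bp * cp) = (e3 * e5) * qe35 := by
  apply Tb_inj
  simp only [Tb_mul, Tb_bp, Tb_cp, Tb_e1, Tb_e3, Tb_e5, Tb_qe35]
  decide +kernel
theorem qe36_conj : qe36 * (e1 * bp * cp) = (e3 * e6) * qe36 := by
  apply Tb_inj
  simp only [Tb_mul, Tb_bp, Tb_cp, Tb_e1, Tb_e3, Tb_e6, Tb_qe36]
  decide +kernel
theorem qe45_conj : qe45 * e1 = (e4 * e5) * qe45 := by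
  apply Tb_inj
  simp only [Tb_mul, Tb_e1, Tb_e4, Tb_e5, Tb_qe45]
  decide +kernel
theorem qe46_conj : qe46 * e1 = (e4 * e6) * qe46 := by
  apply Tb_inj
  simp only [Tb_mul, Tb_e1, Tb_e4, Tb_e6, Tb_qe46]
  decide +kernel
theorem qe56_conj : qe56 * e1 = (e5 * e6) * qe56 := by
  apply Tb_inj
  simp only [Tb_mul, Tb_e1, Tb_e5, Tb_e6, Tb_qe56]
  decide +kernel
theorem qe123_conj : qe123 * e1 = (e1 * e2 * e3) * qe123 := by
  apply Tb_inj
  simp only [Tb_mul, Tb_e1, Tb_e2, Tb_e3, Tb_qe123]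
  decide +kernel
theorem qbp_conj : qbp * e1 = bp * qbp := by
  apply Tb_inj
  simp only [Tb_mul, Tb_bp, Tb_e1, Tb_qbp]
  decide +kernel
theorem qcp_conj : qcp * e1 = cp * qcp := by
  apply Tb_inj
  simp only [Tb_mul, Tb_cp, Tb_e1, Tb_qcp]
  decide +kernel
theorem qe1bp_conj : qe1bp * e1 = (e1 * bp) * qe1bp := by
  apply Tb_inj
  simp only [Tb_mul, Tb_bp, Tb_e1, Tb_qe1bp]
  decide +kernel
theorem qe1cp_conj : qe1cp * e1 = (e1 * cp) * qe1cp := by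
  apply Tb_inj
  simp only [Tb_mul, Tb_cp, Tb_e1, Tb_qe1cp]
  decide +kernel
theorem qbpcp_conj : qbpcp * e1 = (bp * cp) * qbpcp := by
  apply Tb_inj
  simp only [Tb_mul, Tb_bp, Tb_cp, Tb_e1, Tb_qbpcp]
  decide +kernel
theorem qs_conj : qs * (e1 * bp * cp) = s * qs := by
  apply Tb_inj
  simp only [Tb_mul, Tb_bp, Tb_cp, Tb_e1, Tb_qs, Tb_s]
  decide +kernel
theorem qrr_conj : qrr * (e1 * bp * cp) = (r * r) * qrr := by
  apply Tb_inj
  simp only [Tb_mul, Tb_bp, Tb_cp, Tb_e1, Tb_qrr, Tb_r]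
  decide +kernel
theorem qsr_conj : qsr * (e1 * bp * cp) = (s * r) * qsr := by
  apply Tb_inj
  simp only [Tb_mul, Tb_bp, Tb_cp, Tb_e1, Tb_qsr, Tb_r, Tb_s]
  decide +kernel
theorem qc_conj : qc * e1 = c * qc := by
  apply Tb_inj
  simp only [Tb_mul, Tb_c, Tb_e1, Tb_qc]
  decide +kernel
theorem qcs_conj : qcs * (e1 * bp * cp) = (c * s) * qcs := by
  apply Tb_inj
  simp only [Tb_mul, Tb_bp, Tb_c, Tb_cp, Tb_e1, Tb_qcs, Tb_s]
  decide +kernel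
theorem qcsr_conj : qcsr * (e1 * bp * cp) = (c * (s * r)) * qcsr := by
  apply Tb_inj
  simp only [Tb_mul, Tb_bp, Tb_c, Tb_cp, Tb_e1, Tb_qcsr, Tb_r, Tb_s]
  decide +kernel
theorem bp_sq : bp * bp = 1 := by
  apply Tb_inj
  simp only [Tb_mul, Tb_one, Tb_bp]
  decide +kernel
theorem x_cube : x * x * x = 1 := by
  apply Tb_inj
  simp only [Tb_mul, Tb_one, Tb_x]
  decide +kernel
theorem y_cube : y * y * y = 1 := by
  apply Tb_inj
  simp only [Tb_mul, Tb_one, Tb_y]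
  decide +kernel
theorem w_cube : w * w * w = 1 := by
  apply Tb_inj
  simp only [Tb_mul, Tb_one, Tb_w]
  decide +kernel
theorem w_def : w = x * y * (x * x) * (y * y) := by
  apply Tb_inj
  simp only [Tb_mul, Tb_w, Tb_x, Tb_y]
  decide +kernel
theorem w_x : w * x = x * w := by
  apply Tb_inj
  simp only [Tb_mul, Tb_w, Tb_x]
  decide +kernel
theorem w_y : w * y = y * w := by
  apply Tb_inj
  simp only [Tb_mul, Tb_w, Tb_y]
  decide +kernel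
theorem t_x : t * x = x * x * t := by
  apply Tb_inj
  simp only [Tb_mul, Tb_t, Tb_x]
  decide +kernel
theorem t_y : t * y = y * y * t := by
  apply Tb_inj
  simp only [Tb_mul, Tb_t, Tb_y]
  decide +kernel
theorem t_w : t * w = w * t := by
  apply Tb_inj
  simp only [Tb_mul, Tb_t, Tb_w]
  decide +kernel
theorem y_x : y * x = w * w * x * y := by
  apply Tb_inj
  simp only [Tb_mul, Tb_w, Tb_x, Tb_y]
  decide +kernel
theorem w_ne : w ≠ 1 := by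
  intro h
  have := congrArg Tb h
  rw [Tb_w, Tb_one] at this
  revert this
  decide +kernel

end Cfsg.Agent.Lib.Helper5.M24M
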