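import Mathlib
import Cfsg.Agent.Lib.Helper5.M24MC
import Cfsg.Agent.Lib.Helper5.StemG

set_option autoImplicit false

namespace Cfsg.Agent.Lib.Helper5.M24M

open Cfsg Cfsg.Agent.Lib.helper4 Cfsg.Agent.Lib.Helper12.Golay Cfsg.Agent.Lib.Helper5.Stem
open Subgroup

/-- tables of the generators of the Sylow subgroup -/
def gensT : List (List ℕ) := [tE1, tE2, tE3, tE4, tE5, tE6, tR, tS, tC]

/-- table of a word in the generators -/
def evalT (w : List ℕ) : List ℕ :=
  w.foldr (fun i acc => compTbl (gensT.getD i (List.range 24)) acc) (List.range 24)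

/-- the generators of the Sylow subgroup -/
noncomputable def gensG : List ↥Cfsg.M24 := [e1, e2, e3, e4, e5, e6, r, s, c]

/-- value of a word in the generators -/
noncomputable def evalG (w : List ℕ) : ↥Cfsg.M24 :=
  w.foldr (fun i acc => gensG.getD i 1 * acc) 1

theorem Tb_gens (i : ℕ) : Tb (gensG.getD i 1) = gensT.getD i (List.range 24) := by
  rcases i with _ | _ | _ | _ | _ | _ | _ | _ | _ | i
  · exact Tb_e1
  · exact Tb_e2
  · exact Tb_e3
  · exact Tb_e4
  · exact Tb_e5
  · exact Tb_e6
  · exact Tb_r
  · exact Tb_s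
  · exact Tb_c
  · simp [gensG, gensT, Tb_one]

theorem Tb_evalG (w : List ℕ) : Tb (evalG w) = evalT w := by
  induction w with
  | nil => exact Tb_one
  | cons i w ih =>
    show Tb (gensG.getD i 1 * evalG w) = compTbl (gensT.getD i (List.range 24)) (evalT w)
    rw [Tb_mul, ih, Tb_gens]

theorem gens_mem (i : ℕ) : gensG.getD i 1 ∈ PP := by
  have hE : closure SE ≤ PP := le_sup_left
  have hD : DD ≤ PP := le_sup_right
  rcases i with _ | _ | _ | _ | _ | _ | _ | _ | _ | i
  · exact hE e1_mem
  · exact hE e2_mem
  · exact hE e3_mem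
  · exact hE e4_mem
  · exact hE e5_mem
  · exact hE e6_mem
  · exact hD (subset_closure (show r ∈ ({c, r, s} : Set _) by simp))
  · exact hD (subset_closure (show s ∈ ({c, r, s} : Set _) by simp))
  · exact hD (subset_closure (show c ∈ ({c, r, s} : Set _) by simp))
  · simp [gensG]

theorem evalG_mem (w : List ℕ) : evalG w ∈ PP := by
  induction w with
  | nil => exact one_mem _
  | cons i w ih => exact mul_mem (gens_mem i) ih

/-- the 1024 normal form words -/
def words : List (List ℕ) :=
  (List.range 1024).map fun n =>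
    List.replicate (n % 2) 0 ++ List.replicate (n / 2 % 2) 1 ++ List.replicate (n / 4 % 2) 2 ++
      List.replicate (n / 8 % 2) 3 ++ List.replicate (n / 16 % 2) 4 ++
      List.replicate (n / 32 % 2) 5 ++ List.replicate (n / 64 % 4) 6 ++
      List.replicate (n / 256 % 2) 7 ++ List.replicate (n / 512 % 2) 8

set_option maxRecDepth 100000 in
theorem words_nodup : (words.map evalT).Nodup := by decide +kernel

theorem card_PP_ge : 1024 ≤ Nat.card PP := by
  classical
  have h1 : (words.map evalG).Nodup := by
    have : (words.map evalG).map Tb = words.map evalT := by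
      rw [List.map_map]
      apply List.map_congr_left
      intro w _
      exact Tb_evalG w
    apply List.Nodup.of_map Tb
    rw [this]
    exact words_nodup
  set F : Finset ↥Cfsg.M24 := (words.map evalG).toFinset with hF
  have hcard : F.card = 1024 := by
    rw [hF, List.toFinset_card_of_nodup h1, List.length_map]
    simp [words]
  have hsub : (F : Set ↥Cfsg.M24) ⊆ (PP : Set ↥Cfsg.M24) := by
    intro g hg
    rw [hF, Finset.mem_coe, List.mem_toFinset, List.mem_map] at hg
    obtain ⟨w, _, rfl⟩ := hg
    exact evalG_mem w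
  have h2 := Set.ncard_le_ncard hsub (Set.toFinite _)
  rw [Set.ncard_coe_finset, hcard] at h2
  exact h2

theorem card_PP : Nat.card PP = 1024 := le_antisymm card_PP_le card_PP_ge

theorem PP_index : ¬ 2 ∣ PP.index := by
  have h1 := Subgroup.card_mul_index PP
  rw [card_PP, card_M24'] at h1
  have : PP.index = 239085 := by omega
  rw [this]
  norm_num

end Cfsg.Agent.Lib.Helper5.M24M
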