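import Mathlib
import Cfsg.Agent.Lib.Helper5.M24MC
import Cfsg.Agent.Lib.Helper5.StemG

set_option autoImplicit false

namespace Cfsg.Agent.Lib.Helper5.M24M

open Cfsg Cfsg.Agent.Lib.helper4 Cfsg.Agent.Lib.Helper12.Golay Cfsg.Agent.Lib.Helper5.Stem
open Subgroup

/-! ### the Sylow `3`-subgroup -/

def gensT3 : List (List ℕ) := [tX, tY]

def evalT3 (w : List ℕ) : List ℕ :=
  w.foldr (fun i acc => compTbl (gensT3.getD i (List.range 24)) acc) (List.range 24)

noncomputable def gensG3 : List ↥Cfsg.M24 := [x, y]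

noncomputable def evalG3 (w : List ℕ) : ↥Cfsg.M24 :=
  w.foldr (fun i acc => gensG3.getD i 1 * acc) 1

theorem Tb_gens3 (i : ℕ) : Tb (gensG3.getD i 1) = gensT3.getD i (List.range 24) := by
  rcases i with _ | _ | i
  · exact Tb_x
  · exact Tb_y
  · simp [gensG3, gensT3, Tb_one]

theorem Tb_evalG3 (w : List ℕ) : Tb (evalG3 w) = evalT3 w := by
  induction w with
  | nil => exact Tb_one
  | cons i w ih =>
    show Tb (gensG3.getD i 1 * evalG3 w) = compTbl (gensT3.getD i (List.range 24)) (evalT3 w)
    rw [Tb_mul, ih, Tb_gens3]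

/-- the Sylow `3`-subgroup -/
def S3 : Subgroup ↥Cfsg.M24 := closure {x, y}

theorem gens3_mem (i : ℕ) : gensG3.getD i 1 ∈ S3 := by
  rcases i with _ | _ | i
  · exact subset_closure (show x ∈ ({x, y} : Set _) by simp)
  · exact subset_closure (show y ∈ ({x, y} : Set _) by simp)
  · simp [gensG3]

theorem evalG3_mem (w : List ℕ) : evalG3 w ∈ S3 := by
  induction w with
  | nil => exact one_mem _
  | cons i w ih => exact mul_mem (gens3_mem i) ih

/-- the 27 normal form words `x^i y^j [x,y]^l` -/
def words3 : List (List ℕ) :=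
  (List.range 27).map fun n =>
    List.replicate (n % 3) 0 ++ List.replicate (n / 3 % 3) 1 ++
      (List.replicate (n / 9 % 3) [0, 1, 0, 0, 1, 1]).flatten

theorem words3_nodup : (words3.map evalT3).Nodup := by decide +kernel

theorem card_S3_ge : 27 ≤ Nat.card S3 := by
  classical
  have h1 : (words3.map evalG3).Nodup := by
    have : (words3.map evalG3).map Tb = words3.map evalT3 := by
      rw [List.map_map]
      apply List.map_congr_left
      intro w _
      exact Tb_evalG3 w
    apply List.Nodup.of_map Tb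
    rw [this]
    exact words3_nodup
  set F : Finset ↥Cfsg.M24 := (words3.map evalG3).toFinset with hF
  have hcard : F.card = 27 := by
    rw [hF, List.toFinset_card_of_nodup h1, List.length_map]
    simp [words3]
  have hsub : (F : Set ↥Cfsg.M24) ⊆ (S3 : Set ↥Cfsg.M24) := by
    intro g hg
    rw [hF, Finset.mem_coe, List.mem_toFinset, List.mem_map] at hg
    obtain ⟨w, _, rfl⟩ := hg
    exact evalG3_mem w
  have h2 := Set.ncard_le_ncard hsub (Set.toFinite _)
  rw [Set.ncard_coe_finset, hcard] at h2
  exact h2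

theorem card_S3_le : Nat.card S3 ≤ 27 := by
  -- N = ⟨x, w⟩ has order at most nine and is normalised by y
  have hrel : w * x * w⁻¹ = x ^ 1 := by
    rw [pow_one, conj_of_mul w_x]
  have hx3 : x ^ 3 = 1 := by rw [← x_cube, pow_succ, pow_two]
  have hw3 : w ^ 3 = 1 := by rw [← w_cube, pow_succ, pow_two]
  have hy3 : y ^ 3 = 1 := by rw [← y_cube, pow_succ, pow_two]
  have hN := Cfsg.Agent.Lib.helper3.card_closure_pair_le hrel hx3 (by norm_num) hw3 (by norm_num)
  have hxN : x ∈ closure ({x, w} : Set ↥Cfsg.M24) := subset_closure (by simp)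
  have hwN : w ∈ closure ({x, w} : Set ↥Cfsg.M24) := subset_closure (by simp)
  have hyn : zpowers y ≤ normalizer ((closure ({x, w} : Set ↥Cfsg.M24) : Subgroup _) : Set _) := by
    rw [zpowers_le]
    apply Subgroup.mem_normalizer_fintype
    apply conj_mem_closure_of_gens
    intro a ha
    rcases ha with rfl | rfl
    · have h : y * x = (w * w * x) * y := by rw [y_x]
      rw [conj_of_mul h]
      exact mul_mem (mul_mem hwN hwN) hxN
    · have h : y * w = w * y := w_y.symm
      rw [conj_of_mul h]
      exact hwN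
  have hle : S3 ≤ closure ({x, w} : Set ↥Cfsg.M24) ⊔ zpowers y := by
    unfold S3
    rw [closure_le]
    intro g hg
    rcases hg with rfl | rfl
    · exact le_sup_left (a := closure ({x, w} : Set ↥Cfsg.M24)) hxN
    · exact le_sup_right (a := closure ({x, w} : Set ↥Cfsg.M24)) (mem_zpowers y)
  have hz : Nat.card (zpowers y) ≤ 3 := by
    rw [Nat.card_zpowers]
    apply Nat.le_of_dvd (by norm_num)
    exact orderOf_dvd_of_pow_eq_one hy3
  calc Nat.card S3 ≤ Nat.card (closure ({x, w} : Set ↥Cfsg.M24) ⊔ zpowers y : Subgroup _) :=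
        Subgroup.card_le_of_le hle
    _ ≤ Nat.card (closure ({x, w} : Set ↥Cfsg.M24)) * Nat.card (zpowers y) :=
        card_sup_le_of_le_normalizer hyn
    _ ≤ (3 * 3) * 3 := Nat.mul_le_mul hN hz

theorem card_S3 : Nat.card S3 = 27 := le_antisymm card_S3_le card_S3_ge

theorem S3_index : ¬ 3 ∣ S3.index := by
  have h1 := Subgroup.card_mul_index S3
  rw [card_S3, card_M24'] at h1
  have : S3.index = 9067520 := by omega
  rw [this]
  norm_num

end Cfsg.Agent.Lib.Helper5.M24M
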