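import Mathlib
import Cfsg.Agent.Lib.Helper5.M24MD
import Cfsg.Agent.Lib.Helper5.M24MF
import Cfsg.Agent.Lib.Helper5.StemA
import Cfsg.Agent.Lib.Helper5.StemI
import Cfsg.Agent.Lib.helper3.StemTools2

set_option autoImplicit false

namespace Cfsg.Agent.Lib.Helper5.M24M

open Cfsg Cfsg.Agent.Lib.helper4 Cfsg.Agent.Lib.Helper12.Golay Cfsg.Agent.Lib.Helper5.Stem
open Cfsg.Agent.Lib.helper3
open Subgroup
open scoped commutatorElement

/-- no stem extension of the group of the length-24 code has a kernel of order two -/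
theorem no_stem_two {Γ : Type*} [Group Γ] [Finite Γ] (σ : Γ →* ↥Cfsg.M24)
    (hσ : Cfsg.IsStemExtension σ) (hcard : Nat.card σ.ker = 2) : False := by
  obtain ⟨hsurj, hcen, hder⟩ := hσ
  obtain ⟨z, hK⟩ := ker2_of_card hcen hcard
  have hK' := hK
  obtain ⟨hz1, hz2, hσz, hw, hzc⟩ := hK
  have q1 : QInv σ e1 :=
    qinv_of_E8 hsurj hK' e1 e2 e3 e1_sq e12_comm e13_comm e23_comm
      ⟨qe2, conj_of_mul qe2_conj⟩ ⟨qe3, conj_of_mul qe3_conj⟩ ⟨qe12, conj_of_mul qe12_conj⟩
      ⟨qe13, conj_of_mul qe13_conj⟩ ⟨qe23, conj_of_mul qe23_conj⟩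
      ⟨qe123, conj_of_mul qe123_conj⟩
  have qcA : ∀ {h v : ↥Cfsg.M24}, h * e1 = v * h → QInv σ v := by
    intro h v hh
    have := qinv_conj hsurj q1 h
    rwa [conj_of_mul hh] at this
  have Qe2 : QInv σ (e2) := qcA qe2_conj
  have Qe3 : QInv σ (e3) := qcA qe3_conj
  have Qe4 : QInv σ (e4) := qcA qe4_conj
  have Qe5 : QInv σ (e5) := qcA qe5_conj
  have Qe6 : QInv σ (e6) := qcA qe6_conj
  have Qe12 : QInv σ (e1 * e2) := qcA qe12_conj
  have Qe13 : QInv σ (e1 * e3) := qcA qe13_conj
  have Qe23 : QInv σ (e2 * e3) := qcA qe23_conj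
  have Qe25 : QInv σ (e2 * e5) := qcA qe25_conj
  have Qe45 : QInv σ (e4 * e5) := qcA qe45_conj
  have Qe46 : QInv σ (e4 * e6) := qcA qe46_conj
  have Qe56 : QInv σ (e5 * e6) := qcA qe56_conj
  have Qe123 : QInv σ (e1 * e2 * e3) := qcA qe123_conj
  have Qbp : QInv σ (bp) := qcA qbp_conj
  have Qcp : QInv σ (cp) := qcA qcp_conj
  have Qe1bp : QInv σ (e1 * bp) := qcA qe1bp_conj
  have Qe1cp : QInv σ (e1 * cp) := qcA qe1cp_conj
  have Qbpcp : QInv σ (bp * cp) := qcA qbpcp_conj
  have Qc : QInv σ (c) := qcA qc_conj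
  have qb0 : QInv σ (e1 * bp * cp) := qinv_of_triple hsurj hK' q1 Qbp Qcp Qe1bp Qe1cp Qbpcp
  have qcB : ∀ {h v : ↥Cfsg.M24}, h * (e1 * bp * cp) = v * h → QInv σ v := by
    intro h v hh
    have := qinv_conj hsurj qb0 h
    rwa [conj_of_mul hh] at this
  have Qe14 : QInv σ (e1 * e4) := qcB qe14_conj
  have Qe15 : QInv σ (e1 * e5) := qcB qe15_conj
  have Qe16 : QInv σ (e1 * e6) := qcB qe16_conj
  have Qe24 : QInv σ (e2 * e4) := qcB qe24_conj
  have Qe26 : QInv σ (e2 * e6) := qcB qe26_conj
  have Qe34 : QInv σ (e3 * e4) := qcB qe34_conj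
  have Qe35 : QInv σ (e3 * e5) := qcB qe35_conj
  have Qe36 : QInv σ (e3 * e6) := qcB qe36_conj
  have Qs : QInv σ (s) := qcB qs_conj
  have Qrr : QInv σ (r * r) := qcB qrr_conj
  have Qsr : QInv σ (s * r) := qcB qsr_conj
  have Qcs : QInv σ (c * s) := qcB qcs_conj
  have Qcsr : QInv σ (c * (s * r)) := qcB qcsr_conj
  have qone : QInv σ 1 := qinv_one hK'
  have hSQ : ∀ a ∈ SE, QInv σ a := by
    intro a ha
    rcases mem_SE ha with rfl | rfl | rfl | rfl | rfl | rfl
    · exact q1
    · exact Qe2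
    · exact Qe3
    · exact Qe4
    · exact Qe5
    · exact Qe6
  have hSQ2 : ∀ a ∈ SE, ∀ b ∈ SE, QInv σ (a * b) := by
    intro a ha b hb
    rcases mem_SE ha with rfl | rfl | rfl | rfl | rfl | rfl <;>
      rcases mem_SE hb with rfl | rfl | rfl | rfl | rfl | rfl
    · rw [e1_sq]; exact qone
    · exact Qe12
    · exact Qe13
    · exact Qe14
    · exact Qe15
    · exact Qe16
    · rw [← e12_comm]; exact Qe12
    · rw [e2_sq]; exact qone
    · exact Qe23
    · exact Qe24
    · exact Qe25
    · exact Qe26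
    · rw [← e13_comm]; exact Qe13
    · rw [← e23_comm]; exact Qe23
    · rw [e3_sq]; exact qone
    · exact Qe34
    · exact Qe35
    · exact Qe36
    · rw [← e14_comm]; exact Qe14
    · rw [← e24_comm]; exact Qe24
    · rw [← e34_comm]; exact Qe34
    · rw [e4_sq]; exact qone
    · exact Qe45
    · exact Qe46
    · rw [← e15_comm]; exact Qe15
    · rw [← e25_comm]; exact Qe25
    · rw [← e35_comm]; exact Qe35
    · rw [← e45_comm]; exact Qe45
    · rw [e5_sq]; exact qone
    · exact Qe56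
    · rw [← e16_comm]; exact Qe16
    · rw [← e26_comm]; exact Qe26
    · rw [← e36_comm]; exact Qe36
    · rw [← e46_comm]; exact Qe46
    · rw [← e56_comm]; exact Qe56
    · rw [e6_sq]; exact qone
  obtain ⟨R, hR⟩ := hsurj r
  obtain ⟨S', hS'⟩ := hsurj s
  obtain ⟨C, hC⟩ := hsurj c
  set D₁ : Subgroup Γ := closure ({C, R, S'} : Set Γ) with hD₁
  have hmap : D₁.map σ = DD := by
    rw [hD₁, MonoidHom.map_closure, Set.image_insert_eq, Set.image_pair, hR, hS', hC]
    rfl
  have hD₁σ : ∀ x ∈ D₁, σ x ∈ DD := by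
    intro x hx
    rw [← hmap]
    exact Subgroup.mem_map_of_mem σ hx
  have hDle : DD ≤ D₁.map σ := by rw [hmap]
  have hm : Nat.card D₁ ≤ 16 := by
    have h := card_lift_d8c2_le R S' C hR hS' hC Qs Qrr Qsr Qc Qcs Qcsr
    have e : D₁ = closure ({R, S'} : Set Γ) ⊔ zpowers C := by
      rw [hD₁, Set.insert_eq, Subgroup.closure_union, sup_comm, Subgroup.zpowers_eq_closure]
    rw [e]
    exact h
  have hS := comm_comap_trivial_of_split hsurj hK' SE SE_sq SE_comm hSQ hSQ2 k k_cube k_SE k_nrm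
    DD DD_SE DD_k D₁ hD₁σ hDle 64 16 card_SE_le hm PP (le_refl _) card_PP_ge
  haveI : Fact (Nat.Prime 2) := ⟨Nat.prime_two⟩
  have := stem_no_prime_of_subgroup σ hsurj hcen hder PP PP_index hS
    (MonoidHom.mem_ker.mpr hσz) (by rw [pow_two, hz2])
  exact hz1 this

theorem comm_xy : ⁅x, y⁆ = w := by
  have hxinv : x⁻¹ = x * x := by
    rw [inv_eq_iff_mul_eq_one, ← x_cube]; group
  have hyinv : y⁻¹ = y * y := by
    rw [inv_eq_iff_mul_eq_one, ← y_cube]; group
  rw [commutatorElement_def, hxinv, hyinv, w_def]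

/-- no stem extension of the group of the length-24 code has a kernel of order three -/
theorem no_stem_three {Γ : Type*} [Group Γ] [Finite Γ] (σ : Γ →* ↥Cfsg.M24)
    (hσ : Cfsg.IsStemExtension σ) (hcard : Nat.card σ.ker = 3) : False := by
  obtain ⟨hsurj, hcen, hder⟩ := hσ
  have hk3 : ∀ κ ∈ σ.ker, κ ^ 3 = 1 := by
    intro κ hκ
    have := pow_card_eq_one' (G := σ.ker) (x := ⟨κ, hκ⟩)
    rw [hcard] at this
    exact congrArg Subtype.val this
  have hxinv : x⁻¹ = x * x := by
    rw [inv_eq_iff_mul_eq_one, ← x_cube]; group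
  have hyinv : y⁻¹ = y * y := by
    rw [inv_eq_iff_mul_eq_one, ← y_cube]; group
  have hx3 : x ^ 3 = 1 := by rw [← x_cube, pow_succ, pow_two]
  have htx : t * x * t⁻¹ = x⁻¹ := by rw [hxinv]; exact conj_of_mul t_x
  have hty : t * y * t⁻¹ = y⁻¹ := by rw [hyinv]; exact conj_of_mul t_y
  have htw : t * ⁅x, y⁆ * t⁻¹ = ⁅x, y⁆ := by rw [comm_xy]; exact conj_of_mul t_w
  have hS := comm_comap_trivial_of_heis hsurj hcen hk3 x y t hx3
    (by rw [comm_xy]; exact w_x) (by rw [comm_xy]; exact w_y) (by rw [comm_xy]; exact w_ne)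
    htx hty htw
  haveI : Fact (Nat.Prime 3) := ⟨Nat.prime_three⟩
  -- the kernel is trivial, contradiction
  have hall : ∀ z ∈ σ.ker, z = 1 := by
    intro z hz
    exact stem_no_prime_of_subgroup σ hsurj hcen hder S3 S3_index hS hz (hk3 z hz)
  have : Nat.card σ.ker = 1 := by
    rw [Nat.card_eq_one_iff_unique]
    refine ⟨⟨fun a b => ?_⟩, ⟨1⟩⟩
    apply Subtype.ext
    rw [hall a a.2, hall b b.2]
  omega

/-- every finite stem extension of the group of the length-24 code is trivial -/
theorem m24_stem_ker_trivial {Γ : Type} [Group Γ] [Finite Γ] (σ : Γ →* ↥Cfsg.M24)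
    (hσ : Cfsg.IsStemExtension σ) : ∀ z ∈ σ.ker, z = 1 := by
  have hσ' := hσ
  obtain ⟨hsurj, hcen, hder⟩ := hσ
  have hcard := card_M24'
  apply stem_ker_trivial_of_primes σ
  intro p hp z hz hzp
  have hpP : p.Prime := hp.out
  by_cases hp2 : p = 2
  · subst hp2
    by_contra hz1
    obtain ⟨Γ', _, _, σ', hσ'', hc⟩ := exists_stem_prime_ker σ hσ' 2 z hz hzp hz1
    exact no_stem_two σ' hσ'' hc
  · by_cases hp3 : p = 3
    · subst hp3
      by_contra hz1
      obtain ⟨Γ', _, _, σ', hσ'', hc⟩ := exists_stem_prime_ker σ hσ' 3 z hz hzp hz1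
      exact no_stem_three σ' hσ'' hc
    · obtain ⟨Rr⟩ : Nonempty (Sylow p ↥Cfsg.M24) := inferInstance
      have hcyc : IsCyclic (Rr : Subgroup ↥Cfsg.M24) := by
        obtain ⟨j, hj⟩ := IsPGroup.iff_card.mp Rr.2
        have hdvd : p ^ j ∣ 244823040 := by
          rw [← hj, ← hcard]
          exact Subgroup.card_subgroup_dvd_card _
        have hj1 : j ≤ 1 := by
          by_contra hlt
          push Not at hlt
          have h2 : p ^ 2 ∣ 244823040 := dvd_trans (pow_dvd_pow p hlt) hdvd
          have e : (244823040 : ℕ) = 2 ^ 10 * 3 ^ 3 * 5 * 7 * 11 * 23 := by norm_num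
          rw [e] at h2
          have hpd : p ∣ 2 ^ 10 * 3 ^ 3 * 5 * 7 * 11 * 23 :=
            dvd_trans (dvd_pow_self p (by norm_num)) h2
          have hcases : p = 2 ∨ p = 3 ∨ p = 5 ∨ p = 7 ∨ p = 11 ∨ p = 23 := by
            rcases (Nat.Prime.dvd_mul hpP).mp hpd with h | h
            · rcases (Nat.Prime.dvd_mul hpP).mp h with h | h
              · rcases (Nat.Prime.dvd_mul hpP).mp h with h | h
                · rcases (Nat.Prime.dvd_mul hpP).mp h with h | h
                  · rcases (Nat.Prime.dvd_mul hpP).mp h with h | h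
                    · left
                      exact (Nat.prime_dvd_prime_iff_eq hpP Nat.prime_two).mp (hpP.dvd_of_dvd_pow h)
                    · right; left
                      exact (Nat.prime_dvd_prime_iff_eq hpP Nat.prime_three).mp
                        (hpP.dvd_of_dvd_pow h)
                  · right; right; left
                    exact (Nat.prime_dvd_prime_iff_eq hpP (by norm_num)).mp h
                · right; right; right; left
                  exact (Nat.prime_dvd_prime_iff_eq hpP (by norm_num)).mp h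
              · right; right; right; right; left
                exact (Nat.prime_dvd_prime_iff_eq hpP (by norm_num)).mp h
            · right; right; right; right; right
              exact (Nat.prime_dvd_prime_iff_eq hpP (by norm_num)).mp h
          rcases hcases with rfl | rfl | rfl | rfl | rfl | rfl
          · exact hp2 rfl
          · exact hp3 rfl
          · revert h2; norm_num
          · revert h2; norm_num
          · revert h2; norm_num
          · revert h2; norm_num
        interval_cases j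
        · rw [pow_zero] at hj
          haveI : Subsingleton (Rr : Subgroup ↥Cfsg.M24) :=
            (Nat.card_eq_one_iff_unique.mp hj).1
          exact isCyclic_of_subsingleton
        · rw [pow_one] at hj
          exact isCyclic_of_prime_card hj
      haveI := hcyc
      have hind : ¬ p ∣ (Rr : Subgroup ↥Cfsg.M24).index := Sylow.not_dvd_index Rr
      refine stem_no_prime_of_subgroup σ hsurj hcen hder (Rr : Subgroup ↥Cfsg.M24) hind ?_
        hz hzp
      intro w hw _
      exact comm_comap_trivial_of_cyclic σ hcen (Rr : Subgroup ↥Cfsg.M24) w hw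

end Cfsg.Agent.Lib.Helper5.M24M
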