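import Mathlib
import Cfsg.Prelude.Def_Transfer
import Cfsg.Agent.Lib.Helper5.SymSylA

set_option autoImplicit false

namespace Cfsg.Agent.Lib.Helper5.NRk

open scoped commutatorElement

def NRk (H : Type*) [Group H] (r : ℕ) : Prop :=
  (∃ E : Subgroup H, E.Normal ∧ Cfsg.IsElementaryAbelian 2 E ∧ 2 ^ r ≤ Nat.card ↥E) ∧
  ∀ E : Subgroup H, E.Normal → Cfsg.IsElementaryAbelian 2 E → Nat.card ↥E ≤ 2 ^ r

theorem elemAb_map {H K : Type*} [Group H] [Group K] (f : H →* K) (E : Subgroup H)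
    (hE : Cfsg.IsElementaryAbelian 2 E) : Cfsg.IsElementaryAbelian 2 (E.map f) := by
  obtain ⟨hc, h2⟩ := hE
  refine ⟨⟨⟨?_⟩⟩, ?_⟩
  · rintro ⟨_, a, ha, rfl⟩ ⟨_, b, hb, rfl⟩
    apply Subtype.ext
    show f a * f b = f b * f a
    have h := hc.is_comm.comm (⟨a, ha⟩ : ↥E) ⟨b, hb⟩
    have h' : a * b = b * a := congrArg Subtype.val h
    rw [← map_mul, ← map_mul, h']
  · rintro _ ⟨a, ha, rfl⟩
    rw [← map_pow, h2 a ha, map_one]

theorem NRk_congr {H K : Type*} [Group H] [Group K] (e : H ≃* K) {r : ℕ} (h : NRk H r) :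
    NRk K r := by
  obtain ⟨⟨E, hEn, hEe, hEc⟩, hall⟩ := h
  refine ⟨⟨E.map e.toMonoidHom, hEn.map _ e.surjective, elemAb_map _ E hEe, ?_⟩, ?_⟩
  · rw [Subgroup.card_map_of_injective e.injective]
    exact hEc
  · intro E' hn he
    have h1 := hall (E'.map e.symm.toMonoidHom) (hn.map _ e.symm.surjective) (elemAb_map _ E' he)
    rwa [Subgroup.card_map_of_injective e.symm.injective] at h1

structure Good {G : Type*} [Group G] (P A : Subgroup G) : Prop where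
  le : A ≤ P
  comm : ∀ a ∈ A, ∀ b ∈ A, a * b = b * a
  norm : ∀ s ∈ P, ∀ a ∈ A, s * a * s⁻¹ ∈ A
  good : ∀ s ∈ P, s ∉ A → ∃ x ∈ A, ⁅x, s⁆ ^ 2 ≠ 1

theorem NRk_of_good {G : Type*} [Group G] (P A : Subgroup G) (h : Good P A) (r : ℕ)
    (hcard : Nat.card {a : G // a ∈ A ∧ a ^ 2 = 1} = 2 ^ r) : NRk ↥P r := by
  classical
  let Ω : Subgroup ↥P :=
    { carrier := {s | (s : G) ∈ A ∧ (s : G) ^ 2 = 1}
      one_mem' := ⟨A.one_mem, one_pow 2⟩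
      mul_mem' := by
        rintro a b ⟨ha, ha2⟩ ⟨hb, hb2⟩
        refine ⟨A.mul_mem ha hb, ?_⟩
        have hc : Commute (a : G) (b : G) := h.comm _ ha _ hb
        show ((a : G) * (b : G)) ^ 2 = 1
        rw [hc.mul_pow, ha2, hb2, one_mul]
      inv_mem' := by
        rintro a ⟨ha, ha2⟩
        refine ⟨A.inv_mem ha, ?_⟩
        show ((a : G)⁻¹) ^ 2 = 1
        rw [inv_pow, ha2, inv_one] }
  have hΩcard : Nat.card ↥Ω = 2 ^ r := by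
    rw [← hcard]
    apply Nat.card_congr
    exact
      { toFun := fun s => ⟨(s.1 : G), s.2⟩
        invFun := fun a => ⟨⟨a.1, h.le a.2.1⟩, a.2⟩
        left_inv := fun s => rfl
        right_inv := fun a => rfl }
  have hΩfin : Finite ↥Ω := Nat.finite_of_card_ne_zero (by rw [hΩcard]; positivity)
  have hΩn : Ω.Normal := by
    constructor
    rintro a ⟨ha, ha2⟩ s
    refine ⟨h.norm _ s.2 _ ha, ?_⟩
    show ((s : G) * (a : G) * (s : G)⁻¹) ^ 2 = 1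
    rw [conj_pow, ha2, mul_one, mul_inv_cancel]
  have hΩe : Cfsg.IsElementaryAbelian 2 Ω := by
    refine ⟨⟨⟨?_⟩⟩, ?_⟩
    · rintro ⟨a, ha, _⟩ ⟨b, hb, _⟩
      apply Subtype.ext
      apply Subtype.ext
      exact h.comm _ ha _ hb
    · rintro a ⟨_, ha2⟩
      apply Subtype.ext
      exact ha2
  refine ⟨⟨Ω, hΩn, hΩe, hΩcard.ge⟩, ?_⟩
  intro E hEn hEe
  rw [← hΩcard]
  apply Subgroup.card_le_of_le
  intro e he
  have he2 : (e : G) ^ 2 = 1 := congrArg Subtype.val (hEe.2 e he)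
  refine ⟨?_, he2⟩
  by_contra hnA
  obtain ⟨x, hx, hx2⟩ := h.good _ e.2 hnA
  apply hx2
  have hxP : x ∈ P := h.le hx
  have hmem : (⟨x, hxP⟩ : ↥P) * e * (⟨x, hxP⟩ : ↥P)⁻¹ * e⁻¹ ∈ E :=
    E.mul_mem (hEn.conj_mem e he _) (E.inv_mem he)
  have := congrArg Subtype.val (hEe.2 _ hmem)
  exact this

theorem good_map {G G' : Type*} [Group G] [Group G'] (f : G →* G') (hf : Function.Injective f)
    (P A : Subgroup G) (h : Good P A) : Good (P.map f) (A.map f) := by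
  refine ⟨Subgroup.map_mono h.le, ?_, ?_, ?_⟩
  · rintro _ ⟨a, ha, rfl⟩ _ ⟨b, hb, rfl⟩
    rw [← map_mul, ← map_mul, h.comm a ha b hb]
  · rintro _ ⟨s, hs, rfl⟩ _ ⟨a, ha, rfl⟩
    rw [← map_inv, ← map_mul, ← map_mul]
    exact ⟨_, h.norm s hs a ha, rfl⟩
  · rintro _ ⟨s, hs, rfl⟩ hsA
    have hsA' : s ∉ A := fun hh => hsA ⟨s, hh, rfl⟩
    obtain ⟨x, hx, hx2⟩ := h.good s hs hsA'
    refine ⟨f x, ⟨x, hx, rfl⟩, ?_⟩
    intro h1
    apply hx2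
    apply hf
    rw [map_pow, map_one, map_commutatorElement]
    exact h1

theorem card_om_map {G G' : Type*} [Group G] [Group G'] (f : G →* G')
    (hf : Function.Injective f) (A : Subgroup G) :
    Nat.card {a : G' // a ∈ A.map f ∧ a ^ 2 = 1} = Nat.card {a : G // a ∈ A ∧ a ^ 2 = 1} := by
  symm
  apply Nat.card_congr
  refine Equiv.ofBijective (fun a => ⟨f a.1, ⟨a.1, a.2.1, rfl⟩, by rw [← map_pow, a.2.2, map_one]⟩)
    ⟨?_, ?_⟩
  · rintro ⟨a, ha⟩ ⟨b, hb⟩ hab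
    apply Subtype.ext
    apply hf
    exact congrArg Subtype.val hab
  · rintro ⟨_, ⟨a, ha, rfl⟩, ha2⟩
    refine ⟨⟨a, ha, ?_⟩, rfl⟩
    apply hf
    rw [map_pow, map_one]
    exact ha2

theorem good_prod {G₁ G₂ : Type*} [Group G₁] [Group G₂] (P A : Subgroup G₁) (h : Good P A)
    (Z : Subgroup G₂) (hZ : ∀ a ∈ Z, ∀ b ∈ Z, a * b = b * a) :
    Good (P.prod Z) (A.prod Z) := by
  refine ⟨Subgroup.prod_mono h.le le_rfl, ?_, ?_, ?_⟩
  · rintro ⟨a, z⟩ ⟨ha, hz⟩ ⟨b, w⟩ ⟨hb, hw⟩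
    exact Prod.ext (h.comm a ha b hb) (hZ z hz w hw)
  · rintro ⟨s, z⟩ ⟨hs, hz⟩ ⟨a, w⟩ ⟨ha, hw⟩
    exact ⟨h.norm s hs a ha, Z.mul_mem (Z.mul_mem hz hw) (Z.inv_mem hz)⟩
  · rintro ⟨s, z⟩ ⟨hs, hz⟩ hsA
    have hsA' : s ∉ A := fun hh => hsA ⟨hh, hz⟩
    obtain ⟨x, hx, hx2⟩ := h.good s hs hsA'
    refine ⟨(x, 1), ⟨hx, Z.one_mem⟩, ?_⟩
    intro h1
    apply hx2
    have := congrArg Prod.fst h1
    exact this

theorem card_om_prod {G₁ G₂ : Type*} [Group G₁] [Group G₂] (A : Subgroup G₁) (Z : Subgroup G₂) :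
    Nat.card {a : G₁ × G₂ // a ∈ A.prod Z ∧ a ^ 2 = 1} =
      Nat.card {a : G₁ // a ∈ A ∧ a ^ 2 = 1} * Nat.card {z : G₂ // z ∈ Z ∧ z ^ 2 = 1} := by
  rw [← Nat.card_prod]
  apply Nat.card_congr
  exact
    { toFun := fun a => (⟨a.1.1, a.2.1.1, congrArg Prod.fst a.2.2⟩,
        ⟨a.1.2, a.2.1.2, congrArg Prod.snd a.2.2⟩)
      invFun := fun b => ⟨(b.1.1, b.2.1), ⟨b.1.2.1, b.2.2.1⟩, Prod.ext b.1.2.2 b.2.2.2⟩
      left_inv := fun a => rfl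
      right_inv := fun b => rfl }

end Cfsg.Agent.Lib.Helper5.NRk
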