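import Mathlib
import Cfsg.Agent.Lib.Helper5.NRkA
import Cfsg.Agent.Lib.Helper5.GLSylA

set_option autoImplicit false

namespace Cfsg.Agent.Lib.Helper5.NRk

open scoped commutatorElement
open Cfsg.Agent.Lib.Helper5.SymSyl

section Wreath

variable {L G : Type*} [Group L] [Group G] [Finite G] {m : ℕ}
  (base : (Fin m → L) →* G) (top : Equiv.Perm (Fin m) →* G)

theorem wr_elt
    (hconj : ∀ σ A, top σ * base A * (top σ)⁻¹ = base (fun i => A (σ⁻¹ i)))
    (H : Subgroup L) (T : Subgroup (Equiv.Perm (Fin m))) (s : G)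
    (hs : s ∈ (Subgroup.pi Set.univ fun _ : Fin m => H).map base ⊔ T.map top) :
    ∃ d : Fin m → L, (∀ i, d i ∈ H) ∧ ∃ σ ∈ T, s = base d * top σ := by
  have hnorm : T.map top ≤ Subgroup.normalizer
      (((Subgroup.pi Set.univ fun _ : Fin m => H).map base : Subgroup G) : Set G) := by
    rintro _ ⟨σ, _, rfl⟩
    apply Subgroup.mem_normalizer_fintype
    rintro _ ⟨A, hA, rfl⟩
    rw [hconj]
    refine ⟨_, ?_, rfl⟩
    intro i _
    exact hA _ (Set.mem_univ _)
  have h1 := Subgroup.coe_mul_of_right_le_normalizer_left _ _ hnorm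
  have h2 : s ∈ (((Subgroup.pi Set.univ fun _ : Fin m => H).map base ⊔ T.map top :
      Subgroup G) : Set G) := hs
  rw [h1] at h2
  obtain ⟨_, ⟨d, hd, rfl⟩, _, ⟨σ, hσ, rfl⟩, rfl⟩ := h2
  exact ⟨d, fun i => hd i (Set.mem_univ i), σ, hσ, rfl⟩

theorem good_wreath
    (hconj : ∀ σ A, top σ * base A * (top σ)⁻¹ = base (fun i => A (σ⁻¹ i)))
    (hbinj : Function.Injective base)
    (hinf : base.range ⊓ top.range = ⊥)
    (H C : Subgroup L) (hHC : Good H C) (ζ : L) (hζ : ζ ∈ C) (hζ2 : ζ ^ 2 ≠ 1)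
    (T : Subgroup (Equiv.Perm (Fin m))) :
    Good ((Subgroup.pi Set.univ fun _ : Fin m => H).map base ⊔ T.map top)
      ((Subgroup.pi Set.univ fun _ : Fin m => C).map base) := by
  classical
  refine ⟨?_, ?_, ?_, ?_⟩
  · refine le_trans (Subgroup.map_mono ?_) le_sup_left
    intro d hd i hi
    exact hHC.le (hd i hi)
  · rintro _ ⟨a, ha, rfl⟩ _ ⟨b, hb, rfl⟩
    rw [← map_mul, ← map_mul]
    congr 1
    funext i
    exact hHC.comm _ (ha i (Set.mem_univ i)) _ (hb i (Set.mem_univ i))
  · intro s hs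
    obtain ⟨d, hd, σ, hσ, rfl⟩ := wr_elt base top hconj H T s hs
    rintro _ ⟨c, hc, rfl⟩
    have e : base d * top σ * base c * (base d * top σ)⁻¹ =
        base d * (top σ * base c * (top σ)⁻¹) * (base d)⁻¹ := by group
    rw [e, hconj, ← map_inv, ← map_mul, ← map_mul]
    refine ⟨_, ?_, rfl⟩
    intro i _
    exact hHC.norm _ (hd i) _ (hc _ (Set.mem_univ _))
  · intro s hs hsA
    obtain ⟨d, hd, σ, hσ, rfl⟩ := wr_elt base top hconj H T s hs
    by_cases hσ1 : σ = 1
    · subst hσ1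
      rw [map_one, mul_one] at hsA ⊢
      have hex : ∃ i, d i ∉ C := by
        by_contra hcon
        push Not at hcon
        exact hsA ⟨d, fun i _ => hcon i, rfl⟩
      obtain ⟨i, hi⟩ := hex
      obtain ⟨x, hx, hx2⟩ := hHC.good (d i) (hd i) hi
      refine ⟨base (Pi.mulSingle (M := fun _ : Fin m => L) i x), ⟨_, ?_, rfl⟩, ?_⟩
      · rw [SetLike.mem_coe, Subgroup.mulSingle_mem_pi]
        exact fun _ => hx
      · intro h1
        apply hx2
        rw [← map_commutatorElement, ← map_pow] at h1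
        have h2 := hbinj (h1.trans (map_one base).symm)
        have h3 := congrFun h2 i
        simpa [commutatorElement_def] using h3
    · have hex : ∃ i, σ⁻¹ i ≠ i := by
        by_contra hcon
        push Not at hcon
        apply hσ1
        have : σ⁻¹ = 1 := Equiv.ext hcon
        exact inv_eq_one.mp this
      obtain ⟨i, hi⟩ := hex
      refine ⟨base (Pi.mulSingle (M := fun _ : Fin m => L) i ζ), ⟨_, ?_, rfl⟩, ?_⟩
      · rw [SetLike.mem_coe, Subgroup.mulSingle_mem_pi]
        exact fun _ => hζ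
      · intro h1
        apply hζ2
        have e : ⁅base (Pi.mulSingle (M := fun _ : Fin m => L) i ζ), base d * top σ⁆ =
            base (Pi.mulSingle (M := fun _ : Fin m => L) i ζ) * base d *
              (top σ * base (Pi.mulSingle (M := fun _ : Fin m => L) i ζ)⁻¹ * (top σ)⁻¹) *
                (base d)⁻¹ := by
          rw [commutatorElement_def, map_inv]
          group
        rw [e, hconj, ← map_inv, ← map_mul, ← map_mul, ← map_mul, ← map_pow] at h1
        have h2 := hbinj (h1.trans (map_one base).symm)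
        have h3 := congrFun h2 i
        simp only [Pi.pow_apply, Pi.mul_apply, Pi.inv_apply, Pi.mulSingle_eq_same,
          Pi.one_apply, Pi.mulSingle_eq_of_ne hi, inv_one, mul_one, mul_inv_cancel_right] at h3
        exact h3

theorem card_om_wreath (hbinj : Function.Injective base) (C : Subgroup L) :
    Nat.card {a : G // a ∈ (Subgroup.pi Set.univ fun _ : Fin m => C).map base ∧ a ^ 2 = 1} =
      Nat.card {c : L // c ∈ C ∧ c ^ 2 = 1} ^ m := by
  have h1 : Nat.card (Fin m → {c : L // c ∈ C ∧ c ^ 2 = 1}) =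
      Nat.card {c : L // c ∈ C ∧ c ^ 2 = 1} ^ m := by
    rw [Nat.card_fun]
    simp
  rw [← h1]
  symm
  apply Nat.card_congr
  refine Equiv.ofBijective
    (fun f => ⟨base (fun i => (f i).1), ⟨_, fun i _ => (f i).2.1, rfl⟩, ?_⟩) ⟨?_, ?_⟩
  · rw [← map_pow]
    have : (fun i => ((f i).1 : L)) ^ 2 = 1 := by
      funext i
      exact (f i).2.2
    rw [this, map_one]
  · intro f g hfg
    have h2 := hbinj (congrArg Subtype.val hfg)
    funext i
    apply Subtype.ext
    exact congrFun h2 i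
  · rintro ⟨_, ⟨d, hd, rfl⟩, hd2⟩
    rw [← map_pow] at hd2
    have h2 := hbinj (hd2.trans (map_one base).symm)
    exact ⟨fun i => ⟨d i, hd i (Set.mem_univ i), congrFun h2 i⟩, rfl⟩

theorem wreath_pgroup_card {p : ℕ} [Fact p.Prime]
    (hconj : ∀ σ A, top σ * base A * (top σ)⁻¹ = base (fun i => A (σ⁻¹ i)))
    (hbinj : Function.Injective base) (htinj : Function.Injective top)
    (hinf : base.range ⊓ top.range = ⊥)
    (H : Subgroup L) (a : ℕ) (hHcard : p ^ a ≤ Nat.card H) (hHp : IsPGroup p H)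
    (T : Subgroup (Equiv.Perm (Fin m))) (t : ℕ) (hTcard : Nat.card T = p ^ t) :
    IsPGroup p ↥((Subgroup.pi Set.univ fun _ : Fin m => H).map base ⊔ T.map top) ∧
      p ^ (a * m + t) ≤
        Nat.card ↥((Subgroup.pi Set.univ fun _ : Fin m => H).map base ⊔ T.map top) := by
  classical
  have hp1 : 0 < p := (Fact.out : p.Prime).pos
  haveI : Finite ↥H := Nat.finite_of_card_ne_zero (by
    have : 0 < p ^ a := pow_pos hp1 a
    omega)
  set Bq : Subgroup (Fin m → L) := Subgroup.pi Set.univ (fun _ => H) with hBq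
  set B : Subgroup G := Bq.map base with hB
  set Tt : Subgroup G := T.map top with hTt
  have hBqcard : Nat.card Bq = (Nat.card H) ^ m := by
    rw [Nat.card_congr (piSubEquiv H), Nat.card_fun]
    simp
  have hBcard : Nat.card B = (Nat.card H) ^ m := by
    rw [hB, Subgroup.card_map_of_injective hbinj, hBqcard]
  have hTtcard : Nat.card Tt = p ^ t := by
    rw [hTt, Subgroup.card_map_of_injective htinj, hTcard]
  obtain ⟨k, hk⟩ := IsPGroup.iff_card.mp hHp
  have hBp : IsPGroup p B := by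
    apply IsPGroup.of_card (n := k * m)
    rw [hBcard, hk, pow_mul]
  have hTtp : IsPGroup p Tt := IsPGroup.of_card hTtcard
  have hnorm : Tt ≤ Subgroup.normalizer (B : Set G) := by
    rintro _ ⟨σ, _, rfl⟩
    apply Subgroup.mem_normalizer_fintype
    rintro _ ⟨A, hA, rfl⟩
    rw [hconj]
    refine ⟨_, ?_, rfl⟩
    intro i _
    exact hA _ (Set.mem_univ _)
  have hSp : IsPGroup p ↥(B ⊔ Tt) := IsPGroup.to_sup_of_normal_left' hBp hTtp hnorm
  have hinf' : B ⊓ Tt = ⊥ := by
    rw [eq_bot_iff, ← hinf]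
    apply inf_le_inf
    · rintro _ ⟨A, _, rfl⟩
      exact ⟨A, rfl⟩
    · rintro _ ⟨σ, _, rfl⟩
      exact ⟨σ, rfl⟩
  refine ⟨hSp, ?_⟩
  have h1 := card_mul_le_card_sup hinf'
  rw [hBcard, hTtcard] at h1
  refine le_trans ?_ h1
  rw [pow_add, pow_mul]
  exact Nat.mul_le_mul_right _ (Nat.pow_le_pow_left hHcard m)

end Wreath

end Cfsg.Agent.Lib.Helper5.NRk
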