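import Mathlib
import Cfsg.Agent.Lib.Helper5.NRkB
import Cfsg.Agent.Lib.Helper5.GLSylB

set_option autoImplicit false

namespace Cfsg.Agent.Lib.Helper5.NRk

open scoped commutatorElement MatrixGroups
open Cfsg.Agent.Lib.Helper5.SymSyl

section GL2

variable {F : Type*} [Field F]

theorem gl2_inv_entries (g : GL (Fin 2) F) :
    ((g⁻¹ : GL (Fin 2) F) : Matrix (Fin 2) (Fin 2) F) =
      Ring.inverse (g : Matrix (Fin 2) (Fin 2) F).det •
        !![(g : Matrix (Fin 2) (Fin 2) F) 1 1, -(g : Matrix (Fin 2) (Fin 2) F) 0 1;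
          -(g : Matrix (Fin 2) (Fin 2) F) 1 0, (g : Matrix (Fin 2) (Fin 2) F) 0 0] := by
  rw [Matrix.coe_units_inv, Matrix.inv_def, Matrix.adjugate_fin_two]

def C0 : Subgroup (GL (Fin 2) F) where
  carrier := {g | (g : Matrix (Fin 2) (Fin 2) F) 0 0 = (g : Matrix (Fin 2) (Fin 2) F) 1 1 ∧
    (g : Matrix (Fin 2) (Fin 2) F) 0 1 = -(g : Matrix (Fin 2) (Fin 2) F) 1 0}
  one_mem' := by simp
  mul_mem' := by
    rintro a b ⟨ha1, ha2⟩ ⟨hb1, hb2⟩
    simp only [Set.mem_setOf_eq, Units.val_mul, Matrix.mul_apply, Fin.sum_univ_two]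
    constructor
    · linear_combination ((b : Matrix (Fin 2) (Fin 2) F) 0 0) * ha1 +
        ((a : Matrix (Fin 2) (Fin 2) F) 1 1) * hb1 +
        ((b : Matrix (Fin 2) (Fin 2) F) 1 0) * ha2 -
        ((a : Matrix (Fin 2) (Fin 2) F) 1 0) * hb2
    · linear_combination ((b : Matrix (Fin 2) (Fin 2) F) 0 1) * ha1 +
        ((a : Matrix (Fin 2) (Fin 2) F) 1 1) * hb2 +
        ((b : Matrix (Fin 2) (Fin 2) F) 1 1) * ha2 +
        ((a : Matrix (Fin 2) (Fin 2) F) 1 0) * hb1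
  inv_mem' := by
    rintro a ⟨ha1, ha2⟩
    simp only [Set.mem_setOf_eq, gl2_inv_entries, Matrix.smul_apply, Matrix.of_apply,
      Matrix.cons_val', Matrix.cons_val_zero, Matrix.cons_val_one, Matrix.empty_val',
      Matrix.cons_val_fin_one, smul_eq_mul]
    constructor
    · rw [ha1]
    · rw [ha2]; ring

theorem mem_C0 (g : GL (Fin 2) F) : g ∈ (C0 : Subgroup (GL (Fin 2) F)) ↔
    (g : Matrix (Fin 2) (Fin 2) F) 0 0 = (g : Matrix (Fin 2) (Fin 2) F) 1 1 ∧
    (g : Matrix (Fin 2) (Fin 2) F) 0 1 = -(g : Matrix (Fin 2) (Fin 2) F) 1 0 := Iff.rfl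

theorem C0_comm (a : GL (Fin 2) F) (ha : a ∈ (C0 : Subgroup (GL (Fin 2) F)))
    (b : GL (Fin 2) F) (hb : b ∈ (C0 : Subgroup (GL (Fin 2) F))) : a * b = b * a := by
  obtain ⟨ha1, ha2⟩ := ha
  obtain ⟨hb1, hb2⟩ := hb
  apply Units.ext
  ext i j
  fin_cases i <;> fin_cases j <;>
    simp only [Units.val_mul, Matrix.mul_apply, Fin.sum_univ_two, Fin.zero_eta, Fin.mk_one,
      Fin.isValue]
  · rw [ha2, hb2]; ring
  · rw [ha1, hb1, ha2, hb2]; ring
  · rw [← ha1, ← hb1]; ring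
  · rw [ha2, hb2]; ring

theorem neg_one_mem_C0 : (-1 : GL (Fin 2) F) ∈ (C0 : Subgroup (GL (Fin 2) F)) := by
  rw [mem_C0]
  simp

theorem phiGL_inv [Fintype F] : (phiGL : GL (Fin 2) F)⁻¹ = phiGL :=
  inv_eq_of_mul_eq_one_right phiGL_sq

theorem phiGL_coe [Fintype F] :
    ((phiGL : GL (Fin 2) F) : Matrix (Fin 2) (Fin 2) F) = !![1, 0; 0, -1] := rfl

theorem phi_conj_entries [Fintype F] (a : GL (Fin 2) F) :
    ((phiGL * a * phiGL⁻¹ : GL (Fin 2) F) : Matrix (Fin 2) (Fin 2) F) =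
      !![(a : Matrix (Fin 2) (Fin 2) F) 0 0, -(a : Matrix (Fin 2) (Fin 2) F) 0 1;
        -(a : Matrix (Fin 2) (Fin 2) F) 1 0, (a : Matrix (Fin 2) (Fin 2) F) 1 1] := by
  rw [phiGL_inv, Units.val_mul, Units.val_mul, phiGL_coe]
  ext i j
  fin_cases i <;> fin_cases j <;>
    simp only [Matrix.mul_apply, Fin.sum_univ_two, Fin.zero_eta, Fin.mk_one, Fin.isValue,
      Matrix.of_apply, Matrix.cons_val', Matrix.cons_val_zero, Matrix.cons_val_one,
      Matrix.empty_val', Matrix.cons_val_fin_one] <;> ring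

theorem phi_conj_mem [Fintype F] (a : GL (Fin 2) F)
    (ha : a ∈ (C0 : Subgroup (GL (Fin 2) F))) :
    phiGL * a * phiGL⁻¹ ∈ (C0 : Subgroup (GL (Fin 2) F)) := by
  obtain ⟨ha1, ha2⟩ := ha
  rw [mem_C0, phi_conj_entries]
  simp only [Matrix.of_apply, Matrix.cons_val', Matrix.cons_val_zero, Matrix.cons_val_one,
    Matrix.empty_val', Matrix.cons_val_fin_one]
  exact ⟨ha1, by rw [ha2]⟩

theorem mul_phi_conj [Fintype F] (a : GL (Fin 2) F)
    (ha : a ∈ (C0 : Subgroup (GL (Fin 2) F))) :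
    ((a * (phiGL * a * phiGL⁻¹) : GL (Fin 2) F) : Matrix (Fin 2) (Fin 2) F) =
      (a : Matrix (Fin 2) (Fin 2) F).det • (1 : Matrix (Fin 2) (Fin 2) F) := by
  obtain ⟨ha1, ha2⟩ := ha
  rw [Units.val_mul, phi_conj_entries, Matrix.det_fin_two]
  ext i j
  fin_cases i <;> fin_cases j <;>
    simp only [Matrix.mul_apply, Fin.sum_univ_two, Fin.zero_eta, Fin.mk_one, Fin.isValue,
      Matrix.of_apply, Matrix.cons_val', Matrix.cons_val_zero, Matrix.cons_val_one,
      Matrix.empty_val', Matrix.cons_val_fin_one, Matrix.smul_apply, Matrix.one_apply_eq,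
      Matrix.one_apply_ne, ne_eq, zero_ne_one, one_ne_zero, not_false_eq_true, smul_eq_mul,
      mul_one, mul_zero]
  · linear_combination ((a : Matrix (Fin 2) (Fin 2) F) 0 0) * ha1
  · linear_combination (-(a : Matrix (Fin 2) (Fin 2) F) 0 1) * ha1
  · linear_combination ((a : Matrix (Fin 2) (Fin 2) F) 1 0) * ha1
  · linear_combination (-(a : Matrix (Fin 2) (Fin 2) F) 1 1) * ha1

theorem sq_mul_phi_conj [Fintype F] (a : GL (Fin 2) F)
    (ha : a ∈ (C0 : Subgroup (GL (Fin 2) F)))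
    (hd : (a : Matrix (Fin 2) (Fin 2) F).det ^ 2 = 1) :
    (a * (phiGL * a * phiGL⁻¹)) ^ 2 = 1 := by
  apply Units.ext
  rw [Units.val_pow_eq_pow_val, mul_phi_conj a ha, smul_pow, hd, one_pow, one_smul]
  rfl

theorem sq_eq_one_of_mem_C0 (h2 : (2 : F) ≠ 0) (hns : ∀ t : F, t * t ≠ -1)
    (g : GL (Fin 2) F) (hg : g ∈ (C0 : Subgroup (GL (Fin 2) F))) (hg2 : g ^ 2 = 1) :
    g = 1 ∨ g = -1 := by
  obtain ⟨h1, h3⟩ := hg
  have hm : (g : Matrix (Fin 2) (Fin 2) F) * (g : Matrix (Fin 2) (Fin 2) F) = 1 := by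
    have := congrArg Units.val hg2
    rwa [pow_two, Units.val_mul, Units.val_one] at this
  have e00 := congrFun (congrFun hm 0) 0
  have e10 := congrFun (congrFun hm 1) 0
  simp only [Matrix.mul_apply, Fin.sum_univ_two, Matrix.one_apply_eq, Matrix.one_apply_ne,
    ne_eq, one_ne_zero, not_false_eq_true, Fin.isValue] at e00 e10
  obtain ⟨x, hx⟩ : ∃ x, x = (g : Matrix (Fin 2) (Fin 2) F) 0 0 := ⟨_, rfl⟩
  obtain ⟨y, hy⟩ : ∃ y, y = (g : Matrix (Fin 2) (Fin 2) F) 1 0 := ⟨_, rfl⟩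
  rw [h3, ← hx, ← hy] at e00
  rw [← h1, ← hx, ← hy] at e10
  have hxy : x * y = 0 := by
    have : 2 * (x * y) = 0 := by linear_combination e10
    rcases mul_eq_zero.mp this with h | h
    · exact absurd h h2
    · exact h
  have hy0 : y = 0 := by
    by_contra hyne
    have hx0 : x = 0 := by
      rcases mul_eq_zero.mp hxy with h | h
      · exact h
      · exact absurd h hyne
    rw [hx0] at e00
    apply hns y
    linear_combination -e00
  rw [hy0] at e00
  have hxx : x * x = 1 := by linear_combination e00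
  have hmat : ∀ c : F, x = c → (g : Matrix (Fin 2) (Fin 2) F) = c • 1 := by
    intro c hc
    ext i j
    fin_cases i <;> fin_cases j
    · show (g : Matrix (Fin 2) (Fin 2) F) 0 0 = (c • (1 : Matrix (Fin 2) (Fin 2) F)) 0 0
      rw [← hx, hc]; simp
    · show (g : Matrix (Fin 2) (Fin 2) F) 0 1 = (c • (1 : Matrix (Fin 2) (Fin 2) F)) 0 1
      rw [h3, ← hy, hy0]; simp
    · show (g : Matrix (Fin 2) (Fin 2) F) 1 0 = (c • (1 : Matrix (Fin 2) (Fin 2) F)) 1 0
      rw [← hy, hy0]; simp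
    · show (g : Matrix (Fin 2) (Fin 2) F) 1 1 = (c • (1 : Matrix (Fin 2) (Fin 2) F)) 1 1
      rw [← h1, ← hx, hc]; simp
  rcases mul_self_eq_one_iff.mp hxx with h | h
  · left
    apply Units.ext
    rw [hmat 1 h, one_smul]
    rfl
  · right
    apply Units.ext
    rw [hmat (-1) h]
    simp

noncomputable def JGL : GL (Fin 2) F :=
  Matrix.GeneralLinearGroup.mkOfDetNeZero !![0, -1; 1, 0] (by
    rw [Matrix.det_fin_two_of]; norm_num)

theorem pow4_eq_one_of_mem_C0 (h2 : (2 : F) ≠ 0) (hns : ∀ t : F, t * t ≠ -1)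
    (g : GL (Fin 2) F) (hg : g ∈ (C0 : Subgroup (GL (Fin 2) F))) (hg4 : g ^ 4 = 1) :
    g = 1 ∨ g = -1 ∨ g = JGL ∨ g = -(JGL : GL (Fin 2) F) := by
  have hg2 : (g ^ 2) ^ 2 = 1 := by rw [← pow_mul]; exact hg4
  rcases sq_eq_one_of_mem_C0 h2 hns (g ^ 2) (Subgroup.pow_mem _ hg 2) hg2 with h | h
  · rcases sq_eq_one_of_mem_C0 h2 hns g hg h with h' | h'
    · exact Or.inl h'
    · exact Or.inr (Or.inl h')
  · right; right
    obtain ⟨h1, h3⟩ := hg
    have hm : (g : Matrix (Fin 2) (Fin 2) F) * (g : Matrix (Fin 2) (Fin 2) F) = -1 := by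
      have := congrArg Units.val h
      rwa [pow_two, Units.val_mul, Units.val_neg, Units.val_one] at this
    have e00 := congrFun (congrFun hm 0) 0
    have e10 := congrFun (congrFun hm 1) 0
    simp only [Matrix.mul_apply, Fin.sum_univ_two, Matrix.neg_apply, Matrix.one_apply_eq,
      Matrix.one_apply_ne, ne_eq, one_ne_zero, not_false_eq_true, Fin.isValue, neg_zero]
      at e00 e10
    obtain ⟨x, hx⟩ : ∃ x, x = (g : Matrix (Fin 2) (Fin 2) F) 0 0 := ⟨_, rfl⟩
    obtain ⟨y, hy⟩ : ∃ y, y = (g : Matrix (Fin 2) (Fin 2) F) 1 0 := ⟨_, rfl⟩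
    rw [h3, ← hx, ← hy] at e00
    rw [← h1, ← hx, ← hy] at e10
    have hxy : x * y = 0 := by
      have : 2 * (x * y) = 0 := by linear_combination e10
      rcases mul_eq_zero.mp this with h | h
      · exact absurd h h2
      · exact h
    have hx0 : x = 0 := by
      by_contra hxne
      have hy0 : y = 0 := by
        rcases mul_eq_zero.mp hxy with h | h
        · exact absurd h hxne
        · exact h
      rw [hy0] at e00
      apply hns x
      linear_combination e00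
    rw [hx0] at e00
    have hyy : y * y = 1 := by linear_combination -e00
    have hmat : ∀ c : F, y = c → (g : Matrix (Fin 2) (Fin 2) F) = !![0, -c; c, 0] := by
      intro c hc
      ext i j
      fin_cases i <;> fin_cases j
      · show (g : Matrix (Fin 2) (Fin 2) F) 0 0 = (!![0, -c; c, 0] : Matrix (Fin 2) (Fin 2) F) 0 0
        rw [← hx, hx0]; simp
      · show (g : Matrix (Fin 2) (Fin 2) F) 0 1 = (!![0, -c; c, 0] : Matrix (Fin 2) (Fin 2) F) 0 1
        rw [h3, ← hy, hc]; simp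
      · show (g : Matrix (Fin 2) (Fin 2) F) 1 0 = (!![0, -c; c, 0] : Matrix (Fin 2) (Fin 2) F) 1 0
        rw [← hy, hc]; simp
      · show (g : Matrix (Fin 2) (Fin 2) F) 1 1 = (!![0, -c; c, 0] : Matrix (Fin 2) (Fin 2) F) 1 1
        rw [← h1, ← hx, hx0]; simp
    rcases mul_self_eq_one_iff.mp hyy with h | h
    · left
      apply Units.ext
      rw [hmat 1 h]
      rfl
    · right
      apply Units.ext
      rw [hmat (-1) h, Units.val_neg]
      show _ = -(!![0, -1; 1, 0] : Matrix (Fin 2) (Fin 2) F)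
      ext i j
      fin_cases i <;> fin_cases j <;> simp

end GL2

end Cfsg.Agent.Lib.Helper5.NRk
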