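import Mathlib
import Cfsg.Agent.Lib.Helper5.NRkC

set_option autoImplicit false

namespace Cfsg.Agent.Lib.Helper5.NRk

open scoped commutatorElement MatrixGroups
open Cfsg.Agent.Lib.Helper5.SymSyl

section GL2

variable {F : Type*} [Field F] [Fintype F]

theorem sum_sq_ne_zero (hns : ∀ t : F, t * t ≠ -1) (x y : F) (h : ¬ (x = 0 ∧ y = 0)) :
    x * x + y * y ≠ 0 := by
  intro h0
  by_cases hy : y = 0
  · rw [hy, mul_zero, add_zero] at h0
    exact h ⟨mul_self_eq_zero.mp h0, hy⟩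
  · apply hns (x / y)
    field_simp
    linear_combination h0

noncomputable def rotGL (hns : ∀ t : F, t * t ≠ -1) (p : {p : F × F // p ≠ 0}) : GL (Fin 2) F :=
  Matrix.GeneralLinearGroup.mkOfDetNeZero !![p.1.1, -p.1.2; p.1.2, p.1.1] (by
    rw [Matrix.det_fin_two_of]
    have := sum_sq_ne_zero hns p.1.1 p.1.2 (by
      rintro ⟨h1, h2⟩
      exact p.2 (Prod.ext h1 h2))
    intro h
    apply this
    linear_combination h)

theorem card_C0 (hns : ∀ t : F, t * t ≠ -1) :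
    Nat.card (C0 : Subgroup (GL (Fin 2) F)) = Fintype.card F ^ 2 - 1 := by
  classical
  have h1 : Nat.card {p : F × F // p ≠ 0} = Fintype.card F ^ 2 - 1 := by
    rw [Nat.card_eq_fintype_card, Fintype.card_subtype_compl, Fintype.card_prod,
      Fintype.card_subtype_eq, pow_two]
  rw [← h1]
  symm
  apply Nat.card_congr
  refine Equiv.ofBijective (fun p => ⟨rotGL hns p, ?_⟩) ⟨?_, ?_⟩
  · rw [mem_C0]
    exact ⟨rfl, rfl⟩
  · rintro ⟨⟨x, y⟩, hp⟩ ⟨⟨x', y'⟩, hp'⟩ h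
    have h' := congrArg (fun g : ↥(C0 : Subgroup (GL (Fin 2) F)) =>
      ((g : GL (Fin 2) F) : Matrix (Fin 2) (Fin 2) F)) h
    have e1 := congrFun (congrFun h' 0) 0
    have e2 := congrFun (congrFun h' 1) 0
    apply Subtype.ext
    exact Prod.ext e1 e2
  · rintro ⟨g, hg⟩
    obtain ⟨h1, h3⟩ := hg
    have hne : ((g : Matrix (Fin 2) (Fin 2) F) 0 0, (g : Matrix (Fin 2) (Fin 2) F) 1 0) ≠
        (0 : F × F) := by
      intro h0
      have e1 : (g : Matrix (Fin 2) (Fin 2) F) 0 0 = 0 := congrArg Prod.fst h0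
      have e2 : (g : Matrix (Fin 2) (Fin 2) F) 1 0 = 0 := congrArg Prod.snd h0
      have hdet : (g : Matrix (Fin 2) (Fin 2) F).det = 0 := by
        rw [Matrix.det_fin_two, e1, e2]; ring
      have hu : IsUnit (g : Matrix (Fin 2) (Fin 2) F).det :=
        (Matrix.isUnit_iff_isUnit_det _).mp g.isUnit
      rw [hdet] at hu
      exact not_isUnit_zero hu
    refine ⟨⟨_, hne⟩, ?_⟩
    apply Subtype.ext
    apply Units.ext
    ext i j
    fin_cases i <;> fin_cases j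
    · rfl
    · exact h3.symm
    · rfl
    · exact h1

def C2 : Subgroup (GL (Fin 2) F) where
  carrier := {g | g ∈ (C0 : Subgroup (GL (Fin 2) F)) ∧ ∃ k : ℕ, g ^ 2 ^ k = 1}
  one_mem' := ⟨Subgroup.one_mem _, 0, one_pow _⟩
  mul_mem' := by
    rintro a b ⟨ha, k, hk⟩ ⟨hb, l, hl⟩
    refine ⟨Subgroup.mul_mem _ ha hb, k + l, ?_⟩
    have hc : Commute a b := C0_comm a ha b hb
    rw [hc.mul_pow, pow_add, pow_mul, hk, one_pow, mul_comm (2 ^ k), pow_mul, hl, one_pow,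
      one_mul]
  inv_mem' := by
    rintro a ⟨ha, k, hk⟩
    exact ⟨Subgroup.inv_mem _ ha, k, by rw [inv_pow, hk, inv_one]⟩

theorem mem_C2 (g : GL (Fin 2) F) : g ∈ (C2 : Subgroup (GL (Fin 2) F)) ↔
    g ∈ (C0 : Subgroup (GL (Fin 2) F)) ∧ ∃ k : ℕ, g ^ 2 ^ k = 1 := Iff.rfl

theorem C2_pgroup : IsPGroup 2 ↥(C2 : Subgroup (GL (Fin 2) F)) := by
  rintro ⟨g, hg, k, hk⟩
  exact ⟨k, Subtype.ext hk⟩

theorem card_C2_ge (hns : ∀ t : F, t * t ≠ -1) :
    2 ^ padicValNat 2 (Fintype.card F ^ 2 - 1) ≤ Nat.card (C2 : Subgroup (GL (Fin 2) F)) := by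
  classical
  haveI : Fact (Nat.Prime 2) := ⟨Nat.prime_two⟩
  obtain ⟨P⟩ : Nonempty (Sylow 2 ↥(C0 : Subgroup (GL (Fin 2) F))) := inferInstance
  have hP : Nat.card (P : Subgroup ↥(C0 : Subgroup (GL (Fin 2) F))) =
      2 ^ padicValNat 2 (Fintype.card F ^ 2 - 1) := by
    rw [P.card_eq_multiplicity, Nat.factorization_def _ Nat.prime_two, card_C0 hns]
  rw [← hP, ← Subgroup.card_map_of_injective (Subgroup.subtype_injective _)]
  apply Subgroup.card_le_of_le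
  rintro _ ⟨g, hg, rfl⟩
  refine ⟨g.2, ?_⟩
  obtain ⟨k, hk⟩ := P.isPGroup' ⟨g, hg⟩
  refine ⟨k, ?_⟩
  have := congrArg (fun z : ↥(P : Subgroup ↥(C0 : Subgroup (GL (Fin 2) F))) =>
    ((z : ↥(C0 : Subgroup (GL (Fin 2) F))) : GL (Fin 2) F)) hk
  exact this

theorem exists_zeta (h2 : (2 : F) ≠ 0) (hns : ∀ t : F, t * t ≠ -1)
    (h8 : 8 ≤ Nat.card (C2 : Subgroup (GL (Fin 2) F))) :
    ∃ ζ ∈ (C2 : Subgroup (GL (Fin 2) F)), ζ ^ 4 ≠ 1 := by
  classical
  by_contra hcon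
  push Not at hcon
  have hsub : ((C2 : Subgroup (GL (Fin 2) F)) : Set (GL (Fin 2) F)) ⊆
      (({1, -1, JGL, -(JGL : GL (Fin 2) F)} : Finset (GL (Fin 2) F)) : Set (GL (Fin 2) F)) := by
    intro g hg
    have h4 := hcon g hg
    rcases pow4_eq_one_of_mem_C0 h2 hns g hg.1 h4 with h | h | h | h <;> rw [h] <;> simp
  have h1 : Nat.card (C2 : Subgroup (GL (Fin 2) F)) ≤
      ({1, -1, JGL, -(JGL : GL (Fin 2) F)} : Finset (GL (Fin 2) F)).card := by
    rw [← Nat.card_eq_finsetCard]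
    exact Nat.card_mono (Finset.finite_toSet _) hsub
  have h3 : ({1, -1, JGL, -(JGL : GL (Fin 2) F)} : Finset (GL (Fin 2) F)).card ≤ 4 :=
    Finset.card_le_four
  omega

theorem neg_one_ne_one_gl (h2 : (2 : F) ≠ 0) : (-1 : GL (Fin 2) F) ≠ 1 := by
  intro h
  have h1 := congrArg (fun g : GL (Fin 2) F => (g : Matrix (Fin 2) (Fin 2) F) 0 0) h
  simp only [Units.val_neg, Units.val_one, Matrix.neg_apply, Matrix.one_apply_eq] at h1
  apply h2
  linear_combination -h1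

theorem card_om_C2 (h2 : (2 : F) ≠ 0) (hns : ∀ t : F, t * t ≠ -1) :
    Nat.card {c : GL (Fin 2) F // c ∈ (C2 : Subgroup (GL (Fin 2) F)) ∧ c ^ 2 = 1} = 2 := by
  classical
  have hset : {c : GL (Fin 2) F | c ∈ (C2 : Subgroup (GL (Fin 2) F)) ∧ c ^ 2 = 1} =
      (({1, -1} : Finset (GL (Fin 2) F)) : Set (GL (Fin 2) F)) := by
    ext c
    simp only [Set.mem_setOf_eq, Finset.coe_insert, Finset.coe_singleton, Set.mem_insert_iff,
      Set.mem_singleton_iff]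
    constructor
    · rintro ⟨hc, hc2⟩
      exact sq_eq_one_of_mem_C0 h2 hns c hc.1 hc2
    · rintro (h | h)
      · rw [h]
        exact ⟨Subgroup.one_mem _, one_pow 2⟩
      · rw [h]
        exact ⟨⟨neg_one_mem_C0, 1, by simp⟩, by simp⟩
  have : Nat.card {c : GL (Fin 2) F // c ∈ (C2 : Subgroup (GL (Fin 2) F)) ∧ c ^ 2 = 1} =
      Nat.card ↥({c : GL (Fin 2) F | c ∈ (C2 : Subgroup (GL (Fin 2) F)) ∧ c ^ 2 = 1}) := rfl
  rw [this, hset, Nat.card_coe_set_eq, Set.ncard_coe_finset,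
    Finset.card_pair (neg_one_ne_one_gl h2).symm]

end GL2

end Cfsg.Agent.Lib.Helper5.NRk
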