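import Mathlib
import Cfsg.Agent.Lib.Helper5.NRkD

set_option autoImplicit false

namespace Cfsg.Agent.Lib.Helper5.NRk

open scoped commutatorElement MatrixGroups
open Cfsg.Agent.Lib.Helper5.SymSyl

section GL2

variable {F : Type*} [Field F] [Fintype F]

noncomputable def H2 : Subgroup (GL (Fin 2) F) :=
  (C2 : Subgroup (GL (Fin 2) F)) ⊔ Subgroup.zpowers (phiGL : GL (Fin 2) F)

theorem phi_conj_mem_C2 (a : GL (Fin 2) F) (ha : a ∈ (C2 : Subgroup (GL (Fin 2) F))) :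
    phiGL * a * phiGL⁻¹ ∈ (C2 : Subgroup (GL (Fin 2) F)) := by
  obtain ⟨ha0, k, hk⟩ := ha
  exact ⟨phi_conj_mem a ha0, k, by rw [conj_pow, hk, mul_one, mul_inv_cancel]⟩

theorem zpowers_phi (z : GL (Fin 2) F) (hz : z ∈ Subgroup.zpowers (phiGL : GL (Fin 2) F)) :
    z = 1 ∨ z = phiGL := by
  obtain ⟨k, rfl⟩ := Subgroup.mem_zpowers_iff.mp hz
  have hφ2 : (phiGL : GL (Fin 2) F) ^ (2 : ℤ) = 1 := by
    rw [zpow_ofNat, pow_two]; exact phiGL_sq
  rcases Int.even_or_odd' k with ⟨j, hj | hj⟩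
  · left
    rw [hj, zpow_mul, hφ2, one_zpow]
  · right
    rw [hj, zpow_add, zpow_mul, hφ2, one_zpow, one_mul, zpow_one]

theorem phi_not_mem_C0 (h2 : (2 : F) ≠ 0) :
    (phiGL : GL (Fin 2) F) ∉ (C0 : Subgroup (GL (Fin 2) F)) := by
  intro h
  obtain ⟨h1, _⟩ := h
  rw [phiGL_coe] at h1
  simp only [Matrix.of_apply, Matrix.cons_val', Matrix.cons_val_zero, Matrix.cons_val_one,
    Matrix.empty_val', Matrix.cons_val_fin_one] at h1
  apply h2
  linear_combination h1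

theorem zpowers_le_normalizer_C2 :
    Subgroup.zpowers (phiGL : GL (Fin 2) F) ≤
      Subgroup.normalizer ((C2 : Subgroup (GL (Fin 2) F)) : Set (GL (Fin 2) F)) := by
  classical
  rw [Subgroup.zpowers_le]
  apply Subgroup.mem_normalizer_fintype
  intro a ha
  exact phi_conj_mem_C2 a ha

theorem H2_elt (s : GL (Fin 2) F) (hs : s ∈ (H2 : Subgroup (GL (Fin 2) F))) :
    ∃ c ∈ (C2 : Subgroup (GL (Fin 2) F)), s = c ∨ s = c * phiGL := by
  have h1 := Subgroup.coe_mul_of_right_le_normalizer_left _ _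
    (zpowers_le_normalizer_C2 (F := F))
  have h2 : s ∈ (((C2 : Subgroup (GL (Fin 2) F)) ⊔ Subgroup.zpowers (phiGL : GL (Fin 2) F) :
      Subgroup (GL (Fin 2) F)) : Set (GL (Fin 2) F)) := hs
  rw [h1] at h2
  obtain ⟨c, hc, z, hz, rfl⟩ := h2
  refine ⟨c, hc, ?_⟩
  rcases zpowers_phi z hz with h | h
  · left
    show c * z = c
    rw [h, mul_one]
  · right
    show c * z = c * phiGL
    rw [h]

theorem det_sq_of_mem_C2 (hq : 4 ∣ Fintype.card F + 1) (a : GL (Fin 2) F)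
    (ha : a ∈ (C2 : Subgroup (GL (Fin 2) F))) :
    (a : Matrix (Fin 2) (Fin 2) F).det ^ 2 = 1 := by
  obtain ⟨_, k, hk⟩ := ha
  have h1 : (Matrix.GeneralLinearGroup.det a) ^ 2 ^ k = 1 := by
    rw [← map_pow, hk, map_one]
  have h3 : ((Matrix.GeneralLinearGroup.det a : Fˣ) : F) = (a : Matrix (Fin 2) (Fin 2) F).det :=
    rfl
  rw [← h3]
  rcases units_pm_one hq _ k h1 with h | h
  · rw [h]; simp
  · rw [h]; simp

theorem good_H2 (hq : 4 ∣ Fintype.card F + 1) (ζ : GL (Fin 2) F)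
    (hζ : ζ ∈ (C2 : Subgroup (GL (Fin 2) F))) (hζ4 : ζ ^ 4 ≠ 1) :
    Good (H2 : Subgroup (GL (Fin 2) F)) (C2 : Subgroup (GL (Fin 2) F)) := by
  refine ⟨le_sup_left, ?_, ?_, ?_⟩
  · intro a ha b hb
    exact C0_comm a ha.1 b hb.1
  · intro s hs a ha
    obtain ⟨c, hc, h | h⟩ := H2_elt s hs
    · rw [h]
      exact Subgroup.mul_mem _ (Subgroup.mul_mem _ hc ha) (Subgroup.inv_mem _ hc)
    · rw [h]
      have e : c * phiGL * a * (c * phiGL)⁻¹ = c * (phiGL * a * phiGL⁻¹) * c⁻¹ := by group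
      rw [e]
      exact Subgroup.mul_mem _ (Subgroup.mul_mem _ hc (phi_conj_mem_C2 a ha))
        (Subgroup.inv_mem _ hc)
  · intro s hs hsC
    obtain ⟨c, hc, h | h⟩ := H2_elt s hs
    · rw [h] at hsC
      exact absurd hc hsC
    · refine ⟨ζ, hζ, ?_⟩
      rw [h]
      set ζ' := phiGL * ζ * phiGL⁻¹ with hζ'
      have hζ'C : ζ' ∈ (C2 : Subgroup (GL (Fin 2) F)) := phi_conj_mem_C2 ζ hζ
      have hcomm1 : Commute c ζ'⁻¹ := C0_comm c hc.1 _ (Subgroup.inv_mem _ hζ'C.1)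
      have hcomm2 : Commute ζ ζ'⁻¹ := C0_comm ζ hζ.1 _ (Subgroup.inv_mem _ hζ'C.1)
      have hcomm3 : Commute ζ ζ' := C0_comm ζ hζ.1 _ hζ'C.1
      have e : ⁅ζ, c * phiGL⁆ = ζ * ζ'⁻¹ := by
        have e1 : ⁅ζ, c * phiGL⁆ = ζ * (c * ζ'⁻¹) * c⁻¹ := by
          rw [commutatorElement_def, hζ']
          group
        rw [e1, hcomm1.eq]
        group
      rw [e]
      intro h1
      apply hζ4
      rw [hcomm2.mul_pow, inv_pow, mul_inv_eq_one] at h1
      have h3 := sq_mul_phi_conj ζ hζ.1 (det_sq_of_mem_C2 hq ζ hζ)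
      rw [← hζ', hcomm3.mul_pow, ← h1, ← pow_add] at h3
      exact h3

theorem H2_pgroup_card (h2 : (2 : F) ≠ 0) (hns : ∀ t : F, t * t ≠ -1) :
    IsPGroup 2 ↥(H2 : Subgroup (GL (Fin 2) F)) ∧
      2 ^ (padicValNat 2 (Fintype.card F ^ 2 - 1) + 1) ≤
        Nat.card ↥(H2 : Subgroup (GL (Fin 2) F)) := by
  classical
  haveI : Fact (Nat.Prime 2) := ⟨Nat.prime_two⟩
  have hφ2 : (phiGL : GL (Fin 2) F) ^ 2 = 1 := by rw [pow_two]; exact phiGL_sq
  have hφ1 : (phiGL : GL (Fin 2) F) ≠ 1 := by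
    intro h
    apply phi_not_mem_C0 (F := F) h2
    rw [h]
    exact Subgroup.one_mem _
  have hord : orderOf (phiGL : GL (Fin 2) F) = 2 := orderOf_eq_prime hφ2 hφ1
  have hcard : Nat.card (Subgroup.zpowers (phiGL : GL (Fin 2) F)) = 2 := by
    rw [Nat.card_zpowers, hord]
  have hφp : IsPGroup 2 (Subgroup.zpowers (phiGL : GL (Fin 2) F)) :=
    IsPGroup.of_card (n := 1) (by rw [hcard, pow_one])
  refine ⟨IsPGroup.to_sup_of_normal_left' C2_pgroup hφp zpowers_le_normalizer_C2, ?_⟩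
  have hinf : (C2 : Subgroup (GL (Fin 2) F)) ⊓ Subgroup.zpowers (phiGL : GL (Fin 2) F) = ⊥ := by
    rw [eq_bot_iff]
    rintro z ⟨hz1, hz2⟩
    rcases zpowers_phi z hz2 with h | h
    · rw [h]; exact Subgroup.mem_bot.mpr rfl
    · exfalso
      apply phi_not_mem_C0 (F := F) h2
      rw [← h]
      exact hz1.1
  have h1 := card_mul_le_card_sup hinf
  rw [hcard] at h1
  refine le_trans ?_ h1
  rw [pow_succ]
  exact Nat.mul_le_mul_right _ (card_C2_ge hns)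

end GL2

end Cfsg.Agent.Lib.Helper5.NRk
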