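import Mathlib
import Cfsg.Agent.Lib.Helper5.NRkE
import Cfsg.Agent.Lib.Helper5.GLSylN

set_option autoImplicit false

namespace Cfsg.Agent.Lib.Helper5.NRk

open scoped commutatorElement MatrixGroups Nat
open Cfsg.Agent.Lib.Helper5.SymSyl

section Transfer

theorem NRk_sylow_of_subgroup {G : Type*} [Group G] [Finite G] (P : Subgroup G)
    (hP : IsPGroup 2 P) (hcard : 2 ^ padicValNat 2 (Nat.card G) ≤ Nat.card P) (r : ℕ)
    (h : NRk ↥P r) (S : Sylow 2 G) : NRk ↥(S : Subgroup G) r := by
  haveI : Fact (Nat.Prime 2) := ⟨Nat.prime_two⟩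
  have hc : Nat.card P = 2 ^ (Nat.card G).factorization 2 := by
    rw [Nat.factorization_def _ Nat.prime_two]
    exact card_eq_of_pgroup P hP _ (Nat.card_pos.ne') (Subgroup.card_subgroup_dvd_card P) hcard
  have h1 : NRk ↥((Sylow.ofCard P hc : Sylow 2 G) : Subgroup G) r := by
    rw [Sylow.coe_ofCard]
    exact h
  exact NRk_congr (Sylow.equiv (Sylow.ofCard P hc) S) h1

end Transfer

section Block

variable {ι κ : Type} [Fintype ι] [DecidableEq ι] [Fintype κ] [DecidableEq κ]
  {F : Type*} [Field F]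

def blkHom (ι κ : Type) [Fintype ι] [DecidableEq ι] [Fintype κ] [DecidableEq κ]
    (F : Type*) [Field F] :
    (Matrix ι ι F × Matrix κ κ F) →* Matrix (ι ⊕ κ) (ι ⊕ κ) F where
  toFun p := Matrix.fromBlocks p.1 0 0 p.2
  map_one' := Matrix.fromBlocks_one
  map_mul' p q := by
    rw [Matrix.fromBlocks_multiply]
    simp

noncomputable def blkGL (ι κ : Type) [Fintype ι] [DecidableEq ι] [Fintype κ] [DecidableEq κ]
    (F : Type*) [Field F] : GL ι F × GL κ F →* GL (ι ⊕ κ) F :=
  (Units.map (blkHom ι κ F)).comp (MulEquiv.prodUnits.symm.toMonoidHom)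

theorem blkGL_coe (A : GL ι F) (D : GL κ F) :
    ((blkGL ι κ F (A, D) : GL (ι ⊕ κ) F) : Matrix (ι ⊕ κ) (ι ⊕ κ) F) =
      Matrix.fromBlocks (A : Matrix ι ι F) 0 0 (D : Matrix κ κ F) := rfl

theorem blkGL_injective : Function.Injective (blkGL ι κ F) := by
  rintro ⟨A, D⟩ ⟨A', D'⟩ h
  have h1 := congrArg (fun g : GL (ι ⊕ κ) F => (g : Matrix (ι ⊕ κ) (ι ⊕ κ) F)) h
  simp only [blkGL_coe] at h1
  have h2 := congrArg Matrix.toBlocks₁₁ h1
  have h3 := congrArg Matrix.toBlocks₂₂ h1
  rw [Matrix.toBlocks_fromBlocks₁₁, Matrix.toBlocks_fromBlocks₁₁] at h2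
  rw [Matrix.toBlocks_fromBlocks₂₂, Matrix.toBlocks_fromBlocks₂₂] at h3
  rw [Units.ext h2, Units.ext h3]

variable {n' : Type} [Fintype n'] [DecidableEq n'] (e : ι ≃ n')

noncomputable def reGL : GL ι F →* GL n' F :=
  Units.map ((Matrix.reindexAlgEquiv F F e : Matrix ι ι F ≃ₐ[F] Matrix n' n' F) :
    Matrix ι ι F →* Matrix n' n' F)

theorem reGL_coe (A : GL ι F) :
    ((reGL e A : GL n' F) : Matrix n' n' F) = Matrix.reindex e e (A : Matrix ι ι F) := rfl

theorem reGL_injective : Function.Injective (reGL (F := F) e) := by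
  intro A B h
  have h1 := congrArg (fun g : GL n' F => (g : Matrix n' n' F)) h
  simp only [reGL_coe] at h1
  exact Units.ext ((Matrix.reindex e e).injective h1)

end Block

section Num

variable {F : Type*} [Field F] [Fintype F]

theorem v2_card_gl_mod3 (hq : 4 ∣ Fintype.card F + 1) (m r : ℕ) (hr : r ≤ 1) :
    padicValNat 2 (Nat.card (GL (Fin (2 * m + r)) F)) =
      (padicValNat 2 (Fintype.card F ^ 2 - 1) + 1) * m + padicValNat 2 m ! + r := by
  classical
  haveI : Fact (Nat.Prime 2) := ⟨Nat.prime_two⟩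
  have hq1 : 1 < Fintype.card F := Fintype.one_lt_card
  have hq3 : Fintype.card F % 4 = 3 := by omega
  have hodd : Odd (Fintype.card F) := by rw [Nat.odd_iff]; omega
  interval_cases r
  · have hlast : padicValNat 2 (Fintype.card F ^ (2 * m + 1) - 1) = 1 :=
      v2_of_mod4 _ (pow_odd_mod4 _ hq3 m)
    have h2 : padicValNat 2 (Nat.card (GL (Fin (2 * m)) F)) + 1 =
        (m + 1) + m * padicValNat 2 (Fintype.card F ^ 2 - 1) + padicValNat 2 m ! := by
      rw [Matrix.card_GL_field,
        Fin.prod_univ_eq_prod_range (fun i => Fintype.card F ^ (2 * m) - Fintype.card F ^ i)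
          (2 * m),
        v2_prod_gl _ hq1 hodd (2 * m) (2 * m) le_rfl, ← v2_sum _ hq3 m,
        Finset.sum_range_succ _ (2 * m), hlast,
        ← Finset.sum_range_reflect (fun j => padicValNat 2 (Fintype.card F ^ (j + 1) - 1))]
      congr 1
      apply Finset.sum_congr rfl
      intro i hi
      rw [Finset.mem_range] at hi
      congr 3
      omega
    have h3 : padicValNat 2 (Nat.card (GL (Fin (2 * m)) F)) =
        m + m * padicValNat 2 (Fintype.card F ^ 2 - 1) + padicValNat 2 m ! := by omega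
    rw [add_zero, h3]
    ring
  · have h2 : padicValNat 2 (Nat.card (GL (Fin (2 * m + 1)) F)) =
        (m + 1) + m * padicValNat 2 (Fintype.card F ^ 2 - 1) + padicValNat 2 m ! := by
      rw [Matrix.card_GL_field,
        Fin.prod_univ_eq_prod_range (fun i => Fintype.card F ^ (2 * m + 1) - Fintype.card F ^ i)
          (2 * m + 1),
        v2_prod_gl _ hq1 hodd (2 * m + 1) (2 * m + 1) le_rfl, ← v2_sum _ hq3 m,
        ← Finset.sum_range_reflect (fun j => padicValNat 2 (Fintype.card F ^ (j + 1) - 1))]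
      apply Finset.sum_congr rfl
      intro i hi
      rw [Finset.mem_range] at hi
      congr 3
      omega
    rw [h2]
    ring

theorem v2_card_gl_mod1 (hq : 4 ∣ Fintype.card F - 1) (n : ℕ) :
    padicValNat 2 (Nat.card (GL (Fin n) F)) =
      padicValNat 2 (Fintype.card F - 1) * n + padicValNat 2 n ! := by
  classical
  haveI : Fact (Nat.Prime 2) := ⟨Nat.prime_two⟩
  have hq1 : 1 < Fintype.card F := Fintype.one_lt_card
  have hq3 : Fintype.card F % 4 = 1 := by omega
  have hodd : Odd (Fintype.card F) := by rw [Nat.odd_iff]; omega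
  rw [Matrix.card_GL_field,
    Fin.prod_univ_eq_prod_range (fun i => Fintype.card F ^ n - Fintype.card F ^ i) n,
    v2_prod_gl _ hq1 hodd n n le_rfl, ← v2_sum_mod1 _ hq3 hq1 n,
    ← Finset.sum_range_reflect (fun j => padicValNat 2 (Fintype.card F ^ (j + 1) - 1))]
  apply Finset.sum_congr rfl
  intro i hi
  rw [Finset.mem_range] at hi
  congr 3
  omega

end Num

end Cfsg.Agent.Lib.Helper5.NRk
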