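import Mathlib
import Cfsg.Agent.Lib.Helper5.NRkF

set_option autoImplicit false

namespace Cfsg.Agent.Lib.Helper5.NRk

open scoped commutatorElement MatrixGroups Nat
open Cfsg.Agent.Lib.Helper5.SymSyl

section Main

variable {F : Type*} [Field F] [Fintype F]

theorem exists_sylow_perm (n : ℕ) :
    ∃ T : Subgroup (Equiv.Perm (Fin n)), Nat.card T = 2 ^ padicValNat 2 n ! := by
  classical
  haveI : Fact (Nat.Prime 2) := ⟨Nat.prime_two⟩
  obtain ⟨T⟩ : Nonempty (Sylow 2 (Equiv.Perm (Fin n))) := inferInstance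
  refine ⟨T, ?_⟩
  rw [T.card_eq_multiplicity, Nat.factorization_def _ Nat.prime_two, Nat.card_eq_fintype_card,
    Fintype.card_perm, Fintype.card_fin]

theorem case1 (hF : Odd (Fintype.card F)) (hq : 4 ∣ Fintype.card F - 1) (n : ℕ)
    (S : Sylow 2 (GL (Fin n) F)) : NRk ↥(S : Subgroup (GL (Fin n) F)) n := by
  classical
  haveI : Fact (Nat.Prime 2) := ⟨Nat.prime_two⟩
  obtain ⟨μ, hμcard, _, hneg, η, hη, hηη⟩ := exists_mu (F := F) hq
  obtain ⟨T, hT⟩ := exists_sylow_perm n
  have hgood0 : Good μ μ := by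
    refine ⟨le_rfl, fun a _ b _ => mul_comm a b, ?_, fun s hs hs' => absurd hs hs'⟩
    intro s _ a ha
    rw [mul_comm s a, mul_inv_cancel_right]
    exact ha
  have hη2 : η ^ 2 ≠ 1 := by
    rw [pow_two, hηη]
    exact neg_one_ne_one_units hF
  have hgood := good_wreath (baseMon (F := F) n) (topMon n) (topMon_mul_baseMon n)
    (baseMon_injective n) (baseMon_inf_topMon n) μ μ hgood0 η hη hη2 T
  have hμp : IsPGroup 2 μ := IsPGroup.of_card hμcard
  obtain ⟨hPp, hPcard⟩ := wreath_pgroup_card (p := 2) (baseMon (F := F) n) (topMon n)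
    (topMon_mul_baseMon n) (baseMon_injective n) (topMon_injective n) (baseMon_inf_topMon n)
    μ _ hμcard.ge hμp T _ hT
  have hom : Nat.card {c : Fˣ // c ∈ μ ∧ c ^ 2 = 1} = 2 := by
    have hset : {c : Fˣ | c ∈ μ ∧ c ^ 2 = 1} =
        (({1, -1} : Finset Fˣ) : Set Fˣ) := by
      ext c
      simp only [Set.mem_setOf_eq, Finset.coe_insert, Finset.coe_singleton, Set.mem_insert_iff,
        Set.mem_singleton_iff]
      constructor
      · rintro ⟨_, hc2⟩
        have h5 : (c : F) * (c : F) = 1 := by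
          have := congrArg Units.val hc2
          rwa [Units.val_pow_eq_pow_val, Units.val_one, pow_two] at this
        rcases mul_self_eq_one_iff.mp h5 with h | h
        · left; exact Units.ext h
        · right; exact Units.ext h
      · rintro (h | h)
        · rw [h]
          exact ⟨Subgroup.one_mem _, one_pow 2⟩
        · rw [h]
          exact ⟨hneg, by simp⟩
    have : Nat.card {c : Fˣ // c ∈ μ ∧ c ^ 2 = 1} =
        Nat.card ↥({c : Fˣ | c ∈ μ ∧ c ^ 2 = 1}) := rfl
    rw [this, hset, Nat.card_coe_set_eq, Set.ncard_coe_finset,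
      Finset.card_pair (neg_one_ne_one_units hF).symm]
  have hnrk := NRk_of_good _ _ hgood n (by
    rw [card_om_wreath (baseMon (F := F) n) (baseMon_injective n) μ, hom])
  apply NRk_sylow_of_subgroup _ hPp _ n hnrk S
  rw [v2_card_gl_mod1 hq n]
  exact hPcard

theorem card_Z (h2 : (2 : F) ≠ 0) (r : ℕ) (hr : r ≤ 1) :
    Nat.card (Subgroup.zpowers (-1 : GL (Fin r) F)) = 2 ^ r := by
  classical
  rw [Nat.card_zpowers]
  interval_cases r
  · have : (-1 : GL (Fin 0) F) = 1 := Subsingleton.elim _ _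
    rw [this, orderOf_one, pow_zero]
  · rw [pow_one]
    apply orderOf_eq_prime
    · simp
    · intro h
      have h1 := congrArg (fun g : GL (Fin 1) F => (g : Matrix (Fin 1) (Fin 1) F) 0 0) h
      simp only [Units.val_neg, Units.val_one, Matrix.neg_apply, Matrix.one_apply_eq] at h1
      apply h2
      linear_combination -h1

theorem Z_sq (r : ℕ) (z : GL (Fin r) F) (hz : z ∈ Subgroup.zpowers (-1 : GL (Fin r) F)) :
    z ^ 2 = 1 := by
  obtain ⟨k, rfl⟩ := Subgroup.mem_zpowers_iff.mp hz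
  rw [← zpow_natCast, ← zpow_mul, mul_comm, zpow_mul, zpow_natCast]
  simp

theorem case3 (hF : Odd (Fintype.card F)) (hq : 4 ∣ Fintype.card F + 1) (m r : ℕ) (hr : r ≤ 1)
    (S : Sylow 2 (GL (Fin (2 * m + r)) F)) :
    NRk ↥(S : Subgroup (GL (Fin (2 * m + r)) F)) (m + r) := by
  classical
  haveI : Fact (Nat.Prime 2) := ⟨Nat.prime_two⟩
  have hq1 : 1 < Fintype.card F := Fintype.one_lt_card
  have h2 : (2 : F) ≠ 0 := by
    intro h
    have hc : ringChar F = 2 :=
      CharP.ringChar_of_prime_eq_zero Nat.prime_two (by exact_mod_cast h)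
    have := FiniteField.even_card_of_char_two hc
    rw [Nat.odd_iff] at hF
    omega
  have hns : ∀ t : F, t * t ≠ -1 := by
    intro t ht
    have h3 : IsSquare (-1 : F) := ⟨t, ht.symm⟩
    rw [FiniteField.isSquare_neg_one_iff] at h3
    omega
  obtain ⟨T, hT⟩ := exists_sylow_perm m
  -- the 2-part of q^2 - 1 is at least 8
  have hN3 : 3 ≤ padicValNat 2 (Fintype.card F ^ 2 - 1) := by
    have h8 : 2 ^ 3 ∣ Fintype.card F ^ 2 - 1 := by
      obtain ⟨k, hk⟩ := hq
      have e : Fintype.card F = 4 * k - 1 := by omega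
      have hk1 : 1 ≤ k := by omega
      have e2 : Fintype.card F ^ 2 - 1 = (Fintype.card F - 1) * (Fintype.card F + 1) := by
        have h := Nat.sq_sub_sq (Fintype.card F) 1
        rw [one_pow] at h
        rw [h, mul_comm]
      rw [e2, hk]
      have e3 : Fintype.card F - 1 = 2 * (2 * k - 1) := by omega
      rw [e3]
      exact ⟨(2 * k - 1) * k, by ring⟩
    have hne : Fintype.card F ^ 2 - 1 ≠ 0 := by
      have : 1 < Fintype.card F ^ 2 := Nat.one_lt_pow (by norm_num) hq1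
      omega
    exact (padicValNat_dvd_iff_le hne).mp h8
  have h8 : 8 ≤ Nat.card (C2 : Subgroup (GL (Fin 2) F)) := by
    refine le_trans ?_ (card_C2_ge hns)
    calc 8 = 2 ^ 3 := by norm_num
      _ ≤ _ := Nat.pow_le_pow_right (by norm_num) hN3
  obtain ⟨ζ, hζ, hζ4⟩ := exists_zeta h2 hns h8
  have hζ2 : ζ ^ 2 ≠ 1 := by
    intro h
    apply hζ4
    have : ζ ^ 4 = (ζ ^ 2) ^ 2 := by rw [← pow_mul]
    rw [this, h, one_pow]
  have hgood0 := good_H2 hq ζ hζ hζ4
  obtain ⟨hH2p, hH2card⟩ := H2_pgroup_card (F := F) h2 hns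
  have hgood1 := good_wreath (baseGL (F := F) m) (topGL m) (topGL_mul_baseGL m)
    (baseGL_injective m) (baseGL_inf_topGL m) H2 C2 hgood0 ζ hζ hζ2 T
  obtain ⟨hP1p, hP1card⟩ := wreath_pgroup_card (p := 2) (baseGL (F := F) m) (topGL m)
    (topGL_mul_baseGL m) (baseGL_injective m) (topGL_injective m) (baseGL_inf_topGL m)
    H2 _ hH2card hH2p T _ hT
  set P1 : Subgroup (GL (Fin 2 × Fin m) F) :=
    (Subgroup.pi Set.univ fun _ : Fin m => (H2 : Subgroup (GL (Fin 2) F))).map (baseGL m) ⊔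
      T.map (topGL m) with hP1
  set A1 : Subgroup (GL (Fin 2 × Fin m) F) :=
    (Subgroup.pi Set.univ fun _ : Fin m => (C2 : Subgroup (GL (Fin 2) F))).map (baseGL m)
    with hA1
  set Z : Subgroup (GL (Fin r) F) := Subgroup.zpowers (-1 : GL (Fin r) F) with hZ
  have hZcomm : ∀ a ∈ Z, ∀ b ∈ Z, a * b = b * a := by
    intro a ha b hb
    obtain ⟨k, rfl⟩ := Subgroup.mem_zpowers_iff.mp ha
    obtain ⟨l, rfl⟩ := Subgroup.mem_zpowers_iff.mp hb
    rw [← zpow_add, ← zpow_add, add_comm]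
  have hgood2 := good_prod P1 A1 hgood1 Z hZcomm
  have hcardE : Fintype.card ((Fin 2 × Fin m) ⊕ Fin r) = Fintype.card (Fin (2 * m + r)) := by
    simp
  let e : (Fin 2 × Fin m) ⊕ Fin r ≃ Fin (2 * m + r) := Fintype.equivOfCardEq hcardE
  set Ψ : GL (Fin 2 × Fin m) F × GL (Fin r) F →* GL (Fin (2 * m + r)) F :=
    (reGL e).comp (blkGL (Fin 2 × Fin m) (Fin r) F) with hΨ
  have hΨinj : Function.Injective Ψ := by
    rw [hΨ, MonoidHom.coe_comp]
    exact (reGL_injective e).comp blkGL_injective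
  have hgood3 := good_map Ψ hΨinj _ _ hgood2
  have homZ : Nat.card {z : GL (Fin r) F // z ∈ Z ∧ z ^ 2 = 1} = 2 ^ r := by
    rw [← card_Z h2 r hr]
    apply Nat.card_congr
    exact
      { toFun := fun z => ⟨z.1, z.2.1⟩
        invFun := fun z => ⟨z.1, z.2, Z_sq r z.1 z.2⟩
        left_inv := fun z => rfl
        right_inv := fun z => rfl }
  have hom : Nat.card {a : GL (Fin (2 * m + r)) F // a ∈ (A1.prod Z).map Ψ ∧ a ^ 2 = 1} =
      2 ^ (m + r) := by
    rw [card_om_map Ψ hΨinj, card_om_prod, homZ, hA1,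
      card_om_wreath (baseGL (F := F) m) (baseGL_injective m) C2, card_om_C2 h2 hns, pow_add]
  have hnrk := NRk_of_good _ _ hgood3 (m + r) hom
  obtain ⟨k, hk⟩ := IsPGroup.iff_card.mp hP1p
  have hcardP : Nat.card ↥((P1.prod Z).map Ψ) = Nat.card P1 * 2 ^ r := by
    rw [Subgroup.card_map_of_injective hΨinj, Nat.card_congr (Subgroup.prodEquiv P1 Z).toEquiv,
      Nat.card_prod, card_Z h2 r hr]
  have hPp : IsPGroup 2 ↥((P1.prod Z).map Ψ) := by
    apply IsPGroup.of_card (n := k + r)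
    rw [hcardP, hk, pow_add]
  apply NRk_sylow_of_subgroup _ hPp _ (m + r) hnrk S
  rw [v2_card_gl_mod3 hq m r hr, hcardP, pow_add]
  exact Nat.mul_le_mul_right _ hP1card

end Main

end Cfsg.Agent.Lib.Helper5.NRk
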