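import Cfsg.Agent.Lib.Helper5.O8BaseData
import Cfsg.Agent.Lib.helper23.PgX

set_option autoImplicit false
set_option maxRecDepth 1000000
set_option Elab.async false

/-! The orthogonal group of plus type of degree eight over the field with two elements on 256 points: the checks of the stabiliser chain (generated). -/

namespace Cfsg.Agent.Lib.Helper5.O8M

open Cfsg.Agent.Lib.helper23 Subgroup MulAction

theorem o8bchk0x7 : pgChkLvlW0 256 o8bL7 [] = true := by decide +kernel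
theorem o8bchk0x6 : pgChkLvlW0 256 o8bL6 [o8bL7] = true := by decide +kernel
theorem o8bchk0x5 : pgChkLvlW0 256 o8bL5 [o8bL6, o8bL7] = true := by decide +kernel
theorem o8bchk0x4 : pgChkLvlW0 256 o8bL4 [o8bL5, o8bL6, o8bL7] = true := by decide +kernel
theorem o8bchk0x3 : pgChkLvlW0 256 o8bL3 [o8bL4, o8bL5, o8bL6, o8bL7] = true := by decide +kernel
theorem o8bchk0x2 : pgChkLvlW0 256 o8bL2 [o8bL3, o8bL4, o8bL5, o8bL6, o8bL7] = true := by decide +kernel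
theorem o8bchk0x1 : pgChkLvlW0 256 o8bL1 [o8bL2, o8bL3, o8bL4, o8bL5, o8bL6, o8bL7] = true := by decide +kernel

theorem o8bcl7x0 : pgChkGenW 256 (List.range 256) o8bL7 []
    (o8bgen o8bT7x0 o8bI7x0) 0 256 = true := by
  decide +kernel
theorem o8bcl7x1 : pgChkGenW 256 (List.range 256) o8bL7 []
    (o8bgen o8bT7x1 o8bI7x1) 0 256 = true := by
  decide +kernel
theorem o8bcl6x0 : pgChkGenW 256 (List.range 256) o8bL6 [o8bL7]
    (o8bgen o8bT6x0 o8bI6x0) 0 256 = true := by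
  decide +kernel
theorem o8bcl6x1 : pgChkGenW 256 (List.range 256) o8bL6 [o8bL7]
    (o8bgen o8bT6x1 o8bI6x1) 0 256 = true := by
  decide +kernel
theorem o8bcl6x2 : pgChkGenW 256 (List.range 256) o8bL6 [o8bL7]
    (o8bgen o8bT6x2 o8bI6x2) 0 256 = true := by
  decide +kernel
theorem o8bcl5x0 : pgChkGenW 256 (List.range 256) o8bL5 [o8bL6, o8bL7]
    (o8bgen o8bT5x0 o8bI5x0) 0 256 = true := by
  decide +kernel
theorem o8bcl5x1 : pgChkGenW 256 (List.range 256) o8bL5 [o8bL6, o8bL7]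
    (o8bgen o8bT5x1 o8bI5x1) 0 256 = true := by
  decide +kernel
theorem o8bcl5x2 : pgChkGenW 256 (List.range 256) o8bL5 [o8bL6, o8bL7]
    (o8bgen o8bT5x2 o8bI5x2) 0 256 = true := by
  decide +kernel
theorem o8bcl5x3 : pgChkGenW 256 (List.range 256) o8bL5 [o8bL6, o8bL7]
    (o8bgen o8bT5x3 o8bI5x3) 0 256 = true := by
  decide +kernel
theorem o8bcl5x4 : pgChkGenW 256 (List.range 256) o8bL5 [o8bL6, o8bL7]
    (o8bgen o8bT5x4 o8bI5x4) 0 256 = true := by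
  decide +kernel
theorem o8bcl5x5 : pgChkGenW 256 (List.range 256) o8bL5 [o8bL6, o8bL7]
    (o8bgen o8bT5x5 o8bI5x5) 0 256 = true := by
  decide +kernel
theorem o8bcl4x0 : pgChkGenW 256 (List.range 256) o8bL4 [o8bL5, o8bL6, o8bL7]
    (o8bgen o8bT4x0 o8bI4x0) 0 256 = true := by
  decide +kernel
theorem o8bcl4x1 : pgChkGenW 256 (List.range 256) o8bL4 [o8bL5, o8bL6, o8bL7]
    (o8bgen o8bT4x1 o8bI4x1) 0 256 = true := by
  decide +kernel
theorem o8bcl4x2 : pgChkGenW 256 (List.range 256) o8bL4 [o8bL5, o8bL6, o8bL7]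
    (o8bgen o8bT4x2 o8bI4x2) 0 256 = true := by
  decide +kernel
theorem o8bcl4x3 : pgChkGenW 256 (List.range 256) o8bL4 [o8bL5, o8bL6, o8bL7]
    (o8bgen o8bT4x3 o8bI4x3) 0 256 = true := by
  decide +kernel
theorem o8bcl4x4 : pgChkGenW 256 (List.range 256) o8bL4 [o8bL5, o8bL6, o8bL7]
    (o8bgen o8bT4x4 o8bI4x4) 0 256 = true := by
  decide +kernel
theorem o8bcl4x5 : pgChkGenW 256 (List.range 256) o8bL4 [o8bL5, o8bL6, o8bL7]
    (o8bgen o8bT4x5 o8bI4x5) 0 256 = true := by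
  decide +kernel
theorem o8bcl3x0 : pgChkGenW 256 (List.range 256) o8bL3 [o8bL4, o8bL5, o8bL6, o8bL7]
    (o8bgen o8bT3x0 o8bI3x0) 0 256 = true := by
  decide +kernel
theorem o8bcl3x1 : pgChkGenW 256 (List.range 256) o8bL3 [o8bL4, o8bL5, o8bL6, o8bL7]
    (o8bgen o8bT3x1 o8bI3x1) 0 256 = true := by
  decide +kernel
theorem o8bcl3x2 : pgChkGenW 256 (List.range 256) o8bL3 [o8bL4, o8bL5, o8bL6, o8bL7]
    (o8bgen o8bT3x2 o8bI3x2) 0 256 = true := by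
  decide +kernel
theorem o8bcl2x0 : pgChkGenW 256 (List.range 256) o8bL2 [o8bL3, o8bL4, o8bL5, o8bL6, o8bL7]
    (o8bgen o8bT2x0 o8bI2x0) 0 256 = true := by
  decide +kernel
theorem o8bcl2x1 : pgChkGenW 256 (List.range 256) o8bL2 [o8bL3, o8bL4, o8bL5, o8bL6, o8bL7]
    (o8bgen o8bT2x1 o8bI2x1) 0 256 = true := by
  decide +kernel
theorem o8bcl1x0 : pgChkGenW 256 (List.range 256) o8bL1 [o8bL2, o8bL3, o8bL4, o8bL5, o8bL6, o8bL7]
    (o8bgen o8bT1x0 o8bI1x0) 0 256 = true := by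
  decide +kernel
theorem o8bcl1x1 : pgChkGenW 256 (List.range 256) o8bL1 [o8bL2, o8bL3, o8bL4, o8bL5, o8bL6, o8bL7]
    (o8bgen o8bT1x1 o8bI1x1) 0 256 = true := by
  decide +kernel
theorem o8bcl1x2 : pgChkGenW 256 (List.range 256) o8bL1 [o8bL2, o8bL3, o8bL4, o8bL5, o8bL6, o8bL7]
    (o8bgen o8bT1x2 o8bI1x2) 0 256 = true := by
  decide +kernel
theorem o8bcl1x3 : pgChkGenW 256 (List.range 256) o8bL1 [o8bL2, o8bL3, o8bL4, o8bL5, o8bL6, o8bL7]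
    (o8bgen o8bT1x3 o8bI1x3) 0 256 = true := by
  decide +kernel
theorem o8bcl1x4 : pgChkGenW 256 (List.range 256) o8bL1 [o8bL2, o8bL3, o8bL4, o8bL5, o8bL6, o8bL7]
    (o8bgen o8bT1x4 o8bI1x4) 0 256 = true := by
  decide +kernel
theorem o8bcl1x5 : pgChkGenW 256 (List.range 256) o8bL1 [o8bL2, o8bL3, o8bL4, o8bL5, o8bL6, o8bL7]
    (o8bgen o8bT1x5 o8bI1x5) 0 256 = true := by
  decide +kernel
theorem o8bcl1x6 : pgChkGenW 256 (List.range 256) o8bL1 [o8bL2, o8bL3, o8bL4, o8bL5, o8bL6, o8bL7]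
    (o8bgen o8bT1x6 o8bI1x6) 0 256 = true := by
  decide +kernel
theorem o8bcl1x7 : pgChkGenW 256 (List.range 256) o8bL1 [o8bL2, o8bL3, o8bL4, o8bL5, o8bL6, o8bL7]
    (o8bgen o8bT1x7 o8bI1x7) 0 256 = true := by
  decide +kernel
theorem o8bcl1x8 : pgChkGenW 256 (List.range 256) o8bL1 [o8bL2, o8bL3, o8bL4, o8bL5, o8bL6, o8bL7]
    (o8bgen o8bT1x8 o8bI1x8) 0 256 = true := by
  decide +kernel
theorem o8bcl1x9 : pgChkGenW 256 (List.range 256) o8bL1 [o8bL2, o8bL3, o8bL4, o8bL5, o8bL6, o8bL7]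
    (o8bgen o8bT1x9 o8bI1x9) 0 256 = true := by
  decide +kernel
theorem o8bcl1x10 : pgChkGenW 256 (List.range 256) o8bL1 [o8bL2, o8bL3, o8bL4, o8bL5, o8bL6, o8bL7]
    (o8bgen o8bT1x10 o8bI1x10) 0 256 = true := by
  decide +kernel
theorem o8bcl1x11 : pgChkGenW 256 (List.range 256) o8bL1 [o8bL2, o8bL3, o8bL4, o8bL5, o8bL6, o8bL7]
    (o8bgen o8bT1x11 o8bI1x11) 0 256 = true := by
  decide +kernel
theorem o8bcl1x12 : pgChkGenW 256 (List.range 256) o8bL1 [o8bL2, o8bL3, o8bL4, o8bL5, o8bL6, o8bL7]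
    (o8bgen o8bT1x12 o8bI1x12) 0 256 = true := by
  decide +kernel
theorem o8bcl1x13 : pgChkGenW 256 (List.range 256) o8bL1 [o8bL2, o8bL3, o8bL4, o8bL5, o8bL6, o8bL7]
    (o8bgen o8bT1x13 o8bI1x13) 0 256 = true := by
  decide +kernel
theorem o8bcl1x14 : pgChkGenW 256 (List.range 256) o8bL1 [o8bL2, o8bL3, o8bL4, o8bL5, o8bL6, o8bL7]
    (o8bgen o8bT1x14 o8bI1x14) 0 256 = true := by
  decide +kernel
theorem o8bcl1x15 : pgChkGenW 256 (List.range 256) o8bL1 [o8bL2, o8bL3, o8bL4, o8bL5, o8bL6, o8bL7]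
    (o8bgen o8bT1x15 o8bI1x15) 0 256 = true := by
  decide +kernel
theorem o8bcl1x16 : pgChkGenW 256 (List.range 256) o8bL1 [o8bL2, o8bL3, o8bL4, o8bL5, o8bL6, o8bL7]
    (o8bgen o8bT1x16 o8bI1x16) 0 256 = true := by
  decide +kernel
theorem o8bcl1x17 : pgChkGenW 256 (List.range 256) o8bL1 [o8bL2, o8bL3, o8bL4, o8bL5, o8bL6, o8bL7]
    (o8bgen o8bT1x17 o8bI1x17) 0 256 = true := by
  decide +kernel
theorem o8bcl1x18 : pgChkGenW 256 (List.range 256) o8bL1 [o8bL2, o8bL3, o8bL4, o8bL5, o8bL6, o8bL7]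
    (o8bgen o8bT1x18 o8bI1x18) 0 256 = true := by
  decide +kernel
theorem o8bcl1x19 : pgChkGenW 256 (List.range 256) o8bL1 [o8bL2, o8bL3, o8bL4, o8bL5, o8bL6, o8bL7]
    (o8bgen o8bT1x19 o8bI1x19) 0 256 = true := by
  decide +kernel
theorem o8bcl1x20 : pgChkGenW 256 (List.range 256) o8bL1 [o8bL2, o8bL3, o8bL4, o8bL5, o8bL6, o8bL7]
    (o8bgen o8bT1x20 o8bI1x20) 0 256 = true := by
  decide +kernel
theorem o8bcl1x21 : pgChkGenW 256 (List.range 256) o8bL1 [o8bL2, o8bL3, o8bL4, o8bL5, o8bL6, o8bL7]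
    (o8bgen o8bT1x21 o8bI1x21) 0 256 = true := by
  decide +kernel
theorem o8bcl1x22 : pgChkGenW 256 (List.range 256) o8bL1 [o8bL2, o8bL3, o8bL4, o8bL5, o8bL6, o8bL7]
    (o8bgen o8bT1x22 o8bI1x22) 0 256 = true := by
  decide +kernel
theorem o8bcl1x23 : pgChkGenW 256 (List.range 256) o8bL1 [o8bL2, o8bL3, o8bL4, o8bL5, o8bL6, o8bL7]
    (o8bgen o8bT1x23 o8bI1x23) 0 256 = true := by
  decide +kernel

theorem o8bchkL7 : pgChkLvlW 256 (List.range 256) o8bL7 [] = true := by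
  apply pgChkLvlW_ofAllX o8bchk0x7
  intro s hs
  change s ∈ [o8bgen o8bT7x0 o8bI7x0, o8bgen o8bT7x1 o8bI7x1] at hs
  simp only [List.mem_cons, List.not_mem_nil, or_false] at hs
  rcases hs with rfl | rfl
  · exact o8bcl7x0
  · exact o8bcl7x1

theorem o8bchkL6 : pgChkLvlW 256 (List.range 256) o8bL6 [o8bL7] = true := by
  apply pgChkLvlW_ofAllX o8bchk0x6
  intro s hs
  change s ∈ [o8bgen o8bT6x0 o8bI6x0, o8bgen o8bT6x1 o8bI6x1, o8bgen o8bT6x2 o8bI6x2] at hs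
  simp only [List.mem_cons, List.not_mem_nil, or_false] at hs
  rcases hs with rfl | rfl | rfl
  · exact o8bcl6x0
  · exact o8bcl6x1
  · exact o8bcl6x2

theorem o8bchkL5 : pgChkLvlW 256 (List.range 256) o8bL5 [o8bL6, o8bL7] = true := by
  apply pgChkLvlW_ofAllX o8bchk0x5
  intro s hs
  change s ∈ [o8bgen o8bT5x0 o8bI5x0, o8bgen o8bT5x1 o8bI5x1, o8bgen o8bT5x2 o8bI5x2, o8bgen o8bT5x3 o8bI5x3, o8bgen o8bT5x4 o8bI5x4, o8bgen o8bT5x5 o8bI5x5] at hs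
  simp only [List.mem_cons, List.not_mem_nil, or_false] at hs
  rcases hs with rfl | rfl | rfl | rfl | rfl | rfl
  · exact o8bcl5x0
  · exact o8bcl5x1
  · exact o8bcl5x2
  · exact o8bcl5x3
  · exact o8bcl5x4
  · exact o8bcl5x5

theorem o8bchkL4 : pgChkLvlW 256 (List.range 256) o8bL4 [o8bL5, o8bL6, o8bL7] = true := by
  apply pgChkLvlW_ofAllX o8bchk0x4
  intro s hs
  change s ∈ [o8bgen o8bT4x0 o8bI4x0, o8bgen o8bT4x1 o8bI4x1, o8bgen o8bT4x2 o8bI4x2, o8bgen o8bT4x3 o8bI4x3, o8bgen o8bT4x4 o8bI4x4, o8bgen o8bT4x5 o8bI4x5] at hs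
  simp only [List.mem_cons, List.not_mem_nil, or_false] at hs
  rcases hs with rfl | rfl | rfl | rfl | rfl | rfl
  · exact o8bcl4x0
  · exact o8bcl4x1
  · exact o8bcl4x2
  · exact o8bcl4x3
  · exact o8bcl4x4
  · exact o8bcl4x5

theorem o8bchkL3 : pgChkLvlW 256 (List.range 256) o8bL3 [o8bL4, o8bL5, o8bL6, o8bL7] = true := by
  apply pgChkLvlW_ofAllX o8bchk0x3
  intro s hs
  change s ∈ [o8bgen o8bT3x0 o8bI3x0, o8bgen o8bT3x1 o8bI3x1, o8bgen o8bT3x2 o8bI3x2] at hs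
  simp only [List.mem_cons, List.not_mem_nil, or_false] at hs
  rcases hs with rfl | rfl | rfl
  · exact o8bcl3x0
  · exact o8bcl3x1
  · exact o8bcl3x2

theorem o8bchkL2 : pgChkLvlW 256 (List.range 256) o8bL2 [o8bL3, o8bL4, o8bL5, o8bL6, o8bL7] = true := by
  apply pgChkLvlW_ofAllX o8bchk0x2
  intro s hs
  change s ∈ [o8bgen o8bT2x0 o8bI2x0, o8bgen o8bT2x1 o8bI2x1] at hs
  simp only [List.mem_cons, List.not_mem_nil, or_false] at hs
  rcases hs with rfl | rfl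
  · exact o8bcl2x0
  · exact o8bcl2x1

theorem o8bchkL1 : pgChkLvlW 256 (List.range 256) o8bL1 [o8bL2, o8bL3, o8bL4, o8bL5, o8bL6, o8bL7] = true := by
  apply pgChkLvlW_ofAllX o8bchk0x1
  intro s hs
  change s ∈ [o8bgen o8bT1x0 o8bI1x0, o8bgen o8bT1x1 o8bI1x1, o8bgen o8bT1x2 o8bI1x2, o8bgen o8bT1x3 o8bI1x3, o8bgen o8bT1x4 o8bI1x4, o8bgen o8bT1x5 o8bI1x5, o8bgen o8bT1x6 o8bI1x6, o8bgen o8bT1x7 o8bI1x7, o8bgen o8bT1x8 o8bI1x8, o8bgen o8bT1x9 o8bI1x9, o8bgen o8bT1x10 o8bI1x10, o8bgen o8bT1x11 o8bI1x11, o8bgen o8bT1x12 o8bI1x12, o8bgen o8bT1x13 o8bI1x13, o8bgen o8bT1x14 o8bI1x14, o8bgen o8bT1x15 o8bI1x15, o8bgen o8bT1x16 o8bI1x16, o8bgen o8bT1x17 o8bI1x17, o8bgen o8bT1x18 o8bI1x18, o8bgen o8bT1x19 o8bI1x19, o8bgen o8bT1x20 o8bI1x20, o8bgen o8bT1x21 o8bI1x21, o8bgen o8bT1x22 o8bI1x22, o8bgen o8bT1x23 o8bI1x23] at hs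
  simp only [List.mem_cons, List.not_mem_nil, or_false] at hs
  rcases hs with rfl | rfl | rfl | rfl | rfl | rfl | rfl | rfl | rfl | rfl | rfl | rfl | rfl | rfl | rfl | rfl | rfl | rfl | rfl | rfl | rfl | rfl | rfl | rfl
  · exact o8bcl1x0
  · exact o8bcl1x1
  · exact o8bcl1x2
  · exact o8bcl1x3
  · exact o8bcl1x4
  · exact o8bcl1x5
  · exact o8bcl1x6
  · exact o8bcl1x7
  · exact o8bcl1x8
  · exact o8bcl1x9
  · exact o8bcl1x10
  · exact o8bcl1x11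
  · exact o8bcl1x12
  · exact o8bcl1x13
  · exact o8bcl1x14
  · exact o8bcl1x15
  · exact o8bcl1x16
  · exact o8bcl1x17
  · exact o8bcl1x18
  · exact o8bcl1x19
  · exact o8bcl1x20
  · exact o8bcl1x21
  · exact o8bcl1x22
  · exact o8bcl1x23

/-- the stabiliser chain -/
def o8bC : List PgLvlW := [o8bL1, o8bL2, o8bL3, o8bL4, o8bL5, o8bL6, o8bL7]

theorem o8bchkC : pgChkW 256 (pgRigidAll 256).base o8bC = true := by
  change pgChkW 256 (List.range 256) [o8bL1, o8bL2, o8bL3, o8bL4, o8bL5, o8bL6, o8bL7] = true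
  rw [pgChkW_cons, pgChkW_cons, pgChkW_cons, pgChkW_cons, pgChkW_cons, pgChkW_cons, pgChkW_cons, o8bchkL1, o8bchkL2, o8bchkL3, o8bchkL4, o8bchkL5, o8bchkL6, o8bchkL7]
  rfl

end Cfsg.Agent.Lib.Helper5.O8M
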