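import Cfsg.Agent.Lib.Helper5.O8CovData
import Cfsg.Agent.Lib.helper23.PgX

set_option autoImplicit false
set_option maxRecDepth 1000000
set_option Elab.async false

/-! The fourfold cover of the orthogonal group of plus type of degree eight over the field with two elements on 736 points: the checks of the stabiliser chain (generated). -/

namespace Cfsg.Agent.Lib.Helper5.O8Cov

open Cfsg.Agent.Lib.helper23 Subgroup MulAction

theorem o8cchk0x9 : pgChkLvlW0 736 o8cL9 [] = true := by decide +kernel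
theorem o8cchk0x8 : pgChkLvlW0 736 o8cL8 [o8cL9] = true := by decide +kernel
theorem o8cchk0x7 : pgChkLvlW0 736 o8cL7 [o8cL8, o8cL9] = true := by decide +kernel
theorem o8cchk0x6 : pgChkLvlW0 736 o8cL6 [o8cL7, o8cL8, o8cL9] = true := by decide +kernel
theorem o8cchk0x5 : pgChkLvlW0 736 o8cL5 [o8cL6, o8cL7, o8cL8, o8cL9] = true := by decide +kernel
theorem o8cchk0x4 : pgChkLvlW0 736 o8cL4 [o8cL5, o8cL6, o8cL7, o8cL8, o8cL9] = true := by decide +kernel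
theorem o8cchk0x3 : pgChkLvlW0 736 o8cL3 [o8cL4, o8cL5, o8cL6, o8cL7, o8cL8, o8cL9] = true := by decide +kernel
theorem o8cchk0x2 : pgChkLvlW0 736 o8cL2 [o8cL3, o8cL4, o8cL5, o8cL6, o8cL7, o8cL8, o8cL9] = true := by decide +kernel
theorem o8cchk0x1 : pgChkLvlW0 736 o8cL1 [o8cL2, o8cL3, o8cL4, o8cL5, o8cL6, o8cL7, o8cL8, o8cL9] = true := by decide +kernel

theorem o8ccl9x0 : pgChkGenW 736 (List.range 736) o8cL9 []
    (o8cgen o8cT9x0 o8cI9x0) 0 736 = true := by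
  decide +kernel
theorem o8ccl9x1 : pgChkGenW 736 (List.range 736) o8cL9 []
    (o8cgen o8cT9x1 o8cI9x1) 0 736 = true := by
  decide +kernel
theorem o8ccl8x0 : pgChkGenW 736 (List.range 736) o8cL8 [o8cL9]
    (o8cgen o8cT8x0 o8cI8x0) 0 736 = true := by
  decide +kernel
theorem o8ccl8x1 : pgChkGenW 736 (List.range 736) o8cL8 [o8cL9]
    (o8cgen o8cT8x1 o8cI8x1) 0 736 = true := by
  decide +kernel
theorem o8ccl7x0 : pgChkGenW 736 (List.range 736) o8cL7 [o8cL8, o8cL9]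
    (o8cgen o8cT7x0 o8cI7x0) 0 736 = true := by
  decide +kernel
theorem o8ccl7x1 : pgChkGenW 736 (List.range 736) o8cL7 [o8cL8, o8cL9]
    (o8cgen o8cT7x1 o8cI7x1) 0 736 = true := by
  decide +kernel
theorem o8ccl7x2 : pgChkGenW 736 (List.range 736) o8cL7 [o8cL8, o8cL9]
    (o8cgen o8cT7x2 o8cI7x2) 0 736 = true := by
  decide +kernel
theorem o8ccl6x0 : pgChkGenW 736 (List.range 736) o8cL6 [o8cL7, o8cL8, o8cL9]
    (o8cgen o8cT6x0 o8cI6x0) 0 736 = true := by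
  decide +kernel
theorem o8ccl6x1 : pgChkGenW 736 (List.range 736) o8cL6 [o8cL7, o8cL8, o8cL9]
    (o8cgen o8cT6x1 o8cI6x1) 0 736 = true := by
  decide +kernel
theorem o8ccl6x2 : pgChkGenW 736 (List.range 736) o8cL6 [o8cL7, o8cL8, o8cL9]
    (o8cgen o8cT6x2 o8cI6x2) 0 736 = true := by
  decide +kernel
theorem o8ccl6x3 : pgChkGenW 736 (List.range 736) o8cL6 [o8cL7, o8cL8, o8cL9]
    (o8cgen o8cT6x3 o8cI6x3) 0 736 = true := by
  decide +kernel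
theorem o8ccl6x4 : pgChkGenW 736 (List.range 736) o8cL6 [o8cL7, o8cL8, o8cL9]
    (o8cgen o8cT6x4 o8cI6x4) 0 736 = true := by
  decide +kernel
theorem o8ccl5x0 : pgChkGenW 736 (List.range 736) o8cL5 [o8cL6, o8cL7, o8cL8, o8cL9]
    (o8cgen o8cT5x0 o8cI5x0) 0 736 = true := by
  decide +kernel
theorem o8ccl5x1 : pgChkGenW 736 (List.range 736) o8cL5 [o8cL6, o8cL7, o8cL8, o8cL9]
    (o8cgen o8cT5x1 o8cI5x1) 0 736 = true := by
  decide +kernel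
theorem o8ccl5x2 : pgChkGenW 736 (List.range 736) o8cL5 [o8cL6, o8cL7, o8cL8, o8cL9]
    (o8cgen o8cT5x2 o8cI5x2) 0 736 = true := by
  decide +kernel
theorem o8ccl5x3 : pgChkGenW 736 (List.range 736) o8cL5 [o8cL6, o8cL7, o8cL8, o8cL9]
    (o8cgen o8cT5x3 o8cI5x3) 0 736 = true := by
  decide +kernel
theorem o8ccl5x4 : pgChkGenW 736 (List.range 736) o8cL5 [o8cL6, o8cL7, o8cL8, o8cL9]
    (o8cgen o8cT5x4 o8cI5x4) 0 736 = true := by
  decide +kernel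
theorem o8ccl5x5 : pgChkGenW 736 (List.range 736) o8cL5 [o8cL6, o8cL7, o8cL8, o8cL9]
    (o8cgen o8cT5x5 o8cI5x5) 0 736 = true := by
  decide +kernel
theorem o8ccl5x6 : pgChkGenW 736 (List.range 736) o8cL5 [o8cL6, o8cL7, o8cL8, o8cL9]
    (o8cgen o8cT5x6 o8cI5x6) 0 736 = true := by
  decide +kernel
theorem o8ccl4x0 : pgChkGenW 736 (List.range 736) o8cL4 [o8cL5, o8cL6, o8cL7, o8cL8, o8cL9]
    (o8cgen o8cT4x0 o8cI4x0) 0 736 = true := by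
  decide +kernel
theorem o8ccl4x1 : pgChkGenW 736 (List.range 736) o8cL4 [o8cL5, o8cL6, o8cL7, o8cL8, o8cL9]
    (o8cgen o8cT4x1 o8cI4x1) 0 736 = true := by
  decide +kernel
theorem o8ccl4x2 : pgChkGenW 736 (List.range 736) o8cL4 [o8cL5, o8cL6, o8cL7, o8cL8, o8cL9]
    (o8cgen o8cT4x2 o8cI4x2) 0 736 = true := by
  decide +kernel
theorem o8ccl4x3 : pgChkGenW 736 (List.range 736) o8cL4 [o8cL5, o8cL6, o8cL7, o8cL8, o8cL9]
    (o8cgen o8cT4x3 o8cI4x3) 0 736 = true := by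
  decide +kernel
theorem o8ccl4x4 : pgChkGenW 736 (List.range 736) o8cL4 [o8cL5, o8cL6, o8cL7, o8cL8, o8cL9]
    (o8cgen o8cT4x4 o8cI4x4) 0 736 = true := by
  decide +kernel
theorem o8ccl4x5 : pgChkGenW 736 (List.range 736) o8cL4 [o8cL5, o8cL6, o8cL7, o8cL8, o8cL9]
    (o8cgen o8cT4x5 o8cI4x5) 0 736 = true := by
  decide +kernel
theorem o8ccl3x0 : pgChkGenW 736 (List.range 736) o8cL3 [o8cL4, o8cL5, o8cL6, o8cL7, o8cL8, o8cL9]
    (o8cgen o8cT3x0 o8cI3x0) 0 736 = true := by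
  decide +kernel
theorem o8ccl3x1 : pgChkGenW 736 (List.range 736) o8cL3 [o8cL4, o8cL5, o8cL6, o8cL7, o8cL8, o8cL9]
    (o8cgen o8cT3x1 o8cI3x1) 0 736 = true := by
  decide +kernel
theorem o8ccl2x0 : pgChkGenW 736 (List.range 736) o8cL2 [o8cL3, o8cL4, o8cL5, o8cL6, o8cL7, o8cL8, o8cL9]
    (o8cgen o8cT2x0 o8cI2x0) 0 736 = true := by
  decide +kernel
theorem o8ccl2x1 : pgChkGenW 736 (List.range 736) o8cL2 [o8cL3, o8cL4, o8cL5, o8cL6, o8cL7, o8cL8, o8cL9]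
    (o8cgen o8cT2x1 o8cI2x1) 0 736 = true := by
  decide +kernel
theorem o8ccl1x0 : pgChkGenW 736 (List.range 736) o8cL1 [o8cL2, o8cL3, o8cL4, o8cL5, o8cL6, o8cL7, o8cL8, o8cL9]
    (o8cgen o8cT1x0 o8cI1x0) 0 736 = true := by
  decide +kernel
theorem o8ccl1x1 : pgChkGenW 736 (List.range 736) o8cL1 [o8cL2, o8cL3, o8cL4, o8cL5, o8cL6, o8cL7, o8cL8, o8cL9]
    (o8cgen o8cT1x1 o8cI1x1) 0 736 = true := by
  decide +kernel
theorem o8ccl1x2 : pgChkGenW 736 (List.range 736) o8cL1 [o8cL2, o8cL3, o8cL4, o8cL5, o8cL6, o8cL7, o8cL8, o8cL9]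
    (o8cgen o8cT1x2 o8cI1x2) 0 736 = true := by
  decide +kernel
theorem o8ccl1x3 : pgChkGenW 736 (List.range 736) o8cL1 [o8cL2, o8cL3, o8cL4, o8cL5, o8cL6, o8cL7, o8cL8, o8cL9]
    (o8cgen o8cT1x3 o8cI1x3) 0 736 = true := by
  decide +kernel
theorem o8ccl1x4 : pgChkGenW 736 (List.range 736) o8cL1 [o8cL2, o8cL3, o8cL4, o8cL5, o8cL6, o8cL7, o8cL8, o8cL9]
    (o8cgen o8cT1x4 o8cI1x4) 0 736 = true := by
  decide +kernel
theorem o8ccl1x5 : pgChkGenW 736 (List.range 736) o8cL1 [o8cL2, o8cL3, o8cL4, o8cL5, o8cL6, o8cL7, o8cL8, o8cL9]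
    (o8cgen o8cT1x5 o8cI1x5) 0 736 = true := by
  decide +kernel
theorem o8ccl1x6 : pgChkGenW 736 (List.range 736) o8cL1 [o8cL2, o8cL3, o8cL4, o8cL5, o8cL6, o8cL7, o8cL8, o8cL9]
    (o8cgen o8cT1x6 o8cI1x6) 0 736 = true := by
  decide +kernel
theorem o8ccl1x7 : pgChkGenW 736 (List.range 736) o8cL1 [o8cL2, o8cL3, o8cL4, o8cL5, o8cL6, o8cL7, o8cL8, o8cL9]
    (o8cgen o8cT1x7 o8cI1x7) 0 736 = true := by
  decide +kernel
theorem o8ccl1x8 : pgChkGenW 736 (List.range 736) o8cL1 [o8cL2, o8cL3, o8cL4, o8cL5, o8cL6, o8cL7, o8cL8, o8cL9]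
    (o8cgen o8cT1x8 o8cI1x8) 0 736 = true := by
  decide +kernel
theorem o8ccl1x9 : pgChkGenW 736 (List.range 736) o8cL1 [o8cL2, o8cL3, o8cL4, o8cL5, o8cL6, o8cL7, o8cL8, o8cL9]
    (o8cgen o8cT1x9 o8cI1x9) 0 736 = true := by
  decide +kernel
theorem o8ccl1x10 : pgChkGenW 736 (List.range 736) o8cL1 [o8cL2, o8cL3, o8cL4, o8cL5, o8cL6, o8cL7, o8cL8, o8cL9]
    (o8cgen o8cT1x10 o8cI1x10) 0 736 = true := by
  decide +kernel
theorem o8ccl1x11 : pgChkGenW 736 (List.range 736) o8cL1 [o8cL2, o8cL3, o8cL4, o8cL5, o8cL6, o8cL7, o8cL8, o8cL9]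
    (o8cgen o8cT1x11 o8cI1x11) 0 736 = true := by
  decide +kernel
theorem o8ccl1x12 : pgChkGenW 736 (List.range 736) o8cL1 [o8cL2, o8cL3, o8cL4, o8cL5, o8cL6, o8cL7, o8cL8, o8cL9]
    (o8cgen o8cT1x12 o8cI1x12) 0 736 = true := by
  decide +kernel
theorem o8ccl1x13 : pgChkGenW 736 (List.range 736) o8cL1 [o8cL2, o8cL3, o8cL4, o8cL5, o8cL6, o8cL7, o8cL8, o8cL9]
    (o8cgen o8cT1x13 o8cI1x13) 0 736 = true := by
  decide +kernel
theorem o8ccl1x14 : pgChkGenW 736 (List.range 736) o8cL1 [o8cL2, o8cL3, o8cL4, o8cL5, o8cL6, o8cL7, o8cL8, o8cL9]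
    (o8cgen o8cT1x14 o8cI1x14) 0 736 = true := by
  decide +kernel
theorem o8ccl1x15 : pgChkGenW 736 (List.range 736) o8cL1 [o8cL2, o8cL3, o8cL4, o8cL5, o8cL6, o8cL7, o8cL8, o8cL9]
    (o8cgen o8cT1x15 o8cI1x15) 0 736 = true := by
  decide +kernel
theorem o8ccl1x16 : pgChkGenW 736 (List.range 736) o8cL1 [o8cL2, o8cL3, o8cL4, o8cL5, o8cL6, o8cL7, o8cL8, o8cL9]
    (o8cgen o8cT1x16 o8cI1x16) 0 736 = true := by
  decide +kernel
theorem o8ccl1x17 : pgChkGenW 736 (List.range 736) o8cL1 [o8cL2, o8cL3, o8cL4, o8cL5, o8cL6, o8cL7, o8cL8, o8cL9]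
    (o8cgen o8cT1x17 o8cI1x17) 0 736 = true := by
  decide +kernel
theorem o8ccl1x18 : pgChkGenW 736 (List.range 736) o8cL1 [o8cL2, o8cL3, o8cL4, o8cL5, o8cL6, o8cL7, o8cL8, o8cL9]
    (o8cgen o8cT1x18 o8cI1x18) 0 736 = true := by
  decide +kernel
theorem o8ccl1x19 : pgChkGenW 736 (List.range 736) o8cL1 [o8cL2, o8cL3, o8cL4, o8cL5, o8cL6, o8cL7, o8cL8, o8cL9]
    (o8cgen o8cT1x19 o8cI1x19) 0 736 = true := by
  decide +kernel
theorem o8ccl1x20 : pgChkGenW 736 (List.range 736) o8cL1 [o8cL2, o8cL3, o8cL4, o8cL5, o8cL6, o8cL7, o8cL8, o8cL9]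
    (o8cgen o8cT1x20 o8cI1x20) 0 736 = true := by
  decide +kernel
theorem o8ccl1x21 : pgChkGenW 736 (List.range 736) o8cL1 [o8cL2, o8cL3, o8cL4, o8cL5, o8cL6, o8cL7, o8cL8, o8cL9]
    (o8cgen o8cT1x21 o8cI1x21) 0 736 = true := by
  decide +kernel
theorem o8ccl1x22 : pgChkGenW 736 (List.range 736) o8cL1 [o8cL2, o8cL3, o8cL4, o8cL5, o8cL6, o8cL7, o8cL8, o8cL9]
    (o8cgen o8cT1x22 o8cI1x22) 0 736 = true := by
  decide +kernel
theorem o8ccl1x23 : pgChkGenW 736 (List.range 736) o8cL1 [o8cL2, o8cL3, o8cL4, o8cL5, o8cL6, o8cL7, o8cL8, o8cL9]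
    (o8cgen o8cT1x23 o8cI1x23) 0 736 = true := by
  decide +kernel

theorem o8cchkL9 : pgChkLvlW 736 (List.range 736) o8cL9 [] = true := by
  apply pgChkLvlW_ofAllX o8cchk0x9
  intro s hs
  change s ∈ [o8cgen o8cT9x0 o8cI9x0, o8cgen o8cT9x1 o8cI9x1] at hs
  simp only [List.mem_cons, List.not_mem_nil, or_false] at hs
  rcases hs with rfl | rfl
  · exact o8ccl9x0
  · exact o8ccl9x1

theorem o8cchkL8 : pgChkLvlW 736 (List.range 736) o8cL8 [o8cL9] = true := by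
  apply pgChkLvlW_ofAllX o8cchk0x8
  intro s hs
  change s ∈ [o8cgen o8cT8x0 o8cI8x0, o8cgen o8cT8x1 o8cI8x1] at hs
  simp only [List.mem_cons, List.not_mem_nil, or_false] at hs
  rcases hs with rfl | rfl
  · exact o8ccl8x0
  · exact o8ccl8x1

theorem o8cchkL7 : pgChkLvlW 736 (List.range 736) o8cL7 [o8cL8, o8cL9] = true := by
  apply pgChkLvlW_ofAllX o8cchk0x7
  intro s hs
  change s ∈ [o8cgen o8cT7x0 o8cI7x0, o8cgen o8cT7x1 o8cI7x1, o8cgen o8cT7x2 o8cI7x2] at hs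
  simp only [List.mem_cons, List.not_mem_nil, or_false] at hs
  rcases hs with rfl | rfl | rfl
  · exact o8ccl7x0
  · exact o8ccl7x1
  · exact o8ccl7x2

theorem o8cchkL6 : pgChkLvlW 736 (List.range 736) o8cL6 [o8cL7, o8cL8, o8cL9] = true := by
  apply pgChkLvlW_ofAllX o8cchk0x6
  intro s hs
  change s ∈ [o8cgen o8cT6x0 o8cI6x0, o8cgen o8cT6x1 o8cI6x1, o8cgen o8cT6x2 o8cI6x2, o8cgen o8cT6x3 o8cI6x3, o8cgen o8cT6x4 o8cI6x4] at hs
  simp only [List.mem_cons, List.not_mem_nil, or_false] at hs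
  rcases hs with rfl | rfl | rfl | rfl | rfl
  · exact o8ccl6x0
  · exact o8ccl6x1
  · exact o8ccl6x2
  · exact o8ccl6x3
  · exact o8ccl6x4

theorem o8cchkL5 : pgChkLvlW 736 (List.range 736) o8cL5 [o8cL6, o8cL7, o8cL8, o8cL9] = true := by
  apply pgChkLvlW_ofAllX o8cchk0x5
  intro s hs
  change s ∈ [o8cgen o8cT5x0 o8cI5x0, o8cgen o8cT5x1 o8cI5x1, o8cgen o8cT5x2 o8cI5x2, o8cgen o8cT5x3 o8cI5x3, o8cgen o8cT5x4 o8cI5x4, o8cgen o8cT5x5 o8cI5x5, o8cgen o8cT5x6 o8cI5x6] at hs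
  simp only [List.mem_cons, List.not_mem_nil, or_false] at hs
  rcases hs with rfl | rfl | rfl | rfl | rfl | rfl | rfl
  · exact o8ccl5x0
  · exact o8ccl5x1
  · exact o8ccl5x2
  · exact o8ccl5x3
  · exact o8ccl5x4
  · exact o8ccl5x5
  · exact o8ccl5x6

theorem o8cchkL4 : pgChkLvlW 736 (List.range 736) o8cL4 [o8cL5, o8cL6, o8cL7, o8cL8, o8cL9] = true := by
  apply pgChkLvlW_ofAllX o8cchk0x4
  intro s hs
  change s ∈ [o8cgen o8cT4x0 o8cI4x0, o8cgen o8cT4x1 o8cI4x1, o8cgen o8cT4x2 o8cI4x2, o8cgen o8cT4x3 o8cI4x3, o8cgen o8cT4x4 o8cI4x4, o8cgen o8cT4x5 o8cI4x5] at hs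
  simp only [List.mem_cons, List.not_mem_nil, or_false] at hs
  rcases hs with rfl | rfl | rfl | rfl | rfl | rfl
  · exact o8ccl4x0
  · exact o8ccl4x1
  · exact o8ccl4x2
  · exact o8ccl4x3
  · exact o8ccl4x4
  · exact o8ccl4x5

theorem o8cchkL3 : pgChkLvlW 736 (List.range 736) o8cL3 [o8cL4, o8cL5, o8cL6, o8cL7, o8cL8, o8cL9] = true := by
  apply pgChkLvlW_ofAllX o8cchk0x3
  intro s hs
  change s ∈ [o8cgen o8cT3x0 o8cI3x0, o8cgen o8cT3x1 o8cI3x1] at hs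
  simp only [List.mem_cons, List.not_mem_nil, or_false] at hs
  rcases hs with rfl | rfl
  · exact o8ccl3x0
  · exact o8ccl3x1

theorem o8cchkL2 : pgChkLvlW 736 (List.range 736) o8cL2 [o8cL3, o8cL4, o8cL5, o8cL6, o8cL7, o8cL8, o8cL9] = true := by
  apply pgChkLvlW_ofAllX o8cchk0x2
  intro s hs
  change s ∈ [o8cgen o8cT2x0 o8cI2x0, o8cgen o8cT2x1 o8cI2x1] at hs
  simp only [List.mem_cons, List.not_mem_nil, or_false] at hs
  rcases hs with rfl | rfl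
  · exact o8ccl2x0
  · exact o8ccl2x1

theorem o8cchkL1 : pgChkLvlW 736 (List.range 736) o8cL1 [o8cL2, o8cL3, o8cL4, o8cL5, o8cL6, o8cL7, o8cL8, o8cL9] = true := by
  apply pgChkLvlW_ofAllX o8cchk0x1
  intro s hs
  change s ∈ [o8cgen o8cT1x0 o8cI1x0, o8cgen o8cT1x1 o8cI1x1, o8cgen o8cT1x2 o8cI1x2, o8cgen o8cT1x3 o8cI1x3, o8cgen o8cT1x4 o8cI1x4, o8cgen o8cT1x5 o8cI1x5, o8cgen o8cT1x6 o8cI1x6, o8cgen o8cT1x7 o8cI1x7, o8cgen o8cT1x8 o8cI1x8, o8cgen o8cT1x9 o8cI1x9, o8cgen o8cT1x10 o8cI1x10, o8cgen o8cT1x11 o8cI1x11, o8cgen o8cT1x12 o8cI1x12, o8cgen o8cT1x13 o8cI1x13, o8cgen o8cT1x14 o8cI1x14, o8cgen o8cT1x15 o8cI1x15, o8cgen o8cT1x16 o8cI1x16, o8cgen o8cT1x17 o8cI1x17, o8cgen o8cT1x18 o8cI1x18, o8cgen o8cT1x19 o8cI1x19, o8cgen o8cT1x20 o8cI1x20, o8cgen o8cT1x21 o8cI1x21, o8cgen o8cT1x22 o8cI1x22, o8cgen o8cT1x23 o8cI1x23] at hs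
  simp only [List.mem_cons, List.not_mem_nil, or_false] at hs
  rcases hs with rfl | rfl | rfl | rfl | rfl | rfl | rfl | rfl | rfl | rfl | rfl | rfl | rfl | rfl | rfl | rfl | rfl | rfl | rfl | rfl | rfl | rfl | rfl | rfl
  · exact o8ccl1x0
  · exact o8ccl1x1
  · exact o8ccl1x2
  · exact o8ccl1x3
  · exact o8ccl1x4
  · exact o8ccl1x5
  · exact o8ccl1x6
  · exact o8ccl1x7
  · exact o8ccl1x8
  · exact o8ccl1x9
  · exact o8ccl1x10
  · exact o8ccl1x11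
  · exact o8ccl1x12
  · exact o8ccl1x13
  · exact o8ccl1x14
  · exact o8ccl1x15
  · exact o8ccl1x16
  · exact o8ccl1x17
  · exact o8ccl1x18
  · exact o8ccl1x19
  · exact o8ccl1x20
  · exact o8ccl1x21
  · exact o8ccl1x22
  · exact o8ccl1x23

/-- the stabiliser chain -/
def o8cC : List PgLvlW := [o8cL1, o8cL2, o8cL3, o8cL4, o8cL5, o8cL6, o8cL7, o8cL8, o8cL9]

theorem o8cchkC : pgChkW 736 (pgRigidAll 736).base o8cC = true := by
  change pgChkW 736 (List.range 736) [o8cL1, o8cL2, o8cL3, o8cL4, o8cL5, o8cL6, o8cL7, o8cL8, o8cL9] = true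
  rw [pgChkW_cons, pgChkW_cons, pgChkW_cons, pgChkW_cons, pgChkW_cons, pgChkW_cons, pgChkW_cons, pgChkW_cons, pgChkW_cons, o8cchkL1, o8cchkL2, o8cchkL3, o8cchkL4, o8cchkL5, o8cchkL6, o8cchkL7, o8cchkL8, o8cchkL9]
  rfl

end Cfsg.Agent.Lib.Helper5.O8Cov
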