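import Mathlib
import Cfsg.Agent.Lib.Helper5.CodedPerm
import Cfsg.Agent.Lib.Helper5.O8BaseChk

set_option autoImplicit false
set_option maxRecDepth 1000000

/-! The commutator subgroup of the orthogonal group of plus type of degree eight over the field with
two elements as a group of permutations of `Fin 256` (the vectors, coded by their bits), generated by
the 24 root elements. -/

namespace Cfsg.Agent.Lib.Helper5.O8M

open Cfsg Cfsg.Agent.Lib.helper23 Cfsg.Agent.Lib.Helper5.CP Subgroup

theorem o8bA : pgGrpW 256 o8bC ≤ (pgRigidAll 256).A := le_top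

theorem o8bok : ∀ P ∈ o8bL1.own, P.ok 256 = true :=
  pgChkW_own_ok 256 (pgRigidAll 256).base o8bC o8bchkC

theorem o8bord : pgOrdW 256 o8bC = 174182400 := by decide +kernel

/-- the group generated by the root elements on 256 points -/
abbrev K256 : Subgroup (Equiv.Perm (Fin 256)) := closure (pgSet 256 o8bL1.own)

/-- the group generated by the root elements on 256 points, as a type -/
abbrev HG : Type := ↥K256

theorem K256_eq : K256 = pgGrpW 256 o8bC := rfl

theorem card_K256 : Nat.card K256 = 174182400 := by
  rw [K256_eq, pgCardW (pgRigidAll 256) o8bC o8bchkC o8bA, o8bord]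

theorem card_HG : Nat.card HG = 174182400 := card_K256

instance : Finite HG := Nat.finite_of_card_ne_zero (by rw [card_HG]; norm_num)

/-- a coded permutation represents an element -/
abbrev RepH (T : ℕ) (g : HG) : Prop := RepS o8blk 256 K256 T g

/-- the generator of index `k` -/
noncomputable def tg (k : ℕ) : HG := ⟨(o8bL1.own.getD k PFun.one).perm 256, pgGetD_mem k⟩

theorem rep_tg (k T I : ℕ) (h : o8bL1.own.getD k PFun.one = o8bgen T I) : RepH T (tg k) := by
  intro i
  show (((o8bL1.own.getD k PFun.one).perm 256) i).1 = o8blk T i.1
  rw [PFun.perm_apply (pgGetD_ok o8bok k), h]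
  rfl

end Cfsg.Agent.Lib.Helper5.O8M
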