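import Mathlib
import Cfsg.Agent.Lib.Helper5.O8CovChk
import Cfsg.Agent.Lib.Helper5.O8MA
import Cfsg.Agent.Lib.Helper5.StemY
import Cfsg.Prelude.Def_KGroupFacts

set_option autoImplicit false
set_option maxRecDepth 1000000

/-! The group on 736 points generated by lifts of the 24 root elements is a stem extension of the
commutator subgroup of the orthogonal group of plus type of degree eight over the field with two
elements, with kernel the product of two cyclic groups of order two. -/

namespace Cfsg.Agent.Lib.Helper5.O8Cov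

open Cfsg Cfsg.Agent.Lib.helper23 Cfsg.Agent.Lib.Helper5.O8M
open Subgroup
open scoped commutatorElement

theorem o8cA : pgGrpW 736 o8cC ≤ (pgRigidAll 736).A := le_top

theorem o8cok : ∀ P ∈ o8cL1.own, P.ok 736 = true :=
  pgChkW_own_ok 736 (pgRigidAll 736).base o8cC o8cchkC

theorem o8cord : pgOrdW 736 o8cC = 696729600 := by decide +kernel

/-- the covering group on 736 points -/
abbrev Cov : Subgroup (Equiv.Perm (Fin 736)) := closure (pgSet 736 o8cL1.own)

theorem Cov_eq : Cov = pgGrpW 736 o8cC := rfl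

theorem Cov_card : Nat.card Cov = 696729600 := by
  rw [Cov_eq, pgCardW (pgRigidAll 736) o8cC o8cchkC o8cA, o8cord]

instance Cov_finite : Finite Cov := Nat.finite_of_card_ne_zero (by rw [Cov_card]; norm_num)

/-! ### the restriction to the first 256 points -/

/-- the permutations preserving the first 256 points -/
def Stab : Subgroup (Equiv.Perm (Fin 736)) where
  carrier := {g | ∀ i : Fin 736, (g i).1 < 256 ↔ i.1 < 256}
  one_mem' := fun _ => Iff.rfl
  mul_mem' := by
    intro a b ha hb i
    rw [Equiv.Perm.mul_apply]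
    exact (ha (b i)).trans (hb i)
  inv_mem' := by
    intro a ha i
    have := ha (a⁻¹ i)
    have e : a (a⁻¹ i) = i := by simp
    rw [e] at this
    exact this.symm

/-- the embedding of the first 256 points -/
def emb (i : Fin 256) : Fin 736 := ⟨i.1, by omega⟩

theorem emb_injective : Function.Injective emb := by
  intro i j h
  apply Fin.ext
  have h' : (emb i).1 = (emb j).1 := congrArg Fin.val h
  exact h'

/-- the restriction to the first 256 points, as a function -/
def resFun (g : Stab) (i : Fin 256) : Fin 256 := ⟨(g.1 (emb i)).1, (g.2 (emb i)).2 i.2⟩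

theorem emb_resFun (g : Stab) (i : Fin 256) : emb (resFun g i) = g.1 (emb i) := Fin.ext rfl

theorem resFun_mul (g h : Stab) (i : Fin 256) : resFun (g * h) i = resFun g (resFun h i) := by
  apply emb_injective
  rw [emb_resFun, emb_resFun, emb_resFun]
  rfl

theorem resFun_one (i : Fin 256) : resFun 1 i = i := by
  apply emb_injective
  rw [emb_resFun]
  rfl

/-- the restriction to the first 256 points -/
def res : Stab →* Equiv.Perm (Fin 256) where
  toFun g :=
    { toFun := resFun g
      invFun := resFun g⁻¹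
      left_inv := fun i => by rw [← resFun_mul, inv_mul_cancel, resFun_one]
      right_inv := fun i => by rw [← resFun_mul, mul_inv_cancel, resFun_one] }
  map_one' := by
    apply Equiv.ext
    intro i
    exact resFun_one i
  map_mul' := by
    intro g h
    apply Equiv.ext
    intro i
    exact resFun_mul g h i

theorem res_apply (g : Stab) (i : Fin 256) : ((res g) i).1 = (g.1 (emb i)).1 := rfl

/-! ### the generators -/

/-- the lift of the generator of index `k`, as a pair of lookups -/
def cG (k : ℕ) : PFun := o8cL1.own.getD k PFun.one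

/-- the generator of index `k`, as a pair of lookups -/
def bG (k : ℕ) : PFun := o8bL1.own.getD k PFun.one

theorem cG_ok (k : ℕ) : (cG k).ok 736 = true := pgGetD_ok o8cok k

theorem bG_ok (k : ℕ) : (bG k).ok 256 = true := pgGetD_ok o8bok k

theorem own_length : o8cL1.own.length = 24 := rfl

theorem bown_length : o8bL1.own.length = 24 := rfl

theorem mem_own {P : PFun} (hP : P ∈ o8cL1.own) : ∃ k, k < 24 ∧ P = cG k := by
  obtain ⟨k, hk, rfl⟩ := List.mem_iff_getElem.mp hP
  refine ⟨k, by rw [← own_length]; exact hk, ?_⟩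
  unfold cG
  rw [List.getD_eq_getElem _ _ hk]

theorem mem_bown {P : PFun} (hP : P ∈ o8bL1.own) : ∃ k, k < 24 ∧ P = bG k := by
  obtain ⟨k, hk, rfl⟩ := List.mem_iff_getElem.mp hP
  refine ⟨k, by rw [← bown_length]; exact hk, ?_⟩
  unfold bG
  rw [List.getD_eq_getElem _ _ hk]

theorem stab_chk : pgAll 24 (fun k => pgAll 736 (fun i =>
    pgEqB (Nat.blt ((cG k).f i) 256) (Nat.blt i 256))) = true := by decide +kernel

theorem res_chk : pgAll 24 (fun k => pgAll 256 (fun i =>
    Nat.beq ((cG k).f i) ((bG k).f i))) = true := by decide +kernel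

theorem perm_mem_Stab {P : PFun} (hP : P.ok 736 = true)
    (h : pgAll 736 (fun i => pgEqB (Nat.blt (P.f i) 256) (Nat.blt i 256)) = true) :
    P.perm 736 ∈ Stab := by
  intro i
  rw [PFun.perm_apply hP]
  have := (pgAll_iff _ _).1 h i.1 i.2
  rw [pgEqB_iff] at this
  constructor
  · intro h1
    have h2 : Nat.blt (P.f i.1) 256 = true := by simpa using h1
    rw [this] at h2
    simpa using h2
  · intro h1
    have h2 : Nat.blt i.1 256 = true := by simpa using h1
    rw [← this] at h2
    simpa using h2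

theorem cG_stab (k : ℕ) (hk : k < 24) : (cG k).perm 736 ∈ Stab :=
  perm_mem_Stab (cG_ok k) ((pgAll_iff _ _).1 stab_chk k hk)

theorem Cov_le_Stab : Cov ≤ Stab := by
  rw [closure_le]
  rintro _ ⟨P, hP, rfl⟩
  obtain ⟨k, hk, rfl⟩ := mem_own hP
  exact cG_stab k hk

theorem res_perm {P Q : PFun} (hP : P.ok 736 = true) (hs : P.perm 736 ∈ Stab)
    (hQ : Q.ok 256 = true) (h : pgAll 256 (fun i => Nat.beq (P.f i) (Q.f i)) = true) :
    res ⟨P.perm 736, hs⟩ = Q.perm 256 := by
  apply Equiv.ext
  intro i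
  apply Fin.ext
  rw [res_apply, PFun.perm_apply hP, PFun.perm_apply hQ]
  have := (pgAll_iff _ _).1 h i.1 i.2
  rw [Nat.beq_eq] at this
  exact this

theorem res_cG (k : ℕ) (hk : k < 24) : res ⟨(cG k).perm 736, cG_stab k hk⟩ = (bG k).perm 256 :=
  res_perm (cG_ok k) (cG_stab k hk) (bG_ok k) ((pgAll_iff _ _).1 res_chk k hk)

/-- the restriction on the covering group -/
def sig0 : Cov →* Equiv.Perm (Fin 256) := res.comp (Subgroup.inclusion Cov_le_Stab)

theorem sig0_mem (γ : Cov) : sig0 γ ∈ K256 := by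
  have hle : Cov ≤ (K256.comap res).map Stab.subtype := by
    rw [closure_le]
    rintro _ ⟨P, hP, rfl⟩
    obtain ⟨k, hk, rfl⟩ := mem_own hP
    refine ⟨⟨(cG k).perm 736, cG_stab k hk⟩, ?_, rfl⟩
    show res _ ∈ K256
    rw [res_cG k hk]
    exact pgGetD_mem k
  obtain ⟨s, hs, hsγ⟩ := hle γ.2
  have e : Subgroup.inclusion Cov_le_Stab γ = s := Subtype.ext hsγ.symm
  show res (Subgroup.inclusion Cov_le_Stab γ) ∈ K256
  rw [e]
  exact hs

/-- the covering map -/
def sig : Cov →* HG := sig0.codRestrict K256 sig0_mem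

theorem sig_coe (γ : Cov) : ((sig γ : HG) : Equiv.Perm (Fin 256)) = sig0 γ := rfl

/-- the lift of the generator of index `k` -/
def xG (k : ℕ) : Cov := ⟨(cG k).perm 736, pgGetD_mem k⟩

theorem sig0_xG (k : ℕ) (hk : k < 24) : sig0 (xG k) = (bG k).perm 256 := res_cG k hk

theorem sig_surj : Function.Surjective sig := by
  rintro ⟨y, hy⟩
  have key : ∀ y (hy : y ∈ K256), ∃ γ : Cov, sig0 γ = y := by
    intro y hy
    induction hy using Subgroup.closure_induction with
    | mem y hy =>
      obtain ⟨P, hP, rfl⟩ := hy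
      obtain ⟨k, hk, rfl⟩ := mem_bown hP
      exact ⟨xG k, sig0_xG k hk⟩
    | one => exact ⟨1, map_one _⟩
    | mul a b ha hb iha ihb =>
      obtain ⟨γ, hγ⟩ := iha
      obtain ⟨δ, hδ⟩ := ihb
      exact ⟨γ * δ, by rw [map_mul, hγ, hδ]⟩
    | inv a ha iha =>
      obtain ⟨γ, hγ⟩ := iha
      exact ⟨γ⁻¹, by rw [map_inv, hγ]⟩
  obtain ⟨γ, hγ⟩ := key y hy
  exact ⟨γ, Subtype.ext hγ⟩

theorem card_ker_sig : Nat.card sig.ker = 4 := by
  have h1 := Subgroup.card_eq_card_quotient_mul_card_subgroup sig.ker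
  have e := QuotientGroup.quotientKerEquivOfSurjective sig sig_surj
  rw [Nat.card_congr e.toEquiv, Cov_card, card_HG] at h1
  omega

/-! ### elements given by words -/

/-- the element of a word -/
def wEl (w : List ℕ) : Cov := ⟨pgWordPerm 736 o8cL1.own w, pgWordPerm_mem o8cok w⟩

theorem wEl_apply (w : List ℕ) (i : Fin 736) : ((wEl w).1 i).1 = pgEvalW o8cL1.own w i.1 :=
  pgWordPerm_apply o8cok w i

theorem wEl_append (w v : List ℕ) : wEl (w ++ v) = wEl w * wEl v :=
  Subtype.ext (pgWordPerm_append 736 o8cL1.own w v)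

theorem wEl_eq_of_chk (w v : List ℕ)
    (h : pgAll 736 (fun i => Nat.beq (pgEvalW o8cL1.own w i) (pgEvalW o8cL1.own v i)) = true) :
    wEl w = wEl v := by
  apply Subtype.ext
  apply Equiv.ext
  intro i
  apply Fin.ext
  rw [wEl_apply, wEl_apply]
  have := (pgAll_iff _ _).1 h i.1 i.2
  rwa [Nat.beq_eq] at this

theorem wEl_nil : wEl [] = 1 := Subtype.ext rfl

theorem wEl_ker (w : List ℕ)
    (h : pgAll 256 (fun i => Nat.beq (pgEvalW o8cL1.own w i) i) = true) : wEl w ∈ sig.ker := by
  rw [MonoidHom.mem_ker]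
  apply Subtype.ext
  rw [sig_coe]
  apply Equiv.ext
  intro i
  apply Fin.ext
  show ((res (Subgroup.inclusion Cov_le_Stab (wEl w))) i).1 = i.1
  rw [res_apply]
  show ((wEl w).1 (emb i)).1 = i.1
  rw [wEl_apply]
  have := (pgAll_iff _ _).1 h i.1 i.2
  rw [Nat.beq_eq] at this
  exact this

theorem pgLetter_lt (k : ℕ) (hk : k < 24) : pgLetter o8cL1.own k = cG k := by
  unfold pgLetter cG
  have : Nat.blt k o8cL1.own.length = true := by
    rw [own_length]
    simpa using hk
  rw [this]
  rfl

theorem wEl_single (k : ℕ) (hk : k < 24) : (wEl [k]).1 = (cG k).perm 736 := by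
  show pgWordPerm 736 o8cL1.own [k] = _
  unfold pgWordPerm
  rw [List.map_cons, List.map_nil, List.prod_cons, List.prod_nil, mul_one, pgLetter_lt k hk]

theorem wEl_central (w : List ℕ)
    (h : pgAll 24 (fun k => pgAll 736 (fun i =>
      Nat.beq (pgEvalW o8cL1.own (k :: w) i) (pgEvalW o8cL1.own (w ++ [k]) i))) = true) :
    wEl w ∈ Subgroup.center Cov := by
  rw [Subgroup.mem_center_iff]
  intro g
  apply Subtype.ext
  show g.1 * (wEl w).1 = (wEl w).1 * g.1
  have hle : Cov ≤ Subgroup.centralizer {(wEl w).1} := by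
    rw [closure_le]
    rintro _ ⟨P, hP, rfl⟩
    obtain ⟨k, hk, rfl⟩ := mem_own hP
    rw [SetLike.mem_coe, Subgroup.mem_centralizer_iff]
    intro z hz
    rw [Set.mem_singleton_iff] at hz
    subst hz
    have e := wEl_eq_of_chk (k :: w) (w ++ [k]) ((pgAll_iff _ _).1 h k hk)
    have e1 : wEl (k :: w) = wEl [k] * wEl w := wEl_append [k] w
    rw [e1, wEl_append] at e
    have e2 := congrArg Subtype.val e
    rw [Subgroup.coe_mul, Subgroup.coe_mul, wEl_single k hk] at e2
    exact e2.symm
  have := Subgroup.mem_centralizer_iff.mp (hle g.2) (wEl w).1 rfl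
  exact this.symm

/-- the repetition of a word -/
def rep (n : ℕ) (w : List ℕ) : List ℕ := (List.replicate n w).flatten

theorem wEl_rep (n : ℕ) (w : List ℕ) : wEl (rep n w) = wEl w ^ n := by
  induction n with
  | zero => exact wEl_nil
  | succ n ih =>
    have : rep (n + 1) w = w ++ rep n w := by
      unfold rep
      rw [List.replicate_succ, List.flatten_cons]
    rw [this, wEl_append, ih, pow_succ']

theorem wEl_pow (n : ℕ) (w : List ℕ)
    (h : pgAll 736 (fun i => Nat.beq (pgEvalW o8cL1.own (rep n w) i) i) = true) :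
    wEl w ^ n = 1 := by
  rw [← wEl_rep]
  exact Subtype.ext (pgWordPerm_eq_one o8cok h)

/-- the commutator word -/
def commW (w1 w2 : List ℕ) : List ℕ := w1 ++ (w2 ++ (pgInvW 24 w1 ++ pgInvW 24 w2))

theorem wEl_comm (w1 w2 : List ℕ) (h1 : ∀ j ∈ w1, j < 2 * o8cL1.own.length)
    (h2 : ∀ j ∈ w2, j < 2 * o8cL1.own.length) : wEl (commW w1 w2) = ⁅wEl w1, wEl w2⁆ := by
  apply Subtype.ext
  show pgWordPerm 736 o8cL1.own (commW w1 w2) = _
  have hl : o8cL1.own.length = 24 := rfl
  have e1 := pgInvW_perm o8cok w1 h1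
  have e2 := pgInvW_perm o8cok w2 h2
  rw [hl] at e1 e2
  unfold commW
  rw [pgWordPerm_append, pgWordPerm_append, pgWordPerm_append, e1, e2,
    commutatorElement_def]
  show _ = pgWordPerm 736 o8cL1.own w1 * pgWordPerm 736 o8cL1.own w2 *
    (pgWordPerm 736 o8cL1.own w1)⁻¹ * (pgWordPerm 736 o8cL1.own w2)⁻¹
  group

/-! ### the two central elements -/

/-- the two central elements -/
def za : Cov := wEl (commW [0] [12])
def zb : Cov := wEl (commW [0] [8])

theorem za_eq : za = ⁅wEl [0], wEl [12]⁆ := wEl_comm [0] [12] (by decide) (by decide)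
theorem zb_eq : zb = ⁅wEl [0], wEl [8]⁆ := wEl_comm [0] [8] (by decide) (by decide)

theorem za_ker : za ∈ sig.ker := wEl_ker _ (by decide +kernel)
theorem zb_ker : zb ∈ sig.ker := wEl_ker _ (by decide +kernel)

theorem za_central : za ∈ Subgroup.center Cov := wEl_central _ (by decide +kernel)
theorem zb_central : zb ∈ Subgroup.center Cov := wEl_central _ (by decide +kernel)

theorem za_pow : za ^ 2 = 1 := wEl_pow 2 _ (by decide +kernel)
theorem zb_pow : zb ^ 2 = 1 := wEl_pow 2 _ (by decide +kernel)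

/-- the values of the two elements at the two test points -/
theorem vals_chk :
    pgEvalW o8cL1.own (commW [0] [12]) 496 = 499 ∧ pgEvalW o8cL1.own (commW [0] [8]) 496 = 496 ∧
    pgEvalW o8cL1.own (commW [0] [8]) 256 = 259 := by
  decide +kernel

theorem el_val (w : List ℕ) (i j : ℕ) (hi : i < 736) (hj : j < 736)
    (h : pgEvalW o8cL1.own w i = j) : (wEl w).1 ⟨i, hi⟩ = ⟨j, hj⟩ := by
  apply Fin.ext
  rw [wEl_apply]
  exact h

theorem pow_fix {g : Equiv.Perm (Fin 736)} {x : Fin 736} (h : g x = x) (n : ℕ) :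
    (g ^ n) x = x := Equiv.Perm.pow_apply_eq_self_of_apply_eq_self h n

theorem indep : ∀ a b c : ℕ, a < 1 → b < 2 → c < 2 → (1 : Cov) ^ a * (za ^ b * zb ^ c) = 1 →
    a = 0 ∧ b = 0 ∧ c = 0 := by
  intro a b c ha hb hc h
  obtain ⟨e1, e2, e3⟩ := vals_chk
  have ha0 : a = 0 := by omega
  subst ha0
  rw [pow_zero, one_mul] at h
  have h' : za.1 ^ b * zb.1 ^ c = 1 := by
    have := congrArg Subtype.val h
    simpa using this
  have hb0 : b = 0 := by
    have f2 : zb.1 ⟨496, by norm_num⟩ = ⟨496, by norm_num⟩ := el_val _ 496 496 _ _ e2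
    have g1 : za.1 ⟨496, by norm_num⟩ = ⟨499, by norm_num⟩ := el_val _ 496 499 _ _ e1
    have h1 := congrArg (fun g : Equiv.Perm (Fin 736) => g ⟨496, by norm_num⟩) h'
    simp only [Equiv.Perm.mul_apply, Equiv.Perm.one_apply] at h1
    rw [pow_fix f2] at h1
    interval_cases b
    · rfl
    · rw [pow_one, g1] at h1
      exact absurd (congrArg Fin.val h1) (by norm_num)
  subst hb0
  rw [pow_zero, one_mul] at h'
  have hc0 : c = 0 := by
    have g1 : zb.1 ⟨256, by norm_num⟩ = ⟨259, by norm_num⟩ := el_val _ 256 259 _ _ e3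
    have h1 := congrArg (fun g : Equiv.Perm (Fin 736) => g ⟨256, by norm_num⟩) h'
    simp only [Equiv.Perm.one_apply] at h1
    interval_cases c
    · rfl
    · rw [pow_one, g1] at h1
      exact absurd (congrArg Fin.val h1) (by norm_num)
  exact ⟨rfl, rfl, hc0⟩

/-! ### the stem extension -/

theorem ker_struct :
    (∀ x ∈ sig.ker, ∃ a b c : ℕ, x = (1 : Cov) ^ a * (za ^ b * zb ^ c)) ∧
    Nonempty (sig.ker ≃* Multiplicative (ZMod 1 × ZMod 2 × ZMod 2)) :=
  Cfsg.Agent.Lib.Helper5.Stem.ker_equiv_of_three sig 1 2 2 1 za zb (one_mem _) za_ker zb_ker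
    (one_mem _) za_central zb_central (one_pow 1) za_pow zb_pow indep (by rw [card_ker_sig])

theorem sig_stem : Cfsg.IsStemExtension sig := by
  refine ⟨sig_surj, ?_, ?_⟩
  · intro k hk
    obtain ⟨a, b, c, rfl⟩ := ker_struct.1 k hk
    exact mul_mem (pow_mem (one_mem _) _) (mul_mem (pow_mem za_central _) (pow_mem zb_central _))
  · intro k hk
    obtain ⟨a, b, c, rfl⟩ := ker_struct.1 k hk
    have ha : za ∈ commutator Cov := by
      rw [za_eq, commutator_def]
      exact Subgroup.commutator_mem_commutator (Subgroup.mem_top _) (Subgroup.mem_top _)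
    have hb : zb ∈ commutator Cov := by
      rw [zb_eq, commutator_def]
      exact Subgroup.commutator_mem_commutator (Subgroup.mem_top _) (Subgroup.mem_top _)
    exact mul_mem (pow_mem (one_mem _) _) (mul_mem (pow_mem ha _) (pow_mem hb _))

/-- dropping the trivial factor -/
def dropEquiv : Multiplicative (ZMod 1 × ZMod 2 × ZMod 2) ≃* Multiplicative (ZMod 2 × ZMod 2) :=
  AddEquiv.toMultiplicative (AddEquiv.uniqueProd (M := ZMod 2 × ZMod 2) (N := ZMod 1))

/-- the group on 256 points has a finite stem extension with kernel the product of two cyclic groups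
of order two -/
theorem exists_stem_HG : ∃ (Γ : Type) (_ : Group Γ) (_ : Finite Γ) (σ : Γ →* HG),
    Cfsg.IsStemExtension σ ∧
      Nonempty (σ.ker ≃* Multiplicative (ZMod 2 × ZMod 2)) := by
  obtain ⟨e⟩ := ker_struct.2
  exact ⟨↥Cov, inferInstance, inferInstance, sig, sig_stem, ⟨e.trans dropEquiv⟩⟩

end Cfsg.Agent.Lib.Helper5.O8Cov
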