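import Cfsg.Agent.Lib.Helper5.O8FullData
import Cfsg.Agent.Lib.helper23.PgX

set_option autoImplicit false
set_option maxRecDepth 1000000
set_option Elab.async false

/-! The full orthogonal group of plus type of degree eight over the field with two elements on 256 points: the checks of the stabiliser chain (generated). -/

namespace Cfsg.Agent.Lib.Helper5.O8M

open Cfsg.Agent.Lib.helper23 Subgroup MulAction

theorem o8fchk0x7 : pgChkLvlW0 256 o8fL7 [] = true := by decide +kernel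
theorem o8fchk0x6 : pgChkLvlW0 256 o8fL6 [o8fL7] = true := by decide +kernel
theorem o8fchk0x5 : pgChkLvlW0 256 o8fL5 [o8fL6, o8fL7] = true := by decide +kernel
theorem o8fchk0x4 : pgChkLvlW0 256 o8fL4 [o8fL5, o8fL6, o8fL7] = true := by decide +kernel
theorem o8fchk0x3 : pgChkLvlW0 256 o8fL3 [o8fL4, o8fL5, o8fL6, o8fL7] = true := by decide +kernel
theorem o8fchk0x2 : pgChkLvlW0 256 o8fL2 [o8fL3, o8fL4, o8fL5, o8fL6, o8fL7] = true := by decide +kernel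
theorem o8fchk0x1 : pgChkLvlW0 256 o8fL1 [o8fL2, o8fL3, o8fL4, o8fL5, o8fL6, o8fL7] = true := by decide +kernel

theorem o8fcl7x0 : pgChkGenW 256 (List.range 256) o8fL7 []
    (o8fgen o8fT7x0 o8fI7x0) 0 256 = true := by
  decide +kernel
theorem o8fcl7x1 : pgChkGenW 256 (List.range 256) o8fL7 []
    (o8fgen o8fT7x1 o8fI7x1) 0 256 = true := by
  decide +kernel
theorem o8fcl6x0 : pgChkGenW 256 (List.range 256) o8fL6 [o8fL7]
    (o8fgen o8fT6x0 o8fI6x0) 0 256 = true := by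
  decide +kernel
theorem o8fcl6x1 : pgChkGenW 256 (List.range 256) o8fL6 [o8fL7]
    (o8fgen o8fT6x1 o8fI6x1) 0 256 = true := by
  decide +kernel
theorem o8fcl6x2 : pgChkGenW 256 (List.range 256) o8fL6 [o8fL7]
    (o8fgen o8fT6x2 o8fI6x2) 0 256 = true := by
  decide +kernel
theorem o8fcl5x0 : pgChkGenW 256 (List.range 256) o8fL5 [o8fL6, o8fL7]
    (o8fgen o8fT5x0 o8fI5x0) 0 256 = true := by
  decide +kernel
theorem o8fcl5x1 : pgChkGenW 256 (List.range 256) o8fL5 [o8fL6, o8fL7]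
    (o8fgen o8fT5x1 o8fI5x1) 0 256 = true := by
  decide +kernel
theorem o8fcl5x2 : pgChkGenW 256 (List.range 256) o8fL5 [o8fL6, o8fL7]
    (o8fgen o8fT5x2 o8fI5x2) 0 256 = true := by
  decide +kernel
theorem o8fcl5x3 : pgChkGenW 256 (List.range 256) o8fL5 [o8fL6, o8fL7]
    (o8fgen o8fT5x3 o8fI5x3) 0 256 = true := by
  decide +kernel
theorem o8fcl5x4 : pgChkGenW 256 (List.range 256) o8fL5 [o8fL6, o8fL7]
    (o8fgen o8fT5x4 o8fI5x4) 0 256 = true := by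
  decide +kernel
theorem o8fcl5x5 : pgChkGenW 256 (List.range 256) o8fL5 [o8fL6, o8fL7]
    (o8fgen o8fT5x5 o8fI5x5) 0 256 = true := by
  decide +kernel
theorem o8fcl4x0 : pgChkGenW 256 (List.range 256) o8fL4 [o8fL5, o8fL6, o8fL7]
    (o8fgen o8fT4x0 o8fI4x0) 0 256 = true := by
  decide +kernel
theorem o8fcl4x1 : pgChkGenW 256 (List.range 256) o8fL4 [o8fL5, o8fL6, o8fL7]
    (o8fgen o8fT4x1 o8fI4x1) 0 256 = true := by
  decide +kernel
theorem o8fcl4x2 : pgChkGenW 256 (List.range 256) o8fL4 [o8fL5, o8fL6, o8fL7]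
    (o8fgen o8fT4x2 o8fI4x2) 0 256 = true := by
  decide +kernel
theorem o8fcl4x3 : pgChkGenW 256 (List.range 256) o8fL4 [o8fL5, o8fL6, o8fL7]
    (o8fgen o8fT4x3 o8fI4x3) 0 256 = true := by
  decide +kernel
theorem o8fcl3x0 : pgChkGenW 256 (List.range 256) o8fL3 [o8fL4, o8fL5, o8fL6, o8fL7]
    (o8fgen o8fT3x0 o8fI3x0) 0 256 = true := by
  decide +kernel
theorem o8fcl3x1 : pgChkGenW 256 (List.range 256) o8fL3 [o8fL4, o8fL5, o8fL6, o8fL7]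
    (o8fgen o8fT3x1 o8fI3x1) 0 256 = true := by
  decide +kernel
theorem o8fcl2x0 : pgChkGenW 256 (List.range 256) o8fL2 [o8fL3, o8fL4, o8fL5, o8fL6, o8fL7]
    (o8fgen o8fT2x0 o8fI2x0) 0 256 = true := by
  decide +kernel
theorem o8fcl2x1 : pgChkGenW 256 (List.range 256) o8fL2 [o8fL3, o8fL4, o8fL5, o8fL6, o8fL7]
    (o8fgen o8fT2x1 o8fI2x1) 0 256 = true := by
  decide +kernel
theorem o8fcl1x0 : pgChkGenW 256 (List.range 256) o8fL1 [o8fL2, o8fL3, o8fL4, o8fL5, o8fL6, o8fL7]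
    (o8fgen o8fT1x0 o8fI1x0) 0 256 = true := by
  decide +kernel
theorem o8fcl1x1 : pgChkGenW 256 (List.range 256) o8fL1 [o8fL2, o8fL3, o8fL4, o8fL5, o8fL6, o8fL7]
    (o8fgen o8fT1x1 o8fI1x1) 0 256 = true := by
  decide +kernel
theorem o8fcl1x2 : pgChkGenW 256 (List.range 256) o8fL1 [o8fL2, o8fL3, o8fL4, o8fL5, o8fL6, o8fL7]
    (o8fgen o8fT1x2 o8fI1x2) 0 256 = true := by
  decide +kernel
theorem o8fcl1x3 : pgChkGenW 256 (List.range 256) o8fL1 [o8fL2, o8fL3, o8fL4, o8fL5, o8fL6, o8fL7]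
    (o8fgen o8fT1x3 o8fI1x3) 0 256 = true := by
  decide +kernel
theorem o8fcl1x4 : pgChkGenW 256 (List.range 256) o8fL1 [o8fL2, o8fL3, o8fL4, o8fL5, o8fL6, o8fL7]
    (o8fgen o8fT1x4 o8fI1x4) 0 256 = true := by
  decide +kernel
theorem o8fcl1x5 : pgChkGenW 256 (List.range 256) o8fL1 [o8fL2, o8fL3, o8fL4, o8fL5, o8fL6, o8fL7]
    (o8fgen o8fT1x5 o8fI1x5) 0 256 = true := by
  decide +kernel
theorem o8fcl1x6 : pgChkGenW 256 (List.range 256) o8fL1 [o8fL2, o8fL3, o8fL4, o8fL5, o8fL6, o8fL7]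
    (o8fgen o8fT1x6 o8fI1x6) 0 256 = true := by
  decide +kernel
theorem o8fcl1x7 : pgChkGenW 256 (List.range 256) o8fL1 [o8fL2, o8fL3, o8fL4, o8fL5, o8fL6, o8fL7]
    (o8fgen o8fT1x7 o8fI1x7) 0 256 = true := by
  decide +kernel
theorem o8fcl1x8 : pgChkGenW 256 (List.range 256) o8fL1 [o8fL2, o8fL3, o8fL4, o8fL5, o8fL6, o8fL7]
    (o8fgen o8fT1x8 o8fI1x8) 0 256 = true := by
  decide +kernel
theorem o8fcl1x9 : pgChkGenW 256 (List.range 256) o8fL1 [o8fL2, o8fL3, o8fL4, o8fL5, o8fL6, o8fL7]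
    (o8fgen o8fT1x9 o8fI1x9) 0 256 = true := by
  decide +kernel
theorem o8fcl1x10 : pgChkGenW 256 (List.range 256) o8fL1 [o8fL2, o8fL3, o8fL4, o8fL5, o8fL6, o8fL7]
    (o8fgen o8fT1x10 o8fI1x10) 0 256 = true := by
  decide +kernel
theorem o8fcl1x11 : pgChkGenW 256 (List.range 256) o8fL1 [o8fL2, o8fL3, o8fL4, o8fL5, o8fL6, o8fL7]
    (o8fgen o8fT1x11 o8fI1x11) 0 256 = true := by
  decide +kernel
theorem o8fcl1x12 : pgChkGenW 256 (List.range 256) o8fL1 [o8fL2, o8fL3, o8fL4, o8fL5, o8fL6, o8fL7]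
    (o8fgen o8fT1x12 o8fI1x12) 0 256 = true := by
  decide +kernel
theorem o8fcl1x13 : pgChkGenW 256 (List.range 256) o8fL1 [o8fL2, o8fL3, o8fL4, o8fL5, o8fL6, o8fL7]
    (o8fgen o8fT1x13 o8fI1x13) 0 256 = true := by
  decide +kernel
theorem o8fcl1x14 : pgChkGenW 256 (List.range 256) o8fL1 [o8fL2, o8fL3, o8fL4, o8fL5, o8fL6, o8fL7]
    (o8fgen o8fT1x14 o8fI1x14) 0 256 = true := by
  decide +kernel
theorem o8fcl1x15 : pgChkGenW 256 (List.range 256) o8fL1 [o8fL2, o8fL3, o8fL4, o8fL5, o8fL6, o8fL7]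
    (o8fgen o8fT1x15 o8fI1x15) 0 256 = true := by
  decide +kernel
theorem o8fcl1x16 : pgChkGenW 256 (List.range 256) o8fL1 [o8fL2, o8fL3, o8fL4, o8fL5, o8fL6, o8fL7]
    (o8fgen o8fT1x16 o8fI1x16) 0 256 = true := by
  decide +kernel
theorem o8fcl1x17 : pgChkGenW 256 (List.range 256) o8fL1 [o8fL2, o8fL3, o8fL4, o8fL5, o8fL6, o8fL7]
    (o8fgen o8fT1x17 o8fI1x17) 0 256 = true := by
  decide +kernel
theorem o8fcl1x18 : pgChkGenW 256 (List.range 256) o8fL1 [o8fL2, o8fL3, o8fL4, o8fL5, o8fL6, o8fL7]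
    (o8fgen o8fT1x18 o8fI1x18) 0 256 = true := by
  decide +kernel
theorem o8fcl1x19 : pgChkGenW 256 (List.range 256) o8fL1 [o8fL2, o8fL3, o8fL4, o8fL5, o8fL6, o8fL7]
    (o8fgen o8fT1x19 o8fI1x19) 0 256 = true := by
  decide +kernel
theorem o8fcl1x20 : pgChkGenW 256 (List.range 256) o8fL1 [o8fL2, o8fL3, o8fL4, o8fL5, o8fL6, o8fL7]
    (o8fgen o8fT1x20 o8fI1x20) 0 256 = true := by
  decide +kernel
theorem o8fcl1x21 : pgChkGenW 256 (List.range 256) o8fL1 [o8fL2, o8fL3, o8fL4, o8fL5, o8fL6, o8fL7]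
    (o8fgen o8fT1x21 o8fI1x21) 0 256 = true := by
  decide +kernel
theorem o8fcl1x22 : pgChkGenW 256 (List.range 256) o8fL1 [o8fL2, o8fL3, o8fL4, o8fL5, o8fL6, o8fL7]
    (o8fgen o8fT1x22 o8fI1x22) 0 256 = true := by
  decide +kernel
theorem o8fcl1x23 : pgChkGenW 256 (List.range 256) o8fL1 [o8fL2, o8fL3, o8fL4, o8fL5, o8fL6, o8fL7]
    (o8fgen o8fT1x23 o8fI1x23) 0 256 = true := by
  decide +kernel
theorem o8fcl1x24 : pgChkGenW 256 (List.range 256) o8fL1 [o8fL2, o8fL3, o8fL4, o8fL5, o8fL6, o8fL7]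
    (o8fgen o8fT1x24 o8fI1x24) 0 256 = true := by
  decide +kernel

theorem o8fchkL7 : pgChkLvlW 256 (List.range 256) o8fL7 [] = true := by
  apply pgChkLvlW_ofAllX o8fchk0x7
  intro s hs
  change s ∈ [o8fgen o8fT7x0 o8fI7x0, o8fgen o8fT7x1 o8fI7x1] at hs
  simp only [List.mem_cons, List.not_mem_nil, or_false] at hs
  rcases hs with rfl | rfl
  · exact o8fcl7x0
  · exact o8fcl7x1

theorem o8fchkL6 : pgChkLvlW 256 (List.range 256) o8fL6 [o8fL7] = true := by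
  apply pgChkLvlW_ofAllX o8fchk0x6
  intro s hs
  change s ∈ [o8fgen o8fT6x0 o8fI6x0, o8fgen o8fT6x1 o8fI6x1, o8fgen o8fT6x2 o8fI6x2] at hs
  simp only [List.mem_cons, List.not_mem_nil, or_false] at hs
  rcases hs with rfl | rfl | rfl
  · exact o8fcl6x0
  · exact o8fcl6x1
  · exact o8fcl6x2

theorem o8fchkL5 : pgChkLvlW 256 (List.range 256) o8fL5 [o8fL6, o8fL7] = true := by
  apply pgChkLvlW_ofAllX o8fchk0x5
  intro s hs
  change s ∈ [o8fgen o8fT5x0 o8fI5x0, o8fgen o8fT5x1 o8fI5x1, o8fgen o8fT5x2 o8fI5x2, o8fgen o8fT5x3 o8fI5x3, o8fgen o8fT5x4 o8fI5x4, o8fgen o8fT5x5 o8fI5x5] at hs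
  simp only [List.mem_cons, List.not_mem_nil, or_false] at hs
  rcases hs with rfl | rfl | rfl | rfl | rfl | rfl
  · exact o8fcl5x0
  · exact o8fcl5x1
  · exact o8fcl5x2
  · exact o8fcl5x3
  · exact o8fcl5x4
  · exact o8fcl5x5

theorem o8fchkL4 : pgChkLvlW 256 (List.range 256) o8fL4 [o8fL5, o8fL6, o8fL7] = true := by
  apply pgChkLvlW_ofAllX o8fchk0x4
  intro s hs
  change s ∈ [o8fgen o8fT4x0 o8fI4x0, o8fgen o8fT4x1 o8fI4x1, o8fgen o8fT4x2 o8fI4x2, o8fgen o8fT4x3 o8fI4x3] at hs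
  simp only [List.mem_cons, List.not_mem_nil, or_false] at hs
  rcases hs with rfl | rfl | rfl | rfl
  · exact o8fcl4x0
  · exact o8fcl4x1
  · exact o8fcl4x2
  · exact o8fcl4x3

theorem o8fchkL3 : pgChkLvlW 256 (List.range 256) o8fL3 [o8fL4, o8fL5, o8fL6, o8fL7] = true := by
  apply pgChkLvlW_ofAllX o8fchk0x3
  intro s hs
  change s ∈ [o8fgen o8fT3x0 o8fI3x0, o8fgen o8fT3x1 o8fI3x1] at hs
  simp only [List.mem_cons, List.not_mem_nil, or_false] at hs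
  rcases hs with rfl | rfl
  · exact o8fcl3x0
  · exact o8fcl3x1

theorem o8fchkL2 : pgChkLvlW 256 (List.range 256) o8fL2 [o8fL3, o8fL4, o8fL5, o8fL6, o8fL7] = true := by
  apply pgChkLvlW_ofAllX o8fchk0x2
  intro s hs
  change s ∈ [o8fgen o8fT2x0 o8fI2x0, o8fgen o8fT2x1 o8fI2x1] at hs
  simp only [List.mem_cons, List.not_mem_nil, or_false] at hs
  rcases hs with rfl | rfl
  · exact o8fcl2x0
  · exact o8fcl2x1

theorem o8fchkL1 : pgChkLvlW 256 (List.range 256) o8fL1 [o8fL2, o8fL3, o8fL4, o8fL5, o8fL6, o8fL7] = true := by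
  apply pgChkLvlW_ofAllX o8fchk0x1
  intro s hs
  change s ∈ [o8fgen o8fT1x0 o8fI1x0, o8fgen o8fT1x1 o8fI1x1, o8fgen o8fT1x2 o8fI1x2, o8fgen o8fT1x3 o8fI1x3, o8fgen o8fT1x4 o8fI1x4, o8fgen o8fT1x5 o8fI1x5, o8fgen o8fT1x6 o8fI1x6, o8fgen o8fT1x7 o8fI1x7, o8fgen o8fT1x8 o8fI1x8, o8fgen o8fT1x9 o8fI1x9, o8fgen o8fT1x10 o8fI1x10, o8fgen o8fT1x11 o8fI1x11, o8fgen o8fT1x12 o8fI1x12, o8fgen o8fT1x13 o8fI1x13, o8fgen o8fT1x14 o8fI1x14, o8fgen o8fT1x15 o8fI1x15, o8fgen o8fT1x16 o8fI1x16, o8fgen o8fT1x17 o8fI1x17, o8fgen o8fT1x18 o8fI1x18, o8fgen o8fT1x19 o8fI1x19, o8fgen o8fT1x20 o8fI1x20, o8fgen o8fT1x21 o8fI1x21, o8fgen o8fT1x22 o8fI1x22, o8fgen o8fT1x23 o8fI1x23, o8fgen o8fT1x24 o8fI1x24] at hs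
  simp only [List.mem_cons, List.not_mem_nil, or_false] at hs
  rcases hs with rfl | rfl | rfl | rfl | rfl | rfl | rfl | rfl | rfl | rfl | rfl | rfl | rfl | rfl | rfl | rfl | rfl | rfl | rfl | rfl | rfl | rfl | rfl | rfl | rfl
  · exact o8fcl1x0
  · exact o8fcl1x1
  · exact o8fcl1x2
  · exact o8fcl1x3
  · exact o8fcl1x4
  · exact o8fcl1x5
  · exact o8fcl1x6
  · exact o8fcl1x7
  · exact o8fcl1x8
  · exact o8fcl1x9
  · exact o8fcl1x10
  · exact o8fcl1x11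
  · exact o8fcl1x12
  · exact o8fcl1x13
  · exact o8fcl1x14
  · exact o8fcl1x15
  · exact o8fcl1x16
  · exact o8fcl1x17
  · exact o8fcl1x18
  · exact o8fcl1x19
  · exact o8fcl1x20
  · exact o8fcl1x21
  · exact o8fcl1x22
  · exact o8fcl1x23
  · exact o8fcl1x24

/-- the stabiliser chain -/
def o8fC : List PgLvlW := [o8fL1, o8fL2, o8fL3, o8fL4, o8fL5, o8fL6, o8fL7]

theorem o8fchkC : pgChkW 256 (pgRigidAll 256).base o8fC = true := by
  change pgChkW 256 (List.range 256) [o8fL1, o8fL2, o8fL3, o8fL4, o8fL5, o8fL6, o8fL7] = true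
  rw [pgChkW_cons, pgChkW_cons, pgChkW_cons, pgChkW_cons, pgChkW_cons, pgChkW_cons, pgChkW_cons, o8fchkL1, o8fchkL2, o8fchkL3, o8fchkL4, o8fchkL5, o8fchkL6, o8fchkL7]
  rfl

end Cfsg.Agent.Lib.Helper5.O8M
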