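import Mathlib
import Cfsg.Agent.Lib.Helper5.H1OH
import Cfsg.Agent.Lib.Helper5.O8MA
import Cfsg.Agent.Lib.Helper5.O8IsoData
import Cfsg.Prelude.Def_Classical

set_option autoImplicit false
set_option maxRecDepth 1000000

/-! The isometry group of the quadratic form of plus type of degree eight over the field with two
elements is isomorphic to the group of permutations of 256 points generated by the 120
reflections. -/

namespace Cfsg.Agent.Lib.Helper5.O8M

open Cfsg Cfsg.Agent.Lib.helper23 Cfsg.Agent.Lib.Helper5.H1O Cfsg.Agent.Lib.Helper16 Matrix Subgroup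

/-- the vectors over the field with two elements -/
abbrev V8 : Type := Fin 4 ⊕ Fin 4 → ZMod 2

/-- the isometry group over the field with two elements -/
abbrev OG : Type := ↥(Cfsg.isometryGroup (ZMod 2) ⇑Q8)

/-- the position of a coordinate -/
def pos8 : Fin 4 ⊕ Fin 4 → ℕ
  | .inl i => i.1
  | .inr i => 4 + i.1

/-- the vector of a code -/
def decode (a : ℕ) : V8 := fun i => ((a / 2 ^ pos8 i % 2 : ℕ) : ZMod 2)

/-- the code of a vector -/
def code (v : V8) : ℕ :=
  (v (.inl 0)).val + 2 * (v (.inl 1)).val + 4 * (v (.inl 2)).val + 8 * (v (.inl 3)).val +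
    16 * (v (.inr 0)).val + 32 * (v (.inr 1)).val + 64 * (v (.inr 2)).val +
    128 * (v (.inr 3)).val

theorem code_lt (v : V8) : code v < 256 := by
  have h0 := ZMod.val_lt (v (.inl 0))
  have h1 := ZMod.val_lt (v (.inl 1))
  have h2 := ZMod.val_lt (v (.inl 2))
  have h3 := ZMod.val_lt (v (.inl 3))
  have h4 := ZMod.val_lt (v (.inr 0))
  have h5 := ZMod.val_lt (v (.inr 1))
  have h6 := ZMod.val_lt (v (.inr 2))
  have h7 := ZMod.val_lt (v (.inr 3))
  unfold code
  omega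

theorem code_decode_chk : pgAll 256 (fun a => Nat.beq (code (decode a)) a) = true := by
  decide +kernel

theorem code_decode (a : ℕ) (ha : a < 256) : code (decode a) = a := by
  have := (pgAll_iff _ _).1 code_decode_chk a ha
  rwa [Nat.beq_eq] at this

theorem bits8 (x0 x1 x2 x3 x4 x5 x6 x7 : ℕ) (h0 : x0 < 2) (h1 : x1 < 2) (h2 : x2 < 2) (h3 : x3 < 2)
    (h4 : x4 < 2) (h5 : x5 < 2) (h6 : x6 < 2) (h7 : x7 < 2) :
    (x0 + 2 * x1 + 4 * x2 + 8 * x3 + 16 * x4 + 32 * x5 + 64 * x6 + 128 * x7) / 1 % 2 = x0 ∧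
    (x0 + 2 * x1 + 4 * x2 + 8 * x3 + 16 * x4 + 32 * x5 + 64 * x6 + 128 * x7) / 2 % 2 = x1 ∧
    (x0 + 2 * x1 + 4 * x2 + 8 * x3 + 16 * x4 + 32 * x5 + 64 * x6 + 128 * x7) / 4 % 2 = x2 ∧
    (x0 + 2 * x1 + 4 * x2 + 8 * x3 + 16 * x4 + 32 * x5 + 64 * x6 + 128 * x7) / 8 % 2 = x3 ∧
    (x0 + 2 * x1 + 4 * x2 + 8 * x3 + 16 * x4 + 32 * x5 + 64 * x6 + 128 * x7) / 16 % 2 = x4 ∧
    (x0 + 2 * x1 + 4 * x2 + 8 * x3 + 16 * x4 + 32 * x5 + 64 * x6 + 128 * x7) / 32 % 2 = x5 ∧
    (x0 + 2 * x1 + 4 * x2 + 8 * x3 + 16 * x4 + 32 * x5 + 64 * x6 + 128 * x7) / 64 % 2 = x6 ∧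
    (x0 + 2 * x1 + 4 * x2 + 8 * x3 + 16 * x4 + 32 * x5 + 64 * x6 + 128 * x7) / 128 % 2 = x7 := by
  refine ⟨?_, ?_, ?_, ?_, ?_, ?_, ?_, ?_⟩ <;> omega

theorem decode_code (v : V8) : decode (code v) = v := by
  obtain ⟨b0, b1, b2, b3, b4, b5, b6, b7⟩ := bits8 _ _ _ _ _ _ _ _ (ZMod.val_lt (v (.inl 0)))
    (ZMod.val_lt (v (.inl 1))) (ZMod.val_lt (v (.inl 2))) (ZMod.val_lt (v (.inl 3)))
    (ZMod.val_lt (v (.inr 0))) (ZMod.val_lt (v (.inr 1))) (ZMod.val_lt (v (.inr 2)))
    (ZMod.val_lt (v (.inr 3)))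
  funext i
  rcases i with i | i <;> fin_cases i
  · show ((code v / 2 ^ 0 % 2 : ℕ) : ZMod 2) = v (.inl 0)
    rw [pow_zero]; unfold code; rw [b0, ZMod.natCast_zmod_val]
  · show ((code v / 2 ^ 1 % 2 : ℕ) : ZMod 2) = v (.inl 1)
    rw [pow_one]; unfold code; rw [b1, ZMod.natCast_zmod_val]
  · show ((code v / 2 ^ 2 % 2 : ℕ) : ZMod 2) = v (.inl 2)
    norm_num only; unfold code; rw [b2, ZMod.natCast_zmod_val]
  · show ((code v / 2 ^ 3 % 2 : ℕ) : ZMod 2) = v (.inl 3)
    norm_num only; unfold code; rw [b3, ZMod.natCast_zmod_val]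
  · show ((code v / 2 ^ 4 % 2 : ℕ) : ZMod 2) = v (.inr 0)
    norm_num only; unfold code; rw [b4, ZMod.natCast_zmod_val]
  · show ((code v / 2 ^ 5 % 2 : ℕ) : ZMod 2) = v (.inr 1)
    norm_num only; unfold code; rw [b5, ZMod.natCast_zmod_val]
  · show ((code v / 2 ^ 6 % 2 : ℕ) : ZMod 2) = v (.inr 2)
    norm_num only; unfold code; rw [b6, ZMod.natCast_zmod_val]
  · show ((code v / 2 ^ 7 % 2 : ℕ) : ZMod 2) = v (.inr 3)
    norm_num only; unfold code; rw [b7, ZMod.natCast_zmod_val]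

/-- the coding of the vectors -/
def E8c : V8 ≃ Fin 256 where
  toFun v := ⟨code v, code_lt v⟩
  invFun a := decode a.1
  left_inv := decode_code
  right_inv a := Fin.ext (code_decode a.1 a.2)

/-! ### the action -/

/-- the action of an isometry on the vectors -/
noncomputable def actPerm (g : OG) : Equiv.Perm V8 where
  toFun v := act Q8 g v
  invFun v := act Q8 g⁻¹ v
  left_inv v := act_inv_act Q8 g v
  right_inv v := act_act_inv Q8 g v

/-- the action as a homomorphism -/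
noncomputable def rho0 : OG →* Equiv.Perm V8 where
  toFun := actPerm
  map_one' := by
    apply Equiv.ext
    intro v
    exact act_one Q8 v
  map_mul' A B := by
    apply Equiv.ext
    intro v
    exact act_mul Q8 A B v

/-- the action on the codes -/
noncomputable def rho : OG →* Equiv.Perm (Fin 256) := (E8c.permCongrHom).toMonoidHom.comp rho0

theorem rho_apply (g : OG) (a : Fin 256) : ((rho g) a).1 = code (act Q8 g (decode a.1)) := rfl

/-- the quadratic form, explicitly -/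
def q8 (x : V8) : ZMod 2 :=
  x (.inl 0) * x (.inr 0) + x (.inl 1) * x (.inr 1) + x (.inl 2) * x (.inr 2) +
    x (.inl 3) * x (.inr 3)

/-- the polar form, explicitly -/
def b8 (u x : V8) : ZMod 2 :=
  u (.inl 0) * x (.inr 0) + x (.inl 0) * u (.inr 0) + (u (.inl 1) * x (.inr 1) + x (.inl 1) * u (.inr 1)) +
    (u (.inl 2) * x (.inr 2) + x (.inl 2) * u (.inr 2)) +
    (u (.inl 3) * x (.inr 3) + x (.inl 3) * u (.inr 3))

theorem Q8_eq (x : V8) : Q8 x = q8 x := by
  show Cfsg.quadFormPlus 4 (ZMod 2) x = _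
  unfold Cfsg.quadFormPlus q8
  rw [Fin.sum_univ_four]

theorem polar_eq (u x : V8) : QuadraticMap.polar (⇑Q8) u x = b8 u x := by
  have e : (⇑Q8 : V8 → ZMod 2) = Cfsg.quadFormPlus 4 (ZMod 2) := rfl
  rw [e, polar_plus, Fin.sum_univ_four]
  unfold b8
  ring

/-- the reflection, on vectors -/
def ttV (w x : V8) : V8 := x + (b8 w x) • w

/-- the reflection of index `k`, as a pair of lookups -/
def rG (k : ℕ) : PFun := reflL.getD k PFun.one

/-- the code of the nonsingular vector of index `k` -/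
def nsC (k : ℕ) : ℕ := nsL.getD k 0

theorem refl_ok_chk : pgAll 120 (fun k => (rG k).ok 256) = true := by decide +kernel

theorem reflok : ∀ P ∈ reflL, P.ok 256 = true := by
  intro P hP
  obtain ⟨k, hk, rfl⟩ := List.mem_iff_getElem.mp hP
  have hk' : k < 120 := hk
  have := (pgAll_iff _ _).1 refl_ok_chk k hk'
  unfold rG at this
  rwa [List.getD_eq_getElem _ _ hk] at this

theorem rG_ok (k : ℕ) : (rG k).ok 256 = true := pgGetD_ok reflok k

theorem tau_chk : pgAll 120 (fun k => pgAll 256 (fun a =>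
    Nat.beq (code (ttV (decode (nsC k)) (decode a))) ((rG k).f a))) = true := by
  decide +kernel

theorem ns_chk : pgAll 120 (fun k => decide (q8 (decode (nsC k)) = 1)) = true := by
  decide +kernel

theorem idx_chk : pgAll 256 (fun c => cond (decide (q8 (decode c) = 1))
    (Nat.beq (nsC (idxL.getD c 0)) c && Nat.blt (idxL.getD c 0) 120) true) = true := by
  decide +kernel

end Cfsg.Agent.Lib.Helper5.O8M
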