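import Mathlib
import Cfsg.Agent.Lib.Helper5.O8IsoA

set_option autoImplicit false
set_option maxRecDepth 1000000

/-! The isometry group of the quadratic form of plus type of degree eight over the field with two
elements is isomorphic to the group of permutations of 256 points generated by the 120
reflections: the isomorphism. -/

namespace Cfsg.Agent.Lib.Helper5.O8M

open Cfsg Cfsg.Agent.Lib.helper23 Cfsg.Agent.Lib.Helper5.H1O Cfsg.Agent.Lib.Helper16 Matrix Subgroup

/-- the group generated by the reflections on 256 points -/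
abbrev H256 : Subgroup (Equiv.Perm (Fin 256)) := closure (pgSet 256 reflL)

theorem code_ne_of_q8 {u : V8} (hu : q8 u = 1) :
    nsC (idxL.getD (code u) 0) = code u ∧ idxL.getD (code u) 0 < 120 := by
  have h := (pgAll_iff _ _).1 idx_chk (code u) (code_lt u)
  rw [decode_code] at h
  have hd : decide (q8 u = 1) = true := by simpa using hu
  rw [hd] at h
  have h' : (Nat.beq (nsC (idxL.getD (code u) 0)) (code u) &&
      Nat.blt (idxL.getD (code u) 0) 120) = true := h
  rw [Bool.and_eq_true] at h'
  obtain ⟨h1, h2⟩ := h'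
  rw [Nat.beq_eq] at h1
  exact ⟨h1, by simpa using h2⟩

theorem rho_tt (u : V8) (hu : Q8 u = 1) :
    rho (tt Q8 u) = (rG (idxL.getD (code u) 0)).perm 256 := by
  have hq : q8 u = 1 := by rw [← Q8_eq]; exact hu
  obtain ⟨h1, h2⟩ := code_ne_of_q8 hq
  apply Equiv.ext
  intro a
  apply Fin.ext
  rw [rho_apply, PFun.perm_apply (rG_ok _), act_tt Q8 u hu, polar_eq]
  have := (pgAll_iff _ _).1 ((pgAll_iff _ _).1 tau_chk _ h2) a.1 a.2
  rw [Nat.beq_eq, h1, decode_code] at this
  exact this

theorem rho_mem (g : OG) : rho g ∈ H256 := by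
  have htop : g ∈ (⊤ : Subgroup OG) := Subgroup.mem_top g
  rw [← Q8_gen] at htop
  induction htop using Subgroup.closure_induction with
  | mem r hr =>
    obtain ⟨u, hu, rfl⟩ := Rset_eq_tt Q8 r hr
    rw [rho_tt u hu]
    exact pgGetD_mem _
  | one => rw [map_one]; exact one_mem _
  | mul x y _ _ hx hy => rw [map_mul]; exact mul_mem hx hy
  | inv x _ hx => rw [map_inv]; exact inv_mem hx

/-- the action, into the group on 256 points -/
noncomputable def rhoH : OG →* ↥H256 := rho.codRestrict H256 rho_mem

theorem rhoH_coe (g : OG) : ((rhoH g : ↥H256) : Equiv.Perm (Fin 256)) = rho g := rfl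

theorem nsC_lt (k : ℕ) (hk : k < 120) : nsC k < 256 := by
  have h : pgAll 120 (fun k => Nat.blt (nsC k) 256) = true := by decide +kernel
  have := (pgAll_iff _ _).1 h k hk
  simpa using this

theorem rhoH_surj : Function.Surjective rhoH := by
  rintro ⟨y, hy⟩
  have key : ∀ y (hy : y ∈ H256), ∃ g : OG, rho g = y := by
    intro y hy
    induction hy using Subgroup.closure_induction with
    | mem y hy =>
      obtain ⟨P, hP, rfl⟩ := hy
      obtain ⟨k, hk, rfl⟩ := List.mem_iff_getElem.mp hP
      have hk' : k < 120 := hk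
      have hq : q8 (decode (nsC k)) = 1 := by
        have := (pgAll_iff _ _).1 ns_chk k hk'
        simpa using this
      have hQ : Q8 (decode (nsC k)) = 1 := by rw [Q8_eq]; exact hq
      refine ⟨tt Q8 (decode (nsC k)), ?_⟩
      rw [rho_tt _ hQ, code_decode _ (nsC_lt k hk')]
      have hidx : idxL.getD (nsC k) 0 = k := by
        have h : pgAll 120 (fun k => Nat.beq (idxL.getD (nsC k) 0) k) = true := by decide +kernel
        have := (pgAll_iff _ _).1 h k hk'
        rwa [Nat.beq_eq] at this
      rw [hidx]
      show (rG k).perm 256 = _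
      unfold rG
      rw [List.getD_eq_getElem _ _ hk]
    | one => exact ⟨1, map_one _⟩
    | mul a b ha hb iha ihb =>
      obtain ⟨γ, hγ⟩ := iha
      obtain ⟨δ, hδ⟩ := ihb
      exact ⟨γ * δ, by rw [map_mul, hγ, hδ]⟩
    | inv a ha iha =>
      obtain ⟨γ, hγ⟩ := iha
      exact ⟨γ⁻¹, by rw [map_inv, hγ]⟩
  obtain ⟨g, hg⟩ := key y hy
  exact ⟨g, Subtype.ext hg⟩

theorem rhoH_inj : Function.Injective rhoH := by
  rw [injective_iff_map_eq_one]
  intro g hg
  have h1 : rho g = 1 := by
    rw [← rhoH_coe, hg]; rfl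
  apply iso_ext_act Q8
  intro v
  rw [act_one]
  have := congrArg (fun p : Equiv.Perm (Fin 256) => (p (E8c v)).1) h1
  simp only [Equiv.Perm.one_apply] at this
  rw [rho_apply] at this
  have e : decode (E8c v).1 = v := decode_code v
  rw [e] at this
  have e2 : (E8c v).1 = code v := rfl
  rw [e2] at this
  rw [← decode_code (act Q8 g v), this, decode_code]

/-- the isometry group over the field with two elements is the group on 256 points -/
noncomputable def isoO : OG ≃* ↥H256 := MulEquiv.ofBijective rhoH ⟨rhoH_inj, rhoH_surj⟩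

end Cfsg.Agent.Lib.Helper5.O8M
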