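import Mathlib
import Cfsg.Agent.Lib.Helper5.O8IsoB
import Cfsg.Agent.Lib.Helper5.O8FullChk
import Cfsg.Agent.Lib.helper23.PgS
import Cfsg.Agent.Lib.helper23.PgJ
import Cfsg.Agent.Lib.Lead.IsoTransfer
import Cfsg.Agent.Lib.Lead.OmegaCenter2

set_option autoImplicit false
set_option maxRecDepth 1000000

/-! The commutator subgroup of the group generated by the 120 reflections on 256 points is the group
generated by the 24 root elements; the identification of the simple orthogonal group of plus type
of degree eight over a field with two elements. -/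

namespace Cfsg.Agent.Lib.Helper5.O8M

open Cfsg Cfsg.Agent.Lib.helper23 Cfsg.Agent.Lib.Helper5.H1O Cfsg.Agent.Lib.Helper16 Matrix Subgroup
open scoped commutatorElement

/-! ### the order of the group generated by the reflections -/

theorem o8fA : pgGrpW 256 o8fC ≤ (pgRigidAll 256).A := le_top

theorem o8fok : ∀ P ∈ o8fL1.own, P.ok 256 = true :=
  pgChkW_own_ok 256 (pgRigidAll 256).base o8fC o8fchkC

theorem o8ford : pgOrdW 256 o8fC = 348364800 := by decide +kernel

/-- the group of the second chain -/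
abbrev F256 : Subgroup (Equiv.Perm (Fin 256)) := pgGrpW 256 o8fC

theorem card_F256 : Nat.card F256 = 348364800 := by
  rw [pgCardW (pgRigidAll 256) o8fC o8fchkC o8fA, o8ford]

theorem sift_chk : pgAll 120 (fun k => pgSiftW 256 (pgRigidAll 256).base o8fC (rG k).f) = true := by
  decide +kernel

theorem H256_le_F256 : H256 ≤ F256 := by
  rw [closure_le]
  rintro _ ⟨P, hP, rfl⟩
  obtain ⟨k, hk, rfl⟩ := List.mem_iff_getElem.mp hP
  have hk' : k < 120 := hk
  have h := (pgAll_iff _ _).1 sift_chk k hk'
  unfold rG at h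
  rw [List.getD_eq_getElem _ _ hk] at h
  exact pgSift_mem (pgRigidAll 256) o8fchkC o8fA (reflok _ hP) (Subgroup.mem_top _) h

theorem fwords_chk : pgAll (pgOwnW o8fC).length (fun j => pgAll 256 (fun p =>
    Nat.beq (((pgOwnW o8fC).getD j PFun.one).f p) (pgEvalW reflL (fW.getD j []) p))) = true := by
  decide +kernel

theorem F256_le_H256 : F256 ≤ H256 :=
  pgGrpW_le_of_words (C := o8fC) (gs := reflL) (ws := fW) o8fok reflok fwords_chk

theorem H256_eq : H256 = F256 := le_antisymm H256_le_F256 F256_le_H256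

theorem card_H256 : Nat.card H256 = 348364800 := by rw [H256_eq, card_F256]

theorem kwords_chk : pgAll (pgOwnW o8bC).length (fun j => pgAll 256 (fun p =>
    Nat.beq (((pgOwnW o8bC).getD j PFun.one).f p) (pgEvalW reflL (kW.getD j []) p))) = true := by
  decide +kernel

theorem K256_le_H256 : K256 ≤ H256 :=
  pgGrpW_le_of_words (C := o8bC) (gs := reflL) (ws := kW) o8bok reflok kwords_chk

/-! ### the commutator subgroup -/

/-- the generator of index `k`, as a pair of lookups -/
def bG (k : ℕ) : PFun := o8bL1.own.getD k PFun.one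

theorem bG_ok (k : ℕ) : (bG k).ok 256 = true := pgGetD_ok o8bok k

/-- the commutator word -/
def cmW (i j : ℕ) : List ℕ := [i] ++ ([j] ++ (pgInvW 24 [i] ++ pgInvW 24 [j]))

theorem comm_chk : pgAll 24 (fun k => pgAll 256 (fun p =>
    Nat.beq ((bG k).f p) (pgEvalW o8bL1.own (cmW (cI.getD k 0) (cJ.getD k 0)) p))) = true := by
  decide +kernel

theorem cI_lt (k : ℕ) (hk : k < 24) : cI.getD k 0 < 24 ∧ cJ.getD k 0 < 24 := by
  have h : pgAll 24 (fun k => Nat.blt (cI.getD k 0) 24 && Nat.blt (cJ.getD k 0) 24) = true := by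
    decide +kernel
  have := (pgAll_iff _ _).1 h k hk
  rw [Bool.and_eq_true] at this
  exact ⟨by simpa using this.1, by simpa using this.2⟩

theorem cmW_perm (i j : ℕ) (hi : i < 24) (hj : j < 24) :
    pgWordPerm 256 o8bL1.own (cmW i j) =
      ⁅pgWordPerm 256 o8bL1.own [i], pgWordPerm 256 o8bL1.own [j]⁆ := by
  have hl : o8bL1.own.length = 24 := rfl
  have e1 := pgInvW_perm o8bok [i] (by intro x hx; rw [List.mem_singleton] at hx; rw [hl]; omega)
  have e2 := pgInvW_perm o8bok [j] (by intro x hx; rw [List.mem_singleton] at hx; rw [hl]; omega)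
  rw [hl] at e1 e2
  unfold cmW
  rw [pgWordPerm_append, pgWordPerm_append, pgWordPerm_append, e1, e2, commutatorElement_def]
  group

theorem K256_le_comm : K256 ≤ ⁅H256, H256⁆ := by
  rw [closure_le]
  rintro _ ⟨P, hP, rfl⟩
  obtain ⟨k, hk, hPk⟩ := List.mem_iff_getElem.mp hP
  have hk' : k < 24 := hk
  have hbG : bG k = P := by
    unfold bG
    rw [List.getD_eq_getElem _ _ hk, hPk]
  obtain ⟨hi, hj⟩ := cI_lt k hk'
  have e : P.perm 256 =
      pgWordPerm 256 o8bL1.own (cmW (cI.getD k 0) (cJ.getD k 0)) := by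
    apply Equiv.ext
    intro p
    apply Fin.ext
    rw [PFun.perm_apply (o8bok _ hP), pgWordPerm_apply o8bok]
    have := (pgAll_iff _ _).1 ((pgAll_iff _ _).1 comm_chk k hk') p.1 p.2
    rw [hbG, Nat.beq_eq] at this
    exact this
  rw [SetLike.mem_coe, e, cmW_perm _ _ hi hj]
  exact Subgroup.commutator_mem_commutator (K256_le_H256 (pgWordPerm_mem o8bok _))
    (K256_le_H256 (pgWordPerm_mem o8bok _))

theorem comm_le_K256 : ⁅H256, H256⁆ ≤ K256 := by
  set Ks : Subgroup ↥H256 := K256.subgroupOf H256 with hKs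
  have hcard : Nat.card Ks = 174182400 := by
    rw [hKs, Nat.card_congr (Subgroup.subgroupOfEquivOfLe K256_le_H256).toEquiv, card_K256]
  have hidx : Ks.index = 2 := by
    have h := Subgroup.card_mul_index Ks
    rw [hcard, card_H256] at h
    omega
  haveI : Ks.Normal := Subgroup.normal_of_index_eq_two hidx
  have hq : Nat.card (↥H256 ⧸ Ks) = 2 := by
    rw [← Subgroup.index_eq_card]; exact hidx
  haveI : Fact (Nat.Prime 2) := ⟨Nat.prime_two⟩
  haveI : IsCyclic (↥H256 ⧸ Ks) := isCyclic_of_prime_card hq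
  have hc : IsMulCommutative (↥H256 ⧸ Ks) :=
    ⟨⟨fun a b => (IsCyclic.commGroup (α := ↥H256 ⧸ Ks)).mul_comm a b⟩⟩
  have hle : commutator ↥H256 ≤ Ks :=
    Subgroup.Normal.quotient_commutative_iff_commutator_le.mp hc
  have h1 : (commutator ↥H256).map H256.subtype = ⁅H256, H256⁆ := by
    rw [commutator_def, Subgroup.map_commutator, ← MonoidHom.range_eq_map, Subgroup.range_subtype]
  rw [← h1]
  intro x hx
  obtain ⟨y, hy, rfl⟩ := hx
  have := hle hy
  rw [hKs, Subgroup.mem_subgroupOf] at this
  exact this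

theorem comm_eq_K256 : ⁅H256, H256⁆ = K256 := le_antisymm comm_le_K256 K256_le_comm

/-! ### the identification -/

theorem o8_commutator_equiv {A B : Type*} [Group A] [Group B] (e : A ≃* B) :
    Nonempty (↥(commutator A) ≃* ↥(commutator B)) := by
  have h : (commutator A).map e.toMonoidHom = commutator B := by
    rw [commutator_def, Subgroup.map_commutator, commutator_def,
      Subgroup.map_top_of_surjective _ e.surjective]
  exact ⟨(e.subgroupMap (commutator A)).trans (MulEquiv.subgroupCongr h)⟩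

theorem o8_commutator_subgroup {Γ : Type*} [Group Γ] (G : Subgroup Γ) :
    Nonempty (↥(commutator ↥G) ≃* ↥⁅G, G⁆) := by
  have h : (commutator ↥G).map G.subtype = ⁅G, G⁆ := by
    rw [commutator_def, Subgroup.map_commutator, ← MonoidHom.range_eq_map, Subgroup.range_subtype]
  exact ⟨((commutator ↥G).equivMapOfInjective G.subtype Subtype.coe_injective).trans
    (MulEquiv.subgroupCongr h)⟩

universe u

/-- the simple orthogonal group of plus type of degree eight over a field with two elements is the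
group on 256 points generated by the root elements -/
theorem exists_iso {F : Type u} [Field F] [Fintype F] (hF : Fintype.card F = 2) :
    Nonempty (Cfsg.POmega F (Cfsg.quadFormPlus 4 F) ≃* HG) := by
  haveI : Fact (Nat.Prime 2) := ⟨Nat.prime_two⟩
  haveI : CharP F 2 := charP_of_card_eq_prime hF
  have φ : F ≃+* ZMod 2 := (ZMod.ringEquivOfPrime F Nat.prime_two hF).symm
  obtain ⟨e1⟩ := Cfsg.Agent.Lib.Lead.IT.isoTransfer φ (Cfsg.quadFormPlus 4 F)
    (Cfsg.quadFormPlus 4 (ZMod 2)) (by
      intro v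
      unfold Cfsg.quadFormPlus
      rw [map_sum]
      apply Finset.sum_congr rfl
      intro i _
      rw [map_mul]
      rfl)
  have e2 : ↥(Cfsg.isometryGroup F (Cfsg.quadFormPlus 4 F)) ≃* ↥H256 := e1.trans isoO
  obtain ⟨e3⟩ := o8_commutator_equiv e2
  obtain ⟨e4⟩ := o8_commutator_subgroup H256
  have e5 : ↥⁅H256, H256⁆ ≃* HG := MulEquiv.subgroupCongr comm_eq_K256
  have hbot : Subgroup.center ↥(Cfsg.Omega F (Cfsg.quadFormPlus 4 F)) = ⊥ :=
    Cfsg.Agent.Lib.Lead.OC2.center_eq_bot (qfPlus 4 F) (qfPlus_nondeg 4 F) (by simp)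
  exact ⟨(QuotientGroup.quotientMulEquivOfEq hbot).trans
    (QuotientGroup.quotientBot.trans (e3.trans (e4.trans e5)))⟩

end Cfsg.Agent.Lib.Helper5.O8M
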