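import Mathlib
import Cfsg.Agent.Lib.Helper5.O8MA
import Cfsg.Agent.Lib.Helper5.O8MData

set_option autoImplicit false

/-! Elements of the orthogonal group of plus type of degree eight over the field with two elements given by words, with their coded permutations
(generated). -/

namespace Cfsg.Agent.Lib.Helper5.O8M

open Cfsg.Agent.Lib.helper23 Cfsg.Agent.Lib.Helper5.CP

/-- a generator -/
noncomputable def tR0 : HG := tg 0

theorem rep_tR0 : RepH o8bT1x0 tR0 := rep_tg 0 o8bT1x0 o8bI1x0 rfl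

/-- a generator -/
noncomputable def tR1 : HG := tg 1

theorem rep_tR1 : RepH o8bT1x1 tR1 := rep_tg 1 o8bT1x1 o8bI1x1 rfl

/-- a generator -/
noncomputable def tR2 : HG := tg 2

theorem rep_tR2 : RepH o8bT1x2 tR2 := rep_tg 2 o8bT1x2 o8bI1x2 rfl

/-- a generator -/
noncomputable def tR3 : HG := tg 3

theorem rep_tR3 : RepH o8bT1x3 tR3 := rep_tg 3 o8bT1x3 o8bI1x3 rfl

/-- a generator -/
noncomputable def tR4 : HG := tg 4

theorem rep_tR4 : RepH o8bT1x4 tR4 := rep_tg 4 o8bT1x4 o8bI1x4 rfl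

/-- a generator -/
noncomputable def tR5 : HG := tg 5

theorem rep_tR5 : RepH o8bT1x5 tR5 := rep_tg 5 o8bT1x5 o8bI1x5 rfl

/-- a generator -/
noncomputable def tR6 : HG := tg 6

theorem rep_tR6 : RepH o8bT1x6 tR6 := rep_tg 6 o8bT1x6 o8bI1x6 rfl

/-- a generator -/
noncomputable def tR7 : HG := tg 7

theorem rep_tR7 : RepH o8bT1x7 tR7 := rep_tg 7 o8bT1x7 o8bI1x7 rfl

/-- a generator -/
noncomputable def tR8 : HG := tg 8

theorem rep_tR8 : RepH o8bT1x8 tR8 := rep_tg 8 o8bT1x8 o8bI1x8 rfl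

/-- a generator -/
noncomputable def tR9 : HG := tg 9

theorem rep_tR9 : RepH o8bT1x9 tR9 := rep_tg 9 o8bT1x9 o8bI1x9 rfl

/-- a generator -/
noncomputable def tR10 : HG := tg 10

theorem rep_tR10 : RepH o8bT1x10 tR10 := rep_tg 10 o8bT1x10 o8bI1x10 rfl

/-- a generator -/
noncomputable def tR11 : HG := tg 11

theorem rep_tR11 : RepH o8bT1x11 tR11 := rep_tg 11 o8bT1x11 o8bI1x11 rfl

/-- a generator -/
noncomputable def tR12 : HG := tg 12

theorem rep_tR12 : RepH o8bT1x12 tR12 := rep_tg 12 o8bT1x12 o8bI1x12 rfl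

/-- a generator -/
noncomputable def tR13 : HG := tg 13

theorem rep_tR13 : RepH o8bT1x13 tR13 := rep_tg 13 o8bT1x13 o8bI1x13 rfl

/-- a generator -/
noncomputable def tR14 : HG := tg 14

theorem rep_tR14 : RepH o8bT1x14 tR14 := rep_tg 14 o8bT1x14 o8bI1x14 rfl

/-- a generator -/
noncomputable def tR15 : HG := tg 15

theorem rep_tR15 : RepH o8bT1x15 tR15 := rep_tg 15 o8bT1x15 o8bI1x15 rfl

/-- a generator -/
noncomputable def tR16 : HG := tg 16

theorem rep_tR16 : RepH o8bT1x16 tR16 := rep_tg 16 o8bT1x16 o8bI1x16 rfl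

/-- a generator -/
noncomputable def tR17 : HG := tg 17

theorem rep_tR17 : RepH o8bT1x17 tR17 := rep_tg 17 o8bT1x17 o8bI1x17 rfl

/-- a generator -/
noncomputable def tR18 : HG := tg 18

theorem rep_tR18 : RepH o8bT1x18 tR18 := rep_tg 18 o8bT1x18 o8bI1x18 rfl

/-- a generator -/
noncomputable def tR19 : HG := tg 19

theorem rep_tR19 : RepH o8bT1x19 tR19 := rep_tg 19 o8bT1x19 o8bI1x19 rfl

/-- a generator -/
noncomputable def tR20 : HG := tg 20

theorem rep_tR20 : RepH o8bT1x20 tR20 := rep_tg 20 o8bT1x20 o8bI1x20 rfl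

/-- a generator -/
noncomputable def tR21 : HG := tg 21

theorem rep_tR21 : RepH o8bT1x21 tR21 := rep_tg 21 o8bT1x21 o8bI1x21 rfl

/-- a generator -/
noncomputable def tR22 : HG := tg 22

theorem rep_tR22 : RepH o8bT1x22 tR22 := rep_tg 22 o8bT1x22 o8bI1x22 rfl

/-- a generator -/
noncomputable def tR23 : HG := tg 23

theorem rep_tR23 : RepH o8bT1x23 tR23 := rep_tg 23 o8bT1x23 o8bI1x23 rfl

/-- an element given by a word -/
noncomputable def l24 : HG := [tR3, tR0, tR19, tR8, tR18, tR2, tR8, tR3, tR15, tR14, tR15, tR20].prod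

theorem rep_l24 : RepH Ul24 l24 :=
  rep_word Ul24 [o8bT1x3, o8bT1x0, o8bT1x19, o8bT1x8, o8bT1x18, o8bT1x2, o8bT1x8, o8bT1x3, o8bT1x15, o8bT1x14, o8bT1x15, o8bT1x20] [tR3, tR0, tR19, tR8, tR18, tR2, tR8, tR3, tR15, tR14, tR15, tR20]
    (List.Forall₂.cons rep_tR3 (List.Forall₂.cons rep_tR0 (List.Forall₂.cons rep_tR19 (List.Forall₂.cons rep_tR8 (List.Forall₂.cons rep_tR18 (List.Forall₂.cons rep_tR2 (List.Forall₂.cons rep_tR8 (List.Forall₂.cons rep_tR3 (List.Forall₂.cons rep_tR15 (List.Forall₂.cons rep_tR14 (List.Forall₂.cons rep_tR15 (List.Forall₂.cons rep_tR20 List.Forall₂.nil))))))))))))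
    (by decide +kernel)

/-- an element given by a word -/
noncomputable def l25 : HG := [tR20, tR15, tR14, tR15, tR3, tR8, tR2, tR18, tR8, tR19, tR0, tR3].prod

theorem rep_l25 : RepH Ul25 l25 :=
  rep_word Ul25 [o8bT1x20, o8bT1x15, o8bT1x14, o8bT1x15, o8bT1x3, o8bT1x8, o8bT1x2, o8bT1x18, o8bT1x8, o8bT1x19, o8bT1x0, o8bT1x3] [tR20, tR15, tR14, tR15, tR3, tR8, tR2, tR18, tR8, tR19, tR0, tR3]
    (List.Forall₂.cons rep_tR20 (List.Forall₂.cons rep_tR15 (List.Forall₂.cons rep_tR14 (List.Forall₂.cons rep_tR15 (List.Forall₂.cons rep_tR3 (List.Forall₂.cons rep_tR8 (List.Forall₂.cons rep_tR2 (List.Forall₂.cons rep_tR18 (List.Forall₂.cons rep_tR8 (List.Forall₂.cons rep_tR19 (List.Forall₂.cons rep_tR0 (List.Forall₂.cons rep_tR3 List.Forall₂.nil))))))))))))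
    (by decide +kernel)

/-- an element given by a word -/
noncomputable def l26 : HG := [tR3, tR13, tR12, tR6, tR3, tR15, tR0, tR12, tR13, tR19, tR0, tR22, tR14, tR8, tR23].prod

theorem rep_l26 : RepH Ul26 l26 :=
  rep_word Ul26 [o8bT1x3, o8bT1x13, o8bT1x12, o8bT1x6, o8bT1x3, o8bT1x15, o8bT1x0, o8bT1x12, o8bT1x13, o8bT1x19, o8bT1x0, o8bT1x22, o8bT1x14, o8bT1x8, o8bT1x23] [tR3, tR13, tR12, tR6, tR3, tR15, tR0, tR12, tR13, tR19, tR0, tR22, tR14, tR8, tR23]
    (List.Forall₂.cons rep_tR3 (List.Forall₂.cons rep_tR13 (List.Forall₂.cons rep_tR12 (List.Forall₂.cons rep_tR6 (List.Forall₂.cons rep_tR3 (List.Forall₂.cons rep_tR15 (List.Forall₂.cons rep_tR0 (List.Forall₂.cons rep_tR12 (List.Forall₂.cons rep_tR13 (List.Forall₂.cons rep_tR19 (List.Forall₂.cons rep_tR0 (List.Forall₂.cons rep_tR22 (List.Forall₂.cons rep_tR14 (List.Forall₂.cons rep_tR8 (List.Forall₂.cons rep_tR23 List.Forall₂.nil)))))))))))))))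
    (by decide +kernel)

/-- an element given by a word -/
noncomputable def l27 : HG := [tR23, tR8, tR14, tR22, tR0, tR19, tR13, tR12, tR0, tR15, tR3, tR6, tR12, tR13, tR3].prod

theorem rep_l27 : RepH Ul27 l27 :=
  rep_word Ul27 [o8bT1x23, o8bT1x8, o8bT1x14, o8bT1x22, o8bT1x0, o8bT1x19, o8bT1x13, o8bT1x12, o8bT1x0, o8bT1x15, o8bT1x3, o8bT1x6, o8bT1x12, o8bT1x13, o8bT1x3] [tR23, tR8, tR14, tR22, tR0, tR19, tR13, tR12, tR0, tR15, tR3, tR6, tR12, tR13, tR3]
    (List.Forall₂.cons rep_tR23 (List.Forall₂.cons rep_tR8 (List.Forall₂.cons rep_tR14 (List.Forall₂.cons rep_tR22 (List.Forall₂.cons rep_tR0 (List.Forall₂.cons rep_tR19 (List.Forall₂.cons rep_tR13 (List.Forall₂.cons rep_tR12 (List.Forall₂.cons rep_tR0 (List.Forall₂.cons rep_tR15 (List.Forall₂.cons rep_tR3 (List.Forall₂.cons rep_tR6 (List.Forall₂.cons rep_tR12 (List.Forall₂.cons rep_tR13 (List.Forall₂.cons rep_tR3 List.Forall₂.nil)))))))))))))))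
    (by decide +kernel)

/-- an element given by a word -/
noncomputable def l28 : HG := [l26, l24, l27, l25, l27, tR13, l25, tR3, tR18, tR3, tR10, tR0, tR0, tR0, tR20, tR17, tR0].prod

theorem rep_l28 : RepH Ul28 l28 :=
  rep_word Ul28 [Ul26, Ul24, Ul27, Ul25, Ul27, o8bT1x13, Ul25, o8bT1x3, o8bT1x18, o8bT1x3, o8bT1x10, o8bT1x0, o8bT1x0, o8bT1x0, o8bT1x20, o8bT1x17, o8bT1x0] [l26, l24, l27, l25, l27, tR13, l25, tR3, tR18, tR3, tR10, tR0, tR0, tR0, tR20, tR17, tR0]
    (List.Forall₂.cons rep_l26 (List.Forall₂.cons rep_l24 (List.Forall₂.cons rep_l27 (List.Forall₂.cons rep_l25 (List.Forall₂.cons rep_l27 (List.Forall₂.cons rep_tR13 (List.Forall₂.cons rep_l25 (List.Forall₂.cons rep_tR3 (List.Forall₂.cons rep_tR18 (List.Forall₂.cons rep_tR3 (List.Forall₂.cons rep_tR10 (List.Forall₂.cons rep_tR0 (List.Forall₂.cons rep_tR0 (List.Forall₂.cons rep_tR0 (List.Forall₂.cons rep_tR20 (List.Forall₂.cons rep_tR17 (List.Forall₂.cons rep_tR0 List.Forall₂.nil)))))))))))))))))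
    (by decide +kernel)

/-- an element given by a word -/
noncomputable def l29 : HG := [tR0, tR17, tR20, tR0, tR0, tR0, tR10, tR3, tR18, tR3, l24, tR13, l26, l24, l26, l25, l27].prod

theorem rep_l29 : RepH Ul29 l29 :=
  rep_word Ul29 [o8bT1x0, o8bT1x17, o8bT1x20, o8bT1x0, o8bT1x0, o8bT1x0, o8bT1x10, o8bT1x3, o8bT1x18, o8bT1x3, Ul24, o8bT1x13, Ul26, Ul24, Ul26, Ul25, Ul27] [tR0, tR17, tR20, tR0, tR0, tR0, tR10, tR3, tR18, tR3, l24, tR13, l26, l24, l26, l25, l27]
    (List.Forall₂.cons rep_tR0 (List.Forall₂.cons rep_tR17 (List.Forall₂.cons rep_tR20 (List.Forall₂.cons rep_tR0 (List.Forall₂.cons rep_tR0 (List.Forall₂.cons rep_tR0 (List.Forall₂.cons rep_tR10 (List.Forall₂.cons rep_tR3 (List.Forall₂.cons rep_tR18 (List.Forall₂.cons rep_tR3 (List.Forall₂.cons rep_l24 (List.Forall₂.cons rep_tR13 (List.Forall₂.cons rep_l26 (List.Forall₂.cons rep_l24 (List.Forall₂.cons rep_l26 (List.Forall₂.cons rep_l25 (List.Forall₂.cons rep_l27 List.Forall₂.nil)))))))))))))))))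
    (by decide +kernel)

/-- an element given by a word -/
noncomputable def l30 : HG := [l24, l27, tR6, tR15, tR2, tR21, tR6, tR13, tR23, tR0, tR16, tR7, tR14, tR15, tR17, tR7, tR11].prod

theorem rep_l30 : RepH Ul30 l30 :=
  rep_word Ul30 [Ul24, Ul27, o8bT1x6, o8bT1x15, o8bT1x2, o8bT1x21, o8bT1x6, o8bT1x13, o8bT1x23, o8bT1x0, o8bT1x16, o8bT1x7, o8bT1x14, o8bT1x15, o8bT1x17, o8bT1x7, o8bT1x11] [l24, l27, tR6, tR15, tR2, tR21, tR6, tR13, tR23, tR0, tR16, tR7, tR14, tR15, tR17, tR7, tR11]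
    (List.Forall₂.cons rep_l24 (List.Forall₂.cons rep_l27 (List.Forall₂.cons rep_tR6 (List.Forall₂.cons rep_tR15 (List.Forall₂.cons rep_tR2 (List.Forall₂.cons rep_tR21 (List.Forall₂.cons rep_tR6 (List.Forall₂.cons rep_tR13 (List.Forall₂.cons rep_tR23 (List.Forall₂.cons rep_tR0 (List.Forall₂.cons rep_tR16 (List.Forall₂.cons rep_tR7 (List.Forall₂.cons rep_tR14 (List.Forall₂.cons rep_tR15 (List.Forall₂.cons rep_tR17 (List.Forall₂.cons rep_tR7 (List.Forall₂.cons rep_tR11 List.Forall₂.nil)))))))))))))))))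
    (by decide +kernel)

/-- an element given by a word -/
noncomputable def l31 : HG := [l29, l29, l30, l28, l25, l28, l24, tR3, tR0, tR7, tR21, tR7, tR14, tR9, tR0, tR13, tR17, tR20, tR3].prod

theorem rep_l31 : RepH Ul31 l31 :=
  rep_word Ul31 [Ul29, Ul29, Ul30, Ul28, Ul25, Ul28, Ul24, o8bT1x3, o8bT1x0, o8bT1x7, o8bT1x21, o8bT1x7, o8bT1x14, o8bT1x9, o8bT1x0, o8bT1x13, o8bT1x17, o8bT1x20, o8bT1x3] [l29, l29, l30, l28, l25, l28, l24, tR3, tR0, tR7, tR21, tR7, tR14, tR9, tR0, tR13, tR17, tR20, tR3]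
    (List.Forall₂.cons rep_l29 (List.Forall₂.cons rep_l29 (List.Forall₂.cons rep_l30 (List.Forall₂.cons rep_l28 (List.Forall₂.cons rep_l25 (List.Forall₂.cons rep_l28 (List.Forall₂.cons rep_l24 (List.Forall₂.cons rep_tR3 (List.Forall₂.cons rep_tR0 (List.Forall₂.cons rep_tR7 (List.Forall₂.cons rep_tR21 (List.Forall₂.cons rep_tR7 (List.Forall₂.cons rep_tR14 (List.Forall₂.cons rep_tR9 (List.Forall₂.cons rep_tR0 (List.Forall₂.cons rep_tR13 (List.Forall₂.cons rep_tR17 (List.Forall₂.cons rep_tR20 (List.Forall₂.cons rep_tR3 List.Forall₂.nil)))))))))))))))))))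
    (by decide +kernel)

/-- an element given by a word -/
noncomputable def l32 : HG := [tR3, tR20, tR17, tR13, tR0, tR9, tR14, tR7, tR21, tR7, tR0, tR3, l25, l29, l24, l29, l30, l28, l28].prod

theorem rep_l32 : RepH Ul32 l32 :=
  rep_word Ul32 [o8bT1x3, o8bT1x20, o8bT1x17, o8bT1x13, o8bT1x0, o8bT1x9, o8bT1x14, o8bT1x7, o8bT1x21, o8bT1x7, o8bT1x0, o8bT1x3, Ul25, Ul29, Ul24, Ul29, Ul30, Ul28, Ul28] [tR3, tR20, tR17, tR13, tR0, tR9, tR14, tR7, tR21, tR7, tR0, tR3, l25, l29, l24, l29, l30, l28, l28]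
    (List.Forall₂.cons rep_tR3 (List.Forall₂.cons rep_tR20 (List.Forall₂.cons rep_tR17 (List.Forall₂.cons rep_tR13 (List.Forall₂.cons rep_tR0 (List.Forall₂.cons rep_tR9 (List.Forall₂.cons rep_tR14 (List.Forall₂.cons rep_tR7 (List.Forall₂.cons rep_tR21 (List.Forall₂.cons rep_tR7 (List.Forall₂.cons rep_tR0 (List.Forall₂.cons rep_tR3 (List.Forall₂.cons rep_l25 (List.Forall₂.cons rep_l29 (List.Forall₂.cons rep_l24 (List.Forall₂.cons rep_l29 (List.Forall₂.cons rep_l30 (List.Forall₂.cons rep_l28 (List.Forall₂.cons rep_l28 List.Forall₂.nil)))))))))))))))))))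
    (by decide +kernel)

/-- an element given by a word -/
noncomputable def l33 : HG := [l29, l30, l24, l32, tR9, l24, tR20, tR23, tR9, tR3, tR23, tR10, tR23, tR22].prod

theorem rep_l33 : RepH Ul33 l33 :=
  rep_word Ul33 [Ul29, Ul30, Ul24, Ul32, o8bT1x9, Ul24, o8bT1x20, o8bT1x23, o8bT1x9, o8bT1x3, o8bT1x23, o8bT1x10, o8bT1x23, o8bT1x22] [l29, l30, l24, l32, tR9, l24, tR20, tR23, tR9, tR3, tR23, tR10, tR23, tR22]
    (List.Forall₂.cons rep_l29 (List.Forall₂.cons rep_l30 (List.Forall₂.cons rep_l24 (List.Forall₂.cons rep_l32 (List.Forall₂.cons rep_tR9 (List.Forall₂.cons rep_l24 (List.Forall₂.cons rep_tR20 (List.Forall₂.cons rep_tR23 (List.Forall₂.cons rep_tR9 (List.Forall₂.cons rep_tR3 (List.Forall₂.cons rep_tR23 (List.Forall₂.cons rep_tR10 (List.Forall₂.cons rep_tR23 (List.Forall₂.cons rep_tR22 List.Forall₂.nil))))))))))))))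
    (by decide +kernel)

/-- an element given by a word -/
noncomputable def l34 : HG := [tR22, tR23, tR10, tR23, tR3, tR9, tR23, tR20, l25, tR9, l31, l25, l30, l28].prod

theorem rep_l34 : RepH Ul34 l34 :=
  rep_word Ul34 [o8bT1x22, o8bT1x23, o8bT1x10, o8bT1x23, o8bT1x3, o8bT1x9, o8bT1x23, o8bT1x20, Ul25, o8bT1x9, Ul31, Ul25, Ul30, Ul28] [tR22, tR23, tR10, tR23, tR3, tR9, tR23, tR20, l25, tR9, l31, l25, l30, l28]
    (List.Forall₂.cons rep_tR22 (List.Forall₂.cons rep_tR23 (List.Forall₂.cons rep_tR10 (List.Forall₂.cons rep_tR23 (List.Forall₂.cons rep_tR3 (List.Forall₂.cons rep_tR9 (List.Forall₂.cons rep_tR23 (List.Forall₂.cons rep_tR20 (List.Forall₂.cons rep_l25 (List.Forall₂.cons rep_tR9 (List.Forall₂.cons rep_l31 (List.Forall₂.cons rep_l25 (List.Forall₂.cons rep_l30 (List.Forall₂.cons rep_l28 List.Forall₂.nil))))))))))))))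
    (by decide +kernel)

/-- an element given by a word -/
noncomputable def l35 : HG := [l27, l27, l25, tR17, l32, tR9, tR13, tR16, tR21, tR6, tR9, tR9, tR18, tR15, tR16, tR12, tR18, tR1, tR15, tR7].prod

theorem rep_l35 : RepH Ul35 l35 :=
  rep_word Ul35 [Ul27, Ul27, Ul25, o8bT1x17, Ul32, o8bT1x9, o8bT1x13, o8bT1x16, o8bT1x21, o8bT1x6, o8bT1x9, o8bT1x9, o8bT1x18, o8bT1x15, o8bT1x16, o8bT1x12, o8bT1x18, o8bT1x1, o8bT1x15, o8bT1x7] [l27, l27, l25, tR17, l32, tR9, tR13, tR16, tR21, tR6, tR9, tR9, tR18, tR15, tR16, tR12, tR18, tR1, tR15, tR7]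
    (List.Forall₂.cons rep_l27 (List.Forall₂.cons rep_l27 (List.Forall₂.cons rep_l25 (List.Forall₂.cons rep_tR17 (List.Forall₂.cons rep_l32 (List.Forall₂.cons rep_tR9 (List.Forall₂.cons rep_tR13 (List.Forall₂.cons rep_tR16 (List.Forall₂.cons rep_tR21 (List.Forall₂.cons rep_tR6 (List.Forall₂.cons rep_tR9 (List.Forall₂.cons rep_tR9 (List.Forall₂.cons rep_tR18 (List.Forall₂.cons rep_tR15 (List.Forall₂.cons rep_tR16 (List.Forall₂.cons rep_tR12 (List.Forall₂.cons rep_tR18 (List.Forall₂.cons rep_tR1 (List.Forall₂.cons rep_tR15 (List.Forall₂.cons rep_tR7 List.Forall₂.nil))))))))))))))))))))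
    (by decide +kernel)

/-- an element given by a word -/
noncomputable def l36 : HG := [tR7, tR15, tR1, tR18, tR12, tR16, tR15, tR18, tR9, tR9, tR6, tR21, tR16, tR13, tR9, l31, tR17, l24, l26, l26].prod

theorem rep_l36 : RepH Ul36 l36 :=
  rep_word Ul36 [o8bT1x7, o8bT1x15, o8bT1x1, o8bT1x18, o8bT1x12, o8bT1x16, o8bT1x15, o8bT1x18, o8bT1x9, o8bT1x9, o8bT1x6, o8bT1x21, o8bT1x16, o8bT1x13, o8bT1x9, Ul31, o8bT1x17, Ul24, Ul26, Ul26] [tR7, tR15, tR1, tR18, tR12, tR16, tR15, tR18, tR9, tR9, tR6, tR21, tR16, tR13, tR9, l31, tR17, l24, l26, l26]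
    (List.Forall₂.cons rep_tR7 (List.Forall₂.cons rep_tR15 (List.Forall₂.cons rep_tR1 (List.Forall₂.cons rep_tR18 (List.Forall₂.cons rep_tR12 (List.Forall₂.cons rep_tR16 (List.Forall₂.cons rep_tR15 (List.Forall₂.cons rep_tR18 (List.Forall₂.cons rep_tR9 (List.Forall₂.cons rep_tR9 (List.Forall₂.cons rep_tR6 (List.Forall₂.cons rep_tR21 (List.Forall₂.cons rep_tR16 (List.Forall₂.cons rep_tR13 (List.Forall₂.cons rep_tR9 (List.Forall₂.cons rep_l31 (List.Forall₂.cons rep_tR17 (List.Forall₂.cons rep_l24 (List.Forall₂.cons rep_l26 (List.Forall₂.cons rep_l26 List.Forall₂.nil))))))))))))))))))))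
    (by decide +kernel)

/-- an element given by a word -/
noncomputable def l37 : HG := [l29, l30, l28, l25, l27, tR13, l35, tR13, tR21, tR5, tR11, tR17, tR22, tR21, tR23, tR11, tR2, tR14, tR21].prod

theorem rep_l37 : RepH Ul37 l37 :=
  rep_word Ul37 [Ul29, Ul30, Ul28, Ul25, Ul27, o8bT1x13, Ul35, o8bT1x13, o8bT1x21, o8bT1x5, o8bT1x11, o8bT1x17, o8bT1x22, o8bT1x21, o8bT1x23, o8bT1x11, o8bT1x2, o8bT1x14, o8bT1x21] [l29, l30, l28, l25, l27, tR13, l35, tR13, tR21, tR5, tR11, tR17, tR22, tR21, tR23, tR11, tR2, tR14, tR21]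
    (List.Forall₂.cons rep_l29 (List.Forall₂.cons rep_l30 (List.Forall₂.cons rep_l28 (List.Forall₂.cons rep_l25 (List.Forall₂.cons rep_l27 (List.Forall₂.cons rep_tR13 (List.Forall₂.cons rep_l35 (List.Forall₂.cons rep_tR13 (List.Forall₂.cons rep_tR21 (List.Forall₂.cons rep_tR5 (List.Forall₂.cons rep_tR11 (List.Forall₂.cons rep_tR17 (List.Forall₂.cons rep_tR22 (List.Forall₂.cons rep_tR21 (List.Forall₂.cons rep_tR23 (List.Forall₂.cons rep_tR11 (List.Forall₂.cons rep_tR2 (List.Forall₂.cons rep_tR14 (List.Forall₂.cons rep_tR21 List.Forall₂.nil)))))))))))))))))))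
    (by decide +kernel)

/-- an element given by a word -/
noncomputable def l38 : HG := [l29, l31, l25, l26, tR6, l29, tR3, tR5, tR16, tR12, tR11, tR15, tR23, tR0, tR15, tR1, tR9, tR22, tR19, tR18].prod

theorem rep_l38 : RepH Ul38 l38 :=
  rep_word Ul38 [Ul29, Ul31, Ul25, Ul26, o8bT1x6, Ul29, o8bT1x3, o8bT1x5, o8bT1x16, o8bT1x12, o8bT1x11, o8bT1x15, o8bT1x23, o8bT1x0, o8bT1x15, o8bT1x1, o8bT1x9, o8bT1x22, o8bT1x19, o8bT1x18] [l29, l31, l25, l26, tR6, l29, tR3, tR5, tR16, tR12, tR11, tR15, tR23, tR0, tR15, tR1, tR9, tR22, tR19, tR18]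
    (List.Forall₂.cons rep_l29 (List.Forall₂.cons rep_l31 (List.Forall₂.cons rep_l25 (List.Forall₂.cons rep_l26 (List.Forall₂.cons rep_tR6 (List.Forall₂.cons rep_l29 (List.Forall₂.cons rep_tR3 (List.Forall₂.cons rep_tR5 (List.Forall₂.cons rep_tR16 (List.Forall₂.cons rep_tR12 (List.Forall₂.cons rep_tR11 (List.Forall₂.cons rep_tR15 (List.Forall₂.cons rep_tR23 (List.Forall₂.cons rep_tR0 (List.Forall₂.cons rep_tR15 (List.Forall₂.cons rep_tR1 (List.Forall₂.cons rep_tR9 (List.Forall₂.cons rep_tR22 (List.Forall₂.cons rep_tR19 (List.Forall₂.cons rep_tR18 List.Forall₂.nil))))))))))))))))))))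
    (by decide +kernel)

/-- an element given by a word -/
noncomputable def l39 : HG := [l37, l28, l32, l33, l24, l29, tR6, tR20, tR5, tR5, tR16, tR7, tR0, tR6, tR17, tR17, tR7, tR12, tR16].prod

theorem rep_l39 : RepH Ul39 l39 :=
  rep_word Ul39 [Ul37, Ul28, Ul32, Ul33, Ul24, Ul29, o8bT1x6, o8bT1x20, o8bT1x5, o8bT1x5, o8bT1x16, o8bT1x7, o8bT1x0, o8bT1x6, o8bT1x17, o8bT1x17, o8bT1x7, o8bT1x12, o8bT1x16] [l37, l28, l32, l33, l24, l29, tR6, tR20, tR5, tR5, tR16, tR7, tR0, tR6, tR17, tR17, tR7, tR12, tR16]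
    (List.Forall₂.cons rep_l37 (List.Forall₂.cons rep_l28 (List.Forall₂.cons rep_l32 (List.Forall₂.cons rep_l33 (List.Forall₂.cons rep_l24 (List.Forall₂.cons rep_l29 (List.Forall₂.cons rep_tR6 (List.Forall₂.cons rep_tR20 (List.Forall₂.cons rep_tR5 (List.Forall₂.cons rep_tR5 (List.Forall₂.cons rep_tR16 (List.Forall₂.cons rep_tR7 (List.Forall₂.cons rep_tR0 (List.Forall₂.cons rep_tR6 (List.Forall₂.cons rep_tR17 (List.Forall₂.cons rep_tR17 (List.Forall₂.cons rep_tR7 (List.Forall₂.cons rep_tR12 (List.Forall₂.cons rep_tR16 List.Forall₂.nil)))))))))))))))))))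
    (by decide +kernel)

/-- an element given by a word -/
noncomputable def l40 : HG := [l34, l28, l28, l36, l24, l35, tR3, tR9, l35, tR18, tR11, tR14, tR8, tR21, tR17, tR19, tR23, tR0, tR12, tR23].prod

theorem rep_l40 : RepH Ul40 l40 :=
  rep_word Ul40 [Ul34, Ul28, Ul28, Ul36, Ul24, Ul35, o8bT1x3, o8bT1x9, Ul35, o8bT1x18, o8bT1x11, o8bT1x14, o8bT1x8, o8bT1x21, o8bT1x17, o8bT1x19, o8bT1x23, o8bT1x0, o8bT1x12, o8bT1x23] [l34, l28, l28, l36, l24, l35, tR3, tR9, l35, tR18, tR11, tR14, tR8, tR21, tR17, tR19, tR23, tR0, tR12, tR23]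
    (List.Forall₂.cons rep_l34 (List.Forall₂.cons rep_l28 (List.Forall₂.cons rep_l28 (List.Forall₂.cons rep_l36 (List.Forall₂.cons rep_l24 (List.Forall₂.cons rep_l35 (List.Forall₂.cons rep_tR3 (List.Forall₂.cons rep_tR9 (List.Forall₂.cons rep_l35 (List.Forall₂.cons rep_tR18 (List.Forall₂.cons rep_tR11 (List.Forall₂.cons rep_tR14 (List.Forall₂.cons rep_tR8 (List.Forall₂.cons rep_tR21 (List.Forall₂.cons rep_tR17 (List.Forall₂.cons rep_tR19 (List.Forall₂.cons rep_tR23 (List.Forall₂.cons rep_tR0 (List.Forall₂.cons rep_tR12 (List.Forall₂.cons rep_tR23 List.Forall₂.nil))))))))))))))))))))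
    (by decide +kernel)

/-- an element given by a word -/
noncomputable def l41 : HG := [l34, l30, l29, l26, l37, tR6, tR4, tR16, tR17, tR6, tR13, tR1, tR15, tR11, tR18, tR17, tR6, tR16, tR13, tR15].prod

theorem rep_l41 : RepH Ul41 l41 :=
  rep_word Ul41 [Ul34, Ul30, Ul29, Ul26, Ul37, o8bT1x6, o8bT1x4, o8bT1x16, o8bT1x17, o8bT1x6, o8bT1x13, o8bT1x1, o8bT1x15, o8bT1x11, o8bT1x18, o8bT1x17, o8bT1x6, o8bT1x16, o8bT1x13, o8bT1x15] [l34, l30, l29, l26, l37, tR6, tR4, tR16, tR17, tR6, tR13, tR1, tR15, tR11, tR18, tR17, tR6, tR16, tR13, tR15]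
    (List.Forall₂.cons rep_l34 (List.Forall₂.cons rep_l30 (List.Forall₂.cons rep_l29 (List.Forall₂.cons rep_l26 (List.Forall₂.cons rep_l37 (List.Forall₂.cons rep_tR6 (List.Forall₂.cons rep_tR4 (List.Forall₂.cons rep_tR16 (List.Forall₂.cons rep_tR17 (List.Forall₂.cons rep_tR6 (List.Forall₂.cons rep_tR13 (List.Forall₂.cons rep_tR1 (List.Forall₂.cons rep_tR15 (List.Forall₂.cons rep_tR11 (List.Forall₂.cons rep_tR18 (List.Forall₂.cons rep_tR17 (List.Forall₂.cons rep_tR6 (List.Forall₂.cons rep_tR16 (List.Forall₂.cons rep_tR13 (List.Forall₂.cons rep_tR15 List.Forall₂.nil))))))))))))))))))))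
    (by decide +kernel)

/-- an element given by a word -/
noncomputable def l42 : HG := [l40, l41, l37, l29, l36, l25, l39, tR13, tR13, tR11, tR0, tR17, tR17, tR19, tR19, tR10, tR14, tR19, tR0].prod

theorem rep_l42 : RepH Ul42 l42 :=
  rep_word Ul42 [Ul40, Ul41, Ul37, Ul29, Ul36, Ul25, Ul39, o8bT1x13, o8bT1x13, o8bT1x11, o8bT1x0, o8bT1x17, o8bT1x17, o8bT1x19, o8bT1x19, o8bT1x10, o8bT1x14, o8bT1x19, o8bT1x0] [l40, l41, l37, l29, l36, l25, l39, tR13, tR13, tR11, tR0, tR17, tR17, tR19, tR19, tR10, tR14, tR19, tR0]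
    (List.Forall₂.cons rep_l40 (List.Forall₂.cons rep_l41 (List.Forall₂.cons rep_l37 (List.Forall₂.cons rep_l29 (List.Forall₂.cons rep_l36 (List.Forall₂.cons rep_l25 (List.Forall₂.cons rep_l39 (List.Forall₂.cons rep_tR13 (List.Forall₂.cons rep_tR13 (List.Forall₂.cons rep_tR11 (List.Forall₂.cons rep_tR0 (List.Forall₂.cons rep_tR17 (List.Forall₂.cons rep_tR17 (List.Forall₂.cons rep_tR19 (List.Forall₂.cons rep_tR19 (List.Forall₂.cons rep_tR10 (List.Forall₂.cons rep_tR14 (List.Forall₂.cons rep_tR19 (List.Forall₂.cons rep_tR0 List.Forall₂.nil)))))))))))))))))))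
    (by decide +kernel)

/-- an element given by a word -/
noncomputable def l43 : HG := [l39, l38, l40, l41, l32, l37, l29, l31, l29, tR20, tR5, tR17, tR18, tR5, tR2, tR17, tR8, tR1].prod

theorem rep_l43 : RepH Ul43 l43 :=
  rep_word Ul43 [Ul39, Ul38, Ul40, Ul41, Ul32, Ul37, Ul29, Ul31, Ul29, o8bT1x20, o8bT1x5, o8bT1x17, o8bT1x18, o8bT1x5, o8bT1x2, o8bT1x17, o8bT1x8, o8bT1x1] [l39, l38, l40, l41, l32, l37, l29, l31, l29, tR20, tR5, tR17, tR18, tR5, tR2, tR17, tR8, tR1]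
    (List.Forall₂.cons rep_l39 (List.Forall₂.cons rep_l38 (List.Forall₂.cons rep_l40 (List.Forall₂.cons rep_l41 (List.Forall₂.cons rep_l32 (List.Forall₂.cons rep_l37 (List.Forall₂.cons rep_l29 (List.Forall₂.cons rep_l31 (List.Forall₂.cons rep_l29 (List.Forall₂.cons rep_tR20 (List.Forall₂.cons rep_tR5 (List.Forall₂.cons rep_tR17 (List.Forall₂.cons rep_tR18 (List.Forall₂.cons rep_tR5 (List.Forall₂.cons rep_tR2 (List.Forall₂.cons rep_tR17 (List.Forall₂.cons rep_tR8 (List.Forall₂.cons rep_tR1 List.Forall₂.nil))))))))))))))))))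
    (by decide +kernel)

/-- an element given by a word -/
noncomputable def g0 : HG := [tR0].prod

theorem rep_g0 : RepH Ug0 g0 :=
  rep_word Ug0 [o8bT1x0] [tR0]
    (List.Forall₂.cons rep_tR0 List.Forall₂.nil)
    (by decide +kernel)

/-- an element given by a word -/
noncomputable def g1 : HG := [tR4].prod

theorem rep_g1 : RepH Ug1 g1 :=
  rep_word Ug1 [o8bT1x4] [tR4]
    (List.Forall₂.cons rep_tR4 List.Forall₂.nil)
    (by decide +kernel)

/-- an element given by a word -/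
noncomputable def g2 : HG := [tR8].prod

theorem rep_g2 : RepH Ug2 g2 :=
  rep_word Ug2 [o8bT1x8] [tR8]
    (List.Forall₂.cons rep_tR8 List.Forall₂.nil)
    (by decide +kernel)

/-- an element given by a word -/
noncomputable def g3 : HG := [tR22].prod

theorem rep_g3 : RepH Ug3 g3 :=
  rep_word Ug3 [o8bT1x22] [tR22]
    (List.Forall₂.cons rep_tR22 List.Forall₂.nil)
    (by decide +kernel)

/-- an element given by a word -/
noncomputable def g4 : HG := [tR1].prod

theorem rep_g4 : RepH Ug4 g4 :=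
  rep_word Ug4 [o8bT1x1] [tR1]
    (List.Forall₂.cons rep_tR1 List.Forall₂.nil)
    (by decide +kernel)

/-- an element given by a word -/
noncomputable def g5 : HG := [tR5].prod

theorem rep_g5 : RepH Ug5 g5 :=
  rep_word Ug5 [o8bT1x5] [tR5]
    (List.Forall₂.cons rep_tR5 List.Forall₂.nil)
    (by decide +kernel)

/-- an element given by a word -/
noncomputable def g6 : HG := [tR20].prod

theorem rep_g6 : RepH Ug6 g6 :=
  rep_word Ug6 [o8bT1x20] [tR20]
    (List.Forall₂.cons rep_tR20 List.Forall₂.nil)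
    (by decide +kernel)

/-- an element given by a word -/
noncomputable def g7 : HG := [tR2].prod

theorem rep_g7 : RepH Ug7 g7 :=
  rep_word Ug7 [o8bT1x2] [tR2]
    (List.Forall₂.cons rep_tR2 List.Forall₂.nil)
    (by decide +kernel)

/-- an element given by a word -/
noncomputable def g8 : HG := [tR16].prod

theorem rep_g8 : RepH Ug8 g8 :=
  rep_word Ug8 [o8bT1x16] [tR16]
    (List.Forall₂.cons rep_tR16 List.Forall₂.nil)
    (by decide +kernel)

/-- an element given by a word -/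
noncomputable def g9 : HG := [tR18].prod

theorem rep_g9 : RepH Ug9 g9 :=
  rep_word Ug9 [o8bT1x18] [tR18]
    (List.Forall₂.cons rep_tR18 List.Forall₂.nil)
    (by decide +kernel)

/-- an element given by a word -/
noncomputable def g10 : HG := [tR14].prod

theorem rep_g10 : RepH Ug10 g10 :=
  rep_word Ug10 [o8bT1x14] [tR14]
    (List.Forall₂.cons rep_tR14 List.Forall₂.nil)
    (by decide +kernel)

/-- an element given by a word -/
noncomputable def g11 : HG := [tR12].prod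

theorem rep_g11 : RepH Ug11 g11 :=
  rep_word Ug11 [o8bT1x12] [tR12]
    (List.Forall₂.cons rep_tR12 List.Forall₂.nil)
    (by decide +kernel)

/-- an element given by a word -/
noncomputable def aA : HG := [tR12].prod

theorem rep_aA : RepH UaA aA :=
  rep_word UaA [o8bT1x12] [tR12]
    (List.Forall₂.cons rep_tR12 List.Forall₂.nil)
    (by decide +kernel)

/-- an element given by a word -/
noncomputable def ebA : HG := [tR14].prod

theorem rep_ebA : RepH UebA ebA :=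
  rep_word UebA [o8bT1x14] [tR14]
    (List.Forall₂.cons rep_tR14 List.Forall₂.nil)
    (by decide +kernel)

/-- an element given by a word -/
noncomputable def ecA : HG := [tR16].prod

theorem rep_ecA : RepH UecA ecA :=
  rep_word UecA [o8bT1x16] [tR16]
    (List.Forall₂.cons rep_tR16 List.Forall₂.nil)
    (by decide +kernel)

/-- an element given by a word -/
noncomputable def qAb : HG := [tR4, tR7].prod

theorem rep_qAb : RepH UqAb qAb :=
  rep_word UqAb [o8bT1x4, o8bT1x7] [tR4, tR7]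
    (List.Forall₂.cons rep_tR4 (List.Forall₂.cons rep_tR7 List.Forall₂.nil))
    (by decide +kernel)

/-- an element given by a word -/
noncomputable def qAc : HG := [tR5, tR10].prod

theorem rep_qAc : RepH UqAc qAc :=
  rep_word UqAc [o8bT1x5, o8bT1x10] [tR5, tR10]
    (List.Forall₂.cons rep_tR5 (List.Forall₂.cons rep_tR10 List.Forall₂.nil))
    (by decide +kernel)

/-- an element given by a word -/
noncomputable def qAab : HG := [tR7].prod

theorem rep_qAab : RepH UqAab qAab :=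
  rep_word UqAab [o8bT1x7] [tR7]
    (List.Forall₂.cons rep_tR7 List.Forall₂.nil)
    (by decide +kernel)

/-- an element given by a word -/
noncomputable def qAac : HG := [tR10].prod

theorem rep_qAac : RepH UqAac qAac :=
  rep_word UqAac [o8bT1x10] [tR10]
    (List.Forall₂.cons rep_tR10 List.Forall₂.nil)
    (by decide +kernel)

/-- an element given by a word -/
noncomputable def qAbc : HG := [tR11, tR4, tR7].prod

theorem rep_qAbc : RepH UqAbc qAbc :=
  rep_word UqAbc [o8bT1x11, o8bT1x4, o8bT1x7] [tR11, tR4, tR7]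
    (List.Forall₂.cons rep_tR11 (List.Forall₂.cons rep_tR4 (List.Forall₂.cons rep_tR7 List.Forall₂.nil)))
    (by decide +kernel)

/-- an element given by a word -/
noncomputable def qAabc : HG := [tR10, tR7].prod

theorem rep_qAabc : RepH UqAabc qAabc :=
  rep_word UqAabc [o8bT1x10, o8bT1x7] [tR10, tR7]
    (List.Forall₂.cons rep_tR10 (List.Forall₂.cons rep_tR7 List.Forall₂.nil))
    (by decide +kernel)

/-- an element given by a word -/
noncomputable def qI0 : HG := [tR18, tR19, tR4, tR7].prod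

theorem rep_qI0 : RepH UqI0 qI0 :=
  rep_word UqI0 [o8bT1x18, o8bT1x19, o8bT1x4, o8bT1x7] [tR18, tR19, tR4, tR7]
    (List.Forall₂.cons rep_tR18 (List.Forall₂.cons rep_tR19 (List.Forall₂.cons rep_tR4 (List.Forall₂.cons rep_tR7 List.Forall₂.nil))))
    (by decide +kernel)

/-- an element given by a word -/
noncomputable def qI1 : HG := [tR14, tR15].prod

theorem rep_qI1 : RepH UqI1 qI1 :=
  rep_word UqI1 [o8bT1x14, o8bT1x15] [tR14, tR15]
    (List.Forall₂.cons rep_tR14 (List.Forall₂.cons rep_tR15 List.Forall₂.nil))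
    (by decide +kernel)

/-- an element given by a word -/
noncomputable def qI2 : HG := [tR20, tR21, tR1, tR6].prod

theorem rep_qI2 : RepH UqI2 qI2 :=
  rep_word UqI2 [o8bT1x20, o8bT1x21, o8bT1x1, o8bT1x6] [tR20, tR21, tR1, tR6]
    (List.Forall₂.cons rep_tR20 (List.Forall₂.cons rep_tR21 (List.Forall₂.cons rep_tR1 (List.Forall₂.cons rep_tR6 List.Forall₂.nil))))
    (by decide +kernel)

/-- an element given by a word -/
noncomputable def qI3 : HG := [tR5, tR10, tR1, tR6].prod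

theorem rep_qI3 : RepH UqI3 qI3 :=
  rep_word UqI3 [o8bT1x5, o8bT1x10, o8bT1x1, o8bT1x6] [tR5, tR10, tR1, tR6]
    (List.Forall₂.cons rep_tR5 (List.Forall₂.cons rep_tR10 (List.Forall₂.cons rep_tR1 (List.Forall₂.cons rep_tR6 List.Forall₂.nil))))
    (by decide +kernel)

/-- an element given by a word -/
noncomputable def qI4 : HG := [tR18, tR19].prod

theorem rep_qI4 : RepH UqI4 qI4 :=
  rep_word UqI4 [o8bT1x18, o8bT1x19] [tR18, tR19]
    (List.Forall₂.cons rep_tR18 (List.Forall₂.cons rep_tR19 List.Forall₂.nil))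
    (by decide +kernel)

/-- an element given by a word -/
noncomputable def qI5 : HG := [tR16, tR17].prod

theorem rep_qI5 : RepH UqI5 qI5 :=
  rep_word UqI5 [o8bT1x16, o8bT1x17] [tR16, tR17]
    (List.Forall₂.cons rep_tR16 (List.Forall₂.cons rep_tR17 List.Forall₂.nil))
    (by decide +kernel)

/-- an element given by a word -/
noncomputable def qI6 : HG := [tR2, tR9].prod

theorem rep_qI6 : RepH UqI6 qI6 :=
  rep_word UqI6 [o8bT1x2, o8bT1x9] [tR2, tR9]
    (List.Forall₂.cons rep_tR2 (List.Forall₂.cons rep_tR9 List.Forall₂.nil))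
    (by decide +kernel)

/-- an element given by a word -/
noncomputable def qE0b_19 : HG := [tR7, tR4, tR1, tR6].prod

theorem rep_qE0b_19 : RepH UqE0b_19 qE0b_19 :=
  rep_word UqE0b_19 [o8bT1x7, o8bT1x4, o8bT1x1, o8bT1x6] [tR7, tR4, tR1, tR6]
    (List.Forall₂.cons rep_tR7 (List.Forall₂.cons rep_tR4 (List.Forall₂.cons rep_tR1 (List.Forall₂.cons rep_tR6 List.Forall₂.nil))))
    (by decide +kernel)

/-- an element given by a word -/
noncomputable def qE0b_23 : HG := [tR5, tR10, tR1, tR6, tR5].prod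

theorem rep_qE0b_23 : RepH UqE0b_23 qE0b_23 :=
  rep_word UqE0b_23 [o8bT1x5, o8bT1x10, o8bT1x1, o8bT1x6, o8bT1x5] [tR5, tR10, tR1, tR6, tR5]
    (List.Forall₂.cons rep_tR5 (List.Forall₂.cons rep_tR10 (List.Forall₂.cons rep_tR1 (List.Forall₂.cons rep_tR6 (List.Forall₂.cons rep_tR5 List.Forall₂.nil)))))
    (by decide +kernel)

/-- an element given by a word -/
noncomputable def qE02_17 : HG := [tR6, tR1, tR0, tR3].prod

theorem rep_qE02_17 : RepH UqE02_17 qE02_17 :=
  rep_word UqE02_17 [o8bT1x6, o8bT1x1, o8bT1x0, o8bT1x3] [tR6, tR1, tR0, tR3]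
    (List.Forall₂.cons rep_tR6 (List.Forall₂.cons rep_tR1 (List.Forall₂.cons rep_tR0 (List.Forall₂.cons rep_tR3 List.Forall₂.nil))))
    (by decide +kernel)

/-- an element given by a word -/
noncomputable def qE02_3b : HG := [tR21, tR20, tR1, tR6, tR1].prod

theorem rep_qE02_3b : RepH UqE02_3b qE02_3b :=
  rep_word UqE02_3b [o8bT1x21, o8bT1x20, o8bT1x1, o8bT1x6, o8bT1x1] [tR21, tR20, tR1, tR6, tR1]
    (List.Forall₂.cons rep_tR21 (List.Forall₂.cons rep_tR20 (List.Forall₂.cons rep_tR1 (List.Forall₂.cons rep_tR6 (List.Forall₂.cons rep_tR1 List.Forall₂.nil)))))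
    (by decide +kernel)

/-- an element given by a word -/
noncomputable def qE03_18 : HG := [tR6, tR1, tR0, tR3].prod

theorem rep_qE03_18 : RepH UqE03_18 qE03_18 :=
  rep_word UqE03_18 [o8bT1x6, o8bT1x1, o8bT1x0, o8bT1x3] [tR6, tR1, tR0, tR3]
    (List.Forall₂.cons rep_tR6 (List.Forall₂.cons rep_tR1 (List.Forall₂.cons rep_tR0 (List.Forall₂.cons rep_tR3 List.Forall₂.nil))))
    (by decide +kernel)

/-- an element given by a word -/
noncomputable def qE03_2b : HG := [tR10, tR1, tR6, tR5, tR1].prod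

theorem rep_qE03_2b : RepH UqE03_2b qE03_2b :=
  rep_word UqE03_2b [o8bT1x10, o8bT1x1, o8bT1x6, o8bT1x5, o8bT1x1] [tR10, tR1, tR6, tR5, tR1]
    (List.Forall₂.cons rep_tR10 (List.Forall₂.cons rep_tR1 (List.Forall₂.cons rep_tR6 (List.Forall₂.cons rep_tR5 (List.Forall₂.cons rep_tR1 List.Forall₂.nil)))))
    (by decide +kernel)

/-- an element given by a word -/
noncomputable def a3 : HG := [tR12, tR13, tR0, tR3].prod

theorem rep_a3 : RepH Ua3 a3 :=
  rep_word Ua3 [o8bT1x12, o8bT1x13, o8bT1x0, o8bT1x3] [tR12, tR13, tR0, tR3]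
    (List.Forall₂.cons rep_tR12 (List.Forall₂.cons rep_tR13 (List.Forall₂.cons rep_tR0 (List.Forall₂.cons rep_tR3 List.Forall₂.nil))))
    (by decide +kernel)

/-- an element given by a word -/
noncomputable def d3 : HG := [l28, l37, l33, l31, l40, l39].prod

theorem rep_d3 : RepH Ud3 d3 :=
  rep_word Ud3 [Ul28, Ul37, Ul33, Ul31, Ul40, Ul39] [l28, l37, l33, l31, l40, l39]
    (List.Forall₂.cons rep_l28 (List.Forall₂.cons rep_l37 (List.Forall₂.cons rep_l33 (List.Forall₂.cons rep_l31 (List.Forall₂.cons rep_l40 (List.Forall₂.cons rep_l39 List.Forall₂.nil))))))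
    (by decide +kernel)

/-- an element given by a word -/
noncomputable def t3 : HG := [l24, tR13, l30, l26, l25, l36, l29, l37, l38].prod

theorem rep_t3 : RepH Ut3 t3 :=
  rep_word Ut3 [Ul24, o8bT1x13, Ul30, Ul26, Ul25, Ul36, Ul29, Ul37, Ul38] [l24, tR13, l30, l26, l25, l36, l29, l37, l38]
    (List.Forall₂.cons rep_l24 (List.Forall₂.cons rep_tR13 (List.Forall₂.cons rep_l30 (List.Forall₂.cons rep_l26 (List.Forall₂.cons rep_l25 (List.Forall₂.cons rep_l36 (List.Forall₂.cons rep_l29 (List.Forall₂.cons rep_l37 (List.Forall₂.cons rep_l38 List.Forall₂.nil)))))))))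
    (by decide +kernel)

/-- an element given by a word -/
noncomputable def s3 : HG := [tR13, tR3, l24, l29, l25, l33, l30, l33, l31, l40, l38, l42].prod

theorem rep_s3 : RepH Us3 s3 :=
  rep_word Us3 [o8bT1x13, o8bT1x3, Ul24, Ul29, Ul25, Ul33, Ul30, Ul33, Ul31, Ul40, Ul38, Ul42] [tR13, tR3, l24, l29, l25, l33, l30, l33, l31, l40, l38, l42]
    (List.Forall₂.cons rep_tR13 (List.Forall₂.cons rep_tR3 (List.Forall₂.cons rep_l24 (List.Forall₂.cons rep_l29 (List.Forall₂.cons rep_l25 (List.Forall₂.cons rep_l33 (List.Forall₂.cons rep_l30 (List.Forall₂.cons rep_l33 (List.Forall₂.cons rep_l31 (List.Forall₂.cons rep_l40 (List.Forall₂.cons rep_l38 (List.Forall₂.cons rep_l42 List.Forall₂.nil))))))))))))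
    (by decide +kernel)

/-- an element given by a word -/
noncomputable def s3p : HG := [tR12, tR13, tR3, l24, l29, l25, l33, l30, l33, l31, l40, l42, l43].prod

theorem rep_s3p : RepH Us3p s3p :=
  rep_word Us3p [o8bT1x12, o8bT1x13, o8bT1x3, Ul24, Ul29, Ul25, Ul33, Ul30, Ul33, Ul31, Ul40, Ul42, Ul43] [tR12, tR13, tR3, l24, l29, l25, l33, l30, l33, l31, l40, l42, l43]
    (List.Forall₂.cons rep_tR12 (List.Forall₂.cons rep_tR13 (List.Forall₂.cons rep_tR3 (List.Forall₂.cons rep_l24 (List.Forall₂.cons rep_l29 (List.Forall₂.cons rep_l25 (List.Forall₂.cons rep_l33 (List.Forall₂.cons rep_l30 (List.Forall₂.cons rep_l33 (List.Forall₂.cons rep_l31 (List.Forall₂.cons rep_l40 (List.Forall₂.cons rep_l42 (List.Forall₂.cons rep_l43 List.Forall₂.nil)))))))))))))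
    (by decide +kernel)

/-- an element given by a word -/
noncomputable def s4 : HG := [tR0, tR3, l27, l24, l35, l41, l40, l42, l39, l43].prod

theorem rep_s4 : RepH Us4 s4 :=
  rep_word Us4 [o8bT1x0, o8bT1x3, Ul27, Ul24, Ul35, Ul41, Ul40, Ul42, Ul39, Ul43] [tR0, tR3, l27, l24, l35, l41, l40, l42, l39, l43]
    (List.Forall₂.cons rep_tR0 (List.Forall₂.cons rep_tR3 (List.Forall₂.cons rep_l27 (List.Forall₂.cons rep_l24 (List.Forall₂.cons rep_l35 (List.Forall₂.cons rep_l41 (List.Forall₂.cons rep_l40 (List.Forall₂.cons rep_l42 (List.Forall₂.cons rep_l39 (List.Forall₂.cons rep_l43 List.Forall₂.nil))))))))))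
    (by decide +kernel)

/-- an element given by a word -/
noncomputable def b3 : HG := [t3, a3, t3, t3].prod

theorem rep_b3 : RepH Ub3 b3 :=
  rep_word Ub3 [Ut3, Ua3, Ut3, Ut3] [t3, a3, t3, t3]
    (List.Forall₂.cons rep_t3 (List.Forall₂.cons rep_a3 (List.Forall₂.cons rep_t3 (List.Forall₂.cons rep_t3 List.Forall₂.nil))))
    (by decide +kernel)

/-- an element given by a word -/
noncomputable def c3 : HG := [t3, b3, t3, t3].prod

theorem rep_c3 : RepH Uc3 c3 :=
  rep_word Uc3 [Ut3, Ub3, Ut3, Ut3] [t3, b3, t3, t3]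
    (List.Forall₂.cons rep_t3 (List.Forall₂.cons rep_b3 (List.Forall₂.cons rep_t3 (List.Forall₂.cons rep_t3 List.Forall₂.nil))))
    (by decide +kernel)

/-- an element given by a word -/
noncomputable def b3i : HG := [b3, b3].prod

theorem rep_b3i : RepH Ub3i b3i :=
  rep_word Ub3i [Ub3, Ub3] [b3, b3]
    (List.Forall₂.cons rep_b3 (List.Forall₂.cons rep_b3 List.Forall₂.nil))
    (by decide +kernel)

/-- an element given by a word -/
noncomputable def c3i : HG := [c3, c3].prod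

theorem rep_c3i : RepH Uc3i c3i :=
  rep_word Uc3i [Uc3, Uc3] [c3, c3]
    (List.Forall₂.cons rep_c3 (List.Forall₂.cons rep_c3 List.Forall₂.nil))
    (by decide +kernel)

/-- an element given by a word -/
noncomputable def uu : HG := [a3, b3i].prod

theorem rep_uu : RepH Uuu uu :=
  rep_word Uuu [Ua3, Ub3i] [a3, b3i]
    (List.Forall₂.cons rep_a3 (List.Forall₂.cons rep_b3i List.Forall₂.nil))
    (by decide +kernel)

/-- an element given by a word -/
noncomputable def vv : HG := [b3, c3i].prod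

theorem rep_vv : RepH Uvv vv :=
  rep_word Uvv [Ub3, Uc3i] [b3, c3i]
    (List.Forall₂.cons rep_b3 (List.Forall₂.cons rep_c3i List.Forall₂.nil))
    (by decide +kernel)

/-- an element given by a word -/
noncomputable def d01 : HG := [vv].prod

theorem rep_d01 : RepH Ud01 d01 :=
  rep_word Ud01 [Uvv] [vv]
    (List.Forall₂.cons rep_vv List.Forall₂.nil)
    (by decide +kernel)

/-- an element given by a word -/
noncomputable def d02 : HG := [vv, vv].prod

theorem rep_d02 : RepH Ud02 d02 :=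
  rep_word Ud02 [Uvv, Uvv] [vv, vv]
    (List.Forall₂.cons rep_vv (List.Forall₂.cons rep_vv List.Forall₂.nil))
    (by decide +kernel)

/-- an element given by a word -/
noncomputable def d10 : HG := [uu].prod

theorem rep_d10 : RepH Ud10 d10 :=
  rep_word Ud10 [Uuu] [uu]
    (List.Forall₂.cons rep_uu List.Forall₂.nil)
    (by decide +kernel)

/-- an element given by a word -/
noncomputable def d11 : HG := [uu, vv].prod

theorem rep_d11 : RepH Ud11 d11 :=
  rep_word Ud11 [Uuu, Uvv] [uu, vv]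
    (List.Forall₂.cons rep_uu (List.Forall₂.cons rep_vv List.Forall₂.nil))
    (by decide +kernel)

/-- an element given by a word -/
noncomputable def d12 : HG := [uu, vv, vv].prod

theorem rep_d12 : RepH Ud12 d12 :=
  rep_word Ud12 [Uuu, Uvv, Uvv] [uu, vv, vv]
    (List.Forall₂.cons rep_uu (List.Forall₂.cons rep_vv (List.Forall₂.cons rep_vv List.Forall₂.nil)))
    (by decide +kernel)

/-- an element given by a word -/
noncomputable def d20 : HG := [uu, uu].prod

theorem rep_d20 : RepH Ud20 d20 :=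
  rep_word Ud20 [Uuu, Uuu] [uu, uu]
    (List.Forall₂.cons rep_uu (List.Forall₂.cons rep_uu List.Forall₂.nil))
    (by decide +kernel)

/-- an element given by a word -/
noncomputable def d21 : HG := [uu, uu, vv].prod

theorem rep_d21 : RepH Ud21 d21 :=
  rep_word Ud21 [Uuu, Uuu, Uvv] [uu, uu, vv]
    (List.Forall₂.cons rep_uu (List.Forall₂.cons rep_uu (List.Forall₂.cons rep_vv List.Forall₂.nil)))
    (by decide +kernel)

/-- an element given by a word -/
noncomputable def d22 : HG := [uu, uu, vv, vv].prod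

theorem rep_d22 : RepH Ud22 d22 :=
  rep_word Ud22 [Uuu, Uuu, Uvv, Uvv] [uu, uu, vv, vv]
    (List.Forall₂.cons rep_uu (List.Forall₂.cons rep_uu (List.Forall₂.cons rep_vv (List.Forall₂.cons rep_vv List.Forall₂.nil))))
    (by decide +kernel)

/-- an element given by a word -/
noncomputable def x5 : HG := [tR2, tR13, tR3, l37, l27, l29, l35, l31, l40, l38, l42, l39].prod

theorem rep_x5 : RepH Ux5 x5 :=
  rep_word Ux5 [o8bT1x2, o8bT1x13, o8bT1x3, Ul37, Ul27, Ul29, Ul35, Ul31, Ul40, Ul38, Ul42, Ul39] [tR2, tR13, tR3, l37, l27, l29, l35, l31, l40, l38, l42, l39]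
    (List.Forall₂.cons rep_tR2 (List.Forall₂.cons rep_tR13 (List.Forall₂.cons rep_tR3 (List.Forall₂.cons rep_l37 (List.Forall₂.cons rep_l27 (List.Forall₂.cons rep_l29 (List.Forall₂.cons rep_l35 (List.Forall₂.cons rep_l31 (List.Forall₂.cons rep_l40 (List.Forall₂.cons rep_l38 (List.Forall₂.cons rep_l42 (List.Forall₂.cons rep_l39 List.Forall₂.nil))))))))))))
    (by decide +kernel)

/-- an element given by a word -/
noncomputable def y5 : HG := [tR3, l27, tR6, l29, l27, l31, l30, l31].prod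

theorem rep_y5 : RepH Uy5 y5 :=
  rep_word Uy5 [o8bT1x3, Ul27, o8bT1x6, Ul29, Ul27, Ul31, Ul30, Ul31] [tR3, l27, tR6, l29, l27, l31, l30, l31]
    (List.Forall₂.cons rep_tR3 (List.Forall₂.cons rep_l27 (List.Forall₂.cons rep_tR6 (List.Forall₂.cons rep_l29 (List.Forall₂.cons rep_l27 (List.Forall₂.cons rep_l31 (List.Forall₂.cons rep_l30 (List.Forall₂.cons rep_l31 List.Forall₂.nil))))))))
    (by decide +kernel)

/-- an element given by a word -/
noncomputable def s5 : HG := [tR7, l24, tR3, l26, l25, l39, l28, l33, l40, l43].prod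

theorem rep_s5 : RepH Us5 s5 :=
  rep_word Us5 [o8bT1x7, Ul24, o8bT1x3, Ul26, Ul25, Ul39, Ul28, Ul33, Ul40, Ul43] [tR7, l24, tR3, l26, l25, l39, l28, l33, l40, l43]
    (List.Forall₂.cons rep_tR7 (List.Forall₂.cons rep_l24 (List.Forall₂.cons rep_tR3 (List.Forall₂.cons rep_l26 (List.Forall₂.cons rep_l25 (List.Forall₂.cons rep_l39 (List.Forall₂.cons rep_l28 (List.Forall₂.cons rep_l33 (List.Forall₂.cons rep_l40 (List.Forall₂.cons rep_l43 List.Forall₂.nil))))))))))
    (by decide +kernel)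

attribute [irreducible] tR0 tR1 tR2 tR3 tR4 tR5 tR6 tR7 tR8 tR9 tR10 tR11 tR12 tR13 tR14 tR15 tR16 tR17 tR18 tR19 tR20 tR21 tR22 tR23 l24 l25 l26 l27 l28 l29 l30 l31 l32 l33 l34 l35 l36 l37 l38 l39 l40 l41 l42 l43 g0 g1 g2 g3 g4 g5 g6 g7 g8 g9 g10 g11 aA ebA ecA qAb qAc qAab qAac qAbc qAabc qI0 qI1 qI2 qI3 qI4 qI5 qI6 qE0b_19 qE0b_23 qE02_17 qE02_3b qE03_18 qE03_2b a3 d3 t3 s3 s3p s4 b3 c3 b3i c3i uu vv d01 d02 d10 d11 d12 d20 d21 d22 x5 y5 s5

end Cfsg.Agent.Lib.Helper5.O8M
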