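import Mathlib
import Cfsg.Agent.Lib.Helper5.O8MB

set_option autoImplicit false

/-! Relations between elements of the orthogonal group of plus type of degree eight over the field with two elements, checked on coded
permutations (generated). -/

namespace Cfsg.Agent.Lib.Helper5.O8M

open Cfsg.Agent.Lib.helper23 Cfsg.Agent.Lib.Helper5.CP

theorem aA_sq : aA * aA = 1 := by
  have h := eq_of_chk (look := o8blk) (n := 256) (H := K256) [UaA, UaA] [] [aA, aA] []
    (List.Forall₂.cons rep_aA (List.Forall₂.cons rep_aA List.Forall₂.nil))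
    List.Forall₂.nil
    (by decide +kernel)
  simpa only [List.prod_cons, List.prod_nil, mul_one, mul_assoc] using h

theorem aA_eb : aA * ebA = ebA * aA := by
  have h := eq_of_chk (look := o8blk) (n := 256) (H := K256) [UaA, UebA] [UebA, UaA] [aA, ebA] [ebA, aA]
    (List.Forall₂.cons rep_aA (List.Forall₂.cons rep_ebA List.Forall₂.nil))
    (List.Forall₂.cons rep_ebA (List.Forall₂.cons rep_aA List.Forall₂.nil))
    (by decide +kernel)
  simpa only [List.prod_cons, List.prod_nil, mul_one, mul_assoc] using h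

theorem aA_ec : aA * ecA = ecA * aA := by
  have h := eq_of_chk (look := o8blk) (n := 256) (H := K256) [UaA, UecA] [UecA, UaA] [aA, ecA] [ecA, aA]
    (List.Forall₂.cons rep_aA (List.Forall₂.cons rep_ecA List.Forall₂.nil))
    (List.Forall₂.cons rep_ecA (List.Forall₂.cons rep_aA List.Forall₂.nil))
    (by decide +kernel)
  simpa only [List.prod_cons, List.prod_nil, mul_one, mul_assoc] using h

theorem ebA_ec : ebA * ecA = ecA * ebA := by
  have h := eq_of_chk (look := o8blk) (n := 256) (H := K256) [UebA, UecA] [UecA, UebA] [ebA, ecA] [ecA, ebA]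
    (List.Forall₂.cons rep_ebA (List.Forall₂.cons rep_ecA List.Forall₂.nil))
    (List.Forall₂.cons rep_ecA (List.Forall₂.cons rep_ebA List.Forall₂.nil))
    (by decide +kernel)
  simpa only [List.prod_cons, List.prod_nil, mul_one, mul_assoc] using h

theorem qAb_conj : qAb * aA = ebA * qAb := by
  have h := eq_of_chk (look := o8blk) (n := 256) (H := K256) [UqAb, UaA] [UebA, UqAb] [qAb, aA] [ebA, qAb]
    (List.Forall₂.cons rep_qAb (List.Forall₂.cons rep_aA List.Forall₂.nil))
    (List.Forall₂.cons rep_ebA (List.Forall₂.cons rep_qAb List.Forall₂.nil))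
    (by decide +kernel)
  simpa only [List.prod_cons, List.prod_nil, mul_one, mul_assoc] using h

theorem qAc_conj : qAc * aA = ecA * qAc := by
  have h := eq_of_chk (look := o8blk) (n := 256) (H := K256) [UqAc, UaA] [UecA, UqAc] [qAc, aA] [ecA, qAc]
    (List.Forall₂.cons rep_qAc (List.Forall₂.cons rep_aA List.Forall₂.nil))
    (List.Forall₂.cons rep_ecA (List.Forall₂.cons rep_qAc List.Forall₂.nil))
    (by decide +kernel)
  simpa only [List.prod_cons, List.prod_nil, mul_one, mul_assoc] using h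

theorem qAab_conj : qAab * aA = (aA * ebA) * qAab := by
  have h := eq_of_chk (look := o8blk) (n := 256) (H := K256) [UqAab, UaA] [UaA, UebA, UqAab] [qAab, aA] [aA, ebA, qAab]
    (List.Forall₂.cons rep_qAab (List.Forall₂.cons rep_aA List.Forall₂.nil))
    (List.Forall₂.cons rep_aA (List.Forall₂.cons rep_ebA (List.Forall₂.cons rep_qAab List.Forall₂.nil)))
    (by decide +kernel)
  simpa only [List.prod_cons, List.prod_nil, mul_one, mul_assoc] using h

theorem qAac_conj : qAac * aA = (aA * ecA) * qAac := by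
  have h := eq_of_chk (look := o8blk) (n := 256) (H := K256) [UqAac, UaA] [UaA, UecA, UqAac] [qAac, aA] [aA, ecA, qAac]
    (List.Forall₂.cons rep_qAac (List.Forall₂.cons rep_aA List.Forall₂.nil))
    (List.Forall₂.cons rep_aA (List.Forall₂.cons rep_ecA (List.Forall₂.cons rep_qAac List.Forall₂.nil)))
    (by decide +kernel)
  simpa only [List.prod_cons, List.prod_nil, mul_one, mul_assoc] using h

theorem qAbc_conj : qAbc * aA = (ebA * ecA) * qAbc := by
  have h := eq_of_chk (look := o8blk) (n := 256) (H := K256) [UqAbc, UaA] [UebA, UecA, UqAbc] [qAbc, aA] [ebA, ecA, qAbc]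
    (List.Forall₂.cons rep_qAbc (List.Forall₂.cons rep_aA List.Forall₂.nil))
    (List.Forall₂.cons rep_ebA (List.Forall₂.cons rep_ecA (List.Forall₂.cons rep_qAbc List.Forall₂.nil)))
    (by decide +kernel)
  simpa only [List.prod_cons, List.prod_nil, mul_one, mul_assoc] using h

theorem qAabc_conj : qAabc * aA = (aA * ebA * ecA) * qAabc := by
  have h := eq_of_chk (look := o8blk) (n := 256) (H := K256) [UqAabc, UaA] [UaA, UebA, UecA, UqAabc] [qAabc, aA] [aA, ebA, ecA, qAabc]
    (List.Forall₂.cons rep_qAabc (List.Forall₂.cons rep_aA List.Forall₂.nil))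
    (List.Forall₂.cons rep_aA (List.Forall₂.cons rep_ebA (List.Forall₂.cons rep_ecA (List.Forall₂.cons rep_qAabc List.Forall₂.nil))))
    (by decide +kernel)
  simpa only [List.prod_cons, List.prod_nil, mul_one, mul_assoc] using h

theorem qI0_conj : qI0 * aA = g0 * qI0 := by
  have h := eq_of_chk (look := o8blk) (n := 256) (H := K256) [UqI0, UaA] [Ug0, UqI0] [qI0, aA] [g0, qI0]
    (List.Forall₂.cons rep_qI0 (List.Forall₂.cons rep_aA List.Forall₂.nil))
    (List.Forall₂.cons rep_g0 (List.Forall₂.cons rep_qI0 List.Forall₂.nil))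
    (by decide +kernel)
  simpa only [List.prod_cons, List.prod_nil, mul_one, mul_assoc] using h

theorem qI1_conj : qI1 * aA = g1 * qI1 := by
  have h := eq_of_chk (look := o8blk) (n := 256) (H := K256) [UqI1, UaA] [Ug1, UqI1] [qI1, aA] [g1, qI1]
    (List.Forall₂.cons rep_qI1 (List.Forall₂.cons rep_aA List.Forall₂.nil))
    (List.Forall₂.cons rep_g1 (List.Forall₂.cons rep_qI1 List.Forall₂.nil))
    (by decide +kernel)
  simpa only [List.prod_cons, List.prod_nil, mul_one, mul_assoc] using h

theorem qI2_conj : qI2 * aA = g2 * qI2 := by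
  have h := eq_of_chk (look := o8blk) (n := 256) (H := K256) [UqI2, UaA] [Ug2, UqI2] [qI2, aA] [g2, qI2]
    (List.Forall₂.cons rep_qI2 (List.Forall₂.cons rep_aA List.Forall₂.nil))
    (List.Forall₂.cons rep_g2 (List.Forall₂.cons rep_qI2 List.Forall₂.nil))
    (by decide +kernel)
  simpa only [List.prod_cons, List.prod_nil, mul_one, mul_assoc] using h

theorem qI3_conj : qI3 * aA = g3 * qI3 := by
  have h := eq_of_chk (look := o8blk) (n := 256) (H := K256) [UqI3, UaA] [Ug3, UqI3] [qI3, aA] [g3, qI3]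
    (List.Forall₂.cons rep_qI3 (List.Forall₂.cons rep_aA List.Forall₂.nil))
    (List.Forall₂.cons rep_g3 (List.Forall₂.cons rep_qI3 List.Forall₂.nil))
    (by decide +kernel)
  simpa only [List.prod_cons, List.prod_nil, mul_one, mul_assoc] using h

theorem qI4_conj : qI4 * aA = g4 * qI4 := by
  have h := eq_of_chk (look := o8blk) (n := 256) (H := K256) [UqI4, UaA] [Ug4, UqI4] [qI4, aA] [g4, qI4]
    (List.Forall₂.cons rep_qI4 (List.Forall₂.cons rep_aA List.Forall₂.nil))
    (List.Forall₂.cons rep_g4 (List.Forall₂.cons rep_qI4 List.Forall₂.nil))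
    (by decide +kernel)
  simpa only [List.prod_cons, List.prod_nil, mul_one, mul_assoc] using h

theorem qI5_conj : qI5 * aA = g5 * qI5 := by
  have h := eq_of_chk (look := o8blk) (n := 256) (H := K256) [UqI5, UaA] [Ug5, UqI5] [qI5, aA] [g5, qI5]
    (List.Forall₂.cons rep_qI5 (List.Forall₂.cons rep_aA List.Forall₂.nil))
    (List.Forall₂.cons rep_g5 (List.Forall₂.cons rep_qI5 List.Forall₂.nil))
    (by decide +kernel)
  simpa only [List.prod_cons, List.prod_nil, mul_one, mul_assoc] using h

theorem qI6_conj : qI6 * aA = g6 * qI6 := by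
  have h := eq_of_chk (look := o8blk) (n := 256) (H := K256) [UqI6, UaA] [Ug6, UqI6] [qI6, aA] [g6, qI6]
    (List.Forall₂.cons rep_qI6 (List.Forall₂.cons rep_aA List.Forall₂.nil))
    (List.Forall₂.cons rep_g6 (List.Forall₂.cons rep_qI6 List.Forall₂.nil))
    (by decide +kernel)
  simpa only [List.prod_cons, List.prod_nil, mul_one, mul_assoc] using h

theorem qE0b_19_conj : qE0b_19 * (g0 * (g11 * 1)) = (g1 * (g9 * 1)) * qE0b_19 := by
  have h := eq_of_chk (look := o8blk) (n := 256) (H := K256) [UqE0b_19, Ug0, Ug11] [Ug1, Ug9, UqE0b_19] [qE0b_19, g0, g11] [g1, g9, qE0b_19]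
    (List.Forall₂.cons rep_qE0b_19 (List.Forall₂.cons rep_g0 (List.Forall₂.cons rep_g11 List.Forall₂.nil)))
    (List.Forall₂.cons rep_g1 (List.Forall₂.cons rep_g9 (List.Forall₂.cons rep_qE0b_19 List.Forall₂.nil)))
    (by decide +kernel)
  simpa only [List.prod_cons, List.prod_nil, mul_one, mul_assoc] using h

theorem qE0b_19_sq : (g0 * (g11 * 1)) * (g0 * (g11 * 1)) = 1 := by
  have h := eq_of_chk (look := o8blk) (n := 256) (H := K256) [Ug0, Ug11, Ug0, Ug11] [] [g0, g11, g0, g11] []
    (List.Forall₂.cons rep_g0 (List.Forall₂.cons rep_g11 (List.Forall₂.cons rep_g0 (List.Forall₂.cons rep_g11 List.Forall₂.nil))))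
    List.Forall₂.nil
    (by decide +kernel)
  simpa only [List.prod_cons, List.prod_nil, mul_one, mul_assoc] using h

theorem qE0b_23_conj : qE0b_23 * (g0 * (g11 * 1)) = (g2 * (g3 * 1)) * qE0b_23 := by
  have h := eq_of_chk (look := o8blk) (n := 256) (H := K256) [UqE0b_23, Ug0, Ug11] [Ug2, Ug3, UqE0b_23] [qE0b_23, g0, g11] [g2, g3, qE0b_23]
    (List.Forall₂.cons rep_qE0b_23 (List.Forall₂.cons rep_g0 (List.Forall₂.cons rep_g11 List.Forall₂.nil)))
    (List.Forall₂.cons rep_g2 (List.Forall₂.cons rep_g3 (List.Forall₂.cons rep_qE0b_23 List.Forall₂.nil)))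
    (by decide +kernel)
  simpa only [List.prod_cons, List.prod_nil, mul_one, mul_assoc] using h

theorem qE0b_23_sq : (g0 * (g11 * 1)) * (g0 * (g11 * 1)) = 1 := by
  have h := eq_of_chk (look := o8blk) (n := 256) (H := K256) [Ug0, Ug11, Ug0, Ug11] [] [g0, g11, g0, g11] []
    (List.Forall₂.cons rep_g0 (List.Forall₂.cons rep_g11 (List.Forall₂.cons rep_g0 (List.Forall₂.cons rep_g11 List.Forall₂.nil))))
    List.Forall₂.nil
    (by decide +kernel)
  simpa only [List.prod_cons, List.prod_nil, mul_one, mul_assoc] using h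

theorem qE02_17_conj : qE02_17 * (g0 * (g2 * 1)) = (g1 * (g7 * 1)) * qE02_17 := by
  have h := eq_of_chk (look := o8blk) (n := 256) (H := K256) [UqE02_17, Ug0, Ug2] [Ug1, Ug7, UqE02_17] [qE02_17, g0, g2] [g1, g7, qE02_17]
    (List.Forall₂.cons rep_qE02_17 (List.Forall₂.cons rep_g0 (List.Forall₂.cons rep_g2 List.Forall₂.nil)))
    (List.Forall₂.cons rep_g1 (List.Forall₂.cons rep_g7 (List.Forall₂.cons rep_qE02_17 List.Forall₂.nil)))
    (by decide +kernel)
  simpa only [List.prod_cons, List.prod_nil, mul_one, mul_assoc] using h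

theorem qE02_17_sq : (g0 * (g2 * 1)) * (g0 * (g2 * 1)) = 1 := by
  have h := eq_of_chk (look := o8blk) (n := 256) (H := K256) [Ug0, Ug2, Ug0, Ug2] [] [g0, g2, g0, g2] []
    (List.Forall₂.cons rep_g0 (List.Forall₂.cons rep_g2 (List.Forall₂.cons rep_g0 (List.Forall₂.cons rep_g2 List.Forall₂.nil))))
    List.Forall₂.nil
    (by decide +kernel)
  simpa only [List.prod_cons, List.prod_nil, mul_one, mul_assoc] using h

theorem qE02_3b_conj : qE02_3b * (g0 * (g2 * 1)) = (g3 * (g11 * 1)) * qE02_3b := by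
  have h := eq_of_chk (look := o8blk) (n := 256) (H := K256) [UqE02_3b, Ug0, Ug2] [Ug3, Ug11, UqE02_3b] [qE02_3b, g0, g2] [g3, g11, qE02_3b]
    (List.Forall₂.cons rep_qE02_3b (List.Forall₂.cons rep_g0 (List.Forall₂.cons rep_g2 List.Forall₂.nil)))
    (List.Forall₂.cons rep_g3 (List.Forall₂.cons rep_g11 (List.Forall₂.cons rep_qE02_3b List.Forall₂.nil)))
    (by decide +kernel)
  simpa only [List.prod_cons, List.prod_nil, mul_one, mul_assoc] using h

theorem qE02_3b_sq : (g0 * (g2 * 1)) * (g0 * (g2 * 1)) = 1 := by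
  have h := eq_of_chk (look := o8blk) (n := 256) (H := K256) [Ug0, Ug2, Ug0, Ug2] [] [g0, g2, g0, g2] []
    (List.Forall₂.cons rep_g0 (List.Forall₂.cons rep_g2 (List.Forall₂.cons rep_g0 (List.Forall₂.cons rep_g2 List.Forall₂.nil))))
    List.Forall₂.nil
    (by decide +kernel)
  simpa only [List.prod_cons, List.prod_nil, mul_one, mul_assoc] using h

theorem qE03_18_conj : qE03_18 * (g0 * (g3 * 1)) = (g1 * (g8 * 1)) * qE03_18 := by
  have h := eq_of_chk (look := o8blk) (n := 256) (H := K256) [UqE03_18, Ug0, Ug3] [Ug1, Ug8, UqE03_18] [qE03_18, g0, g3] [g1, g8, qE03_18]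
    (List.Forall₂.cons rep_qE03_18 (List.Forall₂.cons rep_g0 (List.Forall₂.cons rep_g3 List.Forall₂.nil)))
    (List.Forall₂.cons rep_g1 (List.Forall₂.cons rep_g8 (List.Forall₂.cons rep_qE03_18 List.Forall₂.nil)))
    (by decide +kernel)
  simpa only [List.prod_cons, List.prod_nil, mul_one, mul_assoc] using h

theorem qE03_18_sq : (g0 * (g3 * 1)) * (g0 * (g3 * 1)) = 1 := by
  have h := eq_of_chk (look := o8blk) (n := 256) (H := K256) [Ug0, Ug3, Ug0, Ug3] [] [g0, g3, g0, g3] []
    (List.Forall₂.cons rep_g0 (List.Forall₂.cons rep_g3 (List.Forall₂.cons rep_g0 (List.Forall₂.cons rep_g3 List.Forall₂.nil))))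
    List.Forall₂.nil
    (by decide +kernel)
  simpa only [List.prod_cons, List.prod_nil, mul_one, mul_assoc] using h

theorem qE03_2b_conj : qE03_2b * (g0 * (g3 * 1)) = (g2 * (g11 * 1)) * qE03_2b := by
  have h := eq_of_chk (look := o8blk) (n := 256) (H := K256) [UqE03_2b, Ug0, Ug3] [Ug2, Ug11, UqE03_2b] [qE03_2b, g0, g3] [g2, g11, qE03_2b]
    (List.Forall₂.cons rep_qE03_2b (List.Forall₂.cons rep_g0 (List.Forall₂.cons rep_g3 List.Forall₂.nil)))
    (List.Forall₂.cons rep_g2 (List.Forall₂.cons rep_g11 (List.Forall₂.cons rep_qE03_2b List.Forall₂.nil)))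
    (by decide +kernel)
  simpa only [List.prod_cons, List.prod_nil, mul_one, mul_assoc] using h

theorem qE03_2b_sq : (g0 * (g3 * 1)) * (g0 * (g3 * 1)) = 1 := by
  have h := eq_of_chk (look := o8blk) (n := 256) (H := K256) [Ug0, Ug3, Ug0, Ug3] [] [g0, g3, g0, g3] []
    (List.Forall₂.cons rep_g0 (List.Forall₂.cons rep_g3 (List.Forall₂.cons rep_g0 (List.Forall₂.cons rep_g3 List.Forall₂.nil))))
    List.Forall₂.nil
    (by decide +kernel)
  simpa only [List.prod_cons, List.prod_nil, mul_one, mul_assoc] using h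

theorem g0_g11 : g0 * g11 = g11 * g0 := by
  have h := eq_of_chk (look := o8blk) (n := 256) (H := K256) [Ug0, Ug11] [Ug11, Ug0] [g0, g11] [g11, g0]
    (List.Forall₂.cons rep_g0 (List.Forall₂.cons rep_g11 List.Forall₂.nil))
    (List.Forall₂.cons rep_g11 (List.Forall₂.cons rep_g0 List.Forall₂.nil))
    (by decide +kernel)
  simpa only [List.prod_cons, List.prod_nil, mul_one, mul_assoc] using h

theorem g11_sq : g11 * g11 = 1 := by
  have h := eq_of_chk (look := o8blk) (n := 256) (H := K256) [Ug11, Ug11] [] [g11, g11] []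
    (List.Forall₂.cons rep_g11 (List.Forall₂.cons rep_g11 List.Forall₂.nil))
    List.Forall₂.nil
    (by decide +kernel)
  simpa only [List.prod_cons, List.prod_nil, mul_one, mul_assoc] using h

theorem g0_g2 : g0 * g2 = g2 * g0 := by
  have h := eq_of_chk (look := o8blk) (n := 256) (H := K256) [Ug0, Ug2] [Ug2, Ug0] [g0, g2] [g2, g0]
    (List.Forall₂.cons rep_g0 (List.Forall₂.cons rep_g2 List.Forall₂.nil))
    (List.Forall₂.cons rep_g2 (List.Forall₂.cons rep_g0 List.Forall₂.nil))
    (by decide +kernel)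
  simpa only [List.prod_cons, List.prod_nil, mul_one, mul_assoc] using h

theorem g2_sq : g2 * g2 = 1 := by
  have h := eq_of_chk (look := o8blk) (n := 256) (H := K256) [Ug2, Ug2] [] [g2, g2] []
    (List.Forall₂.cons rep_g2 (List.Forall₂.cons rep_g2 List.Forall₂.nil))
    List.Forall₂.nil
    (by decide +kernel)
  simpa only [List.prod_cons, List.prod_nil, mul_one, mul_assoc] using h

theorem a3_cube : a3 * a3 * a3 = 1 := by
  have h := eq_of_chk (look := o8blk) (n := 256) (H := K256) [Ua3, Ua3, Ua3] [] [a3, a3, a3] []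
    (List.Forall₂.cons rep_a3 (List.Forall₂.cons rep_a3 (List.Forall₂.cons rep_a3 List.Forall₂.nil)))
    List.Forall₂.nil
    (by decide +kernel)
  simpa only [List.prod_cons, List.prod_nil, mul_one, mul_assoc] using h

theorem b3_cube : b3 * b3 * b3 = 1 := by
  have h := eq_of_chk (look := o8blk) (n := 256) (H := K256) [Ub3, Ub3, Ub3] [] [b3, b3, b3] []
    (List.Forall₂.cons rep_b3 (List.Forall₂.cons rep_b3 (List.Forall₂.cons rep_b3 List.Forall₂.nil)))
    List.Forall₂.nil
    (by decide +kernel)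
  simpa only [List.prod_cons, List.prod_nil, mul_one, mul_assoc] using h

theorem c3_cube : c3 * c3 * c3 = 1 := by
  have h := eq_of_chk (look := o8blk) (n := 256) (H := K256) [Uc3, Uc3, Uc3] [] [c3, c3, c3] []
    (List.Forall₂.cons rep_c3 (List.Forall₂.cons rep_c3 (List.Forall₂.cons rep_c3 List.Forall₂.nil)))
    List.Forall₂.nil
    (by decide +kernel)
  simpa only [List.prod_cons, List.prod_nil, mul_one, mul_assoc] using h

theorem d3_cube : d3 * d3 * d3 = 1 := by
  have h := eq_of_chk (look := o8blk) (n := 256) (H := K256) [Ud3, Ud3, Ud3] [] [d3, d3, d3] []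
    (List.Forall₂.cons rep_d3 (List.Forall₂.cons rep_d3 (List.Forall₂.cons rep_d3 List.Forall₂.nil)))
    List.Forall₂.nil
    (by decide +kernel)
  simpa only [List.prod_cons, List.prod_nil, mul_one, mul_assoc] using h

theorem t3_cube : t3 * t3 * t3 = 1 := by
  have h := eq_of_chk (look := o8blk) (n := 256) (H := K256) [Ut3, Ut3, Ut3] [] [t3, t3, t3] []
    (List.Forall₂.cons rep_t3 (List.Forall₂.cons rep_t3 (List.Forall₂.cons rep_t3 List.Forall₂.nil)))
    List.Forall₂.nil
    (by decide +kernel)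
  simpa only [List.prod_cons, List.prod_nil, mul_one, mul_assoc] using h

theorem t3_a3 : t3 * a3 = b3 * t3 := by
  have h := eq_of_chk (look := o8blk) (n := 256) (H := K256) [Ut3, Ua3] [Ub3, Ut3] [t3, a3] [b3, t3]
    (List.Forall₂.cons rep_t3 (List.Forall₂.cons rep_a3 List.Forall₂.nil))
    (List.Forall₂.cons rep_b3 (List.Forall₂.cons rep_t3 List.Forall₂.nil))
    (by decide +kernel)
  simpa only [List.prod_cons, List.prod_nil, mul_one, mul_assoc] using h

theorem t3_b3 : t3 * b3 = c3 * t3 := by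
  have h := eq_of_chk (look := o8blk) (n := 256) (H := K256) [Ut3, Ub3] [Uc3, Ut3] [t3, b3] [c3, t3]
    (List.Forall₂.cons rep_t3 (List.Forall₂.cons rep_b3 List.Forall₂.nil))
    (List.Forall₂.cons rep_c3 (List.Forall₂.cons rep_t3 List.Forall₂.nil))
    (by decide +kernel)
  simpa only [List.prod_cons, List.prod_nil, mul_one, mul_assoc] using h

theorem t3_c3 : t3 * c3 = a3 * t3 := by
  have h := eq_of_chk (look := o8blk) (n := 256) (H := K256) [Ut3, Uc3] [Ua3, Ut3] [t3, c3] [a3, t3]
    (List.Forall₂.cons rep_t3 (List.Forall₂.cons rep_c3 List.Forall₂.nil))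
    (List.Forall₂.cons rep_a3 (List.Forall₂.cons rep_t3 List.Forall₂.nil))
    (by decide +kernel)
  simpa only [List.prod_cons, List.prod_nil, mul_one, mul_assoc] using h

theorem a3_b3 : a3 * b3 = b3 * a3 := by
  have h := eq_of_chk (look := o8blk) (n := 256) (H := K256) [Ua3, Ub3] [Ub3, Ua3] [a3, b3] [b3, a3]
    (List.Forall₂.cons rep_a3 (List.Forall₂.cons rep_b3 List.Forall₂.nil))
    (List.Forall₂.cons rep_b3 (List.Forall₂.cons rep_a3 List.Forall₂.nil))
    (by decide +kernel)
  simpa only [List.prod_cons, List.prod_nil, mul_one, mul_assoc] using h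

theorem a3_c3 : a3 * c3 = c3 * a3 := by
  have h := eq_of_chk (look := o8blk) (n := 256) (H := K256) [Ua3, Uc3] [Uc3, Ua3] [a3, c3] [c3, a3]
    (List.Forall₂.cons rep_a3 (List.Forall₂.cons rep_c3 List.Forall₂.nil))
    (List.Forall₂.cons rep_c3 (List.Forall₂.cons rep_a3 List.Forall₂.nil))
    (by decide +kernel)
  simpa only [List.prod_cons, List.prod_nil, mul_one, mul_assoc] using h

theorem b3_c3 : b3 * c3 = c3 * b3 := by
  have h := eq_of_chk (look := o8blk) (n := 256) (H := K256) [Ub3, Uc3] [Uc3, Ub3] [b3, c3] [c3, b3]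
    (List.Forall₂.cons rep_b3 (List.Forall₂.cons rep_c3 List.Forall₂.nil))
    (List.Forall₂.cons rep_c3 (List.Forall₂.cons rep_b3 List.Forall₂.nil))
    (by decide +kernel)
  simpa only [List.prod_cons, List.prod_nil, mul_one, mul_assoc] using h

theorem d3_a3 : d3 * a3 = a3 * d3 := by
  have h := eq_of_chk (look := o8blk) (n := 256) (H := K256) [Ud3, Ua3] [Ua3, Ud3] [d3, a3] [a3, d3]
    (List.Forall₂.cons rep_d3 (List.Forall₂.cons rep_a3 List.Forall₂.nil))
    (List.Forall₂.cons rep_a3 (List.Forall₂.cons rep_d3 List.Forall₂.nil))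
    (by decide +kernel)
  simpa only [List.prod_cons, List.prod_nil, mul_one, mul_assoc] using h

theorem d3_b3 : d3 * b3 = b3 * d3 := by
  have h := eq_of_chk (look := o8blk) (n := 256) (H := K256) [Ud3, Ub3] [Ub3, Ud3] [d3, b3] [b3, d3]
    (List.Forall₂.cons rep_d3 (List.Forall₂.cons rep_b3 List.Forall₂.nil))
    (List.Forall₂.cons rep_b3 (List.Forall₂.cons rep_d3 List.Forall₂.nil))
    (by decide +kernel)
  simpa only [List.prod_cons, List.prod_nil, mul_one, mul_assoc] using h

theorem d3_c3 : d3 * c3 = c3 * d3 := by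
  have h := eq_of_chk (look := o8blk) (n := 256) (H := K256) [Ud3, Uc3] [Uc3, Ud3] [d3, c3] [c3, d3]
    (List.Forall₂.cons rep_d3 (List.Forall₂.cons rep_c3 List.Forall₂.nil))
    (List.Forall₂.cons rep_c3 (List.Forall₂.cons rep_d3 List.Forall₂.nil))
    (by decide +kernel)
  simpa only [List.prod_cons, List.prod_nil, mul_one, mul_assoc] using h

theorem d3_t3 : d3 * t3 = t3 * d3 := by
  have h := eq_of_chk (look := o8blk) (n := 256) (H := K256) [Ud3, Ut3] [Ut3, Ud3] [d3, t3] [t3, d3]
    (List.Forall₂.cons rep_d3 (List.Forall₂.cons rep_t3 List.Forall₂.nil))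
    (List.Forall₂.cons rep_t3 (List.Forall₂.cons rep_d3 List.Forall₂.nil))
    (by decide +kernel)
  simpa only [List.prod_cons, List.prod_nil, mul_one, mul_assoc] using h

theorem s3_a3 : a3 * s3 * a3 = s3 := by
  have h := eq_of_chk (look := o8blk) (n := 256) (H := K256) [Ua3, Us3, Ua3] [Us3] [a3, s3, a3] [s3]
    (List.Forall₂.cons rep_a3 (List.Forall₂.cons rep_s3 (List.Forall₂.cons rep_a3 List.Forall₂.nil)))
    (List.Forall₂.cons rep_s3 List.Forall₂.nil)
    (by decide +kernel)
  simpa only [List.prod_cons, List.prod_nil, mul_one, mul_assoc] using h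

theorem s3_b3 : s3 * b3 = b3 * s3 := by
  have h := eq_of_chk (look := o8blk) (n := 256) (H := K256) [Us3, Ub3] [Ub3, Us3] [s3, b3] [b3, s3]
    (List.Forall₂.cons rep_s3 (List.Forall₂.cons rep_b3 List.Forall₂.nil))
    (List.Forall₂.cons rep_b3 (List.Forall₂.cons rep_s3 List.Forall₂.nil))
    (by decide +kernel)
  simpa only [List.prod_cons, List.prod_nil, mul_one, mul_assoc] using h

theorem s3_c3 : s3 * c3 = c3 * s3 := by
  have h := eq_of_chk (look := o8blk) (n := 256) (H := K256) [Us3, Uc3] [Uc3, Us3] [s3, c3] [c3, s3]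
    (List.Forall₂.cons rep_s3 (List.Forall₂.cons rep_c3 List.Forall₂.nil))
    (List.Forall₂.cons rep_c3 (List.Forall₂.cons rep_s3 List.Forall₂.nil))
    (by decide +kernel)
  simpa only [List.prod_cons, List.prod_nil, mul_one, mul_assoc] using h

theorem s3_d3 : d3 * s3 * d3 = s3 := by
  have h := eq_of_chk (look := o8blk) (n := 256) (H := K256) [Ud3, Us3, Ud3] [Us3] [d3, s3, d3] [s3]
    (List.Forall₂.cons rep_d3 (List.Forall₂.cons rep_s3 (List.Forall₂.cons rep_d3 List.Forall₂.nil)))
    (List.Forall₂.cons rep_s3 List.Forall₂.nil)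
    (by decide +kernel)
  simpa only [List.prod_cons, List.prod_nil, mul_one, mul_assoc] using h

theorem s3p_d3 : d3 * s3p * d3 = s3p := by
  have h := eq_of_chk (look := o8blk) (n := 256) (H := K256) [Ud3, Us3p, Ud3] [Us3p] [d3, s3p, d3] [s3p]
    (List.Forall₂.cons rep_d3 (List.Forall₂.cons rep_s3p (List.Forall₂.cons rep_d3 List.Forall₂.nil)))
    (List.Forall₂.cons rep_s3p List.Forall₂.nil)
    (by decide +kernel)
  simpa only [List.prod_cons, List.prod_nil, mul_one, mul_assoc] using h

theorem s3p_a3 : s3p * a3 = a3 * s3p := by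
  have h := eq_of_chk (look := o8blk) (n := 256) (H := K256) [Us3p, Ua3] [Ua3, Us3p] [s3p, a3] [a3, s3p]
    (List.Forall₂.cons rep_s3p (List.Forall₂.cons rep_a3 List.Forall₂.nil))
    (List.Forall₂.cons rep_a3 (List.Forall₂.cons rep_s3p List.Forall₂.nil))
    (by decide +kernel)
  simpa only [List.prod_cons, List.prod_nil, mul_one, mul_assoc] using h

theorem s3p_c3 : s3p * c3 = c3 * s3p := by
  have h := eq_of_chk (look := o8blk) (n := 256) (H := K256) [Us3p, Uc3] [Uc3, Us3p] [s3p, c3] [c3, s3p]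
    (List.Forall₂.cons rep_s3p (List.Forall₂.cons rep_c3 List.Forall₂.nil))
    (List.Forall₂.cons rep_c3 (List.Forall₂.cons rep_s3p List.Forall₂.nil))
    (by decide +kernel)
  simpa only [List.prod_cons, List.prod_nil, mul_one, mul_assoc] using h

theorem s4_d3 : d3 * s4 * d3 = s4 := by
  have h := eq_of_chk (look := o8blk) (n := 256) (H := K256) [Ud3, Us4, Ud3] [Us4] [d3, s4, d3] [s4]
    (List.Forall₂.cons rep_d3 (List.Forall₂.cons rep_s4 (List.Forall₂.cons rep_d3 List.Forall₂.nil)))
    (List.Forall₂.cons rep_s4 List.Forall₂.nil)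
    (by decide +kernel)
  simpa only [List.prod_cons, List.prod_nil, mul_one, mul_assoc] using h

theorem s4_t3 : s4 * t3 = t3 * s4 := by
  have h := eq_of_chk (look := o8blk) (n := 256) (H := K256) [Us4, Ut3] [Ut3, Us4] [s4, t3] [t3, s4]
    (List.Forall₂.cons rep_s4 (List.Forall₂.cons rep_t3 List.Forall₂.nil))
    (List.Forall₂.cons rep_t3 (List.Forall₂.cons rep_s4 List.Forall₂.nil))
    (by decide +kernel)
  simpa only [List.prod_cons, List.prod_nil, mul_one, mul_assoc] using h

theorem b3i_def : b3 * b3i = 1 := by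
  have h := eq_of_chk (look := o8blk) (n := 256) (H := K256) [Ub3, Ub3i] [] [b3, b3i] []
    (List.Forall₂.cons rep_b3 (List.Forall₂.cons rep_b3i List.Forall₂.nil))
    List.Forall₂.nil
    (by decide +kernel)
  simpa only [List.prod_cons, List.prod_nil, mul_one, mul_assoc] using h

theorem c3i_def : c3 * c3i = 1 := by
  have h := eq_of_chk (look := o8blk) (n := 256) (H := K256) [Uc3, Uc3i] [] [c3, c3i] []
    (List.Forall₂.cons rep_c3 (List.Forall₂.cons rep_c3i List.Forall₂.nil))
    List.Forall₂.nil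
    (by decide +kernel)
  simpa only [List.prod_cons, List.prod_nil, mul_one, mul_assoc] using h

theorem uu_def : uu = a3 * b3i := by
  have h := eq_of_chk (look := o8blk) (n := 256) (H := K256) [Uuu] [Ua3, Ub3i] [uu] [a3, b3i]
    (List.Forall₂.cons rep_uu List.Forall₂.nil)
    (List.Forall₂.cons rep_a3 (List.Forall₂.cons rep_b3i List.Forall₂.nil))
    (by decide +kernel)
  simpa only [List.prod_cons, List.prod_nil, mul_one, mul_assoc] using h

theorem vv_def : vv = b3 * c3i := by
  have h := eq_of_chk (look := o8blk) (n := 256) (H := K256) [Uvv] [Ub3, Uc3i] [vv] [b3, c3i]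
    (List.Forall₂.cons rep_vv List.Forall₂.nil)
    (List.Forall₂.cons rep_b3 (List.Forall₂.cons rep_c3i List.Forall₂.nil))
    (by decide +kernel)
  simpa only [List.prod_cons, List.prod_nil, mul_one, mul_assoc] using h

theorem d01_def : vv = d01 := by
  have h := eq_of_chk (look := o8blk) (n := 256) (H := K256) [Uvv] [Ud01] [vv] [d01]
    (List.Forall₂.cons rep_vv List.Forall₂.nil)
    (List.Forall₂.cons rep_d01 List.Forall₂.nil)
    (by decide +kernel)
  simpa only [List.prod_cons, List.prod_nil, mul_one, mul_assoc] using h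

theorem d02_def : vv * vv = d02 := by
  have h := eq_of_chk (look := o8blk) (n := 256) (H := K256) [Uvv, Uvv] [Ud02] [vv, vv] [d02]
    (List.Forall₂.cons rep_vv (List.Forall₂.cons rep_vv List.Forall₂.nil))
    (List.Forall₂.cons rep_d02 List.Forall₂.nil)
    (by decide +kernel)
  simpa only [List.prod_cons, List.prod_nil, mul_one, mul_assoc] using h

theorem d10_def : uu = d10 := by
  have h := eq_of_chk (look := o8blk) (n := 256) (H := K256) [Uuu] [Ud10] [uu] [d10]
    (List.Forall₂.cons rep_uu List.Forall₂.nil)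
    (List.Forall₂.cons rep_d10 List.Forall₂.nil)
    (by decide +kernel)
  simpa only [List.prod_cons, List.prod_nil, mul_one, mul_assoc] using h

theorem d11_def : uu * vv = d11 := by
  have h := eq_of_chk (look := o8blk) (n := 256) (H := K256) [Uuu, Uvv] [Ud11] [uu, vv] [d11]
    (List.Forall₂.cons rep_uu (List.Forall₂.cons rep_vv List.Forall₂.nil))
    (List.Forall₂.cons rep_d11 List.Forall₂.nil)
    (by decide +kernel)
  simpa only [List.prod_cons, List.prod_nil, mul_one, mul_assoc] using h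

theorem d12_def : uu * vv * vv = d12 := by
  have h := eq_of_chk (look := o8blk) (n := 256) (H := K256) [Uuu, Uvv, Uvv] [Ud12] [uu, vv, vv] [d12]
    (List.Forall₂.cons rep_uu (List.Forall₂.cons rep_vv (List.Forall₂.cons rep_vv List.Forall₂.nil)))
    (List.Forall₂.cons rep_d12 List.Forall₂.nil)
    (by decide +kernel)
  simpa only [List.prod_cons, List.prod_nil, mul_one, mul_assoc] using h

theorem d20_def : uu * uu = d20 := by
  have h := eq_of_chk (look := o8blk) (n := 256) (H := K256) [Uuu, Uuu] [Ud20] [uu, uu] [d20]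
    (List.Forall₂.cons rep_uu (List.Forall₂.cons rep_uu List.Forall₂.nil))
    (List.Forall₂.cons rep_d20 List.Forall₂.nil)
    (by decide +kernel)
  simpa only [List.prod_cons, List.prod_nil, mul_one, mul_assoc] using h

theorem d21_def : uu * uu * vv = d21 := by
  have h := eq_of_chk (look := o8blk) (n := 256) (H := K256) [Uuu, Uuu, Uvv] [Ud21] [uu, uu, vv] [d21]
    (List.Forall₂.cons rep_uu (List.Forall₂.cons rep_uu (List.Forall₂.cons rep_vv List.Forall₂.nil)))
    (List.Forall₂.cons rep_d21 List.Forall₂.nil)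
    (by decide +kernel)
  simpa only [List.prod_cons, List.prod_nil, mul_one, mul_assoc] using h

theorem d22_def : uu * uu * vv * vv = d22 := by
  have h := eq_of_chk (look := o8blk) (n := 256) (H := K256) [Uuu, Uuu, Uvv, Uvv] [Ud22] [uu, uu, vv, vv] [d22]
    (List.Forall₂.cons rep_uu (List.Forall₂.cons rep_uu (List.Forall₂.cons rep_vv (List.Forall₂.cons rep_vv List.Forall₂.nil))))
    (List.Forall₂.cons rep_d22 List.Forall₂.nil)
    (by decide +kernel)
  simpa only [List.prod_cons, List.prod_nil, mul_one, mul_assoc] using h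

theorem x5_pow : x5 * x5 * x5 * x5 * x5 = 1 := by
  have h := eq_of_chk (look := o8blk) (n := 256) (H := K256) [Ux5, Ux5, Ux5, Ux5, Ux5] [] [x5, x5, x5, x5, x5] []
    (List.Forall₂.cons rep_x5 (List.Forall₂.cons rep_x5 (List.Forall₂.cons rep_x5 (List.Forall₂.cons rep_x5 (List.Forall₂.cons rep_x5 List.Forall₂.nil)))))
    List.Forall₂.nil
    (by decide +kernel)
  simpa only [List.prod_cons, List.prod_nil, mul_one, mul_assoc] using h

theorem y5_pow : y5 * y5 * y5 * y5 * y5 = 1 := by
  have h := eq_of_chk (look := o8blk) (n := 256) (H := K256) [Uy5, Uy5, Uy5, Uy5, Uy5] [] [y5, y5, y5, y5, y5] []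
    (List.Forall₂.cons rep_y5 (List.Forall₂.cons rep_y5 (List.Forall₂.cons rep_y5 (List.Forall₂.cons rep_y5 (List.Forall₂.cons rep_y5 List.Forall₂.nil)))))
    List.Forall₂.nil
    (by decide +kernel)
  simpa only [List.prod_cons, List.prod_nil, mul_one, mul_assoc] using h

theorem x5_y5 : x5 * y5 = y5 * x5 := by
  have h := eq_of_chk (look := o8blk) (n := 256) (H := K256) [Ux5, Uy5] [Uy5, Ux5] [x5, y5] [y5, x5]
    (List.Forall₂.cons rep_x5 (List.Forall₂.cons rep_y5 List.Forall₂.nil))
    (List.Forall₂.cons rep_y5 (List.Forall₂.cons rep_x5 List.Forall₂.nil))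
    (by decide +kernel)
  simpa only [List.prod_cons, List.prod_nil, mul_one, mul_assoc] using h

theorem s5_x5 : x5 * s5 * x5 = s5 := by
  have h := eq_of_chk (look := o8blk) (n := 256) (H := K256) [Ux5, Us5, Ux5] [Us5] [x5, s5, x5] [s5]
    (List.Forall₂.cons rep_x5 (List.Forall₂.cons rep_s5 (List.Forall₂.cons rep_x5 List.Forall₂.nil)))
    (List.Forall₂.cons rep_s5 List.Forall₂.nil)
    (by decide +kernel)
  simpa only [List.prod_cons, List.prod_nil, mul_one, mul_assoc] using h

theorem s5_y5 : s5 * y5 = y5 * s5 := by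
  have h := eq_of_chk (look := o8blk) (n := 256) (H := K256) [Us5, Uy5] [Uy5, Us5] [s5, y5] [y5, s5]
    (List.Forall₂.cons rep_s5 (List.Forall₂.cons rep_y5 List.Forall₂.nil))
    (List.Forall₂.cons rep_y5 (List.Forall₂.cons rep_s5 List.Forall₂.nil))
    (by decide +kernel)
  simpa only [List.prod_cons, List.prod_nil, mul_one, mul_assoc] using h

theorem d01_ne : d01 ≠ 1 :=
  ne_one_of_moves' Ud01 d01 rep_d01 1 (by norm_num) (by decide +kernel)

theorem d02_ne : d02 ≠ 1 :=
  ne_one_of_moves' Ud02 d02 rep_d02 1 (by norm_num) (by decide +kernel)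

theorem d10_ne : d10 ≠ 1 :=
  ne_one_of_moves' Ud10 d10 rep_d10 1 (by norm_num) (by decide +kernel)

theorem d11_ne : d11 ≠ 1 :=
  ne_one_of_moves' Ud11 d11 rep_d11 1 (by norm_num) (by decide +kernel)

theorem d12_ne : d12 ≠ 1 :=
  ne_one_of_moves' Ud12 d12 rep_d12 1 (by norm_num) (by decide +kernel)

theorem d20_ne : d20 ≠ 1 :=
  ne_one_of_moves' Ud20 d20 rep_d20 1 (by norm_num) (by decide +kernel)

theorem d21_ne : d21 ≠ 1 :=
  ne_one_of_moves' Ud21 d21 rep_d21 1 (by norm_num) (by decide +kernel)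

theorem d22_ne : d22 ≠ 1 :=
  ne_one_of_moves' Ud22 d22 rep_d22 1 (by norm_num) (by decide +kernel)

end Cfsg.Agent.Lib.Helper5.O8M
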