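import Mathlib
import Cfsg.Agent.Lib.Helper5.O8MC
import Cfsg.Agent.Lib.Helper5.PcTE
import Cfsg.Agent.Lib.Helper5.PcTG

set_option autoImplicit false
set_option maxRecDepth 1000000

/-! Word lists for the orders of the Sylow subgroups of the orthogonal group of plus type of degree eight over the field with two elements, and the
certificate for the splitting of the Sylow 2-subgroup (generated). -/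

namespace Cfsg.Agent.Lib.Helper5.O8M

open Cfsg.Agent.Lib.helper23 Cfsg.Agent.Lib.Helper5.CP Cfsg.Agent.Lib.Helper5.PcT

/-- the base points for signatures -/
def sbase : List ℕ := [1, 2, 4, 8, 16, 32, 64]

theorem sbase_lt : ∀ b ∈ sbase, b < 256 := by decide

theorem chk_id : eqW o8blk 256 Uid [] = true := by decide +kernel

/-- coded generators -/
def gT2 : List ℕ := [Ug0, Ug1, Ug2, Ug3, Ug4, Ug5, Ug6, Ug7, Ug8, Ug9, Ug10, Ug11]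

/-- generators -/
noncomputable def gG2 : List HG := [g0, g1, g2, g3, g4, g5, g6, g7, g8, g9, g10, g11]

theorem gRep2 : List.Forall₂ RepH gT2 gG2 :=
  (List.Forall₂.cons rep_g0 (List.Forall₂.cons rep_g1 (List.Forall₂.cons rep_g2 (List.Forall₂.cons rep_g3 (List.Forall₂.cons rep_g4 (List.Forall₂.cons rep_g5 (List.Forall₂.cons rep_g6 (List.Forall₂.cons rep_g7 (List.Forall₂.cons rep_g8 (List.Forall₂.cons rep_g9 (List.Forall₂.cons rep_g10 (List.Forall₂.cons rep_g11 List.Forall₂.nil))))))))))))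

/-- words with pairwise different values -/
def words2 : List (List ℕ) := [[], [8], [0], [0, 8], [4], [4, 8], [0, 4], [0, 4, 8], [7], [7, 8], [0, 7], [0, 7, 8], [4, 7], [4, 7, 8], [0, 4, 7], [0, 4, 7, 8], [11], [8, 11], [0, 11], [0, 8, 11], [4, 11], [4, 8, 11], [0, 4, 11], [0, 4, 8, 11], [7, 11], [7, 8, 11], [0, 7, 11], [0, 7, 8, 11], [4, 7, 11], [4, 7, 8, 11], [0, 4, 7, 11], [0, 4, 7, 8, 11], [6], [6, 8], [0, 6], [0, 6, 8], [4, 6], [4, 6, 8], [0, 4, 6], [0, 4, 6, 8], [6, 7], [6, 7, 8], [0, 6, 7], [0, 6, 7, 8], [4, 6, 7], [4, 6, 7, 8], [0, 4, 6, 7], [0, 4, 6, 7, 8], [6, 11], [6, 8, 11], [0, 6, 11], [0, 6, 8, 11], [4, 6, 11], [4, 6, 8, 11], [0, 4, 6, 11], [0, 4, 6, 8, 11], [6, 7, 11], [6, 7, 8, 11], [0, 6,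 7, 11], [0, 6, 7, 8, 11], [4, 6, 7, 11], [4, 6, 7, 8, 11], [0, 4, 6, 7, 11], [0, 4, 6, 7, 8, 11], [1], [1, 8], [0, 1], [0, 1, 8], [1, 4], [1, 4, 8], [0, 1, 4], [0, 1, 4, 8], [1, 7], [1, 7, 8], [0, 1, 7], [0, 1, 7, 8], [1, 4, 7], [1, 4, 7, 8], [0, 1, 4, 7], [0, 1, 4, 7, 8], [1, 11], [1, 8, 11], [0, 1, 11], [0, 1, 8, 11], [1, 4, 11], [1, 4, 8, 11], [0, 1, 4, 11], [0, 1, 4, 8, 11], [1, 7, 11], [1, 7, 8, 11], [0, 1, 7, 11], [0, 1, 7, 8, 11], [1, 4, 7, 11], [1, 4, 7, 8, 11], [0, 1, 4, 7, 11], [0, 1, 4, 7, 8, 11], [1, 6], [1, 6, 8], [0, 1, 6], [0, 1, 6, 8], [1, 4, 6], [1, 4, 6, 8], [0, 1, 4, 6], [0, 1, 4, 6, 8], [1, 6, 7], [1, 6, 7, 8], [0, 1, 6, 7], [0, 1, 6, 7, 8], [1, 4, 6, 7], [1, 4, 6, 7, 8], [0, 1, 4, 6, 7],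 [0, 1, 4, 6, 7, 8], [1, 6, 11], [1, 6, 8, 11], [0, 1, 6, 11], [0, 1, 6, 8, 11], [1, 4, 6, 11], [1, 4, 6, 8, 11], [0, 1, 4, 6, 11], [0, 1, 4, 6, 8, 11], [1, 6, 7, 11], [1, 6, 7, 8, 11], [0, 1, 6, 7, 11], [0, 1, 6, 7, 8, 11], [1, 4, 6, 7, 11], [1, 4, 6, 7, 8, 11], [0, 1, 4, 6, 7, 11], [0, 1, 4, 6, 7, 8, 11], [5], [5, 8], [0, 5], [0, 5, 8], [4, 5], [4, 5, 8], [0, 4, 5], [0, 4, 5, 8], [5, 7], [5, 7, 8], [0, 5, 7], [0, 5, 7, 8], [4, 5, 7], [4, 5, 7, 8], [0, 4, 5, 7], [0, 4, 5, 7, 8], [5, 11], [5, 8, 11], [0, 5, 11], [0, 5, 8, 11], [4, 5, 11], [4, 5, 8, 11], [0, 4, 5, 11], [0, 4, 5, 8, 11], [5, 7, 11], [5, 7, 8, 11], [0, 5, 7, 11], [0, 5, 7, 8, 11], [4, 5, 7, 11], [4, 5, 7, 8, 11], [0, 4, 5, 7, 11], [0, 4, 5, 7,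 8, 11], [5, 6], [5, 6, 8], [0, 5, 6, 11], [0, 5, 6, 8, 11], [4, 5, 6], [4, 5, 6, 8], [0, 4, 5, 6, 11], [0, 4, 5, 6, 8, 11], [5, 6, 7], [5, 6, 7, 8], [0, 5, 6, 7, 11], [0, 5, 6, 7, 8, 11], [4, 5, 6, 7], [4, 5, 6, 7, 8], [0, 4, 5, 6, 7, 11], [0, 4, 5, 6, 7, 8, 11], [5, 6, 11], [5, 6, 8, 11], [0, 5, 6], [0, 5, 6, 8], [4, 5, 6, 11], [4, 5, 6, 8, 11], [0, 4, 5, 6], [0, 4, 5, 6, 8], [5, 6, 7, 11], [5, 6, 7, 8, 11], [0, 5, 6, 7], [0, 5, 6, 7, 8], [4, 5, 6, 7, 11], [4, 5, 6, 7, 8, 11], [0, 4, 5, 6, 7], [0, 4, 5, 6, 7, 8], [1, 5], [1, 5, 8], [0, 1, 5], [0, 1, 5, 8], [1, 4, 5], [1, 4, 5, 8], [0, 1, 4, 5], [0, 1, 4, 5, 8], [1, 5, 7], [1, 5, 7, 8], [0, 1, 5, 7], [0, 1, 5, 7, 8], [1, 4, 5, 7], [1, 4, 5, 7, 8], [0, 1, 4,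 5, 7], [0, 1, 4, 5, 7, 8], [1, 5, 11], [1, 5, 8, 11], [0, 1, 5, 11], [0, 1, 5, 8, 11], [1, 4, 5, 11], [1, 4, 5, 8, 11], [0, 1, 4, 5, 11], [0, 1, 4, 5, 8, 11], [1, 5, 7, 11], [1, 5, 7, 8, 11], [0, 1, 5, 7, 11], [0, 1, 5, 7, 8, 11], [1, 4, 5, 7, 11], [1, 4, 5, 7, 8, 11], [0, 1, 4, 5, 7, 11], [0, 1, 4, 5, 7, 8, 11], [1, 5, 6], [1, 5, 6, 8], [0, 1, 5, 6, 11], [0, 1, 5, 6, 8, 11], [1, 4, 5, 6], [1, 4, 5, 6, 8], [0, 1, 4, 5, 6, 11], [0, 1, 4, 5, 6, 8, 11], [1, 5, 6, 7], [1, 5, 6, 7, 8], [0, 1, 5, 6, 7, 11], [0, 1, 5, 6, 7, 8, 11], [1, 4, 5, 6, 7], [1, 4, 5, 6, 7, 8], [0, 1, 4, 5, 6, 7, 11], [0, 1, 4, 5, 6, 7, 8, 11], [1, 5, 6, 11], [1, 5, 6, 8, 11], [0, 1, 5, 6], [0, 1, 5, 6, 8], [1, 4, 5, 6, 11], [1, 4, 5, 6, 8,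 11], [0, 1, 4, 5, 6], [0, 1, 4, 5, 6, 8], [1, 5, 6, 7, 11], [1, 5, 6, 7, 8, 11], [0, 1, 5, 6, 7], [0, 1, 5, 6, 7, 8], [1, 4, 5, 6, 7, 11], [1, 4, 5, 6, 7, 8, 11], [0, 1, 4, 5, 6, 7], [0, 1, 4, 5, 6, 7, 8], [10], [8, 10], [0, 10], [0, 8, 10], [4, 10], [4, 8, 10], [0, 4, 10], [0, 4, 8, 10], [7, 10], [7, 8, 10], [0, 7, 10], [0, 7, 8, 10], [4, 7, 10], [4, 7, 8, 10], [0, 4, 7, 10], [0, 4, 7, 8, 10], [10, 11], [8, 10, 11], [0, 10, 11], [0, 8, 10, 11], [4, 10, 11], [4, 8, 10, 11], [0, 4, 10, 11], [0, 4, 8, 10, 11], [7, 10, 11], [7, 8, 10, 11], [0, 7, 10, 11], [0, 7, 8, 10, 11], [4, 7, 10, 11], [4, 7, 8, 10, 11], [0, 4, 7, 10, 11], [0, 4, 7, 8, 10, 11], [6, 10], [6, 8, 10], [0, 6, 10], [0, 6, 8, 10], [4, 6, 10], [4,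 6, 8, 10], [0, 4, 6, 10], [0, 4, 6, 8, 10], [6, 7, 10], [6, 7, 8, 10], [0, 6, 7, 10], [0, 6, 7, 8, 10], [4, 6, 7, 10], [4, 6, 7, 8, 10], [0, 4, 6, 7, 10], [0, 4, 6, 7, 8, 10], [6, 10, 11], [6, 8, 10, 11], [0, 6, 10, 11], [0, 6, 8, 10, 11], [4, 6, 10, 11], [4, 6, 8, 10, 11], [0, 4, 6, 10, 11], [0, 4, 6, 8, 10, 11], [6, 7, 10, 11], [6, 7, 8, 10, 11], [0, 6, 7, 10, 11], [0, 6, 7, 8, 10, 11], [4, 6, 7, 10, 11], [4, 6, 7, 8, 10, 11], [0, 4, 6, 7, 10, 11], [0, 4, 6, 7, 8, 10, 11], [1, 10], [1, 8, 10], [0, 1, 10], [0, 1, 8, 10], [1, 4, 10], [1, 4, 8, 10], [0, 1, 4, 10], [0, 1, 4, 8, 10], [1, 7, 10], [1, 7, 8, 10], [0, 1, 7, 10], [0, 1, 7, 8, 10], [1, 4, 7, 10], [1, 4, 7, 8, 10], [0, 1, 4, 7, 10], [0, 1, 4, 7, 8,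 10], [1, 10, 11], [1, 8, 10, 11], [0, 1, 10, 11], [0, 1, 8, 10, 11], [1, 4, 10, 11], [1, 4, 8, 10, 11], [0, 1, 4, 10, 11], [0, 1, 4, 8, 10, 11], [1, 7, 10, 11], [1, 7, 8, 10, 11], [0, 1, 7, 10, 11], [0, 1, 7, 8, 10, 11], [1, 4, 7, 10, 11], [1, 4, 7, 8, 10, 11], [0, 1, 4, 7, 10, 11], [0, 1, 4, 7, 8, 10, 11], [1, 6, 10], [1, 6, 8, 10], [0, 1, 6, 10], [0, 1, 6, 8, 10], [1, 4, 6, 10], [1, 4, 6, 8, 10], [0, 1, 4, 6, 10], [0, 1, 4, 6, 8, 10], [1, 6, 7, 10], [1, 6, 7, 8, 10], [0, 1, 6, 7, 10], [0, 1, 6, 7, 8, 10], [1, 4, 6, 7, 10], [1, 4, 6, 7, 8, 10], [0, 1, 4, 6, 7, 10], [0, 1, 4, 6, 7, 8, 10], [1, 6, 10, 11], [1, 6, 8, 10, 11], [0, 1, 6, 10, 11], [0, 1, 6, 8, 10, 11], [1, 4, 6, 10, 11], [1, 4, 6, 8, 10, 11], [0,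 1, 4, 6, 10, 11], [0, 1, 4, 6, 8, 10, 11], [1, 6, 7, 10, 11], [1, 6, 7, 8, 10, 11], [0, 1, 6, 7, 10, 11], [0, 1, 6, 7, 8, 10, 11], [1, 4, 6, 7, 10, 11], [1, 4, 6, 7, 8, 10, 11], [0, 1, 4, 6, 7, 10, 11], [0, 1, 4, 6, 7, 8, 10, 11], [5, 10], [5, 8, 10], [0, 5, 10], [0, 5, 8, 10], [4, 5, 10], [4, 5, 8, 10], [0, 4, 5, 10], [0, 4, 5, 8, 10], [5, 7, 10], [5, 7, 8, 10], [0, 5, 7, 10], [0, 5, 7, 8, 10], [4, 5, 7, 10], [4, 5, 7, 8, 10], [0, 4, 5, 7, 10], [0, 4, 5, 7, 8, 10], [5, 10, 11], [5, 8, 10, 11], [0, 5, 10, 11], [0, 5, 8, 10, 11], [4, 5, 10, 11], [4, 5, 8, 10, 11], [0, 4, 5, 10, 11], [0, 4, 5, 8, 10, 11], [5, 7, 10, 11], [5, 7, 8, 10, 11], [0, 5, 7, 10, 11], [0, 5, 7, 8, 10, 11], [4, 5, 7, 10, 11], [4, 5, 7,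 8, 10, 11], [0, 4, 5, 7, 10, 11], [0, 4, 5, 7, 8, 10, 11], [5, 6, 10], [5, 6, 8, 10], [0, 5, 6, 10, 11], [0, 5, 6, 8, 10, 11], [4, 5, 6, 10], [4, 5, 6, 8, 10], [0, 4, 5, 6, 10, 11], [0, 4, 5, 6, 8, 10, 11], [5, 6, 7, 10], [5, 6, 7, 8, 10], [0, 5, 6, 7, 10, 11], [0, 5, 6, 7, 8, 10, 11], [4, 5, 6, 7, 10], [4, 5, 6, 7, 8, 10], [0, 4, 5, 6, 7, 10, 11], [0, 4, 5, 6, 7, 8, 10, 11], [5, 6, 10, 11], [5, 6, 8, 10, 11], [0, 5, 6, 10], [0, 5, 6, 8, 10], [4, 5, 6, 10, 11], [4, 5, 6, 8, 10, 11], [0, 4, 5, 6, 10], [0, 4, 5, 6, 8, 10], [5, 6, 7, 10, 11], [5, 6, 7, 8, 10, 11], [0, 5, 6, 7, 10], [0, 5, 6, 7, 8, 10], [4, 5, 6, 7, 10, 11], [4, 5, 6, 7, 8, 10, 11], [0, 4, 5, 6, 7, 10], [0, 4, 5, 6, 7, 8, 10], [1, 5, 10], [1,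 5, 8, 10], [0, 1, 5, 10], [0, 1, 5, 8, 10], [1, 4, 5, 10], [1, 4, 5, 8, 10], [0, 1, 4, 5, 10], [0, 1, 4, 5, 8, 10], [1, 5, 7, 10], [1, 5, 7, 8, 10], [0, 1, 5, 7, 10], [0, 1, 5, 7, 8, 10], [1, 4, 5, 7, 10], [1, 4, 5, 7, 8, 10], [0, 1, 4, 5, 7, 10], [0, 1, 4, 5, 7, 8, 10], [1, 5, 10, 11], [1, 5, 8, 10, 11], [0, 1, 5, 10, 11], [0, 1, 5, 8, 10, 11], [1, 4, 5, 10, 11], [1, 4, 5, 8, 10, 11], [0, 1, 4, 5, 10, 11], [0, 1, 4, 5, 8, 10, 11], [1, 5, 7, 10, 11], [1, 5, 7, 8, 10, 11], [0, 1, 5, 7, 10, 11], [0, 1, 5, 7, 8, 10, 11], [1, 4, 5, 7, 10, 11], [1, 4, 5, 7, 8, 10, 11], [0, 1, 4, 5, 7, 10, 11], [0, 1, 4, 5, 7, 8, 10, 11], [1, 5, 6, 10], [1, 5, 6, 8, 10], [0, 1, 5, 6, 10, 11], [0, 1, 5, 6, 8, 10, 11], [1, 4, 5, 6,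 10], [1, 4, 5, 6, 8, 10], [0, 1, 4, 5, 6, 10, 11], [0, 1, 4, 5, 6, 8, 10, 11], [1, 5, 6, 7, 10], [1, 5, 6, 7, 8, 10], [0, 1, 5, 6, 7, 10, 11], [0, 1, 5, 6, 7, 8, 10, 11], [1, 4, 5, 6, 7, 10], [1, 4, 5, 6, 7, 8, 10], [0, 1, 4, 5, 6, 7, 10, 11], [0, 1, 4, 5, 6, 7, 8, 10, 11], [1, 5, 6, 10, 11], [1, 5, 6, 8, 10, 11], [0, 1, 5, 6, 10], [0, 1, 5, 6, 8, 10], [1, 4, 5, 6, 10, 11], [1, 4, 5, 6, 8, 10, 11], [0, 1, 4, 5, 6, 10], [0, 1, 4, 5, 6, 8, 10], [1, 5, 6, 7, 10, 11], [1, 5, 6, 7, 8, 10, 11], [0, 1, 5, 6, 7, 10], [0, 1, 5, 6, 7, 8, 10], [1, 4, 5, 6, 7, 10, 11], [1, 4, 5, 6, 7, 8, 10, 11], [0, 1, 4, 5, 6, 7, 10], [0, 1, 4, 5, 6, 7, 8, 10], [9], [8, 9], [0, 9, 10], [0, 8, 9, 10], [4, 9, 11], [4, 8, 9, 11], [0, 4,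 9, 10, 11], [0, 4, 8, 9, 10, 11], [7, 9], [7, 8, 9], [0, 7, 9, 10], [0, 7, 8, 9, 10], [4, 7, 9, 11], [4, 7, 8, 9, 11], [0, 4, 7, 9, 10, 11], [0, 4, 7, 8, 9, 10, 11], [9, 11], [8, 9, 11], [0, 9, 10, 11], [0, 8, 9, 10, 11], [4, 9], [4, 8, 9], [0, 4, 9, 10], [0, 4, 8, 9, 10], [7, 9, 11], [7, 8, 9, 11], [0, 7, 9, 10, 11], [0, 7, 8, 9, 10, 11], [4, 7, 9], [4, 7, 8, 9], [0, 4, 7, 9, 10], [0, 4, 7, 8, 9, 10], [6, 9], [6, 8, 9], [0, 6, 9, 10], [0, 6, 8, 9, 10], [4, 6, 9, 11], [4, 6, 8, 9, 11], [0, 4, 6, 9, 10, 11], [0, 4, 6, 8, 9, 10, 11], [6, 7, 9], [6, 7, 8, 9], [0, 6, 7, 9, 10], [0, 6, 7, 8, 9, 10], [4, 6, 7, 9, 11], [4, 6, 7, 8, 9, 11], [0, 4, 6, 7, 9, 10, 11], [0, 4, 6, 7, 8, 9, 10, 11], [6, 9, 11], [6, 8, 9,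 11], [0, 6, 9, 10, 11], [0, 6, 8, 9, 10, 11], [4, 6, 9], [4, 6, 8, 9], [0, 4, 6, 9, 10], [0, 4, 6, 8, 9, 10], [6, 7, 9, 11], [6, 7, 8, 9, 11], [0, 6, 7, 9, 10, 11], [0, 6, 7, 8, 9, 10, 11], [4, 6, 7, 9], [4, 6, 7, 8, 9], [0, 4, 6, 7, 9, 10], [0, 4, 6, 7, 8, 9, 10], [1, 9], [1, 8, 9], [0, 1, 9, 10, 11], [0, 1, 8, 9, 10, 11], [1, 4, 9, 11], [1, 4, 8, 9, 11], [0, 1, 4, 9, 10], [0, 1, 4, 8, 9, 10], [1, 7, 9], [1, 7, 8, 9], [0, 1, 7, 9, 10, 11], [0, 1, 7, 8, 9, 10, 11], [1, 4, 7, 9, 11], [1, 4, 7, 8, 9, 11], [0, 1, 4, 7, 9, 10], [0, 1, 4, 7, 8, 9, 10], [1, 9, 11], [1, 8, 9, 11], [0, 1, 9, 10], [0, 1, 8, 9, 10], [1, 4, 9], [1, 4, 8, 9], [0, 1, 4, 9, 10, 11], [0, 1, 4, 8, 9, 10, 11], [1, 7, 9, 11], [1, 7, 8, 9, 11],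 [0, 1, 7, 9, 10], [0, 1, 7, 8, 9, 10], [1, 4, 7, 9], [1, 4, 7, 8, 9], [0, 1, 4, 7, 9, 10, 11], [0, 1, 4, 7, 8, 9, 10, 11], [1, 6, 9], [1, 6, 8, 9], [0, 1, 6, 9, 10, 11], [0, 1, 6, 8, 9, 10, 11], [1, 4, 6, 9, 11], [1, 4, 6, 8, 9, 11], [0, 1, 4, 6, 9, 10], [0, 1, 4, 6, 8, 9, 10], [1, 6, 7, 9], [1, 6, 7, 8, 9], [0, 1, 6, 7, 9, 10, 11], [0, 1, 6, 7, 8, 9, 10, 11], [1, 4, 6, 7, 9, 11], [1, 4, 6, 7, 8, 9, 11], [0, 1, 4, 6, 7, 9, 10], [0, 1, 4, 6, 7, 8, 9, 10], [1, 6, 9, 11], [1, 6, 8, 9, 11], [0, 1, 6, 9, 10], [0, 1, 6, 8, 9, 10], [1, 4, 6, 9], [1, 4, 6, 8, 9], [0, 1, 4, 6, 9, 10, 11], [0, 1, 4, 6, 8, 9, 10, 11], [1, 6, 7, 9, 11], [1, 6, 7, 8, 9, 11], [0, 1, 6, 7, 9, 10], [0, 1, 6, 7, 8, 9, 10], [1, 4, 6, 7, 9],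 [1, 4, 6, 7, 8, 9], [0, 1, 4, 6, 7, 9, 10, 11], [0, 1, 4, 6, 7, 8, 9, 10, 11], [5, 9], [5, 8, 9], [0, 5, 9, 10], [0, 5, 8, 9, 10], [4, 5, 9, 11], [4, 5, 8, 9, 11], [0, 4, 5, 9, 10, 11], [0, 4, 5, 8, 9, 10, 11], [5, 7, 9], [5, 7, 8, 9], [0, 5, 7, 9, 10], [0, 5, 7, 8, 9, 10], [4, 5, 7, 9, 11], [4, 5, 7, 8, 9, 11], [0, 4, 5, 7, 9, 10, 11], [0, 4, 5, 7, 8, 9, 10, 11], [5, 9, 11], [5, 8, 9, 11], [0, 5, 9, 10, 11], [0, 5, 8, 9, 10, 11], [4, 5, 9], [4, 5, 8, 9], [0, 4, 5, 9, 10], [0, 4, 5, 8, 9, 10], [5, 7, 9, 11], [5, 7, 8, 9, 11], [0, 5, 7, 9, 10, 11], [0, 5, 7, 8, 9, 10, 11], [4, 5, 7, 9], [4, 5, 7, 8, 9], [0, 4, 5, 7, 9, 10], [0, 4, 5, 7, 8, 9, 10], [5, 6, 9], [5, 6, 8, 9], [0, 5, 6, 9, 10, 11], [0, 5, 6, 8,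 9, 10, 11], [4, 5, 6, 9, 11], [4, 5, 6, 8, 9, 11], [0, 4, 5, 6, 9, 10], [0, 4, 5, 6, 8, 9, 10], [5, 6, 7, 9], [5, 6, 7, 8, 9], [0, 5, 6, 7, 9, 10, 11], [0, 5, 6, 7, 8, 9, 10, 11], [4, 5, 6, 7, 9, 11], [4, 5, 6, 7, 8, 9, 11], [0, 4, 5, 6, 7, 9, 10], [0, 4, 5, 6, 7, 8, 9, 10], [5, 6, 9, 11], [5, 6, 8, 9, 11], [0, 5, 6, 9, 10], [0, 5, 6, 8, 9, 10], [4, 5, 6, 9], [4, 5, 6, 8, 9], [0, 4, 5, 6, 9, 10, 11], [0, 4, 5, 6, 8, 9, 10, 11], [5, 6, 7, 9, 11], [5, 6, 7, 8, 9, 11], [0, 5, 6, 7, 9, 10], [0, 5, 6, 7, 8, 9, 10], [4, 5, 6, 7, 9], [4, 5, 6, 7, 8, 9], [0, 4, 5, 6, 7, 9, 10, 11], [0, 4, 5, 6, 7, 8, 9, 10, 11], [1, 5, 9], [1, 5, 8, 9], [0, 1, 5, 9, 10, 11], [0, 1, 5, 8, 9, 10, 11], [1, 4, 5, 9, 11], [1, 4, 5, 8,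 9, 11], [0, 1, 4, 5, 9, 10], [0, 1, 4, 5, 8, 9, 10], [1, 5, 7, 9], [1, 5, 7, 8, 9], [0, 1, 5, 7, 9, 10, 11], [0, 1, 5, 7, 8, 9, 10, 11], [1, 4, 5, 7, 9, 11], [1, 4, 5, 7, 8, 9, 11], [0, 1, 4, 5, 7, 9, 10], [0, 1, 4, 5, 7, 8, 9, 10], [1, 5, 9, 11], [1, 5, 8, 9, 11], [0, 1, 5, 9, 10], [0, 1, 5, 8, 9, 10], [1, 4, 5, 9], [1, 4, 5, 8, 9], [0, 1, 4, 5, 9, 10, 11], [0, 1, 4, 5, 8, 9, 10, 11], [1, 5, 7, 9, 11], [1, 5, 7, 8, 9, 11], [0, 1, 5, 7, 9, 10], [0, 1, 5, 7, 8, 9, 10], [1, 4, 5, 7, 9], [1, 4, 5, 7, 8, 9], [0, 1, 4, 5, 7, 9, 10, 11], [0, 1, 4, 5, 7, 8, 9, 10, 11], [1, 5, 6, 9], [1, 5, 6, 8, 9], [0, 1, 5, 6, 9, 10], [0, 1, 5, 6, 8, 9, 10], [1, 4, 5, 6, 9, 11], [1, 4, 5, 6, 8, 9, 11], [0, 1, 4, 5, 6, 9, 10, 11],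 [0, 1, 4, 5, 6, 8, 9, 10, 11], [1, 5, 6, 7, 9], [1, 5, 6, 7, 8, 9], [0, 1, 5, 6, 7, 9, 10], [0, 1, 5, 6, 7, 8, 9, 10], [1, 4, 5, 6, 7, 9, 11], [1, 4, 5, 6, 7, 8, 9, 11], [0, 1, 4, 5, 6, 7, 9, 10, 11], [0, 1, 4, 5, 6, 7, 8, 9, 10, 11], [1, 5, 6, 9, 11], [1, 5, 6, 8, 9, 11], [0, 1, 5, 6, 9, 10, 11], [0, 1, 5, 6, 8, 9, 10, 11], [1, 4, 5, 6, 9], [1, 4, 5, 6, 8, 9], [0, 1, 4, 5, 6, 9, 10], [0, 1, 4, 5, 6, 8, 9, 10], [1, 5, 6, 7, 9, 11], [1, 5, 6, 7, 8, 9, 11], [0, 1, 5, 6, 7, 9, 10, 11], [0, 1, 5, 6, 7, 8, 9, 10, 11], [1, 4, 5, 6, 7, 9], [1, 4, 5, 6, 7, 8, 9], [0, 1, 4, 5, 6, 7, 9, 10], [0, 1, 4, 5, 6, 7, 8, 9, 10], [9, 10], [8, 9, 10], [0, 9], [0, 8, 9], [4, 9, 10, 11], [4, 8, 9, 10, 11], [0, 4, 9, 11], [0, 4,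 8, 9, 11], [7, 9, 10], [7, 8, 9, 10], [0, 7, 9], [0, 7, 8, 9], [4, 7, 9, 10, 11], [4, 7, 8, 9, 10, 11], [0, 4, 7, 9, 11], [0, 4, 7, 8, 9, 11], [9, 10, 11], [8, 9, 10, 11], [0, 9, 11], [0, 8, 9, 11], [4, 9, 10], [4, 8, 9, 10], [0, 4, 9], [0, 4, 8, 9], [7, 9, 10, 11], [7, 8, 9, 10, 11], [0, 7, 9, 11], [0, 7, 8, 9, 11], [4, 7, 9, 10], [4, 7, 8, 9, 10], [0, 4, 7, 9], [0, 4, 7, 8, 9], [6, 9, 10], [6, 8, 9, 10], [0, 6, 9], [0, 6, 8, 9], [4, 6, 9, 10, 11], [4, 6, 8, 9, 10, 11], [0, 4, 6, 9, 11], [0, 4, 6, 8, 9, 11], [6, 7, 9, 10], [6, 7, 8, 9, 10], [0, 6, 7, 9], [0, 6, 7, 8, 9], [4, 6, 7, 9, 10, 11], [4, 6, 7, 8, 9, 10, 11], [0, 4, 6, 7, 9, 11], [0, 4, 6, 7, 8, 9, 11], [6, 9, 10, 11], [6, 8, 9, 10, 11], [0, 6, 9,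 11], [0, 6, 8, 9, 11], [4, 6, 9, 10], [4, 6, 8, 9, 10], [0, 4, 6, 9], [0, 4, 6, 8, 9], [6, 7, 9, 10, 11], [6, 7, 8, 9, 10, 11], [0, 6, 7, 9, 11], [0, 6, 7, 8, 9, 11], [4, 6, 7, 9, 10], [4, 6, 7, 8, 9, 10], [0, 4, 6, 7, 9], [0, 4, 6, 7, 8, 9], [1, 9, 10], [1, 8, 9, 10], [0, 1, 9, 11], [0, 1, 8, 9, 11], [1, 4, 9, 10, 11], [1, 4, 8, 9, 10, 11], [0, 1, 4, 9], [0, 1, 4, 8, 9], [1, 7, 9, 10], [1, 7, 8, 9, 10], [0, 1, 7, 9, 11], [0, 1, 7, 8, 9, 11], [1, 4, 7, 9, 10, 11], [1, 4, 7, 8, 9, 10, 11], [0, 1, 4, 7, 9], [0, 1, 4, 7, 8, 9], [1, 9, 10, 11], [1, 8, 9, 10, 11], [0, 1, 9], [0, 1, 8, 9], [1, 4, 9, 10], [1, 4, 8, 9, 10], [0, 1, 4, 9, 11], [0, 1, 4, 8, 9, 11], [1, 7, 9, 10, 11], [1, 7, 8, 9, 10, 11], [0, 1, 7, 9],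 [0, 1, 7, 8, 9], [1, 4, 7, 9, 10], [1, 4, 7, 8, 9, 10], [0, 1, 4, 7, 9, 11], [0, 1, 4, 7, 8, 9, 11], [1, 6, 9, 10], [1, 6, 8, 9, 10], [0, 1, 6, 9, 11], [0, 1, 6, 8, 9, 11], [1, 4, 6, 9, 10, 11], [1, 4, 6, 8, 9, 10, 11], [0, 1, 4, 6, 9], [0, 1, 4, 6, 8, 9], [1, 6, 7, 9, 10], [1, 6, 7, 8, 9, 10], [0, 1, 6, 7, 9, 11], [0, 1, 6, 7, 8, 9, 11], [1, 4, 6, 7, 9, 10, 11], [1, 4, 6, 7, 8, 9, 10, 11], [0, 1, 4, 6, 7, 9], [0, 1, 4, 6, 7, 8, 9], [1, 6, 9, 10, 11], [1, 6, 8, 9, 10, 11], [0, 1, 6, 9], [0, 1, 6, 8, 9], [1, 4, 6, 9, 10], [1, 4, 6, 8, 9, 10], [0, 1, 4, 6, 9, 11], [0, 1, 4, 6, 8, 9, 11], [1, 6, 7, 9, 10, 11], [1, 6, 7, 8, 9, 10, 11], [0, 1, 6, 7, 9], [0, 1, 6, 7, 8, 9], [1, 4, 6, 7, 9, 10], [1, 4, 6, 7, 8, 9,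 10], [0, 1, 4, 6, 7, 9, 11], [0, 1, 4, 6, 7, 8, 9, 11], [5, 9, 10], [5, 8, 9, 10], [0, 5, 9], [0, 5, 8, 9], [4, 5, 9, 10, 11], [4, 5, 8, 9, 10, 11], [0, 4, 5, 9, 11], [0, 4, 5, 8, 9, 11], [5, 7, 9, 10], [5, 7, 8, 9, 10], [0, 5, 7, 9], [0, 5, 7, 8, 9], [4, 5, 7, 9, 10, 11], [4, 5, 7, 8, 9, 10, 11], [0, 4, 5, 7, 9, 11], [0, 4, 5, 7, 8, 9, 11], [5, 9, 10, 11], [5, 8, 9, 10, 11], [0, 5, 9, 11], [0, 5, 8, 9, 11], [4, 5, 9, 10], [4, 5, 8, 9, 10], [0, 4, 5, 9], [0, 4, 5, 8, 9], [5, 7, 9, 10, 11], [5, 7, 8, 9, 10, 11], [0, 5, 7, 9, 11], [0, 5, 7, 8, 9, 11], [4, 5, 7, 9, 10], [4, 5, 7, 8, 9, 10], [0, 4, 5, 7, 9], [0, 4, 5, 7, 8, 9], [5, 6, 9, 10], [5, 6, 8, 9, 10], [0, 5, 6, 9, 11], [0, 5, 6, 8, 9, 11], [4, 5, 6, 9,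 10, 11], [4, 5, 6, 8, 9, 10, 11], [0, 4, 5, 6, 9], [0, 4, 5, 6, 8, 9], [5, 6, 7, 9, 10], [5, 6, 7, 8, 9, 10], [0, 5, 6, 7, 9, 11], [0, 5, 6, 7, 8, 9, 11], [4, 5, 6, 7, 9, 10, 11], [4, 5, 6, 7, 8, 9, 10, 11], [0, 4, 5, 6, 7, 9], [0, 4, 5, 6, 7, 8, 9], [5, 6, 9, 10, 11], [5, 6, 8, 9, 10, 11], [0, 5, 6, 9], [0, 5, 6, 8, 9], [4, 5, 6, 9, 10], [4, 5, 6, 8, 9, 10], [0, 4, 5, 6, 9, 11], [0, 4, 5, 6, 8, 9, 11], [5, 6, 7, 9, 10, 11], [5, 6, 7, 8, 9, 10, 11], [0, 5, 6, 7, 9], [0, 5, 6, 7, 8, 9], [4, 5, 6, 7, 9, 10], [4, 5, 6, 7, 8, 9, 10], [0, 4, 5, 6, 7, 9, 11], [0, 4, 5, 6, 7, 8, 9, 11], [1, 5, 9, 10], [1, 5, 8, 9, 10], [0, 1, 5, 9, 11], [0, 1, 5, 8, 9, 11], [1, 4, 5, 9, 10, 11], [1, 4, 5, 8, 9, 10, 11], [0, 1, 4,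 5, 9], [0, 1, 4, 5, 8, 9], [1, 5, 7, 9, 10], [1, 5, 7, 8, 9, 10], [0, 1, 5, 7, 9, 11], [0, 1, 5, 7, 8, 9, 11], [1, 4, 5, 7, 9, 10, 11], [1, 4, 5, 7, 8, 9, 10, 11], [0, 1, 4, 5, 7, 9], [0, 1, 4, 5, 7, 8, 9], [1, 5, 9, 10, 11], [1, 5, 8, 9, 10, 11], [0, 1, 5, 9], [0, 1, 5, 8, 9], [1, 4, 5, 9, 10], [1, 4, 5, 8, 9, 10], [0, 1, 4, 5, 9, 11], [0, 1, 4, 5, 8, 9, 11], [1, 5, 7, 9, 10, 11], [1, 5, 7, 8, 9, 10, 11], [0, 1, 5, 7, 9], [0, 1, 5, 7, 8, 9], [1, 4, 5, 7, 9, 10], [1, 4, 5, 7, 8, 9, 10], [0, 1, 4, 5, 7, 9, 11], [0, 1, 4, 5, 7, 8, 9, 11], [1, 5, 6, 9, 10], [1, 5, 6, 8, 9, 10], [0, 1, 5, 6, 9], [0, 1, 5, 6, 8, 9], [1, 4, 5, 6, 9, 10, 11], [1, 4, 5, 6, 8, 9, 10, 11], [0, 1, 4, 5, 6, 9, 11], [0, 1, 4, 5, 6, 8,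 9, 11], [1, 5, 6, 7, 9, 10], [1, 5, 6, 7, 8, 9, 10], [0, 1, 5, 6, 7, 9], [0, 1, 5, 6, 7, 8, 9], [1, 4, 5, 6, 7, 9, 10, 11], [1, 4, 5, 6, 7, 8, 9, 10, 11], [0, 1, 4, 5, 6, 7, 9, 11], [0, 1, 4, 5, 6, 7, 8, 9, 11], [1, 5, 6, 9, 10, 11], [1, 5, 6, 8, 9, 10, 11], [0, 1, 5, 6, 9, 11], [0, 1, 5, 6, 8, 9, 11], [1, 4, 5, 6, 9, 10], [1, 4, 5, 6, 8, 9, 10], [0, 1, 4, 5, 6, 9], [0, 1, 4, 5, 6, 8, 9], [1, 5, 6, 7, 9, 10, 11], [1, 5, 6, 7, 8, 9, 10, 11], [0, 1, 5, 6, 7, 9, 11], [0, 1, 5, 6, 7, 8, 9, 11], [1, 4, 5, 6, 7, 9, 10], [1, 4, 5, 6, 7, 8, 9, 10], [0, 1, 4, 5, 6, 7, 9], [0, 1, 4, 5, 6, 7, 8, 9], [3], [3, 8], [0, 3], [0, 3, 8], [3, 4, 8], [3, 4], [0, 3, 4, 8], [0, 3, 4], [3, 7], [3, 7, 8], [0, 3, 7], [0, 3, 7, 8],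 [3, 4, 7, 8], [3, 4, 7], [0, 3, 4, 7, 8], [0, 3, 4, 7], [3, 11], [3, 8, 11], [0, 3, 11], [0, 3, 8, 11], [3, 4, 8, 11], [3, 4, 11], [0, 3, 4, 8, 11], [0, 3, 4, 11], [3, 7, 11], [3, 7, 8, 11], [0, 3, 7, 11], [0, 3, 7, 8, 11], [3, 4, 7, 8, 11], [3, 4, 7, 11], [0, 3, 4, 7, 8, 11], [0, 3, 4, 7, 11], [3, 6], [3, 6, 8], [0, 3, 6], [0, 3, 6, 8], [3, 4, 6, 8], [3, 4, 6], [0, 3, 4, 6, 8], [0, 3, 4, 6], [3, 6, 7], [3, 6, 7, 8], [0, 3, 6, 7], [0, 3, 6, 7, 8], [3, 4, 6, 7, 8], [3, 4, 6, 7], [0, 3, 4, 6, 7, 8], [0, 3, 4, 6, 7], [3, 6, 11], [3, 6, 8, 11], [0, 3, 6, 11], [0, 3, 6, 8, 11], [3, 4, 6, 8, 11], [3, 4, 6, 11], [0, 3, 4, 6, 8, 11], [0, 3, 4, 6, 11], [3, 6, 7, 11], [3, 6, 7, 8, 11], [0, 3, 6, 7, 11], [0, 3, 6, 7,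 8, 11], [3, 4, 6, 7, 8, 11], [3, 4, 6, 7, 11], [0, 3, 4, 6, 7, 8, 11], [0, 3, 4, 6, 7, 11], [1, 3], [1, 3, 8], [0, 1, 3], [0, 1, 3, 8], [1, 3, 4, 8], [1, 3, 4], [0, 1, 3, 4, 8], [0, 1, 3, 4], [1, 3, 7], [1, 3, 7, 8], [0, 1, 3, 7], [0, 1, 3, 7, 8], [1, 3, 4, 7, 8], [1, 3, 4, 7], [0, 1, 3, 4, 7, 8], [0, 1, 3, 4, 7], [1, 3, 11], [1, 3, 8, 11], [0, 1, 3, 11], [0, 1, 3, 8, 11], [1, 3, 4, 8, 11], [1, 3, 4, 11], [0, 1, 3, 4, 8, 11], [0, 1, 3, 4, 11], [1, 3, 7, 11], [1, 3, 7, 8, 11], [0, 1, 3, 7, 11], [0, 1, 3, 7, 8, 11], [1, 3, 4, 7, 8, 11], [1, 3, 4, 7, 11], [0, 1, 3, 4, 7, 8, 11], [0, 1, 3, 4, 7, 11], [1, 3, 6], [1, 3, 6, 8], [0, 1, 3, 6], [0, 1, 3, 6, 8], [1, 3, 4, 6, 8], [1, 3, 4, 6], [0, 1, 3, 4, 6, 8], [0,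 1, 3, 4, 6], [1, 3, 6, 7], [1, 3, 6, 7, 8], [0, 1, 3, 6, 7], [0, 1, 3, 6, 7, 8], [1, 3, 4, 6, 7, 8], [1, 3, 4, 6, 7], [0, 1, 3, 4, 6, 7, 8], [0, 1, 3, 4, 6, 7], [1, 3, 6, 11], [1, 3, 6, 8, 11], [0, 1, 3, 6, 11], [0, 1, 3, 6, 8, 11], [1, 3, 4, 6, 8, 11], [1, 3, 4, 6, 11], [0, 1, 3, 4, 6, 8, 11], [0, 1, 3, 4, 6, 11], [1, 3, 6, 7, 11], [1, 3, 6, 7, 8, 11], [0, 1, 3, 6, 7, 11], [0, 1, 3, 6, 7, 8, 11], [1, 3, 4, 6, 7, 8, 11], [1, 3, 4, 6, 7, 11], [0, 1, 3, 4, 6, 7, 8, 11], [0, 1, 3, 4, 6, 7, 11], [3, 5], [3, 5, 8], [0, 3, 5], [0, 3, 5, 8], [3, 4, 5, 8], [3, 4, 5], [0, 3, 4, 5, 8], [0, 3, 4, 5], [3, 5, 7], [3, 5, 7, 8], [0, 3, 5, 7], [0, 3, 5, 7, 8], [3, 4, 5, 7, 8], [3, 4, 5, 7], [0, 3, 4, 5, 7, 8], [0, 3, 4, 5,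 7], [3, 5, 11], [3, 5, 8, 11], [0, 3, 5, 11], [0, 3, 5, 8, 11], [3, 4, 5, 8, 11], [3, 4, 5, 11], [0, 3, 4, 5, 8, 11], [0, 3, 4, 5, 11], [3, 5, 7, 11], [3, 5, 7, 8, 11], [0, 3, 5, 7, 11], [0, 3, 5, 7, 8, 11], [3, 4, 5, 7, 8, 11], [3, 4, 5, 7, 11], [0, 3, 4, 5, 7, 8, 11], [0, 3, 4, 5, 7, 11], [3, 5, 6], [3, 5, 6, 8], [0, 3, 5, 6, 11], [0, 3, 5, 6, 8, 11], [3, 4, 5, 6, 8], [3, 4, 5, 6], [0, 3, 4, 5, 6, 8, 11], [0, 3, 4, 5, 6, 11], [3, 5, 6, 7], [3, 5, 6, 7, 8], [0, 3, 5, 6, 7, 11], [0, 3, 5, 6, 7, 8, 11], [3, 4, 5, 6, 7, 8], [3, 4, 5, 6, 7], [0, 3, 4, 5, 6, 7, 8, 11], [0, 3, 4, 5, 6, 7, 11], [3, 5, 6, 11], [3, 5, 6, 8, 11], [0, 3, 5, 6], [0, 3, 5, 6, 8], [3, 4, 5, 6, 8, 11], [3, 4, 5, 6, 11], [0, 3, 4, 5, 6,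 8], [0, 3, 4, 5, 6], [3, 5, 6, 7, 11], [3, 5, 6, 7, 8, 11], [0, 3, 5, 6, 7], [0, 3, 5, 6, 7, 8], [3, 4, 5, 6, 7, 8, 11], [3, 4, 5, 6, 7, 11], [0, 3, 4, 5, 6, 7, 8], [0, 3, 4, 5, 6, 7], [1, 3, 5], [1, 3, 5, 8], [0, 1, 3, 5, 11], [0, 1, 3, 5, 8, 11], [1, 3, 4, 5, 8], [1, 3, 4, 5], [0, 1, 3, 4, 5, 8, 11], [0, 1, 3, 4, 5, 11], [1, 3, 5, 7], [1, 3, 5, 7, 8], [0, 1, 3, 5, 7, 11], [0, 1, 3, 5, 7, 8, 11], [1, 3, 4, 5, 7, 8], [1, 3, 4, 5, 7], [0, 1, 3, 4, 5, 7, 8, 11], [0, 1, 3, 4, 5, 7, 11], [1, 3, 5, 11], [1, 3, 5, 8, 11], [0, 1, 3, 5], [0, 1, 3, 5, 8], [1, 3, 4, 5, 8, 11], [1, 3, 4, 5, 11], [0, 1, 3, 4, 5, 8], [0, 1, 3, 4, 5], [1, 3, 5, 7, 11], [1, 3, 5, 7, 8, 11], [0, 1, 3, 5, 7], [0, 1, 3, 5, 7, 8], [1, 3, 4,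 5, 7, 8, 11], [1, 3, 4, 5, 7, 11], [0, 1, 3, 4, 5, 7, 8], [0, 1, 3, 4, 5, 7], [1, 3, 5, 6], [1, 3, 5, 6, 8], [0, 1, 3, 5, 6], [0, 1, 3, 5, 6, 8], [1, 3, 4, 5, 6, 8], [1, 3, 4, 5, 6], [0, 1, 3, 4, 5, 6, 8], [0, 1, 3, 4, 5, 6], [1, 3, 5, 6, 7], [1, 3, 5, 6, 7, 8], [0, 1, 3, 5, 6, 7], [0, 1, 3, 5, 6, 7, 8], [1, 3, 4, 5, 6, 7, 8], [1, 3, 4, 5, 6, 7], [0, 1, 3, 4, 5, 6, 7, 8], [0, 1, 3, 4, 5, 6, 7], [1, 3, 5, 6, 11], [1, 3, 5, 6, 8, 11], [0, 1, 3, 5, 6, 11], [0, 1, 3, 5, 6, 8, 11], [1, 3, 4, 5, 6, 8, 11], [1, 3, 4, 5, 6, 11], [0, 1, 3, 4, 5, 6, 8, 11], [0, 1, 3, 4, 5, 6, 11], [1, 3, 5, 6, 7, 11], [1, 3, 5, 6, 7, 8, 11], [0, 1, 3, 5, 6, 7, 11], [0, 1, 3, 5, 6, 7, 8, 11], [1, 3, 4, 5, 6, 7, 8, 11], [1, 3, 4, 5, 6,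 7, 11], [0, 1, 3, 4, 5, 6, 7, 8, 11], [0, 1, 3, 4, 5, 6, 7, 11], [3, 10], [3, 8, 10], [0, 3, 10], [0, 3, 8, 10], [3, 4, 8, 10], [3, 4, 10], [0, 3, 4, 8, 10], [0, 3, 4, 10], [3, 7, 10], [3, 7, 8, 10], [0, 3, 7, 10], [0, 3, 7, 8, 10], [3, 4, 7, 8, 10], [3, 4, 7, 10], [0, 3, 4, 7, 8, 10], [0, 3, 4, 7, 10], [3, 10, 11], [3, 8, 10, 11], [0, 3, 10, 11], [0, 3, 8, 10, 11], [3, 4, 8, 10, 11], [3, 4, 10, 11], [0, 3, 4, 8, 10, 11], [0, 3, 4, 10, 11], [3, 7, 10, 11], [3, 7, 8, 10, 11], [0, 3, 7, 10, 11], [0, 3, 7, 8, 10, 11], [3, 4, 7, 8, 10, 11], [3, 4, 7, 10, 11], [0, 3, 4, 7, 8, 10, 11], [0, 3, 4, 7, 10, 11], [3, 6, 10], [3, 6, 8, 10], [0, 3, 6, 10], [0, 3, 6, 8, 10], [3, 4, 6, 8, 10], [3, 4, 6, 10], [0, 3, 4, 6,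 8, 10], [0, 3, 4, 6, 10], [3, 6, 7, 10], [3, 6, 7, 8, 10], [0, 3, 6, 7, 10], [0, 3, 6, 7, 8, 10], [3, 4, 6, 7, 8, 10], [3, 4, 6, 7, 10], [0, 3, 4, 6, 7, 8, 10], [0, 3, 4, 6, 7, 10], [3, 6, 10, 11], [3, 6, 8, 10, 11], [0, 3, 6, 10, 11], [0, 3, 6, 8, 10, 11], [3, 4, 6, 8, 10, 11], [3, 4, 6, 10, 11], [0, 3, 4, 6, 8, 10, 11], [0, 3, 4, 6, 10, 11], [3, 6, 7, 10, 11], [3, 6, 7, 8, 10, 11], [0, 3, 6, 7, 10, 11], [0, 3, 6, 7, 8, 10, 11], [3, 4, 6, 7, 8, 10, 11], [3, 4, 6, 7, 10, 11], [0, 3, 4, 6, 7, 8, 10, 11], [0, 3, 4, 6, 7, 10, 11], [1, 3, 10], [1, 3, 8, 10], [0, 1, 3, 10], [0, 1, 3, 8, 10], [1, 3, 4, 8, 10], [1, 3, 4, 10], [0, 1, 3, 4, 8, 10], [0, 1, 3, 4, 10], [1, 3, 7, 10], [1, 3, 7, 8, 10], [0, 1, 3, 7, 10],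 [0, 1, 3, 7, 8, 10], [1, 3, 4, 7, 8, 10], [1, 3, 4, 7, 10], [0, 1, 3, 4, 7, 8, 10], [0, 1, 3, 4, 7, 10], [1, 3, 10, 11], [1, 3, 8, 10, 11], [0, 1, 3, 10, 11], [0, 1, 3, 8, 10, 11], [1, 3, 4, 8, 10, 11], [1, 3, 4, 10, 11], [0, 1, 3, 4, 8, 10, 11], [0, 1, 3, 4, 10, 11], [1, 3, 7, 10, 11], [1, 3, 7, 8, 10, 11], [0, 1, 3, 7, 10, 11], [0, 1, 3, 7, 8, 10, 11], [1, 3, 4, 7, 8, 10, 11], [1, 3, 4, 7, 10, 11], [0, 1, 3, 4, 7, 8, 10, 11], [0, 1, 3, 4, 7, 10, 11], [1, 3, 6, 10], [1, 3, 6, 8, 10], [0, 1, 3, 6, 10], [0, 1, 3, 6, 8, 10], [1, 3, 4, 6, 8, 10], [1, 3, 4, 6, 10], [0, 1, 3, 4, 6, 8, 10], [0, 1, 3, 4, 6, 10], [1, 3, 6, 7, 10], [1, 3, 6, 7, 8, 10], [0, 1, 3, 6, 7, 10], [0, 1, 3, 6, 7, 8, 10], [1, 3, 4, 6, 7, 8,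 10], [1, 3, 4, 6, 7, 10], [0, 1, 3, 4, 6, 7, 8, 10], [0, 1, 3, 4, 6, 7, 10], [1, 3, 6, 10, 11], [1, 3, 6, 8, 10, 11], [0, 1, 3, 6, 10, 11], [0, 1, 3, 6, 8, 10, 11], [1, 3, 4, 6, 8, 10, 11], [1, 3, 4, 6, 10, 11], [0, 1, 3, 4, 6, 8, 10, 11], [0, 1, 3, 4, 6, 10, 11], [1, 3, 6, 7, 10, 11], [1, 3, 6, 7, 8, 10, 11], [0, 1, 3, 6, 7, 10, 11], [0, 1, 3, 6, 7, 8, 10, 11], [1, 3, 4, 6, 7, 8, 10, 11], [1, 3, 4, 6, 7, 10, 11], [0, 1, 3, 4, 6, 7, 8, 10, 11], [0, 1, 3, 4, 6, 7, 10, 11], [3, 5, 10], [3, 5, 8, 10], [0, 3, 5, 10], [0, 3, 5, 8, 10], [3, 4, 5, 8, 10], [3, 4, 5, 10], [0, 3, 4, 5, 8, 10], [0, 3, 4, 5, 10], [3, 5, 7, 10], [3, 5, 7, 8, 10], [0, 3, 5, 7, 10], [0, 3, 5, 7, 8, 10], [3, 4, 5, 7, 8, 10], [3, 4, 5, 7,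 10], [0, 3, 4, 5, 7, 8, 10], [0, 3, 4, 5, 7, 10], [3, 5, 10, 11], [3, 5, 8, 10, 11], [0, 3, 5, 10, 11], [0, 3, 5, 8, 10, 11], [3, 4, 5, 8, 10, 11], [3, 4, 5, 10, 11], [0, 3, 4, 5, 8, 10, 11], [0, 3, 4, 5, 10, 11], [3, 5, 7, 10, 11], [3, 5, 7, 8, 10, 11], [0, 3, 5, 7, 10, 11], [0, 3, 5, 7, 8, 10, 11], [3, 4, 5, 7, 8, 10, 11], [3, 4, 5, 7, 10, 11], [0, 3, 4, 5, 7, 8, 10, 11], [0, 3, 4, 5, 7, 10, 11], [3, 5, 6, 10], [3, 5, 6, 8, 10], [0, 3, 5, 6, 10, 11], [0, 3, 5, 6, 8, 10, 11], [3, 4, 5, 6, 8, 10], [3, 4, 5, 6, 10], [0, 3, 4, 5, 6, 8, 10, 11], [0, 3, 4, 5, 6, 10, 11], [3, 5, 6, 7, 10], [3, 5, 6, 7, 8, 10], [0, 3, 5, 6, 7, 10, 11], [0, 3, 5, 6, 7, 8, 10, 11], [3, 4, 5, 6, 7, 8, 10], [3, 4, 5, 6, 7, 10], [0,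 3, 4, 5, 6, 7, 8, 10, 11], [0, 3, 4, 5, 6, 7, 10, 11], [3, 5, 6, 10, 11], [3, 5, 6, 8, 10, 11], [0, 3, 5, 6, 10], [0, 3, 5, 6, 8, 10], [3, 4, 5, 6, 8, 10, 11], [3, 4, 5, 6, 10, 11], [0, 3, 4, 5, 6, 8, 10], [0, 3, 4, 5, 6, 10], [3, 5, 6, 7, 10, 11], [3, 5, 6, 7, 8, 10, 11], [0, 3, 5, 6, 7, 10], [0, 3, 5, 6, 7, 8, 10], [3, 4, 5, 6, 7, 8, 10, 11], [3, 4, 5, 6, 7, 10, 11], [0, 3, 4, 5, 6, 7, 8, 10], [0, 3, 4, 5, 6, 7, 10], [1, 3, 5, 10], [1, 3, 5, 8, 10], [0, 1, 3, 5, 10, 11], [0, 1, 3, 5, 8, 10, 11], [1, 3, 4, 5, 8, 10], [1, 3, 4, 5, 10], [0, 1, 3, 4, 5, 8, 10, 11], [0, 1, 3, 4, 5, 10, 11], [1, 3, 5, 7, 10], [1, 3, 5, 7, 8, 10], [0, 1, 3, 5, 7, 10, 11], [0, 1, 3, 5, 7, 8, 10, 11], [1, 3, 4, 5, 7, 8, 10], [1,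 3, 4, 5, 7, 10], [0, 1, 3, 4, 5, 7, 8, 10, 11], [0, 1, 3, 4, 5, 7, 10, 11], [1, 3, 5, 10, 11], [1, 3, 5, 8, 10, 11], [0, 1, 3, 5, 10], [0, 1, 3, 5, 8, 10], [1, 3, 4, 5, 8, 10, 11], [1, 3, 4, 5, 10, 11], [0, 1, 3, 4, 5, 8, 10], [0, 1, 3, 4, 5, 10], [1, 3, 5, 7, 10, 11], [1, 3, 5, 7, 8, 10, 11], [0, 1, 3, 5, 7, 10], [0, 1, 3, 5, 7, 8, 10], [1, 3, 4, 5, 7, 8, 10, 11], [1, 3, 4, 5, 7, 10, 11], [0, 1, 3, 4, 5, 7, 8, 10], [0, 1, 3, 4, 5, 7, 10], [1, 3, 5, 6, 10], [1, 3, 5, 6, 8, 10], [0, 1, 3, 5, 6, 10], [0, 1, 3, 5, 6, 8, 10], [1, 3, 4, 5, 6, 8, 10], [1, 3, 4, 5, 6, 10], [0, 1, 3, 4, 5, 6, 8, 10], [0, 1, 3, 4, 5, 6, 10], [1, 3, 5, 6, 7, 10], [1, 3, 5, 6, 7, 8, 10], [0, 1, 3, 5, 6, 7, 10], [0, 1, 3, 5, 6, 7, 8,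 10], [1, 3, 4, 5, 6, 7, 8, 10], [1, 3, 4, 5, 6, 7, 10], [0, 1, 3, 4, 5, 6, 7, 8, 10], [0, 1, 3, 4, 5, 6, 7, 10], [1, 3, 5, 6, 10, 11], [1, 3, 5, 6, 8, 10, 11], [0, 1, 3, 5, 6, 10, 11], [0, 1, 3, 5, 6, 8, 10, 11], [1, 3, 4, 5, 6, 8, 10, 11], [1, 3, 4, 5, 6, 10, 11], [0, 1, 3, 4, 5, 6, 8, 10, 11], [0, 1, 3, 4, 5, 6, 10, 11], [1, 3, 5, 6, 7, 10, 11], [1, 3, 5, 6, 7, 8, 10, 11], [0, 1, 3, 5, 6, 7, 10, 11], [0, 1, 3, 5, 6, 7, 8, 10, 11], [1, 3, 4, 5, 6, 7, 8, 10, 11], [1, 3, 4, 5, 6, 7, 10, 11], [0, 1, 3, 4, 5, 6, 7, 8, 10, 11], [0, 1, 3, 4, 5, 6, 7, 10, 11], [3, 9], [3, 8, 9], [0, 3, 9, 10], [0, 3, 8, 9, 10], [3, 4, 8, 9, 11], [3, 4, 9, 11], [0, 3, 4, 8, 9, 10, 11], [0, 3, 4, 9, 10, 11], [3, 7, 9], [3, 7, 8, 9],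 [0, 3, 7, 9, 10], [0, 3, 7, 8, 9, 10], [3, 4, 7, 8, 9, 11], [3, 4, 7, 9, 11], [0, 3, 4, 7, 8, 9, 10, 11], [0, 3, 4, 7, 9, 10, 11], [3, 9, 11], [3, 8, 9, 11], [0, 3, 9, 10, 11], [0, 3, 8, 9, 10, 11], [3, 4, 8, 9], [3, 4, 9], [0, 3, 4, 8, 9, 10], [0, 3, 4, 9, 10], [3, 7, 9, 11], [3, 7, 8, 9, 11], [0, 3, 7, 9, 10, 11], [0, 3, 7, 8, 9, 10, 11], [3, 4, 7, 8, 9], [3, 4, 7, 9], [0, 3, 4, 7, 8, 9, 10], [0, 3, 4, 7, 9, 10], [3, 6, 9], [3, 6, 8, 9], [0, 3, 6, 9, 10], [0, 3, 6, 8, 9, 10], [3, 4, 6, 8, 9, 11], [3, 4, 6, 9, 11], [0, 3, 4, 6, 8, 9, 10, 11], [0, 3, 4, 6, 9, 10, 11], [3, 6, 7, 9], [3, 6, 7, 8, 9], [0, 3, 6, 7, 9, 10], [0, 3, 6, 7, 8, 9, 10], [3, 4, 6, 7, 8, 9, 11], [3, 4, 6, 7, 9, 11], [0, 3, 4, 6, 7, 8,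 9, 10, 11], [0, 3, 4, 6, 7, 9, 10, 11], [3, 6, 9, 11], [3, 6, 8, 9, 11], [0, 3, 6, 9, 10, 11], [0, 3, 6, 8, 9, 10, 11], [3, 4, 6, 8, 9], [3, 4, 6, 9], [0, 3, 4, 6, 8, 9, 10], [0, 3, 4, 6, 9, 10], [3, 6, 7, 9, 11], [3, 6, 7, 8, 9, 11], [0, 3, 6, 7, 9, 10, 11], [0, 3, 6, 7, 8, 9, 10, 11], [3, 4, 6, 7, 8, 9], [3, 4, 6, 7, 9], [0, 3, 4, 6, 7, 8, 9, 10], [0, 3, 4, 6, 7, 9, 10], [1, 3, 9], [1, 3, 8, 9], [0, 1, 3, 9, 10, 11], [0, 1, 3, 8, 9, 10, 11], [1, 3, 4, 8, 9, 11], [1, 3, 4, 9, 11], [0, 1, 3, 4, 8, 9, 10], [0, 1, 3, 4, 9, 10], [1, 3, 7, 9], [1, 3, 7, 8, 9], [0, 1, 3, 7, 9, 10, 11], [0, 1, 3, 7, 8, 9, 10, 11], [1, 3, 4, 7, 8, 9, 11], [1, 3, 4, 7, 9, 11], [0, 1, 3, 4, 7, 8, 9, 10], [0, 1, 3, 4, 7, 9, 10], [1,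 3, 9, 11], [1, 3, 8, 9, 11], [0, 1, 3, 9, 10], [0, 1, 3, 8, 9, 10], [1, 3, 4, 8, 9], [1, 3, 4, 9], [0, 1, 3, 4, 8, 9, 10, 11], [0, 1, 3, 4, 9, 10, 11], [1, 3, 7, 9, 11], [1, 3, 7, 8, 9, 11], [0, 1, 3, 7, 9, 10], [0, 1, 3, 7, 8, 9, 10], [1, 3, 4, 7, 8, 9], [1, 3, 4, 7, 9], [0, 1, 3, 4, 7, 8, 9, 10, 11], [0, 1, 3, 4, 7, 9, 10, 11], [1, 3, 6, 9], [1, 3, 6, 8, 9], [0, 1, 3, 6, 9, 10, 11], [0, 1, 3, 6, 8, 9, 10, 11], [1, 3, 4, 6, 8, 9, 11], [1, 3, 4, 6, 9, 11], [0, 1, 3, 4, 6, 8, 9, 10], [0, 1, 3, 4, 6, 9, 10], [1, 3, 6, 7, 9], [1, 3, 6, 7, 8, 9], [0, 1, 3, 6, 7, 9, 10, 11], [0, 1, 3, 6, 7, 8, 9, 10, 11], [1, 3, 4, 6, 7, 8, 9, 11], [1, 3, 4, 6, 7, 9, 11], [0, 1, 3, 4, 6, 7, 8, 9, 10], [0, 1, 3, 4, 6, 7, 9, 10],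 [1, 3, 6, 9, 11], [1, 3, 6, 8, 9, 11], [0, 1, 3, 6, 9, 10], [0, 1, 3, 6, 8, 9, 10], [1, 3, 4, 6, 8, 9], [1, 3, 4, 6, 9], [0, 1, 3, 4, 6, 8, 9, 10, 11], [0, 1, 3, 4, 6, 9, 10, 11], [1, 3, 6, 7, 9, 11], [1, 3, 6, 7, 8, 9, 11], [0, 1, 3, 6, 7, 9, 10], [0, 1, 3, 6, 7, 8, 9, 10], [1, 3, 4, 6, 7, 8, 9], [1, 3, 4, 6, 7, 9], [0, 1, 3, 4, 6, 7, 8, 9, 10, 11], [0, 1, 3, 4, 6, 7, 9, 10, 11], [3, 5, 9], [3, 5, 8, 9], [0, 3, 5, 9, 10], [0, 3, 5, 8, 9, 10], [3, 4, 5, 8, 9, 11], [3, 4, 5, 9, 11], [0, 3, 4, 5, 8, 9, 10, 11], [0, 3, 4, 5, 9, 10, 11], [3, 5, 7, 9], [3, 5, 7, 8, 9], [0, 3, 5, 7, 9, 10], [0, 3, 5, 7, 8, 9, 10], [3, 4, 5, 7, 8, 9, 11], [3, 4, 5, 7, 9, 11], [0, 3, 4, 5, 7, 8, 9, 10, 11], [0, 3, 4, 5, 7, 9, 10,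 11], [3, 5, 9, 11], [3, 5, 8, 9, 11], [0, 3, 5, 9, 10, 11], [0, 3, 5, 8, 9, 10, 11], [3, 4, 5, 8, 9], [3, 4, 5, 9], [0, 3, 4, 5, 8, 9, 10], [0, 3, 4, 5, 9, 10], [3, 5, 7, 9, 11], [3, 5, 7, 8, 9, 11], [0, 3, 5, 7, 9, 10, 11], [0, 3, 5, 7, 8, 9, 10, 11], [3, 4, 5, 7, 8, 9], [3, 4, 5, 7, 9], [0, 3, 4, 5, 7, 8, 9, 10], [0, 3, 4, 5, 7, 9, 10], [3, 5, 6, 9], [3, 5, 6, 8, 9], [0, 3, 5, 6, 9, 10, 11], [0, 3, 5, 6, 8, 9, 10, 11], [3, 4, 5, 6, 8, 9, 11], [3, 4, 5, 6, 9, 11], [0, 3, 4, 5, 6, 8, 9, 10], [0, 3, 4, 5, 6, 9, 10], [3, 5, 6, 7, 9], [3, 5, 6, 7, 8, 9], [0, 3, 5, 6, 7, 9, 10, 11], [0, 3, 5, 6, 7, 8, 9, 10, 11], [3, 4, 5, 6, 7, 8, 9, 11], [3, 4, 5, 6, 7, 9, 11], [0, 3, 4, 5, 6, 7, 8, 9, 10], [0, 3, 4, 5, 6, 7,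 9, 10], [3, 5, 6, 9, 11], [3, 5, 6, 8, 9, 11], [0, 3, 5, 6, 9, 10], [0, 3, 5, 6, 8, 9, 10], [3, 4, 5, 6, 8, 9], [3, 4, 5, 6, 9], [0, 3, 4, 5, 6, 8, 9, 10, 11], [0, 3, 4, 5, 6, 9, 10, 11], [3, 5, 6, 7, 9, 11], [3, 5, 6, 7, 8, 9, 11], [0, 3, 5, 6, 7, 9, 10], [0, 3, 5, 6, 7, 8, 9, 10], [3, 4, 5, 6, 7, 8, 9], [3, 4, 5, 6, 7, 9], [0, 3, 4, 5, 6, 7, 8, 9, 10, 11], [0, 3, 4, 5, 6, 7, 9, 10, 11], [1, 3, 5, 9], [1, 3, 5, 8, 9], [0, 1, 3, 5, 9, 10], [0, 1, 3, 5, 8, 9, 10], [1, 3, 4, 5, 8, 9, 11], [1, 3, 4, 5, 9, 11], [0, 1, 3, 4, 5, 8, 9, 10, 11], [0, 1, 3, 4, 5, 9, 10, 11], [1, 3, 5, 7, 9], [1, 3, 5, 7, 8, 9], [0, 1, 3, 5, 7, 9, 10], [0, 1, 3, 5, 7, 8, 9, 10], [1, 3, 4, 5, 7, 8, 9, 11], [1, 3, 4, 5, 7, 9, 11], [0,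 1, 3, 4, 5, 7, 8, 9, 10, 11], [0, 1, 3, 4, 5, 7, 9, 10, 11], [1, 3, 5, 9, 11], [1, 3, 5, 8, 9, 11], [0, 1, 3, 5, 9, 10, 11], [0, 1, 3, 5, 8, 9, 10, 11], [1, 3, 4, 5, 8, 9], [1, 3, 4, 5, 9], [0, 1, 3, 4, 5, 8, 9, 10], [0, 1, 3, 4, 5, 9, 10], [1, 3, 5, 7, 9, 11], [1, 3, 5, 7, 8, 9, 11], [0, 1, 3, 5, 7, 9, 10, 11], [0, 1, 3, 5, 7, 8, 9, 10, 11], [1, 3, 4, 5, 7, 8, 9], [1, 3, 4, 5, 7, 9], [0, 1, 3, 4, 5, 7, 8, 9, 10], [0, 1, 3, 4, 5, 7, 9, 10], [1, 3, 5, 6, 9], [1, 3, 5, 6, 8, 9], [0, 1, 3, 5, 6, 9, 10, 11], [0, 1, 3, 5, 6, 8, 9, 10, 11], [1, 3, 4, 5, 6, 8, 9, 11], [1, 3, 4, 5, 6, 9, 11], [0, 1, 3, 4, 5, 6, 8, 9, 10], [0, 1, 3, 4, 5, 6, 9, 10], [1, 3, 5, 6, 7, 9], [1, 3, 5, 6, 7, 8, 9], [0, 1, 3, 5, 6, 7, 9, 10,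 11], [0, 1, 3, 5, 6, 7, 8, 9, 10, 11], [1, 3, 4, 5, 6, 7, 8, 9, 11], [1, 3, 4, 5, 6, 7, 9, 11], [0, 1, 3, 4, 5, 6, 7, 8, 9, 10], [0, 1, 3, 4, 5, 6, 7, 9, 10], [1, 3, 5, 6, 9, 11], [1, 3, 5, 6, 8, 9, 11], [0, 1, 3, 5, 6, 9, 10], [0, 1, 3, 5, 6, 8, 9, 10], [1, 3, 4, 5, 6, 8, 9], [1, 3, 4, 5, 6, 9], [0, 1, 3, 4, 5, 6, 8, 9, 10, 11], [0, 1, 3, 4, 5, 6, 9, 10, 11], [1, 3, 5, 6, 7, 9, 11], [1, 3, 5, 6, 7, 8, 9, 11], [0, 1, 3, 5, 6, 7, 9, 10], [0, 1, 3, 5, 6, 7, 8, 9, 10], [1, 3, 4, 5, 6, 7, 8, 9], [1, 3, 4, 5, 6, 7, 9], [0, 1, 3, 4, 5, 6, 7, 8, 9, 10, 11], [0, 1, 3, 4, 5, 6, 7, 9, 10, 11], [3, 9, 10], [3, 8, 9, 10], [0, 3, 9], [0, 3, 8, 9], [3, 4, 8, 9, 10, 11], [3, 4, 9, 10, 11], [0, 3, 4, 8, 9, 11], [0, 3, 4,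 9, 11], [3, 7, 9, 10], [3, 7, 8, 9, 10], [0, 3, 7, 9], [0, 3, 7, 8, 9], [3, 4, 7, 8, 9, 10, 11], [3, 4, 7, 9, 10, 11], [0, 3, 4, 7, 8, 9, 11], [0, 3, 4, 7, 9, 11], [3, 9, 10, 11], [3, 8, 9, 10, 11], [0, 3, 9, 11], [0, 3, 8, 9, 11], [3, 4, 8, 9, 10], [3, 4, 9, 10], [0, 3, 4, 8, 9], [0, 3, 4, 9], [3, 7, 9, 10, 11], [3, 7, 8, 9, 10, 11], [0, 3, 7, 9, 11], [0, 3, 7, 8, 9, 11], [3, 4, 7, 8, 9, 10], [3, 4, 7, 9, 10], [0, 3, 4, 7, 8, 9], [0, 3, 4, 7, 9], [3, 6, 9, 10], [3, 6, 8, 9, 10], [0, 3, 6, 9], [0, 3, 6, 8, 9], [3, 4, 6, 8, 9, 10, 11], [3, 4, 6, 9, 10, 11], [0, 3, 4, 6, 8, 9, 11], [0, 3, 4, 6, 9, 11], [3, 6, 7, 9, 10], [3, 6, 7, 8, 9, 10], [0, 3, 6, 7, 9], [0, 3, 6, 7, 8, 9], [3, 4, 6, 7, 8, 9, 10, 11], [3,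 4, 6, 7, 9, 10, 11], [0, 3, 4, 6, 7, 8, 9, 11], [0, 3, 4, 6, 7, 9, 11], [3, 6, 9, 10, 11], [3, 6, 8, 9, 10, 11], [0, 3, 6, 9, 11], [0, 3, 6, 8, 9, 11], [3, 4, 6, 8, 9, 10], [3, 4, 6, 9, 10], [0, 3, 4, 6, 8, 9], [0, 3, 4, 6, 9], [3, 6, 7, 9, 10, 11], [3, 6, 7, 8, 9, 10, 11], [0, 3, 6, 7, 9, 11], [0, 3, 6, 7, 8, 9, 11], [3, 4, 6, 7, 8, 9, 10], [3, 4, 6, 7, 9, 10], [0, 3, 4, 6, 7, 8, 9], [0, 3, 4, 6, 7, 9], [1, 3, 9, 10], [1, 3, 8, 9, 10], [0, 1, 3, 9, 11], [0, 1, 3, 8, 9, 11], [1, 3, 4, 8, 9, 10, 11], [1, 3, 4, 9, 10, 11], [0, 1, 3, 4, 8, 9], [0, 1, 3, 4, 9], [1, 3, 7, 9, 10], [1, 3, 7, 8, 9, 10], [0, 1, 3, 7, 9, 11], [0, 1, 3, 7, 8, 9, 11], [1, 3, 4, 7, 8, 9, 10, 11], [1, 3, 4, 7, 9, 10, 11], [0, 1, 3, 4, 7,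 8, 9], [0, 1, 3, 4, 7, 9], [1, 3, 9, 10, 11], [1, 3, 8, 9, 10, 11], [0, 1, 3, 9], [0, 1, 3, 8, 9], [1, 3, 4, 8, 9, 10], [1, 3, 4, 9, 10], [0, 1, 3, 4, 8, 9, 11], [0, 1, 3, 4, 9, 11], [1, 3, 7, 9, 10, 11], [1, 3, 7, 8, 9, 10, 11], [0, 1, 3, 7, 9], [0, 1, 3, 7, 8, 9], [1, 3, 4, 7, 8, 9, 10], [1, 3, 4, 7, 9, 10], [0, 1, 3, 4, 7, 8, 9, 11], [0, 1, 3, 4, 7, 9, 11], [1, 3, 6, 9, 10], [1, 3, 6, 8, 9, 10], [0, 1, 3, 6, 9, 11], [0, 1, 3, 6, 8, 9, 11], [1, 3, 4, 6, 8, 9, 10, 11], [1, 3, 4, 6, 9, 10, 11], [0, 1, 3, 4, 6, 8, 9], [0, 1, 3, 4, 6, 9], [1, 3, 6, 7, 9, 10], [1, 3, 6, 7, 8, 9, 10], [0, 1, 3, 6, 7, 9, 11], [0, 1, 3, 6, 7, 8, 9, 11], [1, 3, 4, 6, 7, 8, 9, 10, 11], [1, 3, 4, 6, 7, 9, 10, 11], [0, 1, 3, 4, 6, 7,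 8, 9], [0, 1, 3, 4, 6, 7, 9], [1, 3, 6, 9, 10, 11], [1, 3, 6, 8, 9, 10, 11], [0, 1, 3, 6, 9], [0, 1, 3, 6, 8, 9], [1, 3, 4, 6, 8, 9, 10], [1, 3, 4, 6, 9, 10], [0, 1, 3, 4, 6, 8, 9, 11], [0, 1, 3, 4, 6, 9, 11], [1, 3, 6, 7, 9, 10, 11], [1, 3, 6, 7, 8, 9, 10, 11], [0, 1, 3, 6, 7, 9], [0, 1, 3, 6, 7, 8, 9], [1, 3, 4, 6, 7, 8, 9, 10], [1, 3, 4, 6, 7, 9, 10], [0, 1, 3, 4, 6, 7, 8, 9, 11], [0, 1, 3, 4, 6, 7, 9, 11], [3, 5, 9, 10], [3, 5, 8, 9, 10], [0, 3, 5, 9], [0, 3, 5, 8, 9], [3, 4, 5, 8, 9, 10, 11], [3, 4, 5, 9, 10, 11], [0, 3, 4, 5, 8, 9, 11], [0, 3, 4, 5, 9, 11], [3, 5, 7, 9, 10], [3, 5, 7, 8, 9, 10], [0, 3, 5, 7, 9], [0, 3, 5, 7, 8, 9], [3, 4, 5, 7, 8, 9, 10, 11], [3, 4, 5, 7, 9, 10, 11], [0, 3, 4, 5, 7,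 8, 9, 11], [0, 3, 4, 5, 7, 9, 11], [3, 5, 9, 10, 11], [3, 5, 8, 9, 10, 11], [0, 3, 5, 9, 11], [0, 3, 5, 8, 9, 11], [3, 4, 5, 8, 9, 10], [3, 4, 5, 9, 10], [0, 3, 4, 5, 8, 9], [0, 3, 4, 5, 9], [3, 5, 7, 9, 10, 11], [3, 5, 7, 8, 9, 10, 11], [0, 3, 5, 7, 9, 11], [0, 3, 5, 7, 8, 9, 11], [3, 4, 5, 7, 8, 9, 10], [3, 4, 5, 7, 9, 10], [0, 3, 4, 5, 7, 8, 9], [0, 3, 4, 5, 7, 9], [3, 5, 6, 9, 10], [3, 5, 6, 8, 9, 10], [0, 3, 5, 6, 9, 11], [0, 3, 5, 6, 8, 9, 11], [3, 4, 5, 6, 8, 9, 10, 11], [3, 4, 5, 6, 9, 10, 11], [0, 3, 4, 5, 6, 8, 9], [0, 3, 4, 5, 6, 9], [3, 5, 6, 7, 9, 10], [3, 5, 6, 7, 8, 9, 10], [0, 3, 5, 6, 7, 9, 11], [0, 3, 5, 6, 7, 8, 9, 11], [3, 4, 5, 6, 7, 8, 9, 10, 11], [3, 4, 5, 6, 7, 9, 10, 11], [0, 3, 4,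 5, 6, 7, 8, 9], [0, 3, 4, 5, 6, 7, 9], [3, 5, 6, 9, 10, 11], [3, 5, 6, 8, 9, 10, 11], [0, 3, 5, 6, 9], [0, 3, 5, 6, 8, 9], [3, 4, 5, 6, 8, 9, 10], [3, 4, 5, 6, 9, 10], [0, 3, 4, 5, 6, 8, 9, 11], [0, 3, 4, 5, 6, 9, 11], [3, 5, 6, 7, 9, 10, 11], [3, 5, 6, 7, 8, 9, 10, 11], [0, 3, 5, 6, 7, 9], [0, 3, 5, 6, 7, 8, 9], [3, 4, 5, 6, 7, 8, 9, 10], [3, 4, 5, 6, 7, 9, 10], [0, 3, 4, 5, 6, 7, 8, 9, 11], [0, 3, 4, 5, 6, 7, 9, 11], [1, 3, 5, 9, 10], [1, 3, 5, 8, 9, 10], [0, 1, 3, 5, 9], [0, 1, 3, 5, 8, 9], [1, 3, 4, 5, 8, 9, 10, 11], [1, 3, 4, 5, 9, 10, 11], [0, 1, 3, 4, 5, 8, 9, 11], [0, 1, 3, 4, 5, 9, 11], [1, 3, 5, 7, 9, 10], [1, 3, 5, 7, 8, 9, 10], [0, 1, 3, 5, 7, 9], [0, 1, 3, 5, 7, 8, 9], [1, 3, 4, 5, 7, 8, 9, 10,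 11], [1, 3, 4, 5, 7, 9, 10, 11], [0, 1, 3, 4, 5, 7, 8, 9, 11], [0, 1, 3, 4, 5, 7, 9, 11], [1, 3, 5, 9, 10, 11], [1, 3, 5, 8, 9, 10, 11], [0, 1, 3, 5, 9, 11], [0, 1, 3, 5, 8, 9, 11], [1, 3, 4, 5, 8, 9, 10], [1, 3, 4, 5, 9, 10], [0, 1, 3, 4, 5, 8, 9], [0, 1, 3, 4, 5, 9], [1, 3, 5, 7, 9, 10, 11], [1, 3, 5, 7, 8, 9, 10, 11], [0, 1, 3, 5, 7, 9, 11], [0, 1, 3, 5, 7, 8, 9, 11], [1, 3, 4, 5, 7, 8, 9, 10], [1, 3, 4, 5, 7, 9, 10], [0, 1, 3, 4, 5, 7, 8, 9], [0, 1, 3, 4, 5, 7, 9], [1, 3, 5, 6, 9, 10], [1, 3, 5, 6, 8, 9, 10], [0, 1, 3, 5, 6, 9, 11], [0, 1, 3, 5, 6, 8, 9, 11], [1, 3, 4, 5, 6, 8, 9, 10, 11], [1, 3, 4, 5, 6, 9, 10, 11], [0, 1, 3, 4, 5, 6, 8, 9], [0, 1, 3, 4, 5, 6, 9], [1, 3, 5, 6, 7, 9, 10], [1, 3, 5, 6,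 7, 8, 9, 10], [0, 1, 3, 5, 6, 7, 9, 11], [0, 1, 3, 5, 6, 7, 8, 9, 11], [1, 3, 4, 5, 6, 7, 8, 9, 10, 11], [1, 3, 4, 5, 6, 7, 9, 10, 11], [0, 1, 3, 4, 5, 6, 7, 8, 9], [0, 1, 3, 4, 5, 6, 7, 9], [1, 3, 5, 6, 9, 10, 11], [1, 3, 5, 6, 8, 9, 10, 11], [0, 1, 3, 5, 6, 9], [0, 1, 3, 5, 6, 8, 9], [1, 3, 4, 5, 6, 8, 9, 10], [1, 3, 4, 5, 6, 9, 10], [0, 1, 3, 4, 5, 6, 8, 9, 11], [0, 1, 3, 4, 5, 6, 9, 11], [1, 3, 5, 6, 7, 9, 10, 11], [1, 3, 5, 6, 7, 8, 9, 10, 11], [0, 1, 3, 5, 6, 7, 9], [0, 1, 3, 5, 6, 7, 8, 9], [1, 3, 4, 5, 6, 7, 8, 9, 10], [1, 3, 4, 5, 6, 7, 9, 10], [0, 1, 3, 4, 5, 6, 7, 8, 9, 11], [0, 1, 3, 4, 5, 6, 7, 9, 11], [2], [2, 8], [0, 2], [0, 2, 8], [2, 4, 7], [2, 4, 7, 8], [0, 2, 4, 7], [0, 2, 4, 7, 8], [2,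 7], [2, 7, 8], [0, 2, 7], [0, 2, 7, 8], [2, 4], [2, 4, 8], [0, 2, 4], [0, 2, 4, 8], [2, 11], [2, 8, 11], [0, 2, 11], [0, 2, 8, 11], [2, 4, 7, 11], [2, 4, 7, 8, 11], [0, 2, 4, 7, 11], [0, 2, 4, 7, 8, 11], [2, 7, 11], [2, 7, 8, 11], [0, 2, 7, 11], [0, 2, 7, 8, 11], [2, 4, 11], [2, 4, 8, 11], [0, 2, 4, 11], [0, 2, 4, 8, 11], [2, 6], [2, 6, 8], [0, 2, 6], [0, 2, 6, 8], [2, 4, 6, 7], [2, 4, 6, 7, 8], [0, 2, 4, 6, 7], [0, 2, 4, 6, 7, 8], [2, 6, 7], [2, 6, 7, 8], [0, 2, 6, 7], [0, 2, 6, 7, 8], [2, 4, 6], [2, 4, 6, 8], [0, 2, 4, 6], [0, 2, 4, 6, 8], [2, 6, 11], [2, 6, 8, 11], [0, 2, 6, 11], [0, 2, 6, 8, 11], [2, 4, 6, 7, 11], [2, 4, 6, 7, 8, 11], [0, 2, 4, 6, 7, 11], [0, 2, 4, 6, 7, 8, 11], [2, 6, 7, 11], [2, 6, 7,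 8, 11], [0, 2, 6, 7, 11], [0, 2, 6, 7, 8, 11], [2, 4, 6, 11], [2, 4, 6, 8, 11], [0, 2, 4, 6, 11], [0, 2, 4, 6, 8, 11], [1, 2], [1, 2, 8], [0, 1, 2], [0, 1, 2, 8], [1, 2, 4, 7], [1, 2, 4, 7, 8], [0, 1, 2, 4, 7], [0, 1, 2, 4, 7, 8], [1, 2, 7], [1, 2, 7, 8], [0, 1, 2, 7], [0, 1, 2, 7, 8], [1, 2, 4], [1, 2, 4, 8], [0, 1, 2, 4], [0, 1, 2, 4, 8], [1, 2, 11], [1, 2, 8, 11], [0, 1, 2, 11], [0, 1, 2, 8, 11], [1, 2, 4, 7, 11], [1, 2, 4, 7, 8, 11], [0, 1, 2, 4, 7, 11], [0, 1, 2, 4, 7, 8, 11], [1, 2, 7, 11], [1, 2, 7, 8, 11], [0, 1, 2, 7, 11], [0, 1, 2, 7, 8, 11], [1, 2, 4, 11], [1, 2, 4, 8, 11], [0, 1, 2, 4, 11], [0, 1, 2, 4, 8, 11], [1, 2, 6], [1, 2, 6, 8], [0, 1, 2, 6, 11], [0, 1, 2, 6, 8, 11], [1, 2, 4, 6, 7], [1,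 2, 4, 6, 7, 8], [0, 1, 2, 4, 6, 7, 11], [0, 1, 2, 4, 6, 7, 8, 11], [1, 2, 6, 7], [1, 2, 6, 7, 8], [0, 1, 2, 6, 7, 11], [0, 1, 2, 6, 7, 8, 11], [1, 2, 4, 6], [1, 2, 4, 6, 8], [0, 1, 2, 4, 6, 11], [0, 1, 2, 4, 6, 8, 11], [1, 2, 6, 11], [1, 2, 6, 8, 11], [0, 1, 2, 6], [0, 1, 2, 6, 8], [1, 2, 4, 6, 7, 11], [1, 2, 4, 6, 7, 8, 11], [0, 1, 2, 4, 6, 7], [0, 1, 2, 4, 6, 7, 8], [1, 2, 6, 7, 11], [1, 2, 6, 7, 8, 11], [0, 1, 2, 6, 7], [0, 1, 2, 6, 7, 8], [1, 2, 4, 6, 11], [1, 2, 4, 6, 8, 11], [0, 1, 2, 4, 6], [0, 1, 2, 4, 6, 8], [2, 5], [2, 5, 8], [0, 2, 5], [0, 2, 5, 8], [2, 4, 5, 7], [2, 4, 5, 7, 8], [0, 2, 4, 5, 7], [0, 2, 4, 5, 7, 8], [2, 5, 7], [2, 5, 7, 8], [0, 2, 5, 7], [0, 2, 5, 7, 8], [2, 4, 5], [2, 4, 5, 8],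 [0, 2, 4, 5], [0, 2, 4, 5, 8], [2, 5, 11], [2, 5, 8, 11], [0, 2, 5, 11], [0, 2, 5, 8, 11], [2, 4, 5, 7, 11], [2, 4, 5, 7, 8, 11], [0, 2, 4, 5, 7, 11], [0, 2, 4, 5, 7, 8, 11], [2, 5, 7, 11], [2, 5, 7, 8, 11], [0, 2, 5, 7, 11], [0, 2, 5, 7, 8, 11], [2, 4, 5, 11], [2, 4, 5, 8, 11], [0, 2, 4, 5, 11], [0, 2, 4, 5, 8, 11], [2, 5, 6], [2, 5, 6, 8], [0, 2, 5, 6, 11], [0, 2, 5, 6, 8, 11], [2, 4, 5, 6, 7], [2, 4, 5, 6, 7, 8], [0, 2, 4, 5, 6, 7, 11], [0, 2, 4, 5, 6, 7, 8, 11], [2, 5, 6, 7], [2, 5, 6, 7, 8], [0, 2, 5, 6, 7, 11], [0, 2, 5, 6, 7, 8, 11], [2, 4, 5, 6], [2, 4, 5, 6, 8], [0, 2, 4, 5, 6, 11], [0, 2, 4, 5, 6, 8, 11], [2, 5, 6, 11], [2, 5, 6, 8, 11], [0, 2, 5, 6], [0, 2, 5, 6, 8], [2, 4, 5, 6, 7, 11], [2, 4,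 5, 6, 7, 8, 11], [0, 2, 4, 5, 6, 7], [0, 2, 4, 5, 6, 7, 8], [2, 5, 6, 7, 11], [2, 5, 6, 7, 8, 11], [0, 2, 5, 6, 7], [0, 2, 5, 6, 7, 8], [2, 4, 5, 6, 11], [2, 4, 5, 6, 8, 11], [0, 2, 4, 5, 6], [0, 2, 4, 5, 6, 8], [1, 2, 5], [1, 2, 5, 8], [0, 1, 2, 5], [0, 1, 2, 5, 8], [1, 2, 4, 5, 7], [1, 2, 4, 5, 7, 8], [0, 1, 2, 4, 5, 7], [0, 1, 2, 4, 5, 7, 8], [1, 2, 5, 7], [1, 2, 5, 7, 8], [0, 1, 2, 5, 7], [0, 1, 2, 5, 7, 8], [1, 2, 4, 5], [1, 2, 4, 5, 8], [0, 1, 2, 4, 5], [0, 1, 2, 4, 5, 8], [1, 2, 5, 11], [1, 2, 5, 8, 11], [0, 1, 2, 5, 11], [0, 1, 2, 5, 8, 11], [1, 2, 4, 5, 7, 11], [1, 2, 4, 5, 7, 8, 11], [0, 1, 2, 4, 5, 7, 11], [0, 1, 2, 4, 5, 7, 8, 11], [1, 2, 5, 7, 11], [1, 2, 5, 7, 8, 11], [0, 1, 2, 5, 7, 11], [0,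 1, 2, 5, 7, 8, 11], [1, 2, 4, 5, 11], [1, 2, 4, 5, 8, 11], [0, 1, 2, 4, 5, 11], [0, 1, 2, 4, 5, 8, 11], [1, 2, 5, 6], [1, 2, 5, 6, 8], [0, 1, 2, 5, 6], [0, 1, 2, 5, 6, 8], [1, 2, 4, 5, 6, 7], [1, 2, 4, 5, 6, 7, 8], [0, 1, 2, 4, 5, 6, 7], [0, 1, 2, 4, 5, 6, 7, 8], [1, 2, 5, 6, 7], [1, 2, 5, 6, 7, 8], [0, 1, 2, 5, 6, 7], [0, 1, 2, 5, 6, 7, 8], [1, 2, 4, 5, 6], [1, 2, 4, 5, 6, 8], [0, 1, 2, 4, 5, 6], [0, 1, 2, 4, 5, 6, 8], [1, 2, 5, 6, 11], [1, 2, 5, 6, 8, 11], [0, 1, 2, 5, 6, 11], [0, 1, 2, 5, 6, 8, 11], [1, 2, 4, 5, 6, 7, 11], [1, 2, 4, 5, 6, 7, 8, 11], [0, 1, 2, 4, 5, 6, 7, 11], [0, 1, 2, 4, 5, 6, 7, 8, 11], [1, 2, 5, 6, 7, 11], [1, 2, 5, 6, 7, 8, 11], [0, 1, 2, 5, 6, 7, 11], [0, 1, 2, 5, 6, 7, 8, 11], [1,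 2, 4, 5, 6, 11], [1, 2, 4, 5, 6, 8, 11], [0, 1, 2, 4, 5, 6, 11], [0, 1, 2, 4, 5, 6, 8, 11], [2, 10], [2, 8, 10], [0, 2, 10], [0, 2, 8, 10], [2, 4, 7, 10], [2, 4, 7, 8, 10], [0, 2, 4, 7, 10], [0, 2, 4, 7, 8, 10], [2, 7, 10], [2, 7, 8, 10], [0, 2, 7, 10], [0, 2, 7, 8, 10], [2, 4, 10], [2, 4, 8, 10], [0, 2, 4, 10], [0, 2, 4, 8, 10], [2, 10, 11], [2, 8, 10, 11], [0, 2, 10, 11], [0, 2, 8, 10, 11], [2, 4, 7, 10, 11], [2, 4, 7, 8, 10, 11], [0, 2, 4, 7, 10, 11], [0, 2, 4, 7, 8, 10, 11], [2, 7, 10, 11], [2, 7, 8, 10, 11], [0, 2, 7, 10, 11], [0, 2, 7, 8, 10, 11], [2, 4, 10, 11], [2, 4, 8, 10, 11], [0, 2, 4, 10, 11], [0, 2, 4, 8, 10, 11], [2, 6, 10], [2, 6, 8, 10], [0, 2, 6, 10], [0, 2, 6, 8, 10], [2, 4, 6, 7, 10], [2,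 4, 6, 7, 8, 10], [0, 2, 4, 6, 7, 10], [0, 2, 4, 6, 7, 8, 10], [2, 6, 7, 10], [2, 6, 7, 8, 10], [0, 2, 6, 7, 10], [0, 2, 6, 7, 8, 10], [2, 4, 6, 10], [2, 4, 6, 8, 10], [0, 2, 4, 6, 10], [0, 2, 4, 6, 8, 10], [2, 6, 10, 11], [2, 6, 8, 10, 11], [0, 2, 6, 10, 11], [0, 2, 6, 8, 10, 11], [2, 4, 6, 7, 10, 11], [2, 4, 6, 7, 8, 10, 11], [0, 2, 4, 6, 7, 10, 11], [0, 2, 4, 6, 7, 8, 10, 11], [2, 6, 7, 10, 11], [2, 6, 7, 8, 10, 11], [0, 2, 6, 7, 10, 11], [0, 2, 6, 7, 8, 10, 11], [2, 4, 6, 10, 11], [2, 4, 6, 8, 10, 11], [0, 2, 4, 6, 10, 11], [0, 2, 4, 6, 8, 10, 11], [1, 2, 10], [1, 2, 8, 10], [0, 1, 2, 10], [0, 1, 2, 8, 10], [1, 2, 4, 7, 10], [1, 2, 4, 7, 8, 10], [0, 1, 2, 4, 7, 10], [0, 1, 2, 4, 7, 8, 10], [1, 2, 7, 10],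 [1, 2, 7, 8, 10], [0, 1, 2, 7, 10], [0, 1, 2, 7, 8, 10], [1, 2, 4, 10], [1, 2, 4, 8, 10], [0, 1, 2, 4, 10], [0, 1, 2, 4, 8, 10], [1, 2, 10, 11], [1, 2, 8, 10, 11], [0, 1, 2, 10, 11], [0, 1, 2, 8, 10, 11], [1, 2, 4, 7, 10, 11], [1, 2, 4, 7, 8, 10, 11], [0, 1, 2, 4, 7, 10, 11], [0, 1, 2, 4, 7, 8, 10, 11], [1, 2, 7, 10, 11], [1, 2, 7, 8, 10, 11], [0, 1, 2, 7, 10, 11], [0, 1, 2, 7, 8, 10, 11], [1, 2, 4, 10, 11], [1, 2, 4, 8, 10, 11], [0, 1, 2, 4, 10, 11], [0, 1, 2, 4, 8, 10, 11], [1, 2, 6, 10], [1, 2, 6, 8, 10], [0, 1, 2, 6, 10, 11], [0, 1, 2, 6, 8, 10, 11], [1, 2, 4, 6, 7, 10], [1, 2, 4, 6, 7, 8, 10], [0, 1, 2, 4, 6, 7, 10, 11], [0, 1, 2, 4, 6, 7, 8, 10, 11], [1, 2, 6, 7, 10], [1, 2, 6, 7, 8, 10], [0, 1, 2, 6,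 7, 10, 11], [0, 1, 2, 6, 7, 8, 10, 11], [1, 2, 4, 6, 10], [1, 2, 4, 6, 8, 10], [0, 1, 2, 4, 6, 10, 11], [0, 1, 2, 4, 6, 8, 10, 11], [1, 2, 6, 10, 11], [1, 2, 6, 8, 10, 11], [0, 1, 2, 6, 10], [0, 1, 2, 6, 8, 10], [1, 2, 4, 6, 7, 10, 11], [1, 2, 4, 6, 7, 8, 10, 11], [0, 1, 2, 4, 6, 7, 10], [0, 1, 2, 4, 6, 7, 8, 10], [1, 2, 6, 7, 10, 11], [1, 2, 6, 7, 8, 10, 11], [0, 1, 2, 6, 7, 10], [0, 1, 2, 6, 7, 8, 10], [1, 2, 4, 6, 10, 11], [1, 2, 4, 6, 8, 10, 11], [0, 1, 2, 4, 6, 10], [0, 1, 2, 4, 6, 8, 10], [2, 5, 10], [2, 5, 8, 10], [0, 2, 5, 10], [0, 2, 5, 8, 10], [2, 4, 5, 7, 10], [2, 4, 5, 7, 8, 10], [0, 2, 4, 5, 7, 10], [0, 2, 4, 5, 7, 8, 10], [2, 5, 7, 10], [2, 5, 7, 8, 10], [0, 2, 5, 7, 10], [0, 2, 5, 7, 8, 10],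 [2, 4, 5, 10], [2, 4, 5, 8, 10], [0, 2, 4, 5, 10], [0, 2, 4, 5, 8, 10], [2, 5, 10, 11], [2, 5, 8, 10, 11], [0, 2, 5, 10, 11], [0, 2, 5, 8, 10, 11], [2, 4, 5, 7, 10, 11], [2, 4, 5, 7, 8, 10, 11], [0, 2, 4, 5, 7, 10, 11], [0, 2, 4, 5, 7, 8, 10, 11], [2, 5, 7, 10, 11], [2, 5, 7, 8, 10, 11], [0, 2, 5, 7, 10, 11], [0, 2, 5, 7, 8, 10, 11], [2, 4, 5, 10, 11], [2, 4, 5, 8, 10, 11], [0, 2, 4, 5, 10, 11], [0, 2, 4, 5, 8, 10, 11], [2, 5, 6, 10], [2, 5, 6, 8, 10], [0, 2, 5, 6, 10, 11], [0, 2, 5, 6, 8, 10, 11], [2, 4, 5, 6, 7, 10], [2, 4, 5, 6, 7, 8, 10], [0, 2, 4, 5, 6, 7, 10, 11], [0, 2, 4, 5, 6, 7, 8, 10, 11], [2, 5, 6, 7, 10], [2, 5, 6, 7, 8, 10], [0, 2, 5, 6, 7, 10, 11], [0, 2, 5, 6, 7, 8, 10, 11], [2, 4, 5, 6, 10],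 [2, 4, 5, 6, 8, 10], [0, 2, 4, 5, 6, 10, 11], [0, 2, 4, 5, 6, 8, 10, 11], [2, 5, 6, 10, 11], [2, 5, 6, 8, 10, 11], [0, 2, 5, 6, 10], [0, 2, 5, 6, 8, 10], [2, 4, 5, 6, 7, 10, 11], [2, 4, 5, 6, 7, 8, 10, 11], [0, 2, 4, 5, 6, 7, 10], [0, 2, 4, 5, 6, 7, 8, 10], [2, 5, 6, 7, 10, 11], [2, 5, 6, 7, 8, 10, 11], [0, 2, 5, 6, 7, 10], [0, 2, 5, 6, 7, 8, 10], [2, 4, 5, 6, 10, 11], [2, 4, 5, 6, 8, 10, 11], [0, 2, 4, 5, 6, 10], [0, 2, 4, 5, 6, 8, 10], [1, 2, 5, 10], [1, 2, 5, 8, 10], [0, 1, 2, 5, 10], [0, 1, 2, 5, 8, 10], [1, 2, 4, 5, 7, 10], [1, 2, 4, 5, 7, 8, 10], [0, 1, 2, 4, 5, 7, 10], [0, 1, 2, 4, 5, 7, 8, 10], [1, 2, 5, 7, 10], [1, 2, 5, 7, 8, 10], [0, 1, 2, 5, 7, 10], [0, 1, 2, 5, 7, 8, 10], [1, 2, 4, 5, 10], [1,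 2, 4, 5, 8, 10], [0, 1, 2, 4, 5, 10], [0, 1, 2, 4, 5, 8, 10], [1, 2, 5, 10, 11], [1, 2, 5, 8, 10, 11], [0, 1, 2, 5, 10, 11], [0, 1, 2, 5, 8, 10, 11], [1, 2, 4, 5, 7, 10, 11], [1, 2, 4, 5, 7, 8, 10, 11], [0, 1, 2, 4, 5, 7, 10, 11], [0, 1, 2, 4, 5, 7, 8, 10, 11], [1, 2, 5, 7, 10, 11], [1, 2, 5, 7, 8, 10, 11], [0, 1, 2, 5, 7, 10, 11], [0, 1, 2, 5, 7, 8, 10, 11], [1, 2, 4, 5, 10, 11], [1, 2, 4, 5, 8, 10, 11], [0, 1, 2, 4, 5, 10, 11], [0, 1, 2, 4, 5, 8, 10, 11], [1, 2, 5, 6, 10], [1, 2, 5, 6, 8, 10], [0, 1, 2, 5, 6, 10], [0, 1, 2, 5, 6, 8, 10], [1, 2, 4, 5, 6, 7, 10], [1, 2, 4, 5, 6, 7, 8, 10], [0, 1, 2, 4, 5, 6, 7, 10], [0, 1, 2, 4, 5, 6, 7, 8, 10], [1, 2, 5, 6, 7, 10], [1, 2, 5, 6, 7, 8, 10], [0, 1, 2, 5, 6,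 7, 10], [0, 1, 2, 5, 6, 7, 8, 10], [1, 2, 4, 5, 6, 10], [1, 2, 4, 5, 6, 8, 10], [0, 1, 2, 4, 5, 6, 10], [0, 1, 2, 4, 5, 6, 8, 10], [1, 2, 5, 6, 10, 11], [1, 2, 5, 6, 8, 10, 11], [0, 1, 2, 5, 6, 10, 11], [0, 1, 2, 5, 6, 8, 10, 11], [1, 2, 4, 5, 6, 7, 10, 11], [1, 2, 4, 5, 6, 7, 8, 10, 11], [0, 1, 2, 4, 5, 6, 7, 10, 11], [0, 1, 2, 4, 5, 6, 7, 8, 10, 11], [1, 2, 5, 6, 7, 10, 11], [1, 2, 5, 6, 7, 8, 10, 11], [0, 1, 2, 5, 6, 7, 10, 11], [0, 1, 2, 5, 6, 7, 8, 10, 11], [1, 2, 4, 5, 6, 10, 11], [1, 2, 4, 5, 6, 8, 10, 11], [0, 1, 2, 4, 5, 6, 10, 11], [0, 1, 2, 4, 5, 6, 8, 10, 11], [2, 9], [2, 8, 9], [0, 2, 9, 10], [0, 2, 8, 9, 10], [2, 4, 7, 9, 11], [2, 4, 7, 8, 9, 11], [0, 2, 4, 7, 9, 10, 11], [0, 2, 4, 7, 8, 9, 10,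 11], [2, 7, 9], [2, 7, 8, 9], [0, 2, 7, 9, 10], [0, 2, 7, 8, 9, 10], [2, 4, 9, 11], [2, 4, 8, 9, 11], [0, 2, 4, 9, 10, 11], [0, 2, 4, 8, 9, 10, 11], [2, 9, 11], [2, 8, 9, 11], [0, 2, 9, 10, 11], [0, 2, 8, 9, 10, 11], [2, 4, 7, 9], [2, 4, 7, 8, 9], [0, 2, 4, 7, 9, 10], [0, 2, 4, 7, 8, 9, 10], [2, 7, 9, 11], [2, 7, 8, 9, 11], [0, 2, 7, 9, 10, 11], [0, 2, 7, 8, 9, 10, 11], [2, 4, 9], [2, 4, 8, 9], [0, 2, 4, 9, 10], [0, 2, 4, 8, 9, 10], [2, 6, 9], [2, 6, 8, 9], [0, 2, 6, 9, 10], [0, 2, 6, 8, 9, 10], [2, 4, 6, 7, 9, 11], [2, 4, 6, 7, 8, 9, 11], [0, 2, 4, 6, 7, 9, 10, 11], [0, 2, 4, 6, 7, 8, 9, 10, 11], [2, 6, 7, 9], [2, 6, 7, 8, 9], [0, 2, 6, 7, 9, 10], [0, 2, 6, 7, 8, 9, 10], [2, 4, 6, 9, 11], [2, 4, 6, 8, 9,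 11], [0, 2, 4, 6, 9, 10, 11], [0, 2, 4, 6, 8, 9, 10, 11], [2, 6, 9, 11], [2, 6, 8, 9, 11], [0, 2, 6, 9, 10, 11], [0, 2, 6, 8, 9, 10, 11], [2, 4, 6, 7, 9], [2, 4, 6, 7, 8, 9], [0, 2, 4, 6, 7, 9, 10], [0, 2, 4, 6, 7, 8, 9, 10], [2, 6, 7, 9, 11], [2, 6, 7, 8, 9, 11], [0, 2, 6, 7, 9, 10, 11], [0, 2, 6, 7, 8, 9, 10, 11], [2, 4, 6, 9], [2, 4, 6, 8, 9], [0, 2, 4, 6, 9, 10], [0, 2, 4, 6, 8, 9, 10], [1, 2, 9], [1, 2, 8, 9], [0, 1, 2, 9, 10, 11], [0, 1, 2, 8, 9, 10, 11], [1, 2, 4, 7, 9, 11], [1, 2, 4, 7, 8, 9, 11], [0, 1, 2, 4, 7, 9, 10], [0, 1, 2, 4, 7, 8, 9, 10], [1, 2, 7, 9], [1, 2, 7, 8, 9], [0, 1, 2, 7, 9, 10, 11], [0, 1, 2, 7, 8, 9, 10, 11], [1, 2, 4, 9, 11], [1, 2, 4, 8, 9, 11], [0, 1, 2, 4, 9, 10], [0, 1, 2,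 4, 8, 9, 10], [1, 2, 9, 11], [1, 2, 8, 9, 11], [0, 1, 2, 9, 10], [0, 1, 2, 8, 9, 10], [1, 2, 4, 7, 9], [1, 2, 4, 7, 8, 9], [0, 1, 2, 4, 7, 9, 10, 11], [0, 1, 2, 4, 7, 8, 9, 10, 11], [1, 2, 7, 9, 11], [1, 2, 7, 8, 9, 11], [0, 1, 2, 7, 9, 10], [0, 1, 2, 7, 8, 9, 10], [1, 2, 4, 9], [1, 2, 4, 8, 9], [0, 1, 2, 4, 9, 10, 11], [0, 1, 2, 4, 8, 9, 10, 11], [1, 2, 6, 9], [1, 2, 6, 8, 9], [0, 1, 2, 6, 9, 10], [0, 1, 2, 6, 8, 9, 10], [1, 2, 4, 6, 7, 9, 11], [1, 2, 4, 6, 7, 8, 9, 11], [0, 1, 2, 4, 6, 7, 9, 10, 11], [0, 1, 2, 4, 6, 7, 8, 9, 10, 11], [1, 2, 6, 7, 9], [1, 2, 6, 7, 8, 9], [0, 1, 2, 6, 7, 9, 10], [0, 1, 2, 6, 7, 8, 9, 10], [1, 2, 4, 6, 9, 11], [1, 2, 4, 6, 8, 9, 11], [0, 1, 2, 4, 6, 9, 10, 11], [0, 1, 2, 4,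 6, 8, 9, 10, 11], [1, 2, 6, 9, 11], [1, 2, 6, 8, 9, 11], [0, 1, 2, 6, 9, 10, 11], [0, 1, 2, 6, 8, 9, 10, 11], [1, 2, 4, 6, 7, 9], [1, 2, 4, 6, 7, 8, 9], [0, 1, 2, 4, 6, 7, 9, 10], [0, 1, 2, 4, 6, 7, 8, 9, 10], [1, 2, 6, 7, 9, 11], [1, 2, 6, 7, 8, 9, 11], [0, 1, 2, 6, 7, 9, 10, 11], [0, 1, 2, 6, 7, 8, 9, 10, 11], [1, 2, 4, 6, 9], [1, 2, 4, 6, 8, 9], [0, 1, 2, 4, 6, 9, 10], [0, 1, 2, 4, 6, 8, 9, 10], [2, 5, 9], [2, 5, 8, 9], [0, 2, 5, 9, 10], [0, 2, 5, 8, 9, 10], [2, 4, 5, 7, 9, 11], [2, 4, 5, 7, 8, 9, 11], [0, 2, 4, 5, 7, 9, 10, 11], [0, 2, 4, 5, 7, 8, 9, 10, 11], [2, 5, 7, 9], [2, 5, 7, 8, 9], [0, 2, 5, 7, 9, 10], [0, 2, 5, 7, 8, 9, 10], [2, 4, 5, 9, 11], [2, 4, 5, 8, 9, 11], [0, 2, 4, 5, 9, 10, 11], [0, 2,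 4, 5, 8, 9, 10, 11], [2, 5, 9, 11], [2, 5, 8, 9, 11], [0, 2, 5, 9, 10, 11], [0, 2, 5, 8, 9, 10, 11], [2, 4, 5, 7, 9], [2, 4, 5, 7, 8, 9], [0, 2, 4, 5, 7, 9, 10], [0, 2, 4, 5, 7, 8, 9, 10], [2, 5, 7, 9, 11], [2, 5, 7, 8, 9, 11], [0, 2, 5, 7, 9, 10, 11], [0, 2, 5, 7, 8, 9, 10, 11], [2, 4, 5, 9], [2, 4, 5, 8, 9], [0, 2, 4, 5, 9, 10], [0, 2, 4, 5, 8, 9, 10], [2, 5, 6, 9], [2, 5, 6, 8, 9], [0, 2, 5, 6, 9, 10, 11], [0, 2, 5, 6, 8, 9, 10, 11], [2, 4, 5, 6, 7, 9, 11], [2, 4, 5, 6, 7, 8, 9, 11], [0, 2, 4, 5, 6, 7, 9, 10], [0, 2, 4, 5, 6, 7, 8, 9, 10], [2, 5, 6, 7, 9], [2, 5, 6, 7, 8, 9], [0, 2, 5, 6, 7, 9, 10, 11], [0, 2, 5, 6, 7, 8, 9, 10, 11], [2, 4, 5, 6, 9, 11], [2, 4, 5, 6, 8, 9, 11], [0, 2, 4, 5, 6, 9, 10], [0,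 2, 4, 5, 6, 8, 9, 10], [2, 5, 6, 9, 11], [2, 5, 6, 8, 9, 11], [0, 2, 5, 6, 9, 10], [0, 2, 5, 6, 8, 9, 10], [2, 4, 5, 6, 7, 9], [2, 4, 5, 6, 7, 8, 9], [0, 2, 4, 5, 6, 7, 9, 10, 11], [0, 2, 4, 5, 6, 7, 8, 9, 10, 11], [2, 5, 6, 7, 9, 11], [2, 5, 6, 7, 8, 9, 11], [0, 2, 5, 6, 7, 9, 10], [0, 2, 5, 6, 7, 8, 9, 10], [2, 4, 5, 6, 9], [2, 4, 5, 6, 8, 9], [0, 2, 4, 5, 6, 9, 10, 11], [0, 2, 4, 5, 6, 8, 9, 10, 11], [1, 2, 5, 9], [1, 2, 5, 8, 9], [0, 1, 2, 5, 9, 10, 11], [0, 1, 2, 5, 8, 9, 10, 11], [1, 2, 4, 5, 7, 9, 11], [1, 2, 4, 5, 7, 8, 9, 11], [0, 1, 2, 4, 5, 7, 9, 10], [0, 1, 2, 4, 5, 7, 8, 9, 10], [1, 2, 5, 7, 9], [1, 2, 5, 7, 8, 9], [0, 1, 2, 5, 7, 9, 10, 11], [0, 1, 2, 5, 7, 8, 9, 10, 11], [1, 2, 4, 5, 9, 11],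 [1, 2, 4, 5, 8, 9, 11], [0, 1, 2, 4, 5, 9, 10], [0, 1, 2, 4, 5, 8, 9, 10], [1, 2, 5, 9, 11], [1, 2, 5, 8, 9, 11], [0, 1, 2, 5, 9, 10], [0, 1, 2, 5, 8, 9, 10], [1, 2, 4, 5, 7, 9], [1, 2, 4, 5, 7, 8, 9], [0, 1, 2, 4, 5, 7, 9, 10, 11], [0, 1, 2, 4, 5, 7, 8, 9, 10, 11], [1, 2, 5, 7, 9, 11], [1, 2, 5, 7, 8, 9, 11], [0, 1, 2, 5, 7, 9, 10], [0, 1, 2, 5, 7, 8, 9, 10], [1, 2, 4, 5, 9], [1, 2, 4, 5, 8, 9], [0, 1, 2, 4, 5, 9, 10, 11], [0, 1, 2, 4, 5, 8, 9, 10, 11], [1, 2, 5, 6, 9], [1, 2, 5, 6, 8, 9], [0, 1, 2, 5, 6, 9, 10, 11], [0, 1, 2, 5, 6, 8, 9, 10, 11], [1, 2, 4, 5, 6, 7, 9, 11], [1, 2, 4, 5, 6, 7, 8, 9, 11], [0, 1, 2, 4, 5, 6, 7, 9, 10], [0, 1, 2, 4, 5, 6, 7, 8, 9, 10], [1, 2, 5, 6, 7, 9], [1, 2, 5, 6, 7, 8, 9],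 [0, 1, 2, 5, 6, 7, 9, 10, 11], [0, 1, 2, 5, 6, 7, 8, 9, 10, 11], [1, 2, 4, 5, 6, 9, 11], [1, 2, 4, 5, 6, 8, 9, 11], [0, 1, 2, 4, 5, 6, 9, 10], [0, 1, 2, 4, 5, 6, 8, 9, 10], [1, 2, 5, 6, 9, 11], [1, 2, 5, 6, 8, 9, 11], [0, 1, 2, 5, 6, 9, 10], [0, 1, 2, 5, 6, 8, 9, 10], [1, 2, 4, 5, 6, 7, 9], [1, 2, 4, 5, 6, 7, 8, 9], [0, 1, 2, 4, 5, 6, 7, 9, 10, 11], [0, 1, 2, 4, 5, 6, 7, 8, 9, 10, 11], [1, 2, 5, 6, 7, 9, 11], [1, 2, 5, 6, 7, 8, 9, 11], [0, 1, 2, 5, 6, 7, 9, 10], [0, 1, 2, 5, 6, 7, 8, 9, 10], [1, 2, 4, 5, 6, 9], [1, 2, 4, 5, 6, 8, 9], [0, 1, 2, 4, 5, 6, 9, 10, 11], [0, 1, 2, 4, 5, 6, 8, 9, 10, 11], [2, 9, 10], [2, 8, 9, 10], [0, 2, 9], [0, 2, 8, 9], [2, 4, 7, 9, 10, 11], [2, 4, 7, 8, 9, 10, 11], [0, 2, 4, 7,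 9, 11], [0, 2, 4, 7, 8, 9, 11], [2, 7, 9, 10], [2, 7, 8, 9, 10], [0, 2, 7, 9], [0, 2, 7, 8, 9], [2, 4, 9, 10, 11], [2, 4, 8, 9, 10, 11], [0, 2, 4, 9, 11], [0, 2, 4, 8, 9, 11], [2, 9, 10, 11], [2, 8, 9, 10, 11], [0, 2, 9, 11], [0, 2, 8, 9, 11], [2, 4, 7, 9, 10], [2, 4, 7, 8, 9, 10], [0, 2, 4, 7, 9], [0, 2, 4, 7, 8, 9], [2, 7, 9, 10, 11], [2, 7, 8, 9, 10, 11], [0, 2, 7, 9, 11], [0, 2, 7, 8, 9, 11], [2, 4, 9, 10], [2, 4, 8, 9, 10], [0, 2, 4, 9], [0, 2, 4, 8, 9], [2, 6, 9, 10], [2, 6, 8, 9, 10], [0, 2, 6, 9], [0, 2, 6, 8, 9], [2, 4, 6, 7, 9, 10, 11], [2, 4, 6, 7, 8, 9, 10, 11], [0, 2, 4, 6, 7, 9, 11], [0, 2, 4, 6, 7, 8, 9, 11], [2, 6, 7, 9, 10], [2, 6, 7, 8, 9, 10], [0, 2, 6, 7, 9], [0, 2, 6, 7, 8, 9], [2, 4,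 6, 9, 10, 11], [2, 4, 6, 8, 9, 10, 11], [0, 2, 4, 6, 9, 11], [0, 2, 4, 6, 8, 9, 11], [2, 6, 9, 10, 11], [2, 6, 8, 9, 10, 11], [0, 2, 6, 9, 11], [0, 2, 6, 8, 9, 11], [2, 4, 6, 7, 9, 10], [2, 4, 6, 7, 8, 9, 10], [0, 2, 4, 6, 7, 9], [0, 2, 4, 6, 7, 8, 9], [2, 6, 7, 9, 10, 11], [2, 6, 7, 8, 9, 10, 11], [0, 2, 6, 7, 9, 11], [0, 2, 6, 7, 8, 9, 11], [2, 4, 6, 9, 10], [2, 4, 6, 8, 9, 10], [0, 2, 4, 6, 9], [0, 2, 4, 6, 8, 9], [1, 2, 9, 10], [1, 2, 8, 9, 10], [0, 1, 2, 9, 11], [0, 1, 2, 8, 9, 11], [1, 2, 4, 7, 9, 10, 11], [1, 2, 4, 7, 8, 9, 10, 11], [0, 1, 2, 4, 7, 9], [0, 1, 2, 4, 7, 8, 9], [1, 2, 7, 9, 10], [1, 2, 7, 8, 9, 10], [0, 1, 2, 7, 9, 11], [0, 1, 2, 7, 8, 9, 11], [1, 2, 4, 9, 10, 11], [1, 2, 4, 8, 9, 10,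 11], [0, 1, 2, 4, 9], [0, 1, 2, 4, 8, 9], [1, 2, 9, 10, 11], [1, 2, 8, 9, 10, 11], [0, 1, 2, 9], [0, 1, 2, 8, 9], [1, 2, 4, 7, 9, 10], [1, 2, 4, 7, 8, 9, 10], [0, 1, 2, 4, 7, 9, 11], [0, 1, 2, 4, 7, 8, 9, 11], [1, 2, 7, 9, 10, 11], [1, 2, 7, 8, 9, 10, 11], [0, 1, 2, 7, 9], [0, 1, 2, 7, 8, 9], [1, 2, 4, 9, 10], [1, 2, 4, 8, 9, 10], [0, 1, 2, 4, 9, 11], [0, 1, 2, 4, 8, 9, 11], [1, 2, 6, 9, 10], [1, 2, 6, 8, 9, 10], [0, 1, 2, 6, 9], [0, 1, 2, 6, 8, 9], [1, 2, 4, 6, 7, 9, 10, 11], [1, 2, 4, 6, 7, 8, 9, 10, 11], [0, 1, 2, 4, 6, 7, 9, 11], [0, 1, 2, 4, 6, 7, 8, 9, 11], [1, 2, 6, 7, 9, 10], [1, 2, 6, 7, 8, 9, 10], [0, 1, 2, 6, 7, 9], [0, 1, 2, 6, 7, 8, 9], [1, 2, 4, 6, 9, 10, 11], [1, 2, 4, 6, 8, 9, 10, 11], [0,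 1, 2, 4, 6, 9, 11], [0, 1, 2, 4, 6, 8, 9, 11], [1, 2, 6, 9, 10, 11], [1, 2, 6, 8, 9, 10, 11], [0, 1, 2, 6, 9, 11], [0, 1, 2, 6, 8, 9, 11], [1, 2, 4, 6, 7, 9, 10], [1, 2, 4, 6, 7, 8, 9, 10], [0, 1, 2, 4, 6, 7, 9], [0, 1, 2, 4, 6, 7, 8, 9], [1, 2, 6, 7, 9, 10, 11], [1, 2, 6, 7, 8, 9, 10, 11], [0, 1, 2, 6, 7, 9, 11], [0, 1, 2, 6, 7, 8, 9, 11], [1, 2, 4, 6, 9, 10], [1, 2, 4, 6, 8, 9, 10], [0, 1, 2, 4, 6, 9], [0, 1, 2, 4, 6, 8, 9], [2, 5, 9, 10], [2, 5, 8, 9, 10], [0, 2, 5, 9], [0, 2, 5, 8, 9], [2, 4, 5, 7, 9, 10, 11], [2, 4, 5, 7, 8, 9, 10, 11], [0, 2, 4, 5, 7, 9, 11], [0, 2, 4, 5, 7, 8, 9, 11], [2, 5, 7, 9, 10], [2, 5, 7, 8, 9, 10], [0, 2, 5, 7, 9], [0, 2, 5, 7, 8, 9], [2, 4, 5, 9, 10, 11], [2, 4, 5, 8, 9, 10,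 11], [0, 2, 4, 5, 9, 11], [0, 2, 4, 5, 8, 9, 11], [2, 5, 9, 10, 11], [2, 5, 8, 9, 10, 11], [0, 2, 5, 9, 11], [0, 2, 5, 8, 9, 11], [2, 4, 5, 7, 9, 10], [2, 4, 5, 7, 8, 9, 10], [0, 2, 4, 5, 7, 9], [0, 2, 4, 5, 7, 8, 9], [2, 5, 7, 9, 10, 11], [2, 5, 7, 8, 9, 10, 11], [0, 2, 5, 7, 9, 11], [0, 2, 5, 7, 8, 9, 11], [2, 4, 5, 9, 10], [2, 4, 5, 8, 9, 10], [0, 2, 4, 5, 9], [0, 2, 4, 5, 8, 9], [2, 5, 6, 9, 10], [2, 5, 6, 8, 9, 10], [0, 2, 5, 6, 9, 11], [0, 2, 5, 6, 8, 9, 11], [2, 4, 5, 6, 7, 9, 10, 11], [2, 4, 5, 6, 7, 8, 9, 10, 11], [0, 2, 4, 5, 6, 7, 9], [0, 2, 4, 5, 6, 7, 8, 9], [2, 5, 6, 7, 9, 10], [2, 5, 6, 7, 8, 9, 10], [0, 2, 5, 6, 7, 9, 11], [0, 2, 5, 6, 7, 8, 9, 11], [2, 4, 5, 6, 9, 10, 11], [2, 4, 5, 6, 8,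 9, 10, 11], [0, 2, 4, 5, 6, 9], [0, 2, 4, 5, 6, 8, 9], [2, 5, 6, 9, 10, 11], [2, 5, 6, 8, 9, 10, 11], [0, 2, 5, 6, 9], [0, 2, 5, 6, 8, 9], [2, 4, 5, 6, 7, 9, 10], [2, 4, 5, 6, 7, 8, 9, 10], [0, 2, 4, 5, 6, 7, 9, 11], [0, 2, 4, 5, 6, 7, 8, 9, 11], [2, 5, 6, 7, 9, 10, 11], [2, 5, 6, 7, 8, 9, 10, 11], [0, 2, 5, 6, 7, 9], [0, 2, 5, 6, 7, 8, 9], [2, 4, 5, 6, 9, 10], [2, 4, 5, 6, 8, 9, 10], [0, 2, 4, 5, 6, 9, 11], [0, 2, 4, 5, 6, 8, 9, 11], [1, 2, 5, 9, 10], [1, 2, 5, 8, 9, 10], [0, 1, 2, 5, 9, 11], [0, 1, 2, 5, 8, 9, 11], [1, 2, 4, 5, 7, 9, 10, 11], [1, 2, 4, 5, 7, 8, 9, 10, 11], [0, 1, 2, 4, 5, 7, 9], [0, 1, 2, 4, 5, 7, 8, 9], [1, 2, 5, 7, 9, 10], [1, 2, 5, 7, 8, 9, 10], [0, 1, 2, 5, 7, 9, 11], [0, 1, 2, 5, 7,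 8, 9, 11], [1, 2, 4, 5, 9, 10, 11], [1, 2, 4, 5, 8, 9, 10, 11], [0, 1, 2, 4, 5, 9], [0, 1, 2, 4, 5, 8, 9], [1, 2, 5, 9, 10, 11], [1, 2, 5, 8, 9, 10, 11], [0, 1, 2, 5, 9], [0, 1, 2, 5, 8, 9], [1, 2, 4, 5, 7, 9, 10], [1, 2, 4, 5, 7, 8, 9, 10], [0, 1, 2, 4, 5, 7, 9, 11], [0, 1, 2, 4, 5, 7, 8, 9, 11], [1, 2, 5, 7, 9, 10, 11], [1, 2, 5, 7, 8, 9, 10, 11], [0, 1, 2, 5, 7, 9], [0, 1, 2, 5, 7, 8, 9], [1, 2, 4, 5, 9, 10], [1, 2, 4, 5, 8, 9, 10], [0, 1, 2, 4, 5, 9, 11], [0, 1, 2, 4, 5, 8, 9, 11], [1, 2, 5, 6, 9, 10], [1, 2, 5, 6, 8, 9, 10], [0, 1, 2, 5, 6, 9, 11], [0, 1, 2, 5, 6, 8, 9, 11], [1, 2, 4, 5, 6, 7, 9, 10, 11], [1, 2, 4, 5, 6, 7, 8, 9, 10, 11], [0, 1, 2, 4, 5, 6, 7, 9], [0, 1, 2, 4, 5, 6, 7, 8, 9], [1, 2, 5,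 6, 7, 9, 10], [1, 2, 5, 6, 7, 8, 9, 10], [0, 1, 2, 5, 6, 7, 9, 11], [0, 1, 2, 5, 6, 7, 8, 9, 11], [1, 2, 4, 5, 6, 9, 10, 11], [1, 2, 4, 5, 6, 8, 9, 10, 11], [0, 1, 2, 4, 5, 6, 9], [0, 1, 2, 4, 5, 6, 8, 9], [1, 2, 5, 6, 9, 10, 11], [1, 2, 5, 6, 8, 9, 10, 11], [0, 1, 2, 5, 6, 9], [0, 1, 2, 5, 6, 8, 9], [1, 2, 4, 5, 6, 7, 9, 10], [1, 2, 4, 5, 6, 7, 8, 9, 10], [0, 1, 2, 4, 5, 6, 7, 9, 11], [0, 1, 2, 4, 5, 6, 7, 8, 9, 11], [1, 2, 5, 6, 7, 9, 10, 11], [1, 2, 5, 6, 7, 8, 9, 10, 11], [0, 1, 2, 5, 6, 7, 9], [0, 1, 2, 5, 6, 7, 8, 9], [1, 2, 4, 5, 6, 9, 10], [1, 2, 4, 5, 6, 8, 9, 10], [0, 1, 2, 4, 5, 6, 9, 11], [0, 1, 2, 4, 5, 6, 8, 9, 11], [2, 3], [2, 3, 8], [0, 2, 3], [0, 2, 3, 8], [2, 3, 4, 7, 8], [2, 3, 4, 7], [0,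 2, 3, 4, 7, 8], [0, 2, 3, 4, 7], [2, 3, 7], [2, 3, 7, 8], [0, 2, 3, 7], [0, 2, 3, 7, 8], [2, 3, 4, 8], [2, 3, 4], [0, 2, 3, 4, 8], [0, 2, 3, 4], [2, 3, 11], [2, 3, 8, 11], [0, 2, 3, 11], [0, 2, 3, 8, 11], [2, 3, 4, 7, 8, 11], [2, 3, 4, 7, 11], [0, 2, 3, 4, 7, 8, 11], [0, 2, 3, 4, 7, 11], [2, 3, 7, 11], [2, 3, 7, 8, 11], [0, 2, 3, 7, 11], [0, 2, 3, 7, 8, 11], [2, 3, 4, 8, 11], [2, 3, 4, 11], [0, 2, 3, 4, 8, 11], [0, 2, 3, 4, 11], [2, 3, 6], [2, 3, 6, 8], [0, 2, 3, 6], [0, 2, 3, 6, 8], [2, 3, 4, 6, 7, 8], [2, 3, 4, 6, 7], [0, 2, 3, 4, 6, 7, 8], [0, 2, 3, 4, 6, 7], [2, 3, 6, 7], [2, 3, 6, 7, 8], [0, 2, 3, 6, 7], [0, 2, 3, 6, 7, 8], [2, 3, 4, 6, 8], [2, 3, 4, 6], [0, 2, 3, 4, 6, 8], [0, 2, 3, 4, 6], [2, 3, 6,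 11], [2, 3, 6, 8, 11], [0, 2, 3, 6, 11], [0, 2, 3, 6, 8, 11], [2, 3, 4, 6, 7, 8, 11], [2, 3, 4, 6, 7, 11], [0, 2, 3, 4, 6, 7, 8, 11], [0, 2, 3, 4, 6, 7, 11], [2, 3, 6, 7, 11], [2, 3, 6, 7, 8, 11], [0, 2, 3, 6, 7, 11], [0, 2, 3, 6, 7, 8, 11], [2, 3, 4, 6, 8, 11], [2, 3, 4, 6, 11], [0, 2, 3, 4, 6, 8, 11], [0, 2, 3, 4, 6, 11], [1, 2, 3, 9], [1, 2, 3, 8, 9], [0, 1, 2, 3, 9, 11], [0, 1, 2, 3, 8, 9, 11], [1, 2, 3, 4, 7, 8, 9, 11], [1, 2, 3, 4, 7, 9, 11], [0, 1, 2, 3, 4, 7, 8, 9], [0, 1, 2, 3, 4, 7, 9], [1, 2, 3, 7, 9], [1, 2, 3, 7, 8, 9], [0, 1, 2, 3, 7, 9, 11], [0, 1, 2, 3, 7, 8, 9, 11], [1, 2, 3, 4, 8, 9, 11], [1, 2, 3, 4, 9, 11], [0, 1, 2, 3, 4, 8, 9], [0, 1, 2, 3, 4, 9], [1, 2, 3, 9, 11], [1, 2, 3, 8, 9, 11],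 [0, 1, 2, 3, 9], [0, 1, 2, 3, 8, 9], [1, 2, 3, 4, 7, 8, 9], [1, 2, 3, 4, 7, 9], [0, 1, 2, 3, 4, 7, 8, 9, 11], [0, 1, 2, 3, 4, 7, 9, 11], [1, 2, 3, 7, 9, 11], [1, 2, 3, 7, 8, 9, 11], [0, 1, 2, 3, 7, 9], [0, 1, 2, 3, 7, 8, 9], [1, 2, 3, 4, 8, 9], [1, 2, 3, 4, 9], [0, 1, 2, 3, 4, 8, 9, 11], [0, 1, 2, 3, 4, 9, 11], [1, 2, 3, 6, 9], [1, 2, 3, 6, 8, 9], [0, 1, 2, 3, 6, 9], [0, 1, 2, 3, 6, 8, 9], [1, 2, 3, 4, 6, 7, 8, 9, 11], [1, 2, 3, 4, 6, 7, 9, 11], [0, 1, 2, 3, 4, 6, 7, 8, 9, 11], [0, 1, 2, 3, 4, 6, 7, 9, 11], [1, 2, 3, 6, 7, 9], [1, 2, 3, 6, 7, 8, 9], [0, 1, 2, 3, 6, 7, 9], [0, 1, 2, 3, 6, 7, 8, 9], [1, 2, 3, 4, 6, 8, 9, 11], [1, 2, 3, 4, 6, 9, 11], [0, 1, 2, 3, 4, 6, 8, 9, 11], [0, 1, 2, 3, 4, 6, 9, 11], [1,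 2, 3, 6, 9, 11], [1, 2, 3, 6, 8, 9, 11], [0, 1, 2, 3, 6, 9, 11], [0, 1, 2, 3, 6, 8, 9, 11], [1, 2, 3, 4, 6, 7, 8, 9], [1, 2, 3, 4, 6, 7, 9], [0, 1, 2, 3, 4, 6, 7, 8, 9], [0, 1, 2, 3, 4, 6, 7, 9], [1, 2, 3, 6, 7, 9, 11], [1, 2, 3, 6, 7, 8, 9, 11], [0, 1, 2, 3, 6, 7, 9, 11], [0, 1, 2, 3, 6, 7, 8, 9, 11], [1, 2, 3, 4, 6, 8, 9], [1, 2, 3, 4, 6, 9], [0, 1, 2, 3, 4, 6, 8, 9], [0, 1, 2, 3, 4, 6, 9], [2, 3, 5], [2, 3, 5, 8], [0, 2, 3, 5], [0, 2, 3, 5, 8], [2, 3, 4, 5, 7, 8], [2, 3, 4, 5, 7], [0, 2, 3, 4, 5, 7, 8], [0, 2, 3, 4, 5, 7], [2, 3, 5, 7], [2, 3, 5, 7, 8], [0, 2, 3, 5, 7], [0, 2, 3, 5, 7, 8], [2, 3, 4, 5, 8], [2, 3, 4, 5], [0, 2, 3, 4, 5, 8], [0, 2, 3, 4, 5], [2, 3, 5, 11], [2, 3, 5, 8, 11], [0, 2, 3, 5, 11],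 [0, 2, 3, 5, 8, 11], [2, 3, 4, 5, 7, 8, 11], [2, 3, 4, 5, 7, 11], [0, 2, 3, 4, 5, 7, 8, 11], [0, 2, 3, 4, 5, 7, 11], [2, 3, 5, 7, 11], [2, 3, 5, 7, 8, 11], [0, 2, 3, 5, 7, 11], [0, 2, 3, 5, 7, 8, 11], [2, 3, 4, 5, 8, 11], [2, 3, 4, 5, 11], [0, 2, 3, 4, 5, 8, 11], [0, 2, 3, 4, 5, 11], [2, 3, 5, 6], [2, 3, 5, 6, 8], [0, 2, 3, 5, 6, 11], [0, 2, 3, 5, 6, 8, 11], [2, 3, 4, 5, 6, 7, 8], [2, 3, 4, 5, 6, 7], [0, 2, 3, 4, 5, 6, 7, 8, 11], [0, 2, 3, 4, 5, 6, 7, 11], [2, 3, 5, 6, 7], [2, 3, 5, 6, 7, 8], [0, 2, 3, 5, 6, 7, 11], [0, 2, 3, 5, 6, 7, 8, 11], [2, 3, 4, 5, 6, 8], [2, 3, 4, 5, 6], [0, 2, 3, 4, 5, 6, 8, 11], [0, 2, 3, 4, 5, 6, 11], [2, 3, 5, 6, 11], [2, 3, 5, 6, 8, 11], [0, 2, 3, 5, 6], [0, 2, 3, 5, 6, 8], [2,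 3, 4, 5, 6, 7, 8, 11], [2, 3, 4, 5, 6, 7, 11], [0, 2, 3, 4, 5, 6, 7, 8], [0, 2, 3, 4, 5, 6, 7], [2, 3, 5, 6, 7, 11], [2, 3, 5, 6, 7, 8, 11], [0, 2, 3, 5, 6, 7], [0, 2, 3, 5, 6, 7, 8], [2, 3, 4, 5, 6, 8, 11], [2, 3, 4, 5, 6, 11], [0, 2, 3, 4, 5, 6, 8], [0, 2, 3, 4, 5, 6], [1, 2, 3, 5, 9], [1, 2, 3, 5, 8, 9], [0, 1, 2, 3, 5, 9], [0, 1, 2, 3, 5, 8, 9], [1, 2, 3, 4, 5, 7, 8, 9, 11], [1, 2, 3, 4, 5, 7, 9, 11], [0, 1, 2, 3, 4, 5, 7, 8, 9, 11], [0, 1, 2, 3, 4, 5, 7, 9, 11], [1, 2, 3, 5, 7, 9], [1, 2, 3, 5, 7, 8, 9], [0, 1, 2, 3, 5, 7, 9], [0, 1, 2, 3, 5, 7, 8, 9], [1, 2, 3, 4, 5, 8, 9, 11], [1, 2, 3, 4, 5, 9, 11], [0, 1, 2, 3, 4, 5, 8, 9, 11], [0, 1, 2, 3, 4, 5, 9, 11], [1, 2, 3, 5, 9, 11], [1, 2, 3, 5, 8, 9, 11],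 [0, 1, 2, 3, 5, 9, 11], [0, 1, 2, 3, 5, 8, 9, 11], [1, 2, 3, 4, 5, 7, 8, 9], [1, 2, 3, 4, 5, 7, 9], [0, 1, 2, 3, 4, 5, 7, 8, 9], [0, 1, 2, 3, 4, 5, 7, 9], [1, 2, 3, 5, 7, 9, 11], [1, 2, 3, 5, 7, 8, 9, 11], [0, 1, 2, 3, 5, 7, 9, 11], [0, 1, 2, 3, 5, 7, 8, 9, 11], [1, 2, 3, 4, 5, 8, 9], [1, 2, 3, 4, 5, 9], [0, 1, 2, 3, 4, 5, 8, 9], [0, 1, 2, 3, 4, 5, 9], [1, 2, 3, 5, 6, 9], [1, 2, 3, 5, 6, 8, 9], [0, 1, 2, 3, 5, 6, 9], [0, 1, 2, 3, 5, 6, 8, 9], [1, 2, 3, 4, 5, 6, 7, 8, 9, 11], [1, 2, 3, 4, 5, 6, 7, 9, 11], [0, 1, 2, 3, 4, 5, 6, 7, 8, 9, 11], [0, 1, 2, 3, 4, 5, 6, 7, 9, 11], [1, 2, 3, 5, 6, 7, 9], [1, 2, 3, 5, 6, 7, 8, 9], [0, 1, 2, 3, 5, 6, 7, 9], [0, 1, 2, 3, 5, 6, 7, 8, 9], [1, 2, 3, 4, 5, 6, 8, 9, 11], [1,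 2, 3, 4, 5, 6, 9, 11], [0, 1, 2, 3, 4, 5, 6, 8, 9, 11], [0, 1, 2, 3, 4, 5, 6, 9, 11], [1, 2, 3, 5, 6, 9, 11], [1, 2, 3, 5, 6, 8, 9, 11], [0, 1, 2, 3, 5, 6, 9, 11], [0, 1, 2, 3, 5, 6, 8, 9, 11], [1, 2, 3, 4, 5, 6, 7, 8, 9], [1, 2, 3, 4, 5, 6, 7, 9], [0, 1, 2, 3, 4, 5, 6, 7, 8, 9], [0, 1, 2, 3, 4, 5, 6, 7, 9], [1, 2, 3, 5, 6, 7, 9, 11], [1, 2, 3, 5, 6, 7, 8, 9, 11], [0, 1, 2, 3, 5, 6, 7, 9, 11], [0, 1, 2, 3, 5, 6, 7, 8, 9, 11], [1, 2, 3, 4, 5, 6, 8, 9], [1, 2, 3, 4, 5, 6, 9], [0, 1, 2, 3, 4, 5, 6, 8, 9], [0, 1, 2, 3, 4, 5, 6, 9], [2, 3, 10], [2, 3, 8, 10], [0, 2, 3, 10], [0, 2, 3, 8, 10], [2, 3, 4, 7, 8, 10], [2, 3, 4, 7, 10], [0, 2, 3, 4, 7, 8, 10], [0, 2, 3, 4, 7, 10], [2, 3, 7, 10], [2, 3, 7, 8, 10], [0,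 2, 3, 7, 10], [0, 2, 3, 7, 8, 10], [2, 3, 4, 8, 10], [2, 3, 4, 10], [0, 2, 3, 4, 8, 10], [0, 2, 3, 4, 10], [2, 3, 10, 11], [2, 3, 8, 10, 11], [0, 2, 3, 10, 11], [0, 2, 3, 8, 10, 11], [2, 3, 4, 7, 8, 10, 11], [2, 3, 4, 7, 10, 11], [0, 2, 3, 4, 7, 8, 10, 11], [0, 2, 3, 4, 7, 10, 11], [2, 3, 7, 10, 11], [2, 3, 7, 8, 10, 11], [0, 2, 3, 7, 10, 11], [0, 2, 3, 7, 8, 10, 11], [2, 3, 4, 8, 10, 11], [2, 3, 4, 10, 11], [0, 2, 3, 4, 8, 10, 11], [0, 2, 3, 4, 10, 11], [2, 3, 6, 10], [2, 3, 6, 8, 10], [0, 2, 3, 6, 10], [0, 2, 3, 6, 8, 10], [2, 3, 4, 6, 7, 8, 10], [2, 3, 4, 6, 7, 10], [0, 2, 3, 4, 6, 7, 8, 10], [0, 2, 3, 4, 6, 7, 10], [2, 3, 6, 7, 10], [2, 3, 6, 7, 8, 10], [0, 2, 3, 6, 7, 10], [0, 2, 3, 6, 7, 8, 10], [2,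 3, 4, 6, 8, 10], [2, 3, 4, 6, 10], [0, 2, 3, 4, 6, 8, 10], [0, 2, 3, 4, 6, 10], [2, 3, 6, 10, 11], [2, 3, 6, 8, 10, 11], [0, 2, 3, 6, 10, 11], [0, 2, 3, 6, 8, 10, 11], [2, 3, 4, 6, 7, 8, 10, 11], [2, 3, 4, 6, 7, 10, 11], [0, 2, 3, 4, 6, 7, 8, 10, 11], [0, 2, 3, 4, 6, 7, 10, 11], [2, 3, 6, 7, 10, 11], [2, 3, 6, 7, 8, 10, 11], [0, 2, 3, 6, 7, 10, 11], [0, 2, 3, 6, 7, 8, 10, 11], [2, 3, 4, 6, 8, 10, 11], [2, 3, 4, 6, 10, 11], [0, 2, 3, 4, 6, 8, 10, 11], [0, 2, 3, 4, 6, 10, 11], [1, 2, 3, 9, 10], [1, 2, 3, 8, 9, 10], [0, 1, 2, 3, 9, 10, 11], [0, 1, 2, 3, 8, 9, 10, 11], [1, 2, 3, 4, 7, 8, 9, 10, 11], [1, 2, 3, 4, 7, 9, 10, 11], [0, 1, 2, 3, 4, 7, 8, 9, 10], [0, 1, 2, 3, 4, 7, 9, 10], [1, 2, 3, 7, 9, 10], [1, 2,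 3, 7, 8, 9, 10], [0, 1, 2, 3, 7, 9, 10, 11], [0, 1, 2, 3, 7, 8, 9, 10, 11], [1, 2, 3, 4, 8, 9, 10, 11], [1, 2, 3, 4, 9, 10, 11], [0, 1, 2, 3, 4, 8, 9, 10], [0, 1, 2, 3, 4, 9, 10], [1, 2, 3, 9, 10, 11], [1, 2, 3, 8, 9, 10, 11], [0, 1, 2, 3, 9, 10], [0, 1, 2, 3, 8, 9, 10], [1, 2, 3, 4, 7, 8, 9, 10], [1, 2, 3, 4, 7, 9, 10], [0, 1, 2, 3, 4, 7, 8, 9, 10, 11], [0, 1, 2, 3, 4, 7, 9, 10, 11], [1, 2, 3, 7, 9, 10, 11], [1, 2, 3, 7, 8, 9, 10, 11], [0, 1, 2, 3, 7, 9, 10], [0, 1, 2, 3, 7, 8, 9, 10], [1, 2, 3, 4, 8, 9, 10], [1, 2, 3, 4, 9, 10], [0, 1, 2, 3, 4, 8, 9, 10, 11], [0, 1, 2, 3, 4, 9, 10, 11], [1, 2, 3, 6, 9, 10], [1, 2, 3, 6, 8, 9, 10], [0, 1, 2, 3, 6, 9, 10], [0, 1, 2, 3, 6, 8, 9, 10], [1, 2, 3, 4, 6, 7, 8, 9,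 10, 11], [1, 2, 3, 4, 6, 7, 9, 10, 11], [0, 1, 2, 3, 4, 6, 7, 8, 9, 10, 11], [0, 1, 2, 3, 4, 6, 7, 9, 10, 11], [1, 2, 3, 6, 7, 9, 10], [1, 2, 3, 6, 7, 8, 9, 10], [0, 1, 2, 3, 6, 7, 9, 10], [0, 1, 2, 3, 6, 7, 8, 9, 10], [1, 2, 3, 4, 6, 8, 9, 10, 11], [1, 2, 3, 4, 6, 9, 10, 11], [0, 1, 2, 3, 4, 6, 8, 9, 10, 11], [0, 1, 2, 3, 4, 6, 9, 10, 11], [1, 2, 3, 6, 9, 10, 11], [1, 2, 3, 6, 8, 9, 10, 11], [0, 1, 2, 3, 6, 9, 10, 11], [0, 1, 2, 3, 6, 8, 9, 10, 11], [1, 2, 3, 4, 6, 7, 8, 9, 10], [1, 2, 3, 4, 6, 7, 9, 10], [0, 1, 2, 3, 4, 6, 7, 8, 9, 10], [0, 1, 2, 3, 4, 6, 7, 9, 10], [1, 2, 3, 6, 7, 9, 10, 11], [1, 2, 3, 6, 7, 8, 9, 10, 11], [0, 1, 2, 3, 6, 7, 9, 10, 11], [0, 1, 2, 3, 6, 7, 8, 9, 10, 11], [1, 2, 3, 4, 6,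 8, 9, 10], [1, 2, 3, 4, 6, 9, 10], [0, 1, 2, 3, 4, 6, 8, 9, 10], [0, 1, 2, 3, 4, 6, 9, 10], [2, 3, 5, 10], [2, 3, 5, 8, 10], [0, 2, 3, 5, 10], [0, 2, 3, 5, 8, 10], [2, 3, 4, 5, 7, 8, 10], [2, 3, 4, 5, 7, 10], [0, 2, 3, 4, 5, 7, 8, 10], [0, 2, 3, 4, 5, 7, 10], [2, 3, 5, 7, 10], [2, 3, 5, 7, 8, 10], [0, 2, 3, 5, 7, 10], [0, 2, 3, 5, 7, 8, 10], [2, 3, 4, 5, 8, 10], [2, 3, 4, 5, 10], [0, 2, 3, 4, 5, 8, 10], [0, 2, 3, 4, 5, 10], [2, 3, 5, 10, 11], [2, 3, 5, 8, 10, 11], [0, 2, 3, 5, 10, 11], [0, 2, 3, 5, 8, 10, 11], [2, 3, 4, 5, 7, 8, 10, 11], [2, 3, 4, 5, 7, 10, 11], [0, 2, 3, 4, 5, 7, 8, 10, 11], [0, 2, 3, 4, 5, 7, 10, 11], [2, 3, 5, 7, 10, 11], [2, 3, 5, 7, 8, 10, 11], [0, 2, 3, 5, 7, 10, 11], [0, 2, 3, 5, 7,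 8, 10, 11], [2, 3, 4, 5, 8, 10, 11], [2, 3, 4, 5, 10, 11], [0, 2, 3, 4, 5, 8, 10, 11], [0, 2, 3, 4, 5, 10, 11], [2, 3, 5, 6, 10], [2, 3, 5, 6, 8, 10], [0, 2, 3, 5, 6, 10, 11], [0, 2, 3, 5, 6, 8, 10, 11], [2, 3, 4, 5, 6, 7, 8, 10], [2, 3, 4, 5, 6, 7, 10], [0, 2, 3, 4, 5, 6, 7, 8, 10, 11], [0, 2, 3, 4, 5, 6, 7, 10, 11], [2, 3, 5, 6, 7, 10], [2, 3, 5, 6, 7, 8, 10], [0, 2, 3, 5, 6, 7, 10, 11], [0, 2, 3, 5, 6, 7, 8, 10, 11], [2, 3, 4, 5, 6, 8, 10], [2, 3, 4, 5, 6, 10], [0, 2, 3, 4, 5, 6, 8, 10, 11], [0, 2, 3, 4, 5, 6, 10, 11], [2, 3, 5, 6, 10, 11], [2, 3, 5, 6, 8, 10, 11], [0, 2, 3, 5, 6, 10], [0, 2, 3, 5, 6, 8, 10], [2, 3, 4, 5, 6, 7, 8, 10, 11], [2, 3, 4, 5, 6, 7, 10, 11], [0, 2, 3, 4, 5, 6, 7, 8, 10], [0, 2,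 3, 4, 5, 6, 7, 10], [2, 3, 5, 6, 7, 10, 11], [2, 3, 5, 6, 7, 8, 10, 11], [0, 2, 3, 5, 6, 7, 10], [0, 2, 3, 5, 6, 7, 8, 10], [2, 3, 4, 5, 6, 8, 10, 11], [2, 3, 4, 5, 6, 10, 11], [0, 2, 3, 4, 5, 6, 8, 10], [0, 2, 3, 4, 5, 6, 10], [1, 2, 3, 5, 9, 10], [1, 2, 3, 5, 8, 9, 10], [0, 1, 2, 3, 5, 9, 10], [0, 1, 2, 3, 5, 8, 9, 10], [1, 2, 3, 4, 5, 7, 8, 9, 10, 11], [1, 2, 3, 4, 5, 7, 9, 10, 11], [0, 1, 2, 3, 4, 5, 7, 8, 9, 10, 11], [0, 1, 2, 3, 4, 5, 7, 9, 10, 11], [1, 2, 3, 5, 7, 9, 10], [1, 2, 3, 5, 7, 8, 9, 10], [0, 1, 2, 3, 5, 7, 9, 10], [0, 1, 2, 3, 5, 7, 8, 9, 10], [1, 2, 3, 4, 5, 8, 9, 10, 11], [1, 2, 3, 4, 5, 9, 10, 11], [0, 1, 2, 3, 4, 5, 8, 9, 10, 11], [0, 1, 2, 3, 4, 5, 9, 10, 11], [1, 2, 3, 5, 9, 10, 11],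 [1, 2, 3, 5, 8, 9, 10, 11], [0, 1, 2, 3, 5, 9, 10, 11], [0, 1, 2, 3, 5, 8, 9, 10, 11], [1, 2, 3, 4, 5, 7, 8, 9, 10], [1, 2, 3, 4, 5, 7, 9, 10], [0, 1, 2, 3, 4, 5, 7, 8, 9, 10], [0, 1, 2, 3, 4, 5, 7, 9, 10], [1, 2, 3, 5, 7, 9, 10, 11], [1, 2, 3, 5, 7, 8, 9, 10, 11], [0, 1, 2, 3, 5, 7, 9, 10, 11], [0, 1, 2, 3, 5, 7, 8, 9, 10, 11], [1, 2, 3, 4, 5, 8, 9, 10], [1, 2, 3, 4, 5, 9, 10], [0, 1, 2, 3, 4, 5, 8, 9, 10], [0, 1, 2, 3, 4, 5, 9, 10], [1, 2, 3, 5, 6, 9, 10], [1, 2, 3, 5, 6, 8, 9, 10], [0, 1, 2, 3, 5, 6, 9, 10], [0, 1, 2, 3, 5, 6, 8, 9, 10], [1, 2, 3, 4, 5, 6, 7, 8, 9, 10, 11], [1, 2, 3, 4, 5, 6, 7, 9, 10, 11], [0, 1, 2, 3, 4, 5, 6, 7, 8, 9, 10, 11], [0, 1, 2, 3, 4, 5, 6, 7, 9, 10, 11], [1, 2, 3, 5, 6, 7, 9,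 10], [1, 2, 3, 5, 6, 7, 8, 9, 10], [0, 1, 2, 3, 5, 6, 7, 9, 10], [0, 1, 2, 3, 5, 6, 7, 8, 9, 10], [1, 2, 3, 4, 5, 6, 8, 9, 10, 11], [1, 2, 3, 4, 5, 6, 9, 10, 11], [0, 1, 2, 3, 4, 5, 6, 8, 9, 10, 11], [0, 1, 2, 3, 4, 5, 6, 9, 10, 11], [1, 2, 3, 5, 6, 9, 10, 11], [1, 2, 3, 5, 6, 8, 9, 10, 11], [0, 1, 2, 3, 5, 6, 9, 10, 11], [0, 1, 2, 3, 5, 6, 8, 9, 10, 11], [1, 2, 3, 4, 5, 6, 7, 8, 9, 10], [1, 2, 3, 4, 5, 6, 7, 9, 10], [0, 1, 2, 3, 4, 5, 6, 7, 8, 9, 10], [0, 1, 2, 3, 4, 5, 6, 7, 9, 10], [1, 2, 3, 5, 6, 7, 9, 10, 11], [1, 2, 3, 5, 6, 7, 8, 9, 10, 11], [0, 1, 2, 3, 5, 6, 7, 9, 10, 11], [0, 1, 2, 3, 5, 6, 7, 8, 9, 10, 11], [1, 2, 3, 4, 5, 6, 8, 9, 10], [1, 2, 3, 4, 5, 6, 9, 10], [0, 1, 2, 3, 4, 5, 6, 8, 9, 10],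 [0, 1, 2, 3, 4, 5, 6, 9, 10], [2, 3, 9], [2, 3, 8, 9], [0, 2, 3, 9, 10], [0, 2, 3, 8, 9, 10], [2, 3, 4, 7, 8, 9, 11], [2, 3, 4, 7, 9, 11], [0, 2, 3, 4, 7, 8, 9, 10, 11], [0, 2, 3, 4, 7, 9, 10, 11], [2, 3, 7, 9], [2, 3, 7, 8, 9], [0, 2, 3, 7, 9, 10], [0, 2, 3, 7, 8, 9, 10], [2, 3, 4, 8, 9, 11], [2, 3, 4, 9, 11], [0, 2, 3, 4, 8, 9, 10, 11], [0, 2, 3, 4, 9, 10, 11], [2, 3, 9, 11], [2, 3, 8, 9, 11], [0, 2, 3, 9, 10, 11], [0, 2, 3, 8, 9, 10, 11], [2, 3, 4, 7, 8, 9], [2, 3, 4, 7, 9], [0, 2, 3, 4, 7, 8, 9, 10], [0, 2, 3, 4, 7, 9, 10], [2, 3, 7, 9, 11], [2, 3, 7, 8, 9, 11], [0, 2, 3, 7, 9, 10, 11], [0, 2, 3, 7, 8, 9, 10, 11], [2, 3, 4, 8, 9], [2, 3, 4, 9], [0, 2, 3, 4, 8, 9, 10], [0, 2, 3, 4, 9, 10], [2, 3, 6, 9],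 [2, 3, 6, 8, 9], [0, 2, 3, 6, 9, 10], [0, 2, 3, 6, 8, 9, 10], [2, 3, 4, 6, 7, 8, 9, 11], [2, 3, 4, 6, 7, 9, 11], [0, 2, 3, 4, 6, 7, 8, 9, 10, 11], [0, 2, 3, 4, 6, 7, 9, 10, 11], [2, 3, 6, 7, 9], [2, 3, 6, 7, 8, 9], [0, 2, 3, 6, 7, 9, 10], [0, 2, 3, 6, 7, 8, 9, 10], [2, 3, 4, 6, 8, 9, 11], [2, 3, 4, 6, 9, 11], [0, 2, 3, 4, 6, 8, 9, 10, 11], [0, 2, 3, 4, 6, 9, 10, 11], [2, 3, 6, 9, 11], [2, 3, 6, 8, 9, 11], [0, 2, 3, 6, 9, 10, 11], [0, 2, 3, 6, 8, 9, 10, 11], [2, 3, 4, 6, 7, 8, 9], [2, 3, 4, 6, 7, 9], [0, 2, 3, 4, 6, 7, 8, 9, 10], [0, 2, 3, 4, 6, 7, 9, 10], [2, 3, 6, 7, 9, 11], [2, 3, 6, 7, 8, 9, 11], [0, 2, 3, 6, 7, 9, 10, 11], [0, 2, 3, 6, 7, 8, 9, 10, 11], [2, 3, 4, 6, 8, 9], [2, 3, 4, 6, 9], [0, 2, 3, 4,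 6, 8, 9, 10], [0, 2, 3, 4, 6, 9, 10], [1, 2, 3], [1, 2, 3, 8], [0, 1, 2, 3, 10], [0, 1, 2, 3, 8, 10], [1, 2, 3, 4, 7, 8], [1, 2, 3, 4, 7], [0, 1, 2, 3, 4, 7, 8, 10], [0, 1, 2, 3, 4, 7, 10], [1, 2, 3, 7], [1, 2, 3, 7, 8], [0, 1, 2, 3, 7, 10], [0, 1, 2, 3, 7, 8, 10], [1, 2, 3, 4, 8], [1, 2, 3, 4], [0, 1, 2, 3, 4, 8, 10], [0, 1, 2, 3, 4, 10], [1, 2, 3, 11], [1, 2, 3, 8, 11], [0, 1, 2, 3, 10, 11], [0, 1, 2, 3, 8, 10, 11], [1, 2, 3, 4, 7, 8, 11], [1, 2, 3, 4, 7, 11], [0, 1, 2, 3, 4, 7, 8, 10, 11], [0, 1, 2, 3, 4, 7, 10, 11], [1, 2, 3, 7, 11], [1, 2, 3, 7, 8, 11], [0, 1, 2, 3, 7, 10, 11], [0, 1, 2, 3, 7, 8, 10, 11], [1, 2, 3, 4, 8, 11], [1, 2, 3, 4, 11], [0, 1, 2, 3, 4, 8, 10, 11], [0, 1, 2, 3, 4, 10, 11], [1, 2,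 3, 6], [1, 2, 3, 6, 8], [0, 1, 2, 3, 6, 10, 11], [0, 1, 2, 3, 6, 8, 10, 11], [1, 2, 3, 4, 6, 7, 8], [1, 2, 3, 4, 6, 7], [0, 1, 2, 3, 4, 6, 7, 8, 10, 11], [0, 1, 2, 3, 4, 6, 7, 10, 11], [1, 2, 3, 6, 7], [1, 2, 3, 6, 7, 8], [0, 1, 2, 3, 6, 7, 10, 11], [0, 1, 2, 3, 6, 7, 8, 10, 11], [1, 2, 3, 4, 6, 8], [1, 2, 3, 4, 6], [0, 1, 2, 3, 4, 6, 8, 10, 11], [0, 1, 2, 3, 4, 6, 10, 11], [1, 2, 3, 6, 11], [1, 2, 3, 6, 8, 11], [0, 1, 2, 3, 6, 10], [0, 1, 2, 3, 6, 8, 10], [1, 2, 3, 4, 6, 7, 8, 11], [1, 2, 3, 4, 6, 7, 11], [0, 1, 2, 3, 4, 6, 7, 8, 10], [0, 1, 2, 3, 4, 6, 7, 10], [1, 2, 3, 6, 7, 11], [1, 2, 3, 6, 7, 8, 11], [0, 1, 2, 3, 6, 7, 10], [0, 1, 2, 3, 6, 7, 8, 10], [1, 2, 3, 4, 6, 8, 11], [1, 2, 3, 4, 6, 11], [0, 1,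 2, 3, 4, 6, 8, 10], [0, 1, 2, 3, 4, 6, 10], [2, 3, 5, 9], [2, 3, 5, 8, 9], [0, 2, 3, 5, 9, 10], [0, 2, 3, 5, 8, 9, 10], [2, 3, 4, 5, 7, 8, 9, 11], [2, 3, 4, 5, 7, 9, 11], [0, 2, 3, 4, 5, 7, 8, 9, 10, 11], [0, 2, 3, 4, 5, 7, 9, 10, 11], [2, 3, 5, 7, 9], [2, 3, 5, 7, 8, 9], [0, 2, 3, 5, 7, 9, 10], [0, 2, 3, 5, 7, 8, 9, 10], [2, 3, 4, 5, 8, 9, 11], [2, 3, 4, 5, 9, 11], [0, 2, 3, 4, 5, 8, 9, 10, 11], [0, 2, 3, 4, 5, 9, 10, 11], [2, 3, 5, 9, 11], [2, 3, 5, 8, 9, 11], [0, 2, 3, 5, 9, 10, 11], [0, 2, 3, 5, 8, 9, 10, 11], [2, 3, 4, 5, 7, 8, 9], [2, 3, 4, 5, 7, 9], [0, 2, 3, 4, 5, 7, 8, 9, 10], [0, 2, 3, 4, 5, 7, 9, 10], [2, 3, 5, 7, 9, 11], [2, 3, 5, 7, 8, 9, 11], [0, 2, 3, 5, 7, 9, 10, 11], [0, 2, 3, 5, 7, 8, 9,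 10, 11], [2, 3, 4, 5, 8, 9], [2, 3, 4, 5, 9], [0, 2, 3, 4, 5, 8, 9, 10], [0, 2, 3, 4, 5, 9, 10], [2, 3, 5, 6, 9], [2, 3, 5, 6, 8, 9], [0, 2, 3, 5, 6, 9, 10, 11], [0, 2, 3, 5, 6, 8, 9, 10, 11], [2, 3, 4, 5, 6, 7, 8, 9, 11], [2, 3, 4, 5, 6, 7, 9, 11], [0, 2, 3, 4, 5, 6, 7, 8, 9, 10], [0, 2, 3, 4, 5, 6, 7, 9, 10], [2, 3, 5, 6, 7, 9], [2, 3, 5, 6, 7, 8, 9], [0, 2, 3, 5, 6, 7, 9, 10, 11], [0, 2, 3, 5, 6, 7, 8, 9, 10, 11], [2, 3, 4, 5, 6, 8, 9, 11], [2, 3, 4, 5, 6, 9, 11], [0, 2, 3, 4, 5, 6, 8, 9, 10], [0, 2, 3, 4, 5, 6, 9, 10], [2, 3, 5, 6, 9, 11], [2, 3, 5, 6, 8, 9, 11], [0, 2, 3, 5, 6, 9, 10], [0, 2, 3, 5, 6, 8, 9, 10], [2, 3, 4, 5, 6, 7, 8, 9], [2, 3, 4, 5, 6, 7, 9], [0, 2, 3, 4, 5, 6, 7, 8, 9, 10, 11], [0,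 2, 3, 4, 5, 6, 7, 9, 10, 11], [2, 3, 5, 6, 7, 9, 11], [2, 3, 5, 6, 7, 8, 9, 11], [0, 2, 3, 5, 6, 7, 9, 10], [0, 2, 3, 5, 6, 7, 8, 9, 10], [2, 3, 4, 5, 6, 8, 9], [2, 3, 4, 5, 6, 9], [0, 2, 3, 4, 5, 6, 8, 9, 10, 11], [0, 2, 3, 4, 5, 6, 9, 10, 11], [1, 2, 3, 5], [1, 2, 3, 5, 8], [0, 1, 2, 3, 5, 10, 11], [0, 1, 2, 3, 5, 8, 10, 11], [1, 2, 3, 4, 5, 7, 8], [1, 2, 3, 4, 5, 7], [0, 1, 2, 3, 4, 5, 7, 8, 10, 11], [0, 1, 2, 3, 4, 5, 7, 10, 11], [1, 2, 3, 5, 7], [1, 2, 3, 5, 7, 8], [0, 1, 2, 3, 5, 7, 10, 11], [0, 1, 2, 3, 5, 7, 8, 10, 11], [1, 2, 3, 4, 5, 8], [1, 2, 3, 4, 5], [0, 1, 2, 3, 4, 5, 8, 10, 11], [0, 1, 2, 3, 4, 5, 10, 11], [1, 2, 3, 5, 11], [1, 2, 3, 5, 8, 11], [0, 1, 2, 3, 5, 10], [0, 1, 2, 3, 5, 8, 10], [1,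 2, 3, 4, 5, 7, 8, 11], [1, 2, 3, 4, 5, 7, 11], [0, 1, 2, 3, 4, 5, 7, 8, 10], [0, 1, 2, 3, 4, 5, 7, 10], [1, 2, 3, 5, 7, 11], [1, 2, 3, 5, 7, 8, 11], [0, 1, 2, 3, 5, 7, 10], [0, 1, 2, 3, 5, 7, 8, 10], [1, 2, 3, 4, 5, 8, 11], [1, 2, 3, 4, 5, 11], [0, 1, 2, 3, 4, 5, 8, 10], [0, 1, 2, 3, 4, 5, 10], [1, 2, 3, 5, 6], [1, 2, 3, 5, 6, 8], [0, 1, 2, 3, 5, 6, 10, 11], [0, 1, 2, 3, 5, 6, 8, 10, 11], [1, 2, 3, 4, 5, 6, 7, 8], [1, 2, 3, 4, 5, 6, 7], [0, 1, 2, 3, 4, 5, 6, 7, 8, 10, 11], [0, 1, 2, 3, 4, 5, 6, 7, 10, 11], [1, 2, 3, 5, 6, 7], [1, 2, 3, 5, 6, 7, 8], [0, 1, 2, 3, 5, 6, 7, 10, 11], [0, 1, 2, 3, 5, 6, 7, 8, 10, 11], [1, 2, 3, 4, 5, 6, 8], [1, 2, 3, 4, 5, 6], [0, 1, 2, 3, 4, 5, 6, 8, 10, 11], [0, 1, 2, 3, 4, 5,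 6, 10, 11], [1, 2, 3, 5, 6, 11], [1, 2, 3, 5, 6, 8, 11], [0, 1, 2, 3, 5, 6, 10], [0, 1, 2, 3, 5, 6, 8, 10], [1, 2, 3, 4, 5, 6, 7, 8, 11], [1, 2, 3, 4, 5, 6, 7, 11], [0, 1, 2, 3, 4, 5, 6, 7, 8, 10], [0, 1, 2, 3, 4, 5, 6, 7, 10], [1, 2, 3, 5, 6, 7, 11], [1, 2, 3, 5, 6, 7, 8, 11], [0, 1, 2, 3, 5, 6, 7, 10], [0, 1, 2, 3, 5, 6, 7, 8, 10], [1, 2, 3, 4, 5, 6, 8, 11], [1, 2, 3, 4, 5, 6, 11], [0, 1, 2, 3, 4, 5, 6, 8, 10], [0, 1, 2, 3, 4, 5, 6, 10], [2, 3, 9, 10], [2, 3, 8, 9, 10], [0, 2, 3, 9], [0, 2, 3, 8, 9], [2, 3, 4, 7, 8, 9, 10, 11], [2, 3, 4, 7, 9, 10, 11], [0, 2, 3, 4, 7, 8, 9, 11], [0, 2, 3, 4, 7, 9, 11], [2, 3, 7, 9, 10], [2, 3, 7, 8, 9, 10], [0, 2, 3, 7, 9], [0, 2, 3, 7, 8, 9], [2, 3, 4, 8, 9, 10, 11], [2,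 3, 4, 9, 10, 11], [0, 2, 3, 4, 8, 9, 11], [0, 2, 3, 4, 9, 11], [2, 3, 9, 10, 11], [2, 3, 8, 9, 10, 11], [0, 2, 3, 9, 11], [0, 2, 3, 8, 9, 11], [2, 3, 4, 7, 8, 9, 10], [2, 3, 4, 7, 9, 10], [0, 2, 3, 4, 7, 8, 9], [0, 2, 3, 4, 7, 9], [2, 3, 7, 9, 10, 11], [2, 3, 7, 8, 9, 10, 11], [0, 2, 3, 7, 9, 11], [0, 2, 3, 7, 8, 9, 11], [2, 3, 4, 8, 9, 10], [2, 3, 4, 9, 10], [0, 2, 3, 4, 8, 9], [0, 2, 3, 4, 9], [2, 3, 6, 9, 10], [2, 3, 6, 8, 9, 10], [0, 2, 3, 6, 9], [0, 2, 3, 6, 8, 9], [2, 3, 4, 6, 7, 8, 9, 10, 11], [2, 3, 4, 6, 7, 9, 10, 11], [0, 2, 3, 4, 6, 7, 8, 9, 11], [0, 2, 3, 4, 6, 7, 9, 11], [2, 3, 6, 7, 9, 10], [2, 3, 6, 7, 8, 9, 10], [0, 2, 3, 6, 7, 9], [0, 2, 3, 6, 7, 8, 9], [2, 3, 4, 6, 8, 9, 10, 11], [2, 3, 4,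 6, 9, 10, 11], [0, 2, 3, 4, 6, 8, 9, 11], [0, 2, 3, 4, 6, 9, 11], [2, 3, 6, 9, 10, 11], [2, 3, 6, 8, 9, 10, 11], [0, 2, 3, 6, 9, 11], [0, 2, 3, 6, 8, 9, 11], [2, 3, 4, 6, 7, 8, 9, 10], [2, 3, 4, 6, 7, 9, 10], [0, 2, 3, 4, 6, 7, 8, 9], [0, 2, 3, 4, 6, 7, 9], [2, 3, 6, 7, 9, 10, 11], [2, 3, 6, 7, 8, 9, 10, 11], [0, 2, 3, 6, 7, 9, 11], [0, 2, 3, 6, 7, 8, 9, 11], [2, 3, 4, 6, 8, 9, 10], [2, 3, 4, 6, 9, 10], [0, 2, 3, 4, 6, 8, 9], [0, 2, 3, 4, 6, 9], [1, 2, 3, 10], [1, 2, 3, 8, 10], [0, 1, 2, 3], [0, 1, 2, 3, 8], [1, 2, 3, 4, 7, 8, 10], [1, 2, 3, 4, 7, 10], [0, 1, 2, 3, 4, 7, 8], [0, 1, 2, 3, 4, 7], [1, 2, 3, 7, 10], [1, 2, 3, 7, 8, 10], [0, 1, 2, 3, 7], [0, 1, 2, 3, 7, 8], [1, 2, 3, 4, 8, 10], [1, 2, 3, 4, 10],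 [0, 1, 2, 3, 4, 8], [0, 1, 2, 3, 4], [1, 2, 3, 10, 11], [1, 2, 3, 8, 10, 11], [0, 1, 2, 3, 11], [0, 1, 2, 3, 8, 11], [1, 2, 3, 4, 7, 8, 10, 11], [1, 2, 3, 4, 7, 10, 11], [0, 1, 2, 3, 4, 7, 8, 11], [0, 1, 2, 3, 4, 7, 11], [1, 2, 3, 7, 10, 11], [1, 2, 3, 7, 8, 10, 11], [0, 1, 2, 3, 7, 11], [0, 1, 2, 3, 7, 8, 11], [1, 2, 3, 4, 8, 10, 11], [1, 2, 3, 4, 10, 11], [0, 1, 2, 3, 4, 8, 11], [0, 1, 2, 3, 4, 11], [1, 2, 3, 6, 10], [1, 2, 3, 6, 8, 10], [0, 1, 2, 3, 6, 11], [0, 1, 2, 3, 6, 8, 11], [1, 2, 3, 4, 6, 7, 8, 10], [1, 2, 3, 4, 6, 7, 10], [0, 1, 2, 3, 4, 6, 7, 8, 11], [0, 1, 2, 3, 4, 6, 7, 11], [1, 2, 3, 6, 7, 10], [1, 2, 3, 6, 7, 8, 10], [0, 1, 2, 3, 6, 7, 11], [0, 1, 2, 3, 6, 7, 8, 11], [1, 2, 3, 4, 6, 8, 10],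 [1, 2, 3, 4, 6, 10], [0, 1, 2, 3, 4, 6, 8, 11], [0, 1, 2, 3, 4, 6, 11], [1, 2, 3, 6, 10, 11], [1, 2, 3, 6, 8, 10, 11], [0, 1, 2, 3, 6], [0, 1, 2, 3, 6, 8], [1, 2, 3, 4, 6, 7, 8, 10, 11], [1, 2, 3, 4, 6, 7, 10, 11], [0, 1, 2, 3, 4, 6, 7, 8], [0, 1, 2, 3, 4, 6, 7], [1, 2, 3, 6, 7, 10, 11], [1, 2, 3, 6, 7, 8, 10, 11], [0, 1, 2, 3, 6, 7], [0, 1, 2, 3, 6, 7, 8], [1, 2, 3, 4, 6, 8, 10, 11], [1, 2, 3, 4, 6, 10, 11], [0, 1, 2, 3, 4, 6, 8], [0, 1, 2, 3, 4, 6], [2, 3, 5, 9, 10], [2, 3, 5, 8, 9, 10], [0, 2, 3, 5, 9], [0, 2, 3, 5, 8, 9], [2, 3, 4, 5, 7, 8, 9, 10, 11], [2, 3, 4, 5, 7, 9, 10, 11], [0, 2, 3, 4, 5, 7, 8, 9, 11], [0, 2, 3, 4, 5, 7, 9, 11], [2, 3, 5, 7, 9, 10], [2, 3, 5, 7, 8, 9, 10], [0, 2, 3, 5, 7, 9], [0,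 2, 3, 5, 7, 8, 9], [2, 3, 4, 5, 8, 9, 10, 11], [2, 3, 4, 5, 9, 10, 11], [0, 2, 3, 4, 5, 8, 9, 11], [0, 2, 3, 4, 5, 9, 11], [2, 3, 5, 9, 10, 11], [2, 3, 5, 8, 9, 10, 11], [0, 2, 3, 5, 9, 11], [0, 2, 3, 5, 8, 9, 11], [2, 3, 4, 5, 7, 8, 9, 10], [2, 3, 4, 5, 7, 9, 10], [0, 2, 3, 4, 5, 7, 8, 9], [0, 2, 3, 4, 5, 7, 9], [2, 3, 5, 7, 9, 10, 11], [2, 3, 5, 7, 8, 9, 10, 11], [0, 2, 3, 5, 7, 9, 11], [0, 2, 3, 5, 7, 8, 9, 11], [2, 3, 4, 5, 8, 9, 10], [2, 3, 4, 5, 9, 10], [0, 2, 3, 4, 5, 8, 9], [0, 2, 3, 4, 5, 9], [2, 3, 5, 6, 9, 10], [2, 3, 5, 6, 8, 9, 10], [0, 2, 3, 5, 6, 9, 11], [0, 2, 3, 5, 6, 8, 9, 11], [2, 3, 4, 5, 6, 7, 8, 9, 10, 11], [2, 3, 4, 5, 6, 7, 9, 10, 11], [0, 2, 3, 4, 5, 6, 7, 8, 9], [0, 2, 3, 4, 5, 6,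 7, 9], [2, 3, 5, 6, 7, 9, 10], [2, 3, 5, 6, 7, 8, 9, 10], [0, 2, 3, 5, 6, 7, 9, 11], [0, 2, 3, 5, 6, 7, 8, 9, 11], [2, 3, 4, 5, 6, 8, 9, 10, 11], [2, 3, 4, 5, 6, 9, 10, 11], [0, 2, 3, 4, 5, 6, 8, 9], [0, 2, 3, 4, 5, 6, 9], [2, 3, 5, 6, 9, 10, 11], [2, 3, 5, 6, 8, 9, 10, 11], [0, 2, 3, 5, 6, 9], [0, 2, 3, 5, 6, 8, 9], [2, 3, 4, 5, 6, 7, 8, 9, 10], [2, 3, 4, 5, 6, 7, 9, 10], [0, 2, 3, 4, 5, 6, 7, 8, 9, 11], [0, 2, 3, 4, 5, 6, 7, 9, 11], [2, 3, 5, 6, 7, 9, 10, 11], [2, 3, 5, 6, 7, 8, 9, 10, 11], [0, 2, 3, 5, 6, 7, 9], [0, 2, 3, 5, 6, 7, 8, 9], [2, 3, 4, 5, 6, 8, 9, 10], [2, 3, 4, 5, 6, 9, 10], [0, 2, 3, 4, 5, 6, 8, 9, 11], [0, 2, 3, 4, 5, 6, 9, 11], [1, 2, 3, 5, 10], [1, 2, 3, 5, 8, 10], [0, 1, 2, 3, 5, 11],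 [0, 1, 2, 3, 5, 8, 11], [1, 2, 3, 4, 5, 7, 8, 10], [1, 2, 3, 4, 5, 7, 10], [0, 1, 2, 3, 4, 5, 7, 8, 11], [0, 1, 2, 3, 4, 5, 7, 11], [1, 2, 3, 5, 7, 10], [1, 2, 3, 5, 7, 8, 10], [0, 1, 2, 3, 5, 7, 11], [0, 1, 2, 3, 5, 7, 8, 11], [1, 2, 3, 4, 5, 8, 10], [1, 2, 3, 4, 5, 10], [0, 1, 2, 3, 4, 5, 8, 11], [0, 1, 2, 3, 4, 5, 11], [1, 2, 3, 5, 10, 11], [1, 2, 3, 5, 8, 10, 11], [0, 1, 2, 3, 5], [0, 1, 2, 3, 5, 8], [1, 2, 3, 4, 5, 7, 8, 10, 11], [1, 2, 3, 4, 5, 7, 10, 11], [0, 1, 2, 3, 4, 5, 7, 8], [0, 1, 2, 3, 4, 5, 7], [1, 2, 3, 5, 7, 10, 11], [1, 2, 3, 5, 7, 8, 10, 11], [0, 1, 2, 3, 5, 7], [0, 1, 2, 3, 5, 7, 8], [1, 2, 3, 4, 5, 8, 10, 11], [1, 2, 3, 4, 5, 10, 11], [0, 1, 2, 3, 4, 5, 8], [0, 1, 2, 3, 4, 5], [1, 2,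 3, 5, 6, 10], [1, 2, 3, 5, 6, 8, 10], [0, 1, 2, 3, 5, 6, 11], [0, 1, 2, 3, 5, 6, 8, 11], [1, 2, 3, 4, 5, 6, 7, 8, 10], [1, 2, 3, 4, 5, 6, 7, 10], [0, 1, 2, 3, 4, 5, 6, 7, 8, 11], [0, 1, 2, 3, 4, 5, 6, 7, 11], [1, 2, 3, 5, 6, 7, 10], [1, 2, 3, 5, 6, 7, 8, 10], [0, 1, 2, 3, 5, 6, 7, 11], [0, 1, 2, 3, 5, 6, 7, 8, 11], [1, 2, 3, 4, 5, 6, 8, 10], [1, 2, 3, 4, 5, 6, 10], [0, 1, 2, 3, 4, 5, 6, 8, 11], [0, 1, 2, 3, 4, 5, 6, 11], [1, 2, 3, 5, 6, 10, 11], [1, 2, 3, 5, 6, 8, 10, 11], [0, 1, 2, 3, 5, 6], [0, 1, 2, 3, 5, 6, 8], [1, 2, 3, 4, 5, 6, 7, 8, 10, 11], [1, 2, 3, 4, 5, 6, 7, 10, 11], [0, 1, 2, 3, 4, 5, 6, 7, 8], [0, 1, 2, 3, 4, 5, 6, 7], [1, 2, 3, 5, 6, 7, 10, 11], [1, 2, 3, 5, 6, 7, 8, 10, 11], [0, 1, 2, 3, 5,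 6, 7], [0, 1, 2, 3, 5, 6, 7, 8], [1, 2, 3, 4, 5, 6, 8, 10, 11], [1, 2, 3, 4, 5, 6, 10, 11], [0, 1, 2, 3, 4, 5, 6, 8], [0, 1, 2, 3, 4, 5, 6]]

theorem words2_length : words2.length = 4096 := by decide +kernel

theorem words2_inc : isStrictInc (words2.map fun l => sigW o8blk sbase (l.map fun i => gT2.getD i Uid)) = true := by
  decide +kernel

/-- coded generators -/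
def gT3 : List ℕ := [Ua3, Ub3, Uc3, Ud3, Ut3]

/-- generators -/
noncomputable def gG3 : List HG := [a3, b3, c3, d3, t3]

theorem gRep3 : List.Forall₂ RepH gT3 gG3 :=
  (List.Forall₂.cons rep_a3 (List.Forall₂.cons rep_b3 (List.Forall₂.cons rep_c3 (List.Forall₂.cons rep_d3 (List.Forall₂.cons rep_t3 List.Forall₂.nil)))))

/-- words with pairwise different values -/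
def words3 : List (List ℕ) := [[0, 1, 1, 2, 2], [1, 2, 2], [0, 0, 2, 2], [0, 0, 1, 1, 2, 2], [0, 2, 2], [2, 2], [0, 0, 1, 2, 2], [0, 1, 2, 2], [1, 1, 2, 2], [0, 1, 1, 2, 3, 3], [1, 2, 3, 3], [0, 0, 2, 3, 3], [0, 0, 1, 1, 2, 3, 3], [0, 2, 3, 3], [2, 3, 3], [0, 0, 1, 2, 3, 3], [0, 1, 2, 3, 3], [1, 1, 2, 3, 3], [0, 1, 1, 3], [1, 3], [0, 0, 3], [0, 0, 1, 1, 3], [0, 3], [3], [0, 0, 1, 3], [0, 1, 3], [1, 1, 3], [0, 1, 1], [1], [0, 0], [0, 0, 1, 1], [0], [], [0, 0, 1], [0, 1], [1, 1], [0, 1, 1, 2, 2, 3], [1, 2, 2, 3], [0, 0, 2, 2, 3], [0, 0, 1, 1, 2, 2, 3], [0, 2, 2, 3], [2, 2, 3], [0, 0, 1, 2, 2, 3], [0, 1, 2, 2, 3], [1, 1, 2, 2, 3], [0, 2, 3, 3, 4], [0, 1, 2, 3, 3, 4], [0, 1, 1, 2, 3, 3, 4], [0, 2, 2, 3, 3, 4],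 [0, 1, 2, 2, 3, 3, 4], [0, 1, 1, 2, 2, 3, 3, 4], [0, 3, 3, 4], [0, 1, 3, 3, 4], [0, 1, 1, 3, 3, 4], [0, 1, 3, 3, 4, 4], [0, 0, 1, 3, 3, 4, 4], [1, 3, 3, 4, 4], [0, 1, 2, 3, 3, 4, 4], [0, 0, 1, 2, 3, 3, 4, 4], [1, 2, 3, 3, 4, 4], [0, 1, 2, 2, 3, 3, 4, 4], [0, 0, 1, 2, 2, 3, 3, 4, 4], [1, 2, 2, 3, 3, 4, 4], [0, 1, 1, 3, 3, 4, 4], [0, 0, 1, 1, 3, 3, 4, 4], [1, 1, 3, 3, 4, 4], [0, 1, 1, 2, 3, 3, 4, 4], [0, 0, 1, 1, 2, 3, 3, 4, 4], [1, 1, 2, 3, 3, 4, 4], [0, 1, 1, 2, 2, 3, 3, 4, 4], [0, 0, 1, 1, 2, 2, 3, 3, 4, 4], [1, 1, 2, 2, 3, 3, 4, 4], [0, 0, 2, 3, 3, 4], [0, 0, 1, 2, 3, 3, 4], [0, 0, 1, 1, 2, 3, 3, 4], [0, 0, 2, 2, 3, 3, 4], [0, 0, 1, 2, 2, 3, 3, 4], [0, 0, 1, 1, 2, 2, 3, 3, 4], [0, 0, 3, 3, 4], [0, 0, 1,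 3, 3, 4], [0, 0, 1, 1, 3, 3, 4], [0, 3, 3, 4, 4], [0, 0, 3, 3, 4, 4], [3, 3, 4, 4], [0, 2, 3, 3, 4, 4], [0, 0, 2, 3, 3, 4, 4], [2, 3, 3, 4, 4], [0, 2, 2, 3, 3, 4, 4], [0, 0, 2, 2, 3, 3, 4, 4], [2, 2, 3, 3, 4, 4], [2, 3, 3, 4], [1, 2, 3, 3, 4], [1, 1, 2, 3, 3, 4], [2, 2, 3, 3, 4], [1, 2, 2, 3, 3, 4], [1, 1, 2, 2, 3, 3, 4], [3, 3, 4], [1, 3, 3, 4], [1, 1, 3, 3, 4], [0, 1, 1, 2, 3], [1, 2, 3], [0, 0, 2, 3], [0, 0, 1, 1, 2, 3], [0, 2, 3], [2, 3], [0, 0, 1, 2, 3], [0, 1, 2, 3], [1, 1, 2, 3], [0, 1, 1, 3, 3], [1, 3, 3], [0, 0, 3, 3], [0, 0, 1, 1, 3, 3], [0, 3, 3], [3, 3], [0, 0, 1, 3, 3], [0, 1, 3, 3], [1, 1, 3, 3], [0, 2, 4], [0, 1, 2, 4], [0, 1, 1, 2, 4], [0, 2, 2, 4], [0, 1, 2, 2, 4], [0, 1, 1, 2, 2, 4], [0,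 4], [0, 1, 4], [0, 1, 1, 4], [0, 1, 4, 4], [0, 0, 1, 4, 4], [1, 4, 4], [0, 1, 2, 4, 4], [0, 0, 1, 2, 4, 4], [1, 2, 4, 4], [0, 1, 2, 2, 4, 4], [0, 0, 1, 2, 2, 4, 4], [1, 2, 2, 4, 4], [0, 1, 1, 4, 4], [0, 0, 1, 1, 4, 4], [1, 1, 4, 4], [0, 1, 1, 2, 4, 4], [0, 0, 1, 1, 2, 4, 4], [1, 1, 2, 4, 4], [0, 1, 1, 2, 2, 4, 4], [0, 0, 1, 1, 2, 2, 4, 4], [1, 1, 2, 2, 4, 4], [0, 0, 2, 4], [0, 0, 1, 2, 4], [0, 0, 1, 1, 2, 4], [0, 0, 2, 2, 4], [0, 0, 1, 2, 2, 4], [0, 0, 1, 1, 2, 2, 4], [0, 0, 4], [0, 0, 1, 4], [0, 0, 1, 1, 4], [0, 4, 4], [0, 0, 4, 4], [4, 4], [0, 2, 4, 4], [0, 0, 2, 4, 4], [2, 4, 4], [0, 2, 2, 4, 4], [0, 0, 2, 2, 4, 4], [2, 2, 4, 4], [2, 4], [1, 2, 4], [1, 1, 2, 4], [2, 2, 4], [1, 2, 2, 4], [1, 1, 2, 2, 4],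 [4], [1, 4], [1, 1, 4], [0, 1, 1, 2, 2, 3, 3], [1, 2, 2, 3, 3], [0, 0, 2, 2, 3, 3], [0, 0, 1, 1, 2, 2, 3, 3], [0, 2, 2, 3, 3], [2, 2, 3, 3], [0, 0, 1, 2, 2, 3, 3], [0, 1, 2, 2, 3, 3], [1, 1, 2, 2, 3, 3], [0, 1, 1, 2], [1, 2], [0, 0, 2], [0, 0, 1, 1, 2], [0, 2], [2], [0, 0, 1, 2], [0, 1, 2], [1, 1, 2], [0, 2, 3, 4], [0, 1, 2, 3, 4], [0, 1, 1, 2, 3, 4], [0, 2, 2, 3, 4], [0, 1, 2, 2, 3, 4], [0, 1, 1, 2, 2, 3, 4], [0, 3, 4], [0, 1, 3, 4], [0, 1, 1, 3, 4], [0, 1, 3, 4, 4], [0, 0, 1, 3, 4, 4], [1, 3, 4, 4], [0, 1, 2, 3, 4, 4], [0, 0, 1, 2, 3, 4, 4], [1, 2, 3, 4, 4], [0, 1, 2, 2, 3, 4, 4], [0, 0, 1, 2, 2, 3, 4, 4], [1, 2, 2, 3, 4, 4], [0, 1, 1, 3, 4, 4], [0, 0, 1, 1, 3, 4, 4], [1, 1, 3, 4, 4], [0, 1, 1, 2, 3, 4,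 4], [0, 0, 1, 1, 2, 3, 4, 4], [1, 1, 2, 3, 4, 4], [0, 1, 1, 2, 2, 3, 4, 4], [0, 0, 1, 1, 2, 2, 3, 4, 4], [1, 1, 2, 2, 3, 4, 4], [0, 0, 2, 3, 4], [0, 0, 1, 2, 3, 4], [0, 0, 1, 1, 2, 3, 4], [0, 0, 2, 2, 3, 4], [0, 0, 1, 2, 2, 3, 4], [0, 0, 1, 1, 2, 2, 3, 4], [0, 0, 3, 4], [0, 0, 1, 3, 4], [0, 0, 1, 1, 3, 4], [0, 3, 4, 4], [0, 0, 3, 4, 4], [3, 4, 4], [0, 2, 3, 4, 4], [0, 0, 2, 3, 4, 4], [2, 3, 4, 4], [0, 2, 2, 3, 4, 4], [0, 0, 2, 2, 3, 4, 4], [2, 2, 3, 4, 4], [2, 3, 4], [1, 2, 3, 4], [1, 1, 2, 3, 4], [2, 2, 3, 4], [1, 2, 2, 3, 4], [1, 1, 2, 2, 3, 4], [3, 4], [1, 3, 4], [1, 1, 3, 4]]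

theorem words3_length : words3.length = 243 := by decide +kernel

theorem words3_inc : isStrictInc (words3.map fun l => sigW o8blk sbase (l.map fun i => gT3.getD i Uid)) = true := by
  decide +kernel

/-- coded generators -/
def gT5 : List ℕ := [Ux5, Uy5]

/-- generators -/
noncomputable def gG5 : List HG := [x5, y5]

theorem gRep5 : List.Forall₂ RepH gT5 gG5 :=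
  (List.Forall₂.cons rep_x5 (List.Forall₂.cons rep_y5 List.Forall₂.nil))

/-- words with pairwise different values -/
def words5 : List (List ℕ) := [[0, 0, 1, 1, 1], [0, 0, 0, 1, 1, 1, 1], [0, 1, 1], [1], [0, 0, 0, 0], [0], [0, 0, 0, 0, 1, 1], [0, 0, 1], [1, 1, 1], [], [0, 0, 0, 0, 1], [0, 0, 1, 1], [0, 1, 1, 1], [1, 1], [0, 1], [0, 0, 0, 0, 1, 1, 1], [0, 0], [0, 0, 0, 1, 1, 1], [0, 0, 1, 1, 1, 1], [1, 1, 1, 1], [0, 0, 0, 1], [0, 1, 1, 1, 1], [0, 0, 0, 1, 1], [0, 0, 0], [0, 0, 0, 0, 1, 1, 1, 1]]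

theorem words5_length : words5.length = 25 := by decide +kernel

theorem words5_inc : isStrictInc (words5.map fun l => sigW o8blk sbase (l.map fun i => gT5.getD i Uid)) = true := by
  decide +kernel

/-- the squares of the polycyclic generators -/
def sqL : List (List ℕ) := [[], [], [], [], [], [], [], [], [], [], [], []]

/-- the commutators of the polycyclic generators -/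
def cmL : List (List (List ℕ)) := [[[], [4], [], [], [], [7], [8], [], [], [10], [], []], [[], [], [5], [6], [], [], [], [], [], [], [11], []], [[], [], [], [], [7], [], [9], [], [10], [], [], []], [[], [], [], [], [8], [9], [], [10], [], [], [], []], [[], [], [], [], [], [], [], [], [], [11], [], []], [[], [], [], [], [], [], [], [], [11], [], [], []], [[], [], [], [], [], [], [], [11], [], [], [], []], [[], [], [], [], [], [], [], [], [], [], [], []], [[], [], [], [], [], [], [], [], [], [], [], []], [[], [], [], [], [], [], [], [], [], [], [], []], [[], [], [], [], [], [], [], [], [], [], [], []], [[], [], [], [], [], [], [], [], [], [], [], []]]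

/-- the involution words used -/
def invW : List (List ℕ) := [[0], [1], [2], [3], [4], [5], [6]]

/-- the associativity triples used -/
def triL : List (ℕ × ℕ × ℕ) := [(1, 0, 0), (5, 0, 0), (6, 0, 0), (9, 0, 0), (1, 1, 0), (2, 1, 0), (3, 1, 0), (5, 1, 0), (6, 1, 0), (7, 1, 0), (8, 1, 0), (9, 1, 0), (10, 1, 0), (11, 1, 0), (4, 2, 0), (5, 2, 0), (6, 2, 0), (8, 2, 0), (9, 2, 0), (4, 3, 0), (5, 3, 0), (6, 3, 0), (9, 3, 0), (9, 4, 0), (5, 5, 0), (6, 5, 0), (8, 5, 0), (9, 5, 0), (10, 5, 0), (11, 5, 0), (6, 6, 0), (7, 6, 0), (9, 6, 0), (10, 6, 0), (9, 9, 0), (2, 1, 1), (3, 1, 1), (10, 1, 1), (2, 2, 1), (3, 2, 1), (6, 2, 1), (8, 2, 1), (9, 2, 1), (10, 2, 1), (11, 2, 1), (3, 3, 1), (5, 3, 1), (7, 3, 1), (10, 3, 1),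 (11, 3, 1), (9, 4, 1), (10, 9, 1), (6, 2, 2), (5, 3, 2), (6, 3, 2)]

/-- the commuting pairs used -/
def commW : List (List ℕ × List ℕ) := [([0], [11]), ([0], [2])]

/-- the pairs of conjugate involutions used -/
def eqL : List (List ℕ × List ℕ) := [([0, 11], [1, 9]), ([0, 11], [2, 3]), ([0, 2], [1, 7]), ([0, 2], [3, 11]), ([0, 3], [1, 8]), ([0, 3], [2, 11])]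

/-- the forms of the correcting exponents -/
def CC : List (List (ℕ × ℕ)) := [[], [], [], [], [(0, 1)], [(1, 2)], [(1, 3)], [(0, 5)], [(0, 6)], [(2, 6)], [(0, 9)], [(1, 10)]]

/-- the certificates -/
def certs : List (List ℕ) := [[0], [], [63], [32, 36, 38, 48, 50, 51, 54, 55, 56, 62, 63, 67, 69], [4, 7], [], [], [21], [26], [], [24], [62], [], [1], [], [], [4, 11], [5, 42], [6, 43], [0, 1, 2, 8, 21, 63, 66], [0, 1, 3, 9, 26, 32, 36, 38, 48, 50, 51, 54, 55, 56, 62, 63, 67, 68, 69], [0, 1, 44, 57, 59, 60, 62, 64], [], [57], [], [], [2], [0, 2, 3, 44, 57, 62, 65], [0, 1, 2, 8, 12, 14, 16, 21, 31, 63, 66], [5, 45], [], [22], [0, 2, 3, 23, 39, 40, 44, 55, 56, 57, 63, 67], [60], [25], [0, 2, 3, 32, 36, 38, 44,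 48, 50, 51, 54, 55, 56, 57, 62, 63, 67], [], [], [], [3], [0, 1, 3, 9, 13, 15, 17, 26, 32, 36, 37, 38, 48, 50, 51, 54, 55, 56, 62, 63, 67, 68, 69], [0, 1, 44, 46, 49, 53, 57, 59, 60, 62, 64], [6, 52], [0, 2, 3, 27, 32, 34, 35, 36, 38, 44, 48, 54, 55, 56, 57, 62, 63, 67], [28], [61], [29], [0, 2, 3, 44, 57, 63, 67], [], [], [], [], [4], [0, 1, 2, 8, 14, 16, 21, 63, 66], [0, 1, 3, 9, 15, 17, 26, 32, 36, 38, 48, 50, 51, 54, 55, 56, 62, 63, 67, 68, 69], [16], [17], [18, 20, 30, 44, 57, 62], [19, 20, 62], [20], [], [], [], [], [], [5], [0, 1, 44, 47, 49, 57, 59, 60, 62, 64], [8, 21, 31], [0, 2, 3, 19, 20, 30, 32, 36, 38, 44, 54, 55, 56, 57, 62, 63, 67], [49], [0, 2, 3, 32, 36, 38, 44, 48, 54, 55, 56, 57, 62, 63,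 67], [51], [], [], [], [], [], [], [6], [0, 2, 3, 19, 20, 30, 44, 54, 55, 56, 57, 63, 67], [9, 26, 37], [47, 49, 53], [0, 2, 3, 44, 55, 56, 57, 63, 67], [56], [], [], [], [], [], [], [], [8, 21], [33, 36, 62], [0, 2, 3, 32, 34, 35, 36, 38, 44, 48, 54, 55, 56, 57, 62, 63, 67], [35], [36], [], [], [], [], [], [], [], [], [9, 26], [0, 2, 3, 39, 40, 44, 55, 56, 57, 63, 67], [40], [33, 36, 38], [], [], [], [], [], [], [], [], [], [59, 60], [10, 24, 41], [58], [], [], [], [], [], [], [], [], [], [], [10, 24], [19, 20, 30], [], [], [], [], [], [], [], [], [], [], [], [44, 57]]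

theorem data_ok : dataOK 12 sqL cmL = true := by decide +kernel

theorem cert_ok : certOK (PcD.ofLists 12 sqL cmL) CC (zforms3 (PcD.ofLists 12 sqL cmL) 200 invW triL commW eqL) certs = true := by
  decide +kernel

theorem rels_ok : relsChk o8blk 256 Uid gT2 12 sqL cmL = true := by decide +kernel

end Cfsg.Agent.Lib.Helper5.O8M
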