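import Mathlib
import Cfsg.Agent.Lib.Helper5.O8MW
import Cfsg.Agent.Lib.Helper5.StemB
import Cfsg.Agent.Lib.Helper5.StemG
import Cfsg.Agent.Lib.Helper5.StemV
import Cfsg.Agent.Lib.helper3.StemTools2

set_option autoImplicit false

/-! The Sylow 2-subgroup of the orthogonal group of plus type of degree eight over the field with
two elements and its double covers. -/

namespace Cfsg.Agent.Lib.Helper5.O8M

open Cfsg Cfsg.Agent.Lib.helper23 Cfsg.Agent.Lib.Helper5.CP Cfsg.Agent.Lib.Helper5.PcT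
open Cfsg.Agent.Lib.Helper5.Stem Cfsg.Agent.Lib.helper3
open Subgroup
open scoped commutatorElement

theorem conj_of_mul {a b c : HG} (h : a * b = c * a) : a * b * a⁻¹ = c := by
  rw [h]; group

/-- the Sylow 2-subgroup -/
def P2 : Subgroup HG := closure {x | ∃ i, i < 12 ∧ x = gG2.getD i 1}

theorem rels2 :
    (∀ i, i < 12 → gG2.getD i 1 * gG2.getD i 1 = nfw (fun i => gG2.getD i 1) (sqL.getD i [])) ∧
    (∀ i j, i < j → j < 12 → gG2.getD j 1 * gG2.getD i 1 =
      gG2.getD i 1 * gG2.getD j 1 * nfw (fun i => gG2.getD i 1) ((cmL.getD i []).getD j [])) :=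
  rels_of_chk Uid chk_id gT2 gG2 gRep2 12 sqL cmL rels_ok

theorem card_P2_le : Nat.card P2 ≤ 2 ^ 12 :=
  card_closure_gens_le 12 sqL cmL gG2 data_ok rels2.1 rels2.2 (by simp [gG2])

theorem gG2_mem : ∀ g ∈ gG2, g ∈ P2 := by
  intro g hg
  obtain ⟨i, hi, rfl⟩ := List.mem_iff_getElem.mp hg
  refine subset_closure ⟨i, ?_, ?_⟩
  · simpa [gG2] using hi
  · rw [List.getD_eq_getElem _ _ hi]

theorem card_P2_ge : 4096 ≤ Nat.card P2 := by
  have := card_ge_of_words Uid chk_id sbase sbase_lt gT2 gG2 gRep2 P2 gG2_mem words2 words2_inc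
  rwa [words2_length] at this

theorem card_P2 : Nat.card P2 = 4096 := le_antisymm card_P2_le card_P2_ge

theorem P2_index : ¬ 2 ∣ P2.index := by
  have h := Subgroup.card_mul_index P2
  rw [card_P2, card_HG] at h
  have : P2.index = 42525 := by omega
  rw [this]
  norm_num

/-- in a stem extension with kernel of order two the lifts of `g0`, `g11` and the lifts of `g0`,
`g2` do not both commute -/
theorem not_both_comm {Γ : Type*} [Group Γ] [Finite Γ] (σ : Γ →* HG)
    (hσ : Cfsg.IsStemExtension σ) (hcard : Nat.card σ.ker = 2) :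
    ¬ (QComm σ g0 g11 ∧ QComm σ g0 g2) := by
  rintro ⟨hq1, hq2⟩
  obtain ⟨hsurj, hcen, hder⟩ := hσ
  obtain ⟨z, hK⟩ := ker2_of_card hcen hcard
  have hK' := hK
  obtain ⟨hz1, hz2, hσz, hw, hzc⟩ := hK
  have QA : QInv σ aA := by
    refine qinv_of_E8 hsurj hK' aA ebA ecA aA_sq aA_eb aA_ec ebA_ec
      ⟨qAb, conj_of_mul qAb_conj⟩ ⟨qAc, conj_of_mul qAc_conj⟩ ⟨qAab, conj_of_mul qAab_conj⟩
      ⟨qAac, conj_of_mul qAac_conj⟩ ⟨qAbc, conj_of_mul qAbc_conj⟩ ⟨qAabc, conj_of_mul qAabc_conj⟩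
  have qA : ∀ {h v : HG}, h * aA = v * h → QInv σ v := by
    intro h v hh
    have := qinv_conj hsurj QA h
    rwa [conj_of_mul hh] at this
  have hQ : ∀ u ∈ invW, QInv σ (nfw (fun i => gG2.getD i 1) u) := by
    intro u hu
    simp only [invW, List.mem_cons, List.not_mem_nil, or_false] at hu
    rcases hu with rfl | rfl | rfl | rfl | rfl | rfl | rfl
    · show QInv σ (g0 * 1)
      rw [mul_one]; exact qA qI0_conj
    · show QInv σ (g1 * 1)
      rw [mul_one]; exact qA qI1_conj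
    · show QInv σ (g2 * 1)
      rw [mul_one]; exact qA qI2_conj
    · show QInv σ (g3 * 1)
      rw [mul_one]; exact qA qI3_conj
    · show QInv σ (g4 * 1)
      rw [mul_one]; exact qA qI4_conj
    · show QInv σ (g5 * 1)
      rw [mul_one]; exact qA qI5_conj
    · show QInv σ (g6 * 1)
      rw [mul_one]; exact qA qI6_conj
  have hC : ∀ uv ∈ commW, QComm σ (nfw (fun i => gG2.getD i 1) uv.1)
      (nfw (fun i => gG2.getD i 1) uv.2) := by
    intro uv huv
    simp only [commW, List.mem_cons, List.not_mem_nil, or_false] at huv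
    rcases huv with rfl | rfl
    · show QComm σ (g0 * 1) (g11 * 1)
      rw [mul_one, mul_one]
      exact hq1
    · show QComm σ (g0 * 1) (g2 * 1)
      rw [mul_one, mul_one]
      exact hq2
  have hE : ∀ uv ∈ eqL, QSqEq σ (nfw (fun i => gG2.getD i 1) uv.1)
      (nfw (fun i => gG2.getD i 1) uv.2) := by
    intro uv huv
    simp only [eqL, List.mem_cons, List.not_mem_nil, or_false] at huv
    rcases huv with rfl | rfl | rfl | rfl | rfl | rfl
    · show QSqEq σ (g0 * (g11 * 1)) (g1 * (g9 * 1))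
      exact qsqeq_of_conj hsurj hK' qE0b_19_sq (conj_of_mul qE0b_19_conj)
    · show QSqEq σ (g0 * (g11 * 1)) (g2 * (g3 * 1))
      exact qsqeq_of_conj hsurj hK' qE0b_23_sq (conj_of_mul qE0b_23_conj)
    · show QSqEq σ (g0 * (g2 * 1)) (g1 * (g7 * 1))
      exact qsqeq_of_conj hsurj hK' qE02_17_sq (conj_of_mul qE02_17_conj)
    · show QSqEq σ (g0 * (g2 * 1)) (g3 * (g11 * 1))
      exact qsqeq_of_conj hsurj hK' qE02_3b_sq (conj_of_mul qE02_3b_conj)
    · show QSqEq σ (g0 * (g3 * 1)) (g1 * (g8 * 1))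
      exact qsqeq_of_conj hsurj hK' qE03_18_sq (conj_of_mul qE03_18_conj)
    · show QSqEq σ (g0 * (g3 * 1)) (g2 * (g11 * 1))
      exact qsqeq_of_conj hsurj hK' qE03_2b_sq (conj_of_mul qE03_2b_conj)
  have hg1 : ∀ i, 12 ≤ i → (fun i => gG2.getD i 1) i = 1 := by
    intro i hi
    exact List.getD_eq_default _ _ (by simpa [gG2] using hi)
  have hS := comm_comap_trivial_of_pc3 hsurj hK' 12 sqL cmL (fun i => gG2.getD i 1) hg1
    rels2.1 rels2.2 200 invW triL CC commW eqL certs data_ok cert_ok hQ hC hE P2 (le_refl _)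
    (by rw [card_P2]; norm_num)
  have : Fact (Nat.Prime 2) := ⟨Nat.prime_two⟩
  have := stem_no_prime_of_subgroup σ hsurj hcen hder P2 P2_index hS
    (MonoidHom.mem_ker.mpr hσz) (by rw [pow_two, hz2])
  exact hz1 this

end Cfsg.Agent.Lib.Helper5.O8M
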