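import Mathlib
import Cfsg.Agent.Lib.Helper5.StemR
import Cfsg.Agent.Lib.Helper5.StemC

set_option autoImplicit false

/-! The splitting criterion for a Sylow `3`-subgroup which is a wreath product of two groups of
order three, when one of the three base elements is inverted by an element centralising the two
others. -/

namespace Cfsg.Agent.Lib.Helper5.Stem

open Subgroup
open scoped commutatorElement

variable {Γ G : Type*} [Group Γ] [Group G] {σ : Γ →* G}

/-- elements of a group generated by two commuting elements -/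
theorem mem_closure_pair_comm {x y : Γ} (hxy : x * y = y * x) {w : Γ}
    (hw : w ∈ closure ({x, y} : Set Γ)) : ∃ i j : ℤ, w = x ^ i * y ^ j := by
  have cxy : Commute x y := hxy
  induction hw using Subgroup.closure_induction with
  | mem a ha =>
    rcases ha with rfl | rfl
    · exact ⟨1, 0, by simp⟩
    · exact ⟨0, 1, by simp⟩
  | one => exact ⟨0, 0, by simp⟩
  | mul a b _ _ iha ihb =>
    obtain ⟨i, j, rfl⟩ := iha
    obtain ⟨i', j', rfl⟩ := ihb
    refine ⟨i + i', j + j', ?_⟩
    rw [zpow_add, zpow_add]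
    have c3 : Commute (y ^ j) (x ^ i') := (cxy.zpow_zpow i' j).symm
    calc x ^ i * y ^ j * (x ^ i' * y ^ j')
        = x ^ i * (y ^ j * x ^ i') * y ^ j' := by group
      _ = x ^ i * (x ^ i' * y ^ j) * y ^ j' := by rw [c3.eq]
      _ = x ^ i * x ^ i' * (y ^ j * y ^ j') := by group
  | inv a _ iha =>
    obtain ⟨i, j, rfl⟩ := iha
    refine ⟨-i, -j, ?_⟩
    have c1 : Commute (x ^ i) (y ^ j) := cxy.zpow_zpow i j
    rw [zpow_neg, zpow_neg, mul_inv_rev]
    exact (c1.inv_inv.eq).symm

section wr3
variable (hs : Function.Surjective σ) (hcen : σ.ker ≤ center Γ) (hk3 : ∀ κ ∈ σ.ker, κ ^ 3 = 1)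
include hs hcen hk3

/-- the splitting criterion for the group generated by `a` and `t`, where `t` of order three
permutes the commuting elements `a, b, c` of order three cyclically and `s` inverts `a` and
centralises `b` and `c`: the kernel of exponent three meets the derived group of the preimage
trivially. -/
theorem comm_comap_trivial_of_wr3 [Finite Γ] (a b c t s : G)
    (ha : a ^ 3 = 1) (ht : t ^ 3 = 1)
    (rt_a : t * a * t⁻¹ = b) (rt_b : t * b * t⁻¹ = c)
    (c_ab : a * b = b * a) (c_ac : a * c = c * a)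
    (rs_a : s * a * s⁻¹ = a⁻¹) (rs_b : s * b * s⁻¹ = b) (rs_c : s * c * s⁻¹ = c)
    (indep : ∀ i j : ℕ, i < 3 → j < 3 → (a * b⁻¹) ^ i * (b * c⁻¹) ^ j = 1 → i = 0 ∧ j = 0) :
    ∀ w ∈ ⁅(closure ({a, t} : Set G)).comap σ, (closure ({a, t} : Set G)).comap σ⁆,
      σ w = 1 → w = 1 := by
  -- values of the commutator pairing
  have b_ab : bet hs a b = 1 := bet_eq_one_of_inverted hs hcen hk3 c_ab rs_a rs_b
  have b_ac : bet hs a c = 1 := bet_eq_one_of_inverted hs hcen hk3 c_ac rs_a rs_c
  have b_bc : bet hs b c = 1 := by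
    have e := bet_conj hs hcen t c_ab
    rw [rt_a, rt_b, b_ab] at e
    exact e
  -- lifts
  obtain ⟨A, hA⟩ := hs a
  obtain ⟨T, hT⟩ := hs t
  set B : Γ := T * A * T⁻¹ with hBd
  set C : Γ := T * B * T⁻¹ with hCd
  have hB : σ B = b := by rw [hBd, map_mul, map_mul, map_inv, hA, hT, rt_a]
  have hC : σ C = c := by rw [hCd, map_mul, map_mul, map_inv, hB, hT, rt_b]
  have F1 : A * B = B * A := lifts_comm_of_bet hs hcen b_ab hA hB
  have F2 : A * C = C * A := lifts_comm_of_bet hs hcen b_ac hA hC
  have F3 : B * C = C * B := lifts_comm_of_bet hs hcen b_bc hB hC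
  have hT3 : T ^ 3 ∈ σ.ker := by rw [MonoidHom.mem_ker, map_pow, hT, ht]
  have hT3c : ∀ x : Γ, x * T ^ 3 = T ^ 3 * x := Subgroup.mem_center_iff.mp (hcen hT3)
  have hA3 : A ^ 3 ∈ σ.ker := by rw [MonoidHom.mem_ker, map_pow, hA, ha]
  have hA3c : ∀ x : Γ, x * A ^ 3 = A ^ 3 * x := Subgroup.mem_center_iff.mp (hcen hA3)
  have hTC : T * C * T⁻¹ = A := by
    have hT3e : T ^ 3 = T * T * T := by rw [pow_succ, pow_two]
    calc T * C * T⁻¹ = (T * T * T) * A * (T * T * T)⁻¹ := by rw [hCd, hBd]; group
      _ = T ^ 3 * A * (T ^ 3)⁻¹ := by rw [hT3e]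
      _ = A * T ^ 3 * (T ^ 3)⁻¹ := by rw [hT3c A]
      _ = A := by rw [mul_assoc, mul_inv_cancel, mul_one]
  have hB3 : B ^ 3 = A ^ 3 := by
    calc B ^ 3 = T * A ^ 3 * T⁻¹ := by rw [hBd, conj_pow]
      _ = A ^ 3 * T * T⁻¹ := by rw [hA3c T]
      _ = A ^ 3 := by group
  have hC3 : C ^ 3 = A ^ 3 := by
    calc C ^ 3 = T * B ^ 3 * T⁻¹ := by rw [hCd, conj_pow]
      _ = T * A ^ 3 * T⁻¹ := by rw [hB3]
      _ = A ^ 3 * T * T⁻¹ := by rw [hA3c T]
      _ = A ^ 3 := by group
  have CAB : Commute A B := F1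
  have CAC : Commute A C := F2
  have CBC : Commute B C := F3
  set U : Γ := A * B⁻¹ with hUd
  set V : Γ := B * C⁻¹ with hVd
  have hU : σ U = a * b⁻¹ := by rw [hUd, map_mul, map_inv, hA, hB]
  have hV : σ V = b * c⁻¹ := by rw [hVd, map_mul, map_inv, hB, hC]
  have hU3 : U ^ 3 = 1 := by
    rw [hUd, (CAB.inv_right).mul_pow, inv_pow, hB3, mul_inv_cancel]
  have hV3 : V ^ 3 = 1 := by
    rw [hVd, (CBC.inv_right).mul_pow, inv_pow, hB3, hC3, mul_inv_cancel]
  have CUV : Commute U V := by
    have c1 : Commute A V := CAB.mul_right CAC.inv_right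
    have c2 : Commute B V := (Commute.refl B).mul_right CBC.inv_right
    exact c1.mul_left c2.inv_left
  have CAU : Commute A U := (Commute.refl A).mul_right CAB.inv_right
  have CAV : Commute A V := CAB.mul_right CAC.inv_right
  set L : Subgroup Γ := closure ({U, V} : Set Γ) with hL
  have hUL : U ∈ L := subset_closure (by simp)
  have hVL : V ∈ L := subset_closure (by simp)
  have hLker : ∀ w ∈ L, σ w = 1 → w = 1 := by
    intro w hw hw1
    obtain ⟨i, j, rfl⟩ := mem_closure_pair_comm CUV.eq hw
    obtain ⟨n1, hn1, e1⟩ := zpow_eq_pow_lt_three hU3 i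
    obtain ⟨n2, hn2, e2⟩ := zpow_eq_pow_lt_three hV3 j
    rw [e1, e2] at hw1 ⊢
    rw [map_mul, map_pow, map_pow, hU, hV] at hw1
    obtain ⟨r1, r2⟩ := indep n1 n2 hn1 hn2 hw1
    rw [r1, r2, pow_zero, pow_zero, one_mul]
  -- conjugation by the lift of t
  have hTU : T * U * T⁻¹ = V := by
    calc T * U * T⁻¹ = (T * A * T⁻¹) * (T * B * T⁻¹)⁻¹ := by rw [hUd]; group
      _ = V := by rw [← hBd, ← hCd]
  have hTV : T * V * T⁻¹ = (U * V)⁻¹ := by
    have e1 : U * V = A * C⁻¹ := by rw [hUd, hVd]; group
    calc T * V * T⁻¹ = (T * B * T⁻¹) * (T * C * T⁻¹)⁻¹ := by rw [hVd]; group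
      _ = C * A⁻¹ := by rw [← hCd, hTC]
      _ = (A * C⁻¹)⁻¹ := by group
      _ = (U * V)⁻¹ := by rw [e1]
  -- the generators of the preimage
  set S : Set Γ := ({A, T} : Set Γ) ∪ (σ.ker : Set Γ) with hS
  have hN : ∀ s ∈ S, ∀ x ∈ L, s * x * s⁻¹ ∈ L := by
    intro s hs'
    apply conj_mem_closure_of_gens
    intro g hg
    rcases hs' with hs' | hs'
    · rcases hs' with rfl | hs'
      · rcases hg with rfl | hg
        · have : s * U * s⁻¹ = U := by rw [CAU.eq]; group
          rw [this]; exact hUL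
        · rw [Set.mem_singleton_iff] at hg
          subst hg
          have : s * V * s⁻¹ = V := by rw [CAV.eq]; group
          rw [this]; exact hVL
      · rw [Set.mem_singleton_iff] at hs'
        subst hs'
        rcases hg with rfl | hg
        · rw [hTU]; exact hVL
        · rw [Set.mem_singleton_iff] at hg
          subst hg
          rw [hTV]; exact inv_mem (mul_mem hUL hVL)
    · have hsc : ∀ x : Γ, x * s = s * x := Subgroup.mem_center_iff.mp (hcen hs')
      have : s * g * s⁻¹ = g := by rw [← hsc g]; group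
      rw [this]
      exact subset_closure hg
  have hAT : ⁅A, T⁆ = U := by
    rw [commutatorElement_def, hUd, hBd]; group
  have hc : ∀ s ∈ S, ∀ s' ∈ S, ⁅s, s'⁆ ∈ L := by
    intro s hs' s' hs''
    rcases hs' with hs' | hs'
    · rcases hs'' with hs'' | hs''
      · rcases hs' with rfl | hs' <;> rcases hs'' with rfl | hs''
        · rw [commutatorElement_self]; exact one_mem _
        · rw [Set.mem_singleton_iff] at hs''
          subst hs''
          rw [hAT]; exact hUL
        · rw [Set.mem_singleton_iff] at hs'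
          subst hs'
          rw [← commutatorElement_inv, hAT]
          exact inv_mem hUL
        · rw [Set.mem_singleton_iff] at hs' hs''
          subst hs'
          subst hs''
          rw [commutatorElement_self]; exact one_mem _
      · have hsc : ∀ x : Γ, x * s' = s' * x := Subgroup.mem_center_iff.mp (hcen hs'')
        have : ⁅s, s'⁆ = 1 := by
          rw [commutatorElement_eq_one_iff_mul_comm]; exact hsc s
        rw [this]; exact one_mem _
    · have hsc : ∀ x : Γ, x * s = s * x := Subgroup.mem_center_iff.mp (hcen hs')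
      have : ⁅s, s'⁆ = 1 := by
        rw [commutatorElement_eq_one_iff_mul_comm]; exact (hsc s').symm
      rw [this]; exact one_mem _
  have hder := commutator_le_of_gens S L hN hc
  have hP : (closure ({a, t} : Set G)).comap σ ≤ closure S := by
    apply comap_closure_le_of_lifts hs
    · intro x hx
      exact subset_closure (Or.inr hx)
    · intro y hy
      have key : ∀ Z : Γ, Z ∈ S → σ y = σ Z → y ∈ closure S := by
        intro Z hZ hyZ
        have hk : Z⁻¹ * y ∈ σ.ker := by
          rw [MonoidHom.mem_ker, map_mul, map_inv, hyZ, inv_mul_cancel]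
        have : y = Z * (Z⁻¹ * y) := by group
        rw [this]
        exact mul_mem (subset_closure hZ) (subset_closure (Or.inr hk))
      rcases hy with hy | hy
      · exact key A (Or.inl (by simp)) (by rw [hy, hA])
      · rw [Set.mem_singleton_iff] at hy
        exact key T (Or.inl (by simp)) (by rw [hy, hT])
  intro w hw hw1
  exact hLker w (hder (Subgroup.commutator_mono hP hP hw)) hw1

end wr3

end Cfsg.Agent.Lib.Helper5.Stem
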