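import Mathlib
import Cfsg.Agent.Lib.Helper5.StemW
import Cfsg.Agent.Lib.Helper5.StemN

set_option autoImplicit false

/-! The splitting criterion for the product of a group with a central element all of whose
commutators of lifts with lifts of the generators vanish; commutators of lifts of commuting
elements of which one is inverted and one is centralised, for kernels of odd exponent. -/

namespace Cfsg.Agent.Lib.Helper5.Stem

open Subgroup
open scoped commutatorElement

variable {Γ G : Type*} [Group Γ] [Group G] {σ : Γ →* G}

/-- lifts of commuting elements, one inverted and one centralised by some element, commute, when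
the kernel has odd exponent -/
theorem bet_eq_one_of_inverted_odd (p : ℕ) (hp : Odd p) (hs : Function.Surjective σ)
    (hcen : σ.ker ≤ center Γ) (hkp : ∀ κ ∈ σ.ker, κ ^ p = 1) {g h t : G} (hc : g * h = h * g)
    (h1 : t * g * t⁻¹ = g⁻¹) (h2 : t * h * t⁻¹ = h) : bet hs g h = 1 := by
  have e := bet_conj hs hcen t hc
  rw [h1, h2, bet_inv_left hs hcen hc] at e
  set κ := bet hs g h with hκd
  have hκ : κ ∈ σ.ker := bet_mem_ker hs hc
  have h2' : κ * κ = 1 := by
    calc κ * κ = κ⁻¹ * κ := by rw [e]
      _ = 1 := inv_mul_cancel κ
  obtain ⟨m, hm⟩ := hp
  have h3 := hkp κ hκ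
  rw [hm, pow_succ, pow_mul, pow_two, h2', one_pow, one_mul] at h3
  exact h3

/-- adjoining an element whose lifts commute with the lifts of the generators does not change the
derived group of the preimage -/
theorem comm_comap_trivial_of_insert_central [Finite Γ] (hs : Function.Surjective σ)
    (hcen : σ.ker ≤ center Γ) (S : Set G) (d : G)
    (hd : ∀ s ∈ S, bet hs d s = 1)
    (hQ : ∀ w ∈ ⁅(closure S).comap σ, (closure S).comap σ⁆, σ w = 1 → w = 1) :
    ∀ w ∈ ⁅(closure (insert d S)).comap σ, (closure (insert d S)).comap σ⁆, σ w = 1 → w = 1 := by
  obtain ⟨D, hD⟩ := hs d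
  set Q : Subgroup Γ := (closure S).comap σ with hQd
  -- `D` commutes with the preimage
  have hDQ : ∀ x ∈ Q, D * x = x * D := by
    have hle : Q ≤ centralizer {D} := by
      apply comap_closure_le_of_lifts hs S
      · intro κ hκ
        rw [mem_centralizer_iff]
        intro y hy
        rw [Set.mem_singleton_iff] at hy
        subst hy
        exact (Subgroup.mem_center_iff.mp (hcen hκ) y)
      · intro y hy
        rw [mem_centralizer_iff]
        intro x hx
        rw [Set.mem_singleton_iff] at hx
        subst hx
        exact lifts_comm_of_bet hs hcen (hd _ hy) hD rfl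
    intro x hx
    have := hle hx
    rw [mem_centralizer_iff] at this
    exact this D rfl
  set T : Set Γ := insert D (Q : Set Γ) with hT
  have hker : σ.ker ≤ Q := by
    intro κ hκ
    rw [hQd, mem_comap, MonoidHom.mem_ker.mp hκ]
    exact one_mem _
  have hle : (closure (insert d S)).comap σ ≤ closure T := by
    apply comap_closure_le_of_lifts hs
    · exact le_trans hker (fun x hx => subset_closure (Set.mem_insert_of_mem _ hx))
    · intro y hy
      rcases hy with hy | hy
      · -- `y` lifts `d`
        have h1 : σ (D⁻¹ * y) = 1 := by rw [map_mul, map_inv, hD, hy, inv_mul_cancel]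
        have h2 : D⁻¹ * y ∈ Q := hker (MonoidHom.mem_ker.mpr h1)
        have e : y = D * (D⁻¹ * y) := by group
        rw [e]
        exact mul_mem (subset_closure (Set.mem_insert _ _))
          (subset_closure (Set.mem_insert_of_mem _ h2))
      · apply Subgroup.subset_closure
        apply Set.mem_insert_of_mem
        show y ∈ Q
        rw [hQd, mem_comap]
        exact Subgroup.subset_closure hy
  have hcQ : (⁅Q, Q⁆ : Subgroup Γ) ≤ Q := by
    rw [Subgroup.commutator_le]
    intro g₁ h₁ g₂ h₂
    rw [commutatorElement_def]
    exact Q.mul_mem (Q.mul_mem (Q.mul_mem h₁ h₂) (Q.inv_mem h₁)) (Q.inv_mem h₂)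
  have hcomm : ⁅closure T, closure T⁆ ≤ ⁅Q, Q⁆ := by
    apply commutator_le_of_gens
    · intro s hs' x hx
      rcases hs' with rfl | hs'
      · have hxQ : x ∈ Q := hcQ hx
        have : s * x * s⁻¹ = x := by rw [hDQ x hxQ]; group
        rw [this]
        exact hx
      · have : (⁅Q, Q⁆ : Subgroup Γ) ≤ Q := hcQ
        -- conjugation by an element of `Q`
        have h1 : Q ≤ normalizer ((⁅Q, Q⁆ : Subgroup Γ) : Set Γ) := by
          intro q hq
          rw [mem_normalizer_iff]
          intro y
          constructor
          · intro hy
            have := commutator_mem_commutator hq (this hy)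
            have e : q * y * q⁻¹ = ⁅q, y⁆ * y := by rw [commutatorElement_def]; group
            rw [e]
            exact mul_mem (by simpa using this) hy
          · intro hy
            have hq' : q⁻¹ ∈ Q := inv_mem hq
            have := commutator_mem_commutator hq' (this hy)
            have e : y = ⁅q⁻¹, q * y * q⁻¹⁆ * (q * y * q⁻¹) := by
              rw [commutatorElement_def]; group
            rw [e]
            exact mul_mem this hy
        exact (mem_normalizer_iff.mp (h1 hs') x).mp hx
    · intro s hs' s' hs''
      rcases hs' with rfl | hs' <;> rcases hs'' with rfl | hs''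
      · rw [commutatorElement_self]; exact one_mem _
      · have : ⁅s, s'⁆ = 1 := by
          rw [commutatorElement_eq_one_iff_mul_comm]
          exact hDQ s' hs''
        rw [this]; exact one_mem _
      · have : ⁅s, s'⁆ = 1 := by
          rw [commutatorElement_eq_one_iff_mul_comm]
          exact (hDQ s hs').symm
        rw [this]; exact one_mem _
      · exact commutator_mem_commutator hs' hs''
  intro w hw hw1
  exact hQ w (hcomm (commutator_mono hle hle hw)) hw1

end Cfsg.Agent.Lib.Helper5.Stem
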