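import Mathlib
import Cfsg.Agent.Lib.Helper5.O8MD
import Cfsg.Agent.Lib.Helper5.StemW
import Cfsg.Agent.Lib.Helper5.StemJ
import Cfsg.Agent.Lib.Helper5.StemS
import Cfsg.Agent.Lib.Helper5.StemT
import Cfsg.Agent.Lib.Helper5.StemY
import Cfsg.Agent.Lib.Helper5.StemAA

set_option autoImplicit false

/-! Kernels of stem extensions of the orthogonal group of plus type of degree eight over the field
with two elements are quotients of the product of two cyclic groups of order two. -/

namespace Cfsg.Agent.Lib.Helper5.O8M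

open Cfsg Cfsg.Agent.Lib.helper23 Cfsg.Agent.Lib.Helper5.CP Cfsg.Agent.Lib.Helper5.PcT
open Cfsg.Agent.Lib.Helper5.Stem Cfsg.Agent.Lib.helper3
open Subgroup
open scoped commutatorElement

/-! ### the Sylow `3`-subgroup -/

/-- the Sylow `3`-subgroup -/
def P3 : Subgroup HG := closure (insert d3 ({a3, t3} : Set HG))

theorem d3_mem : d3 ∈ P3 := subset_closure (by simp)
theorem a3_mem : a3 ∈ P3 := subset_closure (by simp)
theorem t3_mem : t3 ∈ P3 := subset_closure (by simp)

theorem rt_a : t3 * a3 * t3⁻¹ = b3 := conj_of_mul t3_a3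
theorem rt_b : t3 * b3 * t3⁻¹ = c3 := conj_of_mul t3_b3
theorem rt_c : t3 * c3 * t3⁻¹ = a3 := conj_of_mul t3_c3

theorem b3_mem : b3 ∈ P3 := by
  rw [← rt_a]; exact mul_mem (mul_mem t3_mem a3_mem) (inv_mem t3_mem)

theorem c3_mem : c3 ∈ P3 := by
  rw [← rt_b]; exact mul_mem (mul_mem t3_mem b3_mem) (inv_mem t3_mem)

theorem card_P3_ge : 243 ≤ Nat.card P3 := by
  have h := card_ge_of_words Uid chk_id sbase sbase_lt gT3 gG3 gRep3 P3 ?_ words3 words3_inc
  · rwa [words3_length] at h
  · intro g hg
    simp only [gG3, List.mem_cons, List.not_mem_nil, or_false] at hg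
    rcases hg with rfl | rfl | rfl | rfl | rfl
    · exact a3_mem
    · exact b3_mem
    · exact c3_mem
    · exact d3_mem
    · exact t3_mem

theorem card_N3_le : Nat.card (closure ({a3, b3, c3} : Set HG)) ≤ 27 := by
  have h1 : Nat.card (closure ({c3} : Set HG)) ≤ 3 := card_closure_singleton_cube_le c3_cube
  have h2 : Nat.card (closure (insert b3 ({c3} : Set HG))) ≤ 3 * Nat.card (closure ({c3} : Set HG)) := by
    apply card_closure_insert_cube_le b3_cube
    intro x hx
    rw [Set.mem_singleton_iff] at hx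
    subst hx
    exact b3_c3
  have h3 : Nat.card (closure (insert a3 (insert b3 ({c3} : Set HG)))) ≤
      3 * Nat.card (closure (insert b3 ({c3} : Set HG))) := by
    apply card_closure_insert_cube_le a3_cube
    intro x hx
    rcases hx with rfl | hx
    · exact a3_b3
    · rw [Set.mem_singleton_iff] at hx
      subst hx
      exact a3_c3
  omega

theorem card_M3_le : Nat.card (closure (insert d3 ({a3, b3, c3} : Set HG))) ≤ 81 := by
  have h1 := card_N3_le
  have h2 : Nat.card (closure (insert d3 ({a3, b3, c3} : Set HG))) ≤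
      3 * Nat.card (closure ({a3, b3, c3} : Set HG)) := by
    apply card_closure_insert_cube_le d3_cube
    intro x hx
    rcases hx with rfl | rfl | hx
    · exact d3_a3
    · exact d3_b3
    · rw [Set.mem_singleton_iff] at hx
      subst hx
      exact d3_c3
  omega

theorem card_P3_le : Nat.card P3 ≤ 243 := by
  have hle : P3 ≤ closure (insert t3 (insert d3 ({a3, b3, c3} : Set HG))) := by
    apply Subgroup.closure_mono
    intro x hx
    rcases hx with rfl | rfl | hx
    · exact Set.mem_insert_of_mem _ (Set.mem_insert _ _)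
    · exact Set.mem_insert_of_mem _ (Set.mem_insert_of_mem _ (Set.mem_insert _ _))
    · rw [Set.mem_singleton_iff] at hx
      subst hx
      exact Set.mem_insert _ _
  have h1 : Nat.card (closure (insert t3 (insert d3 ({a3, b3, c3} : Set HG)))) ≤
      3 * Nat.card (closure (insert d3 ({a3, b3, c3} : Set HG))) := by
    apply card_closure_insert_pow_le 3 (by norm_num)
    · have : t3 ^ 3 = 1 := by rw [← t3_cube, pow_succ, pow_two]
      rw [this]; exact one_mem _
    · intro x hx
      rcases hx with rfl | rfl | rfl | hx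
      · have : t3 * d3 * t3⁻¹ = d3 := by rw [← d3_t3]; group
        rw [this]; exact subset_closure (by simp)
      · rw [rt_a]; exact subset_closure (by simp)
      · rw [rt_b]; exact subset_closure (by simp)
      · rw [Set.mem_singleton_iff] at hx
        subst hx
        rw [rt_c]; exact subset_closure (by simp)
  have h2 := card_M3_le
  have h3 := Subgroup.card_le_of_le hle
  omega

theorem card_P3 : Nat.card P3 = 243 := le_antisymm card_P3_le card_P3_ge

theorem P3_index : ¬ 3 ∣ P3.index := by
  have h1 := Subgroup.card_mul_index P3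
  rw [card_P3, card_HG] at h1
  have : P3.index = 716800 := by omega
  rw [this]
  norm_num

theorem card_one_of_all {Γ : Type*} [Group Γ] (K : Subgroup Γ) (hall : ∀ z ∈ K, z = 1) :
    Nat.card K = 1 := by
  rw [Nat.card_eq_one_iff_unique]
  refine ⟨⟨fun a b => ?_⟩, ⟨1⟩⟩
  apply Subtype.ext
  rw [hall a a.2, hall b b.2]

theorem b3_inv : b3⁻¹ = b3i := inv_eq_of_mul_eq_one_right b3i_def
theorem c3_inv : c3⁻¹ = c3i := inv_eq_of_mul_eq_one_right c3i_def

theorem indep3 : ∀ i j : ℕ, i < 3 → j < 3 → (a3 * b3⁻¹) ^ i * (b3 * c3⁻¹) ^ j = 1 →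
    i = 0 ∧ j = 0 := by
  intro i j hi hj h
  rw [b3_inv, c3_inv, ← uu_def, ← vv_def] at h
  interval_cases i <;> interval_cases j
  · exact ⟨rfl, rfl⟩
  · exfalso; apply d01_ne; rw [← d01_def]; simpa [pow_succ] using h
  · exfalso; apply d02_ne; rw [← d02_def]; simpa [pow_succ, mul_assoc] using h
  · exfalso; apply d10_ne; rw [← d10_def]; simpa [pow_succ] using h
  · exfalso; apply d11_ne; rw [← d11_def]; simpa [pow_succ, mul_assoc] using h
  · exfalso; apply d12_ne; rw [← d12_def]; simpa [pow_succ, mul_assoc] using h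
  · exfalso; apply d20_ne; rw [← d20_def]; simpa [pow_succ, mul_assoc] using h
  · exfalso; apply d21_ne; rw [← d21_def]; simpa [pow_succ, mul_assoc] using h
  · exfalso; apply d22_ne; rw [← d22_def]; simpa [pow_succ, mul_assoc] using h

/-- an element `s` with `x * s * x = s` inverts `x` -/
theorem inverts_of_mul {s x : HG} (h : x * s * x = s) : s * x * s⁻¹ = x⁻¹ := by
  calc s * x * s⁻¹ = x⁻¹ * (x * s * x) * s⁻¹ := by group
    _ = x⁻¹ * s * s⁻¹ := by rw [h]
    _ = x⁻¹ := by group

theorem centralises_of_mul {s x : HG} (h : s * x = x * s) : s * x * s⁻¹ = x := by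
  rw [h]; group

/-- no stem extension has a kernel of order three -/
theorem no_stem_three {Γ : Type*} [Group Γ] [Finite Γ] (σ : Γ →* HG)
    (hσ : Cfsg.IsStemExtension σ) : Nat.card σ.ker ≠ 3 := by
  intro hcard
  obtain ⟨hsurj, hcen, hder⟩ := hσ
  have hk3 : ∀ κ ∈ σ.ker, κ ^ 3 = 1 := by
    intro κ hκ
    have := pow_card_eq_one' (G := σ.ker) (x := ⟨κ, hκ⟩)
    rw [hcard] at this
    exact congrArg Subtype.val this
  have ha : a3 ^ 3 = 1 := by rw [← a3_cube, pow_succ, pow_two]
  have ht : t3 ^ 3 = 1 := by rw [← t3_cube, pow_succ, pow_two]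
  have hS0 := comm_comap_trivial_of_wr3 hsurj hcen hk3 a3 b3 c3 t3 s3 ha ht rt_a rt_b a3_b3 a3_c3
    (inverts_of_mul s3_a3) (centralises_of_mul s3_b3) (centralises_of_mul s3_c3) indep3
  have hd : ∀ s ∈ ({a3, t3} : Set HG), bet hsurj d3 s = 1 := by
    intro s hs
    rcases hs with rfl | hs
    · exact bet_eq_one_of_inverted hsurj hcen hk3 d3_a3 (inverts_of_mul s3p_d3)
        (centralises_of_mul s3p_a3)
    · rw [Set.mem_singleton_iff] at hs
      subst hs
      exact bet_eq_one_of_inverted hsurj hcen hk3 d3_t3 (inverts_of_mul s4_d3)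
        (centralises_of_mul s4_t3)
  have hS := comm_comap_trivial_of_insert_central hsurj hcen ({a3, t3} : Set HG) d3 hd hS0
  have : Fact (Nat.Prime 3) := ⟨by norm_num⟩
  have hall : ∀ z ∈ σ.ker, z = 1 := by
    intro z hz
    exact stem_no_prime_of_subgroup σ hsurj hcen hder P3 P3_index hS hz (hk3 z hz)
  have := card_one_of_all σ.ker hall
  omega

/-! ### the Sylow `5`-subgroup -/

/-- the Sylow `5`-subgroup -/
def P5 : Subgroup HG := closure ({x5, y5} : Set HG)

theorem x5_mem : x5 ∈ P5 := subset_closure (by simp)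
theorem y5_mem : y5 ∈ P5 := subset_closure (by simp)

theorem card_P5_ge : 25 ≤ Nat.card P5 := by
  have h := card_ge_of_words Uid chk_id sbase sbase_lt gT5 gG5 gRep5 P5 ?_ words5 words5_inc
  · rwa [words5_length] at h
  · intro g hg
    simp only [gG5, List.mem_cons, List.not_mem_nil, or_false] at hg
    rcases hg with rfl | rfl
    · exact x5_mem
    · exact y5_mem

theorem x5_pow' : x5 ^ 5 = 1 := by
  rw [← x5_pow]; simp only [pow_succ, pow_zero, one_mul]

theorem y5_pow' : y5 ^ 5 = 1 := by
  rw [← y5_pow]; simp only [pow_succ, pow_zero, one_mul]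

theorem card_P5_le : Nat.card P5 ≤ 25 := by
  have h0 : Nat.card (closure (∅ : Set HG)) = 1 := by
    rw [Subgroup.closure_empty]; exact Subgroup.card_bot
  have h1 : Nat.card (closure (insert y5 (∅ : Set HG))) ≤ 5 * Nat.card (closure (∅ : Set HG)) := by
    apply card_closure_insert_pow_le 5 (by norm_num)
    · rw [y5_pow']; exact one_mem _
    · intro t ht; exact absurd ht (Set.notMem_empty t)
  have h2 : Nat.card (closure (insert x5 (insert y5 (∅ : Set HG)))) ≤
      5 * Nat.card (closure (insert y5 (∅ : Set HG))) := by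
    apply card_closure_insert_pow_le 5 (by norm_num)
    · rw [x5_pow']; exact one_mem _
    · intro t ht
      rcases ht with rfl | ht
      · have : x5 * y5 * x5⁻¹ = y5 := by rw [x5_y5]; group
        rw [this]; exact subset_closure (by simp)
      · exact absurd ht (Set.notMem_empty t)
  have e : P5 = closure (insert x5 (insert y5 (∅ : Set HG))) := by
    unfold P5
    congr 1
    ext g
    simp
  rw [e]
  omega

theorem card_P5 : Nat.card P5 = 25 := le_antisymm card_P5_le card_P5_ge

theorem P5_index : ¬ 5 ∣ P5.index := by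
  have h1 := Subgroup.card_mul_index P5
  rw [card_P5, card_HG] at h1
  have : P5.index = 6967296 := by omega
  rw [this]
  norm_num

/-- no stem extension has a kernel of order five -/
theorem no_stem_five {Γ : Type*} [Group Γ] [Finite Γ] (σ : Γ →* HG)
    (hσ : Cfsg.IsStemExtension σ) : Nat.card σ.ker ≠ 5 := by
  intro hcard
  obtain ⟨hsurj, hcen, hder⟩ := hσ
  have hk5 : ∀ κ ∈ σ.ker, κ ^ 5 = 1 := by
    intro κ hκ
    have := pow_card_eq_one' (G := σ.ker) (x := ⟨κ, hκ⟩)
    rw [hcard] at this
    exact congrArg Subtype.val this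
  have hb : bet hsurj x5 y5 = 1 :=
    bet_eq_one_of_inverted_odd 5 (by decide) hsurj hcen hk5 x5_y5 (inverts_of_mul s5_x5)
      (centralises_of_mul s5_y5)
  obtain ⟨X, hX⟩ := hsurj x5
  obtain ⟨Y, hY⟩ := hsurj y5
  have hXY : X * Y = Y * X := lifts_comm_of_bet hsurj hcen hb hX hY
  have hS := comm_comap_trivial_of_comm_lifts σ hcen hX hY hXY
  have : Fact (Nat.Prime 5) := ⟨by norm_num⟩
  have hall : ∀ z ∈ σ.ker, z = 1 := by
    intro z hz
    exact stem_no_prime_of_subgroup σ hsurj hcen hder P5 P5_index (fun w hw _ => hS w hw) hz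
      (hk5 z hz)
  have := card_one_of_all σ.ker hall
  omega

/-- no stem extension has a kernel of prime order at least seven -/
theorem no_stem_other (p : ℕ) (hpP : p.Prime) (hp2 : p ≠ 2) (hp3 : p ≠ 3) (hp5 : p ≠ 5)
    {Γ : Type*} [Group Γ] [Finite Γ] (σ : Γ →* HG) (hσ : Cfsg.IsStemExtension σ) :
    Nat.card σ.ker ≠ p := by
  intro hcardp
  obtain ⟨hsurj, hcen, hder⟩ := hσ
  have hcard := card_HG
  have : Fact p.Prime := ⟨hpP⟩
  obtain ⟨Rr⟩ : Nonempty (Sylow p HG) := inferInstance
  have hcyc : IsCyclic (Rr : Subgroup HG) := by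
    obtain ⟨j, hj⟩ := IsPGroup.iff_card.mp Rr.2
    have hdvd : p ^ j ∣ 174182400 := by
      rw [← hj, ← hcard]
      exact Subgroup.card_subgroup_dvd_card _
    have hj1 : j ≤ 1 := by
      by_contra hlt
      push Not at hlt
      have h2 : p ^ 2 ∣ 174182400 := dvd_trans (pow_dvd_pow p hlt) hdvd
      have e : (174182400 : ℕ) = 2 ^ 12 * 3 ^ 5 * 5 ^ 2 * 7 := by norm_num
      rw [e] at h2
      have hpd : p ∣ 2 ^ 12 * 3 ^ 5 * 5 ^ 2 * 7 :=
        dvd_trans (dvd_pow_self p (by norm_num)) h2
      have hcases : p = 2 ∨ p = 3 ∨ p = 5 ∨ p = 7 := by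
        rcases (Nat.Prime.dvd_mul hpP).mp hpd with h | h
        · rcases (Nat.Prime.dvd_mul hpP).mp h with h | h
          · rcases (Nat.Prime.dvd_mul hpP).mp h with h | h
            · left
              exact (Nat.prime_dvd_prime_iff_eq hpP Nat.prime_two).mp (hpP.dvd_of_dvd_pow h)
            · right; left
              exact (Nat.prime_dvd_prime_iff_eq hpP Nat.prime_three).mp
                (hpP.dvd_of_dvd_pow h)
          · right; right; left
            exact (Nat.prime_dvd_prime_iff_eq hpP (by norm_num)).mp (hpP.dvd_of_dvd_pow h)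
        · right; right; right
          exact (Nat.prime_dvd_prime_iff_eq hpP (by norm_num)).mp h
      rcases hcases with rfl | rfl | rfl | rfl
      · exact hp2 rfl
      · exact hp3 rfl
      · exact hp5 rfl
      · revert h2; norm_num
    interval_cases j
    · rw [pow_zero] at hj
      have : Subsingleton (Rr : Subgroup HG) :=
        (Nat.card_eq_one_iff_unique.mp hj).1
      exact isCyclic_of_subsingleton
    · rw [pow_one] at hj
      exact isCyclic_of_prime_card hj
  have hind : ¬ p ∣ (Rr : Subgroup HG).index := Sylow.not_dvd_index Rr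
  have hall : ∀ z ∈ σ.ker, z = 1 := by
    intro z hz
    have hzp : z ^ p = 1 := by
      have := pow_card_eq_one' (G := σ.ker) (x := ⟨z, hz⟩)
      rw [hcardp] at this
      exact congrArg Subtype.val this
    refine stem_no_prime_of_subgroup σ hsurj hcen hder (Rr : Subgroup HG) hind ?_
      hz hzp
    intro w hw _
    exact comm_comap_trivial_of_cyclic σ hcen (Rr : Subgroup HG) w hw
  have := card_one_of_all σ.ker hall
  rw [this] at hcardp
  exact hpP.one_lt.ne hcardp

/-- the obvious map from the product of two cyclic groups onto the product with a trivial factor -/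
def padHom : Multiplicative (ZMod 2 × ZMod 2) →* Multiplicative (ZMod 1 × ZMod 2 × ZMod 2) :=
  AddMonoidHom.toMultiplicative
    ((0 : ZMod 2 × ZMod 2 →+ ZMod 1).prod (AddMonoidHom.id (ZMod 2 × ZMod 2)))

theorem padHom_surj : Function.Surjective padHom := by
  intro x
  refine ⟨Multiplicative.ofAdd (Multiplicative.toAdd x).2, ?_⟩
  apply Multiplicative.toAdd.injective
  apply Prod.ext
  · exact Subsingleton.elim _ _
  · rfl

/-- the kernel of every finite stem extension of the group on 256 points is a quotient of the product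
of two cyclic groups of order two -/
theorem hg_ker_quot.{u} {Γ : Type u} [Group Γ] [Finite Γ] (σ : Γ →* HG)
    (hσ : Cfsg.IsStemExtension σ) :
    ∃ π : Multiplicative (ZMod 2 × ZMod 2) →* σ.ker, Function.Surjective π := by
  obtain ⟨π, hπ⟩ := ker_quot_of_noncomm_three 2 3 2 2 1 g0 g11 g0 g2 (1 : HG) 1
    g0_g11 (by rw [pow_two, g11_sq]) g0_g2 (by rw [pow_two, g2_sq]) rfl (pow_one 1)
    (fun p hp hp2 hp3 Γ' _ _ σ' hσ' => by
      by_cases hp5 : p = 5
      · subst hp5
        exact no_stem_five σ' hσ'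
      · exact no_stem_other p hp hp2 hp3 hp5 σ' hσ')
    (fun Γ' _ _ σ' hσ' hc => not_both_comm σ' hσ' hc)
    (fun Γ' _ _ σ' hσ' hc => absurd hc (no_stem_three σ' hσ')) σ hσ
  exact ⟨π.comp padHom, hπ.comp padHom_surj⟩

end Cfsg.Agent.Lib.Helper5.O8M
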