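import Mathlib
import Cfsg.Agent.Lib.Helper5.O8IsoC
import Cfsg.Agent.Lib.Helper5.O8ME
import Cfsg.Agent.Lib.Helper5.O8CovMain
import Cfsg.Agent.Lib.Helper5.StemX

set_option autoImplicit false

/-! The Schur multiplier of the simple orthogonal group of plus type of degree eight over a field
with two elements is the product of two cyclic groups of order two. -/

namespace Cfsg.Agent.Lib.Helper5.O8M

open Cfsg Cfsg.Agent.Lib.Helper5.Stem

universe u

theorem o8_multiplier {F : Type u} [Field F] [Fintype F] (hF : Fintype.card F = 2) :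
    Cfsg.HasSchurMultiplier (Cfsg.POmega F (Cfsg.quadFormPlus 4 F))
      (Multiplicative (ZMod 2 × ZMod 2)) := by
  obtain ⟨e⟩ := exists_iso hF
  apply hasSchurMultiplier_of_equiv e
  · exact Cfsg.Agent.Lib.Helper5.O8Cov.exists_stem_HG
  · intro Γ _ _ σ hσ
    exact hg_ker_quot σ hσ

end Cfsg.Agent.Lib.Helper5.O8M
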