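import Mathlib
import Cfsg.Agent.Lib.Helper16.O9H.Defs

set_option autoImplicit false

/-!
# Project O9H, row AMINUS (`minus_alg`): an irreducible polynomial of degree `2e` over a finite field has no roots,
does not divide `X^2 - 1` and does not divide `X^(q^e - 1) - 1`.
-/

namespace Cfsg.Agent.Lib.Helper16.O9H

open Matrix Polynomial Module

variable {F : Type*} [Field F]

/-- an irreducible polynomial of degree at least 2 has no roots -/
theorem o9haminus_no_root (f : F[X]) (hf : Irreducible f) (hd : 2 ≤ f.natDegree) (a : F) : f.eval a ≠ 0 := by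
  intro h
  have h1 := Polynomial.degree_eq_one_of_irreducible_of_root hf (x := a) h
  have h2 : f.natDegree = 1 := Polynomial.natDegree_eq_of_degree_eq_some (by rw [h1]; rfl)
  omega

/-- AMINUS -/
theorem minus_alg [Fintype F] (f : F[X]) (hf : Irreducible f) (e : ℕ) (he : 1 ≤ e) (hd : f.natDegree = 2 * e) :
    f.eval 1 ≠ 0 ∧ f.coeff 0 ≠ 0 ∧ ¬ f ∣ (X ^ 2 - 1 : F[X]) ∧
      ¬ f ∣ (X ^ (Fintype.card F ^ e - 1) - 1 : F[X]) := by
  have hd2 : 2 ≤ f.natDegree := by omega
  have hroot := o9haminus_no_root f hf hd2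
  refine ⟨hroot 1, ?_, ?_, ?_⟩
  · rw [Polynomial.coeff_zero_eq_eval_zero]; exact hroot 0
  · intro h
    have hfac : (X ^ 2 - 1 : F[X]) = (X - C 1) * (X + C 1) := by
      simp only [map_one]; ring
    rw [hfac] at h
    have hp : Prime f := hf.prime
    rcases hp.dvd_or_dvd h with h1 | h1
    · have := Polynomial.natDegree_le_of_dvd h1 (Polynomial.X_sub_C_ne_zero 1)
      rw [Polynomial.natDegree_X_sub_C] at this
      omega
    · have := Polynomial.natDegree_le_of_dvd h1 (Polynomial.X_add_C_ne_zero 1)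
      rw [Polynomial.natDegree_X_add_C] at this
      omega
  · intro h
    have hq : 1 ≤ Fintype.card F ^ e := Nat.one_le_pow _ _ Fintype.card_pos
    have h2 : f ∣ (X ^ (Fintype.card F ^ e) - X : F[X]) := by
      have e1 : (X ^ (Fintype.card F ^ e) - X : F[X]) = X * (X ^ (Fintype.card F ^ e - 1) - 1) := by
        have : Fintype.card F ^ e = (Fintype.card F ^ e - 1) + 1 := by omega
        nth_rewrite 1 [this]
        ring
      rw [e1]
      exact Dvd.dvd.mul_left h X
    have h3 := (hf.natDegree_dvd_iff_dvd_X_pow_card_pow_sub_X (n := e)).mpr (by rw [Nat.card_eq_fintype_card]; exact h2)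
    rw [hd] at h3
    have := Nat.le_of_dvd (by omega) h3
    omega

end Cfsg.Agent.Lib.Helper16.O9H
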