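import Mathlib
import Cfsg.Agent.Lib.Helper18.OPE.Defs

set_option autoImplicit false
set_option linter.unusedVariables false
set_option linter.unusedSectionVars false

/-!
# Project OPE (S5974 + S5988), row QOFSP (helper5): a fixed-point-free symplectic isometry of odd order carries an invariant
quadratic form `Q v = A v ((1 - y)⁻¹ v)` with nondegenerate polar form, all characteristics.
-/

namespace Cfsg.Agent.Lib.Helper18.OPE

open Polynomial Module Cfsg.Agent.Lib.Helper13.S5955 Cfsg.Agent.Lib.helper15.S5972

/-- QOFSP [M-L]: a fixed-point-free symplectic isometry of odd order carries an invariant quadratic form, ALL characteristics.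
`1 - y` is injective (`fixS y = ker (y - 1) = ⊥`), hence bijective; `T := (1 - y)⁻¹` commutes with `y`; `Q v := A v (T v)`
(`LinearMap.BilinMap.toQuadraticMap (A.compl₂ T)`).  `Q (y v) = A (y v) (y (T v)) = Q v`.  The adjoint of `1 - y` for `A` is `1 - y⁻¹ = -y⁻¹ (1 - y)`, so
`A (T u) v = - A u (T (y v))`, and `polar Q u v = A u (T v) + A v (T u) = A u (T v) + A u (T (y v)) = A u ((1 + y) (T v))`.
`1 + y` is injective: `y v = -v` gives `v = y^r v = -v` (`r` odd), so `2 v = 0`; if `2 ≠ 0` then `v = 0`, and if `2 = 0` then `y v = v`, `v ∈ fixS y = ⊥`.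
So `(1 + y) T` is bijective and the polar form is nondegenerate. -/
theorem q_of_sp {F : Type*} [Field F] {V : Type*} [AddCommGroup V] [Module F V]
    [FiniteDimensional F V] {r : ℕ} (hr : Odd r) {A : LinearMap.BilinForm F V}
    {y : Module.End F V} (h : SCtx r A y) (hfix : fixS y = ⊥) :
    ∃ Q : QuadraticForm F V, QCtx r Q y := by
  have hfix' : ∀ v, y v = v → v = 0 := by
    intro v hv
    have hmem : v ∈ fixS y := by
      show v ∈ LinearMap.ker (aeval y (X - 1 : F[X]))
      rw [LinearMap.mem_ker, map_sub, aeval_X, map_one, LinearMap.sub_apply, Module.End.one_apply, hv,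
        sub_self]
    rw [hfix] at hmem
    exact (Submodule.mem_bot F).mp hmem
  obtain ⟨D, hD⟩ : ∃ D : Module.End F V, ∀ v, D v = v - y v :=
    ⟨1 - y, fun v => by rw [LinearMap.sub_apply, Module.End.one_apply]⟩
  have hDinj : Function.Injective D := by
    rw [← LinearMap.ker_eq_bot, LinearMap.ker_eq_bot']
    intro v hv
    apply hfix'
    rw [hD] at hv
    exact (sub_eq_zero.mp hv).symm
  obtain ⟨T, hDT, hTD⟩ : ∃ T : Module.End F V, (∀ v, D (T v) = v) ∧ ∀ v, T (D v) = v := by
    refine ⟨((LinearEquiv.ofInjectiveEndo D hDinj).symm : V →ₗ[F] V), ?_, ?_⟩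
    · intro v
      have := (LinearEquiv.ofInjectiveEndo D hDinj).apply_symm_apply v
      rwa [LinearEquiv.coe_ofInjectiveEndo] at this
    · intro v
      have := (LinearEquiv.ofInjectiveEndo D hDinj).symm_apply_apply v
      rwa [LinearEquiv.coe_ofInjectiveEndo] at this
  have hDy : ∀ v, D (y v) = y (D v) := by
    intro v
    rw [hD, hD, map_sub]
  have hTy : ∀ v, T (y v) = y (T v) := by
    intro v
    apply hDinj
    rw [hDT, hDy, hDT]
  have hkey0 : ∀ a b, A (D a) (y b) = - A a (D b) := by
    intro a b
    rw [hD, hD, map_sub, LinearMap.sub_apply, map_sub, h.pres]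
    ring
  have hkey : ∀ u w, A (T u) w = - A u (T (y w)) := by
    intro u w
    have h1 := hkey0 (T u) (T w)
    rw [hDT, hDT, ← hTy] at h1
    rw [h1, neg_neg]
  have hskew : ∀ u v, A u v = - A v u := by
    intro u v
    have h1 := h.alt (u + v)
    simp only [map_add, LinearMap.add_apply, h.alt u, h.alt v] at h1
    linear_combination h1
  obtain ⟨Q, hQ, hQpol⟩ : ∃ Q : QuadraticForm F V, (∀ v, Q v = A v (T v)) ∧
      ∀ u v, QuadraticMap.polarBilin Q u v = A u (T v) + A v (T u) := by
    refine ⟨LinearMap.BilinMap.toQuadraticMap (A.compl₂ T), ?_, ?_⟩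
    · intro v
      rw [LinearMap.BilinMap.toQuadraticMap_apply, LinearMap.compl₂_apply]
    · intro u v
      rw [QuadraticMap.polarBilin_apply_apply, LinearMap.BilinMap.polar_toQuadraticMap,
        LinearMap.compl₂_apply, LinearMap.compl₂_apply]
  have hpol : ∀ u v, QuadraticMap.polarBilin Q u v = A u (T (v + y v)) := by
    intro u v
    rw [hQpol, hskew v (T u), hkey u v, neg_neg, map_add, map_add]
  -- `1 + y` is injective, hence surjective
  obtain ⟨E, hE⟩ : ∃ E : Module.End F V, ∀ v, E v = v + y v :=
    ⟨1 + y, fun v => by rw [LinearMap.add_apply, Module.End.one_apply]⟩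
  have hEinj : Function.Injective E := by
    rw [← LinearMap.ker_eq_bot, LinearMap.ker_eq_bot']
    intro v hv
    rw [hE] at hv
    have hyv : y v = -v := by
      rw [eq_neg_iff_add_eq_zero, add_comm]
      exact hv
    have hpow : ∀ k : ℕ, (y ^ k) v = (-1 : F) ^ k • v := by
      intro k
      induction k with
      | zero => simp
      | succ k ih =>
        rw [pow_succ, Module.End.mul_apply, hyv, map_neg, ih, pow_succ]
        simp
    have h1 := hpow r
    rw [h.pow, Module.End.one_apply, Odd.neg_one_pow hr, neg_one_smul] at h1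
    apply hfix'
    rw [hyv, ← h1]
  have hEsurj : Function.Surjective E := LinearMap.injective_iff_surjective.mp hEinj
  refine ⟨Q, ⟨?_, ?_, h.pow⟩⟩
  · intro u hu
    apply h.nd
    intro w
    obtain ⟨v, hv⟩ := hEsurj (D w)
    have h1 := hu v
    rw [hpol, ← hE, hv, hTD] at h1
    exact h1
  · intro v
    rw [hQ, hQ, hTy, h.pres]

end Cfsg.Agent.Lib.Helper18.OPE
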