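import Mathlib
import Cfsg.Agent.Lib.Helper18.OPE.Defs
import Cfsg.Agent.Lib.helper17.OPEQCTXO
import Cfsg.Agent.Lib.helper17.OPEQPERP
import Cfsg.Agent.Lib.helper17.OPEQTYSUM
import Cfsg.Agent.Lib.helper17.OPEQTYCLASS
import Cfsg.Agent.Lib.Helper5.OPEUSPLIT

set_option autoImplicit false
set_option linter.unusedVariables false
set_option linter.unusedSectionVars false

/-!
# Project OPE (S5974 + S5988), row UHYP (helper5): `x = 1 + N`, `N² = 0`, `Q ∘ N = 0`, at most two blocks of size 1, `V` hyperbolic: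
every invariant nondegenerate `W` of even dimension is hyperbolic.
-/

namespace Cfsg.Agent.Lib.Helper18.OPE

open Polynomial Module Cfsg.Agent.Lib.Helper13.S5955 Cfsg.Agent.Lib.helper15.S5972
open scoped Matrix

/-- UHYP [M-L]: `x = 1 + N`, `N² = 0`, `Q ∘ N = 0`, at most two Jordan blocks of size 1 (`dim ker N ≤ rank N + 2`), `V` hyperbolic: every invariant nondegenerate `W` of even dimension is hyperbolic.
(`W' = W^⊥` (QPERP); USPLIT: `δ(W) := dim (W ⊓ ker N) - dim N W ≥ 0`, `δ(W) + δ(W') = δ(V) ≤ 2`, `dim W = 2 dim N W + δ(W)`, so `δ(W) ∈ {0, 2}`.  `δ(W) = 0`: `U = N W` is totally singular of half the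
dimension.  `δ(W) = 2`: `δ(W') = 0`, `dim W'` even, so `W'` is hyperbolic; QTYSUM + QTYUNIQ + QTYIFF: `type(W) · 1 = type(V) = 1`.) -/
theorem u_hyp {F : Type*} [Field F] [Fintype F]
    {V : Type*} [AddCommGroup V] [Module F V] [FiniteDimensional F V] {r : ℕ} (hr : 0 < r)
    {Q : QuadraticForm F V} {x : Module.End F V} (h : QCtx r Q x)
    (hNN : (x - 1) * (x - 1) = 0) (hQN : ∀ v, Q ((x - 1) v) = 0)
    (hVe : Even (finrank F V)) (hτ : QTy Q (⊤ : Submodule F V) 1)
    (hδ : finrank F (LinearMap.ker (x - 1)) ≤ finrank F (LinearMap.range (x - 1)) + 2)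
    (W : Submodule F V) (hW : SInv x W) (hWnd : SND (QuadraticMap.polarBilin Q) W)
    (hWe : Even (finrank F W)) : QHyp Q W := by
  obtain ⟨hW'inv, hW'nd, hcompl, horth, hdim⟩ := q_perp hr h W hW hWnd
  have hNW : ∀ v ∈ W, (x - 1) v ∈ W := by
    intro v hv
    rw [LinearMap.sub_apply, Module.End.one_apply]
    exact W.sub_mem (hW v hv) hv
  have hNW' : ∀ v ∈ LinearMap.BilinForm.orthogonal (QuadraticMap.polarBilin Q) W,
      (x - 1) v ∈ LinearMap.BilinForm.orthogonal (QuadraticMap.polarBilin Q) W := by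
    intro v hv
    rw [LinearMap.sub_apply, Module.End.one_apply]
    exact Submodule.sub_mem _ (hW'inv v hv) hv
  obtain ⟨h1, h2, h3, h4⟩ := u_split (x - 1) hNN W _ hNW hNW' hcompl
  obtain ⟨h1', h2', -, -⟩ := u_split (x - 1) hNN _ W hNW' hNW hcompl.symm
  have hUW : W.map (x - 1) ≤ W := by
    rintro _ ⟨v, hv, rfl⟩
    exact hNW v hv
  have hUQ : ∀ u ∈ W.map (x - 1), Q u = 0 := by
    rintro _ ⟨v, hv, rfl⟩
    exact hQN v
  obtain ⟨t, ht⟩ := hWe
  by_cases ha : finrank F ↥(W ⊓ LinearMap.ker (x - 1)) = finrank F ↥(W.map (x - 1))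
  · exact ⟨W.map (x - 1), hUW, hUQ, by omega⟩
  · have ha' : finrank F ↥(LinearMap.BilinForm.orthogonal (QuadraticMap.polarBilin Q) W ⊓ LinearMap.ker (x - 1)) =
        finrank F ↥((LinearMap.BilinForm.orthogonal (QuadraticMap.polarBilin Q) W).map (x - 1)) := by
      omega
    have hUW' : (LinearMap.BilinForm.orthogonal (QuadraticMap.polarBilin Q) W).map (x - 1) ≤
        LinearMap.BilinForm.orthogonal (QuadraticMap.polarBilin Q) W := by
      rintro _ ⟨v, hv, rfl⟩
      exact hNW' v hv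
    have hUQ' : ∀ u ∈ (LinearMap.BilinForm.orthogonal (QuadraticMap.polarBilin Q) W).map (x - 1), Q u = 0 := by
      rintro _ ⟨v, hv, rfl⟩
      exact hQN v
    have hW'hyp : QHyp Q (LinearMap.BilinForm.orthogonal (QuadraticMap.polarBilin Q) W) :=
      ⟨_, hUW', hUQ', by omega⟩
    have hW'e : Even (finrank F ↥(LinearMap.BilinForm.orthogonal (QuadraticMap.polarBilin Q) W)) :=
      ⟨finrank F ↥((LinearMap.BilinForm.orthogonal (QuadraticMap.polarBilin Q) W).map (x - 1)), by omega⟩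
    have hty' : QTy Q (LinearMap.BilinForm.orthogonal (QuadraticMap.polarBilin Q) W) 1 :=
      ((qty_iff Q _ hW'nd hW'e).1).mp hW'hyp
    obtain ⟨hiff1, hiff2, hor⟩ := qty_iff Q W hWnd ⟨t, ht⟩
    rcases hor with hp | hm
    · exact hiff1.mpr hp
    · exfalso
      have hsum := qty_sum Q W _ hWnd hW'nd horth ⟨t, ht⟩ hW'e (-1) 1 hm hty'
      rw [hcompl.sup_eq_top] at hsum
      have hneg : QTy Q (⊤ : Submodule F V) (-1) := by simpa using hsum
      exact qty_uniq Q ⊤ hτ hneg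

end Cfsg.Agent.Lib.Helper18.OPE
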