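import Mathlib
import Cfsg.Agent.Lib.Helper5.OSylG

set_option autoImplicit false

namespace Cfsg.Agent.Lib.Helper5.OSyl

open Cfsg Matrix Cfsg.Agent.Lib.Lead Cfsg.Agent.Lib.Helper5.SymSyl

open scoped MatrixGroups

variable {F : Type*} [Field F] (m : ℕ)

abbrev GP (m : ℕ) (F : Type*) [Field F] : Type _ :=
  ↥(Cfsg.isometryGroup F (sqForm (Fin 2 × Fin m) F))

noncomputable def baseP (h2 : (2 : F) ≠ 0) (m : ℕ) : (Fin m → ↥(O2 F)) →* GP m F :=
  ((baseGL m).comp (subPi F m)).codRestrict _ (fun A =>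
    mem_iso_sq_of_orth _ (baseGL_orth m _ (fun i => orth_of_mem_iso h2 _ (A i).2)))

noncomputable def topP (F : Type*) [Field F] (m : ℕ) : Equiv.Perm (Fin m) →* GP m F :=
  (permO (Fin 2 × Fin m) F).comp (liftPerm m)

theorem baseP_coe (h2 : (2 : F) ≠ 0) (A : Fin m → ↥(O2 F)) :
    ((baseP h2 m A : GP m F) : GL (Fin 2 × Fin m) F) = baseGL m (subPi F m A) := rfl

theorem topP_coe (σ : Equiv.Perm (Fin m)) :
    ((topP F m σ : GP m F) : GL (Fin 2 × Fin m) F) = topGL m σ := by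
  show permGL (Fin 2 × Fin m) F (liftPerm m σ) = topGL m σ
  rfl

theorem topP_mul_baseP (h2 : (2 : F) ≠ 0) (σ : Equiv.Perm (Fin m)) (A : Fin m → ↥(O2 F)) :
    topP F m σ * baseP h2 m A * (topP F m σ)⁻¹ = baseP h2 m (fun i => A (σ⁻¹ i)) := by
  apply Subtype.ext
  show ((topP F m σ : GP m F) : GL (Fin 2 × Fin m) F) * ((baseP h2 m A : GP m F) : GL _ F) *
    ((topP F m σ : GP m F) : GL (Fin 2 × Fin m) F)⁻¹ = _
  rw [topP_coe, baseP_coe, baseP_coe, topGL_mul_baseGL]
  rfl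

theorem baseP_injective (h2 : (2 : F) ≠ 0) : Function.Injective (baseP h2 m) := by
  intro A B h
  have h1 := congrArg Subtype.val h
  rw [baseP_coe, baseP_coe] at h1
  exact subPi_injective m (baseGL_injective m h1)

theorem topP_injective : Function.Injective (topP F m) := by
  intro σ τ h
  have h1 := congrArg Subtype.val h
  rw [topP_coe, topP_coe] at h1
  exact topGL_injective m h1

theorem baseP_inf_topP (h2 : (2 : F) ≠ 0) : (baseP h2 m).range ⊓ (topP F m).range = ⊥ := by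
  rw [eq_bot_iff]
  rintro x ⟨⟨A, rfl⟩, ⟨σ, hσ⟩⟩
  rw [Subgroup.mem_bot]
  have h0 := congrArg Subtype.val hσ
  rw [topP_coe, baseP_coe] at h0
  have h3 : baseGL (F := F) m (subPi F m A) ∈ (baseGL (F := F) m).range ⊓ (topGL m).range :=
    ⟨⟨_, rfl⟩, ⟨σ, h0⟩⟩
  rw [baseGL_inf_topGL, Subgroup.mem_bot] at h3
  apply Subtype.ext
  rw [baseP_coe, h3]
  rfl

theorem delta_topP {C : Type*} [CommGroup C] (δ : GP m F →* C) (σ : Equiv.Perm (Fin m)) :
    δ (topP F m σ) = 1 := by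
  induction σ using Equiv.Perm.swap_induction_on with
  | one => rw [map_one, map_one]
  | swap_mul f x y hxy ih =>
    rw [map_mul, map_mul, ih, mul_one]
    show (δ.comp (permO (Fin 2 × Fin m) F)) (liftPerm m (Equiv.swap x y)) = 1
    rw [liftPerm_swap]
    apply delta_swap_pair
    · simp [hxy]
    · simp [hxy]

theorem delta_baseP_single (h2 : (2 : F) ≠ 0) {C : Type*} [CommGroup C]
    (δ : GP m F →* C) (i j : Fin m) (x : ↥(O2 F)) :
    δ (baseP h2 m (Pi.mulSingle i x)) = δ (baseP h2 m (Pi.mulSingle j x)) := by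
  have h1 := topP_mul_baseP m h2 (Equiv.swap i j) (Pi.mulSingle i x)
  have h3 : (fun k => (Pi.mulSingle (M := fun _ : Fin m => ↥(O2 F)) i x) ((Equiv.swap i j)⁻¹ k)) =
      Pi.mulSingle j x := by
    funext k
    rw [Equiv.swap_inv]
    by_cases hkj : k = j
    · subst hkj
      rw [Equiv.swap_apply_right, Pi.mulSingle_eq_same, Pi.mulSingle_eq_same]
    · rw [Pi.mulSingle_eq_of_ne hkj, Pi.mulSingle_eq_of_ne]
      intro h
      apply hkj
      have := congrArg (Equiv.swap i j) h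
      rwa [Equiv.swap_apply_self, Equiv.swap_apply_left] at this
  rw [h3] at h1
  rw [← h1, map_mul, map_mul, map_inv, mul_comm (δ (topP F m _)), mul_inv_cancel_right]

theorem subPi_single (i : Fin m) (x : ↥(O2 F)) :
    subPi F m (Pi.mulSingle i x) = Pi.mulSingle i (x : GL (Fin 2) F) := by
  funext j
  by_cases hji : j = i
  · subst hji
    show ((Pi.mulSingle (M := fun _ : Fin m => ↥(O2 F)) j x) j).1 = _
    rw [Pi.mulSingle_eq_same, Pi.mulSingle_eq_same]
  · show ((Pi.mulSingle (M := fun _ : Fin m => ↥(O2 F)) i x) j).1 = _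
    rw [Pi.mulSingle_eq_of_ne hji, Pi.mulSingle_eq_of_ne hji]
    rfl

theorem det_baseP_single (h2 : (2 : F) ≠ 0) (i : Fin m) (x : ↥(O2 F)) :
    Matrix.GeneralLinearGroup.det ((baseP h2 m (Pi.mulSingle i x) : GP m F) :
      GL (Fin 2 × Fin m) F) = Matrix.GeneralLinearGroup.det (x : GL (Fin 2) F) := by
  rw [baseP_coe, subPi_single, det_baseGL_mulSingle]

end Cfsg.Agent.Lib.Helper5.OSyl
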