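import Mathlib
import Cfsg.Agent.Lib.Helper5.OSylD

set_option autoImplicit false

namespace Cfsg.Agent.Lib.Helper5.SymSyl

open scoped commutatorElement

theorem wreath_ker_pairs {L G C : Type*} [Group L] [Group G] [Finite G] [CommGroup C] {m : ℕ}
    (hm : 2 ≤ m)
    (base : (Fin m → L) →* G) (top : Equiv.Perm (Fin m) →* G)
    (hconj : ∀ σ A, top σ * base A * (top σ)⁻¹ = base (fun i => A (σ⁻¹ i)))
    (hbinj : Function.Injective base) (htinj : Function.Injective top)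
    (hinf : base.range ⊓ top.range = ⊥)
    (δ : G →* C) (θ : L →* C)
    (hθ : ∀ (i : Fin m) (x : L), δ (base (Pi.mulSingle (M := fun _ : Fin m => L) i x)) = θ x)
    (c : ℕ)
    (S : Subgroup L) (a : ℕ) (hScard : Nat.card S = 2 ^ a)
    (T : Subgroup (Equiv.Perm (Fin m))) (t : ℕ) (hTcard : Nat.card T = 2 ^ t)
    (hTgen : GenIn 2 T) (htop : ∀ σ ∈ T, δ (top σ) = 1)
    (hc : Nat.card (((Subgroup.pi Set.univ (fun _ => S)).map base ⊔ T.map top).map δ) ≤ 2 ^ c)
    (X : Set L) (hXS : ∀ x ∈ X, x ∈ S) (hXgen : S ≤ Subgroup.closure X)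
    (hX2 : ∀ x ∈ X, x * x = 1)
    (s₁ : L) (hs₁ : s₁ ∈ X) (hinv : ∀ d ∈ S ⊓ θ.ker, s₁ * d * s₁ * d = 1)
    (P : Subgroup G)
    (hP : P = ((Subgroup.pi Set.univ (fun _ => S)).map base ⊔ T.map top) ⊓ δ.ker) :
    IsPGroup 2 P ∧ 2 ^ (a * m + t) ≤ 2 ^ c * Nat.card P ∧ GenSq 2 P := by
  classical
  haveI : Fact (Nat.Prime 2) := ⟨Nat.prime_two⟩
  have hm1 : 0 < m := by omega
  have hDmem : ∀ d, d ∈ S ⊓ θ.ker ↔ d ∈ S ∧ θ d = 1 := by
    intro d
    rw [Subgroup.mem_inf, MonoidHom.mem_ker]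
  have hPmem : ∀ x, x ∈ P ↔
      x ∈ (Subgroup.pi Set.univ (fun _ => S)).map base ⊔ T.map top ∧ δ x = 1 := by
    intro x
    rw [hP, Subgroup.mem_inf, MonoidHom.mem_ker]
  have single_mem_B : ∀ (i : Fin m) (s : L), s ∈ S →
      base (Pi.mulSingle i s) ∈ (Subgroup.pi Set.univ (fun _ : Fin m => S)).map base := by
    intro i s hs
    exact ⟨_, (Subgroup.mulSingle_mem_pi i s).mpr (fun _ => hs), rfl⟩
  have single_mem_P : ∀ (i : Fin m) (d : L), d ∈ S ⊓ θ.ker → base (Pi.mulSingle i d) ∈ P := by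
    intro i d hd
    rw [hDmem] at hd
    rw [hPmem]
    exact ⟨le_sup_left (a := (Subgroup.pi Set.univ (fun _ : Fin m => S)).map base)
      (single_mem_B i d hd.1), by rw [hθ]; exact hd.2⟩
  have single_commute : ∀ (i j : Fin m) (x y : L), x * y = y * x →
      Commute (Pi.mulSingle (M := fun _ : Fin m => L) i x) (Pi.mulSingle j y) := by
    intro i j x y hxy
    by_cases hij : i = j
    · subst hij
      show Pi.mulSingle (M := fun _ : Fin m => L) i x * Pi.mulSingle i y =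
        Pi.mulSingle i y * Pi.mulSingle i x
      rw [← Pi.mulSingle_mul, ← Pi.mulSingle_mul, hxy]
    · exact Pi.mulSingle_commute (f := fun _ : Fin m => L) hij x y
  have single_sq : ∀ (i : Fin m) (x : L), x ∈ X →
      (Pi.mulSingle (M := fun _ : Fin m => L) i x) * Pi.mulSingle i x = 1 := by
    intro i x hx
    rw [← Pi.mulSingle_mul, hX2 x hx, Pi.mulSingle_one]
  have pair_sq : ∀ (i j : Fin m) (x : L), x ∈ X →
      (Pi.mulSingle (M := fun _ : Fin m => L) i x * Pi.mulSingle j x) ^ 2 = 1 := by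
    intro i j x hx
    rw [(single_commute i j x x rfl).mul_pow, pow_two, pow_two, single_sq i x hx,
      single_sq j x hx, one_mul]
  have hθX : ∀ x ∈ X, θ x * θ x = 1 := by
    intro x hx
    rw [← map_mul, hX2 x hx, map_one]
  have pair_mem_P : ∀ (i j : Fin m) (x : L), x ∈ X →
      base (Pi.mulSingle i x * Pi.mulSingle j x) ∈ P := by
    intro i j x hx
    rw [hPmem]
    refine ⟨le_sup_left (a := (Subgroup.pi Set.univ (fun _ : Fin m => S)).map base) ?_, ?_⟩
    · rw [map_mul]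
      exact Subgroup.mul_mem _ (single_mem_B i _ (hXS x hx)) (single_mem_B j _ (hXS x hx))
    · rw [map_mul, map_mul, hθ, hθ, hθX x hx]
  set Y' : Set (Fin m → L) := {x | ∃ i, ∃ d ∈ S ⊓ θ.ker, x = Pi.mulSingle i d} ∪
    {x | ∃ i j, ∃ y ∈ X, x = Pi.mulSingle i y * Pi.mulSingle j y} with hY'
  set Y : Set G := base '' Y' ∪ {x | ∃ σ ∈ T, σ ^ 2 = 1 ∧ x = top σ} with hYdef
  have hδY' : ∀ x ∈ Subgroup.closure Y', δ (base x) = 1 := by
    have : Subgroup.closure Y' ≤ (δ.comp base).ker := by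
      rw [Subgroup.closure_le]
      rintro _ (⟨i, d, hd, rfl⟩ | ⟨i, j, y, hy, rfl⟩)
      · show δ (base (Pi.mulSingle i d)) = 1
        rw [hθ]
        exact ((hDmem d).mp hd).2
      · show δ (base (Pi.mulSingle i y * Pi.mulSingle j y)) = 1
        rw [map_mul, map_mul, hθ, hθ, hθX y hy]
    intro x hx
    exact this hx
  have hs₁inv : s₁⁻¹ = s₁ := inv_eq_of_mul_eq_one_right (hX2 s₁ hs₁)
  have hYgood : ∀ y ∈ Y, y ∈ P ∧ y ^ 2 ∈ ⁅P, P⁆ := by
    rintro y (⟨x, (⟨i, d, hd, rfl⟩ | ⟨i, j, y, hy, rfl⟩), rfl⟩ | ⟨σ, hσ, hσ2, rfl⟩)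
    · refine ⟨single_mem_P i d hd, ?_⟩
      haveI : Nontrivial (Fin m) := Fin.nontrivial_iff_two_le.mpr hm
      obtain ⟨j, hji⟩ := exists_ne i
      have h1 : s₁ * d⁻¹ * s₁ = d := by
        have h4 : s₁ * d * s₁ = d⁻¹ := eq_inv_of_mul_eq_one_left (hinv d hd)
        have h5 : (s₁ * d * s₁)⁻¹ = d := by rw [h4, inv_inv]
        rw [mul_inv_rev, mul_inv_rev, hs₁inv, ← mul_assoc] at h5
        exact h5
      have h2 : ⁅(Pi.mulSingle (M := fun _ : Fin m => L) i d),
          Pi.mulSingle i s₁ * Pi.mulSingle j s₁⁆ =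
          Pi.mulSingle (M := fun _ : Fin m => L) i (d * d) := by
        funext k
        rw [commutatorElement_def]
        simp only [Pi.mul_apply, Pi.inv_apply]
        by_cases hki : k = i
        · subst hki
          rw [Pi.mulSingle_eq_same, Pi.mulSingle_eq_same, Pi.mulSingle_eq_same,
            Pi.mulSingle_eq_of_ne (Ne.symm hji), mul_one, hs₁inv]
          calc d * s₁ * d⁻¹ * s₁ = d * (s₁ * d⁻¹ * s₁) := by group
            _ = d * d := by rw [h1]
        · rw [Pi.mulSingle_eq_of_ne hki, Pi.mulSingle_eq_of_ne hki, Pi.mulSingle_eq_of_ne hki]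
          group
      have h3 : (base (Pi.mulSingle i d)) ^ 2 =
          ⁅base (Pi.mulSingle i d), base (Pi.mulSingle i s₁ * Pi.mulSingle j s₁)⁆ := by
        rw [← map_commutatorElement, h2, ← pow_two, ← map_pow, Pi.mulSingle_pow]
      rw [h3]
      exact Subgroup.commutator_mem_commutator (single_mem_P i d hd) (pair_mem_P i j s₁ hs₁)
    · refine ⟨pair_mem_P i j y hy, ?_⟩
      rw [← map_pow, pair_sq i j y hy, map_one]
      exact Subgroup.one_mem _
    · refine ⟨?_, ?_⟩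
      · rw [hPmem]
        exact ⟨le_sup_right (b := T.map top) ⟨σ, hσ, rfl⟩, htop σ hσ⟩
      · rw [← map_pow, hσ2, map_one]
        exact Subgroup.one_mem _
  have hmapY' : (Subgroup.closure Y').map base ≤ Subgroup.closure Y := by
    rw [MonoidHom.map_closure]
    apply Subgroup.closure_mono
    exact Set.subset_union_left
  have hpi : Subgroup.pi Set.univ (fun _ : Fin m => S) ≤
      Subgroup.closure {x | ∃ i : Fin m, ∃ y ∈ X, x = Pi.mulSingle i y} := by
    rw [Subgroup.pi_le_iff]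
    intro i
    have h1 : S.map (MonoidHom.mulSingle (fun _ : Fin m => L) i) ≤
        (Subgroup.closure X).map (MonoidHom.mulSingle (fun _ : Fin m => L) i) :=
      Subgroup.map_mono hXgen
    apply h1.trans
    rw [MonoidHom.map_closure]
    apply Subgroup.closure_mono
    rintro _ ⟨y, hy, rfl⟩
    exact ⟨i, y, hy, rfl⟩
  have step : ∀ g : Fin m → L,
      (∃ z ∈ S, g * Pi.mulSingle ⟨0, hm1⟩ z ∈ Subgroup.closure Y') →
      ∀ (i : Fin m) (x : L), x ∈ X →
        ∃ z ∈ S, g * Pi.mulSingle i x * Pi.mulSingle ⟨0, hm1⟩ z ∈ Subgroup.closure Y' := by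
    rintro g ⟨z, hzS, hz⟩ i x hx
    by_cases hi : i = ⟨0, hm1⟩
    · subst hi
      refine ⟨x * z, S.mul_mem (hXS x hx) hzS, ?_⟩
      rw [mul_assoc, ← Pi.mulSingle_mul, ← mul_assoc, hX2 x hx, one_mul]
      exact hz
    · refine ⟨z * x, S.mul_mem hzS (hXS x hx), ?_⟩
      have hc' : Commute (Pi.mulSingle (M := fun _ : Fin m => L) i x)
          (Pi.mulSingle ⟨0, hm1⟩ (z * x)) :=
        Pi.mulSingle_commute (f := fun _ : Fin m => L) hi x (z * x)
      have e : g * Pi.mulSingle i x * Pi.mulSingle ⟨0, hm1⟩ (z * x) =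
          (g * Pi.mulSingle ⟨0, hm1⟩ z) * (Pi.mulSingle ⟨0, hm1⟩ x * Pi.mulSingle i x) := by
        rw [mul_assoc, hc'.eq, Pi.mulSingle_mul]
        simp only [mul_assoc]
      rw [e]
      apply Subgroup.mul_mem _ hz
      apply Subgroup.subset_closure
      right
      exact ⟨_, _, x, hx, rfl⟩
  have hInv : ∀ g ∈ Subgroup.closure {x | ∃ i : Fin m, ∃ y ∈ X, x = Pi.mulSingle i y},
      ∃ z ∈ S, g * Pi.mulSingle ⟨0, hm1⟩ z ∈ Subgroup.closure Y' := by
    intro g hg
    induction hg using Subgroup.closure_induction_right with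
    | one =>
      refine ⟨1, S.one_mem, ?_⟩
      rw [Pi.mulSingle_one, mul_one]
      exact Subgroup.one_mem _
    | mul_right x _ y hy ih =>
      obtain ⟨i, y', hy', rfl⟩ := hy
      exact step x ih i y' hy'
    | mul_inv_cancel x _ y hy ih =>
      obtain ⟨i, y', hy', rfl⟩ := hy
      have : (Pi.mulSingle (M := fun _ : Fin m => L) i y')⁻¹ = Pi.mulSingle i y' :=
        inv_eq_of_mul_eq_one_right (single_sq i y' hy')
      rw [this]
      exact step x ih i y' hy'
  have hB : (Subgroup.pi Set.univ (fun _ : Fin m => S)).map base ⊓ δ.ker ≤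
      Subgroup.closure Y := by
    rintro _ ⟨⟨A, hA, rfl⟩, hAk⟩
    have hAk' : δ (base A) = 1 := hAk
    obtain ⟨z, hzS, hz⟩ := hInv A (hpi hA)
    have h1 := hδY' _ hz
    rw [map_mul, map_mul, hAk', one_mul, hθ] at h1
    have hzD : z ∈ S ⊓ θ.ker := (hDmem z).mpr ⟨hzS, h1⟩
    have ht : (Pi.mulSingle (M := fun _ : Fin m => L) ⟨0, hm1⟩ z) ∈ Subgroup.closure Y' := by
      apply Subgroup.subset_closure
      left
      exact ⟨_, z, hzD, rfl⟩
    have hA' : A ∈ Subgroup.closure Y' := by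
      have e : A = (A * Pi.mulSingle ⟨0, hm1⟩ z) * (Pi.mulSingle ⟨0, hm1⟩ z)⁻¹ := by
        rw [mul_inv_cancel_right]
      rw [e]
      exact Subgroup.mul_mem _ hz (Subgroup.inv_mem _ ht)
    exact hmapY' ⟨A, hA', rfl⟩
  have hTY : ∀ σ ∈ T, σ ^ 2 = 1 →
      ∃ b ∈ (Subgroup.pi Set.univ (fun _ : Fin m => S)).map base,
        b * top σ ∈ Subgroup.closure Y := by
    intro σ hσ hσ2
    refine ⟨1, Subgroup.one_mem _, ?_⟩
    rw [one_mul]
    apply Subgroup.subset_closure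
    right
    exact ⟨σ, hσ, hσ2, rfl⟩
  exact wreath_ker_genSq' (p := 2) base top hconj hbinj htinj hinf δ c S a hScard T t hTcard hTgen
    hc P hP Y hYgood hB hTY

end Cfsg.Agent.Lib.Helper5.SymSyl
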