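import Mathlib
import Cfsg.Agent.Lib.Helper5.OSylJ
import Cfsg.Agent.Lib.Helper5.OSylK
import Cfsg.Agent.Lib.Helper5.OSylH

set_option autoImplicit false

namespace Cfsg.Agent.Lib.Helper5.OSyl

open Cfsg Matrix Cfsg.Agent.Lib.Lead Cfsg.Agent.Lib.Helper5.SymSyl

open scoped MatrixGroups commutatorElement Nat

variable {F : Type*} [Field F] [Fintype F] (m : ℕ)

theorem two_ne_zero_of_odd_card (hF : Odd (Fintype.card F)) : (2 : F) ≠ 0 := by
  intro h
  have hc : ringChar F = 2 :=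
    CharP.ringChar_of_prime_eq_zero Nat.prime_two (by exact_mod_cast h)
  have := FiniteField.even_card_of_char_two hc
  rw [Nat.odd_iff] at hF
  omega

theorem exists_sylow_O2 (hF : Odd (Fintype.card F)) :
    ∃ S : Subgroup ↥(O2 F), Nat.card S = 2 ^ padicValNat 2 (Fintype.card F ^ 2 - 1) ∧
      phiO F ∈ S := by
  classical
  haveI : Fact (Nat.Prime 2) := ⟨Nat.prime_two⟩
  have hφp : IsPGroup 2 (Subgroup.zpowers (phiO F)) := by
    rintro ⟨z, hz⟩
    obtain ⟨k, rfl⟩ := Subgroup.mem_zpowers_iff.mp hz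
    refine ⟨1, Subtype.ext ?_⟩
    show (phiO F ^ k) ^ 2 ^ 1 = 1
    rw [pow_one, ← zpow_natCast, ← _root_.zpow_mul, mul_comm, _root_.zpow_mul, zpow_natCast,
      pow_two, phiO_mul_self, _root_.one_zpow]
  obtain ⟨S, hS⟩ := hφp.exists_le_sylow
  refine ⟨S, ?_, hS (Subgroup.mem_zpowers _)⟩
  rw [S.card_eq_multiplicity, Nat.factorization_def _ Nat.prime_two, v2_card_O2 hF]

def reflSet (S : Subgroup ↥(O2 F)) : Set ↥(O2 F) :=
  {x | x ∈ S ∧ Matrix.GeneralLinearGroup.det (x : GL (Fin 2) F) = -1}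

theorem reflSet_sq (h2 : (2 : F) ≠ 0) (S : Subgroup ↥(O2 F)) (x : ↥(O2 F)) (hx : x ∈ reflSet S) :
    x * x = 1 := by
  apply Subtype.ext
  exact O2_refl h2 x.1 x.2 hx.2

theorem phiO_mem_reflSet (S : Subgroup ↥(O2 F)) (hph : phiO F ∈ S) : phiO F ∈ reflSet S :=
  ⟨hph, det_phiGL⟩

theorem le_closure_reflSet (h2 : (2 : F) ≠ 0) (S : Subgroup ↥(O2 F)) (hph : phiO F ∈ S) :
    S ≤ Subgroup.closure (reflSet S) := by
  intro s hs
  rcases O2_det h2 s.1 s.2 with h | h
  · have e : s = (s * phiO F) * phiO F := by rw [mul_assoc, phiO_mul_self, mul_one]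
    rw [e]
    apply Subgroup.mul_mem
    · apply Subgroup.subset_closure
      refine ⟨S.mul_mem hs hph, ?_⟩
      show Matrix.GeneralLinearGroup.det ((s : GL (Fin 2) F) * phiGL) = -1
      rw [map_mul, h, one_mul, det_phiGL]
    · exact Subgroup.subset_closure (phiO_mem_reflSet S hph)
  · exact Subgroup.subset_closure ⟨hs, h⟩

theorem genSq_of_refl (h2 : (2 : F) ≠ 0) (S : Subgroup ↥(O2 F)) (hph : phiO F ∈ S) :
    GenSq 2 S := by
  apply genSq_of_sets (reflSet S)
  · intro x hx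
    refine ⟨hx.1, ?_⟩
    rw [pow_two, reflSet_sq h2 S x hx]
    exact Subgroup.one_mem _
  · exact le_closure_reflSet h2 S hph

theorem exists_two_subgroup_GP (hF : Odd (Fintype.card F)) :
    ∃ W : Subgroup (GP m F), IsPGroup 2 W ∧
      2 ^ (padicValNat 2 (Fintype.card F ^ 2 - 1) * m + padicValNat 2 m !) ≤ Nat.card W ∧
        GenSq 2 W := by
  classical
  haveI : Fact (Nat.Prime 2) := ⟨Nat.prime_two⟩
  have h2 := two_ne_zero_of_odd_card hF
  obtain ⟨S, hScard, hphS⟩ := exists_sylow_O2 hF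
  obtain ⟨T, hTp, hTcard, hTgen⟩ := good_all 2 m (Fin m) (by simp)
  have hTcard' : Nat.card T = 2 ^ padicValNat 2 m ! := by
    rw [hTcard]; simp
  exact wreath_genSq (baseP h2 m) (topP F m) (topP_mul_baseP m h2) (baseP_injective m h2)
    (topP_injective m) (baseP_inf_topP m h2) S _ hScard (genSq_of_refl h2 S hphS) T _ hTcard' hTgen

noncomputable def detP (F : Type*) [Field F] (m : ℕ) : GP m F →* Fˣ :=
  (Matrix.GeneralLinearGroup.det).comp (Subgroup.subtype _)

theorem card_abelianization_GP (hF : Odd (Fintype.card F)) (hm : 1 ≤ m) :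
    Nat.card (Abelianization (GP m F)) = 4 := by
  have h2 := two_ne_zero_of_odd_card hF
  have hcard : 2 ≤ Fintype.card (Fin 2 × Fin m) := by
    simp only [Fintype.card_prod, Fintype.card_fin]
    omega
  have hidx := RI.index_omega_general h2 hcard (sqQF (Fin 2 × Fin m) F) (sqQF_nondeg h2)
  rw [sqQF_coe] at hidx
  have hidx' : (commutator (GP m F)).index = 4 := hidx
  rw [← hidx', Subgroup.index_eq_card]
  rfl

theorem exists_genSq_omega_sq_even (hF : Odd (Fintype.card F)) (hm : 2 ≤ m) :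
    ∃ P : Subgroup (GP m F), P ≤ commutator (GP m F) ∧ IsPGroup 2 P ∧
      2 ^ (padicValNat 2 (Fintype.card F ^ 2 - 1) * m + padicValNat 2 m !) ≤
        2 ^ 2 * Nat.card P ∧ GenSq 2 P := by
  classical
  haveI : Fact (Nat.Prime 2) := ⟨Nat.prime_two⟩
  have h2 := two_ne_zero_of_odd_card hF
  have hm1 : 0 < m := by omega
  set δ : GP m F →* Abelianization (GP m F) := Abelianization.of with hδ
  set θ : ↥(O2 F) →* Abelianization (GP m F) :=
    δ.comp ((baseP h2 m).comp (MonoidHom.mulSingle (fun _ : Fin m => ↥(O2 F)) ⟨0, hm1⟩))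
    with hθdef
  have hθ : ∀ (i : Fin m) (x : ↥(O2 F)),
      δ (baseP h2 m (Pi.mulSingle (M := fun _ : Fin m => ↥(O2 F)) i x)) = θ x := by
    intro i x
    exact delta_baseP_single m h2 δ i ⟨0, hm1⟩ x
  obtain ⟨S, hScard, hphS⟩ := exists_sylow_O2 hF
  obtain ⟨T, hTp, hTcard, hTgen⟩ := good_all 2 m (Fin m) (by simp)
  have hTcard' : Nat.card T = 2 ^ padicValNat 2 m ! := by
    rw [hTcard]; simp
  have hc : Nat.card (((Subgroup.pi Set.univ (fun _ : Fin m => S)).map
      (baseP h2 m) ⊔ T.map (topP F m)).map δ) ≤ 2 ^ 2 := by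
    have := Subgroup.card_le_card_group (((Subgroup.pi Set.univ (fun _ : Fin m => S)).map
      (baseP h2 m) ⊔ T.map (topP F m)).map δ)
    rw [card_abelianization_GP m hF (by omega)] at this
    exact this
  have hinv : ∀ d ∈ S ⊓ θ.ker, phiO F * d * phiO F * d = 1 := by
    intro d hd
    have hd2 : θ d = 1 := hd.2
    have hmem : baseP h2 m (Pi.mulSingle ⟨0, hm1⟩ d) ∈ commutator (GP m F) := by
      rw [← Abelianization.ker_of, MonoidHom.mem_ker]
      exact hd2
    have hker : commutator (GP m F) ≤ (detP F m).ker := Abelianization.commutator_subset_ker _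
    have hdet := hker hmem
    rw [MonoidHom.mem_ker] at hdet
    have hdet' : Matrix.GeneralLinearGroup.det
        ((baseP h2 m (Pi.mulSingle ⟨0, hm1⟩ d) : GP m F) : GL (Fin 2 × Fin m) F) = 1 := hdet
    rw [det_baseP_single] at hdet'
    apply Subtype.ext
    exact O2_rot h2 d.1 d.2 hdet'
  obtain ⟨hPp, hPcard, hPgen⟩ := wreath_ker_pairs hm (baseP h2 m) (topP F m)
    (topP_mul_baseP m h2) (baseP_injective m h2) (topP_injective m) (baseP_inf_topP m h2)
    δ θ hθ 2 S _ hScard T _ hTcard' hTgen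
    (fun σ _ => delta_topP m δ σ) hc (reflSet S) (fun x hx => hx.1)
    (le_closure_reflSet h2 S hphS) (reflSet_sq h2 S) (phiO F) (phiO_mem_reflSet S hphS) hinv _ rfl
  refine ⟨_, ?_, hPp, hPcard, hPgen⟩
  rw [← Abelianization.ker_of]
  exact inf_le_right

end Cfsg.Agent.Lib.Helper5.OSyl
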