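import Mathlib
import Cfsg.Agent.Lib.Helper5.OSylE
import Cfsg.Agent.Lib.Helper16.SpinE2

set_option autoImplicit false

namespace Cfsg.Agent.Lib.Helper5.OSyl

open Cfsg Matrix Cfsg.Agent.Lib.Lead Cfsg.Agent.Lib.Helper16

open scoped MatrixGroups

section Diag

variable {ι : Type} [Fintype ι] [DecidableEq ι] {F : Type*} [Field F]

noncomputable def diagQF (w : ι → F) : QuadraticForm F (ι → F) :=
  QuadraticMap.weightedSumSquares F w

theorem diagQF_apply (w : ι → F) (v : ι → F) : diagQF w v = ∑ k, w k * (v k * v k) := by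
  unfold diagQF
  rw [QuadraticMap.weightedSumSquares_apply]
  simp only [smul_eq_mul]

theorem diagQF_single (w : ι → F) (k : ι) : diagQF w (Pi.single k 1) = w k := by
  rw [diagQF_apply, Finset.sum_eq_single k]
  · simp
  · intro j _ hj
    rw [Pi.single_eq_of_ne hj]
    simp
  · intro h
    exact absurd (Finset.mem_univ k) h

theorem polar_diagQF (w : ι → F) (u v : ι → F) :
    QuadraticMap.polar (⇑(diagQF w)) u v = 2 * ∑ k, w k * (u k * v k) := by
  unfold QuadraticMap.polar
  rw [diagQF_apply, diagQF_apply, diagQF_apply, ← Finset.sum_sub_distrib,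
    ← Finset.sum_sub_distrib, Finset.mul_sum]
  apply Finset.sum_congr rfl
  intro k _
  simp only [Pi.add_apply]
  ring

theorem diagQF_nondeg (h2 : (2 : F) ≠ 0) (w : ι → F) (hw : ∀ k, w k ≠ 0) :
    (QuadraticMap.polarBilin (diagQF w)).Nondegenerate := by
  have key : ∀ u : ι → F, (∀ v : ι → F, ∑ k, w k * (u k * v k) = 0) → u = 0 := by
    intro u hu
    funext k
    have := hu (Pi.single k 1)
    rw [Finset.sum_eq_single k] at this
    · simp only [Pi.single_eq_same, mul_one] at this
      rcases mul_eq_zero.mp this with h | h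
      · exact absurd h (hw k)
      · exact h
    · intro j _ hj
      rw [Pi.single_eq_of_ne hj]
      simp
    · intro h
      exact absurd (Finset.mem_univ k) h
  constructor
  · intro u hu
    apply key
    intro v
    have := hu v
    rw [QuadraticMap.polarBilin_apply_apply, polar_diagQF] at this
    rcases mul_eq_zero.mp this with h | h
    · exact absurd h h2
    · exact h
  · intro v hv
    apply key
    intro u
    have := hv u
    rw [QuadraticMap.polarBilin_apply_apply, polar_diagQF] at this
    rcases mul_eq_zero.mp this with h | h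
    · exact absurd h h2
    · rw [← h]
      apply Finset.sum_congr rfl
      intro k _
      ring

theorem negMat_mulVec (k : ι) (x : ι → F) :
    negMat F k *ᵥ x = fun j => (if j = k then -1 else 1) * x j := by
  funext j
  unfold negMat
  rw [Matrix.mulVec_diagonal]

theorem negGL_mem_diag (w : ι → F) (k : ι) :
    negGL F k ∈ Cfsg.isometryGroup F ⇑(diagQF w) := by
  rw [RI.mem_iso_iff']
  intro x
  rw [negGL_coe, negMat_mulVec, diagQF_apply, diagQF_apply]
  apply Finset.sum_congr rfl
  intro j _
  split_ifs <;> ring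

def negD (w : ι → F) (k : ι) : ↥(Cfsg.isometryGroup F ⇑(diagQF w)) :=
  ⟨negGL F k, negGL_mem_diag w k⟩

theorem reflG_single (w : ι → F) (k : ι) (hk : w k ≠ 0)
    (hu : diagQF w (Pi.single k 1) ≠ 0) :
    reflG (diagQF w) (Pi.single k 1) hu = negD w k := by
  apply iso_ext'
  rw [reflG_coe]
  show _ = negMat F k
  rw [Matrix.ext_iff_mulVec]
  intro x
  rw [Cfsg.Agent.Lib.helper6.reflectionMatrix_mulVec, negMat_mulVec, diagQF_single, polar_diagQF]
  have hsum : ∑ i, w i * ((Pi.single k 1 : ι → F) i * x i) = w k * x k := by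
    rw [Finset.sum_eq_single k]
    · simp
    · intro j _ hj
      rw [Pi.single_eq_of_ne hj]
      simp
    · intro h
      exact absurd (Finset.mem_univ k) h
  rw [hsum]
  funext j
  simp only [Pi.sub_apply, Pi.smul_apply, smul_eq_mul]
  by_cases hjk : j = k
  · subst hjk
    rw [Pi.single_eq_same, if_pos rfl]
    field_simp
    ring
  · rw [Pi.single_eq_of_ne hjk, if_neg hjk]
    ring

end Diag

end Cfsg.Agent.Lib.Helper5.OSyl
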