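import Mathlib
import Cfsg.Agent.Lib.Helper5.OSylM
import Cfsg.Agent.Lib.Helper5.OSylJ

set_option autoImplicit false

namespace Cfsg.Agent.Lib.Helper5.OSyl

open Cfsg Matrix Cfsg.Agent.Lib.Lead Cfsg.Agent.Lib.Helper16

open scoped MatrixGroups

section Block

variable {ι κ : Type} [Fintype ι] [DecidableEq ι] [Fintype κ] [DecidableEq κ]
  {F : Type*} [Field F]

def blockHom (ι κ : Type) [Fintype ι] [DecidableEq ι] [Fintype κ] [DecidableEq κ]
    (F : Type*) [Field F] :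
    (Matrix ι ι F × Matrix κ κ F) →* Matrix (ι ⊕ κ) (ι ⊕ κ) F where
  toFun p := Matrix.fromBlocks p.1 0 0 p.2
  map_one' := Matrix.fromBlocks_one
  map_mul' p q := by
    rw [Matrix.fromBlocks_multiply]
    simp

noncomputable def blockGL (ι κ : Type) [Fintype ι] [DecidableEq ι] [Fintype κ] [DecidableEq κ]
    (F : Type*) [Field F] : GL ι F × GL κ F →* GL (ι ⊕ κ) F :=
  (Units.map (blockHom ι κ F)).comp (MulEquiv.prodUnits.symm.toMonoidHom)

theorem blockGL_coe (A : GL ι F) (D : GL κ F) :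
    ((blockGL ι κ F (A, D) : GL (ι ⊕ κ) F) : Matrix (ι ⊕ κ) (ι ⊕ κ) F) =
      Matrix.fromBlocks (A : Matrix ι ι F) 0 0 (D : Matrix κ κ F) := rfl

theorem blockGL_injective : Function.Injective (blockGL ι κ F) := by
  rintro ⟨A, D⟩ ⟨A', D'⟩ h
  have h1 := congrArg (fun g : GL (ι ⊕ κ) F => (g : Matrix (ι ⊕ κ) (ι ⊕ κ) F)) h
  simp only [blockGL_coe] at h1
  have h2 := congrArg Matrix.toBlocks₁₁ h1
  have h3 := congrArg Matrix.toBlocks₂₂ h1
  rw [Matrix.toBlocks_fromBlocks₁₁, Matrix.toBlocks_fromBlocks₁₁] at h2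
  rw [Matrix.toBlocks_fromBlocks₂₂, Matrix.toBlocks_fromBlocks₂₂] at h3
  rw [Units.ext h2, Units.ext h3]

theorem det_blockGL (A : GL ι F) (D : GL κ F) :
    Matrix.GeneralLinearGroup.det (blockGL ι κ F (A, D)) =
      Matrix.GeneralLinearGroup.det A * Matrix.GeneralLinearGroup.det D := by
  apply Units.ext
  rw [Matrix.GeneralLinearGroup.val_det_apply, blockGL_coe, Matrix.det_fromBlocks_zero₂₁,
    Units.val_mul]
  rfl

end Block

section Sgn

variable {F : Type*} [Field F]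

def sgnMatHom (F : Type*) [Field F] : (Fin 2 → ℤˣ) →* Matrix (Fin 2) (Fin 2) F where
  toFun ε := Matrix.diagonal (fun j => (((ε j : ℤˣ) : ℤ) : F))
  map_one' := by
    rw [← Matrix.diagonal_one]
    congr 1
    funext j
    simp
  map_mul' ε ε' := by
    rw [Matrix.diagonal_mul_diagonal]
    congr 1
    funext j
    simp

noncomputable def sgnGL (F : Type*) [Field F] : (Fin 2 → ℤˣ) →* GL (Fin 2) F :=
  (sgnMatHom F).toHomUnits

theorem sgnGL_coe (ε : Fin 2 → ℤˣ) :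
    ((sgnGL F ε : GL (Fin 2) F) : Matrix (Fin 2) (Fin 2) F) =
      Matrix.diagonal (fun j => (((ε j : ℤˣ) : ℤ) : F)) := rfl

theorem sgn_sq (a : ℤˣ) : (((a : ℤˣ) : ℤ) : F) * (((a : ℤˣ) : ℤ) : F) = 1 := by
  rcases Int.units_eq_one_or a with h | h <;> simp [h]

theorem det_sgnGL (ε : Fin 2 → ℤˣ) :
    ((Matrix.GeneralLinearGroup.det (sgnGL F ε) : Fˣ) : F) =
      (((ε 0 : ℤˣ) : ℤ) : F) * (((ε 1 : ℤˣ) : ℤ) : F) := by
  rw [Matrix.GeneralLinearGroup.val_det_apply, sgnGL_coe, Matrix.det_diagonal, Fin.prod_univ_two]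

end Sgn

section CaseII

variable {F : Type*} [Field F] (m : ℕ) (ν : F)

abbrev Kap2 (m : ℕ) : Type := (Fin 2 × Fin m) ⊕ Fin 2

def wII (ν : F) (m : ℕ) : Kap2 m → F := Sum.elim (fun _ => 1) ![1, ν]

abbrev G2 (m : ℕ) (ν : F) : Type _ := ↥(Cfsg.isometryGroup F ⇑(diagQF (wII ν m)))

theorem diagQF_wII_apply (v : Kap2 m → F) :
    diagQF (wII ν m) v = sqForm (Fin 2 × Fin m) F (v ∘ Sum.inl) +
      (v (Sum.inr 0) * v (Sum.inr 0) + ν * (v (Sum.inr 1) * v (Sum.inr 1))) := by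
  rw [diagQF_apply, Fintype.sum_sum_type, Fin.sum_univ_two]
  unfold sqForm wII
  simp

theorem wII_ne_zero (hν : ν ≠ 0) (k : Kap2 m) : wII ν m k ≠ 0 := by
  rcases k with k | j
  · simp [wII]
  · fin_cases j
    · simp [wII]
    · simpa [wII] using hν

noncomputable def PhiGL (F : Type*) [Field F] (m : ℕ) :
    GP m F × (Fin 2 → ℤˣ) →* GL (Kap2 m) F :=
  (blockGL (Fin 2 × Fin m) (Fin 2) F).comp
    (MonoidHom.prodMap (Subgroup.subtype _) (sgnGL F))

theorem PhiGL_coe (h : GP m F) (ε : Fin 2 → ℤˣ) :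
    ((PhiGL F m (h, ε) : GL (Kap2 m) F) : Matrix (Kap2 m) (Kap2 m) F) =
      Matrix.fromBlocks ((h : GL (Fin 2 × Fin m) F) : Matrix (Fin 2 × Fin m) (Fin 2 × Fin m) F)
        0 0 (Matrix.diagonal (fun j => (((ε j : ℤˣ) : ℤ) : F))) := rfl

theorem PhiGL_mem (p : GP m F × (Fin 2 → ℤˣ)) :
    PhiGL F m p ∈ Cfsg.isometryGroup F ⇑(diagQF (wII ν m)) := by
  obtain ⟨h, ε⟩ := p
  rw [RI.mem_iso_iff']
  intro x
  rw [PhiGL_coe, Matrix.fromBlocks_mulVec, diagQF_wII_apply, diagQF_wII_apply]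
  simp only [Matrix.zero_mulVec, add_zero, zero_add]
  have h1 : (Sum.elim
      (((h : GL (Fin 2 × Fin m) F) : Matrix (Fin 2 × Fin m) (Fin 2 × Fin m) F) *ᵥ (x ∘ Sum.inl))
      (Matrix.diagonal (fun j => (((ε j : ℤˣ) : ℤ) : F)) *ᵥ (x ∘ Sum.inr))) ∘ Sum.inl =
      ((h : GL (Fin 2 × Fin m) F) : Matrix (Fin 2 × Fin m) (Fin 2 × Fin m) F) *ᵥ
        (x ∘ Sum.inl) := by
    funext k
    rfl
  rw [h1, (RI.mem_iso_iff' _ _).mp h.2]
  congr 1
  simp only [Sum.elim_inr, Matrix.mulVec_diagonal, Function.comp_apply]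
  have e0 := sgn_sq (F := F) (ε 0)
  have e1 := sgn_sq (F := F) (ε 1)
  linear_combination (x (Sum.inr 0) * x (Sum.inr 0)) * e0 + (ν * (x (Sum.inr 1) * x (Sum.inr 1))) * e1

noncomputable def Phi (m : ℕ) (ν : F) : GP m F × (Fin 2 → ℤˣ) →* G2 m ν :=
  (PhiGL F m).codRestrict _ (PhiGL_mem m ν)

theorem Phi_coe (p : GP m F × (Fin 2 → ℤˣ)) :
    ((Phi m ν p : G2 m ν) : GL (Kap2 m) F) = PhiGL F m p := rfl

theorem sgnGL_injective (h2 : (2 : F) ≠ 0) : Function.Injective (sgnGL F) := by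
  intro ε ε' h
  have h1 := congrArg (fun g : GL (Fin 2) F => (g : Matrix (Fin 2) (Fin 2) F)) h
  simp only [sgnGL_coe] at h1
  have h3 := Matrix.diagonal_injective h1
  funext j
  have h4 := congrFun h3 j
  rcases Int.units_eq_one_or (ε j) with ha | ha <;> rcases Int.units_eq_one_or (ε' j) with hb | hb
  · rw [ha, hb]
  · exfalso
    rw [ha, hb] at h4
    simp only [Units.val_one, Int.cast_one, Units.val_neg, Int.cast_neg] at h4
    apply h2
    linear_combination h4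
  · exfalso
    rw [ha, hb] at h4
    simp only [Units.val_one, Int.cast_one, Units.val_neg, Int.cast_neg] at h4
    apply h2
    linear_combination -h4
  · rw [ha, hb]

theorem Phi_injective (h2 : (2 : F) ≠ 0) : Function.Injective (Phi m ν) := by
  rintro ⟨h, ε⟩ ⟨h', ε'⟩ hh
  have h1 : PhiGL F m (h, ε) = PhiGL F m (h', ε') := congrArg Subtype.val hh
  have h3 := blockGL_injective h1
  simp only [MonoidHom.prodMap_def, MonoidHom.prod_apply, MonoidHom.coe_comp, Function.comp_apply,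
    MonoidHom.coe_fst, MonoidHom.coe_snd, Prod.mk.injEq] at h3
  obtain ⟨h4, h5⟩ := h3
  have h6 : h = h' := Subtype.ext h4
  have h7 : ε = ε' := sgnGL_injective h2 h5
  rw [h6, h7]

theorem det_Phi_one (ε : Fin 2 → ℤˣ) :
    ((Matrix.GeneralLinearGroup.det ((Phi m ν (1, ε) : G2 m ν) : GL (Kap2 m) F) : Fˣ) : F) =
      (((ε 0 : ℤˣ) : ℤ) : F) * (((ε 1 : ℤˣ) : ℤ) : F) := by
  rw [Phi_coe]
  show ((Matrix.GeneralLinearGroup.det (blockGL (Fin 2 × Fin m) (Fin 2) F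
    (((1 : GP m F) : GL (Fin 2 × Fin m) F), sgnGL F ε)) : Fˣ) : F) = _
  rw [det_blockGL, Units.val_mul, det_sgnGL]
  simp

end CaseII

end Cfsg.Agent.Lib.Helper5.OSyl
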