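import Mathlib
import Cfsg.Agent.Lib.Helper5.OSylN
import Cfsg.Agent.Lib.Helper5.OSylL

set_option autoImplicit false

namespace Cfsg.Agent.Lib.Helper5.OSyl

open Cfsg Matrix Cfsg.Agent.Lib.Lead Cfsg.Agent.Lib.Helper16 Cfsg.Agent.Lib.Helper5.SymSyl

open scoped MatrixGroups commutatorElement Nat

variable {F : Type*} [Field F] [Fintype F] (m : ℕ) (ν : F)

noncomputable def detG2 (m : ℕ) (ν : F) : G2 m ν →* Fˣ :=
  (Matrix.GeneralLinearGroup.det).comp (Subgroup.subtype _)

theorem Phi_neg_neg (ε : Fin 2 → ℤˣ) (h0 : ε 0 = -1) (h1 : ε 1 = -1) :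
    Phi m ν (1, ε) = negD (wII ν m) (Sum.inr 0) * negD (wII ν m) (Sum.inr 1) := by
  apply Subtype.ext
  apply Units.ext
  show ((PhiGL F m (1, ε) : GL (Kap2 m) F) : Matrix (Kap2 m) (Kap2 m) F) =
    negMat F (Sum.inr 0) * negMat F (Sum.inr 1)
  rw [PhiGL_coe]
  unfold negMat
  rw [Matrix.diagonal_mul_diagonal]
  have e1 : (((1 : GP m F) : GL (Fin 2 × Fin m) F) : Matrix (Fin 2 × Fin m) (Fin 2 × Fin m) F) =
      Matrix.diagonal (fun _ => (1 : F)) := by
    rw [Matrix.diagonal_one]
    rfl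
  rw [e1, Matrix.fromBlocks_diagonal]
  congr 1
  funext k
  rcases k with k | j
  · simp
  · fin_cases j
    · simp [h0]
    · simp [h1]

theorem Phi_one_not_mem_comm (hF : Odd (Fintype.card F)) (hν : ¬ IsSquare ν)
    (ε : Fin 2 → ℤˣ) (hε : ε ≠ 1) : Phi m ν (1, ε) ∉ commutator (G2 m ν) := by
  have h2 := two_ne_zero_of_odd_card hF
  have hν0 : ν ≠ 0 := by
    rintro rfl
    exact hν IsSquare.zero
  intro hmem
  have hker : commutator (G2 m ν) ≤ (detG2 m ν).ker := Abelianization.commutator_subset_ker _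
  have hdet := hker hmem
  rw [MonoidHom.mem_ker] at hdet
  have hdet' : ((Matrix.GeneralLinearGroup.det ((Phi m ν (1, ε) : G2 m ν) : GL (Kap2 m) F) : Fˣ) :
      F) = 1 := by
    have : Matrix.GeneralLinearGroup.det ((Phi m ν (1, ε) : G2 m ν) : GL (Kap2 m) F) = 1 := hdet
    rw [this, Units.val_one]
  rw [det_Phi_one] at hdet'
  have hneg : (-1 : F) ≠ 1 := by
    intro h
    apply h2
    linear_combination -h
  rcases Int.units_eq_one_or (ε 0) with h0 | h0 <;> rcases Int.units_eq_one_or (ε 1) with h1 | h1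
  · apply hε
    funext j
    fin_cases j
    · exact h0
    · exact h1
  · rw [h0, h1] at hdet'
    simp only [Units.val_one, Int.cast_one, Units.val_neg, Int.cast_neg, one_mul] at hdet'
    exact hneg hdet'
  · rw [h0, h1] at hdet'
    simp only [Units.val_one, Int.cast_one, Units.val_neg, Int.cast_neg, mul_one] at hdet'
    exact hneg hdet'
  · obtain ⟨χ, κ, hχ⟩ := spin_char_formula h2 (diagQF (wII ν m))
    have hkerχ : commutator (G2 m ν) ≤ χ.ker := Abelianization.commutator_subset_ker _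
    have hχ1 := hkerχ hmem
    rw [MonoidHom.mem_ker, Phi_neg_neg m ν ε h0 h1] at hχ1
    have hu0 : diagQF (wII ν m) (Pi.single (Sum.inr 0) 1) ≠ 0 := by
      rw [diagQF_single]; exact wII_ne_zero m ν hν0 _
    have hu1 : diagQF (wII ν m) (Pi.single (Sum.inr 1) 1) ≠ 0 := by
      rw [diagQF_single]; exact wII_ne_zero m ν hν0 _
    rw [← reflG_single (wII ν m) (Sum.inr 0) (wII_ne_zero m ν hν0 _) hu0,
      ← reflG_single (wII ν m) (Sum.inr 1) (wII_ne_zero m ν hν0 _) hu1, map_mul, hχ, hχ,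
      diagQF_single, diagQF_single] at hχ1
    have hw0 : wII ν m (Sum.inr 0) = 1 := rfl
    have hw1 : wII ν m (Sum.inr 1) = ν := rfl
    rw [hw0, hw1] at hχ1
    have hs1 : sqSign (1 : F) = 1 := by
      unfold sqSign
      rw [if_pos ⟨1, by ring⟩]
    have hsν : sqSign ν = -1 := by
      unfold sqSign
      rw [if_neg hν]
    rw [hs1, hsν, mul_one, mul_neg, mul_one, mul_neg, Int.units_mul_self] at hχ1
    exact absurd hχ1 (by decide)

theorem card_abelianization_G2 (hF : Odd (Fintype.card F)) (hν : ν ≠ 0) :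
    Nat.card (Abelianization (G2 m ν)) = 4 := by
  have h2 := two_ne_zero_of_odd_card hF
  have hcard : 2 ≤ Fintype.card (Kap2 m) := by
    simp only [Fintype.card_sum, Fintype.card_prod, Fintype.card_fin]
    omega
  have hidx := RI.index_omega_general h2 hcard (diagQF (wII ν m))
    (diagQF_nondeg h2 _ (wII_ne_zero m ν hν))
  have hidx' : (commutator (G2 m ν)).index = 4 := hidx
  rw [← hidx', Subgroup.index_eq_card]
  rfl

theorem exists_genSq_omega_II (hF : Odd (Fintype.card F)) (hν : ¬ IsSquare ν) :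
    ∃ P : Subgroup (G2 m ν), P ≤ commutator (G2 m ν) ∧ IsPGroup 2 P ∧
      2 ^ (padicValNat 2 (Fintype.card F ^ 2 - 1) * m + padicValNat 2 m !) ≤ Nat.card P ∧
        GenSq 2 P := by
  classical
  have h2 := two_ne_zero_of_odd_card hF
  have hν0 : ν ≠ 0 := by
    rintro rfl
    exact hν IsSquare.zero
  obtain ⟨W, hWp, hWcard, hWgen⟩ := exists_two_subgroup_GP (F := F) m hF
  set δ : G2 m ν →* Abelianization (G2 m ν) := Abelianization.of with hδ
  set lam : (Fin 2 → ℤˣ) →* Abelianization (G2 m ν) :=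
    δ.comp ((Phi m ν).comp (MonoidHom.inr (GP m F) (Fin 2 → ℤˣ))) with hlam
  have hlam_apply : ∀ ε, lam ε = δ (Phi m ν (1, ε)) := fun ε => rfl
  have hlinj : Function.Injective lam := by
    rw [injective_iff_map_eq_one]
    intro ε hε
    by_contra hne
    apply Phi_one_not_mem_comm m ν hF hν ε hne
    rw [← Abelianization.ker_of, MonoidHom.mem_ker]
    exact hε
  have hcardE : Nat.card (Fin 2 → ℤˣ) = 4 := by
    rw [Nat.card_eq_fintype_card]
    rfl
  have hlbij : Function.Bijective lam := by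
    apply hlinj.bijective_of_nat_card_le
    rw [card_abelianization_G2 m ν hF hν0, hcardE]
  set mu : Abelianization (G2 m ν) ≃* (Fin 2 → ℤˣ) := (MulEquiv.ofBijective lam hlbij).symm
    with hmu
  have hlm : ∀ c, lam (mu c) = c := by
    intro c
    exact (MulEquiv.ofBijective lam hlbij).apply_symm_apply c
  have hexp : ∀ c : Abelianization (G2 m ν), c * c = 1 := by
    intro c
    rw [← hlm c, ← map_mul]
    have : mu c * mu c = 1 := by
      funext j
      exact Int.units_mul_self _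
    rw [this, map_one]
  set Psi : GP m F →* G2 m ν := (Phi m ν).comp ((MonoidHom.id (GP m F)).prod
    (mu.toMonoidHom.comp (δ.comp ((Phi m ν).comp (MonoidHom.inl (GP m F) (Fin 2 → ℤˣ))))))
    with hPsi
  have hPsi_apply : ∀ h, Psi h = Phi m ν (h, mu (δ (Phi m ν (h, 1)))) := fun h => rfl
  have hPsiδ : ∀ h, δ (Psi h) = 1 := by
    intro h
    rw [hPsi_apply]
    have e : ((h, mu (δ (Phi m ν (h, 1)))) : GP m F × (Fin 2 → ℤˣ)) =
        (h, 1) * (1, mu (δ (Phi m ν (h, 1)))) := by
      rw [Prod.mk_mul_mk, mul_one, one_mul]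
    rw [e, map_mul, map_mul, ← hlam_apply, hlm, hexp]
  have hPsiinj : Function.Injective Psi := by
    intro h h' hh
    rw [hPsi_apply, hPsi_apply] at hh
    have := Phi_injective m ν h2 hh
    exact (Prod.mk.inj this).1
  refine ⟨W.map Psi, ?_, hWp.map _, ?_, genSq_map _ hWgen⟩
  · rintro _ ⟨h, _, rfl⟩
    rw [← Abelianization.ker_of, MonoidHom.mem_ker]
    exact hPsiδ h
  · rw [Subgroup.card_map_of_injective hPsiinj]
    exact hWcard

end Cfsg.Agent.Lib.Helper5.OSyl
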