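import Mathlib
import Cfsg.Agent.Lib.Helper5.OSylO
import Cfsg.Agent.Lib.Helper5.OSylI
import Cfsg.Agent.S0838

set_option autoImplicit false

namespace Cfsg.Agent.Lib.Helper5.OSyl

open Cfsg Matrix Cfsg.Agent.Lib.Lead Cfsg.Agent.Lib.Helper16 Cfsg.Agent.Lib.Helper5.SymSyl

open scoped MatrixGroups

section Classify

variable {F : Type*} [Field F] [Fintype F]

theorem diagQF_reindex {ι κ : Type} [Fintype ι] [DecidableEq ι] [Fintype κ] [DecidableEq κ]
    (e : ι ≃ κ) (w : κ → F) :
    (fun x : κ → F => diagQF (w ∘ e) (x ∘ e)) = ⇑(diagQF w) := by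
  funext x
  rw [diagQF_apply, diagQF_apply]
  exact Equiv.sum_comp e (fun k => w k * (x k * x k))

def wLast (n : ℕ) (c : F) : Fin (n + 1) → F := fun i => if i = Fin.last n then c else 1

theorem exists_iso_diag_of_hasType (h2 : (2 : F) ≠ 0) {n : ℕ}
    (Q : QuadraticForm F (Fin (n + 1) → F)) (c : F) (hT : Cfsg.Agent.S0838.HasType Q c) :
    Nonempty (↥(Cfsg.isometryGroup F ⇑(diagQF (wLast n c))) ≃* ↥(Cfsg.isometryGroup F ⇑Q)) := by
  obtain ⟨b, ho, hd, hl⟩ := hT
  apply exists_iso_of_similar Q (diagQF (wLast n c)) b.equivFun 2 h2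
  intro v
  rw [Cfsg.Agent.S0838.Q_repr Q b ho v, diagQF_apply]
  apply Finset.sum_congr rfl
  intro i _
  rw [Module.Basis.equivFun_apply]
  unfold wLast
  by_cases hi : i = Fin.last n
  · subst hi
    rw [if_pos rfl, hl]
    ring
  · rw [if_neg hi, hd i hi]
    ring

theorem classify_even (h2 : (2 : F) ≠ 0) {n : ℕ} (Q : QuadraticForm F (Fin (n + 1) → F))
    (hQ : (QuadraticMap.polarBilin Q).Nondegenerate) (ν : F) (hν : ¬ IsSquare ν) (m : ℕ)
    (hm : 1 ≤ m) (hn : n + 1 = 2 * m) :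
    Nonempty (↥(Cfsg.isometryGroup F ⇑Q) ≃* GP m F) ∨
      Nonempty (↥(Cfsg.isometryGroup F ⇑Q) ≃* G2 (m - 1) ν) := by
  rcases Cfsg.Agent.S0838.has_type h2 Q hQ ν hν with hT | hT
  · left
    obtain ⟨ψ⟩ := exists_iso_diag_of_hasType h2 Q 1 hT
    have hc : Fintype.card (Fin 2 × Fin m) = n + 1 := by
      simp only [Fintype.card_prod, Fintype.card_fin]
      omega
    let e : Fin 2 × Fin m ≃ Fin (n + 1) := Fintype.equivFinOfCardEq hc
    have hform : (fun x : Fin (n + 1) → F => sqForm (Fin 2 × Fin m) F (x ∘ e)) =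
        ⇑(diagQF (wLast n (1 : F))) := by
      rw [← diagQF_reindex e (wLast n (1 : F))]
      funext x
      rw [diagQF_apply]
      unfold sqForm wLast
      apply Finset.sum_congr rfl
      intro k _
      simp
    have χ := RI.isoReindex e (sqForm (Fin 2 × Fin m) F)
    rw [hform] at χ
    exact ⟨ψ.symm.trans χ.symm⟩
  · right
    obtain ⟨ψ⟩ := exists_iso_diag_of_hasType h2 Q ν hT
    have hc : Fintype.card (Kap2 (m - 1)) = n + 1 := by
      simp only [Fintype.card_sum, Fintype.card_prod, Fintype.card_fin]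
      omega
    let e₀ : Kap2 (m - 1) ≃ Fin (n + 1) := Fintype.equivFinOfCardEq hc
    let e : Kap2 (m - 1) ≃ Fin (n + 1) :=
      e₀.trans (Equiv.swap (e₀ (Sum.inr 1)) (Fin.last n))
    have he : e (Sum.inr 1) = Fin.last n := by
      show Equiv.swap (e₀ (Sum.inr 1)) (Fin.last n) (e₀ (Sum.inr 1)) = Fin.last n
      rw [Equiv.swap_apply_left]
    have hw : wLast n ν ∘ e = wII ν (m - 1) := by
      funext k
      unfold wLast
      simp only [Function.comp_apply]
      by_cases hk : k = Sum.inr 1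
      · subst hk
        rw [if_pos he]
        rfl
      · have : e k ≠ Fin.last n := by
          intro h
          apply hk
          apply e.injective
          rw [h, he]
        rw [if_neg this]
        rcases k with k | j
        · rfl
        · fin_cases j
          · rfl
          · exact absurd rfl hk
    have hform : (fun x : Fin (n + 1) → F => diagQF (wII ν (m - 1)) (x ∘ e)) =
        ⇑(diagQF (wLast n ν)) := by
      rw [← diagQF_reindex e (wLast n ν), hw]
    have χ := RI.isoReindex e (⇑(diagQF (wII ν (m - 1))))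
    rw [hform] at χ
    exact ⟨ψ.symm.trans χ.symm⟩

theorem classify_even' (h2 : (2 : F) ≠ 0) {ι : Type} [Fintype ι] [DecidableEq ι]
    (Q : QuadraticForm F (ι → F))
    (hQ : (QuadraticMap.polarBilin Q).Nondegenerate) (ν : F) (hν : ¬ IsSquare ν) (m : ℕ)
    (hm : 1 ≤ m) (hι : Fintype.card ι = 2 * m) :
    Nonempty (↥(Cfsg.isometryGroup F ⇑Q) ≃* GP m F) ∨
      Nonempty (↥(Cfsg.isometryGroup F ⇑Q) ≃* G2 (m - 1) ν) := by
  have hc : Fintype.card ι = (2 * m - 1) + 1 := by omega
  let e : ι ≃ Fin ((2 * m - 1) + 1) := Fintype.equivFinOfCardEq hc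
  have h1 := classify_even h2 (RI.qReindex e Q) (RI.qReindex_nondeg e Q hQ) ν hν m hm (by omega)
  have χ := RI.isoReindex e (⇑Q)
  rw [← RI.qReindex_coe] at χ
  rcases h1 with h1 | h1
  · obtain ⟨ψ⟩ := h1
    exact Or.inl ⟨χ.trans ψ⟩
  · obtain ⟨ψ⟩ := h1
    exact Or.inr ⟨χ.trans ψ⟩

end Classify

end Cfsg.Agent.Lib.Helper5.OSyl
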