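import Mathlib
import Cfsg.Agent.Lib.Helper5.GLSylN
import Cfsg.Agent.Lib.Helper5.OSylC
import Cfsg.Agent.Lib.Lead.SpWreathB
import Cfsg.Agent.S0286

set_option autoImplicit false

namespace Cfsg.Agent.Lib.Helper5.OSyl

open Cfsg.Agent.Lib.Lead Cfsg.Agent.Lib.Helper5.SymSyl

open scoped Nat

theorem v2_prod_plain {q : ℕ} (hq : Odd q) (hq1 : 1 < q) (n : ℕ) :
    padicValNat 2 (∏ i ∈ Finset.range n, (q ^ (2 * (i + 1)) - 1)) =
      n * padicValNat 2 (q ^ 2 - 1) + padicValNat 2 n ! := by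
  haveI : Fact (Nat.Prime 2) := ⟨Nat.prime_two⟩
  have h1 := SpW.v2_prod hq hq1 n
  have hne : ∏ i ∈ Finset.range n, (q ^ (2 * (i + 1)) - 1) ≠ 0 := by
    apply Finset.prod_ne_zero_iff.mpr
    intro i _
    have : 1 < q ^ (2 * (i + 1)) := Nat.one_lt_pow (by omega) hq1
    omega
  rw [Cfsg.Agent.S0286.prod_formula, padicValNat.mul (by positivity) hne, SpW.v2_odd_pow hq,
    zero_add] at h1
  exact h1

def NP (q m : ℕ) : ℕ :=
  2 * q ^ (m * (m - 1)) * (q ^ m - 1) * ∏ i ∈ Finset.range (m - 1), (q ^ (2 * (i + 1)) - 1)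

def NM (q m : ℕ) : ℕ :=
  2 * q ^ (m * (m - 1)) * (q ^ m + 1) * ∏ i ∈ Finset.range (m - 1), (q ^ (2 * (i + 1)) - 1)

theorem prod_pos' {q : ℕ} (hq1 : 1 < q) (n : ℕ) :
    ∏ i ∈ Finset.range n, (q ^ (2 * (i + 1)) - 1) ≠ 0 := by
  apply Finset.prod_ne_zero_iff.mpr
  intro i _
  have : 1 < q ^ (2 * (i + 1)) := Nat.one_lt_pow (by omega) hq1
  omega

theorem NP_ne_NM {q : ℕ} (hq1 : 1 < q) (m : ℕ) (hm : 1 ≤ m) : NP q m ≠ NM q m := by
  unfold NP NM
  intro h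
  have h1 : 1 < q ^ m := Nat.one_lt_pow (by omega) hq1
  have hA : 2 * q ^ (m * (m - 1)) ≠ 0 := by positivity
  have h2 := Nat.eq_of_mul_eq_mul_right (Nat.pos_of_ne_zero (prod_pos' hq1 (m - 1))) h
  have h3 := Nat.eq_of_mul_eq_mul_left (Nat.pos_of_ne_zero hA) h2
  omega

theorem v2_NP {q : ℕ} (hq : Odd q) (hq1 : 1 < q) (m : ℕ) (hm : 1 ≤ m) :
    padicValNat 2 (NP q m) = 1 + padicValNat 2 (q ^ m - 1) +
      ((m - 1) * padicValNat 2 (q ^ 2 - 1) + padicValNat 2 (m - 1)!) := by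
  haveI : Fact (Nat.Prime 2) := ⟨Nat.prime_two⟩
  have h1 : 1 < q ^ m := Nat.one_lt_pow (by omega) hq1
  unfold NP
  rw [padicValNat.mul (by apply Nat.mul_ne_zero (by positivity); omega) (prod_pos' hq1 _),
    padicValNat.mul (by positivity) (by omega), padicValNat.mul (by norm_num) (by positivity),
    padicValNat_self, SpW.v2_odd_pow hq, v2_prod_plain hq hq1]

theorem v2_NM {q : ℕ} (hq : Odd q) (hq1 : 1 < q) (m : ℕ) (hm : 1 ≤ m) :
    padicValNat 2 (NM q m) = 1 + padicValNat 2 (q ^ m + 1) +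
      ((m - 1) * padicValNat 2 (q ^ 2 - 1) + padicValNat 2 (m - 1)!) := by
  haveI : Fact (Nat.Prime 2) := ⟨Nat.prime_two⟩
  unfold NM
  rw [padicValNat.mul (by apply Nat.mul_ne_zero (by positivity); omega) (prod_pos' hq1 _),
    padicValNat.mul (by positivity) (by omega), padicValNat.mul (by norm_num) (by positivity),
    padicValNat_self, SpW.v2_odd_pow hq, v2_prod_plain hq hq1]

theorem v2_fact_succ (m : ℕ) (hm : 1 ≤ m) :
    padicValNat 2 m ! = padicValNat 2 m + padicValNat 2 (m - 1)! := by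
  haveI : Fact (Nat.Prime 2) := ⟨Nat.prime_two⟩
  obtain ⟨k, rfl⟩ : ∃ k, m = k + 1 := ⟨m - 1, by omega⟩
  rw [Nat.factorial_succ, padicValNat.mul (by omega) (Nat.factorial_ne_zero k)]
  simp

theorem v2_sq_sub_one_mod1 (q : ℕ) (hq : q % 4 = 1) (hq1 : 1 < q) :
    padicValNat 2 (q ^ 2 - 1) = padicValNat 2 (q - 1) + 1 := by
  haveI : Fact (Nat.Prime 2) := ⟨Nat.prime_two⟩
  have hsq : q ^ 2 - 1 = (q + 1) * (q - 1) := by
    have := Nat.sq_sub_sq q 1
    rwa [one_pow] at this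
  rw [hsq, padicValNat.mul (by omega) (by omega), v2_two_mod4 (q + 1) (by omega)]
  ring

theorem pow_mod4_one (q : ℕ) (hq : q % 4 = 1) (m : ℕ) : q ^ m % 4 = 1 := by
  rw [Nat.pow_mod, hq]; simp

theorem pow_mod4_three_even (q : ℕ) (hq : q % 4 = 3) (j : ℕ) : q ^ (2 * j) % 4 = 1 := by
  rw [pow_mul, Nat.pow_mod]
  have : q ^ 2 % 4 = 1 := by
    rw [Nat.pow_mod, hq]
  rw [this]; simp

theorem v2_NP_right {q : ℕ} (hq : Odd q) (hq1 : 1 < q) (m : ℕ) (hm : 1 ≤ m)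
    (hr : q % 4 = 1 ∨ Even m) :
    padicValNat 2 (NP q m) = padicValNat 2 (q ^ 2 - 1) * m + padicValNat 2 m ! := by
  haveI : Fact (Nat.Prime 2) := ⟨Nat.prime_two⟩
  rw [v2_NP hq hq1 m hm, v2_fact_succ m hm]
  obtain ⟨k, rfl⟩ : ∃ k, m = k + 1 := ⟨m - 1, by omega⟩
  have hq4 : q % 4 = 1 ∨ q % 4 = 3 := by
    rw [Nat.odd_iff] at hq
    omega
  rcases hq4 with h1 | h3
  · rw [v2_pow_sub_one_of_mod4 q h1 hq1 (k + 1) (by omega), v2_sq_sub_one_mod1 q h1 hq1]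
    simp only [Nat.add_sub_cancel]
    ring
  · have hev : Even (k + 1) := by
      rcases hr with h | h
      · omega
      · exact h
    obtain ⟨j, hj⟩ := hev
    have hj' : k + 1 = 2 * j := by omega
    have hj0 : j ≠ 0 := by omega
    have e1 : padicValNat 2 (k + 1) = 1 + padicValNat 2 j := by
      rw [hj', padicValNat.mul (by norm_num) hj0, padicValNat_self]
    have e2 : padicValNat 2 (q ^ (k + 1) - 1) = padicValNat 2 (q ^ 2 - 1) + padicValNat 2 j := by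
      rw [hj']
      exact SpW.v2_pow hq hq1 j hj0
    rw [e1, e2]
    simp only [Nat.add_sub_cancel]
    ring

theorem v2_NM_wrong {q : ℕ} (hq : Odd q) (hq1 : 1 < q) (m : ℕ) (hm : 1 ≤ m)
    (hr : q % 4 = 1 ∨ Even m) :
    padicValNat 2 (NM q m) =
      2 + ((m - 1) * padicValNat 2 (q ^ 2 - 1) + padicValNat 2 (m - 1)!) := by
  rw [v2_NM hq hq1 m hm]
  have hq4 : q % 4 = 1 ∨ q % 4 = 3 := by
    rw [Nat.odd_iff] at hq
    omega
  have hmod : q ^ m % 4 = 1 := by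
    rcases hq4 with h1 | h3
    · exact pow_mod4_one q h1 m
    · have hev : Even m := by
        rcases hr with h | h
        · omega
        · exact h
      obtain ⟨j, hj⟩ := hev
      have : m = 2 * j := by omega
      rw [this]
      exact pow_mod4_three_even q h3 j
  rw [v2_two_mod4 (q ^ m + 1) (by omega)]

theorem v2_NP_wrong {q : ℕ} (hq : Odd q) (hq1 : 1 < q) (m : ℕ) (hm : 1 ≤ m)
    (hq3 : q % 4 = 3) (hodd : Odd m) :
    padicValNat 2 (NP q m) =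
      2 + ((m - 1) * padicValNat 2 (q ^ 2 - 1) + padicValNat 2 (m - 1)!) := by
  rw [v2_NP hq hq1 m hm]
  obtain ⟨j, hj⟩ := hodd
  have hmod : q ^ m % 4 = 3 := by
    rw [hj]
    exact pow_odd_mod4 q hq3 j
  rw [v2_two_mod4 (q ^ m - 1) (by omega)]

theorem v2_NM_right {q : ℕ} (hq : Odd q) (hq1 : 1 < q) (m : ℕ) (hm : 1 ≤ m)
    (hq3 : q % 4 = 3) (hodd : Odd m) :
    padicValNat 2 (NM q m) = padicValNat 2 (q ^ 2 - 1) * m + padicValNat 2 m ! := by
  haveI : Fact (Nat.Prime 2) := ⟨Nat.prime_two⟩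
  rw [v2_NM hq hq1 m hm, v2_fact_succ m hm]
  have hm2 : padicValNat 2 m = 0 := by
    apply padicValNat.eq_zero_of_not_dvd
    rw [← even_iff_two_dvd, Nat.not_even_iff_odd]
    exact hodd
  obtain ⟨j, hj⟩ := hodd
  have hmod : q ^ m % 4 = 3 := by
    rw [hj]
    exact pow_odd_mod4 q hq3 j
  have h1 : 1 < q ^ m := Nat.one_lt_pow (by omega) hq1
  have hsq : q ^ (2 * m) - 1 = (q ^ m + 1) * (q ^ m - 1) := by
    have := Nat.sq_sub_sq (q ^ m) 1
    rw [one_pow, ← pow_mul, mul_comm m 2] at this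
    exact this
  have h2 := SpW.v2_pow hq hq1 m (by omega)
  rw [hsq, padicValNat.mul (by omega) (by omega), v2_two_mod4 (q ^ m - 1) (by omega), hm2,
    add_zero] at h2
  rw [hm2, zero_add]
  obtain ⟨k, rfl⟩ : ∃ k, m = k + 1 := ⟨m - 1, by omega⟩
  simp only [Nat.add_sub_cancel]
  rw [← h2]
  ring

end Cfsg.Agent.Lib.Helper5.OSyl
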