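import Mathlib
import Cfsg.Agent.Lib.Helper5.OSylP
import Cfsg.Agent.Lib.Helper5.OSylQ
import Cfsg.Agent.Lib.Helper16.PlusFam
import Cfsg.Agent.S0287
import Cfsg.Agent.S0288
import Cfsg.Agent.S0791

set_option autoImplicit false

namespace Cfsg.Agent.Lib.Helper5.OSyl

open Cfsg Matrix Cfsg.Agent.Lib.Lead Cfsg.Agent.Lib.Helper16 Cfsg.Agent.Lib.Helper5.SymSyl

open scoped MatrixGroups Nat

theorem sylow_transfer {G₁ G₂ : Type*} [Group G₁] [Group G₂] [Finite G₁] (e0 : G₁ ≃* G₂)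
    (P : Subgroup G₂) (hPle : P ≤ commutator G₂) (hPp : IsPGroup 2 P) (hPgen : GenSq 2 P)
    (hcard : 2 ^ padicValNat 2 (Nat.card (commutator G₁)) ≤ Nat.card P) :
    ∃ S : Subgroup (commutator G₁),
      Nat.card S = 2 ^ (Nat.card (commutator G₁)).factorization 2 ∧ GenSq 2 S := by
  classical
  haveI : Fact (Nat.Prime 2) := ⟨Nat.prime_two⟩
  set f : ↥(commutator G₂) →* G₂ := (commutator G₂).subtype with hf
  have hfinj : Function.Injective f := Subgroup.subtype_injective _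
  have hPr : P ≤ f.range := by
    rw [hf, Subgroup.range_subtype]
    exact hPle
  have hP'gen : GenSq 2 (P.comap f) := genSq_comap_of_injective f hfinj P hPr hPgen
  have hP'card : Nat.card (P.comap f) = Nat.card P := card_comap_of_injective' f hfinj P hPr
  have hP'p : IsPGroup 2 (P.comap f) := hPp.comap_of_injective f hfinj
  set ψ : ↥(commutator G₂) ≃* ↥(commutator G₁) := (commEquiv e0).symm with hψ
  refine ⟨(P.comap f).map ψ.toMonoidHom, ?_, genSq_map _ hP'gen⟩
  have hcard3 : Nat.card ((P.comap f).map ψ.toMonoidHom) = Nat.card P := by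
    rw [Subgroup.card_map_of_injective ψ.injective, hP'card]
  have hp3 : IsPGroup 2 ((P.comap f).map ψ.toMonoidHom) := hP'p.map _
  have hΩpos : Nat.card (commutator G₁) ≠ 0 := Nat.card_pos.ne'
  rw [Nat.factorization_def _ Nat.prime_two]
  apply card_eq_of_pgroup _ hp3 _ hΩpos (Subgroup.card_subgroup_dvd_card _)
  rw [hcard3]
  exact hcard

theorem v2_comm_of_index4 {G : Type*} [Group G] [Finite G] (hidx : (commutator G).index = 4) :
    padicValNat 2 (Nat.card (commutator G)) + 2 = padicValNat 2 (Nat.card G) := by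
  haveI : Fact (Nat.Prime 2) := ⟨Nat.prime_two⟩
  have hmul := Subgroup.card_mul_index (commutator G)
  rw [hidx] at hmul
  have hpos : Nat.card (commutator G) ≠ 0 := Nat.card_pos.ne'
  rw [← hmul, padicValNat.mul hpos (by norm_num)]
  congr 1
  have : (4 : ℕ) = 2 ^ 2 := by norm_num
  rw [this, padicValNat.prime_pow]

theorem three_le_v2 {q : ℕ} (hq : Odd q) (hq1 : 1 < q) : 3 ≤ padicValNat 2 (q ^ 2 - 1) := by
  haveI : Fact (Nat.Prime 2) := ⟨Nat.prime_two⟩
  have h1 : 1 < q ^ 2 := Nat.one_lt_pow (by omega) hq1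
  have hdvd : 2 ^ 3 ∣ q ^ 2 - 1 := by
    obtain ⟨k, hk⟩ := hq
    have : q ^ 2 - 1 = 4 * (k * (k + 1)) := by
      rw [hk]
      have : (2 * k + 1) ^ 2 = 4 * (k * (k + 1)) + 1 := by ring
      rw [this]; simp
    rw [this]
    have h2 : 2 ∣ k * (k + 1) := (Nat.even_mul_succ_self k).two_dvd
    obtain ⟨c, hc⟩ := h2
    rw [hc]
    exact ⟨c, by ring⟩
  exact (padicValNat_dvd_iff_le (by omega)).mp hdvd

section Final

variable {F : Type*} [Field F] [Fintype F]

theorem not_iso_GP_of_small (hF : Odd (Fintype.card F)) {G : Type*} [Group G] [Finite G] (m : ℕ)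
    (hsmall : padicValNat 2 (Nat.card G) <
      padicValNat 2 (Fintype.card F ^ 2 - 1) * m + padicValNat 2 m !) :
    ¬ Nonempty (G ≃* GP m F) := by
  classical
  haveI : Fact (Nat.Prime 2) := ⟨Nat.prime_two⟩
  rintro ⟨e0⟩
  obtain ⟨W, hWp, hWcard, -⟩ := exists_two_subgroup_GP (F := F) m hF
  obtain ⟨k, hk⟩ := IsPGroup.iff_card.mp hWp
  rw [hk] at hWcard
  have hk1 : padicValNat 2 (Fintype.card F ^ 2 - 1) * m + padicValNat 2 m ! ≤ k :=
    (Nat.pow_le_pow_iff_right (by norm_num)).mp hWcard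
  have hdvd : 2 ^ k ∣ Nat.card G := by
    rw [Nat.card_congr e0.toEquiv, ← hk]
    exact Subgroup.card_subgroup_dvd_card W
  have := (padicValNat_dvd_iff_le (Nat.card_pos.ne')).mp hdvd
  omega

theorem caseI_transfer (hF : Odd (Fintype.card F)) (m : ℕ) (hm : 2 ≤ m)
    {ι : Type} [Fintype ι] [DecidableEq ι] (Q : (ι → F) → F)
    (hidx : (Cfsg.Omega F Q).index = 4)
    (hv : padicValNat 2 (Nat.card (Cfsg.isometryGroup F Q)) =
      padicValNat 2 (Fintype.card F ^ 2 - 1) * m + padicValNat 2 m !)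
    (hiso : Nonempty (↥(Cfsg.isometryGroup F Q) ≃* GP m F)) :
    ∃ S : Subgroup (Cfsg.Omega F Q),
      Nat.card S = 2 ^ (Nat.card (Cfsg.Omega F Q)).factorization 2 ∧ GenSq 2 S := by
  classical
  obtain ⟨e0⟩ := hiso
  obtain ⟨P, hPle, hPp, hPcard, hPgen⟩ := exists_genSq_omega_sq_even (F := F) m hF hm
  apply sylow_transfer e0 P hPle hPp hPgen
  have h1 := v2_comm_of_index4 (G := ↥(Cfsg.isometryGroup F Q)) hidx
  rw [hv] at h1
  have hle : 2 ^ (padicValNat 2 (Nat.card (commutator ↥(Cfsg.isometryGroup F Q))) + 2) ≤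
      2 ^ 2 * Nat.card P := by
    rw [h1]
    exact hPcard
  rw [pow_add, mul_comm] at hle
  exact Nat.le_of_mul_le_mul_left hle (by norm_num)

theorem caseII_transfer (hF : Odd (Fintype.card F)) (m : ℕ) (hm : 1 ≤ m) (ν : F)
    (hν : ¬ IsSquare ν)
    {ι : Type} [Fintype ι] [DecidableEq ι] (Q : (ι → F) → F)
    (hidx : (Cfsg.Omega F Q).index = 4)
    (hv : padicValNat 2 (Nat.card (Cfsg.isometryGroup F Q)) =
      2 + ((m - 1) * padicValNat 2 (Fintype.card F ^ 2 - 1) + padicValNat 2 (m - 1)!))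
    (hiso : Nonempty (↥(Cfsg.isometryGroup F Q) ≃* G2 (m - 1) ν)) :
    ∃ S : Subgroup (Cfsg.Omega F Q),
      Nat.card S = 2 ^ (Nat.card (Cfsg.Omega F Q)).factorization 2 ∧ GenSq 2 S := by
  classical
  obtain ⟨e0⟩ := hiso
  obtain ⟨P, hPle, hPp, hPcard, hPgen⟩ := exists_genSq_omega_II (F := F) (m - 1) ν hF hν
  apply sylow_transfer e0 P hPle hPp hPgen
  have h1 := v2_comm_of_index4 (G := ↥(Cfsg.isometryGroup F Q)) hidx
  rw [hv] at h1
  have e : padicValNat 2 (Nat.card (commutator ↥(Cfsg.isometryGroup F Q))) =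
      padicValNat 2 (Fintype.card F ^ 2 - 1) * (m - 1) + padicValNat 2 (m - 1)! := by
    rw [mul_comm]; omega
  rw [e]
  exact hPcard

end Final

end Cfsg.Agent.Lib.Helper5.OSyl
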