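import Mathlib
import Cfsg.Agent.Lib.Helper5.OSylR

set_option autoImplicit false

namespace Cfsg.Agent.Lib.Helper5.OSyl

open Cfsg Matrix Cfsg.Agent.Lib.Lead Cfsg.Agent.Lib.Helper16 Cfsg.Agent.Lib.Helper5.SymSyl

open scoped MatrixGroups Nat

variable {F : Type*} [Field F] [Fintype F]

theorem card_iso_plus (m : ℕ) (hm : 1 ≤ m) :
    Nat.card (Cfsg.isometryGroup F (Cfsg.quadFormPlus m F)) = NP (Fintype.card F) m := by
  rw [Cfsg.Agent.S0287.result (F := F) rfl m hm]
  rfl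

theorem card_iso_minus (m : ℕ) (hm : 1 ≤ m) (a b : F)
    (hab : ∀ z₁ z₂ : F, z₁ ^ 2 + a * z₁ * z₂ + b * z₂ ^ 2 = 0 → z₁ = 0 ∧ z₂ = 0) :
    Nat.card (Cfsg.isometryGroup F (Cfsg.quadFormMinus (m - 1) F a b)) =
      NM (Fintype.card F) m := by
  rw [Cfsg.Agent.S0288.result (F := F) rfl m hm a b hab]
  rfl

theorem small_lt {A m t t' vm : ℕ} (hA : 3 ≤ A) (hm : 1 ≤ m) (ht : t = vm + t') :
    2 + ((m - 1) * A + t') < A * m + t := by
  obtain ⟨k, rfl⟩ : ∃ k, m = k + 1 := ⟨m - 1, by omega⟩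
  simp only [Nat.add_sub_cancel]
  have : A * (k + 1) = k * A + A := by ring
  rw [this]
  omega

theorem class_lemma (hF : Odd (Fintype.card F)) (m : ℕ) (hm : 1 ≤ m) (a b : F)
    (hab : ∀ z₁ z₂ : F, z₁ ^ 2 + a * z₁ * z₂ + b * z₂ ^ 2 = 0 → z₁ = 0 ∧ z₂ = 0)
    (ν : F) (hν : ¬ IsSquare ν) :
    ((Fintype.card F % 4 = 1 ∨ Even m) →
      Nonempty (↥(Cfsg.isometryGroup F (Cfsg.quadFormPlus m F)) ≃* GP m F) ∧
      Nonempty (↥(Cfsg.isometryGroup F (Cfsg.quadFormMinus (m - 1) F a b)) ≃* G2 (m - 1) ν)) ∧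
    ((Fintype.card F % 4 = 3 ∧ Odd m) →
      Nonempty (↥(Cfsg.isometryGroup F (Cfsg.quadFormPlus m F)) ≃* G2 (m - 1) ν) ∧
      Nonempty (↥(Cfsg.isometryGroup F (Cfsg.quadFormMinus (m - 1) F a b)) ≃* GP m F)) := by
  classical
  have h2 := two_ne_zero_of_odd_card hF
  have hq1 : 1 < Fintype.card F := Fintype.one_lt_card
  have hcP : Fintype.card (Fin m ⊕ Fin m) = 2 * m := by
    simp only [Fintype.card_sum, Fintype.card_fin]
    omega
  have hcM : Fintype.card ((Fin (m - 1) ⊕ Fin (m - 1)) ⊕ Fin 2) = 2 * m := by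
    simp only [Fintype.card_sum, Fintype.card_fin]
    omega
  have cp := classify_even' h2 (qfPlus m F) (qfPlus_nondeg m F) ν hν m hm hcP
  have cm := classify_even' h2 (qfMinus (m - 1) F a b)
    (Cfsg.Agent.S0791.nondeg_minus (m - 1) a b hab) ν hν m hm hcM
  rw [qfPlus_coe] at cp
  rw [qfMinus_coe] at cm
  have hA := three_le_v2 hF hq1
  have hne := NP_ne_NM hq1 m hm
  have hcardP := card_iso_plus (F := F) m hm
  have hcardM := card_iso_minus (F := F) m hm a b hab
  constructor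
  · intro hr
    have hsmall : padicValNat 2 (Nat.card (Cfsg.isometryGroup F (Cfsg.quadFormMinus (m - 1) F a b)))
        < padicValNat 2 (Fintype.card F ^ 2 - 1) * m + padicValNat 2 m ! := by
      rw [hcardM, v2_NM_wrong hF hq1 m hm hr]
      exact small_lt hA hm (v2_fact_succ m hm)
    have hm2 : Nonempty (↥(Cfsg.isometryGroup F (Cfsg.quadFormMinus (m - 1) F a b)) ≃*
        G2 (m - 1) ν) := by
      rcases cm with h | h
      · exact absurd h (not_iso_GP_of_small hF m hsmall)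
      · exact h
    refine ⟨?_, hm2⟩
    rcases cp with h | h
    · exact h
    · exfalso
      obtain ⟨e1⟩ := h
      obtain ⟨e2⟩ := hm2
      apply hne
      rw [← hcardP, ← hcardM, Nat.card_congr e1.toEquiv, Nat.card_congr e2.toEquiv]
  · rintro ⟨hq3, hodd⟩
    have hsmall : padicValNat 2 (Nat.card (Cfsg.isometryGroup F (Cfsg.quadFormPlus m F)))
        < padicValNat 2 (Fintype.card F ^ 2 - 1) * m + padicValNat 2 m ! := by
      rw [hcardP, v2_NP_wrong hF hq1 m hm hq3 hodd]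
      exact small_lt hA hm (v2_fact_succ m hm)
    have hp2 : Nonempty (↥(Cfsg.isometryGroup F (Cfsg.quadFormPlus m F)) ≃* G2 (m - 1) ν) := by
      rcases cp with h | h
      · exact absurd h (not_iso_GP_of_small hF m hsmall)
      · exact h
    refine ⟨hp2, ?_⟩
    rcases cm with h | h
    · exact h
    · exfalso
      obtain ⟨e1⟩ := h
      obtain ⟨e2⟩ := hp2
      apply hne
      rw [← hcardP, ← hcardM, Nat.card_congr e1.toEquiv, Nat.card_congr e2.toEquiv]

theorem exists_aniso (h2 : (2 : F) ≠ 0) (ν : F) (hν : ¬ IsSquare ν) :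
    ∀ z₁ z₂ : F, z₁ ^ 2 + 0 * z₁ * z₂ + (-ν) * z₂ ^ 2 = 0 → z₁ = 0 ∧ z₂ = 0 := by
  intro z₁ z₂ h
  by_cases hz : z₂ = 0
  · subst hz
    refine ⟨?_, rfl⟩
    have : z₁ ^ 2 = 0 := by linear_combination h
    exact pow_eq_zero_iff (by norm_num) |>.mp this
  · exfalso
    apply hν
    refine ⟨z₁ / z₂, ?_⟩
    field_simp
    linear_combination -h

theorem index_omega_plus (hF : Odd (Fintype.card F)) (m : ℕ) (hm : 1 ≤ m) :
    (Cfsg.Omega F (Cfsg.quadFormPlus m F)).index = 4 := by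
  have h2 := two_ne_zero_of_odd_card hF
  have hcP : 2 ≤ Fintype.card (Fin m ⊕ Fin m) := by
    simp only [Fintype.card_sum, Fintype.card_fin]
    omega
  have := RI.index_omega_general h2 hcP (qfPlus m F) (qfPlus_nondeg m F)
  rw [qfPlus_coe] at this
  exact this

theorem index_omega_minus (hF : Odd (Fintype.card F)) (m : ℕ) (a b : F)
    (hab : ∀ z₁ z₂ : F, z₁ ^ 2 + a * z₁ * z₂ + b * z₂ ^ 2 = 0 → z₁ = 0 ∧ z₂ = 0) :
    (Cfsg.Omega F (Cfsg.quadFormMinus m F a b)).index = 4 := by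
  have h2 := two_ne_zero_of_odd_card hF
  have hcM : 2 ≤ Fintype.card ((Fin m ⊕ Fin m) ⊕ Fin 2) := by
    simp only [Fintype.card_sum, Fintype.card_fin]
    omega
  have := RI.index_omega_general h2 hcM (qfMinus m F a b)
    (Cfsg.Agent.S0791.nondeg_minus m a b hab)
  rw [qfMinus_coe] at this
  exact this

theorem exists_genSq_sylow_omega_plus (hF : Odd (Fintype.card F)) (m : ℕ) (hm : 2 ≤ m) :
    ∃ S : Subgroup (Cfsg.Omega F (Cfsg.quadFormPlus m F)),
      Nat.card S = 2 ^ (Nat.card (Cfsg.Omega F (Cfsg.quadFormPlus m F))).factorization 2 ∧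
        GenSq 2 S := by
  classical
  have h2 := two_ne_zero_of_odd_card hF
  have hq1 : 1 < Fintype.card F := Fintype.one_lt_card
  obtain ⟨ν, -, hν⟩ := OI.exists_nonsquare (F := F) h2
  have hab := exists_aniso h2 ν hν
  have cl := class_lemma hF m (by omega) 0 (-ν) hab ν hν
  have hidx := index_omega_plus hF m (by omega)
  by_cases hr : Fintype.card F % 4 = 1 ∨ Even m
  · apply caseI_transfer hF m hm _ hidx _ (cl.1 hr).1
    rw [card_iso_plus m (by omega)]
    exact v2_NP_right hF hq1 m (by omega) hr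
  · push Not at hr
    have hq3 : Fintype.card F % 4 = 3 := by
      rw [Nat.odd_iff] at hF
      omega
    have hodd : Odd m := Nat.not_even_iff_odd.mp hr.2
    apply caseII_transfer hF m (by omega) ν hν _ hidx _ (cl.2 ⟨hq3, hodd⟩).1
    rw [card_iso_plus m (by omega)]
    exact v2_NP_wrong hF hq1 m (by omega) hq3 hodd

theorem exists_genSq_sylow_omega_minus (hF : Odd (Fintype.card F)) (m : ℕ) (hm : 2 ≤ m)
    (a b : F) (hab : ∀ z₁ z₂ : F, z₁ ^ 2 + a * z₁ * z₂ + b * z₂ ^ 2 = 0 → z₁ = 0 ∧ z₂ = 0) :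
    ∃ S : Subgroup (Cfsg.Omega F (Cfsg.quadFormMinus (m - 1) F a b)),
      Nat.card S =
        2 ^ (Nat.card (Cfsg.Omega F (Cfsg.quadFormMinus (m - 1) F a b))).factorization 2 ∧
        GenSq 2 S := by
  classical
  have h2 := two_ne_zero_of_odd_card hF
  have hq1 : 1 < Fintype.card F := Fintype.one_lt_card
  obtain ⟨ν, -, hν⟩ := OI.exists_nonsquare (F := F) h2
  have cl := class_lemma hF m (by omega) a b hab ν hν
  have hidx := index_omega_minus hF (m - 1) a b hab
  by_cases hr : Fintype.card F % 4 = 1 ∨ Even m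
  · apply caseII_transfer hF m (by omega) ν hν _ hidx _ (cl.1 hr).2
    rw [card_iso_minus m (by omega) a b hab]
    exact v2_NM_wrong hF hq1 m (by omega) hr
  · push Not at hr
    have hq3 : Fintype.card F % 4 = 3 := by
      rw [Nat.odd_iff] at hF
      omega
    have hodd : Odd m := Nat.not_even_iff_odd.mp hr.2
    apply caseI_transfer hF m hm _ hidx _ (cl.2 ⟨hq3, hodd⟩).2
    rw [card_iso_minus m (by omega) a b hab]
    exact v2_NM_right hF hq1 m (by omega) hq3 hodd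

end Cfsg.Agent.Lib.Helper5.OSyl
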