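import Mathlib
import Cfsg.Agent.Lib.Helper13.OTS.Defs
import Cfsg.Agent.Lib.Helper21.S5955N10w
import Cfsg.Agent.Lib.Helper20.OTSFORMEX
import Cfsg.Agent.Lib.Helper21.OTSISOSTD
import Cfsg.Agent.Lib.Helper27.OTSTRANSPORTD
import Cfsg.Agent.Lib.helper15.OTSQS2CTX
import Cfsg.Agent.Lib.helper8.OTSQS2TY

set_option autoImplicit false
set_option linter.unusedVariables false
set_option linter.unusedSectionVars false

/-!
# Project OTS (S5973 + S5987), row MAXEL, second writer helper5: `otsmaxel_h5` has EXACTLY the statement of `q_maxel`.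
-/

namespace Cfsg.Agent.Lib.Helper13.OTS

open Polynomial Module Cfsg.Agent.Lib.Helper13.S5955 Cfsg.Agent.Lib.helper15.S5972

theorem otsmaxelh5_scy_sq (i g : ℕ) : SCy i g * SCy i g = 1 := by
  unfold SCy
  split_ifs <;> norm_num

theorem otsmaxelh5_scy_pm (i g : ℕ) : SCy i g = 1 ∨ SCy i g = -1 := by
  unfold SCy
  split_ifs
  · left; rfl
  · right; rfl

/-- MAXEL (same statement as `q_maxel`) -/
theorem otsmaxel_h5 {F : Type*} [Field F] [Fintype F] {p : ℕ} [Fact p.Prime] [CharP F p]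
    {ι : Type} [Fintype ι] [DecidableEq ι] (Qs : QuadraticForm F (ι → F)) (d : ℕ) (ε : ℤ)
    (hs : QStd Qs d ε) (r : ℕ) [Fact r.Prime] (hrp : r ≠ p) (hr2 : r ≠ 2) (i c : ℕ)
    (hi : i = orderOf ((Fintype.card F : ℕ) : ZMod r)) (hc : c = if Even i then i else 2 * i)
    (hex : c + FMin i c d ε ≤ 2 * d) :
    ∃ y : Module.End F (ι → F), QCtx r Qs y ∧ y ≠ 1 ∧ finrank F (fixS y) = FMin i c d ε := by
  have hrpr : r.Prime := Fact.out
  have hodd : Odd r := hrpr.odd_of_ne_two hr2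
  have hε := hs.eps
  have hipos : 0 < i := hi ▸ Cfsg.Agent.Lib.Helper24.el_ord_pos (F := F) (p := p) r hrp
  obtain ⟨e, he2⟩ : ∃ e, c = 2 * e := by
    by_cases hie : Even i
    · obtain ⟨k, hk⟩ := hie
      exact ⟨k, by rw [hc, if_pos ⟨k, hk⟩, hk]; ring⟩
    · exact ⟨i, by rw [hc, if_neg hie]⟩
  have hcpos : 0 < c := by
    by_cases hie : Even i
    · rw [hc, if_pos hie]; exact hipos
    · rw [hc, if_neg hie]; omega
  obtain ⟨f, hf⟩ : ∃ f, f = FMin i c d ε := ⟨_, rfl⟩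
  rw [← hf] at hex ⊢
  have hf_cases : (f = c ∧ (2 * d) % c = 0 ∧ ¬ (ε = 1 ↔ (Odd i ∨ Even ((2 * d) / i)))) ∨
      (f = (2 * d) % c ∧ ¬ ((2 * d) % c = 0 ∧ ¬ (ε = 1 ↔ (Odd i ∨ Even ((2 * d) / i))))) := by
    unfold FMin at hf
    split_ifs at hf with hcond
    · left; exact ⟨hf, hcond.1, hcond.2⟩
    · right; exact ⟨hf, hcond⟩
  -- `2d - f = c T`
  obtain ⟨T, hT⟩ : c ∣ 2 * d - f := by
    rcases hf_cases with ⟨h1, h2, -⟩ | ⟨h1, -⟩
    · rw [h1]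
      exact Nat.dvd_sub (Nat.dvd_of_mod_eq_zero h2) (dvd_refl c)
    · have := Nat.div_add_mod (2 * d) c
      exact ⟨2 * d / c, by omega⟩
  obtain ⟨h, hh⟩ : ∃ h, h = e * T := ⟨_, rfl⟩
  have h2h : 2 * h = 2 * d - f := by rw [hT, he2, hh]; ring
  have hch : c ≤ 2 * h := by omega
  have hh1 : 1 ≤ h := by omega
  have hmod : (2 * h) % c = 0 := by
    rw [h2h, hT]
    exact Nat.mul_mod_right _ _
  obtain ⟨k₀, hk₀⟩ : ∃ k₀, k₀ = d - h := ⟨_, rfl⟩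
  have hfk : f = 2 * k₀ := by omega
  obtain ⟨y', hy', hy'1, hfix'⟩ := maxel (F := F) r hrp hr2 h i c hi hc hch
  rw [hmod] at hfix'
  have hfix : fixS y' = ⊥ := Submodule.finrank_eq_zero.mp hfix'
  -- the tail form
  obtain ⟨s₀, hs₀def⟩ : ∃ s₀ : ℤ, s₀ = ε * SCy i (2 * h) := ⟨_, rfl⟩
  have hs₀1 : s₀ = 1 ∨ s₀ = -1 := by
    rcases hε with h1 | h1 <;> rcases otsmaxelh5_scy_pm i (2 * h) with h2 | h2 <;>
      rw [hs₀def, h1, h2] <;> norm_num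
  have h0 : k₀ = 0 → s₀ = 1 := by
    intro hk0
    have hf0 : f = 0 := by omega
    have h2hd : 2 * h = 2 * d := by omega
    rcases hf_cases with ⟨h1, -, -⟩ | ⟨h1, h3⟩
    · omega
    · have h4 : (2 * d) % c = 0 := by omega
      have h5 : ε = 1 ↔ (Odd i ∨ Even ((2 * d) / i)) := by
        by_contra hcon
        exact h3 ⟨h4, hcon⟩
      rw [hs₀def, h2hd]
      unfold SCy
      by_cases hP : Odd i ∨ Even ((2 * d) / i)
      · rw [if_pos hP, h5.mpr hP]; norm_num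
      · rw [if_neg hP]
        have hne : ε ≠ 1 := fun h => hP (h5.mp h)
        rcases hε with h6 | h6
        · exact absurd h6 hne
        · rw [h6]; norm_num
  obtain ⟨κ, instF, instD, Q₀, hQ₀nd, hκ, hQ₀ty⟩ := q_form_ex (F := F) k₀ s₀ hs₀1 h0
  obtain ⟨hctx, hdim, hfx, hne⟩ := qs2_ctx (F := F) r hodd hrpr.one_lt y' hy' hfix Q₀ hQ₀nd
  have hty := qs2_ty r hrp hr2 y' hy' hfix Q₀ hQ₀nd k₀ hκ s₀ hs₀1 hQ₀ty i hi
  have hse : s₀ * SCy i (2 * h) = ε := by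
    rw [hs₀def, mul_assoc, otsmaxelh5_scy_sq, mul_one]
  rw [hse] at hty
  have hV : finrank F ((Fin h ⊕ Fin h → F) × (κ → F)) = 2 * d := by
    rw [hdim, hκ]; omega
  obtain ⟨ψ, hψ⟩ := q_iso_std Qs d ε hs (qs2Q y' Q₀) hctx.nd hV hty
  obtain ⟨x, -, hx, -, hfd, hx1, -⟩ := q_transport_dims Qs (qs2Q y' Q₀) (qs2X κ y') ψ hψ hctx
  refine ⟨x, hx, fun h1 => hne hh1 (hx1.mp h1), ?_⟩
  rw [hfd, hfx, hκ, hfk]

end Cfsg.Agent.Lib.Helper13.OTS
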