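import Cfsg.Agent.Lib.Helper1.PLK.Defs
import Cfsg.Agent.Lib.Helper5.PLKT1

/-!
# Project PLK (S2480), row T4: spare copy `plkt4_tdet_tctr_h5` (the verbatim `tdet_tctr` is in Helper25.PLKT4).
-/

set_option autoImplicit false

namespace Cfsg.Agent.Lib.Helper1.PLK

open Polynomial
open Cfsg.Agent.Lib.Helper29.GLK
open Cfsg.Agent.Lib.Helper1.SLK

universe u

/-- T4 -/
theorem plkt4_tdet_tctr_h5 {F : Type u} [Field F] [Fintype F] (n m : ℕ) (hm : m ≠ 0) (hmn : m ∣ n)
    (T : Fin n → F[X]) (hT : T ∈ tupTw F n m) :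
    tdet T = (-1) ^ ((m - 1) * (n / m)) * tdet (tctr m T) := by
  have hmem := tctr_mem n m hm hmn T hT
  rw [mem_tupFin] at hmem
  have hsum : ∑ j : Fin (n / m), (1 + (j : ℕ)) * (tctr m T j).natDegree = n / m := hmem.2
  unfold tdet
  rw [plkt1_prod_castLE n m
    (fun i : Fin n => ((-1 : F) ^ (T i).natDegree * (T i).coeff 0) ^ ((i : ℕ) + 1))
    (fun i hi => by
      show ((-1 : F) ^ (T i).natDegree * (T i).coeff 0) ^ ((i : ℕ) + 1) = 1
      rw [plkt1_high_one hm hmn hT i hi, natDegree_one, pow_zero, one_mul, coeff_one_zero, one_pow])]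
  have hfac : ∀ j : Fin (n / m),
      ((-1 : F) ^ (T (Fin.castLE (Nat.div_le_self n m) j)).natDegree *
          (T (Fin.castLE (Nat.div_le_self n m) j)).coeff 0) ^
        (((Fin.castLE (Nat.div_le_self n m) j : Fin n) : ℕ) + 1) =
      (-1 : F) ^ ((m - 1) * ((1 + (j : ℕ)) * (tctr m T j).natDegree)) *
        ((-1 : F) ^ (tctr m T j).natDegree * (tctr m T j).coeff 0) ^ ((j : ℕ) + 1) := by
    intro j
    have hd : (T (Fin.castLE (Nat.div_le_self n m) j)).natDegree =
        m * (tctr m T j).natDegree := plkt1_deg hm hT _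
    have hc : (tctr m T j).coeff 0 = (T (Fin.castLE (Nat.div_le_self n m) j)).coeff 0 :=
      plkt1_coeff_zero hm hT _
    have hj : ((Fin.castLE (Nat.div_le_self n m) j : Fin n) : ℕ) = (j : ℕ) := rfl
    rw [hd, hj, ← hc]
    obtain ⟨k, rfl⟩ := Nat.exists_eq_succ_of_ne_zero hm
    have hk : k.succ - 1 = k := Nat.succ_sub_one k
    rw [hk]
    have e1 : (-1 : F) ^ (k.succ * (tctr k.succ T j).natDegree) =
        (-1 : F) ^ (k * (tctr k.succ T j).natDegree) * (-1 : F) ^ (tctr k.succ T j).natDegree := by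
      rw [← pow_add]
      congr 1
      rw [Nat.succ_mul]
    rw [e1, mul_assoc, mul_pow, ← pow_mul]
    congr 2
    ring
  rw [Finset.prod_congr rfl (fun j _ => hfac j), Finset.prod_mul_distrib,
    Finset.prod_pow_eq_pow_sum, ← Finset.mul_sum, hsum]

end Cfsg.Agent.Lib.Helper1.PLK
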