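import Mathlib
import Cfsg.Prelude.Def_HallClasses

set_option autoImplicit false

namespace Cfsg.Agent.Lib.Helper5

open scoped Pointwise

section
variable {G : Type*} [Group G]

def PnAt (H : Subgroup G) (g : G) : Prop :=
  ∃ x ∈ H ⊔ MulAut.conj g • H, MulAut.conj g • H = MulAut.conj x • H

theorem isPronormal_iff_pnAt (H : Subgroup G) : Cfsg.IsPronormal H ↔ ∀ g : G, PnAt H g :=
  Iff.rfl

theorem pn_mem_conj (g : G) (M : Subgroup G) (y : G) :
    y ∈ MulAut.conj g • M ↔ g⁻¹ * y * g ∈ M := by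
  rw [Subgroup.mem_pointwise_smul_iff_inv_smul_mem]
  simp [MulAut.smul_def]

theorem pn_conj_mem_conj (g : G) (M : Subgroup G) {y : G} (hy : y ∈ M) :
    g * y * g⁻¹ ∈ MulAut.conj g • M := by
  rw [pn_mem_conj]
  have e : g⁻¹ * (g * y * g⁻¹) * g = y := by group
  rw [e]; exact hy

theorem pn_conj_mul (a b : G) (H : Subgroup G) :
    MulAut.conj (a * b) • H = MulAut.conj a • (MulAut.conj b • H) := by
  rw [smul_smul, ← map_mul]

theorem pn_conj_inv_conj (a : G) (H : Subgroup G) :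
    MulAut.conj a⁻¹ • (MulAut.conj a • H) = H := by
  rw [smul_smul, ← map_mul, inv_mul_cancel, map_one, one_smul]

theorem pn_conj_conj_inv (a : G) (H : Subgroup G) :
    MulAut.conj a • (MulAut.conj a⁻¹ • H) = H := by
  rw [smul_smul, ← map_mul, mul_inv_cancel, map_one, one_smul]

theorem pn_conj_eq_of_mem_normalizer {H : Subgroup G} {n : G}
    (hn : n ∈ Subgroup.normalizer (H : Set G)) : MulAut.conj n • H = H :=
  Subgroup.mem_normalizer_iff_map_conj_eq.mp hn

theorem pn_mem_normalizer_of_conj_eq {H : Subgroup G} {n : G}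
    (hn : MulAut.conj n • H = H) : n ∈ Subgroup.normalizer (H : Set G) :=
  Subgroup.mem_normalizer_iff_map_conj_eq.mpr hn

theorem pn_conj_le_of_mem {J H : Subgroup G} {x : G} (hx : x ∈ J) (hH : H ≤ J) :
    MulAut.conj x • H ≤ J := by
  intro y hy
  rw [pn_mem_conj] at hy
  have := J.mul_mem (J.mul_mem hx (hH hy)) (J.inv_mem hx)
  have e : x * (x⁻¹ * y * x) * x⁻¹ = y := by group
  rwa [e] at this

theorem pn_map_conj {G' : Type*} [Group G'] (f : G →* G') (g : G) (H : Subgroup G) :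
    (MulAut.conj g • H).map f = MulAut.conj (f g) • H.map f := by
  ext y
  constructor
  · rintro ⟨x, hx, rfl⟩
    rw [SetLike.mem_coe, pn_mem_conj] at hx
    rw [pn_mem_conj]
    refine ⟨g⁻¹ * x * g, hx, ?_⟩
    simp
  · intro hy
    rw [pn_mem_conj] at hy
    obtain ⟨x, hx, hxy⟩ := hy
    refine ⟨g * x * g⁻¹, pn_conj_mem_conj g H hx, ?_⟩
    rw [map_mul, map_mul, hxy, map_inv]
    group

theorem pn_comap_conj {G' : Type*} [Group G'] (f : G →* G') (g : G) (K : Subgroup G') :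
    MulAut.conj g • K.comap f = (MulAut.conj (f g) • K).comap f := by
  ext y
  rw [pn_mem_conj, Subgroup.mem_comap, Subgroup.mem_comap, pn_mem_conj]
  simp

theorem PnAt.map {G' : Type*} [Group G'] (f : G →* G') {H : Subgroup G} {g : G}
    (h : PnAt H g) : PnAt (H.map f) (f g) := by
  obtain ⟨x, hx, hxe⟩ := h
  refine ⟨f x, ?_, ?_⟩
  · rw [← pn_map_conj, ← Subgroup.map_sup]
    exact ⟨x, hx, rfl⟩
  · rw [← pn_map_conj, ← pn_map_conj, hxe]

theorem PnAt.comap {G' : Type*} [Group G'] (f : G →* G') {K : Subgroup G'} {g : G}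
    (hK : K ≤ f.range) (h : PnAt K (f g)) : PnAt (K.comap f) g := by
  obtain ⟨x', hx', hxe⟩ := h
  have hKg : MulAut.conj (f g) • K ≤ f.range := pn_conj_le_of_mem ⟨g, rfl⟩ hK
  have h1 : (K.comap f ⊔ MulAut.conj g • K.comap f).map f = K ⊔ MulAut.conj (f g) • K := by
    rw [Subgroup.map_sup, pn_map_conj, Subgroup.map_comap_eq, inf_eq_right.mpr hK]
  rw [← h1] at hx'
  obtain ⟨x, hx, rfl⟩ := hx'
  refine ⟨x, hx, ?_⟩
  rw [pn_comap_conj, pn_comap_conj, hxe]

theorem PnAt.conj {H : Subgroup G} (a g : G) (h : PnAt H (a⁻¹ * g * a)) :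
    PnAt (MulAut.conj a • H) g := by
  obtain ⟨x, hx, hxe⟩ := h
  refine ⟨a * x * a⁻¹, ?_, ?_⟩
  · have h1 : a * x * a⁻¹ ∈ MulAut.conj a • (H ⊔ MulAut.conj (a⁻¹ * g * a) • H) :=
      pn_conj_mem_conj a _ hx
    rw [Subgroup.smul_sup, ← pn_conj_mul] at h1
    have e : a * (a⁻¹ * g * a) = g * a := by group
    rw [e, pn_conj_mul] at h1
    exact h1
  · rw [← pn_conj_mul, ← pn_conj_mul]
    have e1 : g * a = a * (a⁻¹ * g * a) := by group
    have e2 : a * x * a⁻¹ * a = a * x := by group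
    rw [e1, e2, pn_conj_mul, pn_conj_mul a x, hxe]

theorem isPronormal_conj {H : Subgroup G} (a : G) (h : Cfsg.IsPronormal H) :
    Cfsg.IsPronormal (MulAut.conj a • H) :=
  fun g => PnAt.conj a g (h _)

theorem isPronormal_of_conj {H : Subgroup G} (a : G) (h : Cfsg.IsPronormal (MulAut.conj a • H)) :
    Cfsg.IsPronormal H := by
  have := isPronormal_conj a⁻¹ h
  rwa [pn_conj_inv_conj] at this

theorem isPronormal_map {G' : Type*} [Group G'] (f : G →* G') (hf : Function.Surjective f)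
    {H : Subgroup G} (h : Cfsg.IsPronormal H) : Cfsg.IsPronormal (H.map f) := by
  intro g'
  obtain ⟨g, rfl⟩ := hf g'
  exact PnAt.map f (h g)

theorem isPronormal_comap {G' : Type*} [Group G'] (f : G →* G') (hf : Function.Surjective f)
    {K : Subgroup G'} (h : Cfsg.IsPronormal K) : Cfsg.IsPronormal (K.comap f) := by
  intro g
  apply PnAt.comap f _ (h (f g))
  rw [MonoidHom.range_eq_top.mpr hf]
  exact le_top

theorem isPronormal_subgroupOf {H M : Subgroup G} (hHM : H ≤ M) (h : Cfsg.IsPronormal H) :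
    Cfsg.IsPronormal (H.subgroupOf M) := by
  intro m
  apply PnAt.comap M.subtype _ (h (m : G))
  rw [Subgroup.range_subtype]
  exact hHM

theorem pnAt_of_isPronormal_sub {M : Subgroup G} {H₁ : Subgroup M} (h : Cfsg.IsPronormal H₁)
    {m : G} (hm : m ∈ M) : PnAt (H₁.map M.subtype) m :=
  PnAt.map M.subtype (g := (⟨m, hm⟩ : M)) (h ⟨m, hm⟩)

theorem PnAt.of_mem {H : Subgroup G} {g : G} (hg : g ∈ H) : PnAt H g :=
  ⟨g, Subgroup.mem_sup_left hg, rfl⟩

theorem PnAt.mul_right_normalizer {H : Subgroup G} {g n : G}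
    (hn : n ∈ Subgroup.normalizer (H : Set G)) (h : PnAt H g) : PnAt H (g * n) := by
  obtain ⟨x, hx, hxe⟩ := h
  have e : MulAut.conj (g * n) • H = MulAut.conj g • H := by
    rw [pn_conj_mul, pn_conj_eq_of_mem_normalizer hn]
  refine ⟨x, ?_, ?_⟩
  · rw [e]; exact hx
  · rw [e]; exact hxe

theorem PnAt.trans {H : Subgroup G} {x u : G} (hx : x ∈ H ⊔ MulAut.conj (x * u) • H)
    (h : PnAt H u) : PnAt H (x * u) := by
  obtain ⟨v, hv, hve⟩ := h
  refine ⟨x * v, ?_, ?_⟩
  · have h1 : x * v * x⁻¹ ∈ MulAut.conj x • (H ⊔ MulAut.conj u • H) := pn_conj_mem_conj x _ hv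
    rw [Subgroup.smul_sup, ← pn_conj_mul] at h1
    have h2 : MulAut.conj x • H ⊔ MulAut.conj (x * u) • H ≤ H ⊔ MulAut.conj (x * u) • H :=
      sup_le (pn_conj_le_of_mem hx le_sup_left) le_sup_right
    have h3 := Subgroup.mul_mem _ (h2 h1) hx
    have e : x * v * x⁻¹ * x = x * v := by group
    rwa [e] at h3
  · rw [pn_conj_mul, pn_conj_mul, hve]

end

end Cfsg.Agent.Lib.Helper5
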