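import Mathlib

set_option autoImplicit false

namespace Cfsg.Agent.Lib.Helper5.Q432

theorem card_GL23' : Nat.card (GL (Fin 2) (ZMod 3)) = 48 := by
  haveI : Fact (Nat.Prime 3) := ⟨by norm_num⟩
  rw [Matrix.card_GL_field, ZMod.card]
  decide

section Embed

variable {A : Type*} [CommGroup A] [Finite A]

theorem mulAut_embed (hA : Nat.card A = 9) (hexp : ∀ x : A, x ^ 3 = 1) :
    ∃ Ψ : MulAut A →* GL (Fin 2) (ZMod 3), Function.Injective Ψ := by
  haveI : Fact (Nat.Prime 3) := ⟨by norm_num⟩
  have h3 : ∀ x : Additive A, 3 • x = 0 := by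
    intro x
    have := hexp (Additive.toMul x)
    exact congrArg Additive.ofMul this
  letI : Module (ZMod 3) (Additive A) := AddCommGroup.zmodModule h3
  have hfr : Module.finrank (ZMod 3) (Additive A) = 2 := by
    have h := Module.natCard_eq_pow_finrank (K := ZMod 3) (V := Additive A)
    have hc : Nat.card (Additive A) = 9 := hA
    rw [hc, Nat.card_zmod] at h
    have : (3 : ℕ) ^ 2 = 3 ^ Module.finrank (ZMod 3) (Additive A) := by rw [← h]; norm_num
    exact (Nat.pow_right_injective (by norm_num : 2 ≤ 3) this).symm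
  let b : Module.Basis (Fin 2) (ZMod 3) (Additive A) := Module.finBasisOfFinrankEq (ZMod 3) (Additive A) hfr
  let lin : MulAut A → (Additive A →ₗ[ZMod 3] Additive A) := fun φ =>
    (MulEquiv.toAdditive φ).toAddMonoidHom.toZModLinearMap 3
  have lin_apply : ∀ (φ : MulAut A) (x : Additive A), lin φ x = Additive.ofMul (φ (Additive.toMul x)) := by
    intro φ x
    rfl
  let Ψ₀ : MulAut A →* Matrix (Fin 2) (Fin 2) (ZMod 3) :=
    { toFun := fun φ => LinearMap.toMatrix b b (lin φ)
      map_one' := by
        have : lin 1 = LinearMap.id := by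
          ext x
          rfl
        rw [this, LinearMap.toMatrix_id]
      map_mul' := by
        intro φ ψ
        have : lin (φ * ψ) = (lin φ) * (lin ψ) := by
          ext x
          rfl
        rw [this, LinearMap.toMatrix_mul] }
  refine ⟨(Units.map Ψ₀).comp (toUnits : MulAut A ≃* (MulAut A)ˣ).toMonoidHom, ?_⟩
  intro φ ψ h
  have h1 : Ψ₀ φ = Ψ₀ ψ := by
    have := congrArg Units.val h
    exact this
  have h2 : lin φ = lin ψ := (LinearMap.toMatrix b b).injective h1
  ext x
  have := congrArg (fun f => f (Additive.ofMul x)) h2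
  exact this

end Embed

theorem quot_iso_gl23 {K : Type*} [Group K] [Finite K] (N : Subgroup K) [hn : N.Normal]
    (hN : Nat.card N = 9) (hexp : ∀ x ∈ N, x ^ 3 = 1)
    (hC : Subgroup.centralizer (N : Set K) ≤ N)
    (hK : Nat.card K = 432) : Nonempty (K ⧸ N ≃* GL (Fin 2) (ZMod 3)) := by
  haveI : Fact (Nat.Prime 3) := ⟨by norm_num⟩
  have hcomm : ∀ a b : N, a * b = b * a :=
    IsPGroup.commutative_of_card_eq_prime_sq (p := 3) (G := N) (by rw [hN]; norm_num)
  letI : CommGroup N := { (inferInstance : Group N) with mul_comm := hcomm }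
  obtain ⟨Ψ, hΨ⟩ := mulAut_embed (A := N) hN (by
    intro x
    have := hexp x.1 x.2
    exact Subtype.ext this)
  let θ : K →* MulAut N := MulAut.conjNormal
  have hker : ∀ g : K, θ g = 1 ↔ g ∈ N := by
    intro g
    constructor
    · intro h
      apply hC
      rw [Subgroup.mem_centralizer_iff]
      intro n hn'
      have := congrArg (fun φ => ((φ ⟨n, hn'⟩ : N) : K)) h
      simp only [θ, MulAut.conjNormal_apply, MulAut.one_apply] at this
      calc n * g = (g * n * g⁻¹) * g := by rw [this]
        _ = g * n := by group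
    · intro hg
      ext n
      simp only [θ, MulAut.conjNormal_apply, MulAut.one_apply]
      have := hcomm ⟨g, hg⟩ n
      have h2 : g * (n : K) = n * g := congrArg Subtype.val this
      rw [h2]
      group
  let F : K ⧸ N →* GL (Fin 2) (ZMod 3) := QuotientGroup.lift N (Ψ.comp θ) (by
    intro g hg
    rw [MonoidHom.mem_ker, MonoidHom.comp_apply, (hker g).mpr hg, map_one])
  have hF : Function.Injective F := by
    rw [injective_iff_map_eq_one]
    intro x hx
    obtain ⟨g, rfl⟩ := QuotientGroup.mk_surjective x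
    have h1 : Ψ (θ g) = 1 := hx
    have h2 : θ g = 1 := hΨ (by rw [h1, map_one])
    exact (QuotientGroup.eq_one_iff g).mpr ((hker g).mp h2)
  have hcard : Nat.card (K ⧸ N) = 48 := by
    have := Subgroup.card_eq_card_quotient_mul_card_subgroup N
    rw [hK, hN] at this
    omega
  have hbij : Function.Bijective F := by
    rw [Nat.bijective_iff_injective_and_card]
    exact ⟨hF, by rw [hcard, card_GL23']⟩
  exact ⟨MulEquiv.ofBijective F hbij⟩

end Cfsg.Agent.Lib.Helper5.Q432
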