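import Mathlib
import Cfsg.Agent.Lib.Helper12.Golay.QuartetOrbits
import Cfsg.Agent.Lib.helper4.ElemEnum
import Cfsg.Agent.Lib.Helper5.Q432Data

set_option autoImplicit false

namespace Cfsg.Agent.Lib.Helper5.Q432

open Cfsg Cfsg.Agent.Lib.Helper12 Cfsg.Agent.Lib.Helper12.Golay Cfsg.Agent.Lib.helper4

/-- Pairwise distinctness test for lists of tables. -/
def nodupT : List (List ℕ) → Bool
  | [] => true
  | L :: Ls => !(Ls.contains L) && nodupT Ls

theorem nodupT_spec : ∀ {Ls : List (List ℕ)}, nodupT Ls = true → Ls.Nodup
  | [], _ => List.nodup_nil
  | L :: Ls, h => by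
    rw [nodupT, Bool.and_eq_true, Bool.not_eq_true', ← Bool.not_eq_true,
      List.contains_iff_mem] at h
    exact List.nodup_cons.mpr ⟨h.1, nodupT_spec h.2⟩

set_option maxRecDepth 1000000 in
theorem chk_mem : L432.all (fun T => okK T && Nat.beq (actK T d₀) d₀ && (actLs T q₀ == q₀)) = true := by
  decide +kernel

set_option maxRecDepth 1000000 in
theorem chk_nodup : nodupT L432 = true ∧ L432.length = 432 := by
  decide +kernel

set_option maxRecDepth 1000000 in
theorem chk_N9 : nodupT N9 = true ∧ N9.length = 9 ∧ N9.contains (List.range 24) = true ∧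
    N9.contains tA = true ∧ N9.contains tB = true ∧
    (N9.all fun A => L432.contains A) = true ∧
    (N9.all fun A => N9.all fun B => N9.contains (compTbl A B)) = true ∧
    (N9.all fun A => compTbl A (compTbl A A) == List.range 24) = true := by
  decide +kernel

/-- Evaluate a list of tables before passing it on. -/
def forceLL {α : Type} : List (List ℕ) → (List (List ℕ) → α) → α
  | [], k => k []
  | x :: xs, k => forceList x (fun y => forceLL xs (fun ys => k (y :: ys)))

theorem forceLL_eq {α : Type} (L : List (List ℕ)) (k : List (List ℕ) → α) : forceLL L k = k L := by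
  induction L generalizing k with
  | nil => rfl
  | cons x xs ih =>
    rw [forceLL, forceList_eq, ih]

set_option maxRecDepth 1000000 in
theorem chk_norm : (L432.all fun T => forceLL (N9.map fun A' => compTbl A' T) fun M =>
    N9.all fun A => forceList (compTbl T A) fun C => M.contains C) = true := by
  decide +kernel

set_option maxRecDepth 1000000 in
theorem chk_cent : (L432.all fun T =>
    !(compTbl T tA == compTbl tA T && compTbl T tB == compTbl tB T) || N9.contains T) = true := by
  decide +kernel

set_option maxRecDepth 1000000 in
theorem chk_trans : (P12.all fun i => P12.all fun j => L432.any fun T => Nat.beq (T.getD i 0) j) = true := by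
  decide +kernel

end Cfsg.Agent.Lib.Helper5.Q432
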