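import Mathlib
import Cfsg.Agent.Lib.Helper5.Q432A
import Cfsg.Agent.Lib.Helper5.Q432Chk

set_option autoImplicit false

namespace Cfsg.Agent.Lib.Helper5.Q432

open Cfsg Cfsg.Agent.Lib.Helper12 Cfsg.Agent.Lib.Helper12.Golay Cfsg.Agent.Lib.helper4

theorem card_of_tbl {α : Type*} (f : α → List ℕ) (hf : Function.Injective f)
    (Ls : List (List ℕ)) (hnd : Ls.Nodup) (h1 : ∀ a, f a ∈ Ls) (h2 : ∀ L ∈ Ls, ∃ a, f a = L) :
    Nat.card α = Ls.length := by
  have e : α ≃ {L // L ∈ Ls} := Equiv.ofBijective (fun a => ⟨f a, h1 a⟩) ⟨by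
    intro a b hab
    exact hf (congrArg Subtype.val hab), by
    rintro ⟨L, hL⟩
    obtain ⟨a, ha⟩ := h2 L hL
    exact ⟨a, Subtype.ext ha⟩⟩
  rw [Nat.card_congr e, Nat.subtype_card Ls.toFinset (fun x => List.mem_toFinset),
    List.toFinset_card_of_nodup hnd]

theorem complete_of_card {α : Type*} [Finite α] (f : α → List ℕ) (hf : Function.Injective f)
    (Ls : List (List ℕ)) (hnd : Ls.Nodup) (hcard : Nat.card α = Ls.length)
    (h2 : ∀ L ∈ Ls, ∃ a, f a = L) : ∀ a, f a ∈ Ls := by
  choose g hg using h2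
  let G : {L // L ∈ Ls} → α := fun L => g L.1 L.2
  have hGinj : Function.Injective G := by
    intro L L' h
    apply Subtype.ext
    have := congrArg f h
    simp only [G, hg] at this
    exact this
  have hc : Nat.card {L // L ∈ Ls} = Nat.card α := by
    rw [hcard, Nat.subtype_card Ls.toFinset (fun x => List.mem_toFinset),
      List.toFinset_card_of_nodup hnd]
  have hGbij : Function.Bijective G := by
    rw [Nat.bijective_iff_injective_and_card]
    exact ⟨hGinj, hc⟩
  intro a
  obtain ⟨L, rfl⟩ := hGbij.2 a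
  simp only [G, hg]
  exact L.2

theorem L432_nodup : L432.Nodup := nodupT_spec chk_nodup.1

theorem N9_nodup : N9.Nodup := nodupT_spec chk_N9.1

theorem N9_sub {A : List ℕ} (hA : A ∈ N9) : A ∈ L432 := by
  have h := chk_N9.2.2.2.2.2.1
  rw [List.all_eq_true] at h
  have := h A hA
  rwa [List.contains_iff_mem] at this

theorem N9_mul {A B : List ℕ} (hA : A ∈ N9) (hB : B ∈ N9) : compTbl A B ∈ N9 := by
  have h := chk_N9.2.2.2.2.2.2.1
  rw [List.all_eq_true] at h
  have h1 := h A hA
  rw [List.all_eq_true] at h1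
  have := h1 B hB
  rwa [List.contains_iff_mem] at this

theorem N9_cube {A : List ℕ} (hA : A ∈ N9) : compTbl A (compTbl A A) = List.range 24 := by
  have h := chk_N9.2.2.2.2.2.2.2
  rw [List.all_eq_true] at h
  have := h A hA
  exact eq_of_beq this

theorem N9_one : List.range 24 ∈ N9 := by
  have h := chk_N9.2.2.1
  rwa [List.contains_iff_mem] at h

theorem tA_mem : tA ∈ N9 := by
  have h := chk_N9.2.2.2.1
  rwa [List.contains_iff_mem] at h

theorem tB_mem : tB ∈ N9 := by
  have h := chk_N9.2.2.2.2.1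
  rwa [List.contains_iff_mem] at h

theorem N9_norm {T A : List ℕ} (hT : T ∈ L432) (hA : A ∈ N9) :
    ∃ A' ∈ N9, compTbl T A = compTbl A' T := by
  have h := chk_norm
  rw [List.all_eq_true] at h
  have h1 := h T hT
  rw [forceLL_eq, List.all_eq_true] at h1
  have h2 := h1 A hA
  rw [forceList_eq, List.contains_iff_mem, List.mem_map] at h2
  obtain ⟨A', hA', e⟩ := h2
  exact ⟨A', hA', e.symm⟩

theorem N9_cent {T : List ℕ} (hT : T ∈ L432) (h1 : compTbl T tA = compTbl tA T)
    (h2 : compTbl T tB = compTbl tB T) : T ∈ N9 := by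
  have h := chk_cent
  rw [List.all_eq_true] at h
  have h3 := h T hT
  rw [h1, h2] at h3
  simpa using h3

section Main

variable {K : Type*} [Group K] (f : K → List ℕ)

theorem main_of_tables (hf : Function.Injective f)
    (hmul : ∀ a b, f (a * b) = compTbl (f a) (f b)) (hone : f 1 = List.range 24)
    (h1 : ∀ a, f a ∈ L432) (h2 : ∀ L ∈ L432, ∃ a, f a = L) :
    Nat.card K = 432 ∧ ∃ (N : Subgroup K) (_ : N.Normal), Nat.card N = 9 ∧
      Nonempty (K ⧸ N ≃* GL (Fin 2) (ZMod 3)) := by
  have hK : Nat.card K = 432 := by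
    rw [card_of_tbl f hf L432 L432_nodup h1 h2, chk_nodup.2]
  haveI : Finite K := Nat.finite_of_card_ne_zero (by rw [hK]; norm_num)
  have hcube : ∀ x : K, f x ∈ N9 → x * (x * x) = 1 := by
    intro x hx
    apply hf
    rw [hmul, hmul, N9_cube hx, hone]
  let N : Subgroup K :=
    { carrier := {x | f x ∈ N9}
      mul_mem' := by
        intro x y hx hy
        show f (x * y) ∈ N9
        rw [hmul]
        exact N9_mul hx hy
      one_mem' := by
        show f 1 ∈ N9
        rw [hone]
        exact N9_one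
      inv_mem' := by
        intro x hx
        have h3 := hcube x hx
        have e : x⁻¹ = x * x := by
          rw [inv_eq_iff_mul_eq_one]
          exact h3
        show f x⁻¹ ∈ N9
        rw [e, hmul]
        exact N9_mul hx hx }
  have hNmem : ∀ x : K, x ∈ N ↔ f x ∈ N9 := fun x => Iff.rfl
  have hnorm : N.Normal := by
    constructor
    intro n hn g
    rw [hNmem] at hn
    obtain ⟨A', hA', e⟩ := N9_norm (h1 g) hn
    obtain ⟨n', hn'⟩ := h2 A' (N9_sub hA')
    have h3 : g * n = n' * g := by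
      apply hf
      rw [hmul, hmul, hn', e]
    have h4 : g * n * g⁻¹ = n' := by
      rw [h3]
      group
    rw [h4, hNmem, hn']
    exact hA'
  haveI := hnorm
  have hN : Nat.card N = 9 := by
    have := card_of_tbl (fun x : N => f x.1) (fun x y h => Subtype.ext (hf h)) N9 N9_nodup
      (fun x => x.2) (fun L hL => by
        obtain ⟨a, ha⟩ := h2 L (N9_sub hL)
        exact ⟨⟨a, by rw [hNmem, ha]; exact hL⟩, ha⟩)
    rw [this, chk_N9.2.1]
  refine ⟨hK, N, hnorm, hN, ?_⟩
  apply quot_iso_gl23 N hN _ _ hK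
  · intro x hx
    have := hcube x hx
    rw [pow_succ, pow_two]
    rw [← this]
    group
  · intro g hg
    rw [Subgroup.mem_centralizer_iff] at hg
    obtain ⟨a₀, ha₀⟩ := h2 tA (N9_sub tA_mem)
    obtain ⟨b₀, hb₀⟩ := h2 tB (N9_sub tB_mem)
    have ha : a₀ ∈ N := by rw [hNmem, ha₀]; exact tA_mem
    have hb : b₀ ∈ N := by rw [hNmem, hb₀]; exact tB_mem
    rw [hNmem]
    apply N9_cent (h1 g)
    · have := congrArg f (hg a₀ ha)
      rw [hmul, hmul, ha₀] at this
      exact this.symm
    · have := congrArg f (hg b₀ hb)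
      rw [hmul, hmul, hb₀] at this
      exact this.symm

end Main

end Cfsg.Agent.Lib.Helper5.Q432
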