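import Mathlib
import Cfsg.Agent.S1597
import Cfsg.Agent.Lib.Helper12.Golay.DStab
import Cfsg.Agent.Lib.Helper12.Golay.QuartetClasses
import Cfsg.Agent.Lib.Helper5.Q432B

set_option autoImplicit false

namespace Cfsg.Agent.Lib.Helper5.Q432

open Cfsg MulAction Cfsg.Agent.Lib.Helper12 Cfsg.Agent.Lib.Helper12.Golay Cfsg.Agent.Lib.helper4
open scoped Pointwise

theorem exists_move (d : Finset GolayPt) (hd : d ∈ dodecads) (Q : Finset (Finset GolayPt))
    (hQ : Q ∈ quartets d) : ∃ k : M24, k • fs d₀ = d ∧ k • Q₀ = Q := by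
  obtain ⟨k1, hk1, rfl⟩ := dodecads_transitive d hd
  have hQ1 : k1⁻¹ • Q ∈ quartets (fs d₀) := by
    have := smul_quartets (M24.inv_mem hk1) hQ
    rwa [inv_smul_smul] at this
  obtain ⟨g0, hg0, eg0⟩ := quartets_transitive _ hQ1
  refine ⟨⟨k1, hk1⟩ * ⟨g0, hg0.1⟩, ?_, ?_⟩
  · rw [mul_smul]
    have : (⟨g0, hg0.1⟩ : M24) • fs d₀ = fs d₀ := hg0.2
    rw [this]; rfl
  · rw [mul_smul]
    have : (⟨g0, hg0.1⟩ : M24) • Q₀ = k1⁻¹ • Q := eg0
    rw [this]
    exact smul_inv_smul k1 Q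

theorem L432_spec {T : List ℕ} (hT : T ∈ L432) :
    ValidT T ∧ fperm T ∈ M24 ∧ fperm T • fs d₀ = fs d₀ ∧ fperm T • Q₀ = Q₀ := by
  have h := chk_mem
  rw [List.all_eq_true] at h
  have h1 := h T hT
  rw [Bool.and_eq_true, Bool.and_eq_true] at h1
  obtain ⟨⟨hok, hd⟩, hq⟩ := h1
  have hd' : actK T d₀ = d₀ := natBeq_iff.mp hd
  have hq' : actLs T q₀ = q₀ := eq_of_beq hq
  have hv := okK_valid hok
  have e1 : permT T • fs d₀ = fs d₀ := by
    have := permT_mem_stabilizer_fs hv (m := d₀) (by decide) hd'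
    exact this
  have e2 : permT T • Q₀ = Q₀ := by
    rw [Q₀, ← DL_actLs hv canon_reps.1.2, hq']
  refine ⟨hv, fperm_mem hok, ?_, ?_⟩
  · show (permT T)⁻¹ • fs d₀ = fs d₀
    rw [inv_smul_eq_iff]; exact e1.symm
  · show (permT T)⁻¹ • Q₀ = Q₀
    rw [inv_smul_eq_iff]; exact e2.symm

theorem card_K (d : Finset GolayPt) (hd : d ∈ dodecads) (Q : Finset (Finset GolayPt))
    (hQ : Q ∈ quartets d) :
    Nat.card ↥(stabilizer M24 d ⊓ stabilizer M24 Q) = 432 := by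
  have h := card_inf_stabilizer_mul (G := M24) (stabilizer M24 d) Q
  have horb : orbit ↥(stabilizer M24 d) Q = quartets d := by
    ext X
    constructor
    · rintro ⟨g, rfl⟩
      have hg : (g : M24) • d = d := g.2
      have := smul_quartets (g : M24).2 hQ
      show ((g : M24) : Equiv.Perm GolayPt) • Q ∈ quartets d
      have e : ((g : M24) : Equiv.Perm GolayPt) • d = d := hg
      rwa [e] at this
    · intro hX
      obtain ⟨g, hg, hgd, hgQ⟩ := (Cfsg.Agent.S1597.result d hd).2 Q hQ X hX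
      exact ⟨⟨⟨g, hg⟩, hgd⟩, hgQ⟩
  rw [horb, (Cfsg.Agent.S1597.result d hd).1, card_dstab0 d hd] at h
  omega

theorem tables (d : Finset GolayPt) (hd : d ∈ dodecads) (Q : Finset (Finset GolayPt))
    (hQ : Q ∈ quartets d) :
    ∃ f : ↥(stabilizer M24 d ⊓ stabilizer M24 Q) → List ℕ,
      Function.Injective f ∧ (∀ a b, f (a * b) = compTbl (f a) (f b)) ∧ f 1 = List.range 24 ∧
      (∀ a, f a ∈ L432) ∧ ∀ L ∈ L432, ∃ a, f a = L := by
  obtain ⟨k, hkd, hkQ⟩ := exists_move d hd Q hQ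
  let f : ↥(stabilizer M24 d ⊓ stabilizer M24 Q) → List ℕ :=
    fun a => tblOf ((k⁻¹ * a.1 * k : M24) : Equiv.Perm GolayPt)
  have hinj : Function.Injective f := by
    intro a b hab
    have h1 := tblOf_injective hab
    have h2 : k⁻¹ * a.1 * k = k⁻¹ * b.1 * k := Subtype.ext h1
    apply Subtype.ext
    exact mul_left_cancel (mul_right_cancel h2)
  have hmul : ∀ a b, f (a * b) = compTbl (f a) (f b) := by
    intro a b
    show tblOf ((k⁻¹ * (a * b).1 * k : M24) : Equiv.Perm GolayPt) = _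
    rw [← tblOf_mul, ← Subgroup.coe_mul]
    congr 2
    rw [Subgroup.coe_mul]
    group
  have hone : f 1 = List.range 24 := by
    show tblOf ((k⁻¹ * (1 : ↥(stabilizer M24 d ⊓ stabilizer M24 Q)).1 * k : M24) :
      Equiv.Perm GolayPt) = _
    rw [Subgroup.coe_one, mul_one, inv_mul_cancel, Subgroup.coe_one, tblOf_one]
  have h2 : ∀ L ∈ L432, ∃ a, f a = L := by
    intro L hL
    obtain ⟨hv, hM, hfd, hfQ⟩ := L432_spec hL
    set F : M24 := ⟨fperm L, hM⟩ with hF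
    have Fd : F • fs d₀ = fs d₀ := hfd
    have FQ : F • Q₀ = Q₀ := hfQ
    have hmem : k * F * k⁻¹ ∈ stabilizer M24 d ⊓ stabilizer M24 Q := by
      rw [Subgroup.mem_inf]
      refine ⟨?_, ?_⟩
      · rw [mem_stabilizer_iff, mul_smul, mul_smul, ← hkd, inv_smul_smul, Fd]
      · rw [mem_stabilizer_iff, mul_smul, mul_smul, ← hkQ, inv_smul_smul, FQ]
    refine ⟨⟨k * F * k⁻¹, hmem⟩, ?_⟩
    show tblOf ((k⁻¹ * (k * F * k⁻¹) * k : M24) : Equiv.Perm GolayPt) = L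
    have e : k⁻¹ * (k * F * k⁻¹) * k = F := by group
    rw [e]
    exact tblOf_fperm hv
  have h1 : ∀ a, f a ∈ L432 :=
    complete_of_card f hinj L432 L432_nodup (by rw [card_K d hd Q hQ, chk_nodup.2]) h2
  exact ⟨f, hinj, hmul, hone, h1, h2⟩

theorem trans_K (d : Finset GolayPt) (hd : d ∈ dodecads) (Q : Finset (Finset GolayPt))
    (hQ : Q ∈ quartets d) (p q : GolayPt) (hp : p ∈ d) (hq : q ∈ d) :
    ∃ g ∈ (stabilizer M24 d ⊓ stabilizer M24 Q), ((g : ↥M24) : Equiv.Perm GolayPt) p = q := by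
  obtain ⟨k, hkd, hkQ⟩ := exists_move d hd Q hQ
  have hmemP : ∀ x : GolayPt, x ∈ d → idx ((k⁻¹ : M24) • x) ∈ P12 := by
    intro x hx
    have h1 : (k⁻¹ : M24) • x ∈ fs d₀ := by
      have : (k⁻¹ : M24) • x ∈ (k⁻¹ : M24) • d := Finset.smul_mem_smul_finset hx
      rwa [← hkd, inv_smul_smul] at this
    rw [mem_fs] at h1
    have := idx_mem_P12 ⟨idx ((k⁻¹ : M24) • x), idx_lt _⟩ (by rw [tb_eq]; exact h1)
    exact this
  have h := chk_trans
  rw [List.all_eq_true] at h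
  have h1 := h _ (hmemP p hp)
  rw [List.all_eq_true] at h1
  have h2 := h1 _ (hmemP q hq)
  rw [List.any_eq_true] at h2
  obtain ⟨T, hT, hTe⟩ := h2
  have hTe' : T.getD (idx ((k⁻¹ : M24) • p)) 0 = idx ((k⁻¹ : M24) • q) := natBeq_iff.mp hTe
  obtain ⟨hv, hM, hfd, hfQ⟩ := L432_spec hT
  set F : M24 := ⟨fperm T, hM⟩ with hF
  have Fd : F • fs d₀ = fs d₀ := hfd
  have FQ : F • Q₀ = Q₀ := hfQ
  have hmem : k * F * k⁻¹ ∈ stabilizer M24 d ⊓ stabilizer M24 Q := by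
    rw [Subgroup.mem_inf]
    refine ⟨?_, ?_⟩
    · rw [mem_stabilizer_iff, mul_smul, mul_smul, ← hkd, inv_smul_smul, Fd]
    · rw [mem_stabilizer_iff, mul_smul, mul_smul, ← hkQ, inv_smul_smul, FQ]
  refine ⟨k * F * k⁻¹, hmem, ?_⟩
  show (k * F * k⁻¹) • p = q
  rw [mul_smul, mul_smul]
  have e : F • ((k⁻¹ : M24) • p) = (k⁻¹ : M24) • q := by
    show fperm T ((k⁻¹ : M24) • p) = _
    rw [fperm_apply hv, tblFun, hTe', pt_idx]
  rw [e, smul_inv_smul]

end Cfsg.Agent.Lib.Helper5.Q432
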