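import Mathlib
import Cfsg.Prelude.Def_Transfer

set_option autoImplicit false

namespace Cfsg.Agent.Lib.Helper5

open scoped commutatorElement

theorem quad_conj {G : Type*} [Group G] (V H : Subgroup G)
    (hHV : H ≤ Subgroup.normalizer (V : Set G)) (hq : ⁅⁅V, H⁆, H⁆ = ⊥) {v h : G} (hv : v ∈ V)
    (hh : h ∈ H) :
    ∃ c ∈ V, (∀ k ∈ H, k * c = c * k) ∧ h * v * h⁻¹ = c * v := by
  have hconj : h * v * h⁻¹ ∈ V := (Subgroup.mem_normalizer_iff.mp (hHV hh) v).mp hv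
  refine ⟨h * v * h⁻¹ * v⁻¹, V.mul_mem hconj (V.inv_mem hv), ?_, by group⟩
  intro k hk
  have h1 : ⁅v, h⁆ ∈ ⁅V, H⁆ := Subgroup.commutator_mem_commutator hv hh
  have h2 : ⁅⁅v, h⁆, k⁆ ∈ ⁅⁅V, H⁆, H⁆ := Subgroup.commutator_mem_commutator h1 hk
  rw [hq, Subgroup.mem_bot, commutatorElement_eq_one_iff_commute] at h2
  have h3 : h * v * h⁻¹ * v⁻¹ = ⁅v, h⁆⁻¹ := by rw [commutatorElement_def]; group
  rw [h3]
  exact (h2.inv_left.eq).symm

end Cfsg.Agent.Lib.Helper5
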