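import Mathlib
import Cfsg.Agent.Lib.Helper18.REELA.Defs
import Cfsg.Agent.Lib.Helper5.REELA11core
import Cfsg.Agent.Lib.helper4.REELA05
import Cfsg.Agent.Lib.Helper25.REELA07
import Cfsg.Agent.Lib.helper3.REELA09
import Cfsg.Agent.Lib.Helper25.REELA10

/-!
# Project REE, block LA, row LA11 (`la_conj_frob_ker`), verbatim vs `Helper18/REELA/Skel.lean.txt`.
-/

set_option autoImplicit false

namespace Cfsg.Agent.Lib.helper7.REE

open Matrix Polynomial

universe v

section finite

variable {K : Type v} [Field K] [Fintype K]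

variable {V : Type*} [AddCommGroup V] [Module K V]

/-- LA11 [M]. An element of the commutant of `f` that is killed by `p` on `W = ker p(f)` is a
Frobenius power of `f` there.  (`g = r(f)` on `W` (LA07); `β = mk r`;
`aeval β p = mk (p.comp r)` and `(p.comp r)(f) = p(r(f)) = p(g) = 0` on `W` (LA16), so
`p ∣ p.comp r` (LA05), `aeval β p = 0`; LA09: `mk r = mk (X^(q^i))`, so `p ∣ r - X^(q^i)`,
LA05 again.) -/
theorem la_conj_frob_ker (f : Module.End K V) (p : K[X]) (hp : Irreducible p)
    (hW : Module.finrank K (LinearMap.ker (aeval f p)) = p.natDegree)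
    (g : Module.End K V) (hg : Commute g f)
    (hpg : ∀ x ∈ LinearMap.ker (aeval f p), aeval g p x = 0) :
    ∃ i, i < p.natDegree ∧
      ∀ x ∈ LinearMap.ker (aeval f p), g x = (f ^ (Fintype.card K ^ i)) x :=
  la_conj_frob_ker_core f p (la_ker_dvd f p hp hW) (la_root_frob p hp)
    (fun W g h hW hgh => la_agree W g h hW hgh) g (la_commutant_ker f p hp hW g hg) hpg

end finite

end Cfsg.Agent.Lib.helper7.REE
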