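import Mathlib

/-!
# Project REE, piece M7 (generic half, helper5): the representation of a matrix group on an
invariant subspace, as a homomorphism to `GL (Fin n) K`; it is injective when the group is
simple and some element moves some vector of the subspace.
-/

set_option autoImplicit false

namespace Cfsg.Agent.Lib.Helper5.REEM7

open Matrix

variable {ι : Type*} [Fintype ι] [DecidableEq ι] {K : Type*} [Field K]

/-- the restriction of the elements of `T` to the invariant subspace `W`, as a monoid hom to
`Module.End K W` -/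
noncomputable def reem7_res (T : Subgroup (GL ι K)) (W : Submodule K (ι → K))
    (hinv : ∀ g ∈ T, ∀ x ∈ W, (g : Matrix ι ι K).mulVec x ∈ W) : ↥T →* Module.End K W where
  toFun g := (Matrix.toLin' ((g : GL ι K) : Matrix ι ι K)).restrict
    (fun x hx => by rw [Matrix.toLin'_apply]; exact hinv g.1 g.2 x hx)
  map_one' := by
    apply LinearMap.ext
    intro x
    apply Subtype.ext
    simp
  map_mul' := by
    intro g h
    apply LinearMap.ext
    intro x
    apply Subtype.ext
    simp [Matrix.toLin'_mul]

theorem reem7_res_apply (T : Subgroup (GL ι K)) (W : Submodule K (ι → K))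
    (hinv : ∀ g ∈ T, ∀ x ∈ W, (g : Matrix ι ι K).mulVec x ∈ W) (g : ↥T) (x : W) :
    ((reem7_res T W hinv g) x : ι → K) = ((g : GL ι K) : Matrix ι ι K).mulVec (x : ι → K) := by
  simp [reem7_res]

/-- the representation on the invariant subspace `W` of dimension `n`, in coordinates -/
theorem reem7_abs (T : Subgroup (GL ι K)) (W : Submodule K (ι → K)) (n : ℕ)
    (hdim : Module.finrank K W = n)
    (hinv : ∀ g ∈ T, ∀ x ∈ W, (g : Matrix ι ι K).mulVec x ∈ W) :
    ∃ ρ : ↥T →* GL (Fin n) K,
      ∀ g : ↥T, ρ g = 1 ↔ ∀ x ∈ W, ((g : GL ι K) : Matrix ι ι K).mulVec x = x := by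
  classical
  have : Module.Finite K W := Module.Finite.of_injective W.subtype W.injective_subtype
  let b : Module.Basis (Fin n) K W := Module.finBasisOfFinrankEq K W hdim
  let e : Module.End K W ≃ₐ[K] Matrix (Fin n) (Fin n) K := LinearMap.toMatrixAlgEquiv b
  let r : ↥T →* Module.End K W := reem7_res T W hinv
  let ρ : ↥T →* GL (Fin n) K :=
    (Units.map (e : Module.End K W →* Matrix (Fin n) (Fin n) K)).comp r.toHomUnits
  refine ⟨ρ, ?_⟩
  intro g
  have h1 : ρ g = 1 ↔ r g = 1 := by
    constructor
    · intro h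
      have h2 : ((ρ g : GL (Fin n) K) : Matrix (Fin n) (Fin n) K) = 1 := by rw [h]; rfl
      have h3 : e (r g) = 1 := h2
      have h4 : e (r g) = e 1 := by rw [h3, map_one]
      exact e.injective h4
    · intro h
      apply Units.ext
      show e (r g) = 1
      rw [h, map_one]
  rw [h1]
  constructor
  · intro h x hx
    have := reem7_res_apply T W hinv g ⟨x, hx⟩
    have h' : reem7_res T W hinv g = 1 := h
    rw [h'] at this
    simpa using this.symm
  · intro h
    apply LinearMap.ext
    intro x
    apply Subtype.ext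
    have := reem7_res_apply T W hinv g x
    show ((reem7_res T W hinv g) x : ι → K) = _
    rw [this, h x.1 x.2]
    rfl

/-- the representation is faithful when `T` is simple and acts non-trivially on `W` -/
theorem reem7_inj (T : Subgroup (GL ι K)) [IsSimpleGroup ↥T] (W : Submodule K (ι → K)) (n : ℕ)
    (hdim : Module.finrank K W = n)
    (hinv : ∀ g ∈ T, ∀ x ∈ W, (g : Matrix ι ι K).mulVec x ∈ W)
    (hne : ∃ g ∈ T, ∃ x ∈ W, (g : Matrix ι ι K).mulVec x ≠ x) :
    ∃ ρ : ↥T →* GL (Fin n) K, Function.Injective ρ := by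
  obtain ⟨ρ, hρ⟩ := reem7_abs T W n hdim hinv
  refine ⟨ρ, ?_⟩
  rw [← MonoidHom.ker_eq_bot_iff]
  rcases (MonoidHom.normal_ker ρ).eq_bot_or_eq_top with h | h
  · exact h
  · exfalso
    obtain ⟨g, hg, x, hx, hgx⟩ := hne
    have hmem : (⟨g, hg⟩ : ↥T) ∈ ρ.ker := by rw [h]; exact Subgroup.mem_top _
    rw [MonoidHom.mem_ker, hρ] at hmem
    exact hgx (hmem x hx)

end Cfsg.Agent.Lib.Helper5.REEM7
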