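import Mathlib
import Cfsg.Agent.Lib.helper23.RuMain
import Cfsg.Agent.Lib.helper14.PgV

set_option autoImplicit false

/-! The light check of the chain of the Rudvalis group on 4060 points. -/

namespace Cfsg.Agent.Lib.Helper5.RuM

open Cfsg.Agent.Lib.helper23 Cfsg.Agent.Lib.helper14.PV

theorem ruchk0C : pgChk0W 4060 ruC = true := by
  change pgChk0W 4060 [ruL1, ruL2, ruL3, ruL4, ruL5] = true
  rw [pgChk0W_cons, pgChk0W_cons, pgChk0W_cons, pgChk0W_cons, pgChk0W_cons, ruchk0x1, ruchk0x2,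
    ruchk0x3, ruchk0x4, ruchk0x5]
  rfl

end Cfsg.Agent.Lib.Helper5.RuM
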