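import Mathlib
import Cfsg.Agent.Lib.Helper5.PcPI
import Cfsg.Agent.Lib.Helper5.PcPH
import Cfsg.Agent.Lib.Helper5.PcPG
import Cfsg.Agent.Lib.Helper5.PcPJ
import Cfsg.Agent.Lib.Helper5.PcPK
import Cfsg.Agent.Lib.Helper5.RuMBase
import Cfsg.Agent.Lib.Helper5.RuMData2
import Cfsg.Agent.Lib.Helper5.RuMData5

set_option autoImplicit false
set_option maxRecDepth 1000000
set_option Elab.async false

/-! Checks of the certificates for a Sylow 2-subgroup of the Rudvalis group on 4060 points (generated). -/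

namespace Cfsg.Agent.Lib.Helper5.RuM

open Cfsg Cfsg.Agent.Lib.helper23 Cfsg.Agent.Lib.Helper5.CP Cfsg.Agent.Lib.Helper5.PcT Cfsg.Agent.Lib.Helper5.PcP
theorem zv2_ok : (zformsP 2 (PcD.ofLists 14 sqL2 cmL2) 400 conL2
    (mkRel 2 (pwL2.map Prod.fst) [] (cmEL2.map Prod.fst) cmOL2)).map vecOf = ZV2 := by decide +kernel

theorem cert2_ok : certOKP 2 (PcD.ofLists 14 sqL2 cmL2) CC2
    (zformsP 2 (PcD.ofLists 14 sqL2 cmL2) 400 conL2
      (mkRel 2 (pwL2.map Prod.fst) [] (cmEL2.map Prod.fst) cmOL2)) certs2 = true := by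
  apply certOKP_of_certOKV
  unfold certOKV
  rw [zv2_ok]
  decide +kernel

theorem pwL2p0_ok : pwChk rulk 4060 Uid 2 (gtabs2.map Prod.fst) (htabs2.map Prod.fst) pwL2p0 = true := by
  decide +kernel

theorem pwL2p1_ok : pwChk rulk 4060 Uid 2 (gtabs2.map Prod.fst) (htabs2.map Prod.fst) pwL2p1 = true := by
  decide +kernel

theorem pw2_ok : pwChk rulk 4060 Uid 2 (gtabs2.map Prod.fst) (htabs2.map Prod.fst) pwL2 = true :=
  pwChk_append _ _ _ _ _ _ _ _ pwL2p0_ok (pwL2p1_ok)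

theorem cmEL2p0_ok : cmChk rulk 4060 Uid (gtabs2.map Prod.fst) (htabs2.map Prod.fst) cmEL2p0 = true := by
  decide +kernel

theorem cm2_ok : cmChk rulk 4060 Uid (gtabs2.map Prod.fst) (htabs2.map Prod.fst) cmEL2 = true :=
  cmEL2p0_ok

theorem levels2_ok : chainChk rulk 4060 Uid (gtabs2.map Prod.fst) [] levels2 = true := by
  decide +kernel

theorem levels2_prod : chainProd levels2 = 2 ^ 14 := by decide +kernel

end Cfsg.Agent.Lib.Helper5.RuM
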