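import Mathlib
import Cfsg.Agent.Lib.Helper5.PcPI
import Cfsg.Agent.Lib.Helper5.PcPH
import Cfsg.Agent.Lib.Helper5.PcPG
import Cfsg.Agent.Lib.Helper5.PcPJ
import Cfsg.Agent.Lib.Helper5.PcPK
import Cfsg.Agent.Lib.Helper5.RuMBase
import Cfsg.Agent.Lib.Helper5.RuMData5

set_option autoImplicit false
set_option maxRecDepth 1000000
set_option Elab.async false

/-! Checks of the certificates for a Sylow 5-subgroup of the Rudvalis group on 4060 points (generated). -/

namespace Cfsg.Agent.Lib.Helper5.RuM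

open Cfsg Cfsg.Agent.Lib.helper23 Cfsg.Agent.Lib.Helper5.CP Cfsg.Agent.Lib.Helper5.PcT Cfsg.Agent.Lib.Helper5.PcP
theorem chk_id : eqW rulk 4060 Uid [] = true := by decide +kernel

theorem gtabs5p0_chk : tabsChk rulk 4060 (List.range 4060) ruC gtabs5p0 = true := by decide +kernel

theorem gtabs5_chk : tabsChk rulk 4060 (List.range 4060) ruC gtabs5 = true :=
  gtabs5p0_chk

theorem htabs5p0_chk : tabsChk rulk 4060 (List.range 4060) ruC htabs5p0 = true := by decide +kernel

theorem htabs5_chk : tabsChk rulk 4060 (List.range 4060) ruC htabs5 = true :=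
  htabs5p0_chk

end Cfsg.Agent.Lib.Helper5.RuM
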