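import Mathlib
import Cfsg.Agent.Lib.Helper5.RuMChk5A
import Cfsg.Agent.Lib.Helper5.RuMChk5B
import Cfsg.Agent.Lib.Helper5.RuMChk5C
import Cfsg.Agent.Lib.Helper5.RuMChk3A
import Cfsg.Agent.Lib.Helper5.RuMChk3B
import Cfsg.Agent.Lib.Helper5.RuMChk3C
import Cfsg.Agent.Lib.Helper5.RuMChk2A
import Cfsg.Agent.Lib.Helper5.RuMChk2B
import Cfsg.Agent.Lib.Helper5.RuMChk2C
import Cfsg.Agent.Lib.Helper5.StemJ
import Cfsg.Agent.Lib.Helper5.StemY
import Cfsg.Agent.Lib.Helper5.StemS
import Cfsg.Agent.Lib.Helper5.StemT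

set_option autoImplicit false
set_option maxRecDepth 1000000

/-! Kernels of finite stem extensions of the Rudvalis group on 4060 points (the group of the chain
`ruC`) have order at most two. -/

namespace Cfsg.Agent.Lib.Helper5.RuM

open Cfsg Cfsg.Agent.Lib.helper23 Cfsg.Agent.Lib.Helper5.CP Cfsg.Agent.Lib.Helper5.PcT
open Cfsg.Agent.Lib.Helper5.PcP
open Cfsg.Agent.Lib.Helper5.Stem Cfsg.Agent.Lib.helper3
open Subgroup
open scoped commutatorElement

/-- the group on 4060 points, as a type -/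
abbrev HG : Type := ↥(pgGrpW 4060 ruC)

theorem card_HG : Nat.card HG = 145926144000 := rucard

instance HG_finite : Finite HG := Nat.finite_of_card_ne_zero (by rw [card_HG]; norm_num)

/-! ### the Sylow subgroups -/

theorem g5mem : (∀ t ∈ gtabs5, (mkP rulk t).perm 4060 ∈ pgGrpW 4060 ruC) ∧
    (∀ t ∈ gtabs5, (mkP rulk t).ok 4060 = true) :=
  tabs_of_chk0 ruchk0C gtabs5 gtabs5_chk

theorem h5mem : (∀ t ∈ htabs5, (mkP rulk t).perm 4060 ∈ pgGrpW 4060 ruC) ∧
    (∀ t ∈ htabs5, (mkP rulk t).ok 4060 = true) :=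
  tabs_of_chk0 ruchk0C htabs5 htabs5_chk

theorem g3mem : (∀ t ∈ gtabs3, (mkP rulk t).perm 4060 ∈ pgGrpW 4060 ruC) ∧
    (∀ t ∈ gtabs3, (mkP rulk t).ok 4060 = true) :=
  tabs_of_chk0 ruchk0C gtabs3 gtabs3_chk

theorem h3mem : (∀ t ∈ htabs3, (mkP rulk t).perm 4060 ∈ pgGrpW 4060 ruC) ∧
    (∀ t ∈ htabs3, (mkP rulk t).ok 4060 = true) :=
  tabs_of_chk0 ruchk0C htabs3 htabs3_chk

theorem g2mem : (∀ t ∈ gtabs2, (mkP rulk t).perm 4060 ∈ pgGrpW 4060 ruC) ∧
    (∀ t ∈ gtabs2, (mkP rulk t).ok 4060 = true) :=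
  tabs_of_chk0 ruchk0C gtabs2 gtabs2_chk

theorem h2mem : (∀ t ∈ htabs2, (mkP rulk t).perm 4060 ∈ pgGrpW 4060 ruC) ∧
    (∀ t ∈ htabs2, (mkP rulk t).ok 4060 = true) :=
  tabs_of_chk0 ruchk0C htabs2 htabs2_chk

/-- the polycyclic generators of a Sylow `2`-subgroup -/
noncomputable def gG2 : List HG := elList gtabs2 g2mem.1

/-- the conjugating elements for the prime `2` -/
noncomputable def hG2 : List HG := elList htabs2 h2mem.1

theorem gG2_rep : List.Forall₂ (RepS rulk 4060 (pgGrpW 4060 ruC)) (gtabs2.map Prod.fst) gG2 :=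
  elList_rep gtabs2 g2mem.1 g2mem.2

theorem hG2_rep : List.Forall₂ (RepS rulk 4060 (pgGrpW 4060 ruC)) (htabs2.map Prod.fst) hG2 :=
  elList_rep htabs2 h2mem.1 h2mem.2

/-- the polycyclic generators as a function, for the prime `2` -/
noncomputable def g2 (i : ℕ) : HG := gG2.getD i 1

/-- the commuting pair -/
noncomputable def x₁ : HG := nfw g2 [4, 9]
noncomputable def y₁ : HG := nfw g2 [3, 4, 5]

theorem word_eq2 (w v : List ℕ)
    (h : eqWW rulk 4060 (w.map fun i => (gtabs2.map Prod.fst).getD i Uid)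
      (v.map fun i => (gtabs2.map Prod.fst).getD i Uid) = true) : nfw g2 w = nfw g2 v :=
  eq_of_chk _ _ _ _ (word_rep Uid chk_id _ gG2 gG2_rep w) (word_rep Uid chk_id _ gG2 gG2_rep v) h

theorem x₁_y₁ : x₁ * y₁ = y₁ * x₁ := by
  unfold x₁ y₁
  rw [← nfw_append, ← nfw_append]
  exact word_eq2 _ _ (by decide +kernel)

theorem y₁_sq : y₁ * y₁ = 1 := by
  have h : nfw g2 [3, 4, 5, 3, 4, 5] = nfw g2 [] := word_eq2 _ _ (by decide +kernel)
  have e : nfw g2 [3, 4, 5, 3, 4, 5] = y₁ * y₁ := by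
    unfold y₁
    rw [← nfw_append]
    rfl
  rw [← e, h, nfw_nil]

/-- in a stem extension with kernel of order two the pair does not have commuting lifts -/
theorem not_comm_two {Γ : Type*} [Group Γ] [Finite Γ] (σ : Γ →* HG)
    (hσ : Cfsg.IsStemExtension σ) (hcard : Nat.card σ.ker = 2) : ¬ QComm σ x₁ y₁ := by
  intro h1
  refine stem_card_ne_of_cert_chain Uid chk_id 2 Nat.prime_two (gtabs2.map Prod.fst) gG2
    gG2_rep (htabs2.map Prod.fst) hG2 hG2_rep 14 sqL2 cmL2 data2_ok
    (by unfold gG2; rw [elList_length]; decide)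
    rels2_ok 400 conL2 pwL2 [] cmEL2 cmOL2 CC2 certs2 cert2_ok pw2_ok cm2_ok
    levels2 levels2_ok levels2_prod 145926144000 card_HG (by norm_num) σ hσ (by simp) ?_ hcard
  intro q hq
  simp only [cmOL2, List.mem_cons, List.not_mem_nil, or_false] at hq
  subst hq
  exact h1

/-- no finite stem extension has a kernel of order 3 -/
theorem no_stem_3 {Γ : Type*} [Group Γ] [Finite Γ] (σ : Γ →* HG) (hσ : Cfsg.IsStemExtension σ) :
    Nat.card σ.ker ≠ 3 :=
  stem_card_ne_of_cert_chain Uid chk_id 3 Nat.prime_three (gtabs3.map Prod.fst)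
    (elList gtabs3 g3mem.1) (elList_rep gtabs3 g3mem.1 g3mem.2) (htabs3.map Prod.fst)
    (elList htabs3 h3mem.1) (elList_rep htabs3 h3mem.1 h3mem.2) 3 sqL3 cmL3 data3_ok
    (by rw [elList_length]; decide)
    rels3_ok 400 conL3 pwL3 [] cmEL3 [] CC3 certs3 cert3_ok pw3_ok cm3_ok
    levels3 levels3_ok levels3_prod 145926144000 card_HG (by norm_num) σ hσ (by simp) (by simp)

/-- no finite stem extension has a kernel of order 5 -/
theorem no_stem_5 {Γ : Type*} [Group Γ] [Finite Γ] (σ : Γ →* HG) (hσ : Cfsg.IsStemExtension σ) :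
    Nat.card σ.ker ≠ 5 :=
  stem_card_ne_of_cert_chain Uid chk_id 5 Nat.prime_five (gtabs5.map Prod.fst)
    (elList gtabs5 g5mem.1) (elList_rep gtabs5 g5mem.1 g5mem.2) (htabs5.map Prod.fst)
    (elList htabs5 h5mem.1) (elList_rep htabs5 h5mem.1 h5mem.2) 3 sqL5 cmL5 data5_ok
    (by rw [elList_length]; decide)
    rels5_ok 400 conL5 pwL5 [] cmEL5 [] CC5 certs5 cert5_ok pw5_ok cm5_ok
    levels5 levels5_ok levels5_prod 145926144000 card_HG (by norm_num) σ hσ (by simp) (by simp)

theorem card_one_of_all {Γ : Type*} [Group Γ] (K : Subgroup Γ) (hall : ∀ z ∈ K, z = 1) :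
    Nat.card K = 1 := by
  rw [Nat.card_eq_one_iff_unique]
  refine ⟨⟨fun a b => ?_⟩, ⟨1⟩⟩
  apply Subtype.ext
  rw [hall a a.2, hall b b.2]

/-- no stem extension has a kernel of prime order at least seven -/
theorem no_stem_other (p : ℕ) (hpP : p.Prime) (hp2 : p ≠ 2) (hp3 : p ≠ 3) (hp5 : p ≠ 5)
    {Γ : Type*} [Group Γ]
    [Finite Γ] (σ : Γ →* HG) (hσ : Cfsg.IsStemExtension σ) : Nat.card σ.ker ≠ p := by
  intro hcardp
  obtain ⟨hsurj, hcen, hder⟩ := hσ
  have hcard := card_HG
  have : Fact p.Prime := ⟨hpP⟩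
  obtain ⟨Rr⟩ : Nonempty (Sylow p HG) := inferInstance
  have hcyc : IsCyclic (Rr : Subgroup HG) := by
    obtain ⟨j, hj⟩ := IsPGroup.iff_card.mp Rr.2
    have hdvd : p ^ j ∣ 145926144000 := by
      rw [← hj, ← hcard]
      exact Subgroup.card_subgroup_dvd_card _
    have hj1 : j ≤ 1 := by
      by_contra hlt
      push Not at hlt
      have h2 : p ^ 2 ∣ 145926144000 := dvd_trans (pow_dvd_pow p hlt) hdvd
      have e : (145926144000 : ℕ) = 2 ^ 14 * 3 ^ 3 * 5 ^ 3 * 7 * 13 * 29 := by norm_num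
      rw [e] at h2
      have hpd : p ∣ 2 ^ 14 * 3 ^ 3 * 5 ^ 3 * 7 * 13 * 29 :=
        dvd_trans (dvd_pow_self p (by norm_num)) h2
      have hcases : p = 2 ∨ p = 3 ∨ p = 5 ∨ p = 7 ∨ p = 13 ∨ p = 29 := by
        rcases (Nat.Prime.dvd_mul hpP).mp hpd with h | h
        · rcases (Nat.Prime.dvd_mul hpP).mp h with h | h
          · rcases (Nat.Prime.dvd_mul hpP).mp h with h | h
            · rcases (Nat.Prime.dvd_mul hpP).mp h with h | h
              · rcases (Nat.Prime.dvd_mul hpP).mp h with h | h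
                · left
                  exact (Nat.prime_dvd_prime_iff_eq hpP Nat.prime_two).mp
                    (hpP.dvd_of_dvd_pow h)
                · right; left
                  exact (Nat.prime_dvd_prime_iff_eq hpP Nat.prime_three).mp
                    (hpP.dvd_of_dvd_pow h)
              · right; right; left
                exact (Nat.prime_dvd_prime_iff_eq hpP Nat.prime_five).mp
                  (hpP.dvd_of_dvd_pow h)
            · right; right; right; left
              exact (Nat.prime_dvd_prime_iff_eq hpP (by norm_num)).mp h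
          · right; right; right; right; left
            exact (Nat.prime_dvd_prime_iff_eq hpP (by norm_num)).mp h
        · right; right; right; right; right
          exact (Nat.prime_dvd_prime_iff_eq hpP (by norm_num)).mp h
      rcases hcases with rfl | rfl | rfl | rfl | rfl | rfl
      · exact hp2 rfl
      · exact hp3 rfl
      · exact hp5 rfl
      · revert h2; norm_num
      · revert h2; norm_num
      · revert h2; norm_num
    interval_cases j
    · rw [pow_zero] at hj
      have : Subsingleton (Rr : Subgroup HG) :=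
        (Nat.card_eq_one_iff_unique.mp hj).1
      exact isCyclic_of_subsingleton
    · rw [pow_one] at hj
      exact isCyclic_of_prime_card hj
  have hind : ¬ p ∣ (Rr : Subgroup HG).index := Sylow.not_dvd_index Rr
  have hall : ∀ z ∈ σ.ker, z = 1 := by
    intro z hz
    have hzp : z ^ p = 1 := by
      have := pow_card_eq_one' (G := σ.ker) (x := ⟨z, hz⟩)
      rw [hcardp] at this
      exact congrArg Subtype.val this
    refine stem_no_prime_of_subgroup σ hsurj hcen hder (Rr : Subgroup HG) hind ?_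
      hz hzp
    intro w hw _
    exact comm_comap_trivial_of_cyclic σ hcen (Rr : Subgroup HG) w hw
  have := card_one_of_all σ.ker hall
  rw [this] at hcardp
  exact hpP.one_lt.ne hcardp

/-- lifts of a pair commute as soon as one pair of lifts does, in a central extension -/
theorem qcomm_of_comm {Γ : Type*} [Group Γ] (σ : Γ →* HG) (hcen : σ.ker ≤ Subgroup.center Γ)
    {x y : HG} (X Y : Γ) (hX : σ X = x) (hY : σ Y = y) (h : X * Y = Y * X) : QComm σ x y := by
  intro X' Y' hX' hY'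
  have ha : X⁻¹ * X' ∈ σ.ker := by
    rw [MonoidHom.mem_ker, map_mul, map_inv, hX, hX', inv_mul_cancel]
  have hb : Y⁻¹ * Y' ∈ σ.ker := by
    rw [MonoidHom.mem_ker, map_mul, map_inv, hY, hY', inv_mul_cancel]
  have hac := Subgroup.mem_center_iff.mp (hcen ha)
  have hbc := Subgroup.mem_center_iff.mp (hcen hb)
  have eX : X' = X * (X⁻¹ * X') := by group
  have eY : Y' = Y * (Y⁻¹ * Y') := by group
  rw [eX, eY]
  generalize X⁻¹ * X' = a at hac
  generalize Y⁻¹ * Y' = b at hbc
  calc X * a * (Y * b) = X * (a * Y) * b := by group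
    _ = X * (Y * a) * b := by rw [hac Y]
    _ = (X * Y) * (a * b) := by group
    _ = (Y * X) * (b * a) := by rw [h, hbc a]
    _ = Y * (X * b) * a := by group
    _ = Y * (b * X) * a := by rw [hbc X]
    _ = Y * b * (X * a) := by group

/-- **the model statement**: the kernel of every finite stem extension of the Rudvalis group on
4060 points has order at most two -/
theorem ru_card_ker_le_two {Γ : Type*} [Group Γ] [Finite Γ] (σ : Γ →* ↥(pgGrpW 4060 ruC))
    (hσ : Cfsg.IsStemExtension σ) : Nat.card σ.ker ≤ 2 := by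
  refine card_ker_le_two x₁ y₁ x₁_y₁ y₁_sq ?_ ?_ σ hσ
  · intro p hp hp2 Γ' _ _ σ' hσ'
    by_cases hp3 : p = 3
    · subst hp3; exact no_stem_3 σ' hσ'
    by_cases hp5 : p = 5
    · subst hp5; exact no_stem_5 σ' hσ'
    exact no_stem_other p hp hp2 hp3 hp5 σ' hσ'
  · intro Γ' _ _ σ' hσ' hc X Y hX hY hXY
    exact not_comm_two σ' hσ' hc (qcomm_of_comm σ' hσ'.2.1 X Y hX hY hXY)

end Cfsg.Agent.Lib.Helper5.RuM
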