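import Mathlib
import Cfsg.Agent.Lib.Helper5.S1906.Defs
import Cfsg.Agent.Lib.Helper26.S1906G5
import Cfsg.Agent.Lib.Helper24.S1906G8core
import Cfsg.Agent.Lib.Helper10.S1906P7
import Cfsg.Agent.Lib.Helper26.S1906G9

set_option autoImplicit false

namespace Cfsg.Agent.Lib.Helper5.S1906

open scoped IsMulCommutative

variable {G : Type*} [Group G] [Finite G] (hG : ∀ H : Subgroup G, H.index ≠ 2) (P : Sylow 2 G)
  {X0 : Subgroup G} {c z : G}

include hG in
/-- G10 -/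
theorem transfer_X0 (h : Ctx (P : Subgroup G) X0 c z)
    (h2 : Nat.card (⁅(P : Subgroup G), (P : Subgroup G)⁆ : Subgroup G) ≠ 2) (y : G) (hy : y ∈ X0)
    (hfix : ∀ n ∈ Subgroup.normalizer (X0 : Set G), n * y * n⁻¹ = y) : y * y = 1 := by
  classical
  have : IsMulCommutative X0 := ⟨⟨fun a b => Subtype.ext (h.ab a a.2 b b.2)⟩⟩
  have : Fact (Nat.Prime 2) := ⟨Nat.prime_two⟩
  have hw := s1906g8_core P h (fun B hB hB2 hBab => unique_X0 h h2 B hB hB2 hBab)
  have key : ∀ (k : ℕ) (g₀ : G), g₀⁻¹ * y ^ k * g₀ ∈ X0 → g₀⁻¹ * y ^ k * g₀ = y ^ k := by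
    intro k g₀ hmem
    obtain ⟨n, hn, hn2⟩ := control P h hw (y ^ k) (X0.pow_mem hy k) g₀⁻¹ (by simpa using hmem)
    rw [inv_inv] at hn2
    rw [← hn2, ← conj_pow, hfix n hn]
  have h1 := MonoidHom.transfer_eq_pow (H := X0) (MonoidHom.id ↥X0) y key
  have hQ : IsPGroup 2 ↥X0 := P.isPGroup'.to_le h.le
  rw [hom_two_trivial hG hQ (MonoidHom.transfer (MonoidHom.id ↥X0)) y] at h1
  have h3 : y ^ X0.index = 1 := by
    have := congrArg Subtype.val h1
    simpa using this.symm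
  have h4 : X0.index = 2 * (P : Subgroup G).index := by
    rw [← Subgroup.relIndex_mul_index h.le, h.idx]
  have h5 : ¬ 2 ∣ (P : Subgroup G).index := P.not_dvd_index
  have h6 : (y * y) ^ (P : Subgroup G).index = 1 := by
    rw [← pow_two, ← pow_mul, ← h4, h3]
  have h7 : orderOf (y * y) ∣ (P : Subgroup G).index := orderOf_dvd_of_pow_eq_one h6
  have hyyP : y * y ∈ (P : Subgroup G) := h.le (X0.mul_mem hy hy)
  obtain ⟨j, hj⟩ := (IsPGroup.iff_orderOf.1 P.isPGroup') ⟨y * y, hyyP⟩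
  rw [Subgroup.orderOf_mk] at hj
  rcases Nat.eq_zero_or_pos j with h0 | h0
  · rw [h0, pow_zero, orderOf_eq_one_iff] at hj
    exact hj
  · exfalso
    apply h5
    rw [hj] at h7
    exact (dvd_pow_self 2 (by omega)).trans h7

end Cfsg.Agent.Lib.Helper5.S1906
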