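import Mathlib
import Cfsg.Agent.Lib.Helper5.S1906.Defs

set_option autoImplicit false

namespace Cfsg.Agent.Lib.Helper5.S1906

variable {G : Type*} [Group G] [Finite G] (P : Sylow 2 G) {X0 : Subgroup G} {c z : G}

/-- G11 -/
theorem range_two_sub (h : Ctx (P : Subgroup G) X0 c z) (S : Subgroup (MulAut X0))
    (hS : S ≤ X0.normalizerMonoidHom.range) (hS2 : IsPGroup 2 S) : Nat.card S ≤ 2 := by
  classical
  have : Fact (Nat.Prime 2) := ⟨Nat.prime_two⟩
  set N : Subgroup G := Subgroup.normalizer (X0 : Set G) with hN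
  set φ := X0.normalizerMonoidHom with hφ
  have hX0N : X0 ≤ N := Subgroup.le_normalizer
  -- |S| divides |range φ|
  have h1 : Nat.card S ∣ Nat.card φ.range := Subgroup.card_dvd_of_le hS
  -- |range φ| * |ker φ| = |N|
  have h2 : Nat.card φ.ker * Nat.card φ.range = Nat.card N := by
    rw [← Subgroup.index_ker, Subgroup.card_mul_index]
  -- |X0| divides |ker φ|
  have h3 : Nat.card X0 ∣ Nat.card φ.ker := by
    have hle : X0.subgroupOf N ≤ φ.ker := by
      rw [hφ, Subgroup.normalizerMonoidHom_ker]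
      intro a ha
      rw [Subgroup.mem_subgroupOf] at ha ⊢
      rw [Subgroup.mem_centralizer_iff]
      intro b hb
      exact h.ab b hb _ ha
    have := Subgroup.card_dvd_of_le hle
    rwa [Nat.card_congr (Subgroup.subgroupOfEquivOfLe hX0N).toEquiv] at this
  have h4 : Nat.card S * Nat.card X0 ∣ Nat.card G := by
    have : Nat.card S * Nat.card X0 ∣ Nat.card N := by
      rw [← h2, mul_comm (Nat.card φ.ker)]
      exact Nat.mul_dvd_mul h1 h3
    exact this.trans (Subgroup.card_subgroup_dvd_card N)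
  -- cards as powers of 2
  obtain ⟨s, hs⟩ := (IsPGroup.iff_card (p := 2)).1 hS2
  obtain ⟨a, ha⟩ := (IsPGroup.iff_card (p := 2)).1 (P.isPGroup'.to_le h.le)
  have h5 : Nat.card (P : Subgroup G) = 2 * Nat.card X0 := by
    have := Subgroup.card_mul_index (X0.subgroupOf (P : Subgroup G))
    rw [Nat.card_congr (Subgroup.subgroupOfEquivOfLe h.le).toEquiv] at this
    have h6 : (X0.subgroupOf (P : Subgroup G)).index = 2 := h.idx
    rw [h6] at this
    omega
  have h7 : Nat.card (P : Subgroup G) = 2 ^ (Nat.card G).factorization 2 :=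
    P.card_eq_multiplicity
  rw [hs, ha, ← pow_add] at h4
  have h8 : s + a ≤ (Nat.card G).factorization 2 :=
    (Nat.prime_two.pow_dvd_iff_le_factorization Nat.card_pos.ne').1 h4
  rw [h7, ha, ← pow_succ'] at h5
  have h9 : (Nat.card G).factorization 2 = a + 1 := Nat.pow_right_injective (le_refl 2) h5
  have hs1 : s ≤ 1 := by omega
  rw [hs]
  calc 2 ^ s ≤ 2 ^ 1 := Nat.pow_le_pow_right (by norm_num) hs1
    _ = 2 := by norm_num

end Cfsg.Agent.Lib.Helper5.S1906
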