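import Mathlib
import Cfsg.Agent.Lib.Helper5.S1906.Defs
import Cfsg.Agent.Lib.helper15.S1906U2
import Cfsg.Agent.Lib.Helper24.S1906U3
import Cfsg.Agent.Lib.helper17.S1906U4
import Cfsg.Agent.Lib.Helper24.S1906U5
import Cfsg.Agent.Lib.helper17.S1906U6
import Cfsg.Agent.Lib.Helper10.S1906U7
import Cfsg.Agent.Lib.Helper24.S1906U8

set_option autoImplicit false

namespace Cfsg.Agent.Lib.Helper5.S1906

variable {A : Type*} [CommGroup A] [Finite A] {σ : MulAut A} {c z : A}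

/-- U9 -/
theorem aut_main (hA : IsPGroup 2 A) (h : ACtx σ c z) (hrk : Nat.card (Om1 A) ≤ 8)
    (𝔄 : Subgroup (MulAut A)) (hσ : σ ∈ 𝔄)
    (h2 : ∀ S : Subgroup (MulAut A), S ≤ 𝔄 → IsPGroup 2 S → Nat.card S ≤ 2) :
    (∀ α ∈ 𝔄, α = 1 ∨ α = σ) ∨
    (∃ C0 D : Subgroup A, (∀ α ∈ 𝔄, ∀ a ∈ C0, α a = a) ∧ (∀ α ∈ 𝔄, ∀ a ∈ D, α a ∈ D) ∧
      (∀ a : A, ∃ x ∈ C0, ∃ y ∈ D, a = x * y) ∧ ∃ e ∈ C0, e ≠ 1 ∧ e ∉ D) := by
  classical
  have hσinv : σ⁻¹ = σ := inv_eq_of_mul_eq_one_right h.s2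
  have hσσ : ∀ a : A, σ (σ a) = a := fun a => by
    have := congrArg (fun f : MulAut A => f a) h.s2
    simpa using this
  -- σ ≠ 1
  have hσ1 : σ ≠ 1 := by
    intro h1
    obtain ⟨a, ha⟩ := h.cD
    rw [dl_apply, h1] at ha
    apply h.c1
    rw [← ha]
    simp
  -- the odd complement
  set s : ↥𝔄 := ⟨σ, hσ⟩ with hs_def
  have hs : s * s = 1 := Subtype.ext h.s2
  have hs1 : s ≠ 1 := fun h1 => hσ1 (congrArg Subtype.val h1)
  have h2K : ∀ S : Subgroup ↥𝔄, IsPGroup 2 S → Nat.card S ≤ 2 := by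
    intro S hS
    have h3 := h2 (S.map 𝔄.subtype) (Subgroup.map_subtype_le S) (hS.map 𝔄.subtype)
    rwa [← Nat.card_congr (S.equivMapOfInjective 𝔄.subtype 𝔄.subtype_injective).toEquiv] at h3
  obtain ⟨O', hO'n, hO'odd, hO'cov⟩ := exists_odd_compl s hs hs1 h2K
  have := hO'n
  set O : Subgroup (MulAut A) := O'.map 𝔄.subtype with hO_def
  have hO_le : O ≤ 𝔄 := Subgroup.map_subtype_le O'
  have hO_odd : Odd (Nat.card O) := by
    rwa [← Nat.card_congr (O'.equivMapOfInjective 𝔄.subtype 𝔄.subtype_injective).toEquiv]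
  have hmemO : ∀ (β : MulAut A) (hβ : β ∈ 𝔄), β ∈ O ↔ (⟨β, hβ⟩ : ↥𝔄) ∈ O' := by
    intro β hβ
    constructor
    · rintro ⟨k, hk, rfl⟩
      exact hk
    · intro hk
      exact ⟨⟨β, hβ⟩, hk, rfl⟩
  have hO_norm : ∀ α ∈ 𝔄, ∀ β ∈ O, α * β * α⁻¹ ∈ O := by
    intro α hα β hβ
    have hβ𝔄 := hO_le hβ
    rw [hmemO _ (𝔄.mul_mem (𝔄.mul_mem hα hβ𝔄) (𝔄.inv_mem hα))]
    have := hO'n.conj_mem ⟨β, hβ𝔄⟩ ((hmemO β hβ𝔄).1 hβ) ⟨α, hα⟩
    exact this
  have hO_cov : ∀ α ∈ 𝔄, α ∈ O ∨ σ * α ∈ O := by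
    intro α hα
    rcases hO'cov ⟨α, hα⟩ with h1 | h1
    · exact Or.inl ((hmemO α hα).2 h1)
    · exact Or.inr ((hmemO (σ * α) (𝔄.mul_mem hσ hα)).2 h1)
  have hO_ord : ∀ β ∈ O, Odd (orderOf β) := fun β hβ =>
    hO_odd.of_dvd_nat (Subgroup.orderOf_dvd_natCard O hβ)
  -- conjugation by σ is fixed-point-free on O
  have hfpf : ∀ β ∈ O, σ * β * σ⁻¹ = β → β = 1 := by
    intro β hβ hfix
    apply fix_trivial hA h hrk β (hO_ord β hβ)
    have := congrArg (· * σ) hfix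
    simp only [inv_mul_cancel_right] at this
    exact this.symm
  -- hence σ inverts O
  have hinv : ∀ β ∈ O, σ * β * σ = β⁻¹ := by
    intro β hβ
    have hβ𝔄 := hO_le hβ
    have hτ : (MulAut.conjNormal s : MulAut ↥O') * MulAut.conjNormal s = 1 := by
      rw [← map_mul, hs, map_one]
    have hfix : ∀ k : ↥O', (MulAut.conjNormal s : MulAut ↥O') k = k → k = 1 := by
      intro k hk
      have h1 : s * (k : ↥𝔄) * s⁻¹ = (k : ↥𝔄) := by
        rw [← MulAut.conjNormal_apply, hk]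
      have h2 : σ * ((k : ↥𝔄) : MulAut A) * σ⁻¹ = ((k : ↥𝔄) : MulAut A) :=
        congrArg Subtype.val h1
      have h3 := hfpf _ ((hmemO _ (k : ↥𝔄).2).2 k.2) h2
      apply Subtype.ext
      apply Subtype.ext
      exact h3
    have h4 := inverted (MulAut.conjNormal s : MulAut ↥O') hτ hfix
      ⟨⟨β, hβ𝔄⟩, (hmemO β hβ𝔄).1 hβ⟩
    have h5 := congrArg (fun k : ↥O' => ((k : ↥𝔄) : MulAut A)) h4
    simp only [MulAut.conjNormal_apply] at h5
    have h6 : σ * β * σ⁻¹ = β⁻¹ := h5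
    rwa [hσinv] at h6
  have hcomm : ∀ α ∈ O, ∀ β ∈ O, α * β = β * α := by
    intro α hα β hβ
    have h1 := hinv (α * β) (O.mul_mem hα hβ)
    have h2 : σ * (α * β) * σ = (σ * α * σ) * (σ * β * σ) := by
      have : σ * α * σ * (σ * β * σ) = σ * α * (σ * σ) * β * σ := by group
      rw [this, h.s2]
      group
    rw [h2, hinv α hα, hinv β hβ, mul_inv_rev] at h1
    have h3 := congrArg (·⁻¹) h1
    simp only [mul_inv_rev, inv_inv] at h3
    exact h3.symm
  -- if O is trivial we are in the first alternative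
  have hfirst : (∀ β ∈ O, β = 1) → ∀ α ∈ 𝔄, α = 1 ∨ α = σ := by
    intro hO1 α hα
    rcases hO_cov α hα with h1 | h1
    · exact Or.inl (hO1 α h1)
    · right
      have := hO1 _ h1
      have h3 : α = σ⁻¹ := eq_inv_of_mul_eq_one_right this
      rwa [hσinv] at h3
  by_cases hO1 : ∀ β ∈ O, β = 1
  · exact Or.inl (hfirst hO1)
  by_cases hrk4 : Nat.card (Om1 A) ≤ 4
  · exact Or.inl (hfirst fun β hβ => rank2_trivial hA h hrk4 β (hO_ord β hβ) (hinv β hβ))
  right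
  -- rank 3
  have hrk8 : Nat.card (Om1 A) = 8 := by
    have : Fact (Nat.Prime 2) := ⟨Nat.prime_two⟩
    obtain ⟨n, hn⟩ := (IsPGroup.iff_card (p := 2) (G := Om1 A)).1 (hA.to_subgroup _)
    rw [hn] at hrk hrk4 ⊢
    have hn3 : n ≤ 3 := by
      by_contra hcon
      have : 2 ^ 4 ≤ 2 ^ n := Nat.pow_le_pow_right (by norm_num) (by omega)
      omega
    have hn2 : 3 ≤ n := by
      by_contra hcon
      have : 2 ^ n ≤ 2 ^ 2 := Nat.pow_le_pow_right (by norm_num) (by omega)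
      omega
    have hn' : n = 3 := le_antisymm hn3 hn2
    rw [hn']
    norm_num
  push Not at hO1
  obtain ⟨β₀, hβ₀, hβ₀1⟩ := hO1
  obtain ⟨v, hv1, hv2, hβ₀v, hvuniq⟩ :=
    rank3_fix hA h hrk8 β₀ (hO_ord β₀ hβ₀) hβ₀1 (hinv β₀ hβ₀)
  have hvfix : ∀ β ∈ O, β v = v := by
    intro β hβ
    have h1 : β₀ (β v) = β v := by
      have := congrArg (fun f : MulAut A => f v) (hcomm β₀ hβ₀ β hβ)
      simp only [MulAut.mul_apply] at this
      rw [this, hβ₀v]
    have h2 : β v * β v = 1 := by rw [← map_mul, hv2, map_one]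
    rcases hvuniq (β v) h2 h1 with h3 | h3
    · exfalso
      apply hv1
      have := congrArg β.symm h3
      simpa using this
    · exact h3
  obtain ⟨hdisj, hprod⟩ := coprime_decomp hA O hO_odd
  have hC0inv : ∀ α ∈ 𝔄, ∀ a ∈ FixO O, α a ∈ FixO O := by
    intro α hα a ha β hβ
    have h1 := hO_norm α⁻¹ (𝔄.inv_mem hα) β hβ
    rw [inv_inv] at h1
    have h2 := ha _ h1
    simp only [MulAut.mul_apply] at h2
    have h3 := congrArg α h2
    simpa using h3
  have hDinv : ∀ α ∈ 𝔄, ∀ a ∈ CommO O, α a ∈ CommO O := by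
    intro α hα a ha
    unfold CommO at ha
    induction ha using Subgroup.closure_induction with
    | mem x hx =>
      obtain ⟨β, hβ, a, rfl⟩ := hx
      have h1 := mem_CommO O _ (hO_norm α hα β hβ) (α a)
      simpa [MulAut.mul_apply] using h1
    | one => rw [map_one]; exact Subgroup.one_mem _
    | mul x y _ _ hx hy => rw [map_mul]; exact Subgroup.mul_mem _ hx hy
    | inv x _ hx => rw [map_inv]; exact Subgroup.inv_mem _ hx
  have hσC0 : ∀ a ∈ FixO O, σ a = a := by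
    rcases sigma_dichotomy hA h (FixO O) (CommO O) (hC0inv σ hσ) (hDinv σ hσ) hdisj with h1 | h1
    · exact h1
    · exfalso
      apply hβ₀1
      -- β₀ * β₀ = 1
      have hsq : ∀ a : A, β₀ (β₀ a) = a := by
        intro a
        obtain ⟨x, hx, y, hy, rfl⟩ := hprod a
        have hx' : β₀ x = x := hx β₀ hβ₀
        have hy1 : β₀ y ∈ CommO O := hDinv β₀ (hO_le hβ₀) y hy
        have hy2 : β₀ (β₀ y) = y := by
          have h3 := congrArg (fun f : MulAut A => f y) (hinv β₀ hβ₀)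
          simp only [MulAut.mul_apply] at h3
          rw [h1 y hy, h1 _ hy1] at h3
          have h4 := congrArg β₀ h3
          simpa using h4
        rw [map_mul, map_mul, hx', hx', hy2]
      have h3 : β₀ ^ 2 = 1 := by
        ext a
        rw [pow_two, MulAut.mul_apply, hsq, MulAut.one_apply]
      have h4 : orderOf β₀ ∣ 2 := orderOf_dvd_of_pow_eq_one h3
      have h5 := hO_ord β₀ hβ₀
      have h6 : orderOf β₀ = 1 := by
        rcases (Nat.dvd_prime Nat.prime_two).1 h4 with h7 | h7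
        · exact h7
        · rw [h7] at h5; exact absurd h5 (by decide)
      exact orderOf_eq_one_iff.1 h6
  refine ⟨FixO O, CommO O, ?_, hDinv, hprod, v, hvfix, hv1, ?_⟩
  · intro α hα a ha
    rcases hO_cov α hα with h1 | h1
    · exact ha α h1
    · have h3 := ha _ h1
      rw [MulAut.mul_apply] at h3
      have h4 := congrArg σ h3
      rw [hσσ, hσC0 a ha] at h4
      exact h4
  · intro hvD
    apply hv1
    have : v ∈ FixO O ⊓ CommO O := ⟨hvfix, hvD⟩
    rw [hdisj] at this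
    exact Subgroup.mem_bot.1 this

end Cfsg.Agent.Lib.Helper5.S1906
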