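import Mathlib
import Cfsg.Agent.Lib.Helper5.S1906.Defs
import Cfsg.Agent.Lib.Helper26.S1906P1
import Cfsg.Agent.Lib.Helper26.S1906P2
import Cfsg.Agent.Lib.Helper24.S1906P3core
import Cfsg.Agent.Lib.Helper10.S1906P4
import Cfsg.Agent.Lib.Helper5.S1906G11
import Cfsg.Agent.Lib.Helper5.S1906U9

set_option autoImplicit false

namespace Cfsg.Agent.Lib.Helper5.S1906

open scoped IsMulCommutative

variable {G : Type*} [Group G] [Finite G] (P : Sylow 2 G) {X0 : Subgroup G} {c z : G}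

/-- G12 -/
theorem aut_dichotomy (h : Ctx (P : Subgroup G) X0 c z) :
    (∀ n ∈ Subgroup.normalizer (X0 : Set G), ∀ ζ ∈ X0, Cen (P : Subgroup G) ζ → n * ζ * n⁻¹ = ζ) ∨
    (∃ C0 D : Subgroup G, C0 ≤ X0 ∧ D ≤ X0 ∧ (∀ a ∈ X0, ∃ x ∈ C0, ∃ y ∈ D, a = x * y) ∧
      (∀ n ∈ Subgroup.normalizer (X0 : Set G), ∀ x ∈ C0, n * x * n⁻¹ = x) ∧
      (∀ n ∈ Subgroup.normalizer (X0 : Set G), ∀ y ∈ D, n * y * n⁻¹ ∈ D) ∧
      ∃ e ∈ C0, e ≠ 1 ∧ e ∉ D) := by
  classical
  have : IsMulCommutative X0 := ⟨⟨fun a b => Subtype.ext (h.ab a a.2 b b.2)⟩⟩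
  -- an element outside X0
  have hex : ∃ t ∈ (P : Subgroup G), t ∉ X0 := by
    by_contra hcon
    push Not at hcon
    have h1 : X0.relIndex (P : Subgroup G) = 1 := Subgroup.relIndex_eq_one.2 hcon
    rw [h.idx] at h1
    exact absurd h1 (by norm_num)
  obtain ⟨t, htX, ht0⟩ := hex
  have ht : t ∈ Subgroup.normalizer (X0 : Set G) := le_normalizer h htX
  obtain ⟨hc, hz⟩ := cz_mem h
  have hact := s1906p3_core h t htX ht0 hc hz ht (comm_eq_range h t htX ht0 ht)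
  have hA : IsPGroup 2 ↥X0 := P.isPGroup'.to_le h.le
  have hrk : Nat.card (Om1 ↥X0) ≤ 8 := by
    have h1 := h.rk ((Om1 ↥X0).map X0.subtype) ((Subgroup.map_subtype_le _).trans h.le) (by
      rintro a ⟨b, hb, rfl⟩
      have := (mem_Om1 b).1 hb
      have h2 := congrArg Subtype.val this
      simpa using h2)
    rwa [← Nat.card_congr ((Om1 ↥X0).equivMapOfInjective X0.subtype X0.subtype_injective).toEquiv]
      at h1
  have hσ : X0.normalizerMonoidHom ⟨t, ht⟩ ∈ X0.normalizerMonoidHom.range := ⟨⟨t, ht⟩, rfl⟩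
  rcases aut_main hA hact hrk X0.normalizerMonoidHom.range hσ
    (fun S hS hS2 => range_two_sub P h S hS hS2) with h1 | ⟨C0, D, hC0, hD, hprod, e, he, he1, heD⟩
  · left
    intro n hn ζ hζ hcen
    have h2 : X0.normalizerMonoidHom ⟨n, hn⟩ ⟨ζ, hζ⟩ = ⟨ζ, hζ⟩ := by
      rcases h1 _ ⟨⟨n, hn⟩, rfl⟩ with h3 | h3
      · rw [h3]; rfl
      · rw [h3]
        apply Subtype.ext
        rw [Subgroup.normalizerMonoidHom_apply_apply_coe]
        simp only []
        rw [hcen t htX, mul_inv_cancel_right]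
    have h4 := congrArg Subtype.val h2
    rw [Subgroup.normalizerMonoidHom_apply_apply_coe] at h4
    exact h4
  · right
    refine ⟨C0.map X0.subtype, D.map X0.subtype, Subgroup.map_subtype_le _,
      Subgroup.map_subtype_le _, ?_, ?_, ?_, ?_⟩
    · intro a ha
      obtain ⟨x, hx, y, hy, hxy⟩ := hprod ⟨a, ha⟩
      refine ⟨x, ⟨x, hx, rfl⟩, y, ⟨y, hy, rfl⟩, ?_⟩
      have := congrArg Subtype.val hxy
      simpa using this
    · rintro n hn _ ⟨x, hx, rfl⟩
      have h2 := hC0 _ ⟨⟨n, hn⟩, rfl⟩ x hx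
      have h4 := congrArg Subtype.val h2
      rw [Subgroup.normalizerMonoidHom_apply_apply_coe] at h4
      exact h4
    · rintro n hn _ ⟨y, hy, rfl⟩
      have h2 := hD _ ⟨⟨n, hn⟩, rfl⟩ y hy
      refine ⟨_, h2, ?_⟩
      rw [Subgroup.coe_subtype, Subgroup.normalizerMonoidHom_apply_apply_coe]
    · refine ⟨e, ⟨e, he, rfl⟩, ?_, ?_⟩
      · intro h2
        apply he1
        apply Subtype.ext
        simpa using h2
      · rintro ⟨y, hy, hye⟩
        apply heD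
        have : y = e := Subtype.ext (by simpa using hye)
        rwa [← this]

end Cfsg.Agent.Lib.Helper5.S1906
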