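import Mathlib
import Cfsg.Agent.Lib.Helper5.S1906.Defs
import Cfsg.Agent.Lib.Helper26.S1906P2
import Cfsg.Agent.Lib.Helper26.S1906P5
import Cfsg.Agent.Lib.helper15.S1906G2
import Cfsg.Agent.Lib.Helper1.S1906G3
import Cfsg.Agent.Lib.Helper26.S1906G4

set_option autoImplicit false

namespace Cfsg.Agent.Lib.Helper5.S1906

open scoped commutatorElement

variable {G : Type*} [Group G] [Finite G] (hG : ∀ H : Subgroup G, H.index ≠ 2) (P : Sylow 2 G)
  {X0 : Subgroup G} {c z : G}

/-- the elements whose square lies in the commutator subgroup -/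
def s1906g13_M (X : Subgroup G) : Subgroup G where
  carrier := {p | p ∈ X ∧ p * p ∈ ⁅X, X⁆}
  one_mem' := ⟨X.one_mem, by rw [mul_one]; exact Subgroup.one_mem _⟩
  mul_mem' := by
    rintro p q ⟨hp, hp2⟩ ⟨hq, hq2⟩
    refine ⟨X.mul_mem hp hq, ?_⟩
    have h1 : p * q * (p * q) = p * p * ⁅p⁻¹, q⁆ * (q * q) := by
      rw [commutatorElement_def]; group
    rw [h1]
    exact Subgroup.mul_mem _ (Subgroup.mul_mem _ hp2
      (Subgroup.commutator_mem_commutator (X.inv_mem hp) hq)) hq2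
  inv_mem' := by
    rintro p ⟨hp, hp2⟩
    refine ⟨X.inv_mem hp, ?_⟩
    have h1 : p⁻¹ * p⁻¹ = (p * p)⁻¹ := by group
    rw [h1]
    exact Subgroup.inv_mem _ hp2

include hG in
/-- G13 -/
theorem case_XC_rank2 (h : Ctx (P : Subgroup G) X0 c z)
    (hZ : ∀ ζ ∈ X0, Cen (P : Subgroup G) ζ → ζ * ζ = 1)
    (hall : ∀ e ∈ X0, e * e = 1 → Cen (P : Subgroup G) e) : False := by
  classical
  have hnorm := le_normalizer h
  have hconj : ∀ p ∈ (P : Subgroup G), ∀ a ∈ X0, p * a * p⁻¹ ∈ X0 := fun p hp a ha =>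
    ((Subgroup.mem_normalizer_iff.1 (hnorm hp)) a).1 ha
  have hidx2 : ∀ a ∈ (P : Subgroup G), ∀ b ∈ (P : Subgroup G),
      (a * b ∈ X0 ↔ (a ∈ X0 ↔ b ∈ X0)) := by
    intro a ha b hb
    have := Subgroup.mul_mem_iff_of_index_two (H := X0.subgroupOf (P : Subgroup G)) h.idx
      (a := ⟨a, ha⟩) (b := ⟨b, hb⟩)
    simpa [Subgroup.mem_subgroupOf] using this
  have hV : ∀ ζ ∈ X0, Cen (P : Subgroup G) ζ → ζ = 1 ∨ ζ = c ∨ ζ = z ∨ ζ = c * z :=
    fun ζ hζ hcen => h.invZ ζ (h.le hζ) hcen (hZ ζ hζ hcen)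
  have hcomm_le : ⁅(P : Subgroup G), (P : Subgroup G)⁆ ≤ (P : Subgroup G) :=
    Subgroup.commutator_le.2 fun a ha b hb =>
      Subgroup.mul_mem _ (Subgroup.mul_mem _ (Subgroup.mul_mem _ ha hb) (Subgroup.inv_mem _ ha))
        (Subgroup.inv_mem _ hb)
  -- z and c * z are not in the commutator subgroup
  have hzD : z ∉ ⁅(P : Subgroup G), (P : Subgroup G)⁆ := by
    intro hz
    rcases h.invD z hz h.z2 with h1 | h1
    · exact h.z1 h1
    · exact h.cz h1.symm
  have hcz2 : c * z * (c * z) = 1 := by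
    have := h.cC z h.zX
    calc c * z * (c * z) = c * (z * c) * z := by group
      _ = c * (c * z) * z := by rw [this]
      _ = (c * c) * (z * z) := by group
      _ = 1 := by rw [h.c2, h.z2, one_mul]
  have hczD : c * z ∉ ⁅(P : Subgroup G), (P : Subgroup G)⁆ := by
    intro hz
    rcases h.invD (c * z) hz hcz2 with h1 | h1
    · apply h.cz
      have : c = z⁻¹ := eq_inv_of_mul_eq_one_left h1
      rw [this]
      exact inv_eq_of_mul_eq_one_left h.z2
    · apply h.z1
      have : c * z = c * 1 := by rw [mul_one]; exact h1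
      exact mul_left_cancel this
  -- the involution d outside X0
  obtain ⟨E, hEX, hE2, hE8⟩ := h.hasE
  have hd : ∃ d ∈ E, d ∉ X0 := by
    by_contra hcon
    push Not at hcon
    have hsub : (E : Set G) ⊆ {1, c, z, c * z} := by
      intro a ha
      have := hV a (hcon a ha) (hall a (hcon a ha) (hE2 a ha))
      simpa using this
    have h4 : Nat.card E ≤ 4 := by
      rw [← SetLike.coe_sort_coe, Nat.card_coe_set_eq]
      refine (Set.ncard_le_ncard hsub (Set.toFinite _)).trans ?_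
      refine (Set.ncard_insert_le _ _).trans ?_
      refine (Nat.add_le_add_right (Set.ncard_insert_le _ _) 1).trans ?_
      refine (Nat.add_le_add_right (Nat.add_le_add_right (Set.ncard_insert_le _ _) 1) 1).trans ?_
      rw [Set.ncard_singleton]
    omega
  obtain ⟨d, hdE, hd0⟩ := hd
  have hdX : d ∈ (P : Subgroup G) := hEX hdE
  have hd2 : d * d = 1 := hE2 d hdE
  have hdinv : d⁻¹ = d := inv_eq_of_mul_eq_one_left hd2
  -- ν and δ
  have hν : ∀ r ∈ X0, r * (d * r * d⁻¹) = 1 ∨ r * (d * r * d⁻¹) = c ∨ r * (d * r * d⁻¹) = z ∨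
      r * (d * r * d⁻¹) = c * z := by
    intro r hr
    have hr' : d * r * d⁻¹ ∈ X0 := hconj d hdX r hr
    have hν0 : r * (d * r * d⁻¹) ∈ X0 := X0.mul_mem hr hr'
    apply hV _ hν0
    -- central
    have hd_comm : d * (r * (d * r * d⁻¹)) = r * (d * r * d⁻¹) * d := by
      have h1 : d * (r * (d * r * d⁻¹)) = (d * r * d⁻¹) * (d * (d * r * d⁻¹) * d⁻¹) * d := by group
      have h2 : d * (d * r * d⁻¹) * d⁻¹ = r := by
        rw [hdinv]
        calc d * (d * r * d) * d = (d * d) * r * (d * d) := by group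
          _ = r := by rw [hd2, one_mul, mul_one]
      rw [h1, h2, h.ab _ hr' _ hr]
    intro p hp
    by_cases hp0 : p ∈ X0
    · exact h.ab p hp0 _ hν0
    · have hq : p * d ∈ X0 := (hidx2 p hp d hdX).2 (by simp [hp0, hd0])
      have hp' : p = (p * d) * d := by rw [mul_assoc, hd2, mul_one]
      generalize p * d = q at hq hp'
      rw [hp']
      calc q * d * (r * (d * r * d⁻¹)) = q * (d * (r * (d * r * d⁻¹))) := by group
        _ = q * (r * (d * r * d⁻¹) * d) := by rw [hd_comm]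
        _ = (q * (r * (d * r * d⁻¹))) * d := by group
        _ = (r * (d * r * d⁻¹) * q) * d := by rw [h.ab _ hq _ hν0]
        _ = r * (d * r * d⁻¹) * (q * d) := by group
  have hδ : ∀ r ∈ X0, r⁻¹ * (d * r * d⁻¹) ∈ ⁅(P : Subgroup G), (P : Subgroup G)⁆ := by
    intro r hr
    have : r⁻¹ * (d * r * d⁻¹) = ⁅r⁻¹, d⁆ := by rw [commutatorElement_def]; group
    rw [this]
    exact Subgroup.commutator_mem_commutator (Subgroup.inv_mem _ (h.le hr)) hdX
  have hsq0 : ∀ r ∈ X0, r * r = r * (d * r * d⁻¹) * (r⁻¹ * (d * r * d⁻¹))⁻¹ := by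
    intro r hr
    group
  have hsq1 : ∀ r : G, (r * d) * (r * d) = r * (d * r * d⁻¹) := by
    intro r
    rw [hdinv]
    group
  have hcD := h.cD
  -- (K) every square is in P' or in z P'
  have hK : ∀ p ∈ (P : Subgroup G), p * p ∈ ⁅(P : Subgroup G), (P : Subgroup G)⁆ ∨
      z * (p * p) ∈ ⁅(P : Subgroup G), (P : Subgroup G)⁆ := by
    have hzc : z * (c * z) = c := by
      rw [← mul_assoc, h.cC z h.zX, mul_assoc, h.z2, mul_one]
    intro p hp
    have key : ∀ r ∈ X0, ∀ w ∈ ⁅(P : Subgroup G), (P : Subgroup G)⁆,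
        r * (d * r * d⁻¹) * w ∈ ⁅(P : Subgroup G), (P : Subgroup G)⁆ ∨
        z * (r * (d * r * d⁻¹) * w) ∈ ⁅(P : Subgroup G), (P : Subgroup G)⁆ := by
      intro r hr w hw
      rcases hν r hr with h1 | h1 | h1 | h1
      · left; rw [h1, one_mul]; exact hw
      · left; rw [h1]; exact Subgroup.mul_mem _ hcD hw
      · right; rw [h1, ← mul_assoc, h.z2, one_mul]; exact hw
      · right; rw [h1, ← mul_assoc, hzc]; exact Subgroup.mul_mem _ hcD hw
    by_cases hp0 : p ∈ X0
    · rw [hsq0 p hp0]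
      exact key p hp0 _ (Subgroup.inv_mem _ (hδ p hp0))
    · have hq : p * d ∈ X0 := (hidx2 p hp d hdX).2 (by simp [hp0, hd0])
      have hp' : p = (p * d) * d := by rw [mul_assoc, hd2, mul_one]
      have := key (p * d) hq 1 (Subgroup.one_mem _)
      rw [mul_one, ← hsq1, ← hp'] at this
      exact this
  -- some ν x₀ is z or c z
  have hx0 : ∃ r ∈ X0, r * (d * r * d⁻¹) = z ∨ r * (d * r * d⁻¹) = c * z := by
    by_contra hcon
    push Not at hcon
    have hνc : ∀ r ∈ X0, r * (d * r * d⁻¹) ∈ ⁅(P : Subgroup G), (P : Subgroup G)⁆ := by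
      intro r hr
      rcases hν r hr with h1 | h1 | h1 | h1
      · rw [h1]; exact Subgroup.one_mem _
      · rw [h1]; exact hcD
      · exact absurd h1 (hcon r hr).1
      · exact absurd h1 (hcon r hr).2
    have hall2 : ∀ p ∈ (P : Subgroup G), p * p ∈ ⁅(P : Subgroup G), (P : Subgroup G)⁆ := by
      intro p hp
      by_cases hp0 : p ∈ X0
      · rw [hsq0 p hp0]
        exact Subgroup.mul_mem _ (hνc p hp0) (Subgroup.inv_mem _ (hδ p hp0))
      · have hq : p * d ∈ X0 := (hidx2 p hp d hdX).2 (by simp [hp0, hd0])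
        have hp' : p = (p * d) * d := by rw [mul_assoc, hd2, mul_one]
        have := hνc (p * d) hq
        rw [← hsq1, ← hp'] at this
        exact this
    obtain ⟨M, hM, hM2, hNM, hzM⟩ := sep (P : Subgroup G) _ hcomm_le hall2 z h.zX hzD
    exact hzM (mem_of_relIndex_two hG P h M hM hM2).2
  obtain ⟨x₀, hx₀, hω⟩ := hx0
  set ω := x₀ * (d * x₀ * d⁻¹) with hω_def
  set u := x₀ * d with hu_def
  have hu2 : u * u = ω := hsq1 x₀
  have huX : u ∈ (P : Subgroup G) := Subgroup.mul_mem _ (h.le hx₀) hdX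
  have hω2 : ω * ω = 1 := by
    rcases hω with h1 | h1
    · rw [h1]; exact h.z2
    · rw [h1]; exact hcz2
  have hωD : ω ∉ ⁅(P : Subgroup G), (P : Subgroup G)⁆ := by
    rcases hω with h1 | h1
    · rw [h1]; exact hzD
    · rw [h1]; exact hczD
  have hω1 : ω ≠ 1 := fun h1 => hωD (h1 ▸ Subgroup.one_mem _)
  have huo : orderOf u = 2 ^ 2 := by
    have : Fact (Nat.Prime 2) := ⟨Nat.prime_two⟩
    apply orderOf_eq_prime_pow (n := 1)
    · rw [pow_one, pow_two, hu2]; exact hω1
    · have : u ^ 2 ^ (1 + 1) = (u * u) * (u * u) := by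
        show u ^ 4 = _
        simp [pow_succ, mul_assoc]
      rw [this, hu2, hω2]
  -- the subgroup M
  set M := s1906g13_M (P : Subgroup G) with hM_def
  have hM_le : M ≤ (P : Subgroup G) := fun p hp => hp.1
  have huM : u ∉ M := fun hu => hωD (hu2 ▸ hu.2)
  have hM2 : M.relIndex (P : Subgroup G) = 2 := by
    rw [Subgroup.relIndex, Subgroup.index_eq_two_iff]
    refine ⟨⟨u, huX⟩, ?_⟩
    rintro ⟨b, hb⟩
    simp only [Subgroup.mem_subgroupOf, Subgroup.coe_mul]
    by_cases hbM : b ∈ M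
    · right
      refine ⟨hbM, fun hbu => huM ?_⟩
      have := M.mul_mem (M.inv_mem hbM) hbu
      rwa [inv_mul_cancel_left] at this
    · left
      refine ⟨⟨Subgroup.mul_mem _ hb huX, ?_⟩, hbM⟩
      -- (b u)² ∈ P'
      have hb2 : z * (b * b) ∈ ⁅(P : Subgroup G), (P : Subgroup G)⁆ := by
        rcases hK b hb with h1 | h1
        · exact absurd ⟨hb, h1⟩ hbM
        · exact h1
      have hu2' : z * (u * u) ∈ ⁅(P : Subgroup G), (P : Subgroup G)⁆ := by
        rcases hK u huX with h1 | h1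
        · exact absurd ⟨huX, h1⟩ huM
        · exact h1
      have hzb : z * (b * b) = b * b * z := by
        rw [← h.zC (b * b) (Subgroup.mul_mem _ hb hb)]
      have h1 : b * u * (b * u) = (z * (b * b)) * ⁅b⁻¹, u⁆ * (z * (u * u)) := by
        have hz' : ∀ y : G, y ∈ (P : Subgroup G) → y * z = z * y := fun y hy => h.zC y hy
        calc b * u * (b * u) = b * b * ⁅b⁻¹, u⁆ * (u * u) := by
              rw [commutatorElement_def]; group
          _ = b * b * ⁅b⁻¹, u⁆ * ((z * z) * (u * u)) := by rw [h.z2, one_mul]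
          _ = (b * b * ⁅b⁻¹, u⁆ * z) * (z * (u * u)) := by group
          _ = (z * (b * b * ⁅b⁻¹, u⁆)) * (z * (u * u)) := by
              rw [hz' _ (Subgroup.mul_mem _ (Subgroup.mul_mem _ hb hb)
                (hcomm_le (Subgroup.commutator_mem_commutator (Subgroup.inv_mem _ hb) huX)))]
          _ = (z * (b * b)) * ⁅b⁻¹, u⁆ * (z * (u * u)) := by group
      rw [h1]
      exact Subgroup.mul_mem _ (Subgroup.mul_mem _ hb2
        (Subgroup.commutator_mem_commutator (Subgroup.inv_mem _ hb) huX)) hu2'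
  -- Thompson transfer
  have hord : ∀ y ∈ (P : Subgroup G), y ∉ M → 2 ^ (2 - 1) < orderOf y := by
    intro y hy hyM
    have hy2 : y * y ≠ 1 := fun h1 => hyM ⟨hy, h1 ▸ Subgroup.one_mem _⟩
    have h0 : 0 < orderOf y := orderOf_pos y
    have h1 : orderOf y ≠ 1 := fun h1 => hy2 (by rw [orderOf_eq_one_iff.1 h1, one_mul])
    have h2 : orderOf y ≠ 2 := fun h2 => hy2 (by rw [← pow_two, ← h2, pow_orderOf_eq_one])
    norm_num
    omega
  obtain ⟨g, hg⟩ := t2 hG P M hM_le hM2 2 (by norm_num) u huX huo hord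
  have hy2 : g * u * g⁻¹ * (g * u * g⁻¹) = g * ω * g⁻¹ := by
    rw [← hu2]; group
  have hgω : g * ω * g⁻¹ ∈ ⁅(P : Subgroup G), (P : Subgroup G)⁆ := hy2 ▸ hg.2
  have hgω2 : g * ω * g⁻¹ * (g * ω * g⁻¹) = 1 := by
    calc g * ω * g⁻¹ * (g * ω * g⁻¹) = g * (ω * ω) * g⁻¹ := by group
      _ = 1 := by rw [hω2]; group
  have hgωc : g * ω * g⁻¹ = c := by
    rcases h.invD _ hgω hgω2 with h1 | h1
    · exfalso
      apply hω1
      have : ω = g⁻¹ * (g * ω * g⁻¹) * g := by group
      rw [this, h1]; group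
    · exact h1
  have hfin := central_conj P h ω (Or.inr hω) g (hgωc ▸ h.cX) (hgωc ▸ h.cC)
  rw [hgωc] at hfin
  exact hωD (hfin ▸ hcD)

end Cfsg.Agent.Lib.Helper5.S1906
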