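import Mathlib
import Cfsg.Agent.Lib.Helper5.S1906.Defs
import Cfsg.Agent.Lib.Helper26.S1906P2
import Cfsg.Agent.Lib.Helper26.S1906P5
import Cfsg.Agent.Lib.Helper1.S1906G3
import Cfsg.Agent.Lib.Helper26.S1906G4
import Cfsg.Agent.Lib.Helper24.S1906G8core
import Cfsg.Agent.Lib.Helper10.S1906P7
import Cfsg.Agent.Lib.Helper26.S1906G9
import Cfsg.Agent.Lib.Helper5.S1906G10

set_option autoImplicit false

namespace Cfsg.Agent.Lib.Helper5.S1906

variable {G : Type*} [Group G] [Finite G] (hG : ∀ H : Subgroup G, H.index ≠ 2) (P : Sylow 2 G)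
  {X0 : Subgroup G} {c z : G}

include hG in
/-- G14 -/
theorem case_S3 (h : Ctx (P : Subgroup G) X0 c z)
    (h2 : Nat.card (⁅(P : Subgroup G), (P : Subgroup G)⁆ : Subgroup G) ≠ 2) (C0 D : Subgroup G)
    (hC0 : C0 ≤ X0)
    (hD : D ≤ X0) (hprod : ∀ a ∈ X0, ∃ x ∈ C0, ∃ y ∈ D, a = x * y)
    (hfix : ∀ n ∈ Subgroup.normalizer (X0 : Set G), ∀ x ∈ C0, n * x * n⁻¹ = x)
    (hinv : ∀ n ∈ Subgroup.normalizer (X0 : Set G), ∀ y ∈ D, n * y * n⁻¹ ∈ D)
    (e : G) (he : e ∈ C0) (he1 : e ≠ 1) (heD : e ∉ D) : False := by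
  classical
  have hPN := le_normalizer h
  have hidx2 : ∀ a ∈ (P : Subgroup G), ∀ b ∈ (P : Subgroup G),
      (a * b ∈ X0 ↔ (a ∈ X0 ↔ b ∈ X0)) := by
    intro a ha b hb
    have := Subgroup.mul_mem_iff_of_index_two (H := X0.subgroupOf (P : Subgroup G)) h.idx
      (a := ⟨a, ha⟩) (b := ⟨b, hb⟩)
    simpa [Subgroup.mem_subgroupOf] using this
  -- C0 has exponent 2
  have hC0exp : ∀ x ∈ C0, x * x = 1 := fun x hx =>
    transfer_X0 hG P h h2 x (hC0 hx) (fun n hn => hfix n hn x hx)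
  -- squares of X0 lie in D
  have hsqX0 : ∀ a ∈ X0, a * a ∈ D := by
    intro a ha
    obtain ⟨x, hx, y, hy, rfl⟩ := hprod a ha
    have h1 : x * y * (x * y) = (x * x) * (y * y) := by
      calc x * y * (x * y) = x * (y * x) * y := by group
        _ = x * (x * y) * y := by rw [h.ab y (hD hy) x (hC0 hx)]
        _ = (x * x) * (y * y) := by group
    rw [h1, hC0exp x hx, one_mul]
    exact D.mul_mem hy hy
  -- e is a central involution
  have heP : e ∈ (P : Subgroup G) := h.le (hC0 he)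
  have hecen : Cen (P : Subgroup G) e := by
    intro p hp
    have h1 := hfix p (hPN hp) e he
    calc p * e = (p * e * p⁻¹) * p := by group
      _ = e * p := by rw [h1]
  have hecz : e = c ∨ e = z ∨ e = c * z := by
    rcases h.invZ e heP hecen (hC0exp e he) with h1 | h1
    · exact absurd h1 he1
    · exact h1
  -- some square is outside D
  have hg0 : ∃ g₀ ∈ (P : Subgroup G), g₀ * g₀ ∉ D := by
    by_contra hcon
    push Not at hcon
    obtain ⟨M, hM, hM2, hDM, heM⟩ := sep (P : Subgroup G) D (hD.trans h.le) hcon e heP heD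
    obtain ⟨hcM, hzM⟩ := mem_of_relIndex_two hG P h M hM hM2
    rcases hecz with h1 | h1 | h1
    · exact heM (h1 ▸ hcM)
    · exact heM (h1 ▸ hzM)
    · exact heM (h1 ▸ M.mul_mem hcM hzM)
  obtain ⟨g₀, hg₀P, hg₀D⟩ := hg0
  have hg₀0 : g₀ ∉ X0 := fun h1 => hg₀D (hsqX0 g₀ h1)
  -- every element outside X0 has its square outside D
  have hout : ∀ g ∈ (P : Subgroup G), g ∉ X0 → g * g ∉ D := by
    intro g hg hg0 hgD
    apply hg₀D
    have hg₀inv : g₀⁻¹ ∉ X0 := fun h1 => hg₀0 (by simpa using X0.inv_mem h1)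
    have ha : g * g₀⁻¹ ∈ X0 :=
      (hidx2 g hg g₀⁻¹ (Subgroup.inv_mem _ hg₀P)).2 (by simp [hg0, hg₀inv])
    obtain ⟨x, hx, y, hy, hxy⟩ := hprod _ ha
    have hx0 := hC0 hx
    have hy0 := hD hy
    have hy' : g₀ * y * g₀⁻¹ ∈ D := hinv g₀ (hPN hg₀P) y hy
    have hx' : g₀ * x * g₀⁻¹ = x := hfix g₀ (hPN hg₀P) x hx
    have h1 : g * g = (x * y) * (g₀ * (x * y) * g₀⁻¹) * (g₀ * g₀) := by
      rw [← hxy]; group
    have h3 : g₀ * (x * y) * g₀⁻¹ = x * (g₀ * y * g₀⁻¹) := by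
      calc g₀ * (x * y) * g₀⁻¹ = (g₀ * x * g₀⁻¹) * (g₀ * y * g₀⁻¹) := by group
        _ = x * (g₀ * y * g₀⁻¹) := by rw [hx']
    have h4 : (x * y) * (x * (g₀ * y * g₀⁻¹)) = y * (g₀ * y * g₀⁻¹) := by
      calc (x * y) * (x * (g₀ * y * g₀⁻¹)) = x * (y * x) * (g₀ * y * g₀⁻¹) := by group
        _ = x * (x * y) * (g₀ * y * g₀⁻¹) := by rw [h.ab y hy0 x hx0]
        _ = (x * x) * (y * (g₀ * y * g₀⁻¹)) := by group
        _ = y * (g₀ * y * g₀⁻¹) := by rw [hC0exp x hx, one_mul]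
    rw [h3, h4] at h1
    have h5 : g₀ * g₀ = (y * (g₀ * y * g₀⁻¹))⁻¹ * (g * g) := by rw [h1]; group
    rw [h5]
    exact D.mul_mem (D.inv_mem (D.mul_mem hy hy')) hgD
  -- an element of minimal order outside X0
  have hex : ∃ n : ℕ, ∃ g ∈ (P : Subgroup G), g ∉ X0 ∧ orderOf g = n := ⟨_, g₀, hg₀P, hg₀0, rfl⟩
  obtain ⟨u, huP, hu0, huo⟩ := Nat.find_spec hex
  have hmin : ∀ y ∈ (P : Subgroup G), y ∉ X0 → orderOf u ≤ orderOf y := by
    intro y hy hy0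
    rw [huo]
    exact Nat.find_min' hex ⟨y, hy, hy0, rfl⟩
  have : Fact (Nat.Prime 2) := ⟨Nat.prime_two⟩
  obtain ⟨k, hk⟩ := (IsPGroup.iff_orderOf.1 P.isPGroup') ⟨u, huP⟩
  rw [Subgroup.orderOf_mk] at hk
  have hk1 : 1 ≤ k := by
    rcases Nat.eq_zero_or_pos k with h0 | h0
    · exfalso
      rw [h0, pow_zero, orderOf_eq_one_iff] at hk
      exact hu0 (hk ▸ X0.one_mem)
    · exact h0
  have hord : ∀ y ∈ (P : Subgroup G), y ∉ X0 → 2 ^ (k - 1) < orderOf y := by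
    intro y hy hy0
    have h1 := hmin y hy hy0
    rw [hk] at h1
    have h3 : 2 ^ (k - 1) < 2 ^ k := Nat.pow_lt_pow_right (by norm_num) (by omega)
    omega
  obtain ⟨g, hg⟩ := t2 hG P X0 h.le h.idx k hk1 u huP hk hord
  have huu : u * u ∈ X0 := (hidx2 u huP u huP).2 Iff.rfl
  have hyy : g * (u * u) * g⁻¹ ∈ D := by
    have := hsqX0 _ hg
    have h1 : g * u * g⁻¹ * (g * u * g⁻¹) = g * (u * u) * g⁻¹ := by group
    rwa [h1] at this
  have hw := s1906g8_core P h (fun B hB hB2 hBab => unique_X0 h h2 B hB hB2 hBab)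
  obtain ⟨n, hn, hn2⟩ := control P h hw (u * u) huu g (hD hyy)
  rw [← hn2] at hyy
  have h6 := hinv n⁻¹ (Subgroup.inv_mem _ hn) _ hyy
  have h7 : n⁻¹ * (n * (u * u) * n⁻¹) * n⁻¹⁻¹ = u * u := by group
  rw [h7] at h6
  exact hout u huP hu0 h6

end Cfsg.Agent.Lib.Helper5.S1906
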