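import Mathlib
import Cfsg.Agent.Lib.Helper5.S1906.Defs
import Cfsg.Agent.Lib.Helper25.S1906L8
import Cfsg.Agent.Lib.Helper25.S1906L9
import Cfsg.Agent.Lib.Helper25.S1906L10
import Cfsg.Agent.Lib.Helper25.S1906L11
import Cfsg.Agent.Lib.helper14.S1906L12

set_option autoImplicit false

namespace Cfsg.Agent.Lib.Helper5.S1906

variable {H : Type*} [Group H] [Finite H] {F : Type*} [Field F] {φ : H →* GL (Fin 2) F × Fˣ} {c : H}

/-- L13 -/
theorem ctx_of_embedding (h : LCtx φ c) (E : Subgroup H) (hE : ∀ a ∈ E, a * a = 1)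
    (hE8 : Nat.card E = 8) : ∃ (X0 : Subgroup H) (z : H), Ctx (⊤ : Subgroup H) X0 c z := by
  obtain ⟨z, hz⟩ := exists_z h E hE hE8
  obtain ⟨X0, hidx, hab⟩ := exists_X0 h
  have hc := h.hc
  have hinj := h.inj
  have hu1 : (-1 : Fˣ) ≠ 1 := by
    intro h1
    have h2 : ((-1 : Fˣ) : F) = 1 := by rw [h1]; rfl
    rw [Units.val_neg, Units.val_one] at h2
    apply h.two
    have : (2 : F) = 1 - (-1) := by ring
    rw [this, h2]; ring
  have hm1 : (-1 : GL (Fin 2) F) ≠ 1 := by
    intro h1
    have h2 : ((-1 : GL (Fin 2) F) : Matrix (Fin 2) (Fin 2) F) 0 0 =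
        ((1 : GL (Fin 2) F) : Matrix (Fin 2) (Fin 2) F) 0 0 := by rw [h1]
    rw [Units.val_neg, Units.val_one, Matrix.neg_apply, Matrix.one_apply_eq] at h2
    apply h.two
    have : (2 : F) = 1 - (-1) := by ring
    rw [this, h2]; ring
  have hcen : ∀ (u : H) (p : GL (Fin 2) F × Fˣ), φ u = p →
      (∀ q : GL (Fin 2) F × Fˣ, q * p = p * q) → ∀ x : H, x * u = u * x := by
    intro u p hp hq x
    apply hinj
    rw [map_mul, map_mul, hp, hq]
  have hq1 : ∀ q : GL (Fin 2) F × Fˣ, q * (-1, 1) = (-1, 1) * q := by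
    intro q
    ext1
    · simp
    · simp
  have hq2 : ∀ q : GL (Fin 2) F × Fˣ, q * (1, -1) = (1, -1) * q := by
    intro q
    ext1
    · simp
    · simp
  have hcc := hcen c _ hc hq1
  have hzc := hcen z _ hz hq2
  have hc2 : c * c = 1 := by
    apply hinj
    rw [map_mul, hc, map_one]
    ext1 <;> simp
  have hz2 : z * z = 1 := by
    apply hinj
    rw [map_mul, hz, map_one]
    ext1 <;> simp
  have hc1 : c ≠ 1 := by
    intro h1
    rw [h1, map_one] at hc
    exact hm1 (congrArg Prod.fst hc).symm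
  have hz1 : z ≠ 1 := by
    intro h1
    rw [h1, map_one] at hz
    exact hu1 (congrArg Prod.snd hz).symm
  have hcz : c ≠ z := by
    intro h1
    rw [h1, hz] at hc
    exact hm1 (congrArg Prod.fst hc).symm
  refine ⟨X0, z, ?_⟩
  refine
    { le := le_top
      idx := by rw [Subgroup.relIndex_top_right, hidx]
      ab := hab
      cX := Subgroup.mem_top _
      zX := Subgroup.mem_top _
      cC := fun x _ => hcc x
      zC := fun x _ => hzc x
      c2 := hc2
      z2 := hz2
      c1 := hc1
      z1 := hz1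
      cz := hcz
      cD := by rw [← commutator_def]; exact h.cD
      invD := fun w hw hw2 => inv_comm h w (by rw [commutator_def]; exact hw) hw2
      invZ := ?_
      rk := fun E' _ hE' => rank_le h E' hE'
      hasE := ⟨E, le_top, hE, hE8⟩ }
  intro ζ _ hζ hζ2
  obtain ⟨h1, h2⟩ := inv_central h ζ (fun x => hζ x (Subgroup.mem_top _)) hζ2
  rcases h1 with h1 | h1 <;> rcases h2 with h2 | h2
  · left
    apply hinj
    rw [map_one]
    exact Prod.ext h1 h2
  · right; right; left
    apply hinj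
    rw [hz]
    exact Prod.ext h1 h2
  · right; left
    apply hinj
    rw [hc]
    exact Prod.ext h1 h2
  · right; right; right
    apply hinj
    rw [map_mul, hc, hz]
    ext1
    · simp [h1]
    · simp [h2]

end Cfsg.Agent.Lib.Helper5.S1906
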