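import Mathlib
import Cfsg.Agent.Lib.Helper19.S5954.Defs
import Cfsg.Agent.Lib.Helper19.S5954.DefsTop
import Cfsg.Agent.Lib.Helper19.S5954.X
import Cfsg.Agent.Lib.Helper11.S5954TSUFF

/-!
# S5954 row T2S (helper5): `r = 2 ≠ p`, sufficiency (bridge + `t_two_suff_abs`).
-/

set_option autoImplicit false
set_option linter.unusedVariables false
set_option linter.unusedSectionVars false

namespace Cfsg.Agent.Lib.Helper19.S5954

open Cfsg.Agent.Lib.helper3.S5953 (cc)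

variable {F : Type*} [Field F] [Fintype F] {p : ℕ} [Fact p.Prime] [CharP F p] {q : ℕ}

/-- `2 ≠ 0` in characteristic `p ≠ 2` -/
theorem s5954t2s_two_ne (hp2 : p ≠ 2) : (2 : F) ≠ 0 := by
  intro h
  have h1 : ((2 : ℕ) : F) = 0 := by exact_mod_cast h
  have h2 := (CharP.cast_eq_zero_iff F p 2).mp h1
  have hp := (Fact.out : p.Prime)
  have := (Nat.prime_dvd_prime_iff_eq hp Nat.prime_two).mp h2
  exact hp2 this

/-- the bridge for `r = 2`: `x ∈ SU`, `x ^ 2 = z • 1` gives the abstract context for `toLin' x` itself -/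
theorem s5954t2s_bridge (σ : F →+* F) (hσ : ∀ a, σ a = a ^ q) (hσσ : ∀ a, σ (σ a) = a) (hne : ∃ a, σ a ≠ a)
    (n : ℕ) (hn : 1 ≤ n) (x : Matrix.SpecialLinearGroup (Fin n) F) (hx : x ∈ Cfsg.SU n F q) (z : F)
    (hz : ((x ^ 2 : Matrix.SpecialLinearGroup (Fin n) F) : Matrix (Fin n) (Fin n) F) =
      z • (1 : Matrix (Fin n) (Fin n) F)) :
    z ^ (q + 1) = 1 ∧
    HCtx (2 * (q + 1)) σ (stdH n σ) ((1 : F)⁻¹ • Matrix.toLin' (x : Matrix (Fin n) (Fin n) F)) ∧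
    ((1 : F)⁻¹ • Matrix.toLin' (x : Matrix (Fin n) (Fin n) F)) *
      ((1 : F)⁻¹ • Matrix.toLin' (x : Matrix (Fin n) (Fin n) F)) = z • 1 ∧
    LinearMap.det ((1 : F)⁻¹ • Matrix.toLin' (x : Matrix (Fin n) (Fin n) F)) = 1 := by
  have hzn : z ^ (q + 1) = 1 := x_norm n hn x hx 2 z hz
  refine ⟨hzn, ?_, ?_, ?_⟩
  · refine x_ctx σ hσ hσσ hne n x hx (2 * (q + 1)) 1 (one_pow _) ?_
    rw [pow_mul, one_pow, one_smul]
    have h1 : (((x ^ 2) ^ (q + 1) : Matrix.SpecialLinearGroup (Fin n) F) : Matrix (Fin n) (Fin n) F) =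
        ((x ^ 2 : Matrix.SpecialLinearGroup (Fin n) F) : Matrix (Fin n) (Fin n) F) ^ (q + 1) :=
      Matrix.SpecialLinearGroup.coe_pow _ _
    rw [h1, hz, smul_pow, one_pow, hzn, one_smul]
  · rw [inv_one, one_smul]
    have h1 : ((x ^ 2 : Matrix.SpecialLinearGroup (Fin n) F) : Matrix (Fin n) (Fin n) F) =
        (x : Matrix (Fin n) (Fin n) F) * (x : Matrix (Fin n) (Fin n) F) := by
      rw [Matrix.SpecialLinearGroup.coe_pow, pow_two]
    rw [h1] at hz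
    rw [Module.End.mul_eq_comp, ← Matrix.toLin'_mul, hz]
    ext v i
    simp
  · rw [inv_one, one_smul, LinearMap.det_toLin']
    exact x.2

/-- T2S [M] (r = 2 ≠ p, sufficiency; rows of part T: `z` a square in `N1`: involution, every `m ≤ n`; else `n` even, `(-z)^(n/2) = 1`, TWOARITH excludes the
third alternative, so `m` is even: TNONSQ). -/
theorem top_two_suff (hq : Fintype.card F = q ^ 2) (hp2 : p ≠ 2) (n m : ℕ) (hn : 3 ≤ n) (hm : 1 ≤ m) (hmn : 2 * m < n)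
    (h : Odd n ∨ Even m ∨ (padicValNat 2 n ≤ padicValNat 2 (q + 1) ∧ q % 4 = 3)) : AllFix F n m q 2 := by
  intro x hx hxz _
  obtain ⟨z, hz⟩ := hxz
  obtain ⟨σ, hσ, hσσ, hne⟩ := x_frob hq
  have h2 : (2 : F) ≠ 0 := s5954t2s_two_ne (p := p) hp2
  obtain ⟨hzn, hctx, hsq, hdet⟩ := s5954t2s_bridge σ hσ hσσ hne n (by omega) x hx z hz
  rw [x_fixes σ hσ hσσ n m (x : Matrix (Fin n) (Fin n) F) 1 one_ne_zero]
  haveI : Nonempty (Fin n) := ⟨⟨0, by omega⟩⟩
  have hfr : Module.finrank F (Fin n → F) = n := Module.finrank_fin_fun F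
  refine t_two_suff_abs hq h2 (R := 2 * (q + 1)) (by omega) hσ hctx z hsq hdet m ?_ ?_
  · rw [hfr]; omega
  · rw [hfr]; exact h

end Cfsg.Agent.Lib.Helper19.S5954
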