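import Mathlib
import Cfsg.Agent.Lib.Helper19.S5954.Defs
import Cfsg.Agent.Lib.Helper19.S5954.DefsTop
import Cfsg.Agent.Lib.Helper19.S5954.X
import Cfsg.Agent.Lib.Helper5.S5954T2S
import Cfsg.Agent.Lib.Helper5.S5954TQODD
import Cfsg.Agent.Lib.Helper11.S5954TWOARITHEX
import Cfsg.Agent.Lib.Helper26.S5954TBAD
import Cfsg.Agent.Lib.helper2.S5954TNEC

/-!
# S5954 row T2N (helper5): `r = 2 ≠ p`, necessity (`two_arith_ex` + `t_bad` + bridge + `t_two_nec_abs`).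
-/

set_option autoImplicit false
set_option linter.unusedVariables false
set_option linter.unusedSectionVars false

namespace Cfsg.Agent.Lib.Helper19.S5954

open Cfsg.Agent.Lib.helper3.S5953 (cc)

variable {F : Type*} [Field F] [Fintype F] {p : ℕ} [Fact p.Prime] [CharP F p] {q : ℕ}

/-- T2N [M] (r = 2 ≠ p, necessity; by contradiction `n` even, `m` odd, `q % 4 = 1 ∨ v₂(q+1) < v₂(n)`: TWOARITHEX gives a non-square `z ∈ N1` with
`(-z)^(n/2) = 1`, XMONO the element, TODD the contradiction). -/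
theorem top_two_nec (hq : Fintype.card F = q ^ 2) (hp2 : p ≠ 2) (n m : ℕ) (hn : 3 ≤ n) (hm : 1 ≤ m) (hmn : 2 * m < n)
    (h : AllFix F n m q 2) : Odd n ∨ Even m ∨ (padicValNat 2 n ≤ padicValNat 2 (q + 1) ∧ q % 4 = 3) := by
  by_contra hcon
  push Not at hcon
  obtain ⟨hnodd, hmodd, h3⟩ := hcon
  have hne : Even n := Nat.not_odd_iff_even.mp hnodd
  have h2 : (2 : F) ≠ 0 := s5954t2s_two_ne (p := p) hp2
  have hqodd : Odd q := t_q_odd hq h2
  have hor : q % 4 = 1 ∨ padicValNat 2 (q + 1) < padicValNat 2 n := by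
    by_contra hc
    push Not at hc
    obtain ⟨hc1, hc2⟩ := hc
    have hq3 : q % 4 = 3 := by
      obtain ⟨k, hk⟩ := hqodd
      omega
    exact h3 hc2 hq3
  obtain ⟨z, hz, hns, hdet⟩ := two_arith_ex hq h2 n hne hor
  obtain ⟨x, hx, hx2, hxns⟩ := t_bad (q := q) n (by omega) hne z hz hdet
  obtain ⟨σ, hσ, hσσ, hneσ⟩ := x_frob hq
  obtain ⟨hzn, hctx, hsq, hdet1⟩ := s5954t2s_bridge σ hσ hσσ hneσ n (by omega) x hx z hx2
  obtain ⟨W, hWinv, hWnd, hWm⟩ :=
    (x_fixes σ hσ hσσ n m (x : Matrix (Fin n) (Fin n) F) 1 one_ne_zero).mp (h x hx ⟨z, hx2⟩ hxns)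
  have hev := t_two_nec_abs hq h2 (R := 2 * (q + 1)) (by omega) hσ hctx z hsq hz hns W hWinv hWnd
  rw [hWm] at hev
  exact hmodd hev

end Cfsg.Agent.Lib.Helper19.S5954
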