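import Mathlib
import Cfsg.Prelude.Def_Classical
import Cfsg.Agent.Lib.Helper1.S8U.Defs
import Cfsg.Agent.Lib.helper14.S8UORONE
import Cfsg.Agent.Lib.helper14.S8UORODD
import Cfsg.Agent.Lib.helper23.S8UORSUM
import Cfsg.Agent.Lib.helper23.S8UORU4
import Cfsg.Agent.Lib.helper17.S8UORINV
import Cfsg.Agent.Lib.Helper1.S8UORXFER
import Cfsg.Agent.Lib.helper4.OTSSTDP

/-!
# Project S8U (designer helper1), rows TGTWO / TGFOUR / TGEIGHT (second writer helper5): own-named copies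
`s8utg_h5_two`, `s8utg_h5_four`, `s8utg_h5_eight` of the statements `tgt_two`, `tgt_four`, `tgt_eight`.
-/

set_option autoImplicit false

namespace Cfsg.Agent.Lib.Helper1.S8U

open Matrix Module Polynomial Cfsg.Agent.Lib.Helper16 Cfsg.Agent.Lib.Helper13.OTS Cfsg.Agent.Lib.Helper19.SO8
  Cfsg.Agent.Lib.helper14.OrthInv

theorem s8utg_h5_two {F : Type*} [Field F] [Fintype F] [CharP F 2] (a b : F) (hab : Aniso a b) (m : ℕ)
    (hm : Odd m) (s : ℤ) (hs : s = 1 ∨ s = -1) (h : OReal F 3 s m) :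
    ∃ g ∈ Hd a b hab, orderOf g = m ∧ geoM g m ≠ 0 := by
  have h1 : OR F 1 (-s) 1 0 True := by
    rcases hs with rfl | rfl
    · exact or_one _ 1 (-1) (otsstdp_minus 0 a b hab) le_rfl
    · have e : (-(-1 : ℤ)) = 1 := by norm_num
      rw [e]
      exact or_one _ 1 1 (q_std_plus 1) le_rfl
  have h2 : OR F 3 s m 0 False := or_odd 3 s m hm h
  have h3 := or_sum 1 3 le_rfl (-s) s 1 m 0 0 True False h1 h2
  have e1 : (-s) * s = -1 := by
    rcases hs with rfl | rfl <;> norm_num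
  have e2 : Nat.lcm 1 m = m := Nat.lcm_one_left m
  rw [e1, e2] at h3
  have h4 : OR F 4 (-1) m 0 True :=
    or_mono (fun _ => Or.inl ⟨trivial, by rw [Nat.div_one]; exact hm⟩) h3
  obtain ⟨g, hg, hord, hgeo⟩ := or_xfer a b hab m True h4
  exact ⟨g, hg, hord, hgeo trivial⟩

theorem s8utg_h5_lcm_two (m : ℕ) (hm : Odd m) : Nat.lcm 2 m = 2 * m :=
  Nat.Coprime.lcm_eq_mul (Nat.coprime_two_left.mpr hm)

theorem s8utg_h5_lcm_four (m : ℕ) (hm : Odd m) : Nat.lcm 4 m = 4 * m := by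
  have h : Nat.Coprime (2 ^ 2) m := Nat.Coprime.pow_left 2 (Nat.coprime_two_left.mpr hm)
  exact Nat.Coprime.lcm_eq_mul h

theorem s8utg_h5_lcm_four' (m : ℕ) (hm : Odd m) : Nat.lcm 4 (2 * m) = 4 * m := by
  show Nat.lcm (2 * 2) (2 * m) = 4 * m
  rw [Nat.lcm_mul_left, s8utg_h5_lcm_two m hm]
  ring

theorem s8utg_h5_four {F : Type*} [Field F] [Fintype F] [CharP F 2] (a b : F) (hab : Aniso a b) (m : ℕ)
    (hm : Odd m) (h : OReal F 2 (-1) m) :
    ∃ g ∈ Hd a b hab, orderOf g = 2 * m ∧ geoM g (2 * m) ≠ 0 := by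
  have h1 : OR F 2 1 2 0 True := (or_u4 (F := F)).2
  have h2 : OR F 2 (-1) m 0 False := or_odd 2 (-1) m hm h
  have h3 := or_sum 2 2 (by norm_num) 1 (-1) 2 m 0 0 True False h1 h2
  have e1 : (1 : ℤ) * (-1) = -1 := by norm_num
  rw [e1, s8utg_h5_lcm_two m hm] at h3
  have h4 : OR F 4 (-1) (2 * m) 0 True :=
    or_mono (fun _ => Or.inl ⟨trivial, by
      rw [Nat.mul_div_cancel_left m (by norm_num : 0 < 2)]
      exact hm⟩) h3
  obtain ⟨g, hg, hord, hgeo⟩ := or_xfer a b hab (2 * m) True h4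
  exact ⟨g, hg, hord, hgeo trivial⟩

theorem s8utg_h5_eight {F : Type*} [Field F] [Fintype F] [CharP F 2] (a b : F) (hab : Aniso a b) (m : ℕ)
    (hm : Odd m) (s₁ : ℤ) (hs : s₁ = 1 ∨ s₁ = -1) (h₁ : OReal F 1 s₁ m) (h₂ : OReal F 1 (-s₁) 2) :
    ∃ g ∈ Hd a b hab, orderOf g = 4 * m ∧ geoM g (4 * m) ≠ 0 := by
  obtain ⟨p, hA⟩ := (or_u4 (F := F)).1
  have hp : p = 0 ∨ p = 1 := by
    obtain ⟨ι, i1, i2, Qs, hs, g, h1, h2, h3⟩ := hA
    omega
  have hB : OR F 1 s₁ m 0 False := or_odd 1 s₁ m hm h₁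
  have es : (1 : ℤ) * (s₁ * -s₁) = -1 := by
    rcases hs with rfl | rfl <;> norm_num
  have h4 : OR F 4 (-1) (4 * m) 0 True := by
    rcases hp with rfl | rfl
    · -- `C` = the identity
      have hC : OR F 1 (-s₁) 1 0 True := by
        obtain ⟨ι, i1, i2, Qs, hQs, _⟩ := h₂
        exact or_one Qs 1 (-s₁) hQs le_rfl
      have hBC := or_sum 1 1 le_rfl s₁ (-s₁) m 1 0 0 False True hB hC
      have hABC := or_sum 2 (1 + 1) (by norm_num) 1 (s₁ * -s₁) 4 (Nat.lcm m 1) 0 ((0 + 0) % 2) True _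
        hA hBC
      rw [es, Nat.lcm_one_right, s8utg_h5_lcm_four m hm] at hABC
      exact or_mono (fun _ => Or.inl ⟨trivial, by
        rw [Nat.mul_div_cancel_left m (by norm_num : 0 < 4)]
        exact hm⟩) hABC
    · -- `C` = the involution
      have hC : OR F 1 (-s₁) 2 1 False := or_inv (-s₁) h₂
      have hBC := or_sum 1 1 le_rfl s₁ (-s₁) m 2 0 1 False False hB hC
      have hABC := or_sum 2 (1 + 1) (by norm_num) 1 (s₁ * -s₁) 4 (Nat.lcm m 2) 1 ((0 + 1) % 2) True _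
        hA hBC
      rw [es, Nat.lcm_comm m 2, s8utg_h5_lcm_two m hm, s8utg_h5_lcm_four' m hm] at hABC
      exact or_mono (fun _ => Or.inl ⟨trivial, by
        rw [Nat.mul_div_cancel_left m (by norm_num : 0 < 4)]
        exact hm⟩) hABC
  obtain ⟨g, hg, hord, hgeo⟩ := or_xfer a b hab (4 * m) True h4
  exact ⟨g, hg, hord, hgeo trivial⟩

end Cfsg.Agent.Lib.Helper1.S8U
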