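import Mathlib
import Cfsg.Prelude.Def_Solvable
import Cfsg.Prelude.Def_OddOrderLocal
import Cfsg.Agent.Lib.Helper1.Fitting
import Cfsg.Agent.Lib.Helper1.CFitting
import Cfsg.Agent.Lib.Helper5.SolvPSolv
import Cfsg.Agent.Lib.Helper5.QuadSep
import Cfsg.Agent.Lib.Helper10.NPStab1

set_option autoImplicit false

namespace Cfsg.Agent.Lib.Helper5.SCNCent

open Cfsg Cfsg.Agent.Lib.Helper1
open scoped commutatorElement

universe u

variable {S : Type u} [Group S]

theorem quad_of_centralizes {P A F : Subgroup S} (x : S) (hPF : P ≤ F) [hPn : P.Normal]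
    (hFN : F ≤ Subgroup.normalizer (A : Set S))
    (hFC : F ⊓ Subgroup.centralizer (A : Set S) = A)
    (hx : x ∈ Subgroup.centralizer (A : Set S)) :
    ⁅⁅P, Subgroup.zpowers x⁆, Subgroup.zpowers x⁆ = ⊥ := by
  have hXC : Subgroup.zpowers x ≤ Subgroup.centralizer (A : Set S) :=
    (Subgroup.zpowers_le).mpr hx
  have hXA : ⁅Subgroup.zpowers x, A⁆ = ⊥ := Subgroup.commutator_eq_bot_iff_le_centralizer.mpr hXC
  have hAX : ⁅A, Subgroup.zpowers x⁆ = ⊥ := by rw [Subgroup.commutator_comm]; exact hXA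
  have hPA : ⁅P, A⁆ ≤ A := by
    rw [Subgroup.commutator_le]
    intro g₁ hg₁ g₂ hg₂
    have hn : g₁ ∈ Subgroup.normalizer (A : Set S) := hFN (hPF hg₁)
    have h1 : g₁ * g₂ * g₁⁻¹ ∈ A := (Subgroup.mem_normalizer_iff.mp hn g₂).mp hg₂
    rw [commutatorElement_def]
    exact A.mul_mem h1 (A.inv_mem hg₂)
  have h1 : ⁅⁅P, A⁆, Subgroup.zpowers x⁆ = ⊥ := by
    rw [eq_bot_iff, ← hAX]
    exact Subgroup.commutator_mono hPA le_rfl
  have h2 : ⁅⁅A, Subgroup.zpowers x⁆, P⁆ = ⊥ := by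
    rw [hAX]; exact Subgroup.commutator_bot_left P
  have h3 : ⁅⁅Subgroup.zpowers x, P⁆, A⁆ = ⊥ :=
    Subgroup.commutator_commutator_eq_bot_of_rotate h1 h2
  have h4 : ⁅Subgroup.zpowers x, P⁆ ≤ Subgroup.centralizer (A : Set S) :=
    Subgroup.commutator_eq_bot_iff_le_centralizer.mp h3
  have h5 : ⁅Subgroup.zpowers x, P⁆ ≤ F := le_trans (Subgroup.commutator_le_right _ _) hPF
  have h6 : ⁅Subgroup.zpowers x, P⁆ ≤ A := by
    rw [← hFC]; exact le_inf h5 h4
  rw [eq_bot_iff, ← hAX, Subgroup.commutator_comm P]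
  exact Subgroup.commutator_mono h6 le_rfl

theorem centralizes_of_quad_coprime [Finite S] {p r : ℕ} [Fact p.Prime] {P : Subgroup S}
    [hPn : P.Normal] (hP : IsPGroup p P) (x : S) (k : ℕ) (hxk : x ^ r ^ k = 1)
    (hpr : p.Coprime r)
    (hq : ⁅⁅P, Subgroup.zpowers x⁆, Subgroup.zpowers x⁆ = ⊥) :
    x ∈ Subgroup.centralizer (P : Set S) := by
  rw [Subgroup.mem_centralizer_iff]
  intro g hg
  have hcm : ⁅g, x⁆ ∈ ⁅P, Subgroup.zpowers x⁆ :=
    Subgroup.commutator_mem_commutator hg (Subgroup.mem_zpowers x)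
  have hcP : ⁅g, x⁆ ∈ P := by
    rw [commutatorElement_def]
    have : x * g⁻¹ * x⁻¹ ∈ P := hPn.conj_mem _ (P.inv_mem hg) x
    have h := P.mul_mem hg this
    convert h using 1
    group
  have hcomm : Commute ⁅g, x⁆ x := by
    have h1 : ⁅⁅g, x⁆, x⁆ ∈ ⁅⁅P, Subgroup.zpowers x⁆, Subgroup.zpowers x⁆ :=
      Subgroup.commutator_mem_commutator hcm (Subgroup.mem_zpowers x)
    rw [hq, Subgroup.mem_bot] at h1
    exact commutatorElement_eq_one_iff_commute.mp h1
  have hconj : g * x * g⁻¹ = ⁅g, x⁆ * x := by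
    rw [commutatorElement_def]; group
  have hpow : (⁅g, x⁆) ^ r ^ k = 1 := by
    have h1 : (g * x * g⁻¹) ^ r ^ k = 1 := by
      rw [conj_pow, hxk]; group
    rw [hconj, hcomm.mul_pow, hxk, mul_one] at h1
    exact h1
  have hc1 : ⁅g, x⁆ = 1 := by
    obtain ⟨j, hj⟩ := hP ⟨⁅g, x⁆, hcP⟩
    have hj' : (⁅g, x⁆) ^ p ^ j = 1 := by
      have := congrArg Subtype.val hj
      simpa using this
    have h1 : orderOf ⁅g, x⁆ ∣ p ^ j := orderOf_dvd_of_pow_eq_one hj'
    have h2 : orderOf ⁅g, x⁆ ∣ r ^ k := orderOf_dvd_of_pow_eq_one hpow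
    have h3 : (p ^ j).Coprime (r ^ k) := Nat.Coprime.pow _ _ hpr
    have h4 : orderOf ⁅g, x⁆ = 1 := Nat.eq_one_of_dvd_coprimes h3 h1 h2
    exact orderOf_eq_one_iff.mp h4
  have h5 : g * x * g⁻¹ = x := by rw [hconj, hc1, one_mul]
  calc g * x = (g * x * g⁻¹) * g := by group
    _ = x * g := by rw [h5]

theorem mem_centralizer_sup {H K : Subgroup S} {z : S}
    (hH : z ∈ Subgroup.centralizer (H : Set S)) (hK : z ∈ Subgroup.centralizer (K : Set S)) :
    z ∈ Subgroup.centralizer ((H ⊔ K : Subgroup S) : Set S) := by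
  have h1 : Subgroup.zpowers z ≤ Subgroup.centralizer (H : Set S) := Subgroup.zpowers_le.mpr hH
  have h2 : Subgroup.zpowers z ≤ Subgroup.centralizer (K : Set S) := Subgroup.zpowers_le.mpr hK
  have h3 : H ⊔ K ≤ Subgroup.centralizer (Subgroup.zpowers z : Set S) :=
    sup_le (Subgroup.le_centralizer_iff.mp h1) (Subgroup.le_centralizer_iff.mp h2)
  exact Subgroup.le_centralizer_iff.mp h3 (Subgroup.mem_zpowers z)

theorem mem_fitting_of_quad [Finite S] [hsol : Group.IsSolvable S] {q : ℕ} [hq : Fact q.Prime]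
    (hq5 : 5 ≤ q) (x : S)
    (hc : ∀ p : Nat.Primes, p ≠ ⟨q, hq.out⟩ →
      x ∈ Subgroup.centralizer (Cfsg.pCore (p : ℕ) S : Set S))
    (hquad : ⁅⁅Cfsg.pCore q S, Subgroup.zpowers x⁆, Subgroup.zpowers x⁆ = ⊥) :
    x ∈ Cfsg.fittingSubgroup S := by
  have habs : ∀ (M : Subgroup S) [M.Normal], AbsPStable q (S ⧸ M) := by
    intro M _
    exact absPStable_of_psolvable hq5 _ (isPSolvable_of_isSolvable q (S ⧸ M) inferInstance)
  haveI hQn : (Cfsg.pCore q S).Normal := Cfsg.Agent.Lib.Helper1.pCore_normal q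
  have hQp : IsPGroup q ↥(Cfsg.pCore q S) := pCore_isPGroup q
  obtain ⟨D, hDn, hCD, hxD, hDp⟩ :=
    Cfsg.Agent.Lib.Helper10.NPStab.quad_normal_pgroup' habs (Nat.card ↥(Cfsg.pCore q S))
      (Cfsg.pCore q S) hQp le_rfl x hquad
  obtain ⟨q', hq'⟩ : ∃ q' : Nat.Primes, q' = ⟨q, hq.out⟩ := ⟨_, rfl⟩
  obtain ⟨R, hR⟩ : ∃ R : Subgroup S,
      R = sSup {N : Subgroup S | ∃ p : Nat.Primes, p ≠ q' ∧ N = Cfsg.pCore (p : ℕ) S} := ⟨_, rfl⟩
  have hRc : R.Normal ∧ (Nat.card R).Coprime q := by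
    rw [hR]
    apply sSup_normal_coprime
    rintro N ⟨p, hp, rfl⟩
    refine ⟨Cfsg.Agent.Lib.Helper1.pCore_normal _, ?_⟩
    have : Fact (p : ℕ).Prime := ⟨p.2⟩
    obtain ⟨n, hn⟩ := IsPGroup.iff_card.mp (pCore_isPGroup (G := S) (p : ℕ))
    rw [hn]
    apply Nat.Coprime.pow_left
    rw [Nat.coprime_primes p.2 hq.out]
    intro h
    apply hp
    rw [hq']
    exact Subtype.ext h
  haveI hRn : R.Normal := hRc.1
  have hFeq : Cfsg.fittingSubgroup S = Cfsg.pCore q S ⊔ R := by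
    rw [fittingSubgroup_eq_iSup_pCore, iSup_pCore_eq_sup q', hR, hq']
  have hxR : x ∈ Subgroup.centralizer (R : Set S) := by
    have h1 : R ≤ Subgroup.centralizer (Subgroup.zpowers x : Set S) := by
      rw [hR]
      apply sSup_le
      rintro N ⟨p, hp, rfl⟩
      apply Subgroup.le_centralizer_iff.mp
      apply Subgroup.zpowers_le.mpr
      exact hc p (by rw [← hq']; exact hp)
    exact Subgroup.le_centralizer_iff.mp h1 (Subgroup.mem_zpowers x)
  have hdisj : Disjoint (Cfsg.pCore q S) R := by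
    rw [disjoint_iff, eq_bot_iff]
    intro g hg
    rw [Subgroup.mem_bot]
    obtain ⟨j, hj⟩ := hQp ⟨g, hg.1⟩
    have hj' : g ^ q ^ j = 1 := by
      have := congrArg Subtype.val hj
      simpa using this
    have h1 : orderOf g ∣ q ^ j := orderOf_dvd_of_pow_eq_one hj'
    have h2 : orderOf g ∣ Nat.card R := by
      have : orderOf (⟨g, hg.2⟩ : R) ∣ Nat.card R := orderOf_dvd_natCard _
      rwa [Subgroup.orderOf_mk] at this
    have h3 : (q ^ j).Coprime (Nat.card R) := Nat.Coprime.pow_left _ hRc.2.symm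
    exact orderOf_eq_one_iff.mp (Nat.eq_one_of_dvd_coprimes h3 h1 h2)
  obtain ⟨E, hE⟩ : ∃ E : Subgroup S, E = D ⊓ Subgroup.centralizer (R : Set S) := ⟨_, rfl⟩
  haveI hEn : E.Normal := by
    rw [hE]
    haveI := hDn
    infer_instance
  have hxE : x ∈ E := by rw [hE]; exact ⟨hxD, hxR⟩
  obtain ⟨m, hm⟩ := IsPGroup.iff_card.mp hQp
  have hcent : ∀ y ∈ E, ∃ k : ℕ, ∀ e ∈ E, e * y ^ q ^ k = y ^ q ^ k * e := by
    intro y hy
    rw [hE] at hy
    obtain ⟨k, hk⟩ := hDp y hy.1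
    have hzR : y ^ q ^ k ∈ Subgroup.centralizer (R : Set S) := Subgroup.pow_mem _ hy.2 _
    have hzF : y ^ q ^ k ∈ Cfsg.fittingSubgroup S := by
      apply centralizer_fittingSubgroup_le
      rw [hFeq]
      exact mem_centralizer_sup hk hzR
    rw [hFeq, Subgroup.mem_sup_of_normal_right] at hzF
    obtain ⟨a, ha, b, hb, hab⟩ := hzF
    have hcomm : Commute a b :=
      Subgroup.commute_of_normal_of_disjoint _ _ hQn hRn hdisj a b ha hb
    have ha1 : a ^ q ^ m = 1 := by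
      have h1 : (⟨a, ha⟩ : ↥(Cfsg.pCore q S)) ^ Nat.card ↥(Cfsg.pCore q S) = 1 := pow_card_eq_one'
      rw [hm] at h1
      have := congrArg Subtype.val h1
      simpa using this
    refine ⟨k + m, ?_⟩
    have h2 : y ^ q ^ (k + m) = b ^ q ^ m := by
      rw [pow_add, pow_mul, ← hab, hcomm.mul_pow, ha1, one_mul]
    rw [h2]
    intro e he
    rw [hE] at he
    have hbm : b ^ q ^ m ∈ R := Subgroup.pow_mem _ hb _
    exact (Subgroup.mem_centralizer_iff.mp he.2 _ hbm).symm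
  have hEnil : Group.IsNilpotent ↥E := by
    haveI : IsPGroup q (↥E ⧸ Subgroup.center ↥E) := by
      intro g
      induction g using QuotientGroup.induction_on with
      | H y =>
        obtain ⟨k, hk⟩ := hcent y.1 y.2
        refine ⟨k, ?_⟩
        rw [← QuotientGroup.mk_pow, QuotientGroup.eq_one_iff, Subgroup.mem_center_iff]
        intro e
        apply Subtype.ext
        have := hk e.1 e.2
        simpa using this
    haveI : Group.IsNilpotent (↥E ⧸ Subgroup.center ↥E) := IsPGroup.isNilpotent this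
    apply Subgroup.isNilpotent_of_ker_le_center (QuotientGroup.mk' (Subgroup.center ↥E))
    rw [QuotientGroup.ker_mk']
  exact le_fittingSubgroup hEn hEnil hxE

end Cfsg.Agent.Lib.Helper5.SCNCent
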