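import Cfsg.Agent.Lib.Helper5.SCNCent1

set_option autoImplicit false

namespace Cfsg.Agent.Lib.Helper5.SCNCent

open Cfsg Cfsg.Agent.Lib.Helper1
open scoped commutatorElement

universe u

variable {S : Type u} [Group S]

theorem mem_centralizer_fitting_of_forall [Finite S] {x : S}
    (h : ∀ p : Nat.Primes, x ∈ Subgroup.centralizer (Cfsg.pCore (p : ℕ) S : Set S)) :
    x ∈ Subgroup.centralizer (Cfsg.fittingSubgroup S : Set S) := by
  have h1 : Cfsg.fittingSubgroup S ≤ Subgroup.centralizer (Subgroup.zpowers x : Set S) := by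
    rw [fittingSubgroup_eq_iSup_pCore]
    apply iSup_le
    intro p
    apply Subgroup.le_centralizer_iff.mp
    exact Subgroup.zpowers_le.mpr (h p)
  exact Subgroup.le_centralizer_iff.mp h1 (Subgroup.mem_zpowers x)

theorem prime_ge_five {r : ℕ} (hr : r.Prime) (h2 : r ≠ 2) (h3 : r ≠ 3) : 5 ≤ r := by
  have h := hr.two_le
  by_contra hlt
  push Not at hlt
  have h4 : r = 4 := by omega
  rw [h4] at hr
  exact absurd hr (by decide)

/-- the prime-power-order elements of `C(A)` lie in `F(S)`. -/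
theorem key_mem_fitting [Finite S] [Group.IsSolvable S] (π : Set ℕ) (h2 : 2 ∉ π) (h3 : 3 ∉ π)
    (hπ' : ∀ N : Subgroup S, N.Normal → (∀ p : ℕ, p.Prime → p ∣ Nat.card N → p ∉ π) → N = ⊥)
    (F A : Subgroup S) (hF : Cfsg.fittingSubgroup S ≤ F)
    (hFN : F ≤ Subgroup.normalizer (A : Set S))
    (hFC : F ⊓ Subgroup.centralizer (A : Set S) = A)
    (r : ℕ) (hr : r.Prime) (x : S) (hx : x ∈ Subgroup.centralizer (A : Set S)) (k : ℕ)
    (hxk : x ^ r ^ k = 1) : x ∈ Cfsg.fittingSubgroup S := by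
  haveI : Fact r.Prime := ⟨hr⟩
  have hquad : ∀ p : Nat.Primes,
      ⁅⁅Cfsg.pCore (p : ℕ) S, Subgroup.zpowers x⁆, Subgroup.zpowers x⁆ = ⊥ := by
    intro p
    haveI : Fact (p : ℕ).Prime := ⟨p.2⟩
    haveI : (Cfsg.pCore (p : ℕ) S).Normal := Cfsg.Agent.Lib.Helper1.pCore_normal _
    exact quad_of_centralizes x (le_trans (pCore_le_fittingSubgroup (p : ℕ)) hF) hFN hFC hx
  have hcop : ∀ p : Nat.Primes, p ≠ ⟨r, hr⟩ →
      x ∈ Subgroup.centralizer (Cfsg.pCore (p : ℕ) S : Set S) := by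
    intro p hp
    haveI : Fact (p : ℕ).Prime := ⟨p.2⟩
    haveI : (Cfsg.pCore (p : ℕ) S).Normal := Cfsg.Agent.Lib.Helper1.pCore_normal _
    apply centralizes_of_quad_coprime (pCore_isPGroup (p : ℕ)) x k hxk _ (hquad p)
    rw [Nat.coprime_primes p.2 hr]
    intro h
    exact hp (Subtype.ext h)
  by_cases hrπ : r ∈ π
  · have hr5 : 5 ≤ r := prime_ge_five hr (fun h => h2 (h ▸ hrπ)) (fun h => h3 (h ▸ hrπ))
    exact mem_fitting_of_quad hr5 x hcop (hquad ⟨r, hr⟩)
  · have hbot : Cfsg.pCore r S = ⊥ := by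
      apply hπ' _ (Cfsg.Agent.Lib.Helper1.pCore_normal r)
      intro p hp hdvd
      obtain ⟨n, hn⟩ := IsPGroup.iff_card.mp (pCore_isPGroup (G := S) r)
      rw [hn] at hdvd
      have : p = r := (Nat.prime_dvd_prime_iff_eq hp hr).mp (hp.dvd_of_dvd_pow hdvd)
      rw [this]
      exact hrπ
    apply centralizer_fittingSubgroup_le
    apply mem_centralizer_fitting_of_forall
    intro p
    by_cases hp : p = ⟨r, hr⟩
    · rw [hp]
      show x ∈ Subgroup.centralizer (Cfsg.pCore r S : Set S)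
      rw [hbot, Subgroup.mem_centralizer_iff]
      intro g hg
      have : g = 1 := hg
      rw [this]; simp
    · exact hcop p hp

theorem centralizer_le_of_scn [Finite S] [Group.IsSolvable S] (π : Set ℕ) (h2 : 2 ∉ π)
    (h3 : 3 ∉ π)
    (hπ' : ∀ N : Subgroup S, N.Normal → (∀ p : ℕ, p.Prime → p ∣ Nat.card N → p ∉ π) → N = ⊥)
    (F A : Subgroup S) (hF : Cfsg.fittingSubgroup S ≤ F)
    (hFN : F ≤ Subgroup.normalizer (A : Set S))
    (hFC : F ⊓ Subgroup.centralizer (A : Set S) = A) :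
    Subgroup.centralizer (A : Set S) ≤ A := by
  obtain ⟨C, hC⟩ : ∃ C : Subgroup S, C = Subgroup.centralizer (A : Set S) := ⟨_, rfl⟩
  rw [← hC]
  have htop : (Cfsg.fittingSubgroup S).comap C.subtype = ⊤ := by
    rw [eq_top_iff, ← iSup_sylow_eq_top]
    apply iSup_le
    intro p
    apply iSup_le
    intro P y hy
    rw [Subgroup.mem_comap]
    obtain ⟨k, hk⟩ := P.isPGroup' ⟨y, hy⟩
    have hk' : (y : S) ^ (p : ℕ) ^ k = 1 := by
      have := congrArg (fun z : ↥(P : Subgroup ↥C) => ((z : ↥C) : S)) hk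
      simpa using this
    have hyC : (y : S) ∈ Subgroup.centralizer (A : Set S) := by rw [← hC]; exact y.2
    exact key_mem_fitting π h2 h3 hπ' F A hF hFN hFC p p.2 y hyC k hk'
  intro c hc
  have h1 : (⟨c, hc⟩ : ↥C) ∈ (Cfsg.fittingSubgroup S).comap C.subtype := by
    rw [htop]; exact Subgroup.mem_top _
  rw [Subgroup.mem_comap] at h1
  rw [← hFC]
  refine ⟨hF h1, ?_⟩
  rw [← hC]; exact hc

end Cfsg.Agent.Lib.Helper5.SCNCent
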