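import Cfsg.Agent.Lib.Helper5.SCNCent2

set_option autoImplicit false

namespace Cfsg.Agent.Lib.Helper5.SCNCent

open Cfsg Cfsg.Agent.Lib.Helper1
open scoped commutatorElement

universe u

variable {S : Type u} [Group S]

/-- the largest normal `π'`-subgroup. -/
def piPrimeCore (π : Set ℕ) (S : Type u) [Group S] : Subgroup S :=
  sSup {N : Subgroup S | N.Normal ∧ ∀ p : ℕ, p.Prime → p ∣ Nat.card N → p ∉ π}

theorem piPrimeCore_spec [Finite S] (π : Set ℕ) :
    (piPrimeCore π S).Normal ∧ ∀ p : ℕ, p.Prime → p ∣ Nat.card (piPrimeCore π S) → p ∉ π := by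
  refine ⟨sSup_normal_of_forall_normal _ (fun N hN => hN.1), ?_⟩
  intro p hp hdvd hpπ
  have h := (sSup_normal_coprime p
    {N : Subgroup S | N.Normal ∧ ∀ p : ℕ, p.Prime → p ∣ Nat.card N → p ∉ π} (by
      intro N hN
      refine ⟨hN.1, ?_⟩
      apply Nat.Coprime.symm
      rw [Nat.Prime.coprime_iff_not_dvd hp]
      intro h
      exact hN.2 p hp h hpπ)).2
  have h1 : p ∣ Nat.gcd (Nat.card (piPrimeCore π S)) p := Nat.dvd_gcd hdvd dvd_rfl
  unfold piPrimeCore at h1
  rw [Nat.Coprime] at h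
  rw [h] at h1
  exact hp.one_lt.ne' (Nat.dvd_one.mp h1)

theorem le_piPrimeCore {π : Set ℕ} {N : Subgroup S} (hN : N.Normal)
    (h : ∀ p : ℕ, p.Prime → p ∣ Nat.card N → p ∉ π) : N ≤ piPrimeCore π S :=
  le_sSup ⟨hN, h⟩

theorem eq_one_of_mem_of_mem [Finite S] {π : Set ℕ} {H R : Subgroup S}
    (hH : ∀ p : ℕ, p.Prime → p ∣ Nat.card H → p ∈ π)
    (hR : ∀ p : ℕ, p.Prime → p ∣ Nat.card R → p ∉ π) {g : S} (hgH : g ∈ H) (hgR : g ∈ R) :
    g = 1 := by
  by_contra hne
  have h1 : orderOf g ≠ 1 := fun h => hne (orderOf_eq_one_iff.mp h)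
  obtain ⟨p, hp, hdvd⟩ := Nat.exists_prime_and_dvd h1
  have h2 : orderOf g ∣ Nat.card H := by
    have : orderOf (⟨g, hgH⟩ : H) ∣ Nat.card H := orderOf_dvd_natCard _
    rwa [Subgroup.orderOf_mk] at this
  have h3 : orderOf g ∣ Nat.card R := by
    have : orderOf (⟨g, hgR⟩ : R) ∣ Nat.card R := orderOf_dvd_natCard _
    rwa [Subgroup.orderOf_mk] at this
  exact hR p hp (dvd_trans hdvd h3) (hH p hp (dvd_trans hdvd h2))

/-- normal `π'`-subgroups of `S ⧸ O_{π'}(S)` are trivial. -/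
theorem quotient_piPrime_trivial [Finite S] (π : Set ℕ)
    [hRn : (piPrimeCore π S).Normal] (Nb : Subgroup (S ⧸ piPrimeCore π S)) (hNb : Nb.Normal)
    (h : ∀ p : ℕ, p.Prime → p ∣ Nat.card Nb → p ∉ π) : Nb = ⊥ := by
  have hR2 := (piPrimeCore_spec (S := S) π).2
  have hN : Nb.comap (QuotientGroup.mk' (piPrimeCore π S)) ≤ piPrimeCore π S := by
    apply le_piPrimeCore (hNb.comap _)
    intro p hp hdvd hpπ
    haveI : Fact p.Prime := ⟨hp⟩
    obtain ⟨g, hg⟩ := exists_prime_orderOf_dvd_card' p hdvd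
    have hgo : orderOf (g : S) = p := by rw [Subgroup.orderOf_coe]; exact hg
    by_cases h1 : QuotientGroup.mk' (piPrimeCore π S) (g : S) = 1
    · have hgR : (g : S) ∈ piPrimeCore π S := (QuotientGroup.eq_one_iff _).mp h1
      have h2 : orderOf (g : S) ∣ Nat.card (piPrimeCore π S) := by
        have : orderOf (⟨(g : S), hgR⟩ : piPrimeCore π S) ∣ Nat.card (piPrimeCore π S) :=
          orderOf_dvd_natCard _
        rwa [Subgroup.orderOf_mk] at this
      rw [hgo] at h2
      exact hR2 p hp h2 hpπ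
    · have hmem : QuotientGroup.mk' (piPrimeCore π S) (g : S) ∈ Nb := g.2
      have h2 : orderOf (QuotientGroup.mk' (piPrimeCore π S) (g : S)) ∣ p := by
        rw [← hgo]; exact orderOf_map_dvd _ _
      have h3 : orderOf (QuotientGroup.mk' (piPrimeCore π S) (g : S)) = p := by
        rcases (Nat.dvd_prime hp).mp h2 with h4 | h4
        · exact absurd (orderOf_eq_one_iff.mp h4) h1
        · exact h4
      have h4 : orderOf (QuotientGroup.mk' (piPrimeCore π S) (g : S)) ∣ Nat.card Nb := by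
        have : orderOf (⟨_, hmem⟩ : Nb) ∣ Nat.card Nb := orderOf_dvd_natCard _
        rwa [Subgroup.orderOf_mk] at this
      rw [h3] at h4
      exact h p hp h4 hpπ
  rw [eq_bot_iff, ← Subgroup.map_comap_eq_self_of_surjective
    (QuotientGroup.mk'_surjective (piPrimeCore π S)) Nb, ← QuotientGroup.map_mk'_self (piPrimeCore π S)]
  exact Subgroup.map_mono hN

end Cfsg.Agent.Lib.Helper5.SCNCent
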