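import Cfsg.Agent.Lib.Helper5.SCNCent3

set_option autoImplicit false

namespace Cfsg.Agent.Lib.Helper5.SCNCent

open Cfsg Cfsg.Agent.Lib.Helper1
open scoped commutatorElement

universe u

variable {S : Type u} [Group S]

/-- a normal `p`-subgroup lies in every subgroup of index prime to `p`. -/
theorem normal_pgroup_le_of_index [Finite S] {p : ℕ} [Fact p.Prime] {P K : Subgroup S}
    [hPn : P.Normal] (hP : IsPGroup p P) (hK : ¬ p ∣ K.index) : P ≤ K := by
  have h1 : Nat.card (K ⊔ P : Subgroup S) ∣ Nat.card K * Nat.card P := card_sup_dvd_mul K P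
  have h2 : Nat.card K * K.relIndex (K ⊔ P) = Nat.card (K ⊔ P : Subgroup S) :=
    card_mul_relIndex_of_le le_sup_left
  obtain ⟨n, hn⟩ := IsPGroup.iff_card.mp hP
  rw [← h2, hn] at h1
  have hpos : 0 < Nat.card K := Nat.card_pos
  have h3 : K.relIndex (K ⊔ P) ∣ p ^ n := Nat.dvd_of_mul_dvd_mul_left hpos h1
  have h4 : K.relIndex (K ⊔ P) ∣ K.index := by
    rw [← Subgroup.relIndex_mul_index (le_sup_left : K ≤ K ⊔ P)]
    exact dvd_mul_right _ _
  have h5 : K.relIndex (K ⊔ P) = 1 := by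
    obtain ⟨j, -, hj⟩ := (Nat.dvd_prime_pow Fact.out).mp h3
    rcases Nat.eq_zero_or_pos j with h0 | h0
    · rw [hj, h0, pow_zero]
    · exfalso
      apply hK
      rw [hj] at h4
      exact dvd_trans (dvd_pow_self p h0.ne') h4
  have h6 : K ⊔ P ≤ K := Subgroup.relIndex_eq_one.mp h5
  exact le_trans le_sup_right h6

theorem fitting_quotient_le [Finite S] (π : Set ℕ) (H : Subgroup S)
    (hH : Cfsg.IsPiHall π H) [hRn : (piPrimeCore π S).Normal] :
    Cfsg.fittingSubgroup (S ⧸ piPrimeCore π S) ≤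
      ((Cfsg.fittingSubgroup ↥H).map H.subtype).map (QuotientGroup.mk' (piPrimeCore π S)) := by
  have hR2 := (piPrimeCore_spec (S := S) π).2
  rw [fittingSubgroup_eq_iSup_pCore]
  apply iSup_le
  intro p
  haveI : Fact (p : ℕ).Prime := ⟨p.2⟩
  haveI hPn : (Cfsg.pCore (p : ℕ) (S ⧸ piPrimeCore π S)).Normal :=
    Cfsg.Agent.Lib.Helper1.pCore_normal _
  have hPp : IsPGroup (p : ℕ) ↥(Cfsg.pCore (p : ℕ) (S ⧸ piPrimeCore π S)) := pCore_isPGroup _
  by_cases hpπ : (p : ℕ) ∈ π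
  · have hidx : ¬ (p : ℕ) ∣ (H.map (QuotientGroup.mk' (piPrimeCore π S))).index := by
      intro h
      apply hH.2 p p.2 hpπ
      exact dvd_trans h (Subgroup.index_map_dvd H (QuotientGroup.mk'_surjective _))
    have hPH : Cfsg.pCore (p : ℕ) (S ⧸ piPrimeCore π S) ≤
        H.map (QuotientGroup.mk' (piPrimeCore π S)) := normal_pgroup_le_of_index hPp hidx
    obtain ⟨N, hN⟩ : ∃ N : Subgroup S, N = (Cfsg.pCore (p : ℕ) (S ⧸ piPrimeCore π S)).comap
        (QuotientGroup.mk' (piPrimeCore π S)) := ⟨_, rfl⟩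
    haveI hNn : N.Normal := by rw [hN]; exact hPn.comap _
    have hYp : IsPGroup (p : ℕ) ↥(N.subgroupOf H) := by
      intro y
      have hy : QuotientGroup.mk' (piPrimeCore π S) ((y : ↥H) : S) ∈
          Cfsg.pCore (p : ℕ) (S ⧸ piPrimeCore π S) := by
        have h0 : ((y : ↥H) : S) ∈ N := Subgroup.mem_subgroupOf.mp y.2
        have hle : N ≤ (Cfsg.pCore (p : ℕ) (S ⧸ piPrimeCore π S)).comap
            (QuotientGroup.mk' (piPrimeCore π S)) := le_of_eq hN
        exact Subgroup.mem_comap.mp (hle h0)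
      obtain ⟨k, hk⟩ := hPp ⟨_, hy⟩
      refine ⟨k, ?_⟩
      have hk' : QuotientGroup.mk' (piPrimeCore π S) (((y : ↥H) : S) ^ (p : ℕ) ^ k) = 1 := by
        rw [map_pow]
        have := congrArg Subtype.val hk
        simpa using this
      have hmemR : ((y : ↥H) : S) ^ (p : ℕ) ^ k ∈ piPrimeCore π S :=
        (QuotientGroup.eq_one_iff _).mp hk'
      have hmemH : ((y : ↥H) : S) ^ (p : ℕ) ^ k ∈ H := H.pow_mem (y : ↥H).2 _
      have h1 := eq_one_of_mem_of_mem hH.1 hR2 hmemH hmemR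
      apply Subtype.ext
      apply Subtype.ext
      simpa using h1
    haveI : (N.subgroupOf H).Normal := Subgroup.normal_subgroupOf
    have hYF : N.subgroupOf H ≤ Cfsg.fittingSubgroup ↥H :=
      le_fittingSubgroup inferInstance hYp.isNilpotent
    intro g hg
    obtain ⟨h, hh, rfl⟩ := hPH hg
    refine ⟨h, ?_, rfl⟩
    refine ⟨⟨h, hh⟩, hYF ?_, rfl⟩
    rw [Subgroup.mem_subgroupOf, hN, Subgroup.mem_comap]
    exact hg
  · have hbot : Cfsg.pCore (p : ℕ) (S ⧸ piPrimeCore π S) = ⊥ := by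
      apply quotient_piPrime_trivial π _ hPn
      intro r hr hdvd
      obtain ⟨n, hn⟩ := IsPGroup.iff_card.mp hPp
      rw [hn] at hdvd
      have : r = (p : ℕ) := (Nat.prime_dvd_prime_iff_eq hr p.2).mp (hr.dvd_of_dvd_pow hdvd)
      rw [this]
      exact hpπ
    rw [hbot]
    exact bot_le

end Cfsg.Agent.Lib.Helper5.SCNCent
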