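import Cfsg.Agent.Lib.Helper5.SCNCent4

set_option autoImplicit false

namespace Cfsg.Agent.Lib.Helper5.SCNCent

open Cfsg Cfsg.Agent.Lib.Helper1
open scoped commutatorElement

universe u

variable {S : Type u} [Group S]

theorem scn_main [Finite S] [Group.IsSolvable S]
    (π : Set ℕ) (h2 : 2 ∉ π) (h3 : 3 ∉ π) (H : Subgroup S) (hH : Cfsg.IsPiHall π H)
    (A : Subgroup S) (hA : Cfsg.IsSCN ((Cfsg.fittingSubgroup H).map H.subtype) A) :
    ∃ D : Subgroup S, D ≤ Subgroup.centralizer (A : Set S) ∧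
      (∀ c ∈ Subgroup.centralizer (A : Set S), ∀ d ∈ D, c * d * c⁻¹ ∈ D) ∧
      A ⊓ D = ⊥ ∧ A ⊔ D = Subgroup.centralizer (A : Set S) ∧
      ∀ q : ℕ, q.Prime → q ∣ Nat.card D → q ∉ π := by
  obtain ⟨hAF, hFN, hFC⟩ := hA
  obtain ⟨F, hFdef⟩ : ∃ F : Subgroup S, F = (Cfsg.fittingSubgroup H).map H.subtype := ⟨_, rfl⟩
  rw [← hFdef] at hAF hFN hFC
  have hFH : F ≤ H := by rw [hFdef]; exact Subgroup.map_subtype_le _
  have hAH : A ≤ H := le_trans hAF hFH
  have hAC : A ≤ Subgroup.centralizer (A : Set S) := by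
    have : F ⊓ Subgroup.centralizer (A : Set S) ≤ Subgroup.centralizer (A : Set S) := inf_le_right
    rwa [hFC] at this
  obtain ⟨hRn, hR2⟩ := piPrimeCore_spec (S := S) π
  haveI := hRn
  obtain ⟨φ, hφ⟩ : ∃ φ : S →* S ⧸ piPrimeCore π S, φ = QuotientGroup.mk' (piPrimeCore π S) :=
    ⟨_, rfl⟩
  have hφker : ∀ g : S, φ g = 1 ↔ g ∈ piPrimeCore π S := by
    intro g; rw [hφ]; exact QuotientGroup.eq_one_iff g
  -- hypotheses of the core lemma in the quotient
  have hF' : Cfsg.fittingSubgroup (S ⧸ piPrimeCore π S) ≤ F.map φ := by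
    rw [hFdef, hφ]; exact fitting_quotient_le π H hH
  have hFN' : F.map φ ≤ Subgroup.normalizer ((A.map φ : Subgroup (S ⧸ piPrimeCore π S)) :
      Set (S ⧸ piPrimeCore π S)) :=
    le_trans (Subgroup.map_mono hFN) (Subgroup.le_normalizer_map φ)
  have hFC' : F.map φ ⊓ Subgroup.centralizer ((A.map φ : Subgroup (S ⧸ piPrimeCore π S)) :
      Set (S ⧸ piPrimeCore π S)) = A.map φ := by
    apply le_antisymm
    · rintro z ⟨⟨f, hf, rfl⟩, hz⟩
      refine ⟨f, ?_, rfl⟩
      have hfC : f ∈ Subgroup.centralizer (A : Set S) := by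
        rw [Subgroup.mem_centralizer_iff]
        intro a ha
        have h1 : φ a * φ f = φ f * φ a :=
          Subgroup.mem_centralizer_iff.mp hz (φ a) ⟨a, ha, rfl⟩
        have hn : f ∈ Subgroup.normalizer (A : Set S) := hFN hf
        have h4 : f * a * f⁻¹ ∈ A := (Subgroup.mem_normalizer_iff.mp hn a).mp ha
        have h5 : f * a * f⁻¹ * a⁻¹ ∈ A := A.mul_mem h4 (A.inv_mem ha)
        have h6 : φ (f * a * f⁻¹ * a⁻¹) = 1 := by
          rw [map_mul, map_mul, map_mul, map_inv, map_inv, ← h1]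
          group
        have h7 := eq_one_of_mem_of_mem hH.1 hR2 (hAH h5) ((hφker _).mp h6)
        calc a * f = (f * a * f⁻¹ * a⁻¹)⁻¹ * (f * a) := by group
          _ = f * a := by rw [h7]; group
      have : f ∈ F ⊓ Subgroup.centralizer (A : Set S) := ⟨hf, hfC⟩
      rwa [hFC] at this
    · apply le_inf (Subgroup.map_mono hAF)
      rintro _ ⟨a, ha, rfl⟩
      rw [Subgroup.mem_centralizer_iff]
      rintro _ ⟨b, hb, rfl⟩
      rw [← map_mul, ← map_mul]
      congr 1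
      exact Subgroup.mem_centralizer_iff.mp (hAC ha) b hb
  have hCL : Subgroup.centralizer ((A.map φ : Subgroup (S ⧸ piPrimeCore π S)) :
      Set (S ⧸ piPrimeCore π S)) ≤ A.map φ :=
    centralizer_le_of_scn π h2 h3
      (fun Nb hNb h => quotient_piPrime_trivial π Nb hNb h) (F.map φ) (A.map φ) hF' hFN' hFC'
  refine ⟨Subgroup.centralizer (A : Set S) ⊓ piPrimeCore π S, inf_le_left, ?_, ?_, ?_, ?_⟩
  · intro c hc d hd
    exact ⟨Subgroup.mul_mem _ (Subgroup.mul_mem _ hc hd.1) (Subgroup.inv_mem _ hc),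
      hRn.conj_mem d hd.2 c⟩
  · rw [eq_bot_iff]
    intro g hg
    rw [Subgroup.mem_bot]
    exact eq_one_of_mem_of_mem hH.1 hR2 (hAH hg.1) hg.2.2
  · apply le_antisymm (sup_le hAC inf_le_left)
    intro c hc
    have hφc : φ c ∈ Subgroup.centralizer ((A.map φ : Subgroup (S ⧸ piPrimeCore π S)) :
        Set (S ⧸ piPrimeCore π S)) := by
      rw [Subgroup.mem_centralizer_iff]
      rintro _ ⟨a, ha, rfl⟩
      rw [← map_mul, ← map_mul]
      congr 1
      exact Subgroup.mem_centralizer_iff.mp hc a ha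
    obtain ⟨a, ha, hac⟩ := hCL hφc
    have h1 : a⁻¹ * c ∈ piPrimeCore π S := by
      rw [← hφker, map_mul, map_inv, hac]; group
    have h2 : a⁻¹ * c ∈ Subgroup.centralizer (A : Set S) :=
      Subgroup.mul_mem _ (Subgroup.inv_mem _ (hAC ha)) hc
    have h3 : c = a * (a⁻¹ * c) := by group
    rw [h3]
    exact Subgroup.mul_mem_sup ha ⟨h2, h1⟩
  · intro q hq hdvd
    apply hR2 q hq
    exact dvd_trans hdvd (Subgroup.card_dvd_of_le inf_le_right)

end Cfsg.Agent.Lib.Helper5.SCNCent
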