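import Mathlib
import Cfsg.Agent.Lib.Helper18.SDM.Defs
import Cfsg.Agent.Lib.Helper18.SDM.Defs2
import Cfsg.Agent.Lib.Helper10.SDMR0c

/-!
# Project SDM (designer helper18), row E3 (second writer helper5): own-named copies
`sdme3h5_diag_step_row`, `sdme3h5_SgSet_subset_BQ` of the statements `diag_step_row`, `SgSet_subset_BQ`.
-/

set_option autoImplicit false
set_option linter.unusedSectionVars false
set_option linter.unusedVariables false

namespace Cfsg.Agent.Lib.Helper18.QBN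

open Cfsg.Agent.Lib.helper14.UBN QuadraticMap

universe u v

variable {F : Type u} [Field F] {W : Type v} [AddCommGroup W] [Module F W] {n : ℕ}

theorem sdme3h5_xv_ne_zero (i : Fin n) : (xv W i : QV F n W) ≠ 0 := by
  intro h
  have h1 : (xv W i : QV F n W).1 i = (0 : QV F n W).1 i := by rw [h]
  rw [xv_fst, if_pos rfl] at h1
  exact one_ne_zero h1

/-- the outer coordinates of `g x_{a'}` vanish when `a'` is not outer -/
theorem sdme3h5_outer_zero (hn : Even n) (Q₀ : QuadraticForm F W) (j : ℕ)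
    (a' : Fin n) (ha' : ¬ (rk a' < j ∨ rk (rv a') < j)) (g : GQ n Q₀) (hg : DiagOut j g) (i : Fin n)
    (hi : rk i < j ∨ rk (rv i) < j) : (le g (xv W a')).1 i = 0 := by
  have hi' : rk (rv i) < j ∨ rk (rv (rv i)) < j := by
    rw [rv_rv]
    exact hi.symm
  obtain ⟨c, hc⟩ := hg (rv i) hi'
  have hc0 : c ≠ 0 := by
    intro h0
    rw [h0, zero_smul] at hc
    have h1 : le g (xv W (rv i)) = le g 0 := by rw [hc, map_zero]
    exact sdme3h5_xv_ne_zero (rv i) ((le g).injective h1)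
  have h1 : polar (frQ n Q₀) (le g (xv W a')) (le g (xv W (rv i))) =
      polar (frQ n Q₀) (xv W a') (xv W (rv i)) := le_polar g _ _
  rw [hc, polar_smul_right, polar_xv hn, polar_xv hn, rv_rv, xv_fst, smul_eq_mul] at h1
  have hne : i ≠ a' := by
    intro e
    rw [e] at hi
    exact ha' hi
  rw [if_neg hne] at h1
  rcases mul_eq_zero.mp h1 with h | h
  · exact absurd h hc0
  · exact h

/-- the Siegel element clearing the middle part -/
theorem sdme3h5_apply (hn : Even n) (Q₀ : QuadraticForm F W) (a : Fin n) (z : QV F n W) (α β : F)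
    (hβ : β ≠ 0) (hz : z.1 (rv a) = 0) (hy : (β⁻¹ • z).1 (rv a) = 0) :
    ∃ γ : F, le (sgX hn Q₀ a (β⁻¹ • z) hy) (z + α • xv W a + β • xv W (rv a)) =
      γ • xv W a + β • xv W (rv a) := by
  have hne : rv a ≠ a := rv_ne_of_even hn a
  have hcoef : (z + α • xv W a + β • xv W (rv a)).1 (rv a) = β := by
    rw [Prod.fst_add, Prod.fst_add, Pi.add_apply, Pi.add_apply, hz, Prod.smul_fst, Prod.smul_fst,
      Pi.smul_apply, Pi.smul_apply, xv_fst, xv_fst, if_neg hne, if_pos rfl, smul_zero, zero_add,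
      zero_add, smul_eq_mul, mul_one]
  refine ⟨α + polar (frQ n Q₀) (z + α • xv W a + β • xv W (rv a)) (β⁻¹ • z) -
    β * frQ n Q₀ (β⁻¹ • z), ?_⟩
  rw [sgX_apply, hcoef, smul_add, smul_smul, mul_inv_cancel₀ hβ, one_smul, smul_smul]
  module

theorem sdme3h5_sing (hn : Even n) (Q₀ : QuadraticForm F W) (a : Fin n) (γ β : F) :
    frQ n Q₀ (γ • xv W a + β • xv W (rv a)) = γ * β := by
  rw [QuadraticMap.map_add (⇑(frQ n Q₀)) (γ • xv W a) (β • xv W (rv a)), QuadraticMap.map_smul,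
    QuadraticMap.map_smul, frQ_xv Q₀ hn,
    frQ_xv Q₀ hn, polar_smul_left, polar_smul_right, polar_xv hn, rv_rv, xv_fst, if_pos rfl]
  simp

theorem sdme3h5_SgSet_subset_BQ (hn : Even n) (Q₀ : QuadraticForm F W) (h : GQ n Q₀)
    (hh : h ∈ SgSet hn Q₀) : h ∈ BQ n Q₀ := by
  obtain ⟨a, y, hy, ha, h1, h2, rfl⟩ := hh
  exact sgX_mem_BQ hn Q₀ a y hy ha h2

theorem sdme3h5_diag_step_row (hn : Even n) (Q₀ : QuadraticForm F W)
    (j : ℕ) (hj : j < n / 2) (a : Fin n) (ha : rk a = j) (g : GQ n Q₀) (hg : DiagOut j g)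
    (hc : ∃ c : F, le g (xv W a) = c • xv W a) :
    ∃ h ∈ SgSet hn Q₀, DiagOut (j + 1) (h * g) := by
  classical
  obtain ⟨c, hc⟩ := hc
  have hsum := rk_add_rv a
  have hm : n = n / 2 + n / 2 := by
    obtain ⟨m, hm⟩ := hn
    omega
  have halt : rk a < rk (rv a) := by omega
  have hane : ¬ (rk a < j ∨ rk (rv a) < j) := by omega
  have hrane : ¬ (rk (rv a) < j ∨ rk (rv (rv a)) < j) := by
    rw [rv_rv]
    omega
  -- the coefficient `β`
  have hβ : c * (le g (xv W (rv a))).1 (rv a) = 1 := by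
    have h1 : polar (frQ n Q₀) (le g (xv W (rv a))) (le g (xv W a)) =
        polar (frQ n Q₀) (xv W (rv a)) (xv W a) := le_polar g _ _
    rw [hc, polar_smul_right, polar_xv hn, polar_xv hn, xv_fst, if_pos rfl, smul_eq_mul] at h1
    exact h1
  have hβ0 : (le g (xv W (rv a))).1 (rv a) ≠ 0 := by
    intro h
    rw [h, mul_zero] at hβ
    exact zero_ne_one hβ
  have hvout := sdme3h5_outer_zero hn Q₀ j (rv a) hrane g hg
  obtain ⟨v, hv⟩ : ∃ v : QV F n W, v = le g (xv W (rv a)) := ⟨_, rfl⟩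
  rw [← hv] at hβ hβ0 hvout
  obtain ⟨z, hzdef⟩ : ∃ z : QV F n W,
      z = (fun i => if rk a < rk i ∧ rk i < rk (rv a) then v.1 i else 0, v.2) := ⟨_, rfl⟩
  have hz1 : ∀ i, z.1 i = if rk a < rk i ∧ rk i < rk (rv a) then v.1 i else 0 := by
    intro i
    rw [hzdef]
  have hz2 : z.2 = v.2 := by rw [hzdef]
  have hzra : z.1 (rv a) = 0 := by
    rw [hz1, if_neg]
    omega
  have hvdec : v = z + v.1 a • xv W a + v.1 (rv a) • xv W (rv a) := by
    apply Prod.ext
    · funext i
      rw [Prod.fst_add, Prod.fst_add, Pi.add_apply, Pi.add_apply, Prod.smul_fst, Prod.smul_fst,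
        Pi.smul_apply, Pi.smul_apply, xv_fst, xv_fst, hz1, smul_eq_mul, smul_eq_mul]
      by_cases h1 : i = a
      · rw [h1, if_neg (by omega), if_pos rfl, if_neg (rv_ne_of_even hn a).symm]
        ring
      · by_cases h2 : i = rv a
        · rw [h2, if_neg (by omega), if_neg (rv_ne_of_even hn a), if_pos rfl]
          ring
        · rw [if_neg h1, if_neg h2, mul_zero, mul_zero, add_zero, add_zero]
          by_cases h3 : rk a < rk i ∧ rk i < rk (rv a)
          · rw [if_pos h3]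
          · rw [if_neg h3]
            apply hvout
            have h4 : rk i ≠ rk a := fun e => h1 (rk_injective e)
            have h5 : rk i ≠ rk (rv a) := fun e => h2 (rk_injective e)
            have h6 := rk_add_rv i
            omega
    · rw [Prod.snd_add, Prod.snd_add, Prod.smul_snd, Prod.smul_snd, xv_snd, xv_snd, smul_zero,
        smul_zero, add_zero, add_zero, hz2]
  have hy : ((v.1 (rv a))⁻¹ • z).1 (rv a) = 0 := by
    rw [Prod.smul_fst, Pi.smul_apply, hzra, smul_zero]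
  have hy1 : ∀ i : Fin n, rk i ≤ rk a → ((v.1 (rv a))⁻¹ • z).1 i = 0 := by
    intro i hi
    rw [Prod.smul_fst, Pi.smul_apply, hz1, if_neg (by omega), smul_zero]
  have hy2 : ∀ i : Fin n, rk (rv a) ≤ rk i → ((v.1 (rv a))⁻¹ • z).1 i = 0 := by
    intro i hi
    rw [Prod.smul_fst, Pi.smul_apply, hz1, if_neg (by omega), smul_zero]
  refine ⟨sgX hn Q₀ a ((v.1 (rv a))⁻¹ • z) hy, ⟨a, _, hy, halt, hy1, hy2, rfl⟩, ?_⟩
  -- the image of `v`
  obtain ⟨γ, hγ⟩ := sdme3h5_apply hn Q₀ a z (v.1 a) (v.1 (rv a)) hβ0 hzra hy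
  rw [← hvdec] at hγ
  have hγ0 : γ = 0 := by
    have hQ : frQ n Q₀ (le (sgX hn Q₀ a ((v.1 (rv a))⁻¹ • z) hy) v) = 0 := by
      rw [le_Q, hv, le_Q, frQ_xv Q₀ hn]
    rw [hγ, sdme3h5_sing hn Q₀ a] at hQ
    rcases mul_eq_zero.mp hQ with h | h
    · exact h
    · exact absurd h hβ0
  rw [hγ0, zero_smul, zero_add] at hγ
  -- the images of the frame vectors
  have hfix : ∀ i : Fin n, i ≠ rv a → ((v.1 (rv a))⁻¹ • z).1 (rv i) = 0 →
      le (sgX hn Q₀ a ((v.1 (rv a))⁻¹ • z) hy) (xv W i) = xv W i := by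
    intro i hi h0
    rw [sgX_apply, polar_comm, polar_xv hn, h0, zero_smul, add_zero, xv_fst,
      if_neg (fun e => hi e.symm), zero_smul, sub_zero]
  intro i hi
  by_cases h1 : i = a
  · refine ⟨c, ?_⟩
    rw [h1, le_mul, hc, map_smul, hfix a (rv_ne_of_even hn a).symm hy]
  · by_cases h2 : i = rv a
    · refine ⟨v.1 (rv a), ?_⟩
      rw [h2, le_mul, ← hv, hγ]
    · have hi' : rk i < j ∨ rk (rv i) < j := by
        have h4 : rk i ≠ rk a := fun e => h1 (rk_injective e)
        have h5 : rk (rv i) ≠ rk a := fun e => h2 (by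
          have := rk_injective e
          rw [← this, rv_rv])
        omega
      obtain ⟨d, hd⟩ := hg i hi'
      refine ⟨d, ?_⟩
      rw [le_mul, hd, map_smul, hfix i h2]
      rcases hi' with h | h
      · apply hy2
        have h6 := rk_add_rv i
        omega
      · apply hy1
        omega

end Cfsg.Agent.Lib.Helper18.QBN
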