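import Mathlib
import Cfsg.Agent.Lib.Helper18.SDM.Defs
import Cfsg.Agent.Lib.Helper18.SDM.Defs2
import Cfsg.Agent.Lib.Helper20.SDMB0
import Cfsg.Agent.Lib.Helper20.SDMB1
import Cfsg.Agent.Lib.Helper22.SDMB4

/-!
# Project SDM (designer helper18), row U1 (second writer helper5): own-named copies `sdmu1h5_*`
of `isUniQ_one`, `isUniQ_mul`, `isUniQ_inv`, `isUniQ_conj`.
For `g ∈ B`: `IsUniQ g ↔ (g - 1) V_{j+1} ≤ V_j (j < m) ∧ (g - 1) V_m^⊥ ≤ V_m`.
-/

set_option autoImplicit false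
set_option linter.unusedSectionVars false
set_option linter.unusedVariables false

namespace Cfsg.Agent.Lib.Helper18.QBN

open Cfsg.Agent.Lib.helper14.UBN QuadraticMap

universe u v

variable {F : Type u} [Field F] {W : Type v} [AddCommGroup W] [Module F W] {n : ℕ}

/-- `g - 1` is strictly upper triangular with respect to the flag `V_j`, `V_m^⊥` -/
def sdmu1h5_N {Q₀ : QuadraticForm F W} (g : GQ n Q₀) : Prop :=
  (∀ j : ℕ, j < n / 2 → ∀ v ∈ Vfl F n W (j + 1), le g v - v ∈ Vfl F n W j) ∧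
  ∀ v : QV F n W, (∀ l : Fin n, rk (rv l) < n / 2 → v.1 l = 0) → le g v - v ∈ Vfl F n W (n / 2)

theorem sdmu1h5_N_of_uni (hn : Even n) {Q₀ : QuadraticForm F W} (g : GQ n Q₀) (hg : g ∈ BQ n Q₀)
    (hg1 : IsUniQ g) : sdmu1h5_N g := by
  classical
  have hm : n = n / 2 + n / 2 := by
    obtain ⟨m, hm⟩ := hn
    omega
  constructor
  · intro j hj v hv
    obtain ⟨c, hc⟩ : ∃ c : Fin n → F,
        v = ∑ i ∈ Finset.univ.filter (fun i : Fin n => rk i < j + 1), c i • xv W i :=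
      ⟨fun i => v.1 i, (mem_Vfl_iff_sum (j + 1) v).mp hv⟩
    rw [hc, map_sum, ← Finset.sum_sub_distrib]
    apply Submodule.sum_mem
    intro l hl
    have hl' : rk l < j + 1 := (Finset.mem_filter.mp hl).2
    rw [map_smul, ← smul_sub]
    apply Submodule.smul_mem
    have h1 : le g (xv W l) - xv W l ∈ Vfl F n W (rk l + 1) :=
      Submodule.sub_mem _ ((isUpQ_iff g).mp hg.1 l (by omega)) (xv_mem_Vfl l _ (Nat.lt_succ_self _))
    have h2 : le g (xv W l) - xv W l ∈ Vfl F n W (rk l) := by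
      apply mem_Vfl_of_succ h1
      intro i' hi'
      rw [rk_injective hi', Prod.fst_sub, Pi.sub_apply, hg1.1 l (by omega), xv_fst, if_pos rfl,
        sub_self]
    exact Vfl_mono (by omega) h2
  · intro v hv
    have hz : v - wv F n v.2 ∈ Vfl F n W (n / 2) := by
      rw [mem_Vfl]
      refine ⟨by rw [Prod.snd_sub, wv_snd, sub_self], fun i hi => ?_⟩
      rw [Prod.fst_sub, Pi.sub_apply, wv_fst, sub_zero]
      apply hv
      have h2 := rk_add_rv i
      have h3 := rk_lt i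
      omega
    have hgz : le g (v - wv F n v.2) ∈ Vfl F n W (n / 2) := hg.1 _ le_rfl _ hz
    have ht : le g (wv F n v.2) - wv F n v.2 ∈ Vfl F n W (n / 2) := by
      rw [mem_Vfl]
      refine ⟨by rw [Prod.snd_sub, wv_snd, hg1.2, sub_self], fun i hi => ?_⟩
      rw [Prod.fst_sub, Pi.sub_apply, wv_fst, sub_zero]
      apply BQ_perp hn g hg (n / 2) le_rfl (wv F n v.2) (fun _ _ => rfl)
      have h2 := rk_add_rv i
      have h3 := rk_lt i
      omega
    have e : le g v - v = (le g (v - wv F n v.2) - (v - wv F n v.2)) +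
        (le g (wv F n v.2) - wv F n v.2) := by
      rw [map_sub]
      abel
    rw [e]
    exact Submodule.add_mem _ (Submodule.sub_mem _ hgz hz) ht

theorem sdmu1h5_uni_of_N {Q₀ : QuadraticForm F W} (g : GQ n Q₀) (hN : sdmu1h5_N g) : IsUniQ g := by
  constructor
  · intro i hi
    have h1 := hN.1 (rk i) hi (xv W i) (xv_mem_Vfl i _ (Nat.lt_succ_self _))
    have h2 := ((mem_Vfl _ _).mp h1).2 i le_rfl
    rw [Prod.fst_sub, Pi.sub_apply, xv_fst, if_pos rfl, sub_eq_zero] at h2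
    exact h2
  · intro w
    have h1 := hN.2 (wv F n w) (fun _ _ => rfl)
    have h2 := ((mem_Vfl _ _).mp h1).1
    rw [Prod.snd_sub, wv_snd, sub_eq_zero] at h2
    exact h2

theorem sdmu1h5_N_mul {Q₀ : QuadraticForm F W} (g h : GQ n Q₀) (hg : g ∈ BQ n Q₀)
    (hgN : sdmu1h5_N g) (hhN : sdmu1h5_N h) : sdmu1h5_N (g * h) := by
  constructor
  · intro j hj v hv
    have e : le (g * h) v - v = le g (le h v - v) + (le g v - v) := by
      rw [le_mul, map_sub]
      abel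
    rw [e]
    exact Submodule.add_mem _ (hg.1 j (le_of_lt hj) _ (hhN.1 j hj v hv)) (hgN.1 j hj v hv)
  · intro v hv
    have e : le (g * h) v - v = le g (le h v - v) + (le g v - v) := by
      rw [le_mul, map_sub]
      abel
    rw [e]
    exact Submodule.add_mem _ (hg.1 _ le_rfl _ (hhN.2 v hv)) (hgN.2 v hv)

theorem sdmu1h5_N_inv {Q₀ : QuadraticForm F W} (g : GQ n Q₀) (hg : g ∈ BQ n Q₀)
    (hgN : sdmu1h5_N g) : sdmu1h5_N g⁻¹ := by
  constructor
  · intro j hj v hv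
    have e : le g⁻¹ v - v = -(le g⁻¹ (le g v - v)) := by
      rw [map_sub, le_inv_apply']
      abel
    rw [e]
    exact Submodule.neg_mem _ (hg.2 j (le_of_lt hj) _ (hgN.1 j hj v hv))
  · intro v hv
    have e : le g⁻¹ v - v = -(le g⁻¹ (le g v - v)) := by
      rw [map_sub, le_inv_apply']
      abel
    rw [e]
    exact Submodule.neg_mem _ (hg.2 _ le_rfl _ (hgN.2 v hv))

theorem sdmu1h5_N_conj (hn : Even n) {Q₀ : QuadraticForm F W} (b g : GQ n Q₀) (hb : b ∈ BQ n Q₀)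
    (hgN : sdmu1h5_N g) : sdmu1h5_N (b * g * b⁻¹) := by
  have hbi : b⁻¹ ∈ BQ n Q₀ := (BQ n Q₀).inv_mem hb
  constructor
  · intro j hj v hv
    have e : le (b * g * b⁻¹) v - v = le b (le g (le b⁻¹ v) - le b⁻¹ v) := by
      rw [le_mul, le_mul, map_sub, le_inv_apply]
    rw [e]
    exact hb.1 j (le_of_lt hj) _ (hgN.1 j hj _ (hb.2 (j + 1) hj v hv))
  · intro v hv
    have e : le (b * g * b⁻¹) v - v = le b (le g (le b⁻¹ v) - le b⁻¹ v) := by
      rw [le_mul, le_mul, map_sub, le_inv_apply]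
    rw [e]
    exact hb.1 _ le_rfl _ (hgN.2 _ (BQ_perp hn b⁻¹ hbi (n / 2) le_rfl v hv))

theorem sdmu1h5_isUniQ_one {Q₀ : QuadraticForm F W} : IsUniQ (1 : GQ n Q₀) := by
  constructor
  · intro i _
    rw [le_one, xv_fst, if_pos rfl]
  · intro w
    rw [le_one, wv_snd]

theorem sdmu1h5_isUniQ_mul (hn : Even n) {Q₀ : QuadraticForm F W} (g h : GQ n Q₀)
    (hg : g ∈ BQ n Q₀) (hh : h ∈ BQ n Q₀) (hg1 : IsUniQ g) (hh1 : IsUniQ h) : IsUniQ (g * h) :=
  sdmu1h5_uni_of_N _ (sdmu1h5_N_mul g h hg (sdmu1h5_N_of_uni hn g hg hg1)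
    (sdmu1h5_N_of_uni hn h hh hh1))

theorem sdmu1h5_isUniQ_inv (hn : Even n) {Q₀ : QuadraticForm F W} (g : GQ n Q₀) (hg : g ∈ BQ n Q₀)
    (hg1 : IsUniQ g) : IsUniQ g⁻¹ :=
  sdmu1h5_uni_of_N _ (sdmu1h5_N_inv g hg (sdmu1h5_N_of_uni hn g hg hg1))

theorem sdmu1h5_isUniQ_conj (hn : Even n) {Q₀ : QuadraticForm F W} (b g : GQ n Q₀)
    (hb : b ∈ BQ n Q₀) (hg : g ∈ BQ n Q₀) (hg1 : IsUniQ g) : IsUniQ (b * g * b⁻¹) :=
  sdmu1h5_uni_of_N _ (sdmu1h5_N_conj hn b g hb (sdmu1h5_N_of_uni hn g hg hg1))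

end Cfsg.Agent.Lib.Helper18.QBN
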