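import Mathlib
import Cfsg.Agent.Lib.Helper20.HHExtD

set_option autoImplicit false

namespace Cfsg.Agent.Lib.Helper5.SG

open Cfsg.Agent.Lib.Helper20.HHExt

section orbits

variable {α : Type*}

theorem pow_fix_of_fix' (σ : Equiv.Perm α) (q : α) (h : σ q = q) (i : ℕ) : (σ ^ i) q = q :=
  pow_fix_of_fix σ q h i

theorem fix_of_pow_fix_pp (σ : Equiv.Perm α) (p b : ℕ) (hp : p.Prime) (hb : 1 ≤ b)
    (hσ : σ ^ (p ^ b) = 1) (q : α) (d : ℕ) (hd0 : 0 < d) (hd : d < p ^ b)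
    (h : (σ ^ d) q = q) : (σ ^ (p ^ (b - 1))) q = q := by
  have hR : 0 < p ^ b := pow_pos hp.pos b
  have hglt : Nat.gcd d (p ^ b) < p ^ b :=
    lt_of_le_of_lt (Nat.le_of_dvd hd0 (Nat.gcd_dvd_left d (p ^ b))) hd
  obtain ⟨m, -, hm⟩ := Nat.exists_mul_mod_eq_gcd hglt
  obtain ⟨e, he, hge⟩ := (Nat.dvd_prime_pow hp).mp (Nat.gcd_dvd_right d (p ^ b))
  have helt : e < b := by
    by_contra hcon
    have : e = b := le_antisymm he (not_lt.mp hcon)
    rw [hge, this] at hglt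
    exact lt_irrefl _ hglt
  have h1 : ((σ ^ d) ^ m) q = q := pow_fix_of_fix (σ ^ d) q h m
  have h2 : (σ ^ d) ^ m = σ ^ (p ^ e) := by
    rw [← pow_mul, ← Nat.div_add_mod (d * m) (p ^ b), hm, hge, pow_add, pow_mul, hσ, one_pow,
      one_mul]
  rw [h2] at h1
  have h3 : ((σ ^ (p ^ e)) ^ (p ^ (b - 1 - e))) q = q := pow_fix_of_fix _ q h1 _
  have h4 : (σ ^ (p ^ e)) ^ (p ^ (b - 1 - e)) = σ ^ (p ^ (b - 1)) := by
    rw [← pow_mul, ← pow_add]
    congr 2
    omega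
  rw [h4] at h3
  exact h3

variable [Fintype α] [DecidableEq α]

theorem orbit_count_pp (σ : Equiv.Perm α) (p b : ℕ) (hp : p.Prime) (hb : 1 ≤ b)
    (hσ : σ ^ (p ^ b) = 1) (q0 : α) (hq0 : σ q0 = q0)
    (hfix : ∀ q, (σ ^ (p ^ (b - 1))) q = q → q = q0) :
    p ^ b * (Nat.card (Quotient (Equiv.Perm.SameCycle.setoid σ)) - 1) + 1 = Fintype.card α := by
  classical
  set R := p ^ b with hRdef
  have hRpos : 0 < R := pow_pos hp.pos b
  set Ω := Quotient (Equiv.Perm.SameCycle.setoid σ) with hΩ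
  have : Fintype Ω := Fintype.ofFinite Ω
  set ω0 : Ω := Quotient.mk _ q0 with hω0
  have hrep : ∀ ω : Ω, Quotient.mk (Equiv.Perm.SameCycle.setoid σ) ω.out = ω :=
    fun ω => Quotient.out_eq ω
  have hq0i : ∀ i : ℕ, (σ ^ i) q0 = q0 := pow_fix_of_fix σ q0 hq0
  have hout : ∀ ω : Ω, ω ≠ ω0 → ω.out ≠ q0 := by
    intro ω hω h
    apply hω
    rw [← hrep ω, h]
  have hfix1 : ∀ u, σ u = u → u = q0 := by
    intro u hu
    exact hfix u (pow_fix_of_fix σ u hu _)
  let F : Fin R × {ω : Ω // ω ≠ ω0} → {q : α // q ≠ q0} := fun iω =>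
    ⟨(σ ^ (iω.1 : ℕ)) iω.2.1.out, by
      intro h
      apply hout iω.2.1 iω.2.2
      have h2 : (σ ^ (iω.1 : ℕ)) iω.2.1.out = (σ ^ (iω.1 : ℕ)) q0 := by rw [h, hq0i]
      exact (σ ^ (iω.1 : ℕ)).injective h2⟩
  have hkey : ∀ (i j : ℕ) (u : α), i ≤ j → j < R → u ≠ q0 →
      (σ ^ i) u = (σ ^ j) u → i = j := by
    intro i j u hij hj hu h
    by_contra hne
    have hlt : i < j := lt_of_le_of_ne hij hne
    apply hu
    apply hfix
    apply fix_of_pow_fix_pp σ p b hp hb hσ u (j - i) (by omega) (by omega)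
    have h1 : (σ ^ j) u = (σ ^ i) ((σ ^ (j - i)) u) := by
      rw [← Equiv.Perm.mul_apply, ← pow_add]
      congr 2
      omega
    rw [h1] at h
    exact ((σ ^ i).injective h).symm
  have hF : Function.Injective F := by
    rintro ⟨i, ω, hω⟩ ⟨j, ω', hω'⟩ h
    have h1 : (σ ^ (i : ℕ)) ω.out = (σ ^ (j : ℕ)) ω'.out := congrArg Subtype.val h
    have hsame : σ.SameCycle ω.out ω'.out := by
      refine ⟨(i : ℤ) - (j : ℤ), ?_⟩
      rw [sub_eq_neg_add, zpow_add, Equiv.Perm.mul_apply, zpow_natCast, h1, zpow_neg,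
        zpow_natCast]
      exact (σ ^ (j : ℕ)).symm_apply_apply _
    have hωω' : ω = ω' := by
      rw [← hrep ω, ← hrep ω']
      exact Quotient.sound hsame
    subst hωω'
    have hu : ω.out ≠ q0 := hout ω hω
    have hij : (i : ℕ) = (j : ℕ) := by
      rcases le_total (i : ℕ) (j : ℕ) with hle | hle
      · exact hkey i j ω.out hle j.2 hu h1
      · exact (hkey j i ω.out hle i.2 hu h1.symm).symm
    have : i = j := Fin.ext hij
    subst this
    rfl
  have hFs : Function.Surjective F := by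
    rintro ⟨q, hq⟩
    set ω : Ω := Quotient.mk _ q with hωdef
    have hω : ω ≠ ω0 := by
      intro h
      have hsame : σ.SameCycle q q0 := Quotient.exact h
      obtain ⟨i, hi⟩ := hsame.symm
      apply hq
      rw [← hi]
      have : (σ ^ i) q0 = q0 := by
        have h2 : ∀ n : ℕ, (σ ^ n) q0 = q0 := hq0i
        rcases Int.eq_nat_or_neg i with ⟨n, rfl | rfl⟩
        · rw [zpow_natCast]; exact h2 n
        · rw [zpow_neg, zpow_natCast, Equiv.Perm.inv_eq_iff_eq]; exact (h2 n).symm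
      exact this
    have hsame : σ.SameCycle ω.out q :=
      Quotient.exact (s := Equiv.Perm.SameCycle.setoid σ) (Quotient.out_eq _)
    obtain ⟨i, hi⟩ := hsame.exists_nat_pow_eq
    refine ⟨(⟨i % R, Nat.mod_lt _ hRpos⟩, ⟨ω, hω⟩), ?_⟩
    apply Subtype.ext
    show (σ ^ (i % R)) ω.out = q
    rw [← pow_eq_pow_mod i hσ]
    exact hi
  have hcard := Fintype.card_of_bijective ⟨hF, hFs⟩
  rw [Fintype.card_prod, Fintype.card_fin, Fintype.card_subtype_compl, Fintype.card_subtype_compl,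
    Fintype.card_subtype_eq, Fintype.card_subtype_eq] at hcard
  rw [Nat.card_eq_fintype_card]
  have hpos : 0 < Fintype.card α := Fintype.card_pos_iff.mpr ⟨q0⟩
  omega

end orbits

theorem numeric_core_pp (n p b F ω : ℕ) (hp : p.Prime) (hp2 : p ≠ 2) (hb : 1 ≤ b) (hn : n ≠ 1)
    (ha : n ^ 2 ≤ (p ^ b - 1) * F) (hb' : F ≤ ω) (hc : p ^ b * (ω - 1) + 1 = n ^ 2) :
    n = p ^ b - 1 := by
  have hr2 : 2 ≤ p ^ b := by
    calc 2 ≤ p := hp.two_le
      _ = p ^ 1 := (pow_one p).symm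
      _ ≤ p ^ b := Nat.pow_le_pow_right hp.pos hb
  obtain ⟨s, hs⟩ : ∃ s, p ^ b = s + 1 := ⟨p ^ b - 1, by omega⟩
  rw [hs] at ha hc ⊢
  rw [Nat.add_sub_cancel] at ha ⊢
  have hω : 1 ≤ ω := by
    by_contra h
    have : ω = 0 := by omega
    subst this
    have : F = 0 := by omega
    subst this
    rw [mul_zero] at ha
    simp at hc
    have : n = 0 := by
      rcases Nat.eq_zero_or_pos n with h0 | h0
      · exact h0
      · have : 0 < n ^ 2 := pow_pos h0 2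
        omega
    subst this
    simp at hc
  obtain ⟨t, rfl⟩ : ∃ t, ω = t + 1 := ⟨ω - 1, by omega⟩
  rw [Nat.add_sub_cancel] at hc
  have h1 : n ^ 2 ≤ s * (t + 1) := le_trans ha (Nat.mul_le_mul_left s hb')
  have h2 : t + 1 ≤ s := by nlinarith
  have h3 : n ^ 2 ≤ s * s := le_trans h1 (Nat.mul_le_mul_left s h2)
  have h4 : n ≤ s := by nlinarith
  have hn0 : 1 ≤ n := by
    by_contra h
    have : n = 0 := by omega
    subst this
    simp at hc
  have h5 : (s + 1) ∣ n ^ 2 - 1 := ⟨t, by omega⟩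
  have h6 : n ^ 2 - 1 = (n - 1) * (n + 1) := by
    obtain ⟨m, rfl⟩ : ∃ m, n = m + 1 := ⟨n - 1, by omega⟩
    rw [Nat.add_sub_cancel]
    have : (m + 1) ^ 2 = m * (m + 1 + 1) + 1 := by ring
    rw [this, Nat.add_sub_cancel]
  rw [h6, ← hs] at h5
  have hcases : ¬ p ∣ (n - 1) ∨ ¬ p ∣ (n + 1) := by
    by_contra hcon
    push Not at hcon
    obtain ⟨hd1, hd2⟩ := hcon
    have h7 : p ∣ (n + 1) - (n - 1) := Nat.dvd_sub hd2 hd1
    have h8 : (n + 1) - (n - 1) = 2 := by omega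
    rw [h8] at h7
    exact hp2 ((Nat.prime_dvd_prime_iff_eq hp Nat.prime_two).mp h7)
  rcases hcases with h7 | h7
  · have hcop : Nat.Coprime (p ^ b) (n - 1) :=
      Nat.Coprime.pow_left b ((Nat.Prime.coprime_iff_not_dvd hp).mpr h7)
    have h8 : p ^ b ∣ n + 1 := hcop.dvd_of_dvd_mul_left h5
    have := Nat.le_of_dvd (by omega) h8
    omega
  · have hcop : Nat.Coprime (p ^ b) (n + 1) :=
      Nat.Coprime.pow_left b ((Nat.Prime.coprime_iff_not_dvd hp).mpr h7)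
    have h8 : p ^ b ∣ n - 1 := hcop.dvd_of_dvd_mul_right h5
    have : n - 1 = 0 := Nat.eq_zero_of_dvd_of_lt h8 (by omega)
    omega

end Cfsg.Agent.Lib.Helper5.SG
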