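import Mathlib
import Cfsg.Agent.Lib.Helper5.SG2

set_option autoImplicit false

namespace Cfsg.Agent.Lib.Helper5.SG

open Module Cfsg.Agent.Lib.Helper20.HHExt

section descent

variable {K : Type*} [Field K] {W : Type*} [AddCommGroup W] [Module K W]
variable {Γ : Type*} [Group Γ]

theorem sum_range_mul_reindex {M : Type*} [AddCommMonoid M] (f : ℕ → M) (s k : ℕ) :
    ∑ m ∈ Finset.range (s * k), f m =
      ∑ i ∈ Finset.range s, ∑ j ∈ Finset.range k, f (i + s * j) := by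
  induction k with
  | zero => simp
  | succ k ih =>
    rw [Nat.mul_succ, Finset.sum_range_add, ih]
    rw [← Finset.sum_add_distrib]
    apply Finset.sum_congr rfl
    intro i _
    rw [Finset.sum_range_succ]
    congr 2
    ring

theorem pow_conj_mem' (T : Subgroup Γ) (y : Γ) (hyT : ∀ t ∈ T, y * t * y⁻¹ ∈ T) (i : ℕ) :
    ∀ t ∈ T, y ^ i * t * (y ^ i)⁻¹ ∈ T := by
  induction i with
  | zero => intro t ht; simpa using ht
  | succ n ih =>
    intro t ht
    have : y ^ (n + 1) * t * (y ^ (n + 1))⁻¹ = y * (y ^ n * t * (y ^ n)⁻¹) * y⁻¹ := by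
      rw [pow_succ']
      group
    rw [this]
    exact hyT _ (ih t ht)

theorem pow_conj_mem_inv (T : Subgroup Γ) (y : Γ) {N : ℕ} (hN : 0 < N) (hy : y ^ N = 1)
    (hyT : ∀ t ∈ T, y * t * y⁻¹ ∈ T) (i : ℕ) :
    ∀ t ∈ T, (y ^ i)⁻¹ * t * y ^ i ∈ T := by
  intro t ht
  have h1 : (y ^ i)⁻¹ = y ^ ((N - 1) * i) := by
    apply inv_eq_of_mul_eq_one_right
    rw [← pow_add]
    have : i + (N - 1) * i = N * i := by
      obtain ⟨m, rfl⟩ : ∃ m, N = m + 1 := ⟨N - 1, by omega⟩
      rw [Nat.add_sub_cancel]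
      ring
    rw [this, pow_mul, hy, one_pow]
  have h2 := pow_conj_mem' T y hyT ((N - 1) * i) t ht
  rw [← h1] at h2
  rw [inv_inv] at h2
  exact h2

theorem descent (ρ : Γ →* End K W) (T : Subgroup Γ) (y : Γ) {p a : ℕ} (hp : p.Prime)
    (hy : y ^ (p ^ a) = 1) (hyT : ∀ t ∈ T, y * t * y⁻¹ ∈ T)
    (χ : Γ → K) (hχmul : ∀ t ∈ T, ∀ t' ∈ T, χ (t * t') = χ t * χ t') (hχ1 : χ 1 = 1)
    (F : Submodule K W)
    (hsum : ∀ u ∈ F, ∑ j ∈ Finset.range (p ^ a), (ρ y ^ j) u = 0)
    (E : Submodule K W) (hE : ∀ w, w ∈ E ↔ ∀ t ∈ T, ρ t w = χ t • w) (hEF : E ≤ F) :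
    ∃ e, e ≤ a ∧ (∀ t ∈ T, χ (y ^ (p ^ e) * t * (y ^ (p ^ e))⁻¹) = χ t) ∧
      (∀ u ∈ E, ∑ j ∈ Finset.range (p ^ (a - e)), (ρ (y ^ (p ^ e)) ^ j) u = 0) := by
  classical
  have hNpos : 0 < p ^ a := pow_pos hp.pos a
  have hinvT := pow_conj_mem_inv T y hNpos hy hyT
  have hfwdT := pow_conj_mem' T y hyT
  -- invariance predicate
  set Inv : ℕ → Prop := fun t => ∀ g ∈ T, χ ((y ^ t)⁻¹ * g * y ^ t) = χ g with hInv
  have hInvN : Inv (p ^ a) := by
    intro g _
    rw [hy]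
    simp
  have hInv_add : ∀ t t', Inv t → Inv t' → Inv (t + t') := by
    intro t t' ht ht' g hg
    have h1 := ht _ (hinvT t' g hg)
    have h2 : (y ^ (t + t'))⁻¹ * g * y ^ (t + t') = (y ^ t)⁻¹ * ((y ^ t')⁻¹ * g * y ^ t') * y ^ t := by
      rw [pow_add]
      have hc : Commute (y ^ t) (y ^ t') := (Commute.refl y).pow_pow t t'
      rw [hc.eq]
      group
    rw [h2, h1, ht' g hg]
  have hInv_sub : ∀ t t', Inv t → Inv (t + t') → Inv t' := by
    intro t t' ht htt' g hg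
    have h1 := ht _ (hinvT t' g hg)
    have h2 : (y ^ (t + t'))⁻¹ * g * y ^ (t + t') = (y ^ t)⁻¹ * ((y ^ t')⁻¹ * g * y ^ t') * y ^ t := by
      rw [pow_add]
      have hc : Commute (y ^ t) (y ^ t') := (Commute.refl y).pow_pow t t'
      rw [hc.eq]
      group
    rw [← h1, ← h2]
    exact htt' g hg
  have hex : ∃ t, 0 < t ∧ Inv t := ⟨p ^ a, hNpos, hInvN⟩
  set s := Nat.find hex with hs
  have hs0 : 0 < s := (Nat.find_spec hex).1
  have hsInv : Inv s := (Nat.find_spec hex).2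
  have hsmin : ∀ t, 0 < t → t < s → ¬ Inv t := by
    intro t ht0 hts hI
    exact Nat.find_min hex hts ⟨ht0, hI⟩
  have hInv_mul : ∀ k, Inv (s * k) := by
    intro k
    induction k with
    | zero =>
      intro g _
      simp
    | succ k ih =>
      rw [Nat.mul_succ]
      exact hInv_add _ _ ih hsInv
  have hsdvd : s ∣ p ^ a := by
    have h1 : p ^ a = s * (p ^ a / s) + p ^ a % s := (Nat.div_add_mod _ _).symm
    have h2 : Inv (p ^ a % s) := by
      apply hInv_sub (s * (p ^ a / s)) _ (hInv_mul _)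
      rw [← h1]
      exact hInvN
    have h3 : p ^ a % s = 0 := by
      by_contra hne
      exact hsmin _ (Nat.pos_of_ne_zero hne) (Nat.mod_lt _ hs0) h2
    exact Nat.dvd_of_mod_eq_zero h3
  obtain ⟨e, hea, hse⟩ := (Nat.dvd_prime_pow hp).mp hsdvd
  have hk : p ^ a = s * p ^ (a - e) := by
    rw [hse, ← pow_add]
    congr 1
    omega
  refine ⟨e, hea, ?_, ?_⟩
  · intro t ht
    rw [← hse]
    have h1 := hsInv _ (hfwdT s t ht)
    rw [← h1]
    congr 1
    group
  · intro u hu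
    rw [← hse]
    set k := p ^ (a - e) with hkdef
    -- characters
    have hχinv : ∀ (i : ℕ) (t t' : ↥T),
        χ ((y ^ i)⁻¹ * ((t * t' : ↥T) : Γ) * y ^ i) =
          χ ((y ^ i)⁻¹ * (t : Γ) * y ^ i) * χ ((y ^ i)⁻¹ * (t' : Γ) * y ^ i) := by
      intro i t t'
      rw [← hχmul _ (hinvT i t t.2) _ (hinvT i t' t'.2)]
      congr 1
      rw [Subgroup.coe_mul]
      group
    let lam : Fin s → (↥T →* K) := fun i =>
      { toFun := fun t => χ ((y ^ (i : ℕ))⁻¹ * (t : Γ) * y ^ (i : ℕ))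
        map_one' := by
          rw [Subgroup.coe_one]
          simp [hχ1]
        map_mul' := hχinv i }
    have hlam : ∀ (i : Fin s) (t : ↥T), lam i t = χ ((y ^ (i : ℕ))⁻¹ * (t : Γ) * y ^ (i : ℕ)) :=
      fun _ _ => rfl
    have hinj : Function.Injective lam := by
      intro i j hij
      by_contra hne
      wlog hlt : (i : ℕ) < (j : ℕ) generalizing i j
      · have hne' : (i : ℕ) ≠ (j : ℕ) := fun h => hne (Fin.ext h)
        exact this hij.symm (fun h => hne h.symm) (lt_of_le_of_ne (not_lt.mp hlt) (Ne.symm hne'))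
      apply hsmin ((j : ℕ) - i) (Nat.sub_pos_of_lt hlt) (lt_of_le_of_lt (Nat.sub_le _ _) j.2)
      intro g hg
      have h1 := DFunLike.congr_fun hij ⟨y ^ (i : ℕ) * g * (y ^ (i : ℕ))⁻¹, hfwdT i g hg⟩
      rw [hlam, hlam] at h1
      simp only at h1
      have h2 : (y ^ (i : ℕ))⁻¹ * (y ^ (i : ℕ) * g * (y ^ (i : ℕ))⁻¹) * y ^ (i : ℕ) = g := by group
      have h3 : (y ^ (j : ℕ))⁻¹ * (y ^ (i : ℕ) * g * (y ^ (i : ℕ))⁻¹) * y ^ (j : ℕ) =
          (y ^ ((j : ℕ) - i))⁻¹ * g * y ^ ((j : ℕ) - i) := by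
        have h4 : y ^ (j : ℕ) = y ^ (i : ℕ) * y ^ ((j : ℕ) - i) := by
          rw [← pow_add]
          congr 1
          omega
        rw [h4]
        group
      rw [h2, h3] at h1
      exact h1.symm
    -- the partial sum
    set w' : W := ∑ j ∈ Finset.range k, (ρ (y ^ s) ^ j) u with hw'
    have hEinv : ∀ w ∈ E, ρ (y ^ s) w ∈ E := by
      intro w hw
      rw [hE] at hw ⊢
      intro t ht
      have h1 : t * y ^ s = y ^ s * ((y ^ s)⁻¹ * t * y ^ s) := by group
      rw [← Module.End.mul_apply, ← map_mul, h1, map_mul, Module.End.mul_apply,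
        hw _ (hinvT s t ht), map_smul, hsInv t ht]
    have hpowE : ∀ j : ℕ, ∀ w ∈ E, (ρ (y ^ s) ^ j) w ∈ E := by
      intro j
      induction j with
      | zero => intro w hw; simpa using hw
      | succ j ih =>
        intro w hw
        rw [pow_succ', Module.End.mul_apply]
        exact hEinv _ (ih w hw)
    have hw'E : w' ∈ E := by
      rw [hw']
      exact Submodule.sum_mem _ (fun j _ => hpowE j u hu)
    let v : Fin s → W := fun i => (ρ y ^ (i : ℕ)) w'
    have hv : ∀ (i : Fin s) (t : ↥T), ρ (t : Γ) (v i) = lam i t • v i := by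
      intro i t
      show ρ (t : Γ) ((ρ y ^ (i : ℕ)) w') = lam i t • (ρ y ^ (i : ℕ)) w'
      rw [hlam, ← map_pow]
      have h1 : (t : Γ) * y ^ (i : ℕ) = y ^ (i : ℕ) * ((y ^ (i : ℕ))⁻¹ * t * y ^ (i : ℕ)) := by group
      rw [← Module.End.mul_apply, ← map_mul, h1, map_mul, Module.End.mul_apply,
        (hE w').mp hw'E _ (hinvT i t t.2), map_smul]
    have hsumv : ∑ i, v i = 0 := by
      have h1 : ∑ i, v i = ∑ i ∈ Finset.range s, (ρ y ^ i) w' :=
        Fin.sum_univ_eq_sum_range (fun i => (ρ y ^ i) w') s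
      rw [h1]
      have h2 : ∀ i ∈ Finset.range s, (ρ y ^ i) w' =
          ∑ j ∈ Finset.range k, (ρ y ^ (i + s * j)) u := by
        intro i _
        rw [hw', map_sum]
        apply Finset.sum_congr rfl
        intro j _
        rw [← Module.End.mul_apply, map_pow, ← pow_mul, ← pow_add]
      rw [Finset.sum_congr rfl h2, ← sum_range_mul_reindex (fun m => (ρ y ^ m) u) s k, ← hk]
      exact hsum u (hEF hu)
    have hmain := eigen_mem (fun t : ↥T => ρ (t : Γ)) (⊥ : Submodule K W)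
      (by
        intro g m hm
        rw [Submodule.mem_bot] at hm ⊢
        rw [hm, map_zero]) v lam hinj hv
      (by rw [hsumv]; exact Submodule.zero_mem _) ⟨0, hs0⟩
    rw [Submodule.mem_bot] at hmain
    have : v ⟨0, hs0⟩ = w' := by
      show (ρ y ^ 0) w' = w'
      simp
    rw [this] at hmain
    exact hmain

end descent

end Cfsg.Agent.Lib.Helper5.SG
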