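import Mathlib
import Cfsg.Agent.Lib.Helper5.SG3

set_option autoImplicit false

namespace Cfsg.Agent.Lib.Helper5.SG

section radical

variable {K : Type*} [Field K] {Γ : Type*} [Group Γ]

/-- Class-two data: `Z ≤ P` central in `P`, containing all commutators of `P`, with a function `θ`
multiplicative on `Z`. -/
structure CT (θ : Γ → K) (P Z : Subgroup Γ) : Prop where
  le : Z ≤ P
  cen : ∀ z ∈ Z, ∀ g ∈ P, g * z = z * g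
  comm : ∀ h ∈ P, ∀ g ∈ P, h * g * h⁻¹ * g⁻¹ ∈ Z
  mul : ∀ z ∈ Z, ∀ z' ∈ Z, θ (z * z') = θ z * θ z'
  one : θ 1 = 1

variable {θ : Γ → K} {P Z : Subgroup Γ}

theorem CT.inv (hC : CT θ P Z) {z : Γ} (hz : z ∈ Z) : θ z⁻¹ * θ z = 1 := by
  rw [← hC.mul _ (Z.inv_mem hz) _ hz, inv_mul_cancel, hC.one]

theorem CT.ne_zero (hC : CT θ P Z) {z : Γ} (hz : z ∈ Z) : θ z ≠ 0 := by
  intro h
  have := hC.inv hz
  rw [h, mul_zero] at this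
  exact zero_ne_one this

theorem CT.pow (hC : CT θ P Z) {z : Γ} (hz : z ∈ Z) (m : ℕ) : θ (z ^ m) = θ z ^ m := by
  induction m with
  | zero => rw [pow_zero, pow_zero, hC.one]
  | succ m ih => rw [pow_succ, pow_succ, hC.mul _ (Z.pow_mem hz m) _ hz, ih]

theorem CT.cc_mul_right (hC : CT θ P Z) {h g g' : Γ} (hh : h ∈ P) (hg : g ∈ P) (hg' : g' ∈ P) :
    θ (h * (g * g') * h⁻¹ * (g * g')⁻¹) =
      θ (h * g * h⁻¹ * g⁻¹) * θ (h * g' * h⁻¹ * g'⁻¹) := by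
  have hc' : h * g' * h⁻¹ * g'⁻¹ ∈ Z := hC.comm h hh g' hg'
  have h1 : h * (g * g') * h⁻¹ * (g * g')⁻¹ =
      (h * g * h⁻¹ * g⁻¹) * (h * g' * h⁻¹ * g'⁻¹) := by
    have h3 := hC.cen _ hc' g⁻¹ (P.inv_mem hg)
    calc h * (g * g') * h⁻¹ * (g * g')⁻¹
        = (h * g * h⁻¹) * ((h * g' * h⁻¹ * g'⁻¹) * g⁻¹) := by group
      _ = (h * g * h⁻¹) * (g⁻¹ * (h * g' * h⁻¹ * g'⁻¹)) := by rw [h3]
      _ = (h * g * h⁻¹ * g⁻¹) * (h * g' * h⁻¹ * g'⁻¹) := by simp only [mul_assoc]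
  rw [h1]
  exact hC.mul _ (hC.comm h hh g hg) _ hc'

theorem CT.cc_mul_left (hC : CT θ P Z) {h h' g : Γ} (hh : h ∈ P) (hh' : h' ∈ P) (hg : g ∈ P) :
    θ ((h * h') * g * (h * h')⁻¹ * g⁻¹) =
      θ (h * g * h⁻¹ * g⁻¹) * θ (h' * g * h'⁻¹ * g⁻¹) := by
  have hc' : h' * g * h'⁻¹ * g⁻¹ ∈ Z := hC.comm h' hh' g hg
  have h1 : (h * h') * g * (h * h')⁻¹ * g⁻¹ =
      (h' * g * h'⁻¹ * g⁻¹) * (h * g * h⁻¹ * g⁻¹) := by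
    have h3 := hC.cen _ hc' h hh
    calc (h * h') * g * (h * h')⁻¹ * g⁻¹
        = (h * (h' * g * h'⁻¹ * g⁻¹)) * (g * h⁻¹ * g⁻¹) := by group
      _ = ((h' * g * h'⁻¹ * g⁻¹) * h) * (g * h⁻¹ * g⁻¹) := by rw [h3]
      _ = (h' * g * h'⁻¹ * g⁻¹) * (h * g * h⁻¹ * g⁻¹) := by simp only [mul_assoc]
  rw [h1, hC.mul _ hc' _ (hC.comm h hh g hg), mul_comm]

theorem CT.cc_one_right (hC : CT θ P Z) (h : Γ) : θ (h * 1 * h⁻¹ * 1⁻¹) = 1 := by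
  have : h * 1 * h⁻¹ * 1⁻¹ = 1 := by group
  rw [this, hC.one]

theorem CT.cc_central (hC : CT θ P Z) {h z : Γ} (hh : h ∈ P) (hz : z ∈ Z) :
    θ (h * z * h⁻¹ * z⁻¹) = 1 := by
  have : h * z * h⁻¹ * z⁻¹ = 1 := by
    rw [hC.cen z hz h hh]
    group
  rw [this, hC.one]

theorem CT.cc_inv_right (hC : CT θ P Z) {h g : Γ} (hh : h ∈ P) (hg : g ∈ P) :
    θ (h * g⁻¹ * h⁻¹ * g⁻¹⁻¹) * θ (h * g * h⁻¹ * g⁻¹) = 1 := by
  rw [← hC.cc_mul_right hh (P.inv_mem hg) hg]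
  have : h * (g⁻¹ * g) * h⁻¹ * (g⁻¹ * g)⁻¹ = 1 := by group
  rw [this, hC.one]

/-- The radical of the commutator pairing. -/
theorem CT.exists_radical (hC : CT θ P Z) :
    ∃ Y : Subgroup Γ, ∀ g, g ∈ Y ↔ g ∈ P ∧ ∀ h ∈ P, θ (h * g * h⁻¹ * g⁻¹) = 1 := by
  refine ⟨{ carrier := {g | g ∈ P ∧ ∀ h ∈ P, θ (h * g * h⁻¹ * g⁻¹) = 1}
            mul_mem' := ?_
            one_mem' := ?_
            inv_mem' := ?_ }, fun g => Iff.rfl⟩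
  · rintro a b ⟨ha, ha'⟩ ⟨hb, hb'⟩
    refine ⟨P.mul_mem ha hb, ?_⟩
    intro h hh
    rw [hC.cc_mul_right hh ha hb, ha' h hh, hb' h hh, mul_one]
  · exact ⟨P.one_mem, fun h _ => hC.cc_one_right h⟩
  · rintro a ⟨ha, ha'⟩
    refine ⟨P.inv_mem ha, ?_⟩
    intro h hh
    have := hC.cc_inv_right hh ha
    rw [ha' h hh, mul_one] at this
    exact this

theorem CT.le_radical (hC : CT θ P Z) {Y : Subgroup Γ}
    (hY : ∀ g, g ∈ Y ↔ g ∈ P ∧ ∀ h ∈ P, θ (h * g * h⁻¹ * g⁻¹) = 1) : Z ≤ Y := by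
  intro z hz
  rw [hY]
  exact ⟨hC.le hz, fun h hh => hC.cc_central hh hz⟩

/-- Antisymmetry: the pairing in the other order. -/
theorem CT.cc_symm (hC : CT θ P Z) {h g : Γ} (hh : h ∈ P) (hg : g ∈ P) :
    θ (g * h * g⁻¹ * h⁻¹) * θ (h * g * h⁻¹ * g⁻¹) = 1 := by
  rw [← hC.mul _ (hC.comm g hg h hh) _ (hC.comm h hh g hg)]
  have : g * h * g⁻¹ * h⁻¹ * (h * g * h⁻¹ * g⁻¹) = 1 := by group
  rw [this, hC.one]

theorem CT.radical_symm (hC : CT θ P Z) {Y : Subgroup Γ}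
    (hY : ∀ g, g ∈ Y ↔ g ∈ P ∧ ∀ h ∈ P, θ (h * g * h⁻¹ * g⁻¹) = 1) {g h : Γ} (hg : g ∈ Y)
    (hh : h ∈ P) : θ (g * h * g⁻¹ * h⁻¹) = 1 := by
  have h1 := hC.cc_symm hh ((hY g).mp hg).1
  rw [((hY g).mp hg).2 h hh, mul_one] at h1
  exact h1

end radical

end Cfsg.Agent.Lib.Helper5.SG
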