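import Mathlib
import Cfsg.Agent.Lib.Helper5.SG4
import Cfsg.Agent.Lib.Helper20.HHExtE

set_option autoImplicit false

namespace Cfsg.Agent.Lib.Helper5.SG

open Module Cfsg.Agent.Lib.Helper20.HHExt Cfsg.Agent.Lib.Helper11.FrobLinEig

section eigen

variable {K : Type*} [Field K] {W : Type*} [AddCommGroup W] [Module K W]
variable {Γ : Type*} [Group Γ]

theorem natCast_ne_zero_of_dvd {a b : ℕ} (hab : a ∣ b) (hb : ((b : ℕ) : K) ≠ 0) :
    ((a : ℕ) : K) ≠ 0 := by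
  intro ha
  obtain ⟨c, rfl⟩ := hab
  apply hb
  rw [Nat.cast_mul, ha, zero_mul]

/-- A finite subgroup acting by commuting operators of invertible order on a nonzero invariant
subspace has a common eigenvector there. -/
theorem common_eigenvector [IsAlgClosed K] [FiniteDimensional K W] (ρ : Γ →* End K W)
    (Y : Subgroup Γ) [Finite Y] (hYK : ((Nat.card Y : ℕ) : K) ≠ 0) (E : Submodule K W)
    (hE0 : E ≠ ⊥) (hinv : ∀ t ∈ Y, ∀ w ∈ E, ρ t w ∈ E)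
    (hcomm : ∀ t ∈ Y, ∀ t' ∈ Y, ∀ w ∈ E, ρ t (ρ t' w) = ρ t' (ρ t w)) :
    ∃ w ∈ E, w ≠ 0 ∧ ∃ χ₀ : Γ → K, ∀ t ∈ Y, ρ t w = χ₀ t • w := by
  classical
  have hU : ∀ (g : ↥Y), ∀ u ∈ E, (ρ.comp Y.subtype) g u ∈ E := fun g u hu => hinv g g.2 u hu
  obtain ⟨ρY, hρY⟩ : ∃ ρY : ↥Y →* End K ↥E, ρY = restrictRep (ρ.comp Y.subtype) E hU := ⟨_, rfl⟩
  have hρYa : ∀ (g : ↥Y) (u : ↥E), ((ρY g u : ↥E) : W) = ρ (g : Γ) (u : W) := by
    intro g u
    rw [hρY]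
    rfl
  have hcommY : ∀ z ∈ (⊤ : Subgroup ↥Y), ∀ z' ∈ (⊤ : Subgroup ↥Y), Commute (ρY z) (ρY z') := by
    intro z _ z' _
    apply LinearMap.ext
    intro u
    apply Subtype.ext
    show ((ρY z (ρY z' u) : ↥E) : W) = ((ρY z' (ρY z u) : ↥E) : W)
    rw [hρYa, hρYa, hρYa, hρYa]
    exact hcomm z z.2 z' z'.2 u u.2
  have hfin : Finite (⊤ : Subgroup ↥Y) := inferInstance
  have hcardtop : ((Nat.card (⊤ : Subgroup ↥Y) : ℕ) : K) ≠ 0 := by
    rw [Subgroup.card_top]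
    exact hYK
  have htop := jointEig_iSup ρY (⊤ : Subgroup ↥Y) hcommY hcardtop
  have hnt : Nontrivial ↥E := Submodule.nontrivial_iff_ne_bot.mpr hE0
  obtain ⟨χ, hχ⟩ : ∃ χ : (⊤ : Subgroup ↥Y) → K, jointEig ρY ⊤ χ ≠ ⊥ := by
    by_contra hcon
    push Not at hcon
    have : (⨆ χ : (⊤ : Subgroup ↥Y) → K, jointEig ρY ⊤ χ) = ⊥ := by
      rw [iSup_eq_bot]
      exact hcon
    rw [this] at htop
    exact bot_ne_top htop
  obtain ⟨u, hu, hu0⟩ := (Submodule.ne_bot_iff _).mp hχ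
  rw [mem_jointEig] at hu
  refine ⟨(u : W), u.2, fun h => hu0 (Subtype.ext h), ?_⟩
  refine ⟨fun g => if h : g ∈ Y then χ ⟨⟨g, h⟩, Subgroup.mem_top _⟩ else 0, ?_⟩
  intro t ht
  have h1 := hu ⟨⟨t, ht⟩, Subgroup.mem_top _⟩
  have h2 := congrArg (fun v : ↥E => (v : W)) h1
  simp only at h2
  rw [hρYa] at h2
  simp only [dif_pos ht]
  exact h2

/-- Eigenvalue functions of a common eigenvector are multiplicative. -/
theorem eigen_mul (ρ : Γ →* End K W) (Y : Subgroup Γ) (χ : Γ → K) (w : W) (hw0 : w ≠ 0)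
    (hw : ∀ t ∈ Y, ρ t w = χ t • w) :
    (∀ t ∈ Y, ∀ t' ∈ Y, χ (t * t') = χ t * χ t') ∧ χ 1 = 1 := by
  constructor
  · intro t ht t' ht'
    have h1 := hw (t * t') (Y.mul_mem ht ht')
    rw [map_mul, Module.End.mul_apply, hw t' ht', map_smul, hw t ht, smul_smul] at h1
    have h2 : (χ t' * χ t - χ (t * t')) • w = 0 := by rw [sub_smul, h1, sub_self]
    rcases smul_eq_zero.mp h2 with h3 | h3
    · rw [mul_comm]
      exact (sub_eq_zero.mp h3).symm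
    · exact absurd h3 hw0
  · have h1 := hw 1 Y.one_mem
    rw [map_one, Module.End.one_apply] at h1
    have h2 : ((1 : K) - χ 1) • w = 0 := by rw [sub_smul, one_smul, ← h1, sub_self]
    rcases smul_eq_zero.mp h2 with h3 | h3
    · exact (sub_eq_zero.mp h3).symm
    · exact absurd h3 hw0

end eigen

end Cfsg.Agent.Lib.Helper5.SG
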