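import Mathlib
import Cfsg.Agent.Lib.Helper5.SG5

set_option autoImplicit false

namespace Cfsg.Agent.Lib.Helper5.SG

open Module Cfsg.Agent.Lib.Helper20.HHExt Cfsg.Agent.Lib.Helper11.FrobLinEig

section level3

variable {K : Type*} [Field K] {W : Type*} [AddCommGroup W] [Module K W]
variable {Γ : Type*} [Group Γ]

/-- Common eigenspace of a subgroup for an eigenvalue function. -/
def eigSub (ρ : Γ →* End K W) (T : Subgroup Γ) (χ : Γ → K) : Submodule K W where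
  carrier := {w | ∀ t ∈ T, ρ t w = χ t • w}
  add_mem' := by
    intro a b ha hb t ht
    rw [map_add, ha t ht, hb t ht, smul_add]
  zero_mem' := by
    intro t _
    rw [map_zero, smul_zero]
  smul_mem' := by
    intro c a ha t ht
    rw [map_smul, ha t ht, smul_comm]

theorem mem_eigSub (ρ : Γ →* End K W) (T : Subgroup Γ) (χ : Γ → K) (w : W) :
    w ∈ eigSub ρ T χ ↔ ∀ t ∈ T, ρ t w = χ t • w := Iff.rfl

/-- The stabiliser of a subspace. -/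
def stabSub (ρ : Γ →* End K W) (E : Submodule K W) : Subgroup Γ where
  carrier := {g | (∀ w ∈ E, ρ g w ∈ E) ∧ (∀ w ∈ E, ρ g⁻¹ w ∈ E)}
  mul_mem' := by
    rintro a b ⟨ha, ha'⟩ ⟨hb, hb'⟩
    constructor
    · intro w hw
      rw [map_mul, Module.End.mul_apply]
      exact ha _ (hb w hw)
    · intro w hw
      rw [mul_inv_rev, map_mul, Module.End.mul_apply]
      exact hb' _ (ha' w hw)
  one_mem' := by
    constructor
    · intro w hw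
      rw [map_one]
      exact hw
    · intro w hw
      rw [inv_one, map_one]
      exact hw
  inv_mem' := by
    rintro a ⟨ha, ha'⟩
    refine ⟨ha', ?_⟩
    intro w hw
    rw [inv_inv]
    exact ha w hw

theorem mem_stabSub (ρ : Γ →* End K W) (E : Submodule K W) (g : Γ) :
    g ∈ stabSub ρ E ↔ (∀ w ∈ E, ρ g w ∈ E) ∧ (∀ w ∈ E, ρ g⁻¹ w ∈ E) := Iff.rfl

theorem comm_pow_mem (Y : Subgroup Γ) (y : Γ) (hyY : ∀ t ∈ Y, y * t * y⁻¹ ∈ Y) (g : Γ)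
    (h : y * g * y⁻¹ * g⁻¹ ∈ Y) (i : ℕ) : y ^ i * g * (y ^ i)⁻¹ * g⁻¹ ∈ Y := by
  induction i with
  | zero => simp
  | succ i ih =>
    have : y ^ (i + 1) * g * (y ^ (i + 1))⁻¹ * g⁻¹ =
        (y * (y ^ i * g * (y ^ i)⁻¹ * g⁻¹) * y⁻¹) * (y * g * y⁻¹ * g⁻¹) := by
      rw [pow_succ']
      group
    rw [this]
    exact Y.mul_mem (hyY _ ih) h

theorem level3 [IsAlgClosed K] [FiniteDimensional K W] (ρ : Γ →* End K W)
    {p b' : ℕ} (hp : p.Prime) (hp2 : p ≠ 2) (hb' : 1 ≤ b') (hpK : (p : K) ≠ 0)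
    (P Z Y : Subgroup Γ) [Finite P] (θ χ' : Γ → K) (hC : CT θ P Z)
    (hY : ∀ g, g ∈ Y ↔ g ∈ P ∧ ∀ h ∈ P, θ (h * g * h⁻¹ * g⁻¹) = 1)
    (hχZ : ∀ z ∈ Z, χ' z = θ z)
    (hχmul : ∀ t ∈ Y, ∀ t' ∈ Y, χ' (t * t') = χ' t * χ' t')
    (y : Γ) (hy : y ^ (p ^ b') = 1) (hyP : ∀ g, g ∈ P ↔ y * g * y⁻¹ ∈ P)
    (hyY : ∀ t, t ∈ Y ↔ y * t * y⁻¹ ∈ Y)
    (hχy : ∀ t ∈ Y, χ' (y * t * y⁻¹) = χ' t)
    (hτ : ∀ g ∈ P, y ^ (p ^ (b' - 1)) * g * (y ^ (p ^ (b' - 1)))⁻¹ * g⁻¹ ∈ Y → g ∈ Y)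
    (hE0 : eigSub ρ Y χ' ≠ ⊥) (hPY : ∃ g ∈ P, g ∉ Y)
    (hsum : ∀ u ∈ eigSub ρ Y χ', ∑ j ∈ Finset.range (p ^ b'), (ρ y ^ j) u = 0) :
    Y.relIndex P = (p ^ b' - 1) ^ 2 := by
  classical
  have hZY : Z ≤ Y := hC.le_radical hY
  have hYP : Y ≤ P := fun g hg => ((hY g).mp hg).1
  set E := eigSub ρ Y χ' with hEdef
  -- `P` stabilises `E`
  have hPstab : ∀ g ∈ P, ∀ w ∈ E, ρ g w ∈ E := by
    intro g hg w hw t ht
    have htP : t ∈ P := hYP ht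
    have hc : t⁻¹ * g⁻¹ * t⁻¹⁻¹ * g⁻¹⁻¹ ∈ Z :=
      hC.comm _ (P.inv_mem htP) _ (P.inv_mem hg)
    have hθc : θ (t⁻¹ * g⁻¹ * t⁻¹⁻¹ * g⁻¹⁻¹) = 1 :=
      hC.radical_symm hY (Y.inv_mem ht) (P.inv_mem hg)
    have h1 : t * g = g * (t * (t⁻¹ * g⁻¹ * t⁻¹⁻¹ * g⁻¹⁻¹)) := by group
    rw [← Module.End.mul_apply, ← map_mul, h1, map_mul, Module.End.mul_apply,
      hw _ (Y.mul_mem ht (hZY hc)), map_smul, hχmul _ ht _ (hZY hc), hχZ _ hc, hθc, mul_one]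
  have hyinvY : ∀ t ∈ Y, y⁻¹ * t * y ∈ Y := by
    intro t ht
    rw [hyY]
    have : y * (y⁻¹ * t * y) * y⁻¹ = t := by group
    rw [this]
    exact ht
  have hχyinv : ∀ t ∈ Y, χ' (y⁻¹ * t * y) = χ' t := by
    intro t ht
    have := hχy _ (hyinvY t ht)
    rw [← this]
    congr 1
    group
  have hystab : ∀ w ∈ E, ρ y w ∈ E := by
    intro w hw t ht
    have h1 : t * y = y * (y⁻¹ * t * y) := by group
    rw [← Module.End.mul_apply, ← map_mul, h1, map_mul, Module.End.mul_apply,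
      hw _ (hyinvY t ht), map_smul, hχyinv t ht]
  have hyinvstab : ∀ w ∈ E, ρ y⁻¹ w ∈ E := by
    intro w hw t ht
    have h1 : t * y⁻¹ = y⁻¹ * (y * t * y⁻¹) := by group
    rw [← Module.End.mul_apply, ← map_mul, h1, map_mul, Module.End.mul_apply,
      hw _ ((hyY t).mp ht), map_smul, hχy t ht]
  set H := stabSub ρ E with hHdef
  have hPH : P ≤ H := by
    intro g hg
    exact ⟨hPstab g hg, hPstab _ (P.inv_mem hg)⟩
  have hyH : y ∈ H := ⟨hystab, hyinvstab⟩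
  have hU : ∀ (g : ↥H), ∀ u ∈ E, (ρ.comp H.subtype) g u ∈ E := fun g u hu => g.2.1 u hu
  obtain ⟨ρH, hρH⟩ : ∃ ρH : ↥H →* End K ↥E, ρH = restrictRep (ρ.comp H.subtype) E hU := ⟨_, rfl⟩
  have hρHa : ∀ (g : ↥H) (u : ↥E), ((ρH g u : ↥E) : W) = ρ (g : Γ) (u : W) := by
    intro g u
    rw [hρH]
    rfl
  set PH := P.subgroupOf H with hPHdef
  set YH := Y.subgroupOf H with hYHdef
  set χH : ↥H → K := fun g => χ' (g : Γ) with hχH
  have hfinPH : Finite ↥PH := by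
    apply Finite.of_injective (fun g : ↥PH => (⟨(g : ↥H), g.2⟩ : ↥P))
    intro a b hab
    apply Subtype.ext
    apply Subtype.ext
    exact congrArg (fun v : ↥P => (v : Γ)) hab
  have hS : Setting ρH PH YH χH := by
    refine ⟨?_, ?_, ?_, ?_⟩
    · intro g hg
      exact hYP hg
    · intro z hz
      apply LinearMap.ext
      intro u
      apply Subtype.ext
      rw [hρHa]
      have := u.2 (z : Γ) hz
      rw [this]
      rfl
    · intro h hh g hg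
      exact hZY (hC.comm _ hh _ hg)
    · intro g hg hgY
      have hgY' : (g : Γ) ∉ Y := hgY
      have hg' : (g : Γ) ∈ P := hg
      rw [hY] at hgY'
      push Not at hgY'
      obtain ⟨h, hh, hne⟩ := hgY' hg'
      refine ⟨⟨h, hPH hh⟩, hh, ?_⟩
      unfold cc
      show χ' (((⟨h, hPH hh⟩ : ↥H) * g * (⟨h, hPH hh⟩ : ↥H)⁻¹ * g⁻¹ : ↥H) : Γ) ≠ 1
      have : (((⟨h, hPH hh⟩ : ↥H) * g * (⟨h, hPH hh⟩ : ↥H)⁻¹ * g⁻¹ : ↥H) : Γ) =
          h * (g : Γ) * h⁻¹ * (g : Γ)⁻¹ := rfl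
      rw [this, hχZ _ (hC.comm _ hh _ hg')]
      exact hne
  have hfpf : ∀ g ∈ P, y * g * y⁻¹ * g⁻¹ ∈ Y → g ∈ Y := by
    intro g hg h
    exact hτ g hg (comm_pow_mem Y y (fun t ht => (hyY t).mp ht) g h _)
  have hX : XSetting PH YH (⟨y, hyH⟩ : ↥H) (p ^ b') := by
    refine ⟨?_, ?_, ?_⟩
    · intro g
      exact hyP (g : Γ)
    · apply Subtype.ext
      exact hy
    · intro g hg h
      exact hfpf (g : Γ) hg h
  have hτH : ∀ g ∈ PH, (⟨y, hyH⟩ : ↥H) ^ (p ^ (b' - 1)) * g *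
      ((⟨y, hyH⟩ : ↥H) ^ (p ^ (b' - 1)))⁻¹ * g⁻¹ ∈ YH → g ∈ YH := by
    intro g hg h
    exact hτ (g : Γ) hg h
  have hntE : Nontrivial ↥E := Submodule.nontrivial_iff_ne_bot.mpr hE0
  have hPZH : ∃ g ∈ PH, g ∉ YH := by
    obtain ⟨g, hg, hgY⟩ := hPY
    exact ⟨⟨g, hPH hg⟩, hg, hgY⟩
  have hsumH : ∑ i ∈ Finset.range (p ^ b'), ρH (⟨y, hyH⟩ : ↥H) ^ i = 0 := by
    apply LinearMap.ext
    intro u
    apply Subtype.ext
    have h1 : ∀ i : ℕ, (((ρH (⟨y, hyH⟩ : ↥H) ^ i) u : ↥E) : W) = (ρ y ^ i) (u : W) := by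
      intro i
      rw [← map_pow, ← map_pow, hρHa]
      rfl
    rw [LinearMap.sum_apply, LinearMap.zero_apply, AddSubmonoidClass.coe_finsetSum]
    rw [Finset.sum_congr rfl (fun i _ => h1 i)]
    exact hsum u u.2
  have hmain := main_algClosed_pp hS hp hp2 hb' hX hτH hpK hPZH hsumH
  have h2 : Nat.card (Pbar PH YH) = YH.relIndex PH := rfl
  rw [h2, hPHdef, hYHdef, Subgroup.relIndex_subgroupOf hPH] at hmain
  exact hmain

end level3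

end Cfsg.Agent.Lib.Helper5.SG
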