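import Mathlib
import Cfsg.Agent.Lib.Helper5.SG6

set_option autoImplicit false

namespace Cfsg.Agent.Lib.Helper5.SG

open Module Cfsg.Agent.Lib.Helper20.HHExt Cfsg.Agent.Lib.Helper11.FrobLinEig

section tools

variable {Γ : Type*} [Group Γ]

theorem pow_conj_iff (S : Subgroup Γ) (y : Γ) (h : ∀ g, g ∈ S ↔ y * g * y⁻¹ ∈ S) (i : ℕ) :
    ∀ g, g ∈ S ↔ y ^ i * g * (y ^ i)⁻¹ ∈ S := by
  induction i with
  | zero => intro g; simp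
  | succ i ih =>
    intro g
    have : y ^ (i + 1) * g * (y ^ (i + 1))⁻¹ = y * (y ^ i * g * (y ^ i)⁻¹) * y⁻¹ := by
      rw [pow_succ']
      group
    rw [this, ← h, ← ih]

/-- A `p`-element acting on a coset of a `p'`-subgroup fixes a point of it. -/
theorem coset_fixed (Y : Subgroup Γ) [Finite Y] (τ : Γ) {p m : ℕ} (hp : p.Prime)
    (hτ : τ ^ (p ^ m) = 1) (hpY : ¬ p ∣ Nat.card Y) (hτY : ∀ t ∈ Y, τ * t * τ⁻¹ ∈ Y) (g : Γ)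
    (hg : g⁻¹ * (τ * g * τ⁻¹) ∈ Y) : ∃ t ∈ Y, τ * (g * t) * τ⁻¹ = g * t := by
  classical
  have hfp : Fact p.Prime := ⟨hp⟩
  have hmem : ∀ t ∈ Y, g⁻¹ * (τ * (g * t) * τ⁻¹) ∈ Y := by
    intro t ht
    have : g⁻¹ * (τ * (g * t) * τ⁻¹) = (g⁻¹ * (τ * g * τ⁻¹)) * (τ * t * τ⁻¹) := by group
    rw [this]
    exact Y.mul_mem hg (hτY t ht)
  let f : ↥Y → ↥Y := fun t => ⟨g⁻¹ * (τ * (g * t) * τ⁻¹), hmem t t.2⟩
  have hfinj : Function.Injective f := by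
    intro a b hab
    have h1 : g⁻¹ * (τ * (g * a) * τ⁻¹) = g⁻¹ * (τ * (g * b) * τ⁻¹) := congrArg Subtype.val hab
    apply Subtype.ext
    have h2 := mul_left_cancel h1
    have h3 := mul_right_cancel h2
    have h4 := mul_left_cancel h3
    exact mul_left_cancel h4
  let σ : Equiv.Perm ↥Y := Equiv.ofBijective f (Finite.injective_iff_bijective.mp hfinj)
  have hσpow : ∀ (k : ℕ) (t : ↥Y), (((σ ^ k) t : ↥Y) : Γ) = g⁻¹ * (τ ^ k * (g * t) * (τ ^ k)⁻¹) := by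
    intro k
    induction k with
    | zero => intro t; simp
    | succ k ih =>
      intro t
      rw [pow_succ', Equiv.Perm.mul_apply]
      show g⁻¹ * (τ * (g * ((σ ^ k) t : ↥Y)) * τ⁻¹) = _
      rw [ih t, pow_succ']
      group
  have hσ : σ ^ (p ^ m) = 1 := by
    apply Equiv.ext
    intro t
    apply Subtype.ext
    rw [hσpow, hτ]
    simp
  have : Fintype ↥Y := Fintype.ofFinite _
  have hcard : ¬ p ∣ Fintype.card ↥Y := by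
    rw [← Nat.card_eq_fintype_card]
    exact hpY
  obtain ⟨t, ht⟩ := Equiv.Perm.exists_fixed_point_of_prime hcard hσ
  refine ⟨t, t.2, ?_⟩
  have h1 : g⁻¹ * (τ * (g * t) * τ⁻¹) = t := congrArg Subtype.val ht
  calc τ * (g * t) * τ⁻¹ = g * (g⁻¹ * (τ * (g * t) * τ⁻¹)) := by group
    _ = g * t := by rw [h1]

end tools

section levels

variable {K : Type*} [Field K] {W : Type*} [AddCommGroup W] [Module K W]
variable {Γ : Type*} [Group Γ]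

theorem CT.radical_conj {θ : Γ → K} {P Z Y : Subgroup Γ} (hC : CT θ P Z)
    (hY : ∀ g, g ∈ Y ↔ g ∈ P ∧ ∀ h ∈ P, θ (h * g * h⁻¹ * g⁻¹) = 1) (y : Γ)
    (hyP : ∀ g, g ∈ P ↔ y * g * y⁻¹ ∈ P) (hyZ : ∀ z, z ∈ Z ↔ y * z * y⁻¹ ∈ Z)
    (hθy : ∀ z ∈ Z, θ (y * z * y⁻¹) = θ z) : ∀ t, t ∈ Y ↔ y * t * y⁻¹ ∈ Y := by
  have hyinvP : ∀ g ∈ P, y⁻¹ * g * y ∈ P := by
    intro g hg
    rw [hyP]
    have : y * (y⁻¹ * g * y) * y⁻¹ = g := by group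
    rw [this]
    exact hg
  intro t
  constructor
  · intro ht
    rw [hY] at ht ⊢
    obtain ⟨htP, ht'⟩ := ht
    refine ⟨(hyP t).mp htP, ?_⟩
    intro h hh
    have h1 : h * (y * t * y⁻¹) * h⁻¹ * (y * t * y⁻¹)⁻¹ =
        y * ((y⁻¹ * h * y) * t * (y⁻¹ * h * y)⁻¹ * t⁻¹) * y⁻¹ := by group
    rw [h1, hθy _ (hC.comm _ (hyinvP h hh) _ htP)]
    exact ht' _ (hyinvP h hh)
  · intro ht
    rw [hY] at ht ⊢
    obtain ⟨htP, ht'⟩ := ht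
    have htP' : t ∈ P := (hyP t).mpr htP
    refine ⟨htP', ?_⟩
    intro h hh
    have h1 := ht' _ ((hyP h).mp hh)
    have h2 : y * h * y⁻¹ * (y * t * y⁻¹) * (y * h * y⁻¹)⁻¹ * (y * t * y⁻¹)⁻¹ =
        y * (h * t * h⁻¹ * t⁻¹) * y⁻¹ := by group
    rw [h2, hθy _ (hC.comm _ hh _ htP')] at h1
    exact h1

theorem level1 [IsAlgClosed K] [FiniteDimensional K W] (ρ : Γ →* End K W)
    {p n : ℕ} (hp : p.Prime) (P Z : Subgroup Γ) [Finite P]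
    (hPK : ((Nat.card P : ℕ) : K) ≠ 0)
    (hZP : Z ≤ P) (hcen : ∀ z ∈ Z, ∀ g ∈ P, g * z = z * g)
    (hcomm : ∀ h ∈ P, ∀ g ∈ P, h * g * h⁻¹ * g⁻¹ ∈ Z)
    (x : Γ) (hx : x ^ (p ^ n) = 1) (hxZ : ∀ z ∈ Z, x * z * x⁻¹ ∈ Z)
    (hnt : ∃ h ∈ P, ∃ g ∈ P, ρ (h * g * h⁻¹ * g⁻¹) ≠ 1)
    (hsum : ∑ i ∈ Finset.range (p ^ n), ρ x ^ i = 0) :
    ∃ (θ : Γ → K) (e : ℕ), CT θ P Z ∧ eigSub ρ Z θ ≠ ⊥ ∧
      (∃ h ∈ P, ∃ g ∈ P, θ (h * g * h⁻¹ * g⁻¹) ≠ 1) ∧ e < n ∧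
      (∀ z ∈ Z, θ (x ^ (p ^ e) * z * (x ^ (p ^ e))⁻¹) = θ z) ∧
      (∀ u ∈ eigSub ρ Z θ, ∑ j ∈ Finset.range (p ^ (n - e)), (ρ (x ^ (p ^ e)) ^ j) u = 0) := by
  classical
  have hfinZ : Finite ↥Z := Finite.of_injective (fun z : ↥Z => (⟨z.1, hZP z.2⟩ : ↥P))
    (fun a b h => Subtype.ext (congrArg (fun v : ↥P => (v : Γ)) h))
  have hZK : ((Nat.card Z : ℕ) : K) ≠ 0 :=
    natCast_ne_zero_of_dvd (Subgroup.card_dvd_of_le hZP) hPK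
  have hZcomm : ∀ z ∈ Z, ∀ z' ∈ Z, Commute (ρ z) (ρ z') := by
    intro z hz z' hz'
    show ρ z * ρ z' = ρ z' * ρ z
    rw [← map_mul, ← map_mul, hcen z' hz' z (hZP hz)]
  have htop := jointEig_iSup ρ Z hZcomm hZK
  obtain ⟨h₀, hh₀, g₀, hg₀, hne⟩ := hnt
  set c₀ := h₀ * g₀ * h₀⁻¹ * g₀⁻¹ with hc₀
  have hc₀Z : c₀ ∈ Z := hcomm h₀ hh₀ g₀ hg₀
  obtain ⟨θ₀, hθ₀U, hθ₀c⟩ : ∃ θ₀ : Z → K, jointEig ρ Z θ₀ ≠ ⊥ ∧ θ₀ ⟨c₀, hc₀Z⟩ ≠ 1 := by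
    by_contra hcon
    push Not at hcon
    apply hne
    have hle' : (⨆ θ : Z → K, jointEig ρ Z θ) ≤ LinearMap.eqLocus (ρ c₀) 1 := by
      apply iSup_le
      intro θ
      by_cases hθ : jointEig ρ Z θ = ⊥
      · rw [hθ]; exact bot_le
      · intro w hw
        rw [LinearMap.mem_eqLocus]
        have h1 := (mem_jointEig ρ Z θ w).mp hw ⟨c₀, hc₀Z⟩
        simp only at h1
        rw [h1, hcon θ hθ, one_smul]
        rfl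
    rw [htop] at hle'
    apply LinearMap.ext
    intro w
    exact hle' Submodule.mem_top
  set θ : Γ → K := fun g => if h : g ∈ Z then θ₀ ⟨g, h⟩ else 0 with hθdef
  have hθZ : ∀ z (hz : z ∈ Z), θ z = θ₀ ⟨z, hz⟩ := by
    intro z hz
    rw [hθdef]
    simp only [hz, dite_true]
  have hEeq : ∀ w, w ∈ eigSub ρ Z θ ↔ w ∈ jointEig ρ Z θ₀ := by
    intro w
    rw [mem_eigSub, mem_jointEig]
    constructor
    · intro h z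
      rw [h z z.2, hθZ z z.2]
    · intro h z hz
      rw [hθZ z hz]
      exact h ⟨z, hz⟩
  have hE0 : eigSub ρ Z θ ≠ ⊥ := by
    obtain ⟨w, hw, hw0⟩ := (Submodule.ne_bot_iff _).mp hθ₀U
    exact (Submodule.ne_bot_iff _).mpr ⟨w, (hEeq w).mpr hw, hw0⟩
  obtain ⟨w₀, hw₀, hw₀0⟩ := (Submodule.ne_bot_iff _).mp hE0
  obtain ⟨hθmul, hθ1⟩ := eigen_mul ρ Z θ w₀ hw₀0 ((mem_eigSub ρ Z θ w₀).mp hw₀)
  have hC : CT θ P Z := ⟨hZP, hcen, hcomm, hθmul, hθ1⟩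
  obtain ⟨e, hen, hinv, hs⟩ := descent ρ Z x hp hx hxZ θ hθmul hθ1 ⊤
    (fun u _ => by
      rw [← LinearMap.sum_apply, hsum, LinearMap.zero_apply])
    (eigSub ρ Z θ) (fun w => mem_eigSub ρ Z θ w) le_top
  refine ⟨θ, e, hC, hE0, ⟨h₀, hh₀, g₀, hg₀, ?_⟩, ?_, hinv, hs⟩
  · rw [hθZ _ hc₀Z]
    exact hθ₀c
  · by_contra hcon
    have hee : e = n := le_antisymm hen (not_lt.mp hcon)
    have h1 := hs w₀ hw₀
    rw [hee, Nat.sub_self, pow_zero] at h1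
    simp at h1
    exact hw₀0 h1

theorem level2 [IsAlgClosed K] [FiniteDimensional K W] (ρ : Γ →* End K W)
    {p b : ℕ} (hp : p.Prime) (P Z Y : Subgroup Γ) [Finite P]
    (hPK : ((Nat.card P : ℕ) : K) ≠ 0) (θ : Γ → K) (hC : CT θ P Z)
    (hY : ∀ g, g ∈ Y ↔ g ∈ P ∧ ∀ h ∈ P, θ (h * g * h⁻¹ * g⁻¹) = 1)
    (y : Γ) (hy : y ^ (p ^ b) = 1) (hyY : ∀ t ∈ Y, y * t * y⁻¹ ∈ Y)
    (hE0 : eigSub ρ Z θ ≠ ⊥)
    (hsum : ∀ u ∈ eigSub ρ Z θ, ∑ j ∈ Finset.range (p ^ b), (ρ y ^ j) u = 0) :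
    ∃ (χ' : Γ → K) (e : ℕ), (∀ z ∈ Z, χ' z = θ z) ∧
      (∀ t ∈ Y, ∀ t' ∈ Y, χ' (t * t') = χ' t * χ' t') ∧
      eigSub ρ Y χ' ≠ ⊥ ∧ e < b ∧
      (∀ t ∈ Y, χ' (y ^ (p ^ e) * t * (y ^ (p ^ e))⁻¹) = χ' t) ∧
      (∀ u ∈ eigSub ρ Y χ', ∑ j ∈ Finset.range (p ^ (b - e)), (ρ (y ^ (p ^ e)) ^ j) u = 0) := by
  classical
  have hZY : Z ≤ Y := hC.le_radical hY
  have hYP : Y ≤ P := fun g hg => ((hY g).mp hg).1
  have hfinY : Finite ↥Y := Finite.of_injective (fun z : ↥Y => (⟨z.1, hYP z.2⟩ : ↥P))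
    (fun a b h => Subtype.ext (congrArg (fun v : ↥P => (v : Γ)) h))
  have hYK : ((Nat.card Y : ℕ) : K) ≠ 0 :=
    natCast_ne_zero_of_dvd (Subgroup.card_dvd_of_le hYP) hPK
  set E₁ := eigSub ρ Z θ with hE₁
  have hinvE : ∀ t ∈ P, ∀ w ∈ E₁, ρ t w ∈ E₁ := by
    intro t ht w hw z hz
    rw [← Module.End.mul_apply, ← map_mul, ← hC.cen z hz t ht, map_mul, Module.End.mul_apply,
      hw z hz, map_smul]
  have hcommE : ∀ t ∈ Y, ∀ t' ∈ Y, ∀ w ∈ E₁, ρ t (ρ t' w) = ρ t' (ρ t w) := by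
    intro t ht t' ht' w hw
    have htP := hYP ht
    have ht'P := hYP ht'
    have hc : t * t' * t⁻¹ * t'⁻¹ ∈ Z := hC.comm t htP t' ht'P
    have hθc : θ (t * t' * t⁻¹ * t'⁻¹) = 1 := ((hY t').mp ht').2 t htP
    have h2 : ρ t' (ρ t w) ∈ E₁ := hinvE t' ht'P _ (hinvE t htP w hw)
    have h3 : ρ t (ρ t' w) = ρ (t * t' * t⁻¹ * t'⁻¹) (ρ t' (ρ t w)) := by
      rw [← Module.End.mul_apply, ← Module.End.mul_apply, ← Module.End.mul_apply, ← map_mul,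
        ← map_mul, ← map_mul]
      congr 2
      group
    rw [h3, h2 _ hc, hθc, one_smul]
  obtain ⟨w, hwE, hw0, χ', hχ'⟩ := common_eigenvector ρ Y hYK E₁ hE0
    (fun t ht w hw => hinvE t (hYP ht) w hw) hcommE
  obtain ⟨hχmul, hχ1⟩ := eigen_mul ρ Y χ' w hw0 hχ'
  have hχZ : ∀ z ∈ Z, χ' z = θ z := by
    intro z hz
    have h1 := hχ' z (hZY hz)
    rw [hwE z hz] at h1
    have h2 : (θ z - χ' z) • w = 0 := by rw [sub_smul, h1, sub_self]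
    rcases smul_eq_zero.mp h2 with h3 | h3
    · exact (sub_eq_zero.mp h3).symm
    · exact absurd h3 hw0
  have hE2 : eigSub ρ Y χ' ≠ ⊥ :=
    (Submodule.ne_bot_iff _).mpr ⟨w, (mem_eigSub ρ Y χ' w).mpr hχ', hw0⟩
  have hle : eigSub ρ Y χ' ≤ E₁ := by
    intro u hu z hz
    rw [hu z (hZY hz), hχZ z hz]
  obtain ⟨e, heb, hinv, hs⟩ := descent ρ Y y hp hy hyY χ' hχmul hχ1 E₁ hsum
    (eigSub ρ Y χ') (fun w => mem_eigSub ρ Y χ' w) hle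
  refine ⟨χ', e, hχZ, hχmul, hE2, ?_, hinv, hs⟩
  by_contra hcon
  have hee : e = b := le_antisymm heb (not_lt.mp hcon)
  have h1 := hs w ((mem_eigSub ρ Y χ' w).mpr hχ')
  rw [hee, Nat.sub_self, pow_zero] at h1
  simp at h1
  exact hw0 h1

end levels

end Cfsg.Agent.Lib.Helper5.SG
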