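import Mathlib
import Cfsg.Agent.Lib.Helper5.SG7

set_option autoImplicit false

namespace Cfsg.Agent.Lib.Helper5.SG

open Module Cfsg.Agent.Lib.Helper20.HHExt Cfsg.Agent.Lib.Helper11.FrobLinEig

section interface

variable {K : Type*} [Field K] {W : Type*} [AddCommGroup W] [Module K W]
variable {Γ : Type*} [Group Γ]

theorem interface [IsAlgClosed K] [FiniteDimensional K W] (ρ : Γ →* End K W)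
    {p n : ℕ} (hp : p.Prime) (hp2 : p ≠ 2) (hpK : (p : K) ≠ 0)
    (P Z : Subgroup Γ) [Finite P] (hPK : ((Nat.card P : ℕ) : K) ≠ 0) (hpP : ¬ p ∣ Nat.card P)
    (hZP : Z ≤ P) (hcen : ∀ z ∈ Z, ∀ g ∈ P, g * z = z * g)
    (hcomm : ∀ h ∈ P, ∀ g ∈ P, h * g * h⁻¹ * g⁻¹ ∈ Z)
    (x : Γ) (hx : x ^ (p ^ n) = 1) (hxP : ∀ g, g ∈ P ↔ x * g * x⁻¹ ∈ P)
    (hxZ : ∀ z, z ∈ Z ↔ x * z * x⁻¹ ∈ Z)
    (hZfix : ∀ g ∈ P, x ^ (p ^ (n - 1)) * g * (x ^ (p ^ (n - 1)))⁻¹ = g → g ∈ Z)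
    (hnt : ∃ h ∈ P, ∃ g ∈ P, ρ (h * g * h⁻¹ * g⁻¹) ≠ 1)
    (hsum : ∑ i ∈ Finset.range (p ^ n), ρ x ^ i = 0) :
    ∃ (θ : Γ → K) (Y : Subgroup Γ) (e b' : ℕ), CT θ P Z ∧
      (∀ g, g ∈ Y ↔ g ∈ P ∧ ∀ h ∈ P, θ (h * g * h⁻¹ * g⁻¹) = 1) ∧
      (∃ h ∈ P, ∃ g ∈ P, θ (h * g * h⁻¹ * g⁻¹) ≠ 1) ∧
      (∀ z ∈ Z, θ (x ^ (p ^ e) * z * (x ^ (p ^ e))⁻¹) = θ z) ∧ 1 ≤ b' ∧ e + b' ≤ n ∧
      Y.relIndex P = (p ^ b' - 1) ^ 2 := by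
  classical
  obtain ⟨θ, e₁, hC, hE0, hnt', he₁, hinv₁, hs₁⟩ := level1 ρ hp P Z hPK hZP hcen hcomm x hx
    (fun z hz => (hxZ z).mp hz) hnt hsum
  obtain ⟨Y, hY⟩ := hC.exists_radical
  have hZY : Z ≤ Y := hC.le_radical hY
  have hYP : Y ≤ P := fun g hg => ((hY g).mp hg).1
  have hfinY : Finite ↥Y := Finite.of_injective (fun z : ↥Y => (⟨z.1, hYP z.2⟩ : ↥P))
    (fun a b h => Subtype.ext (congrArg (fun v : ↥P => (v : Γ)) h))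
  set b := n - e₁ with hb
  set y₁ := x ^ (p ^ e₁) with hy₁
  have hy₁pow : y₁ ^ (p ^ b) = 1 := by
    rw [hy₁, ← pow_mul, ← pow_add]
    have : e₁ + b = n := by omega
    rw [this, hx]
  have hy₁P : ∀ g, g ∈ P ↔ y₁ * g * y₁⁻¹ ∈ P := pow_conj_iff P x hxP _
  have hy₁Z : ∀ z, z ∈ Z ↔ y₁ * z * y₁⁻¹ ∈ Z := pow_conj_iff Z x hxZ _
  have hy₁Y : ∀ t, t ∈ Y ↔ y₁ * t * y₁⁻¹ ∈ Y := hC.radical_conj hY y₁ hy₁P hy₁Z hinv₁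
  obtain ⟨χ', e₂, hχZ, hχmul, hE2, he₂, hinv₂, hs₂⟩ := level2 ρ hp P Z Y hPK θ hC hY y₁ hy₁pow
    (fun t ht => (hy₁Y t).mp ht) hE0 hs₁
  set b' := b - e₂ with hb'
  set y₂ := y₁ ^ (p ^ e₂) with hy₂
  have hy₂pow : y₂ ^ (p ^ b') = 1 := by
    rw [hy₂, ← pow_mul, ← pow_add]
    have : e₂ + b' = b := by omega
    rw [this, hy₁pow]
  have hy₂P : ∀ g, g ∈ P ↔ y₂ * g * y₂⁻¹ ∈ P := pow_conj_iff P y₁ hy₁P _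
  have hy₂Y : ∀ t, t ∈ Y ↔ y₂ * t * y₂⁻¹ ∈ Y := pow_conj_iff Y y₁ hy₁Y _
  have hb'1 : 1 ≤ b' := by omega
  have hτeq : y₂ ^ (p ^ (b' - 1)) = x ^ (p ^ (n - 1)) := by
    rw [hy₂, hy₁, ← pow_mul, ← pow_mul, ← pow_add, ← pow_add]
    congr 2
    omega
  have hτp : (x ^ (p ^ (n - 1))) ^ (p ^ 1) = 1 := by
    rw [← pow_mul, ← pow_add]
    have : n - 1 + 1 = n := by omega
    rw [this, hx]
  have hτY : ∀ t ∈ Y, x ^ (p ^ (n - 1)) * t * (x ^ (p ^ (n - 1)))⁻¹ ∈ Y := by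
    intro t ht
    rw [← hτeq]
    exact (pow_conj_iff Y y₂ hy₂Y _ t).mp ht
  have hτP : ∀ t ∈ P, x ^ (p ^ (n - 1)) * t * (x ^ (p ^ (n - 1)))⁻¹ ∈ P := by
    intro t ht
    exact (pow_conj_iff P x hxP _ t).mp ht
  have hpY : ¬ p ∣ Nat.card Y := fun h => hpP (dvd_trans h (Subgroup.card_dvd_of_le hYP))
  have hYnormal : ∀ t ∈ Y, ∀ g ∈ P, g⁻¹ * t * g ∈ Y := by
    intro t ht g hg
    have h1 : g⁻¹ * t * g = t * (t⁻¹ * g⁻¹ * t⁻¹⁻¹ * g⁻¹⁻¹) := by group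
    rw [h1]
    exact Y.mul_mem ht (hZY (hC.comm _ (P.inv_mem (hYP ht)) _ (P.inv_mem hg)))
  have hτ : ∀ g ∈ P, y₂ ^ (p ^ (b' - 1)) * g * (y₂ ^ (p ^ (b' - 1)))⁻¹ * g⁻¹ ∈ Y → g ∈ Y := by
    intro g hg h
    rw [hτeq] at h
    have hg' : g⁻¹ * (x ^ (p ^ (n - 1)) * g * (x ^ (p ^ (n - 1)))⁻¹) ∈ Y := by
      have := hYnormal _ h g hg
      have h2 : g⁻¹ * (x ^ (p ^ (n - 1)) * g * (x ^ (p ^ (n - 1)))⁻¹ * g⁻¹) * g =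
          g⁻¹ * (x ^ (p ^ (n - 1)) * g * (x ^ (p ^ (n - 1)))⁻¹) := by group
      rw [h2] at this
      exact this
    obtain ⟨t, ht, hfix⟩ := coset_fixed Y (x ^ (p ^ (n - 1))) hp hτp hpY hτY g hg'
    have hgt : g * t ∈ Z := hZfix _ (P.mul_mem hg (hYP ht)) hfix
    have : g = (g * t) * t⁻¹ := by group
    rw [this]
    exact Y.mul_mem (hZY hgt) (Y.inv_mem ht)
  have hPY : ∃ g ∈ P, g ∉ Y := by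
    obtain ⟨h, hh, g, hg, hne⟩ := hnt'
    refine ⟨g, hg, ?_⟩
    intro hgY
    exact hne (((hY g).mp hgY).2 h hh)
  have hmain := level3 ρ hp hp2 hb'1 hpK P Z Y θ χ' hC hY hχZ hχmul y₂ hy₂pow hy₂P hy₂Y
    hinv₂ hτ hE2 hPY hs₂
  refine ⟨θ, Y, e₁, b', hC, hY, hnt', hinv₁, hb'1, ?_, hmain⟩
  omega

end interface

end Cfsg.Agent.Lib.Helper5.SG
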