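import Mathlib

set_option autoImplicit false

namespace Cfsg.Agent.Lib.Helper5.SG

section arith

theorem two_m_dvd {m d : ℕ} (hm : 1 ≤ m) (hd : (2 ^ m + 1) ∣ 2 ^ d - 1) : 2 * m ∣ d := by
  set N := 2 ^ m + 1 with hN
  have hN0 : ((N : ℕ) : ZMod N) = 0 := ZMod.natCast_self N
  have h2m : (2 : ZMod N) ^ m = -1 := by
    have : ((2 ^ m + 1 : ℕ) : ZMod N) = 0 := hN0
    push_cast at this
    exact eq_neg_of_add_eq_zero_left this
  have h22m : (2 : ZMod N) ^ (2 * m) = 1 := by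
    rw [mul_comm, pow_mul, h2m]
    norm_num
  have h2d : (2 : ZMod N) ^ d = 1 := by
    have h1 : ((2 ^ d - 1 : ℕ) : ZMod N) = 0 := (ZMod.natCast_eq_zero_iff _ _).mpr hd
    rw [Nat.cast_sub (Nat.one_le_two_pow), Nat.cast_pow] at h1
    push_cast at h1
    exact sub_eq_zero.mp h1
  have hpow2 : ∀ k : ℕ, 0 < k → k < m + 1 → (2 : ZMod N) ^ k ≠ 1 := by
    intro k hk0 hkm h
    have h1 : ((2 ^ k - 1 : ℕ) : ZMod N) = 0 := by
      rw [Nat.cast_sub (Nat.one_le_two_pow), Nat.cast_pow]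
      push_cast
      rw [h, sub_self]
    have h2 := (ZMod.natCast_eq_zero_iff _ _).mp h1
    have h3 : 2 ^ k ≤ 2 ^ m := Nat.pow_le_pow_right (by norm_num) (by omega)
    have h4 : 2 ≤ 2 ^ k := by
      calc 2 = 2 ^ 1 := (pow_one 2).symm
        _ ≤ 2 ^ k := Nat.pow_le_pow_right (by norm_num) hk0
    have h5 := Nat.le_of_dvd (by omega) h2
    omega
  have hc : d % (2 * m) = 0 := by
    by_contra hne
    set c := d % (2 * m) with hcdef
    have hclt : c < 2 * m := Nat.mod_lt _ (by omega)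
    have hc0 : 0 < c := Nat.pos_of_ne_zero hne
    have h1 : (2 : ZMod N) ^ c = 1 := by
      have h2 : d = 2 * m * (d / (2 * m)) + c := (Nat.div_add_mod d (2 * m)).symm
      rw [h2, pow_add, pow_mul, h22m, one_pow, one_mul] at h2d
      exact h2d
    by_cases hcm : c < m + 1
    · exact hpow2 c hc0 hcm h1
    · have hcm' : m < c := by omega
      have h2 : (2 : ZMod N) ^ c = -(2 : ZMod N) ^ (c - m) := by
        have : c = m + (c - m) := by omega
        conv_lhs => rw [this, pow_add, h2m]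
        ring
      rw [h2] at h1
      have h3 : ((2 ^ (c - m) + 1 : ℕ) : ZMod N) = 0 := by
        push_cast
        have : (2 : ZMod N) ^ (c - m) = -1 := by
          rw [← neg_neg ((2 : ZMod N) ^ (c - m)), h1]
        rw [this]
        ring
      have h4 := (ZMod.natCast_eq_zero_iff _ _).mp h3
      have h5 : 2 ^ (c - m) < 2 ^ m := Nat.pow_lt_pow_right (by norm_num) (by omega)
      have h6 := Nat.le_of_dvd (by positivity) h4
      omega
  exact Nat.dvd_of_mod_eq_zero hc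

theorem lte_core {p m b' n d : ℕ} (hp : p.Prime) (hp2 : p ≠ 2) (hm : 1 ≤ m)
    (hpm : p ^ b' = 2 ^ m + 1) (hbn : b' ≤ n) (hd : p ^ n ∣ 2 ^ d - 1) :
    2 * m * p ^ (n - b') ∣ d := by
  have hfp : Fact p.Prime := ⟨hp⟩
  have hodd : Odd p := hp.odd_of_ne_two hp2
  have h1 : (2 ^ m + 1) ∣ 2 ^ d - 1 := by
    rw [← hpm]
    exact dvd_trans (pow_dvd_pow p hbn) hd
  obtain ⟨j, hj⟩ := two_m_dvd hm h1
  rcases Nat.eq_zero_or_pos j with hj0 | hj0
  · rw [hj, hj0, mul_zero]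
    exact dvd_zero _
  rw [hj]
  apply Nat.mul_dvd_mul_left
  set X := 2 ^ (2 * m) with hX
  have hX1 : 1 < X := by
    rw [hX]
    exact Nat.one_lt_two_pow (by omega)
  have hXsub : X - 1 = (2 ^ m - 1) * p ^ b' := by
    rw [hpm, hX]
    have h2 : 1 ≤ 2 ^ m := Nat.one_le_two_pow
    obtain ⟨t, ht⟩ : ∃ t, 2 ^ m = t + 1 := ⟨2 ^ m - 1, by omega⟩
    rw [two_mul, pow_add, ht]
    rw [Nat.add_sub_cancel]
    have : (t + 1) * (t + 1) = t * (t + 1 + 1) + 1 := by ring
    rw [this, Nat.add_sub_cancel]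
  have hb'1 : 1 ≤ b' := by
    by_contra h
    have : b' = 0 := by omega
    rw [this, pow_zero] at hpm
    have : 2 ≤ 2 ^ m := by
      calc 2 = 2 ^ 1 := (pow_one 2).symm
        _ ≤ 2 ^ m := Nat.pow_le_pow_right (by norm_num) hm
    omega
  have hpX : p ∣ X - 1 := by
    rw [hXsub]
    exact dvd_mul_of_dvd_right (dvd_pow_self p (by omega)) _
  have hpnX : ¬ p ∣ X := by
    rw [hX]
    intro h
    have := (Nat.Prime.dvd_of_dvd_pow hp h)
    exact hp2 ((Nat.prime_dvd_prime_iff_eq hp Nat.prime_two).mp this)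
  have hlte := padicValNat.pow_sub_pow hodd hX1 hpX hpnX (Nat.pos_iff_ne_zero.mp hj0)
  rw [one_pow] at hlte
  have hnd : ¬ p ∣ 2 ^ m - 1 := by
    intro h
    have h2 : p ∣ 2 ^ m + 1 := by
      rw [← hpm]
      exact dvd_pow_self p (by omega)
    have h3 : p ∣ (2 ^ m + 1) - (2 ^ m - 1) := Nat.dvd_sub h2 h
    have h4 : (2 ^ m + 1) - (2 ^ m - 1) = 2 := by
      have : 1 ≤ 2 ^ m := Nat.one_le_two_pow
      omega
    rw [h4] at h3
    exact hp2 ((Nat.prime_dvd_prime_iff_eq hp Nat.prime_two).mp h3)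
  have hm1 : 2 ^ m - 1 ≠ 0 := by
    have : 2 ≤ 2 ^ m := by
      calc 2 = 2 ^ 1 := (pow_one 2).symm
        _ ≤ 2 ^ m := Nat.pow_le_pow_right (by norm_num) hm
    omega
  have hval : padicValNat p (X - 1) = b' := by
    rw [hXsub, padicValNat.mul hm1 (pow_ne_zero _ hp.ne_zero),
      padicValNat.eq_zero_of_not_dvd hnd, zero_add, padicValNat.prime_pow]
  have hXj : X ^ j - 1 = 2 ^ d - 1 := by
    rw [hX, ← pow_mul, ← hj]
  have hne0 : X ^ j - 1 ≠ 0 := by
    have : 1 < X ^ j := Nat.one_lt_pow (Nat.pos_iff_ne_zero.mp hj0) hX1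
    omega
  have hn : n ≤ padicValNat p (X ^ j - 1) := by
    rw [← padicValNat_dvd_iff_le hne0, hXj]
    exact hd
  rw [hlte, hval] at hn
  have : n - b' ≤ padicValNat p j := by omega
  exact (padicValNat_dvd_iff_le (Nat.pos_iff_ne_zero.mp hj0)).mpr this

end arith

end Cfsg.Agent.Lib.Helper5.SG
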