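import Mathlib
import Cfsg.Agent.Lib.Helper5.SG8
import Cfsg.Agent.Lib.Helper5.SG9

set_option autoImplicit false

namespace Cfsg.Agent.Lib.Helper5.SG

open Cfsg.Agent.Lib.Helper20.HHExt

section relmod

variable {Γ : Type*} [Group Γ]

/-- The map induced by conjugation by `x` on `P / Z`. -/
noncomputable def cjFun (P Z : Subgroup Γ) (x : Γ) (hxP : ∀ g, g ∈ P ↔ x * g * x⁻¹ ∈ P)
    (hxZ : ∀ z, z ∈ Z ↔ x * z * x⁻¹ ∈ Z) : Pbar P Z → Pbar P Z :=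
  Quotient.map' (fun g : ↥P => (⟨x * g * x⁻¹, (hxP g).mp g.2⟩ : ↥P)) (by
    intro a b hab
    rw [QuotientGroup.leftRel_apply, Subgroup.mem_subgroupOf] at hab ⊢
    have h1 : (((⟨x * a * x⁻¹, (hxP a).mp a.2⟩ : ↥P)⁻¹ * ⟨x * b * x⁻¹, (hxP b).mp b.2⟩ : ↥P) : Γ) =
        x * (((a⁻¹ * b : ↥P)) : Γ) * x⁻¹ := by
      simp only [Subgroup.coe_mul, Subgroup.coe_inv]
      group
    rw [h1]
    exact (hxZ _).mp hab)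

theorem cjFun_mk (P Z : Subgroup Γ) (x : Γ) (hxP : ∀ g, g ∈ P ↔ x * g * x⁻¹ ∈ P)
    (hxZ : ∀ z, z ∈ Z ↔ x * z * x⁻¹ ∈ Z) {g : Γ} (hg : g ∈ P) :
    cjFun P Z x hxP hxZ (QuotientGroup.mk ⟨g, hg⟩) =
      QuotientGroup.mk ⟨x * g * x⁻¹, (hxP g).mp hg⟩ := rfl

theorem cjFun_injective (P Z : Subgroup Γ) (x : Γ) (hxP : ∀ g, g ∈ P ↔ x * g * x⁻¹ ∈ P)
    (hxZ : ∀ z, z ∈ Z ↔ x * z * x⁻¹ ∈ Z) : Function.Injective (cjFun P Z x hxP hxZ) := by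
  intro q q' h
  rw [← mk_tq q, ← mk_tq q', cjFun_mk, cjFun_mk, mk_eq_iff] at h
  rw [← mk_tq q, ← mk_tq q', mk_eq_iff]
  rw [hxZ]
  have : x * ((tq P Z q)⁻¹ * tq P Z q') * x⁻¹ = (x * tq P Z q * x⁻¹)⁻¹ * (x * tq P Z q' * x⁻¹) := by
    group
  rw [this]
  exact h

noncomputable def cj (P Z : Subgroup Γ) [Finite P] (x : Γ)
    (hxP : ∀ g, g ∈ P ↔ x * g * x⁻¹ ∈ P) (hxZ : ∀ z, z ∈ Z ↔ x * z * x⁻¹ ∈ Z) :
    Equiv.Perm (Pbar P Z) :=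
  Equiv.ofBijective (cjFun P Z x hxP hxZ)
    (Finite.injective_iff_bijective.mp (cjFun_injective P Z x hxP hxZ))

theorem cj_mk (P Z : Subgroup Γ) [Finite P] (x : Γ) (hxP : ∀ g, g ∈ P ↔ x * g * x⁻¹ ∈ P)
    (hxZ : ∀ z, z ∈ Z ↔ x * z * x⁻¹ ∈ Z) {g : Γ} (hg : g ∈ P) :
    cj P Z x hxP hxZ (QuotientGroup.mk ⟨g, hg⟩) =
      QuotientGroup.mk ⟨x * g * x⁻¹, (hxP g).mp hg⟩ := rfl

theorem cj_pow_mk (P Z : Subgroup Γ) [Finite P] (x : Γ) (hxP : ∀ g, g ∈ P ↔ x * g * x⁻¹ ∈ P)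
    (hxZ : ∀ z, z ∈ Z ↔ x * z * x⁻¹ ∈ Z) (i : ℕ) {g : Γ} (hg : g ∈ P) :
    (cj P Z x hxP hxZ ^ i) (QuotientGroup.mk ⟨g, hg⟩) =
      QuotientGroup.mk ⟨x ^ i * g * (x ^ i)⁻¹, (pow_conj_iff P x hxP i g).mp hg⟩ := by
  induction i with
  | zero => simp
  | succ n ih =>
    rw [pow_succ', Equiv.Perm.mul_apply, ih, cj_mk]
    congr 2
    rw [pow_succ']
    group

theorem relIndex_mod (P Z : Subgroup Γ) [Finite P] (x : Γ) {p n : ℕ}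
    (hp : p.Prime) (hn : 1 ≤ n) (hx : x ^ (p ^ n) = 1)
    (hxP : ∀ g, g ∈ P ↔ x * g * x⁻¹ ∈ P) (hxZ : ∀ z, z ∈ Z ↔ x * z * x⁻¹ ∈ Z)
    (hτ : ∀ g ∈ P, x ^ (p ^ (n - 1)) * g * (x ^ (p ^ (n - 1)))⁻¹ * g⁻¹ ∈ Z → g ∈ Z) :
    ∃ ω, p ^ n * ω + 1 = Z.relIndex P := by
  classical
  have : Fintype (Pbar P Z) := Fintype.ofFinite _
  set σ := cj P Z x hxP hxZ with hσ
  have hσpow : σ ^ (p ^ n) = 1 := by
    apply Equiv.ext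
    intro q
    rw [← mk_tq q, cj_pow_mk, Equiv.Perm.one_apply]
    congr 2
    rw [hx]
    group
  have hq0 : σ (QuotientGroup.mk ⟨1, P.one_mem⟩) = QuotientGroup.mk ⟨1, P.one_mem⟩ := by
    rw [cj_mk]
    congr 2
    group
  have hfix : ∀ q, (σ ^ (p ^ (n - 1))) q = q → q = QuotientGroup.mk ⟨1, P.one_mem⟩ := by
    intro q h
    rw [← mk_tq q] at h ⊢
    rw [cj_pow_mk, mk_eq_iff] at h
    rw [mk_eq_iff]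
    have h1 : x ^ (p ^ (n - 1)) * (tq P Z q)⁻¹ * (x ^ (p ^ (n - 1)))⁻¹ * ((tq P Z q)⁻¹)⁻¹ ∈ Z := by
      have : x ^ (p ^ (n - 1)) * (tq P Z q)⁻¹ * (x ^ (p ^ (n - 1)))⁻¹ * ((tq P Z q)⁻¹)⁻¹ =
          (x ^ (p ^ (n - 1)) * tq P Z q * (x ^ (p ^ (n - 1)))⁻¹)⁻¹ * tq P Z q := by group
      rw [this]
      exact h
    have h2 := hτ _ (P.inv_mem (tq_mem q)) h1
    have h3 : (tq P Z q)⁻¹ * 1 = (tq P Z q)⁻¹ := mul_one _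
    rw [h3]
    exact h2
  have hoc := orbit_count_pp σ p n hp hn hσpow _ hq0 hfix
  refine ⟨Nat.card (Quotient (Equiv.Perm.SameCycle.setoid σ)) - 1, ?_⟩
  rw [hoc, ← Nat.card_eq_fintype_card]
  rfl

end relmod

end Cfsg.Agent.Lib.Helper5.SG
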