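import Mathlib
import Cfsg.Agent.Lib.Helper5.SG10

set_option autoImplicit false

namespace Cfsg.Agent.Lib.Helper5.SG

section counting

variable {K : Type*} [Field K] {Γ : Type*} [Group Γ]

theorem pow_conj_inv_mem (S : Subgroup Γ) (y : Γ) (h : ∀ g, g ∈ S ↔ y * g * y⁻¹ ∈ S) (i : ℕ)
    {g : Γ} (hg : g ∈ S) : (y ^ i)⁻¹ * g * y ^ i ∈ S := by
  rw [pow_conj_iff S y h i]
  have : y ^ i * ((y ^ i)⁻¹ * g * y ^ i) * (y ^ i)⁻¹ = g := by group
  rw [this]
  exact hg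

/-- A fixed-point-free conjugation invariant multiplicative function is trivial. -/
theorem invariant_trivial (Z : Subgroup Γ) [Finite Z] (x : Γ)
    (hxZ : ∀ z, z ∈ Z ↔ x * z * x⁻¹ ∈ Z)
    (hfpf : ∀ g ∈ Z, x * g * x⁻¹ = g → g = 1) (Pf : Γ → K)
    (hmul : ∀ z ∈ Z, ∀ z' ∈ Z, Pf (z * z') = Pf z * Pf z') (hone : Pf 1 = 1)
    (hinv : ∀ z ∈ Z, Pf (x * z * x⁻¹) = Pf z) : ∀ c ∈ Z, Pf c = 1 := by
  classical
  let f : ↥Z → ↥Z := fun z => ⟨(z : Γ)⁻¹ * (x * z * x⁻¹), Z.mul_mem (Z.inv_mem z.2) ((hxZ z).mp z.2)⟩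
  have hf : Function.Injective f := by
    intro a b hab
    have h1 : (a : Γ)⁻¹ * (x * a * x⁻¹) = (b : Γ)⁻¹ * (x * b * x⁻¹) := congrArg Subtype.val hab
    have h2 : x * ((b : Γ) * (a : Γ)⁻¹) * x⁻¹ = (b : Γ) * (a : Γ)⁻¹ := by
      have h3 : x * ((b : Γ) * (a : Γ)⁻¹) * x⁻¹ =
          (x * b * x⁻¹) * ((a : Γ)⁻¹ * (x * a * x⁻¹))⁻¹ * (a : Γ)⁻¹ := by group
      rw [h3, h1]
      group
    have h4 := hfpf _ (Z.mul_mem b.2 (Z.inv_mem a.2)) h2
    apply Subtype.ext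
    have : (b : Γ) = a := by
      have := mul_inv_eq_one.mp h4
      exact this
    exact this.symm
  have hsurj : Function.Surjective f := Finite.injective_iff_surjective.mp hf
  intro c hc
  obtain ⟨z, hz⟩ := hsurj ⟨c, hc⟩
  have h1 : (z : Γ)⁻¹ * (x * z * x⁻¹) = c := congrArg Subtype.val hz
  rw [← h1, hmul _ (Z.inv_mem z.2) _ ((hxZ z).mp z.2), hinv z z.2]
  rw [← hmul _ (Z.inv_mem z.2) _ z.2, inv_mul_cancel, hone]

theorem counting {p n q : ℕ} (hp : p.Prime) (hp2 : p ≠ 2) (hn : 1 ≤ n) (hqp : q.Prime)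
    (P Z : Subgroup Γ) [Finite P] (hq : IsPGroup q P)
    (x : Γ) (hx : x ^ (p ^ n) = 1) (hxP : ∀ g, g ∈ P ↔ x * g * x⁻¹ ∈ P)
    (hxZ : ∀ z, z ∈ Z ↔ x * z * x⁻¹ ∈ Z)
    (hτ : ∀ g ∈ P, x ^ (p ^ (n - 1)) * g * (x ^ (p ^ (n - 1)))⁻¹ * g⁻¹ ∈ Z → g ∈ Z)
    (hmin : ∀ R : Subgroup Γ, R ≤ P → (∀ g ∈ R, x * g * x⁻¹ ∈ R) → R ≠ P → R ≤ Z)
    (hfpf : ∀ g ∈ P, x * g * x⁻¹ = g → g = 1)
    (θ : Γ → K) (Y : Subgroup Γ) (e b' : ℕ) (hC : CT θ P Z)
    (hY : ∀ g, g ∈ Y ↔ g ∈ P ∧ ∀ h ∈ P, θ (h * g * h⁻¹ * g⁻¹) = 1)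
    (hnt : ∃ h ∈ P, ∃ g ∈ P, θ (h * g * h⁻¹ * g⁻¹) ≠ 1)
    (hinv : ∀ z ∈ Z, θ (x ^ (p ^ e) * z * (x ^ (p ^ e))⁻¹) = θ z) (hb' : 1 ≤ b')
    (heb : e + b' ≤ n) (hidx : Y.relIndex P = (p ^ b' - 1) ^ 2) : False := by
  classical
  have hfq : Fact q.Prime := ⟨hqp⟩
  have hZY : Z ≤ Y := hC.le_radical hY
  have hYP : Y ≤ P := fun g hg => ((hY g).mp hg).1
  have hZP : Z ≤ P := hC.le
  have hfinZ : Finite ↥Z := Finite.of_injective (fun z : ↥Z => (⟨z.1, hZP z.2⟩ : ↥P))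
    (fun a b h => Subtype.ext (congrArg (fun v : ↥P => (v : Γ)) h))
  obtain ⟨k, hk⟩ := IsPGroup.iff_card.mp hq
  -- arithmetic: q = 2 and p ^ b' = 2 ^ m + 1
  have hpb2 : 3 ≤ p ^ b' := by
    have h3 : 3 ≤ p := by
      have := hp.two_le
      omega
    calc 3 ≤ p := h3
      _ = p ^ 1 := (pow_one p).symm
      _ ≤ p ^ b' := Nat.pow_le_pow_right hp.pos hb'
  have hodd : Odd (p ^ b') := (hp.odd_of_ne_two hp2).pow
  have heven : 2 ∣ p ^ b' - 1 := by
    obtain ⟨r, hr⟩ := hodd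
    rw [hr]
    exact ⟨r, by omega⟩
  have hdvd : (p ^ b' - 1) ^ 2 ∣ q ^ k := by
    rw [← hidx, ← hk]
    exact Subgroup.relIndex_dvd_card Y P
  have hq2 : q = 2 := by
    have h1 : 2 ∣ q ^ k := dvd_trans (dvd_trans heven (dvd_pow_self _ (by norm_num))) hdvd
    have h2 := Nat.Prime.dvd_of_dvd_pow Nat.prime_two h1
    exact ((Nat.prime_dvd_prime_iff_eq Nat.prime_two hqp).mp h2).symm
  subst hq2
  obtain ⟨m, -, hm⟩ := (Nat.dvd_prime_pow Nat.prime_two).mp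
    (dvd_trans (dvd_pow_self (p ^ b' - 1) (by norm_num)) hdvd)
  have hm1 : 1 ≤ m := by
    by_contra h
    have : m = 0 := by omega
    rw [this, pow_zero] at hm
    omega
  have hpm : p ^ b' = 2 ^ m + 1 := by omega
  rw [hm, ← pow_mul] at hidx
  -- the twisted characters
  set s := p ^ e with hs
  have hs1 : 1 ≤ s := Nat.one_le_pow _ _ hp.pos
  obtain ⟨s', hs'⟩ : ∃ s', s = s' + 1 := ⟨s - 1, by omega⟩
  set θs : ℕ → Γ → K := fun t z => θ ((x ^ t)⁻¹ * z * x ^ t) with hθs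
  have hθs0 : ∀ z, θs 0 z = θ z := by
    intro z
    rw [hθs]
    simp
  set Pf : Γ → K := fun z => ∏ t ∈ Finset.range s, θs t z with hPf
  have hPfmul : ∀ z ∈ Z, ∀ z' ∈ Z, Pf (z * z') = Pf z * Pf z' := by
    intro z hz z' hz'
    rw [hPf]
    simp only
    rw [← Finset.prod_mul_distrib]
    apply Finset.prod_congr rfl
    intro t _
    rw [hθs]
    simp only
    rw [← hC.mul _ (pow_conj_inv_mem Z x hxZ t hz) _ (pow_conj_inv_mem Z x hxZ t hz')]
    congr 1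
    group
  have hPfone : Pf 1 = 1 := by
    rw [hPf]
    simp only
    apply Finset.prod_eq_one
    intro t _
    rw [hθs]
    simp only
    have : (x ^ t)⁻¹ * 1 * x ^ t = 1 := by group
    rw [this, hC.one]
  have hPfinv : ∀ z ∈ Z, Pf (x * z * x⁻¹) = Pf z := by
    intro z hz
    rw [hPf]
    simp only
    rw [hs', Finset.prod_range_succ', Finset.prod_range_succ]
    congr 1
    · apply Finset.prod_congr rfl
      intro t _
      rw [hθs]
      simp only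
      congr 1
      rw [pow_succ']
      group
    · rw [hθs]
      simp only
      have hw : (x ^ s')⁻¹ * z * x ^ s' ∈ Z := pow_conj_inv_mem Z x hxZ s' hz
      have h1 := hinv _ hw
      rw [← h1]
      congr 1
      rw [hs', pow_succ']
      group
  have hPftriv : ∀ c ∈ Z, Pf c = 1 :=
    invariant_trivial Z x hxZ (fun g hg h => hfpf g (hZP hg) h) Pf hPfmul hPfone hPfinv
  -- the conjugates of the radical
  set Yt : ℕ → Subgroup Γ := fun t => Y.map (MulAut.conj (x ^ t)).toMonoidHom with hYt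
  have hYtmem : ∀ t g, g ∈ Yt t ↔ (x ^ t)⁻¹ * g * x ^ t ∈ Y := by
    intro t g
    rw [hYt]
    simp only [Subgroup.mem_map, MulEquiv.coe_toMonoidHom, MulAut.conj_apply]
    constructor
    · rintro ⟨y, hy, rfl⟩
      have : (x ^ t)⁻¹ * (x ^ t * y * (x ^ t)⁻¹) * x ^ t = y := by group
      rw [this]
      exact hy
    · intro h
      refine ⟨_, h, ?_⟩
      group
  have hPmap : ∀ t, P.map (MulAut.conj (x ^ t)).toMonoidHom = P := by
    intro t
    ext g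
    simp only [Subgroup.mem_map, MulEquiv.coe_toMonoidHom, MulAut.conj_apply]
    constructor
    · rintro ⟨y, hy, rfl⟩
      exact (pow_conj_iff P x hxP t y).mp hy
    · intro h
      refine ⟨(x ^ t)⁻¹ * g * x ^ t, pow_conj_inv_mem P x hxP t h, ?_⟩
      group
  have hYtidx : ∀ t, (Yt t).relIndex P = 2 ^ (m * 2) := by
    intro t
    have h1 := Subgroup.relIndex_map_map_of_injective Y P
      (f := (MulAut.conj (x ^ t)).toMonoidHom) (MulAut.conj (x ^ t)).injective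
    rw [hPmap t] at h1
    rw [hYt]
    simp only
    rw [h1, hidx]
  set A : Subgroup Γ := ⨅ t : Fin s', Yt ((t : ℕ) + 1) with hA
  set D : Subgroup Γ := P ⊓ A with hD
  have hDP : D ≤ P := inf_le_left
  have hDmem : ∀ g ∈ D, ∀ t, 1 ≤ t → t < s → (x ^ t)⁻¹ * g * x ^ t ∈ Y := by
    intro g hg t ht1 hts
    have h1 : g ∈ A := hg.2
    rw [hA, Subgroup.mem_iInf] at h1
    have h2 := h1 ⟨t - 1, by omega⟩
    have h3 : (t - 1) + 1 = t := by omega
    simp only [h3] at h2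
    exact (hYtmem t g).mp h2
  -- `D ≤ Y`
  have hDY : D ≤ Y := by
    intro g hg
    have hgP : g ∈ P := hDP hg
    rw [hY]
    refine ⟨hgP, ?_⟩
    intro h hh
    have hc : h * g * h⁻¹ * g⁻¹ ∈ Z := hC.comm h hh g hgP
    have h1 := hPftriv _ hc
    rw [hPf] at h1
    simp only at h1
    rw [hs', Finset.prod_range_succ'] at h1
    have h2 : ∏ t ∈ Finset.range s', θs (t + 1) (h * g * h⁻¹ * g⁻¹) = 1 := by
      apply Finset.prod_eq_one
      intro t ht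
      rw [Finset.mem_range] at ht
      rw [hθs]
      simp only
      have h3 := hDmem g hg (t + 1) (by omega) (by omega)
      have h4 := ((hY _).mp h3).2 _ (pow_conj_inv_mem P x hxP (t + 1) hh)
      rw [← h4]
      congr 1
      group
    rw [h2, one_mul, hθs0] at h1
    exact h1
  -- `D` is `x`-invariant
  have hDinv : ∀ g ∈ D, x * g * x⁻¹ ∈ D := by
    intro g hg
    refine Subgroup.mem_inf.mpr ⟨(hxP g).mp (hDP hg), ?_⟩
    rw [hA, Subgroup.mem_iInf]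
    intro t
    rw [hYtmem]
    have h1 : (x ^ ((t : ℕ) + 1))⁻¹ * (x * g * x⁻¹) * x ^ ((t : ℕ) + 1) =
        (x ^ (t : ℕ))⁻¹ * g * x ^ (t : ℕ) := by
      rw [pow_succ']
      group
    rw [h1]
    rcases Nat.eq_zero_or_pos (t : ℕ) with h0 | h0
    · rw [h0]
      simp only [pow_zero, inv_one, one_mul, mul_one]
      exact hDY hg
    · exact hDmem g hg t h0 (by have := t.2; omega)
  have hDne : D ≠ P := by
    intro h
    obtain ⟨h', hh', g, hg, hne⟩ := hnt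
    have : g ∈ D := by rw [h]; exact hg
    exact hne (((hY g).mp (hDY this)).2 h' hh')
  have hDZ : D ≤ Z := hmin D hDP hDinv hDne
  -- index bounds
  have hDidx : D.relIndex P ≤ (2 ^ (m * 2)) ^ s' := by
    have h1 : D.relIndex P = A.relIndex P := by
      rw [hD]
      exact Subgroup.inf_relIndex_left P A
    rw [h1, hA]
    have h2 := Subgroup.relIndex_iInf_le (L := P) (fun t : Fin s' => Yt ((t : ℕ) + 1))
    refine le_trans h2 ?_
    have h3 : ∏ i : Fin s', (Yt ((i : ℕ) + 1)).relIndex P = ∏ _i : Fin s', 2 ^ (m * 2) :=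
      Finset.prod_congr rfl (fun t _ => hYtidx ((t : ℕ) + 1))
    rw [h3]
    simp
  have hDne0 : D.relIndex P ≠ 0 := by
    have : Finite (↥P ⧸ D.subgroupOf P) := inferInstance
    exact Subgroup.index_ne_zero_of_finite
  have hZidx : Z.relIndex P ≤ (2 ^ (m * 2)) ^ s' :=
    le_trans (Nat.le_of_dvd (Nat.pos_of_ne_zero hDne0)
      (Subgroup.relIndex_dvd_of_le_left P hDZ)) hDidx
  -- the congruence
  obtain ⟨ω, hω⟩ := relIndex_mod P Z x hp hn hx hxP hxZ hτ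
  have hZdvd : Z.relIndex P ∣ 2 ^ k := by
    rw [← hk]
    exact Subgroup.relIndex_dvd_card Z P
  obtain ⟨d, -, hd⟩ := (Nat.dvd_prime_pow Nat.prime_two).mp hZdvd
  have hpn : p ^ n ∣ 2 ^ d - 1 := ⟨ω, by omega⟩
  have hlte := lte_core hp hp2 hm1 hpm (by omega : b' ≤ n) hpn
  have hd0 : d ≠ 0 := by
    intro h0
    rw [h0, pow_zero] at hd
    have h1 : P ≤ Z := Subgroup.relIndex_eq_one.mp hd
    obtain ⟨h', hh', g, hg, hne⟩ := hnt
    exact hne (((hY g).mp (hZY (h1 hg))).2 h' hh')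
  have hdge : 2 * m * p ^ (n - b') ≤ d := Nat.le_of_dvd (Nat.pos_of_ne_zero hd0) hlte
  have hsle : s ≤ p ^ (n - b') := by
    rw [hs]
    exact Nat.pow_le_pow_right hp.pos (by omega)
  have h1 : 2 * m * s ≤ d := le_trans (Nat.mul_le_mul_left _ hsle) hdge
  rw [hd, ← pow_mul] at hZidx
  have h2 : d ≤ m * 2 * s' := (Nat.pow_le_pow_iff_right (by norm_num)).mp hZidx
  rw [hs'] at h1
  nlinarith

end counting

end Cfsg.Agent.Lib.Helper5.SG
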