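import Mathlib
import Cfsg.Agent.Lib.Helper5.SG11

set_option autoImplicit false

namespace Cfsg.Agent.Lib.Helper5.SG

open Module TensorProduct Cfsg.Agent.Lib.Helper20.HHExt

section nonabelian

variable {Γ : Type*} [Group Γ]

theorem nonabelian_closed {K : Type*} [Field K] {W : Type*} [AddCommGroup W] [Module K W]
    [IsAlgClosed K] [FiniteDimensional K W] (ρ : Γ →* End K W)
    {p n q : ℕ} (hp : p.Prime) (hp2 : p ≠ 2) (hn : 1 ≤ n) (hqp : q.Prime) (hpq : p ≠ q)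
    (hpK : (p : K) ≠ 0) (hqK : (q : K) ≠ 0)
    (P Z : Subgroup Γ) [Finite P] (hq : IsPGroup q P)
    (hZP : Z ≤ P) (hcen : ∀ z ∈ Z, ∀ g ∈ P, g * z = z * g)
    (hcomm : ∀ h ∈ P, ∀ g ∈ P, h * g * h⁻¹ * g⁻¹ ∈ Z)
    (x : Γ) (hx : x ^ (p ^ n) = 1) (hxP : ∀ g, g ∈ P ↔ x * g * x⁻¹ ∈ P)
    (hxZ : ∀ z, z ∈ Z ↔ x * z * x⁻¹ ∈ Z)
    (hZfix : ∀ g ∈ P, x ^ (p ^ (n - 1)) * g * (x ^ (p ^ (n - 1)))⁻¹ = g → g ∈ Z)
    (hmin : ∀ R : Subgroup Γ, R ≤ P → (∀ g ∈ R, x * g * x⁻¹ ∈ R) → R ≠ P → R ≤ Z)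
    (hfpf : ∀ g ∈ P, x * g * x⁻¹ = g → g = 1)
    (hnt : ∃ h ∈ P, ∃ g ∈ P, ρ (h * g * h⁻¹ * g⁻¹) ≠ 1)
    (hsum : ∑ i ∈ Finset.range (p ^ n), ρ x ^ i = 0) : False := by
  classical
  have hfq : Fact q.Prime := ⟨hqp⟩
  obtain ⟨k, hk⟩ := IsPGroup.iff_card.mp hq
  have hPK : ((Nat.card P : ℕ) : K) ≠ 0 := by
    rw [hk, Nat.cast_pow]
    exact pow_ne_zero k hqK
  have hpP : ¬ p ∣ Nat.card P := by
    rw [hk]
    intro h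
    exact hpq ((Nat.prime_dvd_prime_iff_eq hp hqp).mp (hp.dvd_of_dvd_pow h))
  have hfinZ : Finite ↥Z := Finite.of_injective (fun z : ↥Z => (⟨z.1, hZP z.2⟩ : ↥P))
    (fun a b h => Subtype.ext (congrArg (fun v : ↥P => (v : Γ)) h))
  have hpZ : ¬ p ∣ Nat.card Z := fun h => hpP (dvd_trans h (Subgroup.card_dvd_of_le hZP))
  have hτp : (x ^ (p ^ (n - 1))) ^ (p ^ 1) = 1 := by
    rw [← pow_mul, ← pow_add]
    have : n - 1 + 1 = n := by omega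
    rw [this, hx]
  have hτZ : ∀ t ∈ Z, x ^ (p ^ (n - 1)) * t * (x ^ (p ^ (n - 1)))⁻¹ ∈ Z := by
    intro t ht
    exact (pow_conj_iff Z x hxZ _ t).mp ht
  have hτ : ∀ g ∈ P, x ^ (p ^ (n - 1)) * g * (x ^ (p ^ (n - 1)))⁻¹ * g⁻¹ ∈ Z → g ∈ Z := by
    intro g hg h
    have hg' : g⁻¹ * (x ^ (p ^ (n - 1)) * g * (x ^ (p ^ (n - 1)))⁻¹) ∈ Z := by
      have h1 := hcen _ h g⁻¹ (P.inv_mem hg)
      have h2 : g⁻¹ * (x ^ (p ^ (n - 1)) * g * (x ^ (p ^ (n - 1)))⁻¹) =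
          g⁻¹ * (x ^ (p ^ (n - 1)) * g * (x ^ (p ^ (n - 1)))⁻¹ * g⁻¹) * g⁻¹⁻¹ := by group
      rw [h2, h1]
      have h3 : x ^ (p ^ (n - 1)) * g * (x ^ (p ^ (n - 1)))⁻¹ * g⁻¹ * g⁻¹ * g⁻¹⁻¹ =
          x ^ (p ^ (n - 1)) * g * (x ^ (p ^ (n - 1)))⁻¹ * g⁻¹ := by group
      rw [h3]
      exact h
    obtain ⟨t, ht, hfix⟩ := coset_fixed Z (x ^ (p ^ (n - 1))) hp hτp hpZ hτZ g hg'
    have hgt : g * t ∈ Z := hZfix _ (P.mul_mem hg (hZP ht)) hfix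
    have : g = (g * t) * t⁻¹ := by group
    rw [this]
    exact Z.mul_mem hgt (Z.inv_mem ht)
  obtain ⟨θ, Y, e, b', hC, hY, hnt', hinv, hb', heb, hidx⟩ :=
    interface ρ hp hp2 hpK P Z hPK hpP hZP hcen hcomm x hx hxP hxZ hZfix hnt hsum
  exact counting hp hp2 hn hqp P Z hq x hx hxP hxZ hτ hmin hfpf θ Y e b' hC hY hnt' hinv hb' heb
    hidx

theorem nonabelian_field {k : Type*} [Field k] {V : Type*} [AddCommGroup V] [Module k V]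
    [FiniteDimensional k V] (ρ₀ : Γ →* End k V)
    {p n q : ℕ} (hp : p.Prime) (hp2 : p ≠ 2) (hn : 1 ≤ n) (hqp : q.Prime) (hpq : p ≠ q)
    (hpk : (p : k) ≠ 0) (hqk : (q : k) ≠ 0)
    (P Z : Subgroup Γ) [Finite P] (hq : IsPGroup q P)
    (hZP : Z ≤ P) (hcen : ∀ z ∈ Z, ∀ g ∈ P, g * z = z * g)
    (hcomm : ∀ h ∈ P, ∀ g ∈ P, h * g * h⁻¹ * g⁻¹ ∈ Z)
    (x : Γ) (hx : x ^ (p ^ n) = 1) (hxP : ∀ g, g ∈ P ↔ x * g * x⁻¹ ∈ P)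
    (hxZ : ∀ z, z ∈ Z ↔ x * z * x⁻¹ ∈ Z)
    (hZfix : ∀ g ∈ P, x ^ (p ^ (n - 1)) * g * (x ^ (p ^ (n - 1)))⁻¹ = g → g ∈ Z)
    (hmin : ∀ R : Subgroup Γ, R ≤ P → (∀ g ∈ R, x * g * x⁻¹ ∈ R) → R ≠ P → R ≤ Z)
    (hfpf : ∀ g ∈ P, x * g * x⁻¹ = g → g = 1)
    (hnt : ∃ h ∈ P, ∃ g ∈ P, ρ₀ (h * g * h⁻¹ * g⁻¹) ≠ 1)
    (hsum : ∑ i ∈ Finset.range (p ^ n), ρ₀ x ^ i = 0) : False := by
  obtain ⟨bc, hbc⟩ : ∃ bc : End k V →ₐ[k] End (AlgebraicClosure k) (AlgebraicClosure k ⊗[k] V),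
      bc = Module.End.baseChangeHom k (AlgebraicClosure k) V := ⟨_, rfl⟩
  have hbca : ∀ f : End k V, bc f = f.baseChange (AlgebraicClosure k) := by
    intro f
    rw [hbc]
    rfl
  obtain ⟨ρ, hρ⟩ : ∃ ρ : Γ →* End (AlgebraicClosure k) (AlgebraicClosure k ⊗[k] V),
      ρ = (bc : End k V →* _).comp ρ₀ := ⟨_, rfl⟩
  have hρa : ∀ g : Γ, ρ g = bc (ρ₀ g) := by
    intro g
    rw [hρ]
    rfl
  have hcast : ∀ m : ℕ, ((m : ℕ) : k) ≠ 0 → ((m : ℕ) : AlgebraicClosure k) ≠ 0 := by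
    intro m hm h
    apply hm
    apply (algebraMap k (AlgebraicClosure k)).injective
    rw [map_natCast, h, map_zero]
  apply nonabelian_closed ρ hp hp2 hn hqp hpq (hcast _ hpk) (hcast _ hqk) P Z hq hZP hcen hcomm x hx
    hxP hxZ hZfix hmin hfpf
  · obtain ⟨h, hh, g, hg, hne⟩ := hnt
    refine ⟨h, hh, g, hg, ?_⟩
    rw [hρa]
    intro heq
    have h1 : bc (ρ₀ (h * g * h⁻¹ * g⁻¹) - 1) = 0 := by
      rw [map_sub, heq, map_one, sub_self]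
    rw [hbca] at h1
    exact Cfsg.Agent.Lib.Helper20.HHAbel.baseChange_ne_zero _ _ (sub_ne_zero.mpr hne) h1
  · have : ∑ i ∈ Finset.range (p ^ n), ρ x ^ i = bc (∑ i ∈ Finset.range (p ^ n), ρ₀ x ^ i) := by
      rw [map_sum]
      apply Finset.sum_congr rfl
      intro i _
      rw [hρa, map_pow]
    rw [this, hsum, map_zero]

end nonabelian

end Cfsg.Agent.Lib.Helper5.SG
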