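import Mathlib
import Cfsg.Agent.Lib.Helper5.SG12
import Cfsg.Agent.Lib.Helper20.HHExtK

set_option autoImplicit false

namespace Cfsg.Agent.Lib.Helper5.SG

open Module Cfsg.Agent.Lib.Helper20.HHExt

section minimal

variable {Γ : Type*} [Group Γ]

/-- `x` normalises `P`, its power `τ` acts non-trivially on `P` and centralises every proper
`x`-invariant subgroup. -/
structure MinAct2 (x τ : Γ) (P : Subgroup Γ) : Prop where
  normx : ∀ g, g ∈ P ↔ x * g * x⁻¹ ∈ P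
  normτ : ∀ g, g ∈ P ↔ τ * g * τ⁻¹ ∈ P
  comm : x * τ = τ * x
  nontriv : ∃ g ∈ P, τ * g * τ⁻¹ ≠ g
  min : ∀ R : Subgroup Γ, R ≤ P → (∀ g ∈ R, x * g * x⁻¹ ∈ R) → R ≠ P →
    ∀ g ∈ R, τ * g * τ⁻¹ = g

theorem exists_minAct2 [Finite Γ] (x τ : Γ) (Q : Subgroup Γ) (hxQ : ∀ g, g ∈ Q ↔ x * g * x⁻¹ ∈ Q)
    (hτpow : ∃ i : ℕ, τ = x ^ i) (hnt : ∃ g ∈ Q, τ * g * τ⁻¹ ≠ g) :
    ∃ P : Subgroup Γ, P ≤ Q ∧ MinAct2 x τ P := by
  classical
  let S : Set (Subgroup Γ) :=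
    {P | P ≤ Q ∧ (∀ g, g ∈ P ↔ x * g * x⁻¹ ∈ P) ∧ ∃ g ∈ P, τ * g * τ⁻¹ ≠ g}
  have hne : S.Nonempty := ⟨Q, le_rfl, hxQ, hnt⟩
  obtain ⟨P, hPS, hmin⟩ := (Set.toFinite S).exists_minimalFor (fun P : Subgroup Γ => Nat.card P) S hne
  obtain ⟨hPQ, hxP, hnt'⟩ := hPS
  obtain ⟨i, hi⟩ := hτpow
  refine ⟨P, hPQ, hxP, ?_, ?_, hnt', ?_⟩
  · rw [hi]
    exact pow_conj_iff P x hxP i
  · rw [hi]
    exact ((Commute.refl x).pow_right i).eq
  · intro R hRP hxR hne' g hg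
    by_contra hcon
    have hxR' : ∀ g, g ∈ R ↔ x * g * x⁻¹ ∈ R := by
      intro g
      constructor
      · exact hxR g
      · intro h
        -- finite order: x⁻¹ is a power of x
        have hfin : IsOfFinOrder x := isOfFinOrder_of_finite x
        obtain ⟨N, hN0, hN⟩ := hfin.exists_pow_eq_one
        have h1 : ∀ j : ℕ, ∀ u ∈ R, x ^ j * u * (x ^ j)⁻¹ ∈ R := by
          intro j
          induction j with
          | zero => intro u hu; simpa using hu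
          | succ j ih =>
            intro u hu
            have : x ^ (j + 1) * u * (x ^ (j + 1))⁻¹ = x * (x ^ j * u * (x ^ j)⁻¹) * x⁻¹ := by
              rw [pow_succ']
              group
            rw [this]
            exact hxR _ (ih u hu)
        have h2 := h1 (N - 1) _ h
        have h3 : x ^ (N - 1) * (x * g * x⁻¹) * (x ^ (N - 1))⁻¹ = x ^ N * g * (x ^ N)⁻¹ := by
          have : x ^ N = x ^ (N - 1) * x := by
            rw [← pow_succ]
            congr 1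
            omega
          rw [this]
          group
        rw [h3, hN] at h2
        simpa using h2
    have hRS : R ∈ S := ⟨le_trans hRP hPQ, hxR', g, hg, hcon⟩
    have h1 := hmin hRS (Subgroup.card_le_of_le hRP)
    exact hne' (Subgroup.eq_of_le_of_card_ge hRP h1)

namespace MinAct2

variable {x τ : Γ} {P : Subgroup Γ}

theorem closure_commSet_le (h : MinAct2 x τ P) : Subgroup.closure (commSet τ P) ≤ P := by
  rw [Subgroup.closure_le]
  rintro _ ⟨g, hg, rfl⟩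
  exact P.mul_mem (P.inv_mem hg) ((h.normτ g).mp hg)

theorem closure_commSet_inv (h : MinAct2 x τ P) :
    ∀ g ∈ Subgroup.closure (commSet τ P), x * g * x⁻¹ ∈ Subgroup.closure (commSet τ P) := by
  apply conj_mem_closure
  rintro _ ⟨g, hg, rfl⟩
  refine ⟨x * g * x⁻¹, (h.normx g).mp hg, ?_⟩
  have h1 : τ * x = x * τ := h.comm.symm
  have h2 : x⁻¹ * τ⁻¹ = τ⁻¹ * x⁻¹ := by
    rw [← mul_inv_rev, ← mul_inv_rev, h.comm.symm]
  calc x * (g⁻¹ * (τ * g * τ⁻¹)) * x⁻¹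
      = (x * g * x⁻¹)⁻¹ * ((x * τ) * g * (τ⁻¹ * x⁻¹)) := by group
    _ = (x * g * x⁻¹)⁻¹ * ((τ * x) * g * (x⁻¹ * τ⁻¹)) := by rw [h1, h2]
    _ = (x * g * x⁻¹)⁻¹ * (τ * (x * g * x⁻¹) * τ⁻¹) := by group

theorem fix_iff_comm {τ g : Γ} : τ * g * τ⁻¹ = g ↔ τ * g = g * τ := by
  constructor
  · intro h
    calc τ * g = (τ * g * τ⁻¹) * τ := by group
      _ = g * τ := by rw [h]
  · intro h
    rw [h]
    group

/-- `P = [P, τ]`. -/
theorem closure_commSet_eq (h : MinAct2 x τ P) {q r : ℕ} (hq : IsPGroup q P) (hqr : q.Coprime r)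
    (hτr : τ ^ r = 1) : Subgroup.closure (commSet τ P) = P := by
  by_contra hne
  obtain ⟨g, hg, hgτ⟩ := h.nontriv
  apply hgτ
  rw [fix_iff_comm]
  apply centralizes_of_comm hq hqr hτr h.closure_commSet_le
    (fun n hn => fix_iff_comm.mp (h.min _ h.closure_commSet_le h.closure_commSet_inv hne n hn)) _ g hg
  intro g' hg'
  exact Subgroup.subset_closure ⟨g', hg', rfl⟩

/-- Proper invariant normal subgroups are central. -/
theorem central_of_normal (h : MinAct2 x τ P) {q r : ℕ} (hq : IsPGroup q P) (hqr : q.Coprime r)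
    (hτr : τ ^ r = 1) (N : Subgroup Γ) (hNP : N ≤ P) (hne : N ≠ P)
    (hxN : ∀ g ∈ N, x * g * x⁻¹ ∈ N) (hnorm : ∀ g ∈ P, ∀ n ∈ N, g * n * g⁻¹ ∈ N) :
    ∀ n ∈ N, ∀ g ∈ P, g * n = n * g := by
  intro n hn
  have hxn : ∀ g ∈ N, τ * g = g * τ := fun g hg => fix_iff_comm.mp (h.min N hNP hxN hne g hg)
  have hle : Subgroup.closure (commSet τ P) ≤ Subgroup.centralizer {n} := by
    rw [Subgroup.closure_le]
    rintro _ ⟨g, hg, rfl⟩
    rw [SetLike.mem_coe, Subgroup.mem_centralizer_singleton_iff]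
    have h1 := hxn _ (hnorm g hg n hn)
    have h2 := hxn n hn
    have h3 : τ⁻¹ * n = n * τ⁻¹ := by
      have : τ⁻¹ * n = τ⁻¹ * (n * τ) * τ⁻¹ := by group
      rw [this, ← h2]
      group
    have h4 : τ * (g * n * g⁻¹) * τ⁻¹ = g * n * g⁻¹ := by
      rw [h1]
      group
    have e1 : g⁻¹ * (τ * g * τ⁻¹) * n = g⁻¹ * τ * g * (τ⁻¹ * n) := by group
    have e2 : g⁻¹ * τ * g * (n * τ⁻¹) = g⁻¹ * (τ * (g * n * g⁻¹) * τ⁻¹) * (τ * g * τ⁻¹) := by group
    rw [e1, h3, e2, h4]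
    group
  rw [h.closure_commSet_eq hq hqr hτr] at hle
  intro g hg
  have := hle hg
  rw [Subgroup.mem_centralizer_singleton_iff] at this
  exact this

end MinAct2

end minimal

end Cfsg.Agent.Lib.Helper5.SG
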