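import Mathlib
import Cfsg.Agent.Lib.Helper5.SG13

set_option autoImplicit false

namespace Cfsg.Agent.Lib.Helper5.SG

open Module Cfsg.Agent.Lib.Helper20.HHExt

section structure1

variable {Γ : Type*} [Group Γ]

theorem conj_mem_commutator (P : Subgroup Γ) (y : Γ) (hy : ∀ g ∈ P, y * g * y⁻¹ ∈ P) :
    ∀ c ∈ ⁅P, P⁆, y * c * y⁻¹ ∈ ⁅P, P⁆ := by
  rw [Subgroup.commutator_def]
  apply conj_mem_closure
  rintro _ ⟨a, ha, b, hb, rfl⟩
  refine ⟨y * a * y⁻¹, hy a ha, y * b * y⁻¹, hy b hb, ?_⟩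
  rw [commutatorElement_def, commutatorElement_def]
  group

theorem MinAct2.structure {x τ : Γ} {P : Subgroup Γ} (h : MinAct2 x τ P) [Finite P] {q r : ℕ}
    [Fact q.Prime] (hq : IsPGroup q P) (hqr : q.Coprime r) (hτr : τ ^ r = 1) :
    ∃ Z : Subgroup Γ, (∀ g, g ∈ Z ↔ g ∈ P ∧ τ * g * τ⁻¹ = g) ∧
      (∀ z ∈ Z, ∀ g ∈ P, g * z = z * g) ∧ (∀ a ∈ P, ∀ b ∈ P, a * b * a⁻¹ * b⁻¹ ∈ Z) := by
  classical
  let Z : Subgroup Γ :=
    { carrier := {g | g ∈ P ∧ τ * g * τ⁻¹ = g}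
      mul_mem' := by
        rintro a b ⟨ha, ha'⟩ ⟨hb, hb'⟩
        refine ⟨P.mul_mem ha hb, ?_⟩
        have : τ * (a * b) * τ⁻¹ = (τ * a * τ⁻¹) * (τ * b * τ⁻¹) := by group
        rw [this, ha', hb']
      one_mem' := ⟨P.one_mem, by group⟩
      inv_mem' := by
        rintro a ⟨ha, ha'⟩
        refine ⟨P.inv_mem ha, ?_⟩
        have : τ * a⁻¹ * τ⁻¹ = (τ * a * τ⁻¹)⁻¹ := by group
        rw [this, ha'] }
  have hZmem : ∀ g, g ∈ Z ↔ g ∈ P ∧ τ * g * τ⁻¹ = g := fun g => Iff.rfl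
  have hPne : P ≠ ⊥ := by
    intro hbot
    obtain ⟨g, hg, hne⟩ := h.nontriv
    rw [hbot, Subgroup.mem_bot] at hg
    apply hne
    rw [hg]
    group
  have hCne : ⁅P, P⁆ ≠ P := commutator_ne P hq hPne
  have hCP : ⁅P, P⁆ ≤ P := by
    rw [Subgroup.commutator_le]
    intro a ha b hb
    rw [commutatorElement_def]
    exact P.mul_mem (P.mul_mem (P.mul_mem ha hb) (P.inv_mem ha)) (P.inv_mem hb)
  have hCx : ∀ c ∈ ⁅P, P⁆, x * c * x⁻¹ ∈ ⁅P, P⁆ :=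
    conj_mem_commutator P x (fun g hg => (h.normx g).mp hg)
  have hCnorm : ∀ g ∈ P, ∀ n ∈ ⁅P, P⁆, g * n * g⁻¹ ∈ ⁅P, P⁆ := by
    intro g hg n hn
    exact conj_mem_commutator P g (fun u hu => P.mul_mem (P.mul_mem hg hu) (P.inv_mem hg)) n hn
  have hCcen := h.central_of_normal hq hqr hτr ⁅P, P⁆ hCP hCne hCx hCnorm
  have hCfix := h.min ⁅P, P⁆ hCP hCx hCne
  have hcommZ : ∀ a ∈ P, ∀ b ∈ P, a * b * a⁻¹ * b⁻¹ ∈ Z := by
    intro a ha b hb
    have h1 : a * b * a⁻¹ * b⁻¹ ∈ ⁅P, P⁆ := by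
      have := Subgroup.commutator_mem_commutator ha hb
      rw [commutatorElement_def] at this
      exact this
    exact ⟨hCP h1, hCfix _ h1⟩
  have hZP : Z ≤ P := fun g hg => hg.1
  have hZne : Z ≠ P := by
    intro heq
    obtain ⟨g, hg, hne⟩ := h.nontriv
    have : g ∈ Z := by rw [heq]; exact hg
    exact hne this.2
  have hZx : ∀ g ∈ Z, x * g * x⁻¹ ∈ Z := by
    rintro g ⟨hg, hg'⟩
    refine ⟨(h.normx g).mp hg, ?_⟩
    have h1 : τ * x = x * τ := h.comm.symm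
    have h2 : x⁻¹ * τ⁻¹ = τ⁻¹ * x⁻¹ := by
      rw [← mul_inv_rev, ← mul_inv_rev, h.comm.symm]
    calc τ * (x * g * x⁻¹) * τ⁻¹ = (τ * x) * g * (x⁻¹ * τ⁻¹) := by group
      _ = (x * τ) * g * (τ⁻¹ * x⁻¹) := by rw [h1, h2]
      _ = x * (τ * g * τ⁻¹) * x⁻¹ := by group
      _ = x * g * x⁻¹ := by rw [hg']
  have hZnorm : ∀ g ∈ P, ∀ n ∈ Z, g * n * g⁻¹ ∈ Z := by
    intro g hg n hn
    have h1 : g * n * g⁻¹ = (g * n * g⁻¹ * n⁻¹) * n := by group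
    rw [h1]
    exact Z.mul_mem (hcommZ g hg n hn.1) hn
  have hZcen := h.central_of_normal hq hqr hτr Z hZP hZne hZx hZnorm
  exact ⟨Z, hZmem, hZcen, hcommZ⟩

end structure1

section field

variable {Γ : Type*} [Group Γ] [Finite Γ]

theorem ct_field {k : Type*} [Field k] {V : Type*} [AddCommGroup V] [Module k V]
    [FiniteDimensional k V] (ρ₀ : Γ →* End k V)
    {p n q : ℕ} (hp : p.Prime) (hp2 : p ≠ 2) (hn : 1 ≤ n) (hqp : q.Prime) (hpq : p ≠ q)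
    (hpk : (p : k) ≠ 0) (hqk : (q : k) ≠ 0)
    (Q : Subgroup Γ) (hq : IsPGroup q Q) (x : Γ) (hx : x ^ (p ^ n) = 1)
    (hxQ : ∀ g, g ∈ Q ↔ x * g * x⁻¹ ∈ Q)
    (hfaith : ∀ g ∈ Q, ρ₀ g = 1 → g = 1) (hfpf : ∀ g ∈ Q, x * g * x⁻¹ = g → g = 1)
    (hsum : ∑ i ∈ Finset.range (p ^ n), ρ₀ x ^ i = 0) :
    ∀ g ∈ Q, x ^ (p ^ (n - 1)) * g * (x ^ (p ^ (n - 1)))⁻¹ = g := by
  classical
  by_contra hcon
  push Not at hcon
  have hfq : Fact q.Prime := ⟨hqp⟩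
  set τ := x ^ (p ^ (n - 1)) with hτ
  obtain ⟨P, hPQ, hM⟩ := exists_minAct2 x τ Q hxQ ⟨_, rfl⟩ hcon
  have hqP : IsPGroup q P := hq.to_le hPQ
  have hcop : q.Coprime p := (Nat.coprime_primes hqp hp).mpr (Ne.symm hpq)
  have hτp : τ ^ p = 1 := by
    rw [hτ, ← pow_mul]
    have : p ^ (n - 1) * p = p ^ n := by
      rw [← pow_succ]
      congr 1
      omega
    rw [this, hx]
  obtain ⟨kk, hkk⟩ := IsPGroup.iff_card.mp hqP
  have hPk : ((Nat.card P : ℕ) : k) ≠ 0 := by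
    rw [hkk, Nat.cast_pow]
    exact pow_ne_zero kk hqk
  by_cases hab : ∀ a ∈ P, ∀ b ∈ P, a * b = b * a
  · -- abelian case
    have hmain := Cfsg.Agent.Lib.Helper20.HHAbel.main_field ρ₀ P x hp hn hx
      (fun z hz z' hz' => by
        show ρ₀ z * ρ₀ z' = ρ₀ z' * ρ₀ z
        rw [← map_mul, ← map_mul, hab z hz z' hz'])
      hPk
      (by
        intro r hr z hz
        have hxN : x ∈ Subgroup.normalizer (P : Set Γ) := by
          rw [Subgroup.mem_normalizer_iff]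
          exact hM.normx
        have hle : Subgroup.zpowers x ≤ Subgroup.normalizer (P : Set Γ) := by
          rw [Subgroup.zpowers_le]
          exact hxN
        have h1 := Subgroup.inv_mem _ (hle hr)
        have h2 := (Subgroup.mem_normalizer_iff.mp h1 z).mp hz
        rw [inv_inv] at h2
        exact h2)
      (by
        obtain ⟨g, hg, hne⟩ := hM.nontriv
        refine ⟨τ * g * τ⁻¹, (hM.normτ g).mp hg, ?_⟩
        have h1 : τ⁻¹ * (τ * g * τ⁻¹) * τ = g := by group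
        rw [h1]
        intro heq
        apply hne
        have h2 : ρ₀ (g * (τ * g * τ⁻¹)⁻¹) = 1 := by
          rw [map_mul, heq, ← map_mul, mul_inv_cancel, map_one]
        have h3 := hfaith _ (Q.mul_mem (hPQ hg) (Q.inv_mem (hPQ ((hM.normτ g).mp hg)))) h2
        exact (mul_inv_eq_one.mp h3).symm)
    exact hmain hsum
  · -- non-abelian case
    push Not at hab
    obtain ⟨a, ha, b, hb, hne⟩ := hab
    obtain ⟨Z, hZmem, hZcen, hZcomm⟩ := hM.structure hqP hcop hτp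
    have hZP : Z ≤ P := fun g hg => ((hZmem g).mp hg).1
    have hxZ : ∀ z, z ∈ Z ↔ x * z * x⁻¹ ∈ Z := by
      have hconj : ∀ g, τ * (x * g * x⁻¹) * τ⁻¹ = x * (τ * g * τ⁻¹) * x⁻¹ := by
        intro g
        have h1 : τ * x = x * τ := hM.comm.symm
        have h2 : x⁻¹ * τ⁻¹ = τ⁻¹ * x⁻¹ := by
          rw [← mul_inv_rev, ← mul_inv_rev, hM.comm.symm]
        calc τ * (x * g * x⁻¹) * τ⁻¹ = (τ * x) * g * (x⁻¹ * τ⁻¹) := by group
          _ = (x * τ) * g * (τ⁻¹ * x⁻¹) := by rw [h1, h2]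
          _ = x * (τ * g * τ⁻¹) * x⁻¹ := by group
      intro z
      rw [hZmem, hZmem, ← hM.normx z, hconj]
      constructor
      · rintro ⟨h1, h2⟩
        exact ⟨h1, by rw [h2]⟩
      · rintro ⟨h1, h2⟩
        refine ⟨h1, ?_⟩
        have h3 : x⁻¹ * (x * (τ * z * τ⁻¹) * x⁻¹) * x = x⁻¹ * (x * z * x⁻¹) * x := by rw [h2]
        have e1 : x⁻¹ * (x * (τ * z * τ⁻¹) * x⁻¹) * x = τ * z * τ⁻¹ := by group
        have e2 : x⁻¹ * (x * z * x⁻¹) * x = z := by group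
        rw [e1, e2] at h3
        exact h3
    apply nonabelian_field ρ₀ hp hp2 hn hqp hpq hpk hqk P Z hqP hZP hZcen hZcomm x hx hM.normx hxZ
    · intro g hg hfix
      exact (hZmem g).mpr ⟨hg, hfix⟩
    · intro R hRP hRx hRne g hg
      exact (hZmem g).mpr ⟨hRP hg, hM.min R hRP hRx hRne g hg⟩
    · intro g hg
      exact hfpf g (hPQ hg)
    · refine ⟨a, ha, b, hb, ?_⟩
      intro h1
      apply hne
      have h2 := hfaith _ (Q.mul_mem (Q.mul_mem (Q.mul_mem (hPQ ha) (hPQ hb)) (Q.inv_mem (hPQ ha)))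
        (Q.inv_mem (hPQ hb))) h1
      calc a * b = (a * b * a⁻¹ * b⁻¹) * (b * a) := by group
        _ = b * a := by rw [h2, one_mul]
    · exact hsum

end field

end Cfsg.Agent.Lib.Helper5.SG
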