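import Mathlib
import Cfsg.Agent.Lib.Helper5.SG14

set_option autoImplicit false

namespace Cfsg.Agent.Lib.Helper5.SG

open Module Cfsg.Agent.Lib.Helper20.HHExt Cfsg.Agent.Lib.Helper11.FrobGrpCore

section grp

theorem ct_group_aux {Γ : Type*} [Group Γ] [Finite Γ] (r : ℕ) [hr : Fact r.Prime] {V : Type*}
    [CommGroup V] [Finite V] [Module (ZMod r) (Additive V)]
    (φ : Γ →* MulAut V) {p n q : ℕ} (hp : p.Prime) (hp2 : p ≠ 2) (hn : 1 ≤ n) (hqp : q.Prime)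
    (hpq : p ≠ q) (hpr : p ≠ r) (hqr : q ≠ r)
    (Q : Subgroup Γ) (hq : IsPGroup q Q) (x : Γ) (hx : x ^ (p ^ n) = 1)
    (hxQ : ∀ g, g ∈ Q ↔ x * g * x⁻¹ ∈ Q)
    (hfaith : ∀ g ∈ Q, φ g = 1 → g = 1) (hfpf : ∀ g ∈ Q, x * g * x⁻¹ = g → g = 1)
    (hCV : ∀ v : V, φ x v = v → v = 1) :
    ∀ g ∈ Q, x ^ (p ^ (n - 1)) * g * (x ^ (p ^ (n - 1)))⁻¹ = g := by
  have hfin : Module.Finite (ZMod r) (Additive V) := Module.Finite.of_finite
  apply ct_field (linRep r φ) hp hp2 hn hqp hpq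
    (by
      rw [Ne, ZMod.natCast_eq_zero_iff]
      intro h
      exact hpr ((Nat.prime_dvd_prime_iff_eq hr.out hp).mp h).symm)
    (by
      rw [Ne, ZMod.natCast_eq_zero_iff]
      intro h
      exact hqr ((Nat.prime_dvd_prime_iff_eq hr.out hqp).mp h).symm)
    Q hq x hx hxQ
  · intro g hg heq
    apply hfaith g hg
    apply MulEquiv.ext
    intro v
    have h1 := congrArg (fun f => f (Additive.ofMul v)) heq
    simp only [linRep_apply] at h1
    exact congrArg Additive.toMul h1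
  · exact hfpf
  · apply LinearMap.ext
    intro a
    rw [LinearMap.zero_apply, LinearMap.sum_apply]
    have hfixed : linRep r φ x (∑ i ∈ Finset.range (p ^ n), (linRep r φ x ^ i) a) =
        ∑ i ∈ Finset.range (p ^ n), (linRep r φ x ^ i) a := by
      rw [map_sum]
      have h1 : ∀ i ∈ Finset.range (p ^ n), linRep r φ x ((linRep r φ x ^ i) a) =
          (linRep r φ x ^ (i + 1)) a := by
        intro i _
        rw [pow_succ', End.mul_apply]
      rw [Finset.sum_congr rfl h1]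
      have e1 := Finset.sum_range_succ' (fun i => (linRep r φ x ^ i) a) (p ^ n)
      have e2 := Finset.sum_range_succ (fun i => (linRep r φ x ^ i) a) (p ^ n)
      have e3 : (linRep r φ x ^ (p ^ n)) a = (linRep r φ x ^ 0) a := by
        rw [← map_pow, hx, map_one, pow_zero]
      rw [e2, e3] at e1
      exact (add_right_cancel e1).symm
    rw [linRep_apply] at hfixed
    have h2 := hCV _ (congrArg Additive.toMul hfixed)
    exact congrArg Additive.ofMul h2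

theorem ct_group {Γ : Type*} [Group Γ] [Finite Γ] (r : ℕ) [hr : Fact r.Prime] {V : Type*}
    [CommGroup V] [Finite V] (hV : ∀ v : V, v ^ r = 1)
    (φ : Γ →* MulAut V) {p n q : ℕ} (hp : p.Prime) (hp2 : p ≠ 2) (hn : 1 ≤ n) (hqp : q.Prime)
    (hpq : p ≠ q) (hpr : p ≠ r) (hqr : q ≠ r)
    (Q : Subgroup Γ) (hq : IsPGroup q Q) (x : Γ) (hx : x ^ (p ^ n) = 1)
    (hxQ : ∀ g, g ∈ Q ↔ x * g * x⁻¹ ∈ Q)
    (hfaith : ∀ g ∈ Q, φ g = 1 → g = 1) (hfpf : ∀ g ∈ Q, x * g * x⁻¹ = g → g = 1)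
    (hCV : ∀ v : V, φ x v = v → v = 1) :
    ∀ g ∈ Q, x ^ (p ^ (n - 1)) * g * (x ^ (p ^ (n - 1)))⁻¹ = g := by
  have hA : ∀ a : Additive V, r • a = 0 := by
    intro a
    have := hV (Additive.toMul a)
    exact congrArg Additive.ofMul this
  exact @ct_group_aux Γ _ _ r _ V _ _ (AddCommGroup.zmodModule hA) φ p n q hp hp2 hn hqp hpq hpr hqr
    Q hq x hx hxQ hfaith hfpf hCV

/-- The version without faithfulness: the conclusion is that `[τ, Q]` acts trivially. -/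
theorem ct_action {Γ : Type*} [Group Γ] (r : ℕ) [hr : Fact r.Prime] {V : Type*}
    [CommGroup V] [Finite V] (hV : ∀ v : V, v ^ r = 1)
    (φ : Γ →* MulAut V) {p n q : ℕ} (hp : p.Prime) (hp2 : p ≠ 2) (hn : 1 ≤ n) (hqp : q.Prime)
    (hpq : p ≠ q) (hpr : p ≠ r) (hqr : q ≠ r)
    (Q : Subgroup Γ) [Finite Q] (hq : IsPGroup q Q) (x : Γ) (hx : x ^ (p ^ n) = 1)
    (hxQ : ∀ g, g ∈ Q ↔ x * g * x⁻¹ ∈ Q)
    (hfpf : ∀ g ∈ Q, x * g * x⁻¹ = g → g = 1)
    (hCV : ∀ v : V, φ x v = v → v = 1) :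
    ∀ g ∈ Q, φ (x ^ (p ^ (n - 1)) * g * (x ^ (p ^ (n - 1)))⁻¹) = φ g := by
  classical
  have hfq : Fact q.Prime := ⟨hqp⟩
  set K : Subgroup Γ := Q ⊓ φ.ker with hK
  have hKQ : K ≤ Q := inf_le_left
  have hfinK : Finite ↥K := Finite.of_injective (fun z : ↥K => (⟨z.1, hKQ z.2⟩ : ↥Q))
    (fun a b h => Subtype.ext (congrArg (fun v : ↥Q => (v : Γ)) h))
  have hpK : ¬ p ∣ Nat.card K := by
    obtain ⟨kk, hkk⟩ := IsPGroup.iff_card.mp (hq.to_le hKQ)
    rw [hkk]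
    intro h
    exact hpq ((Nat.prime_dvd_prime_iff_eq hp hqp).mp (hp.dvd_of_dvd_pow h))
  have hxK : ∀ t ∈ K, x * t * x⁻¹ ∈ K := by
    intro t htK
    obtain ⟨ht, ht'⟩ := Subgroup.mem_inf.mp htK
    refine Subgroup.mem_inf.mpr ⟨(hxQ t).mp ht, ?_⟩
    rw [MonoidHom.mem_ker] at ht' ⊢
    rw [map_mul, map_mul, ht', mul_one, ← map_mul, mul_inv_cancel, map_one]
  set Q' : Subgroup (MulAut V) := Q.map φ with hQ'
  have hq' : IsPGroup q Q' := hq.map φ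
  have hx' : (φ x) ^ (p ^ n) = 1 := by rw [← map_pow, hx, map_one]
  have hxQ' : ∀ g, g ∈ Q' ↔ φ x * g * (φ x)⁻¹ ∈ Q' := by
    intro g
    constructor
    · rintro ⟨u, hu, rfl⟩
      exact ⟨x * u * x⁻¹, (hxQ u).mp hu, by rw [map_mul, map_mul, map_inv]⟩
    · rintro ⟨u, hu, hug⟩
      refine ⟨x⁻¹ * u * x, ?_, ?_⟩
      · show x⁻¹ * u * x ∈ Q
        rw [hxQ]
        have : x * (x⁻¹ * u * x) * x⁻¹ = u := by group
        rw [this]
        exact hu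
      · rw [map_mul, map_mul, map_inv, hug]
        group
  have hfpf' : ∀ g ∈ Q', φ x * g * (φ x)⁻¹ = g → g = 1 := by
    rintro _ ⟨g, hg, rfl⟩ hfix
    have hgK : g⁻¹ * (x * g * x⁻¹) ∈ K := by
      refine Subgroup.mem_inf.mpr ⟨Q.mul_mem (Q.inv_mem hg) ((hxQ g).mp hg), ?_⟩
      rw [MonoidHom.mem_ker, map_mul, map_inv, map_mul, map_mul, map_inv, hfix, inv_mul_cancel]
    obtain ⟨t, ht, hfixt⟩ := coset_fixed K x hp hx hpK hxK g hgK
    have h1 := hfpf _ (Q.mul_mem hg (hKQ ht)) hfixt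
    have h2 : g = t⁻¹ := eq_inv_of_mul_eq_one_left h1
    rw [h2, map_inv]
    have : φ t = 1 := MonoidHom.mem_ker.mp (Subgroup.mem_inf.mp ht).2
    rw [this, inv_one]
  have hmain := ct_group r hV (MonoidHom.id (MulAut V)) hp hp2 hn hqp hpq hpr hqr Q' hq' (φ x) hx'
    hxQ' (fun g _ h => h) hfpf' hCV
  intro g hg
  have h1 := hmain (φ g) ⟨g, hg, rfl⟩
  rw [map_mul, map_mul, map_inv, map_pow]
  exact h1

end grp

end Cfsg.Agent.Lib.Helper5.SG
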