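import Mathlib
import Cfsg.Agent.Lib.Helper5.SG15

set_option autoImplicit false

namespace Cfsg.Agent.Lib.Helper5.SG

section aut

variable {G : Type*} [Group G]

theorem aut_pow_mem (σ : MulAut G) (H : Subgroup G) (h : ∀ g ∈ H, σ g ∈ H) (k : ℕ) :
    ∀ g ∈ H, (σ ^ k) g ∈ H := by
  induction k with
  | zero => intro g hg; simpa using hg
  | succ k ih =>
    intro g hg
    rw [pow_succ', MulAut.mul_apply]
    exact h _ (ih g hg)

theorem aut_inv_eq_pow (σ : MulAut G) {m : ℕ} (hm : 0 < m) (hσ : σ ^ m = 1) :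
    σ⁻¹ = σ ^ (m - 1) := by
  rw [inv_eq_iff_mul_eq_one, ← pow_succ', Nat.sub_add_cancel hm, hσ]

theorem aut_inv_mem (σ : MulAut G) {m : ℕ} (hm : 0 < m) (hσ : σ ^ m = 1) (H : Subgroup G)
    (h : ∀ g ∈ H, σ g ∈ H) : ∀ g ∈ H, σ⁻¹ g ∈ H := by
  rw [aut_inv_eq_pow σ hm hσ]
  exact aut_pow_mem σ H h _

theorem aut_mem_iff (σ : MulAut G) {m : ℕ} (hm : 0 < m) (hσ : σ ^ m = 1) (H : Subgroup G)
    (h : ∀ g ∈ H, σ g ∈ H) : ∀ g, g ∈ H ↔ σ g ∈ H := by
  intro g
  refine ⟨h g, fun hg => ?_⟩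
  have := aut_inv_mem σ hm hσ H h _ hg
  simpa using this

theorem aut_map_eq (σ : MulAut G) {m : ℕ} (hm : 0 < m) (hσ : σ ^ m = 1) (H : Subgroup G)
    (h : ∀ g ∈ H, σ g ∈ H) : H.map (σ : G ≃* G).toMonoidHom = H := by
  ext g
  constructor
  · rintro ⟨a, ha, rfl⟩
    exact h a ha
  · intro hg
    refine ⟨σ⁻¹ g, aut_inv_mem σ hm hσ H h g hg, ?_⟩
    simp

/-- Restriction of an automorphism to an invariant subgroup. -/
def resAut (σ : MulAut G) (H : Subgroup G) (h : ∀ g ∈ H, σ g ∈ H)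
    (h' : ∀ g ∈ H, σ⁻¹ g ∈ H) : MulAut H where
  toFun g := ⟨σ g, h g g.2⟩
  invFun g := ⟨σ⁻¹ g, h' g g.2⟩
  left_inv g := by ext; simp
  right_inv g := by ext; simp
  map_mul' a b := by ext; simp

@[simp] theorem resAut_coe (σ : MulAut G) (H : Subgroup G) (h : ∀ g ∈ H, σ g ∈ H)
    (h' : ∀ g ∈ H, σ⁻¹ g ∈ H) (g : H) : ((resAut σ H h h' g : H) : G) = σ g := rfl

theorem resAut_pow_coe (σ : MulAut G) (H : Subgroup G) (h : ∀ g ∈ H, σ g ∈ H)
    (h' : ∀ g ∈ H, σ⁻¹ g ∈ H) (k : ℕ) (g : H) :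
    ((((resAut σ H h h') ^ k) g : H) : G) = (σ ^ k) g := by
  induction k generalizing g with
  | zero => simp
  | succ k ih =>
    rw [pow_succ', pow_succ', MulAut.mul_apply, MulAut.mul_apply, resAut_coe, ih]

/-- A fixed-point-free automorphism of `p`-power order forces `p ∤ |G|`. -/
theorem not_dvd_card_of_fpf [Finite G] (σ : MulAut G) {p n : ℕ} (hp : p.Prime)
    (hσ : σ ^ (p ^ n) = 1) (hfpf : ∀ g, σ g = g → g = 1) : ¬ p ∣ Nat.card G := by
  classical
  intro hdvd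
  have hfp : Fact p.Prime := ⟨hp⟩
  have : Fintype G := Fintype.ofFinite _
  rw [Nat.card_eq_fintype_card] at hdvd
  let f : Equiv.Perm G := σ.toEquiv
  have hfpow : ∀ k : ℕ, ∀ g, (f ^ k) g = (σ ^ k) g := by
    intro k
    induction k with
    | zero => intro g; simp
    | succ k ih =>
      intro g
      rw [pow_succ', pow_succ', Equiv.Perm.mul_apply, MulAut.mul_apply, ih]
      rfl
  have hf : f ^ (p ^ n) = 1 := by
    ext g
    rw [hfpow, hσ]
    simp
  obtain ⟨b, hb, hb1⟩ := Equiv.Perm.exists_fixed_point_of_prime' hdvd hf (a := (1 : G))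
    (map_one σ)
  exact hb1 (hfpf b hb)

/-- An automorphism of `p`-power order fixes a point of each invariant coset of a `p'`-subgroup. -/
theorem aut_coset_fixed (Y : Subgroup G) [Finite Y] (σ : MulAut G) {p m : ℕ} (hp : p.Prime)
    (hσ : σ ^ (p ^ m) = 1) (hpY : ¬ p ∣ Nat.card Y) (hσY : ∀ t ∈ Y, σ t ∈ Y) (g : G)
    (hg : g⁻¹ * σ g ∈ Y) : ∃ t ∈ Y, σ (g * t) = g * t := by
  classical
  have hfp : Fact p.Prime := ⟨hp⟩
  have hmem : ∀ t ∈ Y, g⁻¹ * σ (g * t) ∈ Y := by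
    intro t ht
    have : g⁻¹ * σ (g * t) = (g⁻¹ * σ g) * σ t := by rw [map_mul]; group
    rw [this]
    exact Y.mul_mem hg (hσY t ht)
  let f : ↥Y → ↥Y := fun t => ⟨g⁻¹ * σ (g * t), hmem t t.2⟩
  have hfinj : Function.Injective f := by
    intro a b hab
    have h1 : g⁻¹ * σ (g * a) = g⁻¹ * σ (g * b) := congrArg Subtype.val hab
    apply Subtype.ext
    have h2 := mul_left_cancel h1
    have h3 := σ.injective h2
    exact mul_left_cancel h3
  let π : Equiv.Perm ↥Y := Equiv.ofBijective f (Finite.injective_iff_bijective.mp hfinj)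
  have hπpow : ∀ (k : ℕ) (t : ↥Y), (((π ^ k) t : ↥Y) : G) = g⁻¹ * (σ ^ k) (g * t) := by
    intro k
    induction k with
    | zero => intro t; simp
    | succ k ih =>
      intro t
      rw [pow_succ', Equiv.Perm.mul_apply]
      show g⁻¹ * σ (g * ((π ^ k) t : ↥Y)) = _
      rw [ih t, pow_succ', MulAut.mul_apply]
      congr 2
      group
  have hπ : π ^ (p ^ m) = 1 := by
    apply Equiv.ext
    intro t
    apply Subtype.ext
    rw [hπpow, hσ]
    simp
  have : Fintype ↥Y := Fintype.ofFinite _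
  have hcard : ¬ p ∣ Fintype.card ↥Y := by
    rw [← Nat.card_eq_fintype_card]
    exact hpY
  obtain ⟨t, ht⟩ := Equiv.Perm.exists_fixed_point_of_prime hcard hπ
  refine ⟨t, t.2, ?_⟩
  have h1 : g⁻¹ * σ (g * t) = t := congrArg Subtype.val ht
  calc σ (g * t) = g * (g⁻¹ * σ (g * t)) := by group
    _ = g * t := by rw [h1]

end aut

end Cfsg.Agent.Lib.Helper5.SG
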