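import Mathlib
import Cfsg.Agent.Lib.Helper5.SG16

set_option autoImplicit false

namespace Cfsg.Agent.Lib.Helper5.SG

section aut2

open scoped Pointwise

variable {G : Type*} [Group G]

/-- The automorphism induced on a quotient by an invariant normal subgroup. -/
noncomputable def quotAut (σ : MulAut G) (N : Subgroup G) [N.Normal]
    (h : N.map (σ : G ≃* G).toMonoidHom = N) : MulAut (G ⧸ N) :=
  QuotientGroup.congr N N σ h

@[simp] theorem quotAut_mk (σ : MulAut G) (N : Subgroup G) [N.Normal]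
    (h : N.map (σ : G ≃* G).toMonoidHom = N) (g : G) :
    quotAut σ N h (QuotientGroup.mk g) = QuotientGroup.mk (σ g) := rfl

theorem quotAut_pow_mk (σ : MulAut G) (N : Subgroup G) [N.Normal]
    (h : N.map (σ : G ≃* G).toMonoidHom = N) (k : ℕ) (g : G) :
    ((quotAut σ N h) ^ k) (QuotientGroup.mk g) = QuotientGroup.mk ((σ ^ k) g) := by
  induction k generalizing g with
  | zero => simp
  | succ k ih =>
    rw [pow_succ', pow_succ', MulAut.mul_apply, MulAut.mul_apply, ih, quotAut_mk]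

theorem quotAut_pow_eq_one (σ : MulAut G) (N : Subgroup G) [N.Normal]
    (h : N.map (σ : G ≃* G).toMonoidHom = N) {k : ℕ} (hk : ∀ g, ((σ ^ k) g)⁻¹ * g ∈ N) :
    (quotAut σ N h) ^ k = 1 := by
  ext x
  induction x using QuotientGroup.induction_on with
  | H g =>
    rw [quotAut_pow_mk]
    simp only [MulAut.one_apply]
    exact QuotientGroup.eq.2 (hk g)

theorem quotAut_fpf [Finite G] (σ : MulAut G) {p n : ℕ} (hp : p.Prime)
    (hσ : σ ^ (p ^ n) = 1) (hfpf : ∀ g, σ g = g → g = 1) (N : Subgroup G) [N.Normal]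
    (hN : ∀ g ∈ N, σ g ∈ N) (h : N.map (σ : G ≃* G).toMonoidHom = N) :
    ∀ x : G ⧸ N, quotAut σ N h x = x → x = 1 := by
  intro x
  induction x using QuotientGroup.induction_on with
  | H g =>
    intro hx
    rw [quotAut_mk] at hx
    have hg : g⁻¹ * σ g ∈ N := QuotientGroup.eq.1 hx.symm
    have hpG := not_dvd_card_of_fpf σ hp hσ hfpf
    have hpN : ¬ p ∣ Nat.card N := fun hd => hpG (dvd_trans hd (Subgroup.card_subgroup_dvd_card N))
    obtain ⟨t, ht, hfix⟩ := aut_coset_fixed N σ hp hσ hpN hN g hg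
    have h1 := hfpf _ hfix
    have : g = t⁻¹ := eq_inv_of_mul_eq_one_left h1
    rw [this]
    exact (QuotientGroup.eq_one_iff _).2 (N.inv_mem ht)

/-- An automorphism of `p`-power order of a `p'`-group fixes a Sylow `q`-subgroup. -/
theorem exists_invariant_sylow [Finite G] (σ : MulAut G) {p n : ℕ} (hp : p.Prime)
    (hσ : σ ^ (p ^ n) = 1) (hpG : ¬ p ∣ Nat.card G) (q : ℕ) [Fact q.Prime] :
    ∃ Q : Sylow q G, ∀ g ∈ Q, σ g ∈ Q := by
  classical
  have hfp : Fact p.Prime := ⟨hp⟩
  have : Fintype (Sylow q G) := Fintype.ofFinite _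
  let π : Equiv.Perm (Sylow q G) := MulAction.toPerm σ
  have hπ : π ^ (p ^ n) = 1 := by
    show (MulAction.toPermHom (MulAut G) (Sylow q G) σ) ^ (p ^ n) = 1
    rw [← map_pow (MulAction.toPermHom (MulAut G) (Sylow q G)), hσ, map_one]
  have hcard : ¬ p ∣ Fintype.card (Sylow q G) := by
    rw [← Nat.card_eq_fintype_card]
    intro hd
    obtain ⟨P⟩ : Nonempty (Sylow q G) := inferInstance
    exact hpG (dvd_trans hd (dvd_trans (Sylow.card_dvd_index P) (Subgroup.index_dvd_card _)))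
  obtain ⟨Q, hQ⟩ := Equiv.Perm.exists_fixed_point_of_prime hcard hπ
  refine ⟨Q, fun g hg => ?_⟩
  have h1 : σ • Q = Q := hQ
  have h2 : σ • g ∈ σ • (Q : Subgroup G) := Subgroup.smul_mem_pointwise_smul g σ _ hg
  rw [← Sylow.pointwise_smul_def, h1] at h2
  exact h2

end aut2

end Cfsg.Agent.Lib.Helper5.SG
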