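import Mathlib
import Cfsg.Agent.Lib.Helper5.SG17

set_option autoImplicit false

namespace Cfsg.Agent.Lib.Helper5.SG

section autc

variable {G : Type*} [Group G]

/-- `[G, τ]`: the subgroup generated by the elements `g⁻¹ τ(g)`. -/
def autComm (τ : MulAut G) : Subgroup G := Subgroup.closure (Set.range fun g => g⁻¹ * τ g)

theorem mem_autComm (τ : MulAut G) (g : G) : g⁻¹ * τ g ∈ autComm τ :=
  Subgroup.subset_closure ⟨g, rfl⟩

theorem autComm_le (τ : MulAut G) (H : Subgroup G) (h : ∀ g, g⁻¹ * τ g ∈ H) : autComm τ ≤ H := by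
  rw [autComm, Subgroup.closure_le]
  rintro _ ⟨g, rfl⟩
  exact h g

theorem autComm_eq_normalClosure (τ : MulAut G) :
    autComm τ = Subgroup.normalClosure (Set.range fun g => g⁻¹ * τ g) := by
  apply le_antisymm
  · exact Subgroup.closure_le_normalClosure
  · rw [Subgroup.normalClosure, Subgroup.closure_le]
    intro a ha
    rw [Group.mem_conjugatesOfSet_iff] at ha
    obtain ⟨b, ⟨g, rfl⟩, hba⟩ := ha
    obtain ⟨c, rfl⟩ := isConj_iff.1 hba
    have h1 := mem_autComm τ (g * c⁻¹)
    have h2 := (autComm τ).inv_mem (mem_autComm τ c⁻¹)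
    have h3 := (autComm τ).mul_mem h1 h2
    have : c * (g⁻¹ * τ g) * c⁻¹ = (g * c⁻¹)⁻¹ * τ (g * c⁻¹) * (c⁻¹⁻¹ * τ c⁻¹)⁻¹ := by
      simp only [map_mul, map_inv]
      group
    show c * (g⁻¹ * τ g) * c⁻¹ ∈ autComm τ
    rw [this]
    exact h3

instance autComm_normal (τ : MulAut G) : (autComm τ).Normal := by
  rw [autComm_eq_normalClosure]
  infer_instance

theorem autComm_invariant (τ σ : MulAut G) (hc : σ * τ = τ * σ) :
    ∀ g ∈ autComm τ, σ g ∈ autComm τ := by
  intro g hg
  induction hg using Subgroup.closure_induction with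
  | mem x hx =>
    obtain ⟨a, rfl⟩ := hx
    have : σ (a⁻¹ * τ a) = (σ a)⁻¹ * τ (σ a) := by
      rw [map_mul, map_inv]
      congr 1
      have := congrArg (fun f : MulAut G => f a) hc
      simpa using this
    rw [this]
    exact mem_autComm τ _
  | one => rw [map_one]; exact Subgroup.one_mem _
  | mul x y _ _ hx hy => rw [map_mul]; exact Subgroup.mul_mem _ hx hy
  | inv x _ hx => rw [map_inv]; exact Subgroup.inv_mem _ hx

theorem autComm_inv_mul_mem (τ : MulAut G) (g : G) : (τ g)⁻¹ * g ∈ autComm τ := by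
  have := (autComm τ).inv_mem (mem_autComm τ g)
  simpa using this

/-- `[G, τ, τ] = [G, τ]` for a coprime automorphism. -/
theorem autComm_res_eq_top [Finite G] (τ : MulAut G) {p m : ℕ} (hp : p.Prime)
    (hτ : τ ^ (p ^ m) = 1) (hpG : ¬ p ∣ Nat.card G)
    (h : ∀ g ∈ autComm τ, τ g ∈ autComm τ) (h' : ∀ g ∈ autComm τ, τ⁻¹ g ∈ autComm τ) :
    autComm (resAut τ (autComm τ) h h') = ⊤ := by
  set N := autComm τ with hN
  have hpN : ¬ p ∣ Nat.card N := fun hd => hpG (dvd_trans hd (Subgroup.card_subgroup_dvd_card N))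
  set A : Subgroup G := (autComm (resAut τ N h h')).map N.subtype with hA
  have hNA : N ≤ A := by
    apply autComm_le
    intro g
    obtain ⟨t, ht, hfix⟩ := aut_coset_fixed N τ hp hτ hpN h g (mem_autComm τ g)
    have hs : t⁻¹ ∈ N := N.inv_mem ht
    have h1 : g⁻¹ * τ g = (t⁻¹)⁻¹ * τ t⁻¹ := by
      have : τ g = g * t * (τ t)⁻¹ := by
        rw [map_mul] at hfix
        rw [← hfix]
        group
      rw [this, map_inv]
      group
    rw [h1]
    refine ⟨(⟨t⁻¹, hs⟩ : N)⁻¹ * resAut τ N h h' ⟨t⁻¹, hs⟩, mem_autComm _ _, ?_⟩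
    simp
  rw [eq_top_iff]
  intro x _
  obtain ⟨y, hy, hyx⟩ := hNA x.2
  have : y = x := Subtype.ext hyx
  rw [← this]
  exact hy

theorem autComm_quot_eq_top (σ : MulAut G) (N : Subgroup G) [N.Normal]
    (h : N.map (σ : G ≃* G).toMonoidHom = N) (k : ℕ) (htop : autComm (σ ^ k) = ⊤) :
    autComm ((quotAut σ N h) ^ k) = ⊤ := by
  rw [eq_top_iff]
  intro x hx
  clear hx
  induction x using QuotientGroup.induction_on with
  | H g =>
    have hg : g ∈ autComm (σ ^ k) := by rw [htop]; trivial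
    induction hg using Subgroup.closure_induction with
    | mem x hx =>
      obtain ⟨a, rfl⟩ := hx
      have : (QuotientGroup.mk (a⁻¹ * (σ ^ k) a) : G ⧸ N)
          = (QuotientGroup.mk a : G ⧸ N)⁻¹ * ((quotAut σ N h) ^ k) (QuotientGroup.mk a) := by
        rw [quotAut_pow_mk]
        rfl
      rw [this]
      exact mem_autComm _ _
    | one => exact Subgroup.one_mem _
    | mul x y _ _ hx hy => exact Subgroup.mul_mem _ hx hy
    | inv x _ hx => exact Subgroup.inv_mem _ hx

end autc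

end Cfsg.Agent.Lib.Helper5.SG
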