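import Mathlib
import Cfsg.Agent.Lib.Helper5.SG18

set_option autoImplicit false

namespace Cfsg.Agent.Lib.Helper5.SG

section cta

variable {G : Type*} [Group G]

/-- The automorphisms stabilizing a subgroup. -/
def stabAut (M : Subgroup G) : Subgroup (MulAut G) where
  carrier := {α | ∀ g, g ∈ M ↔ α g ∈ M}
  one_mem' := by intro g; simp
  mul_mem' := by
    intro a b ha hb g
    rw [MulAut.mul_apply, ← ha, ← hb]
  inv_mem' := by
    intro a ha g
    have := ha (a⁻¹ g)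
    rw [this]
    simp

theorem mem_stabAut (M : Subgroup G) (α : MulAut G) : α ∈ stabAut M ↔ ∀ g, g ∈ M ↔ α g ∈ M :=
  Iff.rfl

theorem inv_conj_conj {Γ : Type*} [Group Γ] (x g : Γ) : x⁻¹ * (x * g * x⁻¹) * x = g := by
  group

open SemidirectProduct in
theorem ct_action_aut [Finite G] (σ : MulAut G) {p n q r : ℕ} (hp : p.Prime) (hp2 : p ≠ 2)
    (hn : 1 ≤ n) (hqp : q.Prime) (hrp : r.Prime) (hpq : p ≠ q) (hpr : p ≠ r) (hqr : q ≠ r)
    (hσ : σ ^ (p ^ n) = 1) (hfpf : ∀ g, σ g = g → g = 1)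
    (M : Subgroup G) [hMn : M.Normal] (hMσ : ∀ g ∈ M, σ g ∈ M)
    (hMab : ∀ a ∈ M, ∀ b ∈ M, a * b = b * a) (hMr : ∀ a ∈ M, a ^ r = 1)
    (Q : Subgroup G) (hQ : IsPGroup q Q) (hQσ : ∀ g ∈ Q, σ g ∈ Q) :
    ∀ g ∈ Q, ∀ m ∈ M,
      (g⁻¹ * (σ ^ (p ^ (n - 1))) g) * m = m * (g⁻¹ * (σ ^ (p ^ (n - 1))) g) := by
  classical
  have hfr : Fact r.Prime := ⟨hrp⟩
  have hpos : 0 < p ^ n := pow_pos hp.pos n
  set T : Subgroup (MulAut G) := stabAut M with hT
  have hσT : σ ∈ T := aut_mem_iff σ hpos hσ M hMσ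
  let Γ := G ⋊[T.subtype] T
  let s : T := ⟨σ, hσT⟩
  let x : Γ := inr s
  have hspow : ∀ k : ℕ, ((s ^ k : T) : MulAut G) = σ ^ k := fun k => by simp [s]
  have hxpow : ∀ k : ℕ, x ^ k = inr (s ^ k) := fun k => (map_pow inr s k).symm
  have hconj : ∀ (k : ℕ) (a : G), x ^ k * inl a * (x ^ k)⁻¹ = (inl ((σ ^ k) a) : Γ) := by
    intro k a
    rw [hxpow, ← map_inv, ← inl_aut]
    simp [hspow]
  have hconj1 : ∀ a : G, x * inl a * x⁻¹ = (inl (σ a) : Γ) := by
    intro a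
    have := hconj 1 a
    simpa using this
  set Mt : Subgroup Γ := M.map inl with hMt
  set Qt : Subgroup Γ := Q.map inl with hQt
  have hMtn : Mt.Normal := by
    constructor
    intro v hv γ
    obtain ⟨m, hm, rfl⟩ := hv
    obtain ⟨a, t, rfl⟩ : ∃ (a : G) (t : T), γ = inl a * inr t :=
      ⟨γ.left, γ.right, (inl_left_mul_inr_right γ).symm⟩
    have h1 : (inl a * inr t : Γ) * inl m * (inl a * inr t)⁻¹
        = (inl (a * ((t : MulAut G) m) * a⁻¹) : Γ) := by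
      simp only [map_mul, map_inv, mul_inv_rev]
      have := inl_aut (φ := T.subtype) t m
      simp only [Subgroup.coe_subtype] at this
      rw [this]
      simp only [mul_assoc, map_inv]
    rw [h1]
    refine ⟨_, hMn.conj_mem _ ?_ _, rfl⟩
    exact ((mem_stabAut M _).1 t.2 m).1 hm
  have hMtfin : Finite Mt := by
    rw [hMt]
    exact Finite.of_surjective _ ((inl : G →* Γ).subgroupMap_surjective M)
  have hQtfin : Finite Qt := by
    rw [hQt]
    exact Finite.of_surjective _ ((inl : G →* Γ).subgroupMap_surjective Q)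
  letI cg : CommGroup Mt :=
    { (inferInstance : Group Mt) with
      mul_comm := by
        rintro ⟨_, a, ha, rfl⟩ ⟨_, b, hb, rfl⟩
        apply Subtype.ext
        show (inl a : Γ) * inl b = inl b * inl a
        rw [← map_mul, ← map_mul, hMab a ha b hb] }
  have hV : ∀ v : Mt, v ^ r = 1 := by
    rintro ⟨_, a, ha, rfl⟩
    apply Subtype.ext
    show (inl a : Γ) ^ r = 1
    rw [← map_pow, hMr a ha, map_one]
  let φ : Γ →* MulAut Mt := MulAut.conjNormal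
  have hx : x ^ (p ^ n) = 1 := by
    rw [hxpow]
    have : s ^ (p ^ n) = 1 := Subtype.ext (by rw [hspow, hσ]; rfl)
    rw [this, map_one]
  have hσinv : ∀ g ∈ Q, σ⁻¹ g ∈ Q := aut_inv_mem σ hpos hσ Q hQσ
  have hxQ : ∀ g, g ∈ Qt ↔ x * g * x⁻¹ ∈ Qt := by
    intro g
    constructor
    · rintro ⟨a, ha, rfl⟩
      rw [hconj1]
      exact ⟨_, hQσ a ha, rfl⟩
    · rintro ⟨b, hb, hbg⟩
      refine ⟨σ⁻¹ b, hσinv b hb, ?_⟩
      have h1 : g = x⁻¹ * inl b * x := by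
        rw [hbg, inv_conj_conj]
      have h2 : (inl (σ (σ⁻¹ b)) : Γ) = inl b := by simp
      rw [h1, ← h2, ← hconj1 (σ⁻¹ b), inv_conj_conj]
  have hfpfQ : ∀ g ∈ Qt, x * g * x⁻¹ = g → g = 1 := by
    rintro _ ⟨a, ha, rfl⟩ h
    rw [hconj1] at h
    have := hfpf a (inl_injective h)
    rw [this, map_one]
  have hCV : ∀ v : Mt, φ x v = v → v = 1 := by
    rintro ⟨_, a, ha, rfl⟩ h
    have h1 : x * inl a * x⁻¹ = (inl a : Γ) := congrArg Subtype.val h
    rw [hconj1] at h1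
    have := hfpf a (inl_injective h1)
    apply Subtype.ext
    show (inl a : Γ) = 1
    rw [this, map_one]
  have hQtp : IsPGroup q Qt := hQ.map _
  have key := ct_action r hV φ hp hp2 hn hqp hpq hpr hqr Qt hQtp x hx hxQ hfpfQ hCV
  intro g hg m hm
  have h1 := key (inl g) ⟨g, hg, rfl⟩
  rw [hconj] at h1
  have h2 := congrArg (fun f : MulAut Mt => ((f ⟨inl m, ⟨m, hm, rfl⟩⟩ : Mt) : Γ)) h1
  simp only [φ, MulAut.conjNormal_apply] at h2
  have h2' : (inl ((σ ^ (p ^ (n - 1))) g * m * ((σ ^ (p ^ (n - 1))) g)⁻¹) : Γ)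
      = inl (g * m * g⁻¹) := by
    simp only [map_mul, map_inv]
    exact h2
  have h3 := inl_injective h2'
  set t := (σ ^ (p ^ (n - 1))) g with ht
  calc g⁻¹ * t * m = g⁻¹ * (t * m * t⁻¹) * t := by group
    _ = g⁻¹ * (g * m * g⁻¹) * t := by rw [h3]
    _ = m * (g⁻¹ * t) := by group

end cta

end Cfsg.Agent.Lib.Helper5.SG
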