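import Mathlib
import Cfsg.Agent.Lib.Helper5.SG19
import Cfsg.Agent.Lib.Helper1.Nilp

set_option autoImplicit false

namespace Cfsg.Agent.Lib.Helper5.SG

section kc

universe u

theorem sg_eq_top_of_sylow_le {G : Type*} [Group G] [Finite G] (S : Subgroup G)
    (h : ∀ (r : ℕ) [Fact r.Prime], ∃ R : Sylow r G, (R : Subgroup G) ≤ S) : S = ⊤ := by
  apply Subgroup.eq_top_of_le_card
  apply Nat.le_of_dvd Nat.card_pos
  refine (Nat.dvd_iff_prime_pow_dvd_dvd _ _).2 fun r k hr hk => ?_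
  have : Fact r.Prime := ⟨hr⟩
  obtain ⟨R, hR⟩ := h r
  exact dvd_trans (R.pow_dvd_card_of_pow_dvd_card hk) (Subgroup.card_dvd_of_le hR)

/-- A minimal invariant normal subgroup of a solvable group is elementary abelian. -/
theorem exists_min_invariant {G : Type*} [Group G] [Finite G] [Nontrivial G]
    [hsolv : Group.IsSolvable G] (σ : MulAut G) {m : ℕ} (hm : 0 < m) (hσ : σ ^ m = 1) :
    ∃ (M : Subgroup G) (r : ℕ), r.Prime ∧ M.Normal ∧ M ≠ ⊥ ∧ (∀ g ∈ M, σ g ∈ M) ∧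
      (∀ N : Subgroup G, N.Normal → N ≠ ⊥ → (∀ g ∈ N, σ g ∈ N) → N ≤ M → N = M) ∧
      (∀ a ∈ M, ∀ b ∈ M, a * b = b * a) ∧ (∀ a ∈ M, a ^ r = 1) := by
  classical
  let S : Set (Subgroup G) := {N | N.Normal ∧ N ≠ ⊥ ∧ ∀ g ∈ N, σ g ∈ N}
  have hSne : S.Nonempty := ⟨⊤, inferInstance, top_ne_bot, fun g _ => trivial⟩
  obtain ⟨M, hMS, hMmin⟩ :=
    WellFounded.has_min (measure (fun N : Subgroup G => Nat.card N)).wf S hSne
  obtain ⟨hMn, hMne, hMσ⟩ := hMS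
  have hmin : ∀ N : Subgroup G, N.Normal → N ≠ ⊥ → (∀ g ∈ N, σ g ∈ N) → N ≤ M → N = M := by
    intro N h1 h2 h3 h4
    have := hMmin N ⟨h1, h2, h3⟩
    exact Subgroup.eq_of_le_of_card_ge h4 (not_lt.1 this)
  have hmapM := aut_map_eq σ hm hσ M hMσ
  have hK : ⁅M, M⁆ = ⊥ := by
    by_contra hne
    have hlt : ⁅M, M⁆ < M := Group.IsSolvable.commutator_lt_of_ne_bot hMne
    have hKn : (⁅M, M⁆ : Subgroup G).Normal := Subgroup.commutator_normal M M
    have hKσ : ∀ g ∈ (⁅M, M⁆ : Subgroup G), σ g ∈ (⁅M, M⁆ : Subgroup G) := by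
      intro g hg
      have h1 : σ g ∈ (⁅M, M⁆ : Subgroup G).map (σ : G ≃* G).toMonoidHom := ⟨g, hg, rfl⟩
      rw [Subgroup.map_commutator, hmapM] at h1
      exact h1
    exact hlt.ne (hmin _ hKn hne hKσ hlt.le)
  have hMab : ∀ a ∈ M, ∀ b ∈ M, a * b = b * a := by
    intro a ha b hb
    have h1 := (Subgroup.commutator_eq_bot_iff_le_centralizer.1 hK) ha
    exact (Subgroup.mem_centralizer_iff.1 h1 b hb).symm
  have hcard : Nat.card M ≠ 1 := by
    intro h1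
    exact hMne (Subgroup.card_eq_one.1 h1)
  obtain ⟨r, hr, hrdvd⟩ := Nat.exists_prime_and_dvd hcard
  have hfr : Fact r.Prime := ⟨hr⟩
  let Ω : Subgroup G :=
    { carrier := {g | g ∈ M ∧ g ^ r = 1}
      one_mem' := ⟨M.one_mem, one_pow r⟩
      mul_mem' := by
        rintro a b ⟨ha, ha'⟩ ⟨hb, hb'⟩
        refine ⟨M.mul_mem ha hb, ?_⟩
        have hc : Commute a b := hMab a ha b hb
        rw [hc.mul_pow, ha', hb', one_mul]
      inv_mem' := by
        rintro a ⟨ha, ha'⟩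
        exact ⟨M.inv_mem ha, by rw [inv_pow, ha', inv_one]⟩ }
  have hΩn : Ω.Normal := by
    constructor
    rintro a ⟨ha, ha'⟩ g
    refine ⟨hMn.conj_mem a ha g, ?_⟩
    rw [conj_pow, ha']
    group
  have hΩσ : ∀ g ∈ Ω, σ g ∈ Ω := by
    rintro a ⟨ha, ha'⟩
    exact ⟨hMσ a ha, by rw [← map_pow, ha', map_one]⟩
  have hΩne : Ω ≠ ⊥ := by
    obtain ⟨x, hx⟩ := exists_prime_orderOf_dvd_card' (G := M) r hrdvd
    intro hbot
    have h1 : (x : G) ∈ Ω := by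
      refine ⟨x.2, ?_⟩
      have : x ^ r = 1 := by rw [← hx]; exact pow_orderOf_eq_one x
      have h2 := congrArg Subtype.val this
      simpa using h2
    rw [hbot, Subgroup.mem_bot] at h1
    have h3 : x = 1 := Subtype.ext h1
    rw [h3, orderOf_one] at hx
    exact hr.one_lt.ne hx
  have hΩM : Ω = M := hmin Ω hΩn hΩne hΩσ (fun g hg => hg.1)
  refine ⟨M, r, hr, hMn, hMne, hMσ, hmin, hMab, ?_⟩
  intro a ha
  rw [← hΩM] at ha
  exact ha.2

end kc

end Cfsg.Agent.Lib.Helper5.SG
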