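import Mathlib
import Cfsg.Agent.Lib.Helper5.SG20

set_option autoImplicit false

namespace Cfsg.Agent.Lib.Helper5.SG

section kc2

universe u

theorem centralizer_invariant {G : Type*} [Group G] (σ : MulAut G) (M : Subgroup G)
    (hM : ∀ g, g ∈ M ↔ σ g ∈ M) :
    ∀ g ∈ Subgroup.centralizer (M : Set G), σ g ∈ Subgroup.centralizer (M : Set G) := by
  intro g hg
  rw [Subgroup.mem_centralizer_iff] at hg ⊢
  intro m hm
  have hm' : σ⁻¹ m ∈ M := by
    rw [hM]
    simpa using hm
  have h1 := hg _ hm'
  have h2 := congrArg σ h1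
  simpa using h2

/-- Key step: if `G = [G, τ]` then `G` is nilpotent. -/
theorem nilpotent_of_autComm_eq_top {p : ℕ} (hp : p.Prime) (hp2 : p ≠ 2) {n : ℕ} (hn : 1 ≤ n) :
    ∀ (c : ℕ) (G : Type u) [Group G] [Finite G], Nat.card G = c → Group.IsSolvable G →
      ∀ σ : MulAut G, σ ^ (p ^ n) = 1 → (∀ g, σ g = g → g = 1) →
        autComm (σ ^ (p ^ (n - 1))) = ⊤ → Group.IsNilpotent G := by
  intro c
  induction c using Nat.strong_induction_on with
  | _ c ih =>
  intro G _ _ hc hsolv σ hσ hfpf htop
  classical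
  by_cases htriv : Subsingleton G
  · infer_instance
  have hnt : Nontrivial G := not_subsingleton_iff_nontrivial.1 htriv
  have hpos : 0 < p ^ n := pow_pos hp.pos n
  have hpG : ¬ p ∣ Nat.card G := not_dvd_card_of_fpf σ hp hσ hfpf
  set τ := σ ^ (p ^ (n - 1)) with hτ
  obtain ⟨M, r, hr, hMn, hMne, hMσ, hmin, hMab, hMr⟩ := exists_min_invariant σ hpos hσ
  have hfr : Fact r.Prime := ⟨hr⟩
  have hmapM := aut_map_eq σ hpos hσ M hMσ
  have hMiff := aut_mem_iff σ hpos hσ M hMσ
  -- the quotient
  set σq := quotAut σ M hmapM with hσq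
  have hσq1 : σq ^ (p ^ n) = 1 := quotAut_pow_eq_one σ M hmapM (by intro g; rw [hσ]; simp)
  have hfq := quotAut_fpf σ hp hσ hfpf M hMσ hmapM
  have htopq := autComm_quot_eq_top σ M hmapM (p ^ (n - 1)) htop
  have hcardM : 1 < Nat.card M := (Subgroup.one_lt_card_iff_ne_bot M).2 hMne
  have hcardq : Nat.card (G ⧸ M) < c := by
    have h1 := Subgroup.card_eq_card_quotient_mul_card_subgroup M
    have h2 : 0 < Nat.card (G ⧸ M) := Nat.card_pos
    rw [← hc, h1]
    nlinarith
  have hnilq : Group.IsNilpotent (G ⧸ M) :=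
    ih _ hcardq (G ⧸ M) rfl inferInstance σq hσq1 hfq htopq
  -- the centralizer of M
  set C : Subgroup G := Subgroup.centralizer (M : Set G) with hC
  have hCn : C.Normal := Subgroup.normal_centralizer
  have hCσ : ∀ g ∈ C, σ g ∈ C := centralizer_invariant σ M hMiff
  have hCτ : ∀ g ∈ C, τ g ∈ C := aut_pow_mem σ C hCσ _
  let D : Subgroup G :=
    { carrier := {g | g⁻¹ * τ g ∈ C}
      one_mem' := by simp
      mul_mem' := by
        intro a b ha hb
        have ha' : a⁻¹ * τ a ∈ C := ha
        have hb' : b⁻¹ * τ b ∈ C := hb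
        have h1 := hCn.conj_mem _ ha' b⁻¹
        have h2 := C.mul_mem h1 hb'
        have : (a * b)⁻¹ * τ (a * b) = b⁻¹ * (a⁻¹ * τ a) * b⁻¹⁻¹ * (b⁻¹ * τ b) := by
          rw [map_mul]; group
        show (a * b)⁻¹ * τ (a * b) ∈ C
        rw [this]
        exact h2
      inv_mem' := by
        intro a ha
        have ha' : a⁻¹ * τ a ∈ C := ha
        have h1 := hCn.conj_mem _ (C.inv_mem ha') a
        have : a⁻¹⁻¹ * τ a⁻¹ = a * (a⁻¹ * τ a)⁻¹ * a⁻¹ := by
          rw [map_inv]; group
        show a⁻¹⁻¹ * τ a⁻¹ ∈ C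
        rw [this]
        exact h1 }
  have hrG : r ∣ Nat.card G := by
    have hMp : ∃ x : M, x ≠ 1 := by
      by_contra hcon
      push Not at hcon
      apply hMne
      rw [eq_bot_iff]
      intro g hg
      have := hcon ⟨g, hg⟩
      rw [Subgroup.mem_bot]
      exact congrArg Subtype.val this
    obtain ⟨x, hx⟩ := hMp
    have h1 : orderOf x ∣ r := orderOf_dvd_of_pow_eq_one (Subtype.ext (by simpa using hMr x x.2))
    have h2 : orderOf x = r := by
      rcases (Nat.dvd_prime hr).1 h1 with h | h
      · exact absurd (orderOf_eq_one_iff.1 h) hx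
      · exact h
    rw [← h2]
    exact dvd_trans (orderOf_dvd_natCard x) (Subgroup.card_subgroup_dvd_card M)
  have hpr : p ≠ r := fun h => hpG (h ▸ hrG)
  have hMp : IsPGroup r M := by
    intro x
    refine ⟨1, Subtype.ext ?_⟩
    simpa using hMr x x.2
  have hD : D = ⊤ := by
    apply sg_eq_top_of_sylow_le
    intro q hq
    obtain ⟨Q, hQσ⟩ := exists_invariant_sylow σ hp hσ hpG q
    refine ⟨Q, ?_⟩
    by_cases hqp : q = p
    · have h1 : Nat.card Q = 1 := by
        rw [Sylow.card_eq_multiplicity, hqp, Nat.factorization_eq_zero_of_not_dvd hpG, pow_zero]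
      have h2 : (Q : Subgroup G) = ⊥ := Subgroup.card_eq_one.1 h1
      rw [h2]
      exact bot_le
    by_cases hqr : q = r
    · subst hqr
      have hMQ : M ≤ Q := hMp.le_sylow_of_normal Q
      have hQn : (Q : Subgroup G).Normal := by
        have h1 : ((Sylow.mapSurjective (QuotientGroup.mk'_surjective M) Q : Sylow q (G ⧸ M)) :
            Subgroup (G ⧸ M)).Normal := inferInstance
        have h2 := h1.comap (QuotientGroup.mk' M)
        rw [Sylow.coe_mapSurjective, Subgroup.comap_map_eq, QuotientGroup.ker_mk',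
          sup_eq_left.2 hMQ] at h2
        exact h2
      have hQiff := aut_mem_iff σ hpos hσ Q hQσ
      set Z : Subgroup G := M ⊓ Subgroup.centralizer (Q : Set G) with hZ
      have hZn : Z.Normal := by
        have : (Subgroup.centralizer ((Q : Subgroup G) : Set G)).Normal :=
          Subgroup.normal_centralizer
        exact Subgroup.normal_inf_normal _ _
      have hZσ : ∀ g ∈ Z, σ g ∈ Z := by
        intro g hg
        rw [hZ, Subgroup.mem_inf] at hg ⊢
        exact ⟨hMσ g hg.1, centralizer_invariant σ Q hQiff g hg.2⟩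
      have hZne : Z ≠ ⊥ := by
        have hnil : Group.IsNilpotent (Q : Subgroup G) := Q.isPGroup'.isNilpotent
        have hMQn : (M.subgroupOf Q).Normal := inferInstance
        have hMQne : M.subgroupOf Q ≠ ⊥ := by
          intro hbot
          apply hMne
          rw [Subgroup.subgroupOf_eq_bot, disjoint_iff, inf_eq_left.2 hMQ] at hbot
          exact hbot
        have h1 := Cfsg.Agent.Lib.Helper1.normal_inf_center_ne_bot (M.subgroupOf Q) hMQne
        intro hbot
        apply h1
        rw [eq_bot_iff]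
        intro z hz
        rw [Subgroup.mem_inf] at hz
        have hzM : (z : G) ∈ M := hz.1
        have hzc : (z : G) ∈ Subgroup.centralizer ((Q : Subgroup G) : Set G) := by
          rw [Subgroup.mem_centralizer_iff]
          intro h hh
          have := (Subgroup.mem_center_iff.1 hz.2) ⟨h, hh⟩
          exact congrArg Subtype.val this
        have hzZ : (z : G) ∈ Z := Subgroup.mem_inf.2 ⟨hzM, hzc⟩
        rw [hbot, Subgroup.mem_bot] at hzZ
        rw [Subgroup.mem_bot]
        exact Subtype.ext hzZ
      have hZM : Z = M := hmin Z hZn hZne hZσ inf_le_left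
      have hQC : (Q : Subgroup G) ≤ C := by
        intro g hg
        rw [hC, Subgroup.mem_centralizer_iff]
        intro m hm
        have hmZ : m ∈ Z := by rw [hZM]; exact hm
        have h1 := (Subgroup.mem_inf.1 hmZ).2
        exact ((Subgroup.mem_centralizer_iff.1 h1) g hg).symm
      intro g hg
      have hgC := hQC hg
      exact C.mul_mem (C.inv_mem hgC) (hCτ g hgC)
    · have key := ct_action_aut σ hp hp2 hn hq.out hr (fun h => hqp h.symm) hpr hqr hσ hfpf M hMσ
        hMab hMr Q Q.isPGroup' hQσ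
      intro g hg
      show g⁻¹ * τ g ∈ C
      rw [hC, Subgroup.mem_centralizer_iff]
      intro m hm
      exact (key g hg m hm).symm
  have hall : ∀ g, g⁻¹ * τ g ∈ C := by
    intro g
    have : g ∈ D := by rw [hD]; trivial
    exact this
  have hCtop : C = ⊤ := by
    rw [eq_top_iff, ← htop]
    exact autComm_le τ C hall
  have hMc : M ≤ Subgroup.center G := by
    intro m hm
    rw [Subgroup.mem_center_iff]
    intro g
    have hg : g ∈ C := by rw [hCtop]; trivial
    exact ((Subgroup.mem_centralizer_iff.1 hg) m hm).symm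
  exact Subgroup.isNilpotent_of_ker_le_center (QuotientGroup.mk' M)
    (by rw [QuotientGroup.ker_mk']; exact hMc)

end kc2

end Cfsg.Agent.Lib.Helper5.SG
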