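import Mathlib
import Cfsg.Agent.Lib.Helper5.SG21

set_option autoImplicit false

namespace Cfsg.Agent.Lib.Helper5.SG

section main

universe u

theorem lcs_comap_le {G H : Type*} [Group G] [Group H] (f : G →* H) (A B : Subgroup H) (k : ℕ)
    (h : A.lowerCentralSeries k ≤ B) : (A.comap f).lowerCentralSeries k ≤ B.comap f := by
  rw [← Subgroup.map_le_iff_le_comap, Subgroup.map_lowerCentralSeries]
  exact le_trans (Subgroup.lowerCentralSeries_mono k (Subgroup.map_comap_le f A)) h

/-- Shult–Gross: a solvable group with a fixed-point-free automorphism of order dividing `p ^ n`,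
`p` odd, has Fitting height at most `n`. -/
theorem shult_gross {p : ℕ} (hp : p.Prime) (hp2 : p ≠ 2) :
    ∀ (n : ℕ) (G : Type u) [Group G] [Finite G], Group.IsSolvable G → ∀ σ : MulAut G,
      σ ^ (p ^ n) = 1 → (∀ g, σ g = g → g = 1) →
      ∃ F : Fin (n + 1) → Subgroup G, F 0 = ⊥ ∧ F (Fin.last n) = ⊤ ∧ Monotone F ∧
        (∀ i, (F i).Normal) ∧
        ∀ i : Fin n, ∃ k, (F i.succ).lowerCentralSeries k ≤ F i.castSucc := by
  intro n
  induction n with
  | zero =>
    intro G _ _ hsolv σ hσ hfpf
    have hσ1 : σ = 1 := by simpa using hσ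
    have hsub : Subsingleton G := by
      constructor
      intro a b
      have ha := hfpf a (by rw [hσ1]; rfl)
      have hb := hfpf b (by rw [hσ1]; rfl)
      rw [ha, hb]
    refine ⟨fun _ => ⊥, rfl, Subsingleton.elim _ _, fun _ _ _ => le_rfl, fun _ => inferInstance,
      fun i => i.elim0⟩
  | succ n ih =>
    intro G _ _ hsolv σ hσ hfpf
    classical
    have hpos : 0 < p ^ (n + 1) := pow_pos hp.pos _
    have hpG : ¬ p ∣ Nat.card G := not_dvd_card_of_fpf σ hp hσ hfpf
    set τ := σ ^ (p ^ n) with hτ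
    set N : Subgroup G := autComm τ with hN
    have hcomm : σ * τ = τ * σ := (Commute.pow_right (Commute.refl σ) _)
    have hNσ : ∀ g ∈ N, σ g ∈ N := autComm_invariant τ σ hcomm
    have hNσ' : ∀ g ∈ N, σ⁻¹ g ∈ N := aut_inv_mem σ hpos hσ N hNσ
    have hmapN := aut_map_eq σ hpos hσ N hNσ
    have hσq1 : (quotAut σ N hmapN) ^ (p ^ n) = 1 :=
      quotAut_pow_eq_one σ N hmapN (fun g => autComm_inv_mul_mem τ g)
    have hfq := quotAut_fpf σ hp hσ hfpf N hNσ hmapN
    obtain ⟨Fq, hF0, hFl, hFm, hFn, hFk⟩ :=
      ih (G ⧸ N) inferInstance (quotAut σ N hmapN) hσq1 hfq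
    -- nilpotency of N
    have hτpow : τ ^ (p ^ 1) = 1 := by
      rw [hτ, ← pow_mul, pow_one, ← pow_succ]
      exact hσ
    have hNτ : ∀ g ∈ N, τ g ∈ N := aut_pow_mem σ N hNσ _
    have hNτ' : ∀ g ∈ N, τ⁻¹ g ∈ N := aut_inv_mem τ (pow_pos hp.pos 1) hτpow N hNτ
    have htop := autComm_res_eq_top τ hp hτpow hpG hNτ hNτ'
    set σN := resAut σ N hNσ hNσ' with hσN
    have hσN1 : σN ^ (p ^ (n + 1)) = 1 := by
      ext g
      rw [resAut_pow_coe, hσ]
      rfl
    have hfN : ∀ g : N, σN g = g → g = 1 := by
      intro g hg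
      have h1 : σ (g : G) = g := congrArg Subtype.val hg
      exact Subtype.ext (hfpf _ h1)
    have hres : resAut τ N hNτ hNτ' = σN ^ (p ^ (n + 1 - 1)) := by
      ext g
      rw [resAut_pow_coe]
      rfl
    rw [hres] at htop
    have hNnil : Group.IsNilpotent N :=
      nilpotent_of_autComm_eq_top hp hp2 (n := n + 1) (by omega) _ N rfl inferInstance σN hσN1
        hfN htop
    obtain ⟨k0, hk0⟩ := (Subgroup.isNilpotent_iff_lowerCentralSeries N).1 hNnil
    -- build the chain
    let F : Fin (n + 2) → Subgroup G :=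
      Fin.cons ⊥ (fun i => (Fq i).comap (QuotientGroup.mk' N))
    have hFsucc : ∀ i : Fin (n + 1), F i.succ = (Fq i).comap (QuotientGroup.mk' N) := by
      intro i
      simp [F]
    have hFzero : F 0 = ⊥ := by simp [F]
    have hF1 : F (Fin.succ 0) = N := by
      rw [hFsucc, hF0]
      exact QuotientGroup.ker_mk' N  
    refine ⟨F, hFzero, ?_, ?_, ?_, ?_⟩
    · have : Fin.last (n + 1) = (Fin.last n).succ := rfl
      rw [this, hFsucc, hFl]
      rfl
    · intro i j hij
      induction i using Fin.cases with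
      | zero => rw [hFzero]; exact bot_le
      | succ i =>
        induction j using Fin.cases with
        | zero => exact absurd hij (by simp)
        | succ j =>
          rw [hFsucc, hFsucc]
          exact Subgroup.comap_mono (hFm (Fin.succ_le_succ_iff.1 hij))
    · intro i
      induction i using Fin.cases with
      | zero => rw [hFzero]; infer_instance
      | succ i =>
        rw [hFsucc]
        exact (hFn i).comap _
    · intro i
      induction i using Fin.cases with
      | zero =>
        refine ⟨k0, ?_⟩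
        rw [hF1, hk0]
        exact bot_le
      | succ i =>
        obtain ⟨k, hk⟩ := hFk i
        refine ⟨k, ?_⟩
        have h1 : (Fin.succ i).succ = (Fin.succ i).succ := rfl
        have h2 : (Fin.succ i).castSucc = (Fin.castSucc i).succ := rfl
        rw [h2, hFsucc, hFsucc]
        exact lcs_comap_le _ _ _ k hk

end main

end Cfsg.Agent.Lib.Helper5.SG
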