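import Mathlib
import Cfsg.Agent.Lib.Helper5.SL7H5core
import Cfsg.Agent.Lib.Helper11.SL7H3

/-!
# SL7 row H5 (helper5): `glue_of_two`, verbatim (= `sl7h5_core` on H3 `torus_comm`).
-/

set_option autoImplicit false

namespace Cfsg.Agent.Lib.Helper1.SLN

open Matrix Equiv
open Cfsg.Agent.Lib.helper17.SLP

universe u v w

section H

variable {F : Type u} [Field F] {G : Type v} [Group G]

/-- H5 [M]  deps H3 H4: `sl7h5_core` with `torus_comm`. -/
theorem glue_of_two [Fintype F] (M : ℕ) (α : alternatingGroup (Fin (M + 4)) →* G)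
    (β : Matrix.SpecialLinearGroup (Fin 3) F →* G) (H : Glue3 M α β)
    (h5a : Commute (β (emb23 (xU (1 : F)))) (α (rho M) * β (emb23 (xU (1 : F))) * (α (rho M))⁻¹))
    (h5b : Commute (β (emb23 (xU (1 : F)))) (α (rho M) * β (emb23 (xL (1 : F))) * (α (rho M))⁻¹)) :
    Glue M α β :=
  sl7h5_core M α β H (fun s t => torus_comm M α β H s t) h5a h5b

end H

end Cfsg.Agent.Lib.Helper1.SLN
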