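import Mathlib
import Cfsg.Agent.Lib.Helper19.SO8.Defs
import Cfsg.Agent.Lib.Helper21.OTSTYFPF
import Cfsg.Agent.Lib.Helper21.OTSTYCLASS
import Cfsg.Agent.Lib.helper15.OTSSTDCTX
import Cfsg.Agent.Lib.Helper25.BCGX4
import Cfsg.Agent.Lib.helper8.S5955X1

/-!
# Project SO8 (S3589), row SMINUS, second copy (helper5), part (a): from a symplectic `y` of order `q^n + 1`
on the standard space with `y - y⁻¹` and `y^k - 1` invertible to `OReal F n (-1) (q^n + 1)`, via the
quadratic form `v ↦ ⟨v, y v⟩` (`qyQ y`).
-/

set_option autoImplicit false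

namespace Cfsg.Agent.Lib.Helper19.SO8

open Polynomial Module Cfsg.Agent.Lib.Helper13.OTS Cfsg.Agent.Lib.Helper13.S5955
  Cfsg.Agent.Lib.helper15.S5972

theorem so8sminus_pres_pow {F : Type*} [Field F] {V : Type*} [AddCommGroup V] [Module F V]
    (Q : QuadraticForm F V) (y : Module.End F V) (h : ∀ v, Q (y v) = Q v) (k : ℕ) (v : V) :
    Q ((y ^ k) v) = Q v := by
  induction k generalizing v with
  | zero => rw [pow_zero, Module.End.one_apply]
  | succ k ih => rw [pow_succ, Module.End.mul_apply, ih, h]

theorem so8sminus_core {F : Type*} [Field F] [Fintype F] [CharP F 2] (n : ℕ) (hn : 1 ≤ n)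
    (y yi : Module.End F (Fin n ⊕ Fin n → F))
    (hpres : ∀ u v, stdB n F (y u) (y v) = stdB n F u v)
    (hinv : y * yi = 1)
    (hpow : y ^ (Fintype.card F ^ n + 1) = 1)
    (horder : ∀ j : ℕ, y ^ j = 1 → Fintype.card F ^ n + 1 ∣ j)
    (Di : Module.End F (Fin n ⊕ Fin n → F)) (hD : (y - yi) * Di = 1)
    (r : ℕ) [Fact r.Prime] (hr2 : r ≠ 2) (hr : r ∣ Fintype.card F ^ n + 1)
    (Ei : Module.End F (Fin n ⊕ Fin n → F))
    (hE : (y ^ ((Fintype.card F ^ n + 1) / r) - 1) * Ei = 1) :
    OReal F n (-1) (Fintype.card F ^ n + 1) := by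
  classical
  obtain ⟨halt, hndB⟩ := stdB_alt_nd (F := F) n
  have hskew : ∀ a b, stdB n F a b = - stdB n F b a := by
    intro a b
    have h := halt (a + b)
    simp only [map_add, LinearMap.add_apply, halt] at h
    linear_combination h
  set Qs : QuadraticForm F (Fin n ⊕ Fin n → F) := qyQ y with hQs
  have hQpres : ∀ v, Qs (y v) = Qs v := by
    intro v
    rw [hQs, qyQ_apply, qyQ_apply, hpres]
  have hyi : ∀ v, y (yi v) = v := fun v => by
    rw [← Module.End.mul_apply, hinv, Module.End.one_apply]
  have hpolar : ∀ u v, QuadraticMap.polar (⇑Qs) u v = stdB n F u ((y - yi) v) := by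
    intro u v
    unfold QuadraticMap.polar
    rw [hQs, qyQ_apply, qyQ_apply, qyQ_apply, LinearMap.sub_apply, map_sub]
    have h1 : stdB n F v (y u) = - stdB n F u (yi v) := by
      rw [hskew, ← hpres u (yi v), hyi]
    simp only [map_add, LinearMap.add_apply]
    rw [h1]
    ring
  have hnd : ∀ u, (∀ v, QuadraticMap.polar (⇑Qs) u v = 0) → u = 0 := by
    intro u hu
    apply hndB
    intro w
    have := hu (Di w)
    rw [hpolar, ← Module.End.mul_apply, hD, Module.End.one_apply] at this
    exact this
  have hfr : finrank F (Fin n ⊕ Fin n → F) = 2 * n := by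
    rw [Module.finrank_fintype_fun_eq_card, Fintype.card_sum, Fintype.card_fin]
    ring
  have hfrtop : finrank F ↥(⊤ : Submodule F (Fin n ⊕ Fin n → F)) = 2 * n := by
    rw [finrank_top, hfr]
  have hSND : SND (qB Qs) ⊤ := by
    intro u _ hu
    apply hnd
    intro v
    have := hu v Submodule.mem_top
    rwa [QuadraticMap.polarBilin_apply_apply] at this
  have hev : Even (finrank F ↥(⊤ : Submodule F (Fin n ⊕ Fin n → F))) := by
    rw [hfrtop]
    exact even_two_mul n
  -- the type is `-1`
  have hty : QTy Qs ⊤ (-1) := by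
    rcases q_ty_class Qs ⊤ hSND hev with ⟨-, h1⟩ | ⟨-, h2, -⟩
    · exfalso
      set N := Fintype.card F ^ n + 1 with hN
      set k := N / r with hk
      have hkr : k * r = N := Nat.div_mul_cancel hr
      have hctx : QCtx r Qs (y ^ k) := by
        refine ⟨hnd, fun v => so8sminus_pres_pow Qs y hQpres k v, ?_⟩
        rw [← pow_mul, hkr, hpow]
      have hcyc : cycS r (y ^ k) = ⊤ := by
        unfold cycS
        have h1 : aeval (y ^ k) (cyclotomic r F * (X - 1)) = 0 := by
          rw [cyclotomic_prime_mul_X_sub_one]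
          simp only [map_sub, map_pow, aeval_X, map_one]
          rw [hctx.pow, sub_self]
        have h2 : aeval (y ^ k) (cyclotomic r F) = 0 := by
          rw [map_mul] at h1
          have h3 : aeval (y ^ k) (X - 1 : F[X]) = y ^ k - 1 := by
            simp only [map_sub, aeval_X, map_one]
          rw [h3] at h1
          calc aeval (y ^ k) (cyclotomic r F)
              = aeval (y ^ k) (cyclotomic r F) * ((y ^ k - 1) * Ei) := by rw [hE, mul_one]
            _ = (aeval (y ^ k) (cyclotomic r F) * (y ^ k - 1)) * Ei := by rw [mul_assoc]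
            _ = 0 := by rw [h1, zero_mul]
        rw [h2, LinearMap.ker_zero]
      have hne : (⊤ : Submodule F (Fin n ⊕ Fin n → F)) ≠ ⊥ := by
        intro hb
        have := hfrtop
        rw [hb, finrank_bot] at this
        omega
      have hfpf := q_ty_fpf (p := 2) (r := r) hr2 hctx ⊤ (fun w _ => Submodule.mem_top) hSND
        (by rw [hcyc]) hne hev 1 h1
      rw [hfrtop] at hfpf
      have hdiv : 2 * n / 2 = n := by omega
      rw [hdiv] at hfpf
      have hz : ((Fintype.card F : ℕ) : ZMod r) ^ n + 1 = 0 := by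
        have : ((Fintype.card F ^ n + 1 : ℕ) : ZMod r) = 0 :=
          (ZMod.natCast_eq_zero_iff _ _).mpr hr
        push_cast at this
        exact this
      rw [hfpf] at hz
      have h2' : ((2 : ℕ) : ZMod r) = 0 := by
        push_cast
        push_cast at hz
        linear_combination hz
      have hdvd := (ZMod.natCast_eq_zero_iff 2 r).mp h2'
      have hrP : r.Prime := Fact.out
      exact hr2 ((Nat.prime_dvd_prime_iff_eq hrP Nat.prime_two).mp hdvd)
    · exact h2
  -- the standard structure
  have hstd : QStd Qs n (-1) := by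
    refine ⟨?_, ?_, ?_, Or.inr rfl⟩
    · constructor
      · intro u hu
        apply hnd
        intro v
        have := hu v
        rwa [QuadraticMap.polarBilin_apply_apply] at this
      · intro u hu
        apply hnd
        intro v
        have := hu v
        rw [QuadraticMap.polarBilin_apply_apply, QuadraticMap.polar_comm] at this
        exact this
    · rw [Fintype.card_sum, Fintype.card_fin]
      ring
    · unfold QTy at hty
      have h1 : finrank F ↥(⊤ : Submodule F (Fin n ⊕ Fin n → F)) / 2 = n := by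
        rw [hfrtop]
        omega
      rw [h1] at hty
      exact (Cfsg.Agent.Lib.Helper16.OSemi.isType_congr
        (Submodule.topEquiv (R := F) (M := Fin n ⊕ Fin n → F)).toEquiv (⇑Qs)
        (fun w : ↥(⊤ : Submodule F (Fin n ⊕ Fin n → F)) => Qs (w : Fin n ⊕ Fin n → F))
        (fun w => rfl) n (-1)).mpr hty
  -- the isometry
  obtain ⟨x, hx, hxy, hxN⟩ := q_realize Qs (Fintype.card F ^ n + 1) y ⟨hnd, hQpres, hpow⟩
  refine ⟨Fin n ⊕ Fin n, inferInstance, inferInstance, Qs, hstd, ⟨x, hx⟩, ?_⟩
  rw [Subgroup.orderOf_mk]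
  apply Nat.dvd_antisymm (orderOf_dvd_of_pow_eq_one hxN)
  apply horder
  rw [← hxy]
  exact (Cfsg.Agent.Lib.Lead.BCG.gl_same x (orderOf x)).mp (pow_orderOf_eq_one x)

end Cfsg.Agent.Lib.Helper19.SO8
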