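import Mathlib
import Cfsg.Agent.Lib.Helper19.SO8.Defs
import Cfsg.Agent.Lib.Helper5.SO8SMINUSh5a
import Cfsg.Agent.Lib.helper3.BCGS3

/-!
# Project SO8 (S3589), row SMINUS, second copy (helper5), part (b): the field model.
`K` of degree `2n` over `F` (characteristic 2), `σ a = a ^ (q^n)`, `B (a, b) = Tr (a σ b)` alternating and non-degenerate,
`γ` of order `q^n + 1` (`γ σ γ = 1`), transported to the standard symplectic space (helper3 `bcgs3_transport`); then part (a).
-/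

set_option autoImplicit false

namespace Cfsg.Agent.Lib.Helper19.SO8

open Polynomial Module Cfsg.Agent.Lib.Helper13.OTS Cfsg.Agent.Lib.Helper13.S5955
  Cfsg.Agent.Lib.helper15.S5972 Cfsg.Agent.Lib.Lead.BCG

/-- the form `Tr (a σ b)` in characteristic 2 -/
theorem so8sminus_form {F : Type*} [Field F] [CharP F 2] {K : Type*} [Field K] [Algebra F K]
    [FiniteDimensional F K] [Algebra.IsSeparable F K] (σ : K ≃ₐ[F] K) (hσ : ∀ a, σ (σ a) = a)
    (ω : K) (hω : σ ω ≠ ω) :
    (∀ a, bcgs3_B σ 1 a a = 0) ∧ (∀ a, (∀ b, bcgs3_B σ 1 a b = 0) → a = 0) ∧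
      ∀ c : K, c * σ c = 1 → ∀ a b, bcgs3_B σ 1 (c * a) (c * b) = bcgs3_B σ 1 a b := by
  have h2F : (2 : F) = 0 := CharTwo.two_eq_zero
  haveI : CharP K 2 := (Algebra.charP_iff F K 2).mp inferInstance
  have h2K : (2 : K) = 0 := CharTwo.two_eq_zero
  refine ⟨?_, ?_, ?_⟩
  · intro a
    rw [bcgs3_B_apply, one_mul]
    -- `θ + σ θ = 1`
    set t := ω + σ ω with ht
    have ht0 : t ≠ 0 := by
      intro h0
      apply hω
      have : σ ω = -ω := by linear_combination h0
      rw [this]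
      linear_combination (-ω) * h2K
    have hσt : σ t = t := by
      rw [ht, map_add, hσ, add_comm]
    set θ := ω / t with hθ
    have hθ1 : θ + σ θ = 1 := by
      rw [hθ, map_div₀, hσt, ← add_div, ← ht, div_self ht0]
    set l := a * σ a with hl
    have hσl : σ l = l := by
      rw [hl, map_mul, hσ, mul_comm]
    have hsplit : l = l * θ + σ (l * θ) := by
      rw [map_mul, hσl, ← mul_add, hθ1, mul_one]
    rw [hsplit, map_add, Algebra.trace_eq_of_algEquiv σ (l * θ)]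
    linear_combination (Algebra.trace F K (l * θ)) * h2F
  · intro a ha
    have hnd := traceForm_nondegenerate F K
    have h1 : ∀ c : K, Algebra.traceForm F K a c = 0 := by
      intro c
      have := ha (σ.symm c)
      rw [bcgs3_B_apply, AlgEquiv.apply_symm_apply, one_mul] at this
      rw [Algebra.traceForm_apply]
      exact this
    exact hnd.1 a h1
  · intro c hc a b
    rw [bcgs3_B_apply, bcgs3_B_apply]
    have : 1 * (c * a) * σ (c * b) = 1 * a * σ b := by
      rw [map_mul]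
      linear_combination (a * σ b) * hc
    rw [this]

/-- an element of order `Q + 1` in a field with `Q ^ 2` elements -/
theorem so8sminus_unit {K : Type*} [Field K] [Finite K] (Q : ℕ) (hQ : 2 ≤ Q)
    (hK : Nat.card K = Q ^ 2) : ∃ γ : Kˣ, orderOf γ = Q + 1 := by
  obtain ⟨g₀, hg₀⟩ := IsCyclic.exists_ofOrder_eq_natCard (α := Kˣ)
  have hU : Nat.card Kˣ = (Q - 1) * (Q + 1) := by
    rw [Nat.card_units, hK]
    have : Q ^ 2 = (Q - 1) * (Q + 1) + 1 := by
      obtain ⟨m, rfl⟩ : ∃ m, Q = m + 1 := ⟨Q - 1, by omega⟩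
      simp only [Nat.add_sub_cancel]
      ring
    omega
  refine ⟨g₀ ^ (Q - 1), ?_⟩
  rw [orderOf_pow_of_dvd (by omega) (by rw [hg₀, hU]; exact dvd_mul_right _ _), hg₀, hU]
  exact Nat.mul_div_cancel_left _ (by omega)

theorem so8sminus_field {F : Type*} [Field F] [Fintype F] [CharP F 2] (n : ℕ) (hn : 1 ≤ n)
    {K : Type*} [Field K] [Algebra F K] [FiniteDimensional F K] [Finite K]
    [Algebra.IsSeparable F K]
    (hdim : finrank F K = 2 * n) (hcard : Nat.card K = (Fintype.card F ^ n) ^ 2)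
    (σ : K ≃ₐ[F] K) (hσ : ∀ a, σ a = a ^ (Fintype.card F ^ n)) :
    OReal F n (-1) (Fintype.card F ^ n + 1) := by
  classical
  set Q := Fintype.card F ^ n with hQ
  have hq2 : 2 ≤ Fintype.card F := Fintype.one_lt_card
  have hQ2 : 2 ≤ Q := by
    calc 2 ≤ Fintype.card F := hq2
      _ = Fintype.card F ^ 1 := (pow_one _).symm
      _ ≤ Fintype.card F ^ n := Nat.pow_le_pow_right (by omega) hn
  have hQeven : Even Q := by
    have h1 : Fintype.card F % 2 = 0 :=
      FiniteField.even_card_of_char_two (ringChar.eq F 2)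
    have h2 : Even (Fintype.card F) := Nat.even_iff.mpr h1
    exact (Nat.even_pow.mpr ⟨h2, by omega⟩)
  letI : Fintype K := Fintype.ofFinite K
  have hcardK : Fintype.card K = Q ^ 2 := by
    rw [← Nat.card_eq_fintype_card, hcard]
  have hσσ : ∀ a, σ (σ a) = a := by
    intro a
    rw [hσ, hσ, ← pow_mul, ← pow_two, ← hcardK]
    exact FiniteField.pow_card a
  -- the unit `γ`
  obtain ⟨γu, hγu⟩ := so8sminus_unit (K := K) Q hQ2 hcard
  set γ : K := (γu : K) with hγ
  have hγ0 : γ ≠ 0 := γu.ne_zero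
  have hγord : orderOf γ = Q + 1 := by rw [hγ, orderOf_units, hγu]
  have hγpow : γ ^ (Q + 1) = 1 := by rw [← hγord]; exact pow_orderOf_eq_one γ
  have hγσ : γ * σ γ = 1 := by rw [hσ, ← pow_succ']; exact hγpow
  -- `σ ≠ id`
  have hω : ∃ ω : K, σ ω ≠ ω := by
    obtain ⟨g₀, hg₀⟩ := IsCyclic.exists_ofOrder_eq_natCard (α := Kˣ)
    refine ⟨(g₀ : K), fun h => ?_⟩
    rw [hσ] at h
    have h1 : (g₀ : K) ^ (Q - 1) = 1 := by
      have h2 : (g₀ : K) ^ (Q - 1) * (g₀ : K) = 1 * (g₀ : K) := by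
        rw [← pow_succ, Nat.sub_add_cancel (by omega), one_mul]
        exact h
      exact mul_right_cancel₀ g₀.ne_zero h2
    have h3 : orderOf (g₀ : K) ∣ Q - 1 := orderOf_dvd_of_pow_eq_one h1
    rw [orderOf_units, hg₀, Nat.card_units, hcard] at h3
    have h4 := Nat.le_of_dvd (by omega) h3
    have h5 : 2 * Q ≤ Q ^ 2 := by nlinarith
    omega
  obtain ⟨ω, hω⟩ := hω
  obtain ⟨halt, hnd, hpresB⟩ := so8sminus_form σ hσσ ω hω
  obtain ⟨Φ, hΦ⟩ := bcgs3_transport (bcgs3_B σ 1) halt hnd n hdim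
  have hmem : Φ γ ∈ Matrix.symplecticGroup (Fin n) F := hΦ γ (hpresB γ hγσ)
  -- the algebra map to endomorphisms
  set Ψ : K →ₐ[F] Module.End F (Fin n ⊕ Fin n → F) :=
    (Matrix.toLinAlgEquiv' (R := F) (n := Fin n ⊕ Fin n)).toAlgHom.comp Φ with hΨ
  haveI : Nonempty (Fin n ⊕ Fin n) := ⟨Sum.inl ⟨0, by omega⟩⟩
  haveI : Nontrivial (Module.End F (Fin n ⊕ Fin n → F)) := by
    refine ⟨⟨0, 1, fun h => ?_⟩⟩
    have h1 := congrArg (fun f : Module.End F (Fin n ⊕ Fin n → F) => f (fun _ => 1)) h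
    simp only [LinearMap.zero_apply, Module.End.one_apply] at h1
    have h2 := congrFun h1 (Sum.inl ⟨0, by omega⟩)
    simp at h2
  have hΨinj : Function.Injective Ψ := Ψ.toRingHom.injective
  have hΨapply : ∀ (c : K) (v : Fin n ⊕ Fin n → F), Ψ c v = Matrix.mulVec (Φ c) v := by
    intro c v
    rw [hΨ]
    simp only [AlgHom.comp_apply]
    rfl
  have hinvmul : ∀ c : K, c ≠ 0 → Ψ c * Ψ c⁻¹ = 1 := by
    intro c hc
    rw [← map_mul, mul_inv_cancel₀ hc, map_one]
  -- a prime divisor of `Q + 1`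
  set r := (Q + 1).minFac with hr
  have hrP : r.Prime := Nat.minFac_prime (by omega)
  haveI : Fact r.Prime := ⟨hrP⟩
  have hrdvd : r ∣ Q + 1 := Nat.minFac_dvd _
  have hr2 : r ≠ 2 := by
    intro h2
    rw [h2] at hrdvd
    rcases hQeven with ⟨m, hm⟩
    omega
  set k := (Q + 1) / r with hk
  have hkr : k * r = Q + 1 := Nat.div_mul_cancel hrdvd
  have hk0 : 0 < k := by
    rcases Nat.eq_zero_or_pos k with h0 | h0
    · rw [h0, zero_mul] at hkr
      omega
    · exact h0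
  have hklt : k < Q + 1 := by
    have := hrP.two_le
    nlinarith
  have hγk : γ ^ k - 1 ≠ 0 := by
    intro h0
    have h1 : γ ^ k = 1 := sub_eq_zero.mp h0
    have h2 := orderOf_dvd_of_pow_eq_one h1
    rw [hγord] at h2
    have := Nat.le_of_dvd hk0 h2
    omega
  have hγD : γ - γ⁻¹ ≠ 0 := by
    intro h0
    have h1 : γ ^ 2 = 1 := by
      have : γ = γ⁻¹ := sub_eq_zero.mp h0
      rw [pow_two]
      nth_rewrite 2 [this]
      exact mul_inv_cancel₀ hγ0
    have h2 := orderOf_dvd_of_pow_eq_one h1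
    rw [hγord] at h2
    have := Nat.le_of_dvd (by omega) h2
    omega
  refine so8sminus_core n hn (Ψ γ) (Ψ γ⁻¹) ?_ (hinvmul γ hγ0) ?_ ?_ (Ψ (γ - γ⁻¹)⁻¹) ?_ r hr2
    hrdvd (Ψ (γ ^ k - 1)⁻¹) ?_
  · intro u v
    rw [hΨapply, hΨapply, stdB_apply, stdB_apply]
    exact (Cfsg.Agent.Lib.helper6.mem_symplecticGroup_iff_sympForm (A := Φ γ)).mp hmem u v
  · rw [← map_pow, hγpow, map_one]
  · intro j hj
    rw [← map_pow] at hj
    have h1 : γ ^ j = 1 := hΨinj (by rw [hj, map_one])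
    have h2 := orderOf_dvd_of_pow_eq_one h1
    rwa [hγord] at h2
  · rw [← map_sub]
    exact hinvmul _ hγD
  · have : Ψ γ ^ ((Q + 1) / r) - 1 = Ψ (γ ^ k - 1) := by
      rw [map_sub, map_pow, map_one]
    rw [this]
    exact hinvmul _ hγk

/-- SMINUS, second copy (same statement) -/
theorem so8sminus_h5 {F : Type*} [Field F] [Fintype F] [CharP F 2] (n : ℕ) (hn : 1 ≤ n) (c : F)
    (hc : ∀ z₁ z₂ : F, z₁ ^ 2 + 1 * z₁ * z₂ + c * z₂ ^ 2 = 0 → z₁ = 0 ∧ z₂ = 0) :
    OReal F n (-1) (Fintype.card F ^ n + 1) := by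
  haveI : NeZero (2 * n) := ⟨by omega⟩
  haveI : Fact (Nat.Prime 2) := ⟨Nat.prime_two⟩
  refine so8sminus_field n hn (K := FiniteField.Extension F 2 (2 * n))
    (FiniteField.finrank_extension F 2 (2 * n)) ?_ ((FiniteField.Extension.frob F 2 (2 * n)) ^ n) ?_
  · rw [FiniteField.natCard_extension, Nat.card_eq_fintype_card, ← pow_mul, mul_comm]
  · intro a
    rw [FiniteField.Extension.frob_iterate_apply, Nat.card_eq_fintype_card]

end Cfsg.Agent.Lib.Helper19.SO8
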