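import Mathlib
import Cfsg.Agent.Lib.Helper19.SO8.Defs

/-!
# Project SO8 (S3589), row STRUCT1 `sr_struct_aux`, second copy as a CORE (helper5): the statements of the rows
C3 `irr_dvd`, C4 `irr_self_dvd`, C5 `reverse_irreducible`, PEELS `peel_self`, PEELP `peel_pair`, RASSOC
`reverse_eq_of_associated` are hypotheses.
-/

set_option autoImplicit false

namespace Cfsg.Agent.Lib.Helper19.SO8

open Polynomial

/-- `X ^ a - 1 ∣ X ^ m - 1` for `a ∣ m` -/
theorem so8struct1h5_X_pow_dvd {F : Type*} [Field F] (a m : ℕ) (h : a ∣ m) :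
    (X ^ a - 1 : F[X]) ∣ X ^ m - 1 := by
  obtain ⟨k, rfl⟩ := h
  have := sub_dvd_pow_sub_pow (X ^ a : F[X]) 1 k
  rwa [one_pow, ← pow_mul] at this

/-- the induction step: peel `P ^ j` off `g`, `P ∣ X ^ m - 1` whenever `tyN q e ε ∣ m`, `deg P = 2 e` -/
theorem so8struct1h5_step {F : Type*} [Field F] [Fintype F] (n e j : ℕ) (ε : Bool) (g P g' : F[X])
    (he : 1 ≤ e) (hj : 1 ≤ j) (hen : e * j ≤ n) (hgP : g = P ^ j * g') (hcop : IsCoprime P g')
    (hP : ∀ m, tyN (Fintype.card F) e ε ∣ m → P ∣ (X ^ m - 1 : F[X]))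
    (w' : ℕ → Bool → ℕ)
    (hsum' : ∑ e' ∈ Finset.range (n - e * j + 1), e' * (w' e' true + w' e' false) = n - e * j)
    (hsupp' : ∀ e' ε', w' e' ε' ≠ 0 → 1 ≤ e' ∧ e' ≤ n - e * j)
    (hdiv' : ∀ m t : ℕ, (∀ e' ε', w' e' ε' ≠ 0 → tyN (Fintype.card F) e' ε' ∣ m) →
      (∀ e' ε', w' e' ε' ≤ 2 ^ t) → g' ∣ (X ^ m - 1 : F[X]) ^ (2 ^ t)) :
    ∃ w : ℕ → Bool → ℕ, (∑ e' ∈ Finset.range (n + 1), e' * (w e' true + w e' false) = n) ∧
      (∀ e' ε', w e' ε' ≠ 0 → 1 ≤ e' ∧ e' ≤ n) ∧
      ∀ m t : ℕ, (∀ e' ε', w e' ε' ≠ 0 → tyN (Fintype.card F) e' ε' ∣ m) →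
        (∀ e' ε', w e' ε' ≤ 2 ^ t) → g ∣ (X ^ m - 1 : F[X]) ^ (2 ^ t) := by
  classical
  have hele : e ≤ n := le_trans (Nat.le_mul_of_pos_right e hj) hen
  refine ⟨fun e' ε' => w' e' ε' + (if e' = e ∧ ε' = ε then j else 0), ?_, ?_, ?_⟩
  · -- the sum
    have hsplit : ∀ e' : ℕ, e' * ((w' e' true + (if e' = e ∧ true = ε then j else 0)) +
        (w' e' false + (if e' = e ∧ false = ε then j else 0))) =
        e' * (w' e' true + w' e' false) + (if e' = e then e * j else 0) := by
      intro e'
      by_cases h : e' = e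
      · subst h
        cases ε <;> simp <;> ring
      · simp [h]
    rw [Finset.sum_congr rfl (fun e' _ => hsplit e'), Finset.sum_add_distrib]
    have h1 : ∑ e' ∈ Finset.range (n + 1), e' * (w' e' true + w' e' false) = n - e * j := by
      rw [← hsum']
      symm
      apply Finset.sum_subset
      · intro x hx
        rw [Finset.mem_range] at hx ⊢
        omega
      · intro x _ hx
        rw [Finset.mem_range] at hx
        have ht : w' x true = 0 := by
          by_contra hne
          have := (hsupp' x true hne).2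
          omega
        have hf : w' x false = 0 := by
          by_contra hne
          have := (hsupp' x false hne).2
          omega
        rw [ht, hf, add_zero, mul_zero]
    have h2 : ∑ e' ∈ Finset.range (n + 1), (if e' = e then e * j else 0) = e * j := by
      rw [Finset.sum_ite_eq' (Finset.range (n + 1)) e (fun _ => e * j)]
      rw [if_pos (Finset.mem_range.mpr (by omega))]
    rw [h1, h2]
    omega
  · -- the support
    intro e' ε' hne
    by_cases h : w' e' ε' ≠ 0
    · have := hsupp' e' ε' h
      omega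
    · have h : w' e' ε' = 0 := not_not.mp h
      simp only [h, zero_add] at hne
      by_cases h' : e' = e ∧ ε' = ε
      · rw [h'.1]
        exact ⟨he, hele⟩
      · rw [if_neg h'] at hne
        exact absurd rfl hne
  · -- the divisibility
    intro m t hm ht
    have hg' : g' ∣ (X ^ m - 1 : F[X]) ^ (2 ^ t) := by
      apply hdiv' m t
      · intro e' ε' hne
        apply hm e' ε'
        simp only
        omega
      · intro e' ε'
        have := ht e' ε'
        simp only at this
        omega
    have hwe : w' e ε + j ≤ 2 ^ t := by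
      have := ht e ε
      simp only [and_self, if_true] at this
      exact this
    have hPm : P ∣ (X ^ m - 1 : F[X]) := by
      apply hP
      apply hm e ε
      simp only [and_self, if_true]
      omega
    have hPj : P ^ j ∣ (X ^ m - 1 : F[X]) ^ (2 ^ t) :=
      dvd_trans (pow_dvd_pow_of_dvd hPm j) (pow_dvd_pow _ (by omega))
    rw [hgP]
    exact (hcop.pow_left).mul_dvd hPj hg'

/-- STRUCT1 as a core: the six cited rows are hypotheses -/
theorem so8struct1_h5 {F : Type*} [Field F] [Fintype F] [CharP F 2]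
    (hC3 : ∀ f : F[X], Irreducible f → f.coeff 0 ≠ 0 →
      f ∣ (X ^ (Fintype.card F ^ f.natDegree - 1) - 1 : F[X]))
    (hC4 : ∀ f : F[X], Irreducible f → f.coeff 0 ≠ 0 → f.reverse = f → f.eval 1 ≠ 0 →
      ∃ e : ℕ, 1 ≤ e ∧ f.natDegree = 2 * e ∧ f ∣ (X ^ (Fintype.card F ^ e + 1) - 1 : F[X]))
    (hC5 : ∀ f : F[X], Irreducible f → f.coeff 0 ≠ 0 →
      f.reverse.reverse = f ∧ Irreducible f.reverse)
    (hRA : ∀ f : F[X], f.coeff 0 ≠ 0 → Associated f.reverse f → f.reverse = f)
    (hPS : ∀ χ f : F[X], χ ≠ 0 → χ.reverse = χ → Irreducible f → f.reverse = f → f ∣ χ →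
      ∃ (j : ℕ) (g : F[X]), 1 ≤ j ∧ χ = f ^ j * g ∧ IsCoprime f g ∧ g.reverse = g)
    (hPP : ∀ χ f : F[X], χ ≠ 0 → χ.coeff 0 ≠ 0 → χ.reverse = χ → Irreducible f →
      ¬ Associated f.reverse f → f ∣ χ →
      ∃ (j : ℕ) (g : F[X]), 1 ≤ j ∧ χ = (f * f.reverse) ^ j * g ∧ IsCoprime (f * f.reverse) g ∧
        g.reverse = g ∧ IsCoprime f f.reverse)
    (n : ℕ) (g : F[X]) (hg : g ≠ 0)
    (hr : g.reverse = g) (h1 : g.eval 1 ≠ 0) (hd : g.natDegree = 2 * n) :
    ∃ w : ℕ → Bool → ℕ, (∑ e ∈ Finset.range (n + 1), e * (w e true + w e false) = n) ∧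
      (∀ e ε, w e ε ≠ 0 → 1 ≤ e ∧ e ≤ n) ∧
      ∀ m t : ℕ, (∀ e ε, w e ε ≠ 0 → tyN (Fintype.card F) e ε ∣ m) → (∀ e ε, w e ε ≤ 2 ^ t) →
        g ∣ (X ^ m - 1 : F[X]) ^ (2 ^ t) := by
  classical
  induction n using Nat.strong_induction_on generalizing g with
  | _ n ih =>
    rcases Nat.eq_zero_or_pos n with hn0 | hnpos
    · -- `g` is a non-zero constant
      subst hn0
      have hdeg : g.natDegree = 0 := by omega
      obtain ⟨c, hc⟩ := natDegree_eq_zero.mp hdeg
      have hc0 : c ≠ 0 := by
        rintro rfl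
        apply hg
        rw [← hc, map_zero]
      have hunit : IsUnit g := by
        rw [← hc]
        exact isUnit_C.mpr (isUnit_iff_ne_zero.mpr hc0)
      refine ⟨fun _ _ => 0, by simp, fun e ε h => absurd rfl h, fun m t _ _ => hunit.dvd⟩
    · -- an irreducible factor
      have hdpos : 0 < g.natDegree := by omega
      obtain ⟨f, hfirr, hfg⟩ := exists_irreducible_of_natDegree_pos hdpos
      have hg0 : g.coeff 0 ≠ 0 := by
        have := coeff_zero_reverse g
        rw [hr] at this
        rw [this]
        exact leadingCoeff_ne_zero.mpr hg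
      have hf0 : f.coeff 0 ≠ 0 := by
        intro h0
        apply hg0
        have hX : (X : F[X]) ∣ f := X_dvd_iff.mpr h0
        exact X_dvd_iff.mp (dvd_trans hX hfg)
      have hf1 : f.eval 1 ≠ 0 := by
        intro h0
        apply h1
        obtain ⟨k, hk⟩ := hfg
        rw [hk, eval_mul, h0, zero_mul]
      have hfne : f ≠ 0 := hfirr.ne_zero
      have hfdeg : 1 ≤ f.natDegree := hfirr.natDegree_pos
      by_cases hass : Associated f.reverse f
      · -- self-reciprocal factor
        have hfr : f.reverse = f := hRA f hf0 hass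
        obtain ⟨e, he1, hfe, hfdvd⟩ := hC4 f hfirr hf0 hfr hf1
        obtain ⟨j, g', hj1, hgf, hcop, hg'r⟩ := hPS g f hg hr hfirr hfr hfg
        have hg'ne : g' ≠ 0 := by
          rintro rfl
          apply hg
          rw [hgf, mul_zero]
        have hdeg : g.natDegree = j * f.natDegree + g'.natDegree := by
          rw [hgf, natDegree_mul (pow_ne_zero j hfne) hg'ne, natDegree_pow]
        have hen : e * j ≤ n := by
          have : 2 * (e * j) ≤ 2 * n := by
            calc 2 * (e * j) = j * (2 * e) := by ring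
              _ = j * f.natDegree := by rw [hfe]
              _ ≤ g.natDegree := by omega
              _ = 2 * n := hd
          omega
        have hg'd : g'.natDegree = 2 * (n - e * j) := by
          have : j * f.natDegree = 2 * (e * j) := by rw [hfe]; ring
          omega
        have hg'1 : g'.eval 1 ≠ 0 := by
          intro h0
          apply h1
          rw [hgf, eval_mul, h0, mul_zero]
        have hlt : n - e * j < n := by
          have : 1 ≤ e * j := Nat.mul_pos he1 hj1
          omega
        obtain ⟨w', hsum', hsupp', hdiv'⟩ := ih (n - e * j) hlt g' hg'ne hg'r hg'1 hg'd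
        refine so8struct1h5_step n e j false g f g' he1 hj1 hen hgf hcop ?_ w' hsum' hsupp' hdiv'
        intro m hm
        rw [tyN_false] at hm
        exact dvd_trans hfdvd (so8struct1h5_X_pow_dvd _ m hm)
      · -- a pair `f`, `f.reverse`
        obtain ⟨j, g', hj1, hgf, hcop, hg'r, hcopf⟩ := hPP g f hg hg0 hr hfirr hass hfg
        obtain ⟨hrr, hrirr⟩ := hC5 f hfirr hf0
        have hrne : f.reverse ≠ 0 := hrirr.ne_zero
        have hrdeg : f.reverse.natDegree = f.natDegree := by
          rw [reverse_natDegree, natTrailingDegree_eq_zero.mpr (Or.inr hf0), Nat.sub_zero]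
        have hr0 : f.reverse.coeff 0 ≠ 0 := by
          rw [coeff_zero_reverse]
          exact leadingCoeff_ne_zero.mpr hfne
        set e := f.natDegree with he
        have hPne : f * f.reverse ≠ 0 := mul_ne_zero hfne hrne
        have hPdeg : (f * f.reverse).natDegree = 2 * e := by
          rw [natDegree_mul hfne hrne, hrdeg]
          ring
        have hg'ne : g' ≠ 0 := by
          rintro rfl
          apply hg
          rw [hgf, mul_zero]
        have hdeg : g.natDegree = j * (2 * e) + g'.natDegree := by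
          rw [hgf, natDegree_mul (pow_ne_zero j hPne) hg'ne, natDegree_pow, hPdeg]
        have hen : e * j ≤ n := by
          have : 2 * (e * j) ≤ 2 * n := by
            calc 2 * (e * j) = j * (2 * e) := by ring
              _ ≤ g.natDegree := by omega
              _ = 2 * n := hd
          omega
        have hg'd : g'.natDegree = 2 * (n - e * j) := by
          have : j * (2 * e) = 2 * (e * j) := by ring
          omega
        have hg'1 : g'.eval 1 ≠ 0 := by
          intro h0
          apply h1
          rw [hgf, eval_mul, h0, mul_zero]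
        have hlt : n - e * j < n := by
          have : 1 ≤ e * j := Nat.mul_pos hfdeg hj1
          omega
        obtain ⟨w', hsum', hsupp', hdiv'⟩ := ih (n - e * j) hlt g' hg'ne hg'r hg'1 hg'd
        refine so8struct1h5_step n e j true g (f * f.reverse) g' hfdeg hj1 hen hgf hcop ?_ w' hsum'
          hsupp' hdiv'
        intro m hm
        rw [tyN_true] at hm
        have hd1 : f ∣ (X ^ m - 1 : F[X]) :=
          dvd_trans (hC3 f hfirr hf0) (so8struct1h5_X_pow_dvd _ m hm)
        have hd2 : f.reverse ∣ (X ^ m - 1 : F[X]) := by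
          have := hC3 f.reverse hrirr hr0
          rw [hrdeg] at this
          exact dvd_trans this (so8struct1h5_X_pow_dvd _ m hm)
        exact hcopf.mul_dvd hd1 hd2

end Cfsg.Agent.Lib.Helper19.SO8
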