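import Mathlib
import Cfsg.Agent.Lib.helper3.SP4.Defs
import Cfsg.Agent.Lib.Helper18.SP4E5

/-!
# SP4 row E6 (helper5): `B4_subgroup` (verbatim from `helper3/SP4/Skel.lean.txt`), on the statement of E5 (`U4_subgroup`).
-/

set_option autoImplicit false

namespace Cfsg.Agent.Lib.helper3.SP4

open Cfsg.Agent.Lib.helper17.SLP

universe u v

section E

variable {G : Type u} [Group G]

variable (q : ℕ) (T Xa Xb Xc Xd : Subgroup G) (n1 n2 : G)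

/-- the semidirect product `T U` of a subgroup `T` normalising a subgroup `U` -/
def sp4e6_TU (T U : Subgroup G) (hn : ∀ τ ∈ T, ∀ u ∈ U, τ * u * τ⁻¹ ∈ U) : Subgroup G where
  carrier := {g | ∃ τ ∈ T, ∃ u ∈ U, g = τ * u}
  one_mem' := ⟨1, one_mem _, 1, one_mem _, by simp⟩
  mul_mem' := by
    rintro _ _ ⟨τ, hτ, u, hu, rfl⟩ ⟨τ', hτ', u', hu', rfl⟩
    have h := hn τ'⁻¹ (inv_mem hτ') u hu
    rw [inv_inv] at h
    exact ⟨τ * τ', mul_mem hτ hτ', (τ'⁻¹ * u * τ') * u', mul_mem h hu', by group⟩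
  inv_mem' := by
    rintro _ ⟨τ, hτ, u, hu, rfl⟩
    exact ⟨τ⁻¹, inv_mem hτ, τ * u⁻¹ * τ⁻¹, hn τ hτ u⁻¹ (inv_mem hu), by group⟩

theorem sp4e6_mem_TU (T U : Subgroup G) (hn : ∀ τ ∈ T, ∀ u ∈ U, τ * u * τ⁻¹ ∈ U) (g : G) :
    g ∈ sp4e6_TU T U hn ↔ ∃ τ ∈ T, ∃ u ∈ U, g = τ * u := Iff.rfl

/-- E6 [M] -/
theorem B4_subgroup (D : RD4 q T Xa Xb Xc Xd n1 n2) :
    ∃ B : Subgroup G, Finite B ∧ Nat.card B ≤ Nat.card T * q ^ 4 ∧ T ≤ B ∧ Xa ≤ B ∧ Xb ≤ B ∧ Xc ≤ B ∧ Xd ≤ B ∧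
      (∀ g, g ∈ B ↔ ∃ τ ∈ T, ∃ b ∈ Xb, ∃ c ∈ Xc, ∃ d ∈ Xd, ∃ a ∈ Xa, g = τ * b * c * d * a) ∧
      (∀ g, g ∈ B ↔ ∃ τ ∈ T, ∃ a ∈ Xa, ∃ c ∈ Xc, ∃ d ∈ Xd, ∃ b ∈ Xb, g = τ * a * c * d * b) := by
  obtain ⟨U, hU, hUfin, hUcard⟩ := U4_subgroup q T Xa Xb Xc Xd n1 n2 D
  have haU : Xa ≤ U := fun a ha => (hU a).2 ⟨a, ha, 1, one_mem _, 1, one_mem _, 1, one_mem _, by simp⟩
  have hbU : Xb ≤ U := fun b hb => (hU b).2 ⟨1, one_mem _, b, hb, 1, one_mem _, 1, one_mem _, by simp⟩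
  have hcU : Xc ≤ U := fun c hc => (hU c).2 ⟨1, one_mem _, 1, one_mem _, c, hc, 1, one_mem _, by simp⟩
  have hdU : Xd ≤ U := fun d hd => (hU d).2 ⟨1, one_mem _, 1, one_mem _, 1, one_mem _, d, hd, by simp⟩
  have hn : ∀ τ ∈ T, ∀ u ∈ U, τ * u * τ⁻¹ ∈ U := by
    intro τ hτ u hu
    obtain ⟨a, ha, b, hb, c, hc, d, hd, rfl⟩ := (hU u).1 hu
    have : τ * (a * b * c * d) * τ⁻¹ = (τ * a * τ⁻¹) * (τ * b * τ⁻¹) * (τ * c * τ⁻¹) * (τ * d * τ⁻¹) := by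
      group
    rw [this]
    exact (hU _).2 ⟨_, D.ta τ hτ a ha, _, D.tb τ hτ b hb, _, D.tc τ hτ c hc, _, D.td τ hτ d hd, rfl⟩
  -- the two other normal forms of elements of `U`
  have hU1 : ∀ g, g ∈ U ↔ ∃ b ∈ Xb, ∃ c ∈ Xc, ∃ d ∈ Xd, ∃ a ∈ Xa, g = b * c * d * a := by
    intro g
    constructor
    · intro hg
      obtain ⟨a, ha, b, hb, c, hc, d, hd, h⟩ := (hU g⁻¹).1 (inv_mem hg)
      refine ⟨b⁻¹, inv_mem hb, c⁻¹, inv_mem hc, d⁻¹, inv_mem hd, a⁻¹, inv_mem ha, ?_⟩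
      have h1 : d⁻¹ * c⁻¹ = c⁻¹ * d⁻¹ := ((D.ccd c⁻¹ (inv_mem hc) d⁻¹ (inv_mem hd)).eq).symm
      have h2 : d⁻¹ * b⁻¹ = b⁻¹ * d⁻¹ := ((D.cbd b⁻¹ (inv_mem hb) d⁻¹ (inv_mem hd)).eq).symm
      have h3 : c⁻¹ * b⁻¹ = b⁻¹ * c⁻¹ := ((D.cbc b⁻¹ (inv_mem hb) c⁻¹ (inv_mem hc)).eq).symm
      calc g = (g⁻¹)⁻¹ := (inv_inv g).symm
        _ = d⁻¹ * c⁻¹ * b⁻¹ * a⁻¹ := by rw [h]; simp only [mul_inv_rev, mul_assoc]
        _ = c⁻¹ * (d⁻¹ * b⁻¹) * a⁻¹ := by rw [h1]; simp only [mul_assoc]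
        _ = (c⁻¹ * b⁻¹) * d⁻¹ * a⁻¹ := by rw [h2]; simp only [mul_assoc]
        _ = b⁻¹ * c⁻¹ * d⁻¹ * a⁻¹ := by rw [h3]
    · rintro ⟨b, hb, c, hc, d, hd, a, ha, rfl⟩
      exact mul_mem (mul_mem (mul_mem (hbU hb) (hcU hc)) (hdU hd)) (haU ha)
  have hU2 : ∀ g, g ∈ U ↔ ∃ a ∈ Xa, ∃ c ∈ Xc, ∃ d ∈ Xd, ∃ b ∈ Xb, g = a * c * d * b := by
    intro g
    constructor
    · intro hg
      obtain ⟨a, ha, b, hb, c, hc, d, hd, rfl⟩ := (hU g).1 hg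
      refine ⟨a, ha, c, hc, d, hd, b, hb, ?_⟩
      have h1 : d * b = b * d := ((D.cbd b hb d hd).eq).symm
      have h2 : c * b = b * c := ((D.cbc b hb c hc).eq).symm
      calc a * b * c * d = a * (b * c) * d := by simp only [mul_assoc]
        _ = a * (c * b) * d := by rw [h2]
        _ = a * c * (b * d) := by simp only [mul_assoc]
        _ = a * c * (d * b) := by rw [h1]
        _ = a * c * d * b := by simp only [mul_assoc]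
    · rintro ⟨a, ha, c, hc, d, hd, b, hb, rfl⟩
      exact mul_mem (mul_mem (mul_mem (haU ha) (hcU hc)) (hdU hd)) (hbU hb)
  set B : Subgroup G := sp4e6_TU T U hn with hB
  have hTB : T ≤ B := fun τ hτ => ⟨τ, hτ, 1, one_mem _, by simp⟩
  have hUB : U ≤ B := fun u hu => ⟨1, one_mem _, u, hu, by simp⟩
  have := D.finT
  let f : T × U → B := fun p => ⟨(p.1 : G) * (p.2 : G), ⟨p.1, p.1.2, p.2, p.2.2, rfl⟩⟩
  have hf : Function.Surjective f := by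
    rintro ⟨g, τ, hτ, u, hu, rfl⟩
    exact ⟨(⟨τ, hτ⟩, ⟨u, hu⟩), rfl⟩
  have hBfin : Finite B := Finite.of_surjective f hf
  refine ⟨B, hBfin, ?_, hTB, le_trans haU hUB, le_trans hbU hUB, le_trans hcU hUB, le_trans hdU hUB,
    ?_, ?_⟩
  · have h := Nat.card_le_card_of_surjective f hf
    rw [Nat.card_prod] at h
    exact le_trans h (Nat.mul_le_mul_left _ hUcard)
  · intro g
    constructor
    · rintro ⟨τ, hτ, u, hu, rfl⟩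
      obtain ⟨b, hb, c, hc, d, hd, a, ha, rfl⟩ := (hU1 u).1 hu
      exact ⟨τ, hτ, b, hb, c, hc, d, hd, a, ha, by simp only [mul_assoc]⟩
    · rintro ⟨τ, hτ, b, hb, c, hc, d, hd, a, ha, rfl⟩
      exact ⟨τ, hτ, b * c * d * a, (hU1 _).2 ⟨b, hb, c, hc, d, hd, a, ha, rfl⟩, by simp only [mul_assoc]⟩
  · intro g
    constructor
    · rintro ⟨τ, hτ, u, hu, rfl⟩
      obtain ⟨a, ha, c, hc, d, hd, b, hb, rfl⟩ := (hU2 u).1 hu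
      exact ⟨τ, hτ, a, ha, c, hc, d, hd, b, hb, by simp only [mul_assoc]⟩
    · rintro ⟨τ, hτ, a, ha, c, hc, d, hd, b, hb, rfl⟩
      exact ⟨τ, hτ, a * c * d * b, (hU2 _).2 ⟨a, ha, c, hc, d, hd, b, hb, rfl⟩, by simp only [mul_assoc]⟩

end E

end Cfsg.Agent.Lib.helper3.SP4
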