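import Mathlib
import Cfsg.Agent.Lib.helper7.SPC.Defs
import Cfsg.Agent.Lib.Helper5.SPCA5core

/-!
# Project SPC (designer helper7), row A4 (second writer helper5): `spca4h5_exchange`
(the statement of `blkA_exchange`).
-/

set_option autoImplicit false

namespace Cfsg.Agent.Lib.helper7.SPC

universe u

open Module

variable {F : Type u} [Field F]

theorem spca4h5_B_smul (k : ℕ) (c : F) (v w : Fin k → F) :
    (blkA k c).B v w = c * Matrix.toLinearMap₂' F (gramA k (1 : F)) v w := by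
  have hg : gramA k c = c • gramA k (1 : F) := by
    ext a b
    rw [Matrix.smul_apply]
    unfold gramA
    split_ifs
    · rw [smul_eq_mul]
      ring
    · rw [smul_zero]
  show Matrix.toLinearMap₂' F (gramA k c) v w = c * Matrix.toLinearMap₂' F (gramA k 1) v w
  rw [hg, map_smul]
  rfl

theorem spca4h5_exists_xy [Fintype F] (h2 : (2 : F) ≠ 0) (c e c' : F) (hc : c ≠ 0) (he : e ≠ 0) :
    ∃ x y : F, c * x ^ 2 + e * y ^ 2 = c' := by
  have hchar : ringChar F ≠ 2 := by
    intro h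
    have h0 : ((ringChar F : ℕ) : F) = 0 := CharP.cast_eq_zero F (ringChar F)
    rw [h] at h0
    exact h2 (by exact_mod_cast h0)
  have hodd := FiniteField.odd_card_of_char_ne_two hchar
  have hf : (Polynomial.C c * Polynomial.X ^ 2 : Polynomial F).degree = 2 := by
    rw [Polynomial.degree_C_mul_X_pow 2 hc]
    rfl
  have hg : (Polynomial.C e * Polynomial.X ^ 2 - Polynomial.C c' : Polynomial F).degree = 2 := by
    rw [Polynomial.degree_sub_eq_left_of_degree_lt, Polynomial.degree_C_mul_X_pow 2 he]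
    · rfl
    · rw [Polynomial.degree_C_mul_X_pow 2 he]
      exact lt_of_le_of_lt Polynomial.degree_C_le (by norm_num)
  obtain ⟨x, y, h⟩ := FiniteField.exists_root_sum_quadratic hf hg hodd
  refine ⟨x, y, ?_⟩
  simp only [Polynomial.eval_mul, Polynomial.eval_C, Polynomial.eval_pow, Polynomial.eval_X,
    Polynomial.eval_sub] at h
  linear_combination h

/-- the linear map `(v, w) ↦ (a v + b w, c v + d w)` -/
def spca4h5_map (k : ℕ) (a b c d : F) : (Fin k → F) × (Fin k → F) →ₗ[F] (Fin k → F) × (Fin k → F) :=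
  (a • LinearMap.fst F (Fin k → F) (Fin k → F) + b • LinearMap.snd F (Fin k → F) (Fin k → F)).prod
    (c • LinearMap.fst F (Fin k → F) (Fin k → F) + d • LinearMap.snd F (Fin k → F) (Fin k → F))

theorem spca4h5_map_apply (k : ℕ) (a b c d : F) (p : (Fin k → F) × (Fin k → F)) :
    spca4h5_map k a b c d p = (a • p.1 + b • p.2, c • p.1 + d • p.2) := rfl

theorem spca4h5_form (k : ℕ) (c e c' x y : F) (hxy : c * x ^ 2 + e * y ^ 2 = c')
    (u1 u2 v1 v2 : Fin k → F) :
    (blkA k c).B (x • u1 + (-(e * y)) • u2) (x • v1 + (-(e * y)) • v2) +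
        (blkA k e).B (y • u1 + (c * x) • u2) (y • v1 + (c * x) • v2) =
      (blkA k c').B u1 v1 + (blkA k (c * e * c')).B u2 v2 := by
  rw [spca4h5_B_smul k c, spca4h5_B_smul k e, spca4h5_B_smul k c', spca4h5_B_smul k (c * e * c')]
  simp only [map_add, map_smul, LinearMap.add_apply, LinearMap.smul_apply, smul_eq_mul]
  linear_combination (Matrix.toLinearMap₂' F (gramA k (1 : F)) u1 v1 +
    c * e * Matrix.toLinearMap₂' F (gramA k (1 : F)) u2 v2) * hxy

theorem spca4h5_shift (k : ℕ) (c e x y : F) (u1 u2 : Fin k → F) :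
    ((x • (Matrix.toLin' (shiftM k F)) u1 + (-(e * y)) • (Matrix.toLin' (shiftM k F)) u2,
        y • (Matrix.toLin' (shiftM k F)) u1 + (c * x) • (Matrix.toLin' (shiftM k F)) u2) :
        (Fin k → F) × (Fin k → F)) =
      ((Matrix.toLin' (shiftM k F)) (x • u1 + (-(e * y)) • u2),
        (Matrix.toLin' (shiftM k F)) (y • u1 + (c * x) • u2)) := by
  rw [map_add, map_add, map_smul, map_smul, map_smul, map_smul]

theorem spca4h5_exchange_aux (k : ℕ) (c e c' x y : F) (hc' : c' ≠ 0)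
    (hxy : c * x ^ 2 + e * y ^ 2 = c') :
    TIso (TSum (blkA k c') (blkA k (c * e * c'))) (TSum (blkA k c) (blkA k e)) := by
  let Φ : ((Fin k → F) × (Fin k → F)) ≃ₗ[F] ((Fin k → F) × (Fin k → F)) :=
    LinearEquiv.ofLinearMap (spca4h5_map k x (-(e * y)) y (c * x))
      (spca4h5_map k (c'⁻¹ * (c * x)) (c'⁻¹ * (e * y)) (c'⁻¹ * (-y)) (c'⁻¹ * x))
      (by
        apply LinearMap.ext
        intro p
        rw [LinearMap.comp_apply, spca4h5_map_apply, spca4h5_map_apply, LinearMap.id_apply]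
        apply Prod.ext
        · show x • ((c'⁻¹ * (c * x)) • p.1 + (c'⁻¹ * (e * y)) • p.2) +
            (-(e * y)) • ((c'⁻¹ * (-y)) • p.1 + (c'⁻¹ * x) • p.2) = p.1
          have h1 : x • ((c'⁻¹ * (c * x)) • p.1 + (c'⁻¹ * (e * y)) • p.2) +
              (-(e * y)) • ((c'⁻¹ * (-y)) • p.1 + (c'⁻¹ * x) • p.2) =
              (c'⁻¹ * (c * x ^ 2 + e * y ^ 2)) • p.1 := by module
          rw [h1, hxy, inv_mul_cancel₀ hc', one_smul]
        · show y • ((c'⁻¹ * (c * x)) • p.1 + (c'⁻¹ * (e * y)) • p.2) +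
            (c * x) • ((c'⁻¹ * (-y)) • p.1 + (c'⁻¹ * x) • p.2) = p.2
          have h1 : y • ((c'⁻¹ * (c * x)) • p.1 + (c'⁻¹ * (e * y)) • p.2) +
              (c * x) • ((c'⁻¹ * (-y)) • p.1 + (c'⁻¹ * x) • p.2) =
              (c'⁻¹ * (c * x ^ 2 + e * y ^ 2)) • p.2 := by module
          rw [h1, hxy, inv_mul_cancel₀ hc', one_smul])
      (by
        apply LinearMap.ext
        intro p
        rw [LinearMap.comp_apply, spca4h5_map_apply, spca4h5_map_apply, LinearMap.id_apply]
        apply Prod.ext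
        · show (c'⁻¹ * (c * x)) • (x • p.1 + (-(e * y)) • p.2) +
            (c'⁻¹ * (e * y)) • (y • p.1 + (c * x) • p.2) = p.1
          have h1 : (c'⁻¹ * (c * x)) • (x • p.1 + (-(e * y)) • p.2) +
              (c'⁻¹ * (e * y)) • (y • p.1 + (c * x) • p.2) =
              (c'⁻¹ * (c * x ^ 2 + e * y ^ 2)) • p.1 := by module
          rw [h1, hxy, inv_mul_cancel₀ hc', one_smul]
        · show (c'⁻¹ * (-y)) • (x • p.1 + (-(e * y)) • p.2) +
            (c'⁻¹ * x) • (y • p.1 + (c * x) • p.2) = p.2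
          have h1 : (c'⁻¹ * (-y)) • (x • p.1 + (-(e * y)) • p.2) +
              (c'⁻¹ * x) • (y • p.1 + (c * x) • p.2) =
              (c'⁻¹ * (c * x ^ 2 + e * y ^ 2)) • p.2 := by module
          rw [h1, hxy, inv_mul_cancel₀ hc', one_smul])
  refine ⟨Φ, ?_, ?_⟩
  · rintro ⟨u1, u2⟩ ⟨v1, v2⟩
    exact spca4h5_form k c e c' x y hxy u1 u2 v1 v2
  · rintro ⟨u1, u2⟩
    exact spca4h5_shift k c e x y u1 u2

theorem spca4h5_exchange [Fintype F] (h2 : (2 : F) ≠ 0) (k : ℕ) (c e c' : F) (hc : c ≠ 0) (he : e ≠ 0)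
    (hc' : c' ≠ 0) :
    TIso (TSum (blkA k c) (blkA k e)) (TSum (blkA k c') (blkA k (c * e * c'))) := by
  obtain ⟨x, y, hxy⟩ := spca4h5_exists_xy h2 c e c' hc he
  exact spca5_iso_symm (spca4h5_exchange_aux k c e c' x y hc' hxy)

end Cfsg.Agent.Lib.helper7.SPC
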