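import Mathlib
import Cfsg.Agent.Lib.Lead.SPN.Defs
import Cfsg.Agent.Lib.Lead.SPN.Defs2

/-!
# Project SPN (designer lead; S2096 + S2097), row T0 `SysD.XQ_map`, VERBATIM (helper5).
-/

set_option autoImplicit false

namespace Cfsg.Agent.Lib.Lead.SPN

open Cfsg.Agent.Lib.helper15.St2 Cfsg.Agent.Lib.helper3.STC Cfsg.Agent.Lib.Lead.STD Cfsg.Agent.Lib.Helper16
  Cfsg.Agent.Lib.Helper1.OMP

universe u v w

section T

/-- T0 [S]  `Subgroup.map_closure` / `MonoidHom.map_closure`; the generating set maps onto the generating set. -/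
theorem _root_.Cfsg.Agent.Lib.Lead.STD.SysD.XQ_map {K : Type*} [Field K] {ι : Type*} {G : Type*} [Group G] {H : Type*} [Group H]
    (S : SysD K ι G) (f : G →* H) (Q : ι ⊕ ι → ι ⊕ ι → Prop) : (S.map f).XQ Q = (S.XQ Q).map f := by
  unfold SysD.XQ
  rw [MonoidHom.map_closure]
  congr 1
  ext g
  constructor
  · rintro ⟨a, b, t, h1, h2, h3, rfl⟩
    exact ⟨S.x a b t, ⟨a, b, t, h1, h2, h3, rfl⟩, rfl⟩
  · rintro ⟨y, ⟨a, b, t, h1, h2, h3, rfl⟩, rfl⟩
    exact ⟨a, b, t, h1, h2, h3, rfl⟩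

end T

end Cfsg.Agent.Lib.Lead.SPN
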