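import Mathlib
import Cfsg.Agent.Lib.Lead.STB.Defs
import Cfsg.Agent.Lib.Lead.STB.Defs3
import Cfsg.Agent.Lib.helper6.STBW13

/-!
# Project STB (designer lead; S2094 family), row F17N `SysB.lemBN`, `SysB.lemBN_s`: the cores (helper5).
Hypotheses = the STATEMENTS of F8 (`IsMon_move`, `IsMon_move_s`), F10 (`lemA_all`), F10s (`lemA_all_s`), F16 (`InD_ws`); W13 `isMon_ws` (`helper6.STBW13`) is on main.
-/

set_option autoImplicit false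

namespace Cfsg.Agent.Lib.Lead.STB

open Cfsg.Agent.Lib.helper15.St2 Cfsg.Agent.Lib.helper3.STC Cfsg.Agent.Lib.Lead.STD

universe v w

namespace SysB

variable {K : Type*} [Field K] {ι : Type*} [DecidableEq ι] {G : Type*} [Group G] (S : SysB K ι G)

section F
variable (o : ι ⊕ ι)

/-- core of F17N `lemBN` -/
theorem stbf17n_core
    (hF8 : ∀ {g : G} {σ : Equiv.Perm (ι ⊕ ι)} {d : ι ⊕ ι → K} {d0 : K}, S.IsMon g σ d d0 → ∀ {a b : ι ⊕ ι}, a ≠ b → ∀ t : K,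
      ∃ s : K, S.x a b t * g = g * S.x (σ⁻¹ a) (σ⁻¹ b) s)
    (hF10 : ∀ (a b : ι ⊕ ι) (t : K) {y p : G}, y ∈ S.Yg o → p ∈ S.Phat o → S.InD o (S.x a b t * (y * p)))
    (hF16 : ∀ {g : G}, S.InD o g → S.InD o (S.ws o 1 * g))
    (a b : ι ⊕ ι) (t : K) {y p : G} (hy : y ∈ S.Yg o) (hp : p ∈ S.Phat o) :
    S.InD o (S.x a b t * (S.ws o 1 * y * p)) := by
  by_cases hab : a = b
  · subst hab
    rw [S.diag, one_mul]
    exact Or.inr (Or.inr ⟨y, hy, p, hp, rfl⟩)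
  · obtain ⟨s, hs⟩ := hF8 (S.isMon_ws o 1 one_ne_zero) hab t
    have e : S.x a b t * (S.ws o 1 * y * p) = S.ws o 1 * (S.x ((swb o)⁻¹ a) ((swb o)⁻¹ b) s * (y * p)) := by
      calc S.x a b t * (S.ws o 1 * y * p) = (S.x a b t * S.ws o 1) * y * p := by group
        _ = (S.ws o 1 * S.x ((swb o)⁻¹ a) ((swb o)⁻¹ b) s) * y * p := by rw [hs]
        _ = S.ws o 1 * (S.x ((swb o)⁻¹ a) ((swb o)⁻¹ b) s * (y * p)) := by group
    rw [e]
    exact hF16 (hF10 _ _ s hy hp)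

/-- core of F17N `lemBN_s` -/
theorem stbf17n_s_core
    (hF8s : ∀ {g : G} {σ : Equiv.Perm (ι ⊕ ι)} {d : ι ⊕ ι → K} {d0 : K}, S.IsMon g σ d d0 → ∀ (a : ι ⊕ ι) (t : K),
      ∃ s : K, S.xs a t * g = g * S.xs (σ⁻¹ a) s)
    (hF10s : ∀ (a : ι ⊕ ι) (t : K) {y p : G}, y ∈ S.Yg o → p ∈ S.Phat o → S.InD o (S.xs a t * (y * p)))
    (hF16 : ∀ {g : G}, S.InD o g → S.InD o (S.ws o 1 * g))
    (a : ι ⊕ ι) (t : K) {y p : G} (hy : y ∈ S.Yg o) (hp : p ∈ S.Phat o) :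
    S.InD o (S.xs a t * (S.ws o 1 * y * p)) := by
  obtain ⟨s, hs⟩ := hF8s (S.isMon_ws o 1 one_ne_zero) a t
  have e : S.xs a t * (S.ws o 1 * y * p) = S.ws o 1 * (S.xs ((swb o)⁻¹ a) s * (y * p)) := by
    calc S.xs a t * (S.ws o 1 * y * p) = (S.xs a t * S.ws o 1) * y * p := by group
      _ = (S.ws o 1 * S.xs ((swb o)⁻¹ a) s) * y * p := by rw [hs]
      _ = S.ws o 1 * (S.xs ((swb o)⁻¹ a) s * (y * p)) := by group
  rw [e]
  exact hF16 (hF10s _ s hy hp)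

end F

end SysB

end Cfsg.Agent.Lib.Lead.STB
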