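import Mathlib
import Cfsg.Agent.Lib.Lead.STB.Defs
import Cfsg.Agent.Lib.Lead.STB.Defs3
import Cfsg.Agent.Lib.Helper5.STBF17Ncore
import Cfsg.Agent.Lib.Helper9.STBF8
import Cfsg.Agent.Lib.Helper16.STBF10
import Cfsg.Agent.Lib.Helper16.STBF10s

/-!
# Project STB (designer lead; S2094 family), row F17N `SysB.lemBN`, `SysB.lemBN_s`, VERBATIM (helper5):
`stbf17n_core`, `stbf17n_s_core` on F8 (`Helper9.STBF8`), F10 + F16 (`Helper16.STBF10`), F10s (`Helper16.STBF10s`).
-/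

set_option autoImplicit false

namespace Cfsg.Agent.Lib.Lead.STB

open Cfsg.Agent.Lib.helper15.St2 Cfsg.Agent.Lib.helper3.STC Cfsg.Agent.Lib.Lead.STD

universe v w

namespace SysB

variable {K : Type*} [Field K] {ι : Type*} [DecidableEq ι] {G : Type*} [Group G] (S : SysB K ι G)

section F
variable (o : ι ⊕ ι)

/-- F17N [M]  root elements on the opposite cell: `IsMon_move` / `IsMon_move_s` for W13 `isMon_ws o 1`, F10 / F10s, F16. -/
theorem lemBN [Finite K] (a b : ι ⊕ ι) (t : K) {y p : G} (hy : y ∈ S.Yg o) (hp : p ∈ S.Phat o) :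
    S.InD o (S.x a b t * (S.ws o 1 * y * p)) :=
  S.stbf17n_core o (fun hg _ _ hab t => S.IsMon_move hg hab t)
    (fun a b t _ _ hy hp => S.lemA_all o a b t hy hp) (fun hg => S.InD_ws o hg) a b t hy hp

theorem lemBN_s [Finite K] [Finite ι] (a : ι ⊕ ι) (t : K) {y p : G} (hy : y ∈ S.Yg o) (hp : p ∈ S.Phat o) :
    S.InD o (S.xs a t * (S.ws o 1 * y * p)) :=
  S.stbf17n_s_core o (fun hg a t => S.IsMon_move_s hg a t)
    (fun a t _ _ hy hp => S.lemA_all_s o a t hy hp) (fun hg => S.InD_ws o hg) a t hy hp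

end F

end SysB

end Cfsg.Agent.Lib.Lead.STB
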