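import Mathlib
import Cfsg.Agent.Lib.Lead.STB.Defs
import Cfsg.Agent.Lib.Lead.STB.Defs4
import Cfsg.Agent.Lib.Helper5.STBR3bcore
import Cfsg.Agent.Lib.Helper9.STBR0b

/-!
# Project STB (designer lead; S2094 family), row R3b `SysB.Rep.M_form`, VERBATIM (helper5): `stbr3b_core` on R0b (`Helper9.STBR0b`).
-/

set_option autoImplicit false

namespace Cfsg.Agent.Lib.Lead.STB

open Matrix Cfsg.Agent.Lib.helper15.St2 Cfsg.Agent.Lib.helper3.STC Cfsg.Agent.Lib.Lead.STD

universe v w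

namespace SysB

namespace Rep

variable {K : Type*} [Field K] {ι : Type*} {G : Type*} [Group G] {S : SysB K ι G} {l : Type*} [Fintype l] [DecidableEq l] (R : S.Rep l)

/-- R3b [S-M]  every element of a subgroup `XQ Q Qs` preserves the polar form (closure induction, `M_x`, `M_xs`, R0b, `Em_ng`, `Em_injective` of STC). -/
theorem M_form {Q : ι ⊕ ι → ι ⊕ ι → Prop} {Qs : ι ⊕ ι → Prop} : ∀ z ∈ S.XQ Q Qs, (R.M z)ᵀ * JB * R.M z = (JB : Matrix (Ix l) (Ix l) K) :=
  R.stbr3b_core (fun hab hab' t => TbL_form hab hab' t) (fun a t => TbS_form a t)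

end Rep

end SysB

end Cfsg.Agent.Lib.Lead.STB
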