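import Mathlib
import Cfsg.Agent.Lib.Lead.STB.Defs
import Cfsg.Agent.Lib.Helper5.STBW3core
import Cfsg.Agent.Lib.Helper25.STBW2

/-!
# Project STB (designer lead; S2094 family), row W3 `SysB.cj_w_xs_a`, `cj_w_xs_nb`, `cj_w_xs_na`, VERBATIM (helper5):
the cores of `Helper5.STBW3core` on W2 `cj_w_xs_b` (`Helper25.STBW2`).
-/

set_option autoImplicit false

namespace Cfsg.Agent.Lib.Lead.STB

open Cfsg.Agent.Lib.helper15.St2 Cfsg.Agent.Lib.helper3.STC Cfsg.Agent.Lib.Lead.STD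

universe v w

namespace SysB

variable {K : Type*} [Field K] {ι : Type*} {G : Type*} [Group G] (S : SysB K ι G)

/-- W3 [S-M]  from W2: inverse (`(w a b u)⁻¹ = w a b (-u)`, STD `w_neg`; `cj_inv_of`) and the symmetry `w a b u = w (ng b) (ng a) (-u)` (STD `w_sym`). -/
theorem cj_w_xs_a {a b : ι ⊕ ι} (hab : a ≠ b) (hab' : a ≠ ng b) (u t : K) (hu : u ≠ 0) :
    cj (S.w a b u) (S.xs a t) = S.xs b (-(u⁻¹ * t)) :=
  S.stbw3_a_core (fun hab hab' u t hu => S.cj_w_xs_b hab hab' u t hu) hab hab' u t hu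

theorem cj_w_xs_nb {a b : ι ⊕ ι} (hab : a ≠ b) (hab' : a ≠ ng b) (u t : K) (hu : u ≠ 0) :
    cj (S.w a b u) (S.xs (ng b) t) = S.xs (ng a) (u⁻¹ * t) :=
  S.stbw3_nb_core (fun hab hab' u t hu => S.cj_w_xs_b hab hab' u t hu) hab hab' u t hu

theorem cj_w_xs_na {a b : ι ⊕ ι} (hab : a ≠ b) (hab' : a ≠ ng b) (u t : K) (hu : u ≠ 0) :
    cj (S.w a b u) (S.xs (ng a) t) = S.xs (ng b) (-(u * t)) :=
  S.stbw3_na_core (fun hab hab' u t hu => S.cj_w_xs_b hab hab' u t hu) hab hab' u t hu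

end SysB

end Cfsg.Agent.Lib.Lead.STB
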