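import Mathlib
import Cfsg.Agent.Lib.Lead.STB.Defs

/-!
# Project STB (designer lead; S2094 family), row W4 `SysB.cj_ws_xs_self`, `SysB.cj_ws_xs_neg`, VERBATIM (helper5).
Extra: `SysB.stbw4_sts_w` (own-name copy of B2 `sts_w`).
-/

set_option autoImplicit false

namespace Cfsg.Agent.Lib.Lead.STB

open Cfsg.Agent.Lib.helper15.St2 Cfsg.Agent.Lib.helper3.STC Cfsg.Agent.Lib.Lead.STD

universe v w

namespace SysB

variable {K : Type*} [Field K] {ι : Type*} {G : Type*} [Group G] (S : SysB K ι G)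

/-- own-name copy of B2 `sts_w` -/
theorem stbw4_sts_w (a : ι ⊕ ι) (t : K) : (S.sts a).w t = S.ws a t := by
  show S.xs a t * S.xs (ng a) (-(-t⁻¹)) * S.xs a t = S.xs a t * S.xs (ng a) t⁻¹ * S.xs a t
  rw [neg_neg]

/-- W4 [S]  the short Weyl element on its own root subgroups: `S.rels`, and `St.w_y` for `S.sts a` (`Y t = xs (ng a) (-t)`). -/
theorem cj_ws_xs_self (a : ι ⊕ ι) (u t : K) (hu : u ≠ 0) : cj (S.ws a u) (S.xs a t) = S.xs (ng a) (u⁻¹ ^ 2 * t) :=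
  S.rels a u t hu

theorem cj_ws_xs_neg (a : ι ⊕ ι) (u t : K) (hu : u ≠ 0) : cj (S.ws a u) (S.xs (ng a) t) = S.xs a (u ^ 2 * t) := by
  have h := (S.sts a).w_y u (-t) hu
  rw [S.stbw4_sts_w] at h
  have e1 : (S.sts a).y (-t) = S.xs (ng a) t := by
    show S.xs (ng a) (-(-t)) = S.xs (ng a) t
    rw [neg_neg]
  have e2 : (S.sts a).x (-(u ^ 2 * -t)) = S.xs a (u ^ 2 * t) := by
    show S.xs a (-(u ^ 2 * -t)) = S.xs a (u ^ 2 * t)
    congr 1
    ring
  rw [e1, e2] at h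
  exact h

end SysB

end Cfsg.Agent.Lib.Lead.STB
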