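import Mathlib
import Cfsg.Agent.Lib.helper17.STM.Defs
import Cfsg.Agent.Lib.helper17.STM.Defs2
import Cfsg.Agent.Lib.helper17.STM.Defs3
import Cfsg.Agent.Lib.Helper5.STMJ6core
import Cfsg.Agent.Lib.Helper21.STMW13
import Cfsg.Agent.Lib.Helper20.STMR5s

/-!
# Project STM (designer helper17; S2099 family), row J6 `SysM.Rep.A_fix_eq_one`, VERBATIM (helper5): `stmj6_core` on W13 `isMon_ws` (`Helper21.STMW13`) and R5s `M_ws_nfst` (`Helper20.STMR5s`).
-/

set_option autoImplicit false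

namespace Cfsg.Agent.Lib.helper17.STM

open Matrix Cfsg.Agent.Lib.helper15.St2 Cfsg.Agent.Lib.helper3.STC Cfsg.Agent.Lib.Lead.STD

universe v w

namespace SysM

namespace Rep

variable {F : Type*} [Field F] {A B : F} [Fact (∀ r : F, r ^ 2 ≠ -B + A * r)] {ι : Type*} {G : Type*} [Group G] {S : SysM F A B ι G}
  {l : Type*} [Fintype l] [DecidableEq l] (R : S.Rep l)

variable (o : ι ⊕ ι)

/-- J6 [M]  an element of `Ag o` fixing `e_{-o}` is trivial (model STB J6: `n = ws o 1`). -/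
theorem A_fix_eq_one [DecidableEq ι] (hYfix : ∀ y ∈ S.Yg o, R.M y *ᵥ evm (Ebm R.e o) = evm (Ebm R.e o) → y = 1) {a : G} (ha : a ∈ S.Ag o)
    (h : R.M a *ᵥ evm (Ebm R.e (ng o)) = evm (Ebm R.e (ng o))) : a = 1 :=
  R.stmj6_core o (S.isMon_ws o 1 one_ne_zero) (M_ws_nfst R o 1 one_ne_zero) hYfix ha h

end Rep

end SysM

end Cfsg.Agent.Lib.helper17.STM
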