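import Mathlib
import Cfsg.Agent.Lib.helper17.STM.Defs
import Cfsg.Agent.Lib.helper17.STM.Defs2
import Cfsg.Agent.Lib.helper17.STM.Defs3
import Cfsg.Agent.Lib.Helper5.STMR3bcore
import Cfsg.Agent.Lib.Helper28.STMR0b

/-!
# Project STM (designer helper17; S2099 family), row R3b `SysM.Rep.M_form`, VERBATIM (helper5): `stmr3b_core` on R0b (`Helper28.STMR0b`).
-/

set_option autoImplicit false

namespace Cfsg.Agent.Lib.helper17.STM

open Matrix Cfsg.Agent.Lib.helper15.St2 Cfsg.Agent.Lib.helper3.STC Cfsg.Agent.Lib.Lead.STD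

universe v w

namespace SysM

namespace Rep

variable {F : Type*} [Field F] {A B : F} [Fact (∀ r : F, r ^ 2 ≠ -B + A * r)] {ι : Type*} {G : Type*} [Group G] {S : SysM F A B ι G}
  {l : Type*} [Fintype l] [DecidableEq l] (R : S.Rep l)

/-- R3b [S-M]  every element of a subgroup `XQ Q Qs` preserves the polar form (closure induction, `M_x`, `M_xs`, R0b, `Em_ng`, `Em_injective` of STC; model `Helper5.STBR3bcore`). -/
theorem M_form {Q : ι ⊕ ι → ι ⊕ ι → Prop} {Qs : ι ⊕ ι → Prop} : ∀ z ∈ S.XQ Q Qs, (R.M z)ᵀ * JM A B * R.M z = (JM A B : Matrix (Im l) (Im l) F) :=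
  R.stmr3b_core (fun hab hab' t => TmL_form hab hab' t) (fun a t => TmS_form a t)

end Rep

end SysM

end Cfsg.Agent.Lib.helper17.STM
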