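import Mathlib
import Cfsg.Agent.Lib.Helper5.SU5Z6core
import Cfsg.Agent.Lib.Helper21.SU5Z1

/-!
# Project SU5 (designer helper19; S2291 odd case), rows Z5 `model_weylU` and Z6 `model_toractU`, VERBATIM (helper5):
`su5z5_core`, `su5z6_core` on Z1 `match_dictU`.
-/

set_option autoImplicit false
set_option linter.unusedSectionVars false

namespace Cfsg.Agent.Lib.Helper19.SU5

open Cfsg.Agent.Lib.helper17.SLP Cfsg.Agent.Lib.helper3.SP4 Cfsg.Agent.Lib.Helper22.SU4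
open Cfsg.Agent.Lib.Helper27.STU (Lam XpM XmM XpS XmS SUm XpU XmU SysU)
open Cfsg.Agent.Lib.helper3.STC (ng sws)
open Cfsg.Agent.Lib.helper3.SU5 (Dat Tab5 Pre)

universe u v w

section Z

variable {F : Type u} {K : Type u} [Field F] [Field K] [StarRing F] [Fintype F] [Fintype K] {D : Tw F K}

variable {G₀ : Type v} [Group G₀] (S : SysU F True (Fin 2) G₀)

/-- Z5 [M]  deps Z1 Z2 + `SysU.isMon_ws`, `SysU.isMon_wl`. -/
theorem model_weylU (hFK : Fintype.card F = Fintype.card K ^ 2) (P : RO D)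
    (ψa : Matrix.SpecialLinearGroup (Fin 2) F →* G₀) (ψb : ↥(SUm F True) →* G₀) (M : MatchU S ψa ψb) :
    (rn (phiL P ψb) * rn ψa * (rn (phiL P ψb))⁻¹) * rx ψa 1 * (rn (phiL P ψb) * rn ψa * (rn (phiL P ψb))⁻¹)⁻¹ =
        (rx ψa 1)⁻¹ ∧
      Commute (rn ψa * rn (phiL P ψb) * (rn ψa)⁻¹) (rx (phiL P ψb) 1) :=
  su5z5_core S hFK P ψa ψb (match_dictU S hFK P ψa ψb M)

/-- Z6 [M]  deps Z1 Z2 + STU `SysU.hH_all`, `Lam.exists_of_c`. -/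
theorem model_toractU (hFK : Fintype.card F = Fintype.card K ^ 2)
    (hF : Cfsg.Agent.Lib.Helper27.STU.Hyp F) (P : RO D)
    (ψa : Matrix.SpecialLinearGroup (Fin 2) F →* G₀) (ψb : ↥(SUm F True) →* G₀) (M : MatchU S ψa ψb) :
    (∀ (s : Fˣ) (ξ : Lam F True), rh ψa s * yb ψb ξ * (rh ψa s)⁻¹ = yb ψb (Lam.act ((s⁻¹ : Fˣ) : F) ξ)) ∧
      (∀ (r : Fˣ) (t : F), hbF P ψb r * rx ψa t * (hbF P ψb r)⁻¹ = rx ψa (((r⁻¹ : Fˣ) : F) * t)) ∧
      (rh ψa P.ζ)⁻¹ * rx (phiL P ψb) 1 * rh ψa P.ζ = rx (phiL P ψb) (P.ζ₀ : K) :=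
  su5z6_core S hFK hF P ψa ψb (match_dictU S hFK P ψa ψb M)

end Z

end Cfsg.Agent.Lib.Helper19.SU5
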