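import Cfsg.Agent.Lib.Helper5.Sp6BaseData
import Cfsg.Agent.Lib.helper23.PgX

set_option autoImplicit false
set_option maxRecDepth 1000000
set_option Elab.async false

/-! The symplectic group of degree six over the field with two elements on 64 points: the checks of the stabiliser chain (generated). -/

namespace Cfsg.Agent.Lib.Helper5.Sp6M

open Cfsg.Agent.Lib.helper23 Subgroup MulAction

theorem spbchk0x6 : pgChkLvlW0 64 spbL6 [] = true := by decide +kernel
theorem spbchk0x5 : pgChkLvlW0 64 spbL5 [spbL6] = true := by decide +kernel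
theorem spbchk0x4 : pgChkLvlW0 64 spbL4 [spbL5, spbL6] = true := by decide +kernel
theorem spbchk0x3 : pgChkLvlW0 64 spbL3 [spbL4, spbL5, spbL6] = true := by decide +kernel
theorem spbchk0x2 : pgChkLvlW0 64 spbL2 [spbL3, spbL4, spbL5, spbL6] = true := by decide +kernel
theorem spbchk0x1 : pgChkLvlW0 64 spbL1 [spbL2, spbL3, spbL4, spbL5, spbL6] = true := by decide +kernel

theorem spbcl6x0 : pgChkGenW 64 (List.range 64) spbL6 []
    (spbgen spbT6x0 spbI6x0) 0 64 = true := by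
  decide +kernel
theorem spbcl6x1 : pgChkGenW 64 (List.range 64) spbL6 []
    (spbgen spbT6x1 spbI6x1) 0 64 = true := by
  decide +kernel
theorem spbcl5x0 : pgChkGenW 64 (List.range 64) spbL5 [spbL6]
    (spbgen spbT5x0 spbI5x0) 0 64 = true := by
  decide +kernel
theorem spbcl5x1 : pgChkGenW 64 (List.range 64) spbL5 [spbL6]
    (spbgen spbT5x1 spbI5x1) 0 64 = true := by
  decide +kernel
theorem spbcl5x2 : pgChkGenW 64 (List.range 64) spbL5 [spbL6]
    (spbgen spbT5x2 spbI5x2) 0 64 = true := by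
  decide +kernel
theorem spbcl4x0 : pgChkGenW 64 (List.range 64) spbL4 [spbL5, spbL6]
    (spbgen spbT4x0 spbI4x0) 0 64 = true := by
  decide +kernel
theorem spbcl4x1 : pgChkGenW 64 (List.range 64) spbL4 [spbL5, spbL6]
    (spbgen spbT4x1 spbI4x1) 0 64 = true := by
  decide +kernel
theorem spbcl4x2 : pgChkGenW 64 (List.range 64) spbL4 [spbL5, spbL6]
    (spbgen spbT4x2 spbI4x2) 0 64 = true := by
  decide +kernel
theorem spbcl4x3 : pgChkGenW 64 (List.range 64) spbL4 [spbL5, spbL6]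
    (spbgen spbT4x3 spbI4x3) 0 64 = true := by
  decide +kernel
theorem spbcl4x4 : pgChkGenW 64 (List.range 64) spbL4 [spbL5, spbL6]
    (spbgen spbT4x4 spbI4x4) 0 64 = true := by
  decide +kernel
theorem spbcl4x5 : pgChkGenW 64 (List.range 64) spbL4 [spbL5, spbL6]
    (spbgen spbT4x5 spbI4x5) 0 64 = true := by
  decide +kernel
theorem spbcl3x0 : pgChkGenW 64 (List.range 64) spbL3 [spbL4, spbL5, spbL6]
    (spbgen spbT3x0 spbI3x0) 0 64 = true := by
  decide +kernel
theorem spbcl3x1 : pgChkGenW 64 (List.range 64) spbL3 [spbL4, spbL5, spbL6]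
    (spbgen spbT3x1 spbI3x1) 0 64 = true := by
  decide +kernel
theorem spbcl3x2 : pgChkGenW 64 (List.range 64) spbL3 [spbL4, spbL5, spbL6]
    (spbgen spbT3x2 spbI3x2) 0 64 = true := by
  decide +kernel
theorem spbcl2x0 : pgChkGenW 64 (List.range 64) spbL2 [spbL3, spbL4, spbL5, spbL6]
    (spbgen spbT2x0 spbI2x0) 0 64 = true := by
  decide +kernel
theorem spbcl2x1 : pgChkGenW 64 (List.range 64) spbL2 [spbL3, spbL4, spbL5, spbL6]
    (spbgen spbT2x1 spbI2x1) 0 64 = true := by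
  decide +kernel
theorem spbcl2x2 : pgChkGenW 64 (List.range 64) spbL2 [spbL3, spbL4, spbL5, spbL6]
    (spbgen spbT2x2 spbI2x2) 0 64 = true := by
  decide +kernel
theorem spbcl1x0 : pgChkGenW 64 (List.range 64) spbL1 [spbL2, spbL3, spbL4, spbL5, spbL6]
    (spbgen spbT1x0 spbI1x0) 0 64 = true := by
  decide +kernel
theorem spbcl1x1 : pgChkGenW 64 (List.range 64) spbL1 [spbL2, spbL3, spbL4, spbL5, spbL6]
    (spbgen spbT1x1 spbI1x1) 0 64 = true := by
  decide +kernel
theorem spbcl1x2 : pgChkGenW 64 (List.range 64) spbL1 [spbL2, spbL3, spbL4, spbL5, spbL6]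
    (spbgen spbT1x2 spbI1x2) 0 64 = true := by
  decide +kernel
theorem spbcl1x3 : pgChkGenW 64 (List.range 64) spbL1 [spbL2, spbL3, spbL4, spbL5, spbL6]
    (spbgen spbT1x3 spbI1x3) 0 64 = true := by
  decide +kernel
theorem spbcl1x4 : pgChkGenW 64 (List.range 64) spbL1 [spbL2, spbL3, spbL4, spbL5, spbL6]
    (spbgen spbT1x4 spbI1x4) 0 64 = true := by
  decide +kernel
theorem spbcl1x5 : pgChkGenW 64 (List.range 64) spbL1 [spbL2, spbL3, spbL4, spbL5, spbL6]
    (spbgen spbT1x5 spbI1x5) 0 64 = true := by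
  decide +kernel
theorem spbcl1x6 : pgChkGenW 64 (List.range 64) spbL1 [spbL2, spbL3, spbL4, spbL5, spbL6]
    (spbgen spbT1x6 spbI1x6) 0 64 = true := by
  decide +kernel
theorem spbcl1x7 : pgChkGenW 64 (List.range 64) spbL1 [spbL2, spbL3, spbL4, spbL5, spbL6]
    (spbgen spbT1x7 spbI1x7) 0 64 = true := by
  decide +kernel
theorem spbcl1x8 : pgChkGenW 64 (List.range 64) spbL1 [spbL2, spbL3, spbL4, spbL5, spbL6]
    (spbgen spbT1x8 spbI1x8) 0 64 = true := by
  decide +kernel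
theorem spbcl1x9 : pgChkGenW 64 (List.range 64) spbL1 [spbL2, spbL3, spbL4, spbL5, spbL6]
    (spbgen spbT1x9 spbI1x9) 0 64 = true := by
  decide +kernel
theorem spbcl1x10 : pgChkGenW 64 (List.range 64) spbL1 [spbL2, spbL3, spbL4, spbL5, spbL6]
    (spbgen spbT1x10 spbI1x10) 0 64 = true := by
  decide +kernel
theorem spbcl1x11 : pgChkGenW 64 (List.range 64) spbL1 [spbL2, spbL3, spbL4, spbL5, spbL6]
    (spbgen spbT1x11 spbI1x11) 0 64 = true := by
  decide +kernel
theorem spbcl1x12 : pgChkGenW 64 (List.range 64) spbL1 [spbL2, spbL3, spbL4, spbL5, spbL6]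
    (spbgen spbT1x12 spbI1x12) 0 64 = true := by
  decide +kernel
theorem spbcl1x13 : pgChkGenW 64 (List.range 64) spbL1 [spbL2, spbL3, spbL4, spbL5, spbL6]
    (spbgen spbT1x13 spbI1x13) 0 64 = true := by
  decide +kernel
theorem spbcl1x14 : pgChkGenW 64 (List.range 64) spbL1 [spbL2, spbL3, spbL4, spbL5, spbL6]
    (spbgen spbT1x14 spbI1x14) 0 64 = true := by
  decide +kernel
theorem spbcl1x15 : pgChkGenW 64 (List.range 64) spbL1 [spbL2, spbL3, spbL4, spbL5, spbL6]
    (spbgen spbT1x15 spbI1x15) 0 64 = true := by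
  decide +kernel
theorem spbcl1x16 : pgChkGenW 64 (List.range 64) spbL1 [spbL2, spbL3, spbL4, spbL5, spbL6]
    (spbgen spbT1x16 spbI1x16) 0 64 = true := by
  decide +kernel
theorem spbcl1x17 : pgChkGenW 64 (List.range 64) spbL1 [spbL2, spbL3, spbL4, spbL5, spbL6]
    (spbgen spbT1x17 spbI1x17) 0 64 = true := by
  decide +kernel
theorem spbcl1x18 : pgChkGenW 64 (List.range 64) spbL1 [spbL2, spbL3, spbL4, spbL5, spbL6]
    (spbgen spbT1x18 spbI1x18) 0 64 = true := by
  decide +kernel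
theorem spbcl1x19 : pgChkGenW 64 (List.range 64) spbL1 [spbL2, spbL3, spbL4, spbL5, spbL6]
    (spbgen spbT1x19 spbI1x19) 0 64 = true := by
  decide +kernel
theorem spbcl1x20 : pgChkGenW 64 (List.range 64) spbL1 [spbL2, spbL3, spbL4, spbL5, spbL6]
    (spbgen spbT1x20 spbI1x20) 0 64 = true := by
  decide +kernel
theorem spbcl1x21 : pgChkGenW 64 (List.range 64) spbL1 [spbL2, spbL3, spbL4, spbL5, spbL6]
    (spbgen spbT1x21 spbI1x21) 0 64 = true := by
  decide +kernel
theorem spbcl1x22 : pgChkGenW 64 (List.range 64) spbL1 [spbL2, spbL3, spbL4, spbL5, spbL6]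
    (spbgen spbT1x22 spbI1x22) 0 64 = true := by
  decide +kernel
theorem spbcl1x23 : pgChkGenW 64 (List.range 64) spbL1 [spbL2, spbL3, spbL4, spbL5, spbL6]
    (spbgen spbT1x23 spbI1x23) 0 64 = true := by
  decide +kernel
theorem spbcl1x24 : pgChkGenW 64 (List.range 64) spbL1 [spbL2, spbL3, spbL4, spbL5, spbL6]
    (spbgen spbT1x24 spbI1x24) 0 64 = true := by
  decide +kernel
theorem spbcl1x25 : pgChkGenW 64 (List.range 64) spbL1 [spbL2, spbL3, spbL4, spbL5, spbL6]
    (spbgen spbT1x25 spbI1x25) 0 64 = true := by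
  decide +kernel
theorem spbcl1x26 : pgChkGenW 64 (List.range 64) spbL1 [spbL2, spbL3, spbL4, spbL5, spbL6]
    (spbgen spbT1x26 spbI1x26) 0 64 = true := by
  decide +kernel
theorem spbcl1x27 : pgChkGenW 64 (List.range 64) spbL1 [spbL2, spbL3, spbL4, spbL5, spbL6]
    (spbgen spbT1x27 spbI1x27) 0 64 = true := by
  decide +kernel
theorem spbcl1x28 : pgChkGenW 64 (List.range 64) spbL1 [spbL2, spbL3, spbL4, spbL5, spbL6]
    (spbgen spbT1x28 spbI1x28) 0 64 = true := by
  decide +kernel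
theorem spbcl1x29 : pgChkGenW 64 (List.range 64) spbL1 [spbL2, spbL3, spbL4, spbL5, spbL6]
    (spbgen spbT1x29 spbI1x29) 0 64 = true := by
  decide +kernel
theorem spbcl1x30 : pgChkGenW 64 (List.range 64) spbL1 [spbL2, spbL3, spbL4, spbL5, spbL6]
    (spbgen spbT1x30 spbI1x30) 0 64 = true := by
  decide +kernel
theorem spbcl1x31 : pgChkGenW 64 (List.range 64) spbL1 [spbL2, spbL3, spbL4, spbL5, spbL6]
    (spbgen spbT1x31 spbI1x31) 0 64 = true := by
  decide +kernel
theorem spbcl1x32 : pgChkGenW 64 (List.range 64) spbL1 [spbL2, spbL3, spbL4, spbL5, spbL6]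
    (spbgen spbT1x32 spbI1x32) 0 64 = true := by
  decide +kernel
theorem spbcl1x33 : pgChkGenW 64 (List.range 64) spbL1 [spbL2, spbL3, spbL4, spbL5, spbL6]
    (spbgen spbT1x33 spbI1x33) 0 64 = true := by
  decide +kernel
theorem spbcl1x34 : pgChkGenW 64 (List.range 64) spbL1 [spbL2, spbL3, spbL4, spbL5, spbL6]
    (spbgen spbT1x34 spbI1x34) 0 64 = true := by
  decide +kernel
theorem spbcl1x35 : pgChkGenW 64 (List.range 64) spbL1 [spbL2, spbL3, spbL4, spbL5, spbL6]
    (spbgen spbT1x35 spbI1x35) 0 64 = true := by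
  decide +kernel
theorem spbcl1x36 : pgChkGenW 64 (List.range 64) spbL1 [spbL2, spbL3, spbL4, spbL5, spbL6]
    (spbgen spbT1x36 spbI1x36) 0 64 = true := by
  decide +kernel
theorem spbcl1x37 : pgChkGenW 64 (List.range 64) spbL1 [spbL2, spbL3, spbL4, spbL5, spbL6]
    (spbgen spbT1x37 spbI1x37) 0 64 = true := by
  decide +kernel
theorem spbcl1x38 : pgChkGenW 64 (List.range 64) spbL1 [spbL2, spbL3, spbL4, spbL5, spbL6]
    (spbgen spbT1x38 spbI1x38) 0 64 = true := by
  decide +kernel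
theorem spbcl1x39 : pgChkGenW 64 (List.range 64) spbL1 [spbL2, spbL3, spbL4, spbL5, spbL6]
    (spbgen spbT1x39 spbI1x39) 0 64 = true := by
  decide +kernel
theorem spbcl1x40 : pgChkGenW 64 (List.range 64) spbL1 [spbL2, spbL3, spbL4, spbL5, spbL6]
    (spbgen spbT1x40 spbI1x40) 0 64 = true := by
  decide +kernel
theorem spbcl1x41 : pgChkGenW 64 (List.range 64) spbL1 [spbL2, spbL3, spbL4, spbL5, spbL6]
    (spbgen spbT1x41 spbI1x41) 0 64 = true := by
  decide +kernel
theorem spbcl1x42 : pgChkGenW 64 (List.range 64) spbL1 [spbL2, spbL3, spbL4, spbL5, spbL6]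
    (spbgen spbT1x42 spbI1x42) 0 64 = true := by
  decide +kernel
theorem spbcl1x43 : pgChkGenW 64 (List.range 64) spbL1 [spbL2, spbL3, spbL4, spbL5, spbL6]
    (spbgen spbT1x43 spbI1x43) 0 64 = true := by
  decide +kernel
theorem spbcl1x44 : pgChkGenW 64 (List.range 64) spbL1 [spbL2, spbL3, spbL4, spbL5, spbL6]
    (spbgen spbT1x44 spbI1x44) 0 64 = true := by
  decide +kernel
theorem spbcl1x45 : pgChkGenW 64 (List.range 64) spbL1 [spbL2, spbL3, spbL4, spbL5, spbL6]
    (spbgen spbT1x45 spbI1x45) 0 64 = true := by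
  decide +kernel
theorem spbcl1x46 : pgChkGenW 64 (List.range 64) spbL1 [spbL2, spbL3, spbL4, spbL5, spbL6]
    (spbgen spbT1x46 spbI1x46) 0 64 = true := by
  decide +kernel
theorem spbcl1x47 : pgChkGenW 64 (List.range 64) spbL1 [spbL2, spbL3, spbL4, spbL5, spbL6]
    (spbgen spbT1x47 spbI1x47) 0 64 = true := by
  decide +kernel
theorem spbcl1x48 : pgChkGenW 64 (List.range 64) spbL1 [spbL2, spbL3, spbL4, spbL5, spbL6]
    (spbgen spbT1x48 spbI1x48) 0 64 = true := by
  decide +kernel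
theorem spbcl1x49 : pgChkGenW 64 (List.range 64) spbL1 [spbL2, spbL3, spbL4, spbL5, spbL6]
    (spbgen spbT1x49 spbI1x49) 0 64 = true := by
  decide +kernel
theorem spbcl1x50 : pgChkGenW 64 (List.range 64) spbL1 [spbL2, spbL3, spbL4, spbL5, spbL6]
    (spbgen spbT1x50 spbI1x50) 0 64 = true := by
  decide +kernel
theorem spbcl1x51 : pgChkGenW 64 (List.range 64) spbL1 [spbL2, spbL3, spbL4, spbL5, spbL6]
    (spbgen spbT1x51 spbI1x51) 0 64 = true := by
  decide +kernel
theorem spbcl1x52 : pgChkGenW 64 (List.range 64) spbL1 [spbL2, spbL3, spbL4, spbL5, spbL6]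
    (spbgen spbT1x52 spbI1x52) 0 64 = true := by
  decide +kernel
theorem spbcl1x53 : pgChkGenW 64 (List.range 64) spbL1 [spbL2, spbL3, spbL4, spbL5, spbL6]
    (spbgen spbT1x53 spbI1x53) 0 64 = true := by
  decide +kernel
theorem spbcl1x54 : pgChkGenW 64 (List.range 64) spbL1 [spbL2, spbL3, spbL4, spbL5, spbL6]
    (spbgen spbT1x54 spbI1x54) 0 64 = true := by
  decide +kernel
theorem spbcl1x55 : pgChkGenW 64 (List.range 64) spbL1 [spbL2, spbL3, spbL4, spbL5, spbL6]
    (spbgen spbT1x55 spbI1x55) 0 64 = true := by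
  decide +kernel
theorem spbcl1x56 : pgChkGenW 64 (List.range 64) spbL1 [spbL2, spbL3, spbL4, spbL5, spbL6]
    (spbgen spbT1x56 spbI1x56) 0 64 = true := by
  decide +kernel
theorem spbcl1x57 : pgChkGenW 64 (List.range 64) spbL1 [spbL2, spbL3, spbL4, spbL5, spbL6]
    (spbgen spbT1x57 spbI1x57) 0 64 = true := by
  decide +kernel
theorem spbcl1x58 : pgChkGenW 64 (List.range 64) spbL1 [spbL2, spbL3, spbL4, spbL5, spbL6]
    (spbgen spbT1x58 spbI1x58) 0 64 = true := by
  decide +kernel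
theorem spbcl1x59 : pgChkGenW 64 (List.range 64) spbL1 [spbL2, spbL3, spbL4, spbL5, spbL6]
    (spbgen spbT1x59 spbI1x59) 0 64 = true := by
  decide +kernel
theorem spbcl1x60 : pgChkGenW 64 (List.range 64) spbL1 [spbL2, spbL3, spbL4, spbL5, spbL6]
    (spbgen spbT1x60 spbI1x60) 0 64 = true := by
  decide +kernel
theorem spbcl1x61 : pgChkGenW 64 (List.range 64) spbL1 [spbL2, spbL3, spbL4, spbL5, spbL6]
    (spbgen spbT1x61 spbI1x61) 0 64 = true := by
  decide +kernel
theorem spbcl1x62 : pgChkGenW 64 (List.range 64) spbL1 [spbL2, spbL3, spbL4, spbL5, spbL6]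
    (spbgen spbT1x62 spbI1x62) 0 64 = true := by
  decide +kernel

theorem spbchkL6 : pgChkLvlW 64 (List.range 64) spbL6 [] = true := by
  apply pgChkLvlW_ofAllX spbchk0x6
  intro s hs
  change s ∈ [spbgen spbT6x0 spbI6x0, spbgen spbT6x1 spbI6x1] at hs
  simp only [List.mem_cons, List.not_mem_nil, or_false] at hs
  rcases hs with rfl | rfl
  · exact spbcl6x0
  · exact spbcl6x1

theorem spbchkL5 : pgChkLvlW 64 (List.range 64) spbL5 [spbL6] = true := by
  apply pgChkLvlW_ofAllX spbchk0x5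
  intro s hs
  change s ∈ [spbgen spbT5x0 spbI5x0, spbgen spbT5x1 spbI5x1, spbgen spbT5x2 spbI5x2] at hs
  simp only [List.mem_cons, List.not_mem_nil, or_false] at hs
  rcases hs with rfl | rfl | rfl
  · exact spbcl5x0
  · exact spbcl5x1
  · exact spbcl5x2

theorem spbchkL4 : pgChkLvlW 64 (List.range 64) spbL4 [spbL5, spbL6] = true := by
  apply pgChkLvlW_ofAllX spbchk0x4
  intro s hs
  change s ∈ [spbgen spbT4x0 spbI4x0, spbgen spbT4x1 spbI4x1, spbgen spbT4x2 spbI4x2, spbgen spbT4x3 spbI4x3, spbgen spbT4x4 spbI4x4, spbgen spbT4x5 spbI4x5] at hs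
  simp only [List.mem_cons, List.not_mem_nil, or_false] at hs
  rcases hs with rfl | rfl | rfl | rfl | rfl | rfl
  · exact spbcl4x0
  · exact spbcl4x1
  · exact spbcl4x2
  · exact spbcl4x3
  · exact spbcl4x4
  · exact spbcl4x5

theorem spbchkL3 : pgChkLvlW 64 (List.range 64) spbL3 [spbL4, spbL5, spbL6] = true := by
  apply pgChkLvlW_ofAllX spbchk0x3
  intro s hs
  change s ∈ [spbgen spbT3x0 spbI3x0, spbgen spbT3x1 spbI3x1, spbgen spbT3x2 spbI3x2] at hs
  simp only [List.mem_cons, List.not_mem_nil, or_false] at hs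
  rcases hs with rfl | rfl | rfl
  · exact spbcl3x0
  · exact spbcl3x1
  · exact spbcl3x2

theorem spbchkL2 : pgChkLvlW 64 (List.range 64) spbL2 [spbL3, spbL4, spbL5, spbL6] = true := by
  apply pgChkLvlW_ofAllX spbchk0x2
  intro s hs
  change s ∈ [spbgen spbT2x0 spbI2x0, spbgen spbT2x1 spbI2x1, spbgen spbT2x2 spbI2x2] at hs
  simp only [List.mem_cons, List.not_mem_nil, or_false] at hs
  rcases hs with rfl | rfl | rfl
  · exact spbcl2x0
  · exact spbcl2x1
  · exact spbcl2x2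

theorem spbchkL1 : pgChkLvlW 64 (List.range 64) spbL1 [spbL2, spbL3, spbL4, spbL5, spbL6] = true := by
  apply pgChkLvlW_ofAllX spbchk0x1
  intro s hs
  change s ∈ [spbgen spbT1x0 spbI1x0, spbgen spbT1x1 spbI1x1, spbgen spbT1x2 spbI1x2, spbgen spbT1x3 spbI1x3, spbgen spbT1x4 spbI1x4, spbgen spbT1x5 spbI1x5, spbgen spbT1x6 spbI1x6, spbgen spbT1x7 spbI1x7, spbgen spbT1x8 spbI1x8, spbgen spbT1x9 spbI1x9, spbgen spbT1x10 spbI1x10, spbgen spbT1x11 spbI1x11, spbgen spbT1x12 spbI1x12, spbgen spbT1x13 spbI1x13, spbgen spbT1x14 spbI1x14, spbgen spbT1x15 spbI1x15, spbgen spbT1x16 spbI1x16, spbgen spbT1x17 spbI1x17, spbgen spbT1x18 spbI1x18, spbgen spbT1x19 spbI1x19, spbgen spbT1x20 spbI1x20, spbgen spbT1x21 spbI1x21, spbgen spbT1x22 spbI1x22, spbgen spbT1x23 spbI1x23, spbgen spbT1x24 spbI1x24, spbgen spbT1x25 spbI1x25, spbgen spbT1x26 spbI1x26, spbgen spbT1x27 spbI1x27, spbgen spbT1x28 spbI1x28, spbgen spbT1x29 spbI1x29, spbgen spbT1x30 spbI1x30,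 spbgen spbT1x31 spbI1x31, spbgen spbT1x32 spbI1x32, spbgen spbT1x33 spbI1x33, spbgen spbT1x34 spbI1x34, spbgen spbT1x35 spbI1x35, spbgen spbT1x36 spbI1x36, spbgen spbT1x37 spbI1x37, spbgen spbT1x38 spbI1x38, spbgen spbT1x39 spbI1x39, spbgen spbT1x40 spbI1x40, spbgen spbT1x41 spbI1x41, spbgen spbT1x42 spbI1x42, spbgen spbT1x43 spbI1x43, spbgen spbT1x44 spbI1x44, spbgen spbT1x45 spbI1x45, spbgen spbT1x46 spbI1x46, spbgen spbT1x47 spbI1x47, spbgen spbT1x48 spbI1x48, spbgen spbT1x49 spbI1x49, spbgen spbT1x50 spbI1x50, spbgen spbT1x51 spbI1x51, spbgen spbT1x52 spbI1x52, spbgen spbT1x53 spbI1x53, spbgen spbT1x54 spbI1x54, spbgen spbT1x55 spbI1x55, spbgen spbT1x56 spbI1x56, spbgen spbT1x57 spbI1x57, spbgen spbT1x58 spbI1x58, spbgen spbT1x59 spbI1x59, spbgen spbT1x60 spbI1x60, spbgen spbT1x61 spbI1x61, spbgen spbT1x62 spbI1x62] at hs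
  simp only [List.mem_cons, List.not_mem_nil, or_false] at hs
  rcases hs with rfl | rfl | rfl | rfl | rfl | rfl | rfl | rfl | rfl | rfl | rfl | rfl | rfl | rfl | rfl | rfl | rfl | rfl | rfl | rfl | rfl | rfl | rfl | rfl | rfl | rfl | rfl | rfl | rfl | rfl | rfl | rfl | rfl | rfl | rfl | rfl | rfl | rfl | rfl | rfl | rfl | rfl | rfl | rfl | rfl | rfl | rfl | rfl | rfl | rfl | rfl | rfl | rfl | rfl | rfl | rfl | rfl | rfl | rfl | rfl | rfl | rfl | rfl
  · exact spbcl1x0
  · exact spbcl1x1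
  · exact spbcl1x2
  · exact spbcl1x3
  · exact spbcl1x4
  · exact spbcl1x5
  · exact spbcl1x6
  · exact spbcl1x7
  · exact spbcl1x8
  · exact spbcl1x9
  · exact spbcl1x10
  · exact spbcl1x11
  · exact spbcl1x12
  · exact spbcl1x13
  · exact spbcl1x14
  · exact spbcl1x15
  · exact spbcl1x16
  · exact spbcl1x17
  · exact spbcl1x18
  · exact spbcl1x19
  · exact spbcl1x20
  · exact spbcl1x21
  · exact spbcl1x22
  · exact spbcl1x23
  · exact spbcl1x24
  · exact spbcl1x25
  · exact spbcl1x26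
  · exact spbcl1x27
  · exact spbcl1x28
  · exact spbcl1x29
  · exact spbcl1x30
  · exact spbcl1x31
  · exact spbcl1x32
  · exact spbcl1x33
  · exact spbcl1x34
  · exact spbcl1x35
  · exact spbcl1x36
  · exact spbcl1x37
  · exact spbcl1x38
  · exact spbcl1x39
  · exact spbcl1x40
  · exact spbcl1x41
  · exact spbcl1x42
  · exact spbcl1x43
  · exact spbcl1x44
  · exact spbcl1x45
  · exact spbcl1x46
  · exact spbcl1x47
  · exact spbcl1x48
  · exact spbcl1x49
  · exact spbcl1x50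
  · exact spbcl1x51
  · exact spbcl1x52
  · exact spbcl1x53
  · exact spbcl1x54
  · exact spbcl1x55
  · exact spbcl1x56
  · exact spbcl1x57
  · exact spbcl1x58
  · exact spbcl1x59
  · exact spbcl1x60
  · exact spbcl1x61
  · exact spbcl1x62

/-- the stabiliser chain -/
def spbC : List PgLvlW := [spbL1, spbL2, spbL3, spbL4, spbL5, spbL6]

theorem spbchkC : pgChkW 64 (pgRigidAll 64).base spbC = true := by
  change pgChkW 64 (List.range 64) [spbL1, spbL2, spbL3, spbL4, spbL5, spbL6] = true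
  rw [pgChkW_cons, pgChkW_cons, pgChkW_cons, pgChkW_cons, pgChkW_cons, pgChkW_cons, spbchkL1, spbchkL2, spbchkL3, spbchkL4, spbchkL5, spbchkL6]
  rfl

end Cfsg.Agent.Lib.Helper5.Sp6M
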