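import Cfsg.Agent.Lib.Helper5.Sp6CovData
import Cfsg.Agent.Lib.helper23.PgX

set_option autoImplicit false
set_option maxRecDepth 1000000
set_option Elab.async false

/-! The double cover of the symplectic group of degree six over the field with two elements on 304 points: the checks of the stabiliser chain (generated). -/

namespace Cfsg.Agent.Lib.Helper5.Sp6Cov

open Cfsg.Agent.Lib.helper23 Subgroup MulAction

theorem spcchk0x7 : pgChkLvlW0 304 spcL7 [] = true := by decide +kernel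
theorem spcchk0x6 : pgChkLvlW0 304 spcL6 [spcL7] = true := by decide +kernel
theorem spcchk0x5 : pgChkLvlW0 304 spcL5 [spcL6, spcL7] = true := by decide +kernel
theorem spcchk0x4 : pgChkLvlW0 304 spcL4 [spcL5, spcL6, spcL7] = true := by decide +kernel
theorem spcchk0x3 : pgChkLvlW0 304 spcL3 [spcL4, spcL5, spcL6, spcL7] = true := by decide +kernel
theorem spcchk0x2 : pgChkLvlW0 304 spcL2 [spcL3, spcL4, spcL5, spcL6, spcL7] = true := by decide +kernel
theorem spcchk0x1 : pgChkLvlW0 304 spcL1 [spcL2, spcL3, spcL4, spcL5, spcL6, spcL7] = true := by decide +kernel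

theorem spccl7x0 : pgChkGenW 304 (List.range 304) spcL7 []
    (spcgen spcT7x0 spcI7x0) 0 304 = true := by
  decide +kernel
theorem spccl7x1 : pgChkGenW 304 (List.range 304) spcL7 []
    (spcgen spcT7x1 spcI7x1) 0 304 = true := by
  decide +kernel
theorem spccl6x0 : pgChkGenW 304 (List.range 304) spcL6 [spcL7]
    (spcgen spcT6x0 spcI6x0) 0 304 = true := by
  decide +kernel
theorem spccl6x1 : pgChkGenW 304 (List.range 304) spcL6 [spcL7]
    (spcgen spcT6x1 spcI6x1) 0 304 = true := by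
  decide +kernel
theorem spccl5x0 : pgChkGenW 304 (List.range 304) spcL5 [spcL6, spcL7]
    (spcgen spcT5x0 spcI5x0) 0 304 = true := by
  decide +kernel
theorem spccl5x1 : pgChkGenW 304 (List.range 304) spcL5 [spcL6, spcL7]
    (spcgen spcT5x1 spcI5x1) 0 304 = true := by
  decide +kernel
theorem spccl5x2 : pgChkGenW 304 (List.range 304) spcL5 [spcL6, spcL7]
    (spcgen spcT5x2 spcI5x2) 0 304 = true := by
  decide +kernel
theorem spccl4x0 : pgChkGenW 304 (List.range 304) spcL4 [spcL5, spcL6, spcL7]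
    (spcgen spcT4x0 spcI4x0) 0 304 = true := by
  decide +kernel
theorem spccl4x1 : pgChkGenW 304 (List.range 304) spcL4 [spcL5, spcL6, spcL7]
    (spcgen spcT4x1 spcI4x1) 0 304 = true := by
  decide +kernel
theorem spccl4x2 : pgChkGenW 304 (List.range 304) spcL4 [spcL5, spcL6, spcL7]
    (spcgen spcT4x2 spcI4x2) 0 304 = true := by
  decide +kernel
theorem spccl4x3 : pgChkGenW 304 (List.range 304) spcL4 [spcL5, spcL6, spcL7]
    (spcgen spcT4x3 spcI4x3) 0 304 = true := by
  decide +kernel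
theorem spccl4x4 : pgChkGenW 304 (List.range 304) spcL4 [spcL5, spcL6, spcL7]
    (spcgen spcT4x4 spcI4x4) 0 304 = true := by
  decide +kernel
theorem spccl4x5 : pgChkGenW 304 (List.range 304) spcL4 [spcL5, spcL6, spcL7]
    (spcgen spcT4x5 spcI4x5) 0 304 = true := by
  decide +kernel
theorem spccl3x0 : pgChkGenW 304 (List.range 304) spcL3 [spcL4, spcL5, spcL6, spcL7]
    (spcgen spcT3x0 spcI3x0) 0 304 = true := by
  decide +kernel
theorem spccl3x1 : pgChkGenW 304 (List.range 304) spcL3 [spcL4, spcL5, spcL6, spcL7]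
    (spcgen spcT3x1 spcI3x1) 0 304 = true := by
  decide +kernel
theorem spccl3x2 : pgChkGenW 304 (List.range 304) spcL3 [spcL4, spcL5, spcL6, spcL7]
    (spcgen spcT3x2 spcI3x2) 0 304 = true := by
  decide +kernel
theorem spccl2x0 : pgChkGenW 304 (List.range 304) spcL2 [spcL3, spcL4, spcL5, spcL6, spcL7]
    (spcgen spcT2x0 spcI2x0) 0 304 = true := by
  decide +kernel
theorem spccl2x1 : pgChkGenW 304 (List.range 304) spcL2 [spcL3, spcL4, spcL5, spcL6, spcL7]
    (spcgen spcT2x1 spcI2x1) 0 304 = true := by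
  decide +kernel
theorem spccl2x2 : pgChkGenW 304 (List.range 304) spcL2 [spcL3, spcL4, spcL5, spcL6, spcL7]
    (spcgen spcT2x2 spcI2x2) 0 304 = true := by
  decide +kernel
theorem spccl1x0 : pgChkGenW 304 (List.range 304) spcL1 [spcL2, spcL3, spcL4, spcL5, spcL6, spcL7]
    (spcgen spcT1x0 spcI1x0) 0 304 = true := by
  decide +kernel
theorem spccl1x1 : pgChkGenW 304 (List.range 304) spcL1 [spcL2, spcL3, spcL4, spcL5, spcL6, spcL7]
    (spcgen spcT1x1 spcI1x1) 0 304 = true := by
  decide +kernel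
theorem spccl1x2 : pgChkGenW 304 (List.range 304) spcL1 [spcL2, spcL3, spcL4, spcL5, spcL6, spcL7]
    (spcgen spcT1x2 spcI1x2) 0 304 = true := by
  decide +kernel
theorem spccl1x3 : pgChkGenW 304 (List.range 304) spcL1 [spcL2, spcL3, spcL4, spcL5, spcL6, spcL7]
    (spcgen spcT1x3 spcI1x3) 0 304 = true := by
  decide +kernel
theorem spccl1x4 : pgChkGenW 304 (List.range 304) spcL1 [spcL2, spcL3, spcL4, spcL5, spcL6, spcL7]
    (spcgen spcT1x4 spcI1x4) 0 304 = true := by
  decide +kernel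
theorem spccl1x5 : pgChkGenW 304 (List.range 304) spcL1 [spcL2, spcL3, spcL4, spcL5, spcL6, spcL7]
    (spcgen spcT1x5 spcI1x5) 0 304 = true := by
  decide +kernel
theorem spccl1x6 : pgChkGenW 304 (List.range 304) spcL1 [spcL2, spcL3, spcL4, spcL5, spcL6, spcL7]
    (spcgen spcT1x6 spcI1x6) 0 304 = true := by
  decide +kernel
theorem spccl1x7 : pgChkGenW 304 (List.range 304) spcL1 [spcL2, spcL3, spcL4, spcL5, spcL6, spcL7]
    (spcgen spcT1x7 spcI1x7) 0 304 = true := by
  decide +kernel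
theorem spccl1x8 : pgChkGenW 304 (List.range 304) spcL1 [spcL2, spcL3, spcL4, spcL5, spcL6, spcL7]
    (spcgen spcT1x8 spcI1x8) 0 304 = true := by
  decide +kernel
theorem spccl1x9 : pgChkGenW 304 (List.range 304) spcL1 [spcL2, spcL3, spcL4, spcL5, spcL6, spcL7]
    (spcgen spcT1x9 spcI1x9) 0 304 = true := by
  decide +kernel
theorem spccl1x10 : pgChkGenW 304 (List.range 304) spcL1 [spcL2, spcL3, spcL4, spcL5, spcL6, spcL7]
    (spcgen spcT1x10 spcI1x10) 0 304 = true := by
  decide +kernel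
theorem spccl1x11 : pgChkGenW 304 (List.range 304) spcL1 [spcL2, spcL3, spcL4, spcL5, spcL6, spcL7]
    (spcgen spcT1x11 spcI1x11) 0 304 = true := by
  decide +kernel
theorem spccl1x12 : pgChkGenW 304 (List.range 304) spcL1 [spcL2, spcL3, spcL4, spcL5, spcL6, spcL7]
    (spcgen spcT1x12 spcI1x12) 0 304 = true := by
  decide +kernel
theorem spccl1x13 : pgChkGenW 304 (List.range 304) spcL1 [spcL2, spcL3, spcL4, spcL5, spcL6, spcL7]
    (spcgen spcT1x13 spcI1x13) 0 304 = true := by
  decide +kernel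
theorem spccl1x14 : pgChkGenW 304 (List.range 304) spcL1 [spcL2, spcL3, spcL4, spcL5, spcL6, spcL7]
    (spcgen spcT1x14 spcI1x14) 0 304 = true := by
  decide +kernel
theorem spccl1x15 : pgChkGenW 304 (List.range 304) spcL1 [spcL2, spcL3, spcL4, spcL5, spcL6, spcL7]
    (spcgen spcT1x15 spcI1x15) 0 304 = true := by
  decide +kernel
theorem spccl1x16 : pgChkGenW 304 (List.range 304) spcL1 [spcL2, spcL3, spcL4, spcL5, spcL6, spcL7]
    (spcgen spcT1x16 spcI1x16) 0 304 = true := by
  decide +kernel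
theorem spccl1x17 : pgChkGenW 304 (List.range 304) spcL1 [spcL2, spcL3, spcL4, spcL5, spcL6, spcL7]
    (spcgen spcT1x17 spcI1x17) 0 304 = true := by
  decide +kernel
theorem spccl1x18 : pgChkGenW 304 (List.range 304) spcL1 [spcL2, spcL3, spcL4, spcL5, spcL6, spcL7]
    (spcgen spcT1x18 spcI1x18) 0 304 = true := by
  decide +kernel
theorem spccl1x19 : pgChkGenW 304 (List.range 304) spcL1 [spcL2, spcL3, spcL4, spcL5, spcL6, spcL7]
    (spcgen spcT1x19 spcI1x19) 0 304 = true := by
  decide +kernel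
theorem spccl1x20 : pgChkGenW 304 (List.range 304) spcL1 [spcL2, spcL3, spcL4, spcL5, spcL6, spcL7]
    (spcgen spcT1x20 spcI1x20) 0 304 = true := by
  decide +kernel
theorem spccl1x21 : pgChkGenW 304 (List.range 304) spcL1 [spcL2, spcL3, spcL4, spcL5, spcL6, spcL7]
    (spcgen spcT1x21 spcI1x21) 0 304 = true := by
  decide +kernel
theorem spccl1x22 : pgChkGenW 304 (List.range 304) spcL1 [spcL2, spcL3, spcL4, spcL5, spcL6, spcL7]
    (spcgen spcT1x22 spcI1x22) 0 304 = true := by
  decide +kernel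
theorem spccl1x23 : pgChkGenW 304 (List.range 304) spcL1 [spcL2, spcL3, spcL4, spcL5, spcL6, spcL7]
    (spcgen spcT1x23 spcI1x23) 0 304 = true := by
  decide +kernel
theorem spccl1x24 : pgChkGenW 304 (List.range 304) spcL1 [spcL2, spcL3, spcL4, spcL5, spcL6, spcL7]
    (spcgen spcT1x24 spcI1x24) 0 304 = true := by
  decide +kernel
theorem spccl1x25 : pgChkGenW 304 (List.range 304) spcL1 [spcL2, spcL3, spcL4, spcL5, spcL6, spcL7]
    (spcgen spcT1x25 spcI1x25) 0 304 = true := by
  decide +kernel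
theorem spccl1x26 : pgChkGenW 304 (List.range 304) spcL1 [spcL2, spcL3, spcL4, spcL5, spcL6, spcL7]
    (spcgen spcT1x26 spcI1x26) 0 304 = true := by
  decide +kernel
theorem spccl1x27 : pgChkGenW 304 (List.range 304) spcL1 [spcL2, spcL3, spcL4, spcL5, spcL6, spcL7]
    (spcgen spcT1x27 spcI1x27) 0 304 = true := by
  decide +kernel
theorem spccl1x28 : pgChkGenW 304 (List.range 304) spcL1 [spcL2, spcL3, spcL4, spcL5, spcL6, spcL7]
    (spcgen spcT1x28 spcI1x28) 0 304 = true := by
  decide +kernel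
theorem spccl1x29 : pgChkGenW 304 (List.range 304) spcL1 [spcL2, spcL3, spcL4, spcL5, spcL6, spcL7]
    (spcgen spcT1x29 spcI1x29) 0 304 = true := by
  decide +kernel
theorem spccl1x30 : pgChkGenW 304 (List.range 304) spcL1 [spcL2, spcL3, spcL4, spcL5, spcL6, spcL7]
    (spcgen spcT1x30 spcI1x30) 0 304 = true := by
  decide +kernel
theorem spccl1x31 : pgChkGenW 304 (List.range 304) spcL1 [spcL2, spcL3, spcL4, spcL5, spcL6, spcL7]
    (spcgen spcT1x31 spcI1x31) 0 304 = true := by
  decide +kernel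
theorem spccl1x32 : pgChkGenW 304 (List.range 304) spcL1 [spcL2, spcL3, spcL4, spcL5, spcL6, spcL7]
    (spcgen spcT1x32 spcI1x32) 0 304 = true := by
  decide +kernel
theorem spccl1x33 : pgChkGenW 304 (List.range 304) spcL1 [spcL2, spcL3, spcL4, spcL5, spcL6, spcL7]
    (spcgen spcT1x33 spcI1x33) 0 304 = true := by
  decide +kernel
theorem spccl1x34 : pgChkGenW 304 (List.range 304) spcL1 [spcL2, spcL3, spcL4, spcL5, spcL6, spcL7]
    (spcgen spcT1x34 spcI1x34) 0 304 = true := by
  decide +kernel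
theorem spccl1x35 : pgChkGenW 304 (List.range 304) spcL1 [spcL2, spcL3, spcL4, spcL5, spcL6, spcL7]
    (spcgen spcT1x35 spcI1x35) 0 304 = true := by
  decide +kernel
theorem spccl1x36 : pgChkGenW 304 (List.range 304) spcL1 [spcL2, spcL3, spcL4, spcL5, spcL6, spcL7]
    (spcgen spcT1x36 spcI1x36) 0 304 = true := by
  decide +kernel
theorem spccl1x37 : pgChkGenW 304 (List.range 304) spcL1 [spcL2, spcL3, spcL4, spcL5, spcL6, spcL7]
    (spcgen spcT1x37 spcI1x37) 0 304 = true := by
  decide +kernel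
theorem spccl1x38 : pgChkGenW 304 (List.range 304) spcL1 [spcL2, spcL3, spcL4, spcL5, spcL6, spcL7]
    (spcgen spcT1x38 spcI1x38) 0 304 = true := by
  decide +kernel
theorem spccl1x39 : pgChkGenW 304 (List.range 304) spcL1 [spcL2, spcL3, spcL4, spcL5, spcL6, spcL7]
    (spcgen spcT1x39 spcI1x39) 0 304 = true := by
  decide +kernel
theorem spccl1x40 : pgChkGenW 304 (List.range 304) spcL1 [spcL2, spcL3, spcL4, spcL5, spcL6, spcL7]
    (spcgen spcT1x40 spcI1x40) 0 304 = true := by
  decide +kernel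
theorem spccl1x41 : pgChkGenW 304 (List.range 304) spcL1 [spcL2, spcL3, spcL4, spcL5, spcL6, spcL7]
    (spcgen spcT1x41 spcI1x41) 0 304 = true := by
  decide +kernel
theorem spccl1x42 : pgChkGenW 304 (List.range 304) spcL1 [spcL2, spcL3, spcL4, spcL5, spcL6, spcL7]
    (spcgen spcT1x42 spcI1x42) 0 304 = true := by
  decide +kernel
theorem spccl1x43 : pgChkGenW 304 (List.range 304) spcL1 [spcL2, spcL3, spcL4, spcL5, spcL6, spcL7]
    (spcgen spcT1x43 spcI1x43) 0 304 = true := by
  decide +kernel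
theorem spccl1x44 : pgChkGenW 304 (List.range 304) spcL1 [spcL2, spcL3, spcL4, spcL5, spcL6, spcL7]
    (spcgen spcT1x44 spcI1x44) 0 304 = true := by
  decide +kernel
theorem spccl1x45 : pgChkGenW 304 (List.range 304) spcL1 [spcL2, spcL3, spcL4, spcL5, spcL6, spcL7]
    (spcgen spcT1x45 spcI1x45) 0 304 = true := by
  decide +kernel
theorem spccl1x46 : pgChkGenW 304 (List.range 304) spcL1 [spcL2, spcL3, spcL4, spcL5, spcL6, spcL7]
    (spcgen spcT1x46 spcI1x46) 0 304 = true := by
  decide +kernel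
theorem spccl1x47 : pgChkGenW 304 (List.range 304) spcL1 [spcL2, spcL3, spcL4, spcL5, spcL6, spcL7]
    (spcgen spcT1x47 spcI1x47) 0 304 = true := by
  decide +kernel
theorem spccl1x48 : pgChkGenW 304 (List.range 304) spcL1 [spcL2, spcL3, spcL4, spcL5, spcL6, spcL7]
    (spcgen spcT1x48 spcI1x48) 0 304 = true := by
  decide +kernel
theorem spccl1x49 : pgChkGenW 304 (List.range 304) spcL1 [spcL2, spcL3, spcL4, spcL5, spcL6, spcL7]
    (spcgen spcT1x49 spcI1x49) 0 304 = true := by
  decide +kernel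
theorem spccl1x50 : pgChkGenW 304 (List.range 304) spcL1 [spcL2, spcL3, spcL4, spcL5, spcL6, spcL7]
    (spcgen spcT1x50 spcI1x50) 0 304 = true := by
  decide +kernel
theorem spccl1x51 : pgChkGenW 304 (List.range 304) spcL1 [spcL2, spcL3, spcL4, spcL5, spcL6, spcL7]
    (spcgen spcT1x51 spcI1x51) 0 304 = true := by
  decide +kernel
theorem spccl1x52 : pgChkGenW 304 (List.range 304) spcL1 [spcL2, spcL3, spcL4, spcL5, spcL6, spcL7]
    (spcgen spcT1x52 spcI1x52) 0 304 = true := by
  decide +kernel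
theorem spccl1x53 : pgChkGenW 304 (List.range 304) spcL1 [spcL2, spcL3, spcL4, spcL5, spcL6, spcL7]
    (spcgen spcT1x53 spcI1x53) 0 304 = true := by
  decide +kernel
theorem spccl1x54 : pgChkGenW 304 (List.range 304) spcL1 [spcL2, spcL3, spcL4, spcL5, spcL6, spcL7]
    (spcgen spcT1x54 spcI1x54) 0 304 = true := by
  decide +kernel
theorem spccl1x55 : pgChkGenW 304 (List.range 304) spcL1 [spcL2, spcL3, spcL4, spcL5, spcL6, spcL7]
    (spcgen spcT1x55 spcI1x55) 0 304 = true := by
  decide +kernel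
theorem spccl1x56 : pgChkGenW 304 (List.range 304) spcL1 [spcL2, spcL3, spcL4, spcL5, spcL6, spcL7]
    (spcgen spcT1x56 spcI1x56) 0 304 = true := by
  decide +kernel
theorem spccl1x57 : pgChkGenW 304 (List.range 304) spcL1 [spcL2, spcL3, spcL4, spcL5, spcL6, spcL7]
    (spcgen spcT1x57 spcI1x57) 0 304 = true := by
  decide +kernel
theorem spccl1x58 : pgChkGenW 304 (List.range 304) spcL1 [spcL2, spcL3, spcL4, spcL5, spcL6, spcL7]
    (spcgen spcT1x58 spcI1x58) 0 304 = true := by
  decide +kernel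
theorem spccl1x59 : pgChkGenW 304 (List.range 304) spcL1 [spcL2, spcL3, spcL4, spcL5, spcL6, spcL7]
    (spcgen spcT1x59 spcI1x59) 0 304 = true := by
  decide +kernel
theorem spccl1x60 : pgChkGenW 304 (List.range 304) spcL1 [spcL2, spcL3, spcL4, spcL5, spcL6, spcL7]
    (spcgen spcT1x60 spcI1x60) 0 304 = true := by
  decide +kernel
theorem spccl1x61 : pgChkGenW 304 (List.range 304) spcL1 [spcL2, spcL3, spcL4, spcL5, spcL6, spcL7]
    (spcgen spcT1x61 spcI1x61) 0 304 = true := by
  decide +kernel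
theorem spccl1x62 : pgChkGenW 304 (List.range 304) spcL1 [spcL2, spcL3, spcL4, spcL5, spcL6, spcL7]
    (spcgen spcT1x62 spcI1x62) 0 304 = true := by
  decide +kernel

theorem spcchkL7 : pgChkLvlW 304 (List.range 304) spcL7 [] = true := by
  apply pgChkLvlW_ofAllX spcchk0x7
  intro s hs
  change s ∈ [spcgen spcT7x0 spcI7x0, spcgen spcT7x1 spcI7x1] at hs
  simp only [List.mem_cons, List.not_mem_nil, or_false] at hs
  rcases hs with rfl | rfl
  · exact spccl7x0
  · exact spccl7x1

theorem spcchkL6 : pgChkLvlW 304 (List.range 304) spcL6 [spcL7] = true := by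
  apply pgChkLvlW_ofAllX spcchk0x6
  intro s hs
  change s ∈ [spcgen spcT6x0 spcI6x0, spcgen spcT6x1 spcI6x1] at hs
  simp only [List.mem_cons, List.not_mem_nil, or_false] at hs
  rcases hs with rfl | rfl
  · exact spccl6x0
  · exact spccl6x1

theorem spcchkL5 : pgChkLvlW 304 (List.range 304) spcL5 [spcL6, spcL7] = true := by
  apply pgChkLvlW_ofAllX spcchk0x5
  intro s hs
  change s ∈ [spcgen spcT5x0 spcI5x0, spcgen spcT5x1 spcI5x1, spcgen spcT5x2 spcI5x2] at hs
  simp only [List.mem_cons, List.not_mem_nil, or_false] at hs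
  rcases hs with rfl | rfl | rfl
  · exact spccl5x0
  · exact spccl5x1
  · exact spccl5x2

theorem spcchkL4 : pgChkLvlW 304 (List.range 304) spcL4 [spcL5, spcL6, spcL7] = true := by
  apply pgChkLvlW_ofAllX spcchk0x4
  intro s hs
  change s ∈ [spcgen spcT4x0 spcI4x0, spcgen spcT4x1 spcI4x1, spcgen spcT4x2 spcI4x2, spcgen spcT4x3 spcI4x3, spcgen spcT4x4 spcI4x4, spcgen spcT4x5 spcI4x5] at hs
  simp only [List.mem_cons, List.not_mem_nil, or_false] at hs
  rcases hs with rfl | rfl | rfl | rfl | rfl | rfl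
  · exact spccl4x0
  · exact spccl4x1
  · exact spccl4x2
  · exact spccl4x3
  · exact spccl4x4
  · exact spccl4x5

theorem spcchkL3 : pgChkLvlW 304 (List.range 304) spcL3 [spcL4, spcL5, spcL6, spcL7] = true := by
  apply pgChkLvlW_ofAllX spcchk0x3
  intro s hs
  change s ∈ [spcgen spcT3x0 spcI3x0, spcgen spcT3x1 spcI3x1, spcgen spcT3x2 spcI3x2] at hs
  simp only [List.mem_cons, List.not_mem_nil, or_false] at hs
  rcases hs with rfl | rfl | rfl
  · exact spccl3x0
  · exact spccl3x1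
  · exact spccl3x2

theorem spcchkL2 : pgChkLvlW 304 (List.range 304) spcL2 [spcL3, spcL4, spcL5, spcL6, spcL7] = true := by
  apply pgChkLvlW_ofAllX spcchk0x2
  intro s hs
  change s ∈ [spcgen spcT2x0 spcI2x0, spcgen spcT2x1 spcI2x1, spcgen spcT2x2 spcI2x2] at hs
  simp only [List.mem_cons, List.not_mem_nil, or_false] at hs
  rcases hs with rfl | rfl | rfl
  · exact spccl2x0
  · exact spccl2x1
  · exact spccl2x2

theorem spcchkL1 : pgChkLvlW 304 (List.range 304) spcL1 [spcL2, spcL3, spcL4, spcL5, spcL6, spcL7] = true := by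
  apply pgChkLvlW_ofAllX spcchk0x1
  intro s hs
  change s ∈ [spcgen spcT1x0 spcI1x0, spcgen spcT1x1 spcI1x1, spcgen spcT1x2 spcI1x2, spcgen spcT1x3 spcI1x3, spcgen spcT1x4 spcI1x4, spcgen spcT1x5 spcI1x5, spcgen spcT1x6 spcI1x6, spcgen spcT1x7 spcI1x7, spcgen spcT1x8 spcI1x8, spcgen spcT1x9 spcI1x9, spcgen spcT1x10 spcI1x10, spcgen spcT1x11 spcI1x11, spcgen spcT1x12 spcI1x12, spcgen spcT1x13 spcI1x13, spcgen spcT1x14 spcI1x14, spcgen spcT1x15 spcI1x15, spcgen spcT1x16 spcI1x16, spcgen spcT1x17 spcI1x17, spcgen spcT1x18 spcI1x18, spcgen spcT1x19 spcI1x19, spcgen spcT1x20 spcI1x20, spcgen spcT1x21 spcI1x21, spcgen spcT1x22 spcI1x22, spcgen spcT1x23 spcI1x23, spcgen spcT1x24 spcI1x24, spcgen spcT1x25 spcI1x25, spcgen spcT1x26 spcI1x26, spcgen spcT1x27 spcI1x27, spcgen spcT1x28 spcI1x28, spcgen spcT1x29 spcI1x29, spcgen spcT1x30 spcI1x30, spcgen spcT1x31 spcI1x31, spcgen spcT1x32 spcI1x32, spcgen spcT1x33 spcI1x33, spcgen spcT1x34 spcI1x34, spcgen spcT1x35 spcI1x35,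 spcgen spcT1x36 spcI1x36, spcgen spcT1x37 spcI1x37, spcgen spcT1x38 spcI1x38, spcgen spcT1x39 spcI1x39, spcgen spcT1x40 spcI1x40, spcgen spcT1x41 spcI1x41, spcgen spcT1x42 spcI1x42, spcgen spcT1x43 spcI1x43, spcgen spcT1x44 spcI1x44, spcgen spcT1x45 spcI1x45, spcgen spcT1x46 spcI1x46, spcgen spcT1x47 spcI1x47, spcgen spcT1x48 spcI1x48, spcgen spcT1x49 spcI1x49, spcgen spcT1x50 spcI1x50, spcgen spcT1x51 spcI1x51, spcgen spcT1x52 spcI1x52, spcgen spcT1x53 spcI1x53, spcgen spcT1x54 spcI1x54, spcgen spcT1x55 spcI1x55, spcgen spcT1x56 spcI1x56, spcgen spcT1x57 spcI1x57, spcgen spcT1x58 spcI1x58, spcgen spcT1x59 spcI1x59, spcgen spcT1x60 spcI1x60, spcgen spcT1x61 spcI1x61, spcgen spcT1x62 spcI1x62] at hs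
  simp only [List.mem_cons, List.not_mem_nil, or_false] at hs
  rcases hs with rfl | rfl | rfl | rfl | rfl | rfl | rfl | rfl | rfl | rfl | rfl | rfl | rfl | rfl | rfl | rfl | rfl | rfl | rfl | rfl | rfl | rfl | rfl | rfl | rfl | rfl | rfl | rfl | rfl | rfl | rfl | rfl | rfl | rfl | rfl | rfl | rfl | rfl | rfl | rfl | rfl | rfl | rfl | rfl | rfl | rfl | rfl | rfl | rfl | rfl | rfl | rfl | rfl | rfl | rfl | rfl | rfl | rfl | rfl | rfl | rfl | rfl | rfl
  · exact spccl1x0
  · exact spccl1x1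
  · exact spccl1x2
  · exact spccl1x3
  · exact spccl1x4
  · exact spccl1x5
  · exact spccl1x6
  · exact spccl1x7
  · exact spccl1x8
  · exact spccl1x9
  · exact spccl1x10
  · exact spccl1x11
  · exact spccl1x12
  · exact spccl1x13
  · exact spccl1x14
  · exact spccl1x15
  · exact spccl1x16
  · exact spccl1x17
  · exact spccl1x18
  · exact spccl1x19
  · exact spccl1x20
  · exact spccl1x21
  · exact spccl1x22
  · exact spccl1x23
  · exact spccl1x24
  · exact spccl1x25
  · exact spccl1x26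
  · exact spccl1x27
  · exact spccl1x28
  · exact spccl1x29
  · exact spccl1x30
  · exact spccl1x31
  · exact spccl1x32
  · exact spccl1x33
  · exact spccl1x34
  · exact spccl1x35
  · exact spccl1x36
  · exact spccl1x37
  · exact spccl1x38
  · exact spccl1x39
  · exact spccl1x40
  · exact spccl1x41
  · exact spccl1x42
  · exact spccl1x43
  · exact spccl1x44
  · exact spccl1x45
  · exact spccl1x46
  · exact spccl1x47
  · exact spccl1x48
  · exact spccl1x49
  · exact spccl1x50
  · exact spccl1x51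
  · exact spccl1x52
  · exact spccl1x53
  · exact spccl1x54
  · exact spccl1x55
  · exact spccl1x56
  · exact spccl1x57
  · exact spccl1x58
  · exact spccl1x59
  · exact spccl1x60
  · exact spccl1x61
  · exact spccl1x62

/-- the stabiliser chain -/
def spcC : List PgLvlW := [spcL1, spcL2, spcL3, spcL4, spcL5, spcL6, spcL7]

theorem spcchkC : pgChkW 304 (pgRigidAll 304).base spcC = true := by
  change pgChkW 304 (List.range 304) [spcL1, spcL2, spcL3, spcL4, spcL5, spcL6, spcL7] = true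
  rw [pgChkW_cons, pgChkW_cons, pgChkW_cons, pgChkW_cons, pgChkW_cons, pgChkW_cons, pgChkW_cons, spcchkL1, spcchkL2, spcchkL3, spcchkL4, spcchkL5, spcchkL6, spcchkL7]
  rfl

end Cfsg.Agent.Lib.Helper5.Sp6Cov
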