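import Mathlib
import Cfsg.Agent.Lib.Helper5.CodedPerm
import Cfsg.Agent.Lib.Helper5.Sp6BaseChk

set_option autoImplicit false
set_option maxRecDepth 1000000

/-! The symplectic group of degree six over the field with two elements as a group of permutations
of `Fin 64` (the vectors, coded by their bits), generated by the 63 transvections. -/

namespace Cfsg.Agent.Lib.Helper5.Sp6M

open Cfsg Cfsg.Agent.Lib.helper23 Cfsg.Agent.Lib.Helper5.CP Subgroup

theorem spbA : pgGrpW 64 spbC ≤ (pgRigidAll 64).A := le_top

theorem spbok : ∀ P ∈ spbL1.own, P.ok 64 = true :=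
  pgChkW_own_ok 64 (pgRigidAll 64).base spbC spbchkC

theorem spbord : pgOrdW 64 spbC = 1451520 := by decide +kernel

/-- the symplectic group on 64 points -/
abbrev H64 : Subgroup (Equiv.Perm (Fin 64)) := closure (pgSet 64 spbL1.own)

/-- the symplectic group on 64 points, as a type -/
abbrev HG : Type := ↥H64

theorem H64_eq : H64 = pgGrpW 64 spbC := rfl

theorem card_HG : Nat.card HG = 1451520 := by
  show Nat.card H64 = 1451520
  rw [H64_eq, pgCardW (pgRigidAll 64) spbC spbchkC spbA, spbord]

instance : Finite HG := Nat.finite_of_card_ne_zero (by rw [card_HG]; norm_num)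

/-- a coded permutation represents an element -/
abbrev RepH (T : ℕ) (g : HG) : Prop := RepS spblk 64 H64 T g

/-- the generator of index `k` -/
noncomputable def tg (k : ℕ) : HG := ⟨(spbL1.own.getD k PFun.one).perm 64, pgGetD_mem k⟩

theorem rep_tg (k T I : ℕ) (h : spbL1.own.getD k PFun.one = spbgen T I) : RepH T (tg k) := by
  intro i
  show (((spbL1.own.getD k PFun.one).perm 64) i).1 = spblk T i.1
  rw [PFun.perm_apply (pgGetD_ok spbok k), h]
  rfl

end Cfsg.Agent.Lib.Helper5.Sp6M
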