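import Mathlib
import Cfsg.Agent.Lib.Helper5.Sp6CovChk
import Cfsg.Agent.Lib.Helper5.Sp6MA
import Cfsg.Prelude.Def_KGroupFacts

set_option autoImplicit false
set_option maxRecDepth 1000000

/-! The group on 304 points generated by lifts of the 63 transvections is a stem extension of the
symplectic group of degree six over the field with two elements with kernel of order two. -/

namespace Cfsg.Agent.Lib.Helper5.Sp6Cov

open Cfsg Cfsg.Agent.Lib.helper23 Cfsg.Agent.Lib.Helper5.Sp6M
open Subgroup
open scoped commutatorElement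

theorem spcA : pgGrpW 304 spcC ≤ (pgRigidAll 304).A := le_top

theorem spcok : ∀ P ∈ spcL1.own, P.ok 304 = true :=
  pgChkW_own_ok 304 (pgRigidAll 304).base spcC spcchkC

theorem spcord : pgOrdW 304 spcC = 2903040 := by decide +kernel

/-- the covering group on 304 points -/
abbrev Cov : Subgroup (Equiv.Perm (Fin 304)) := closure (pgSet 304 spcL1.own)

theorem Cov_eq : Cov = pgGrpW 304 spcC := rfl

theorem Cov_card : Nat.card Cov = 2903040 := by
  rw [Cov_eq, pgCardW (pgRigidAll 304) spcC spcchkC spcA, spcord]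

instance Cov_finite : Finite Cov := Nat.finite_of_card_ne_zero (by rw [Cov_card]; norm_num)

/-! ### the restriction to the first sixty-four points -/

/-- the permutations preserving the first sixty-four points -/
def Stab : Subgroup (Equiv.Perm (Fin 304)) where
  carrier := {g | ∀ i : Fin 304, (g i).1 < 64 ↔ i.1 < 64}
  one_mem' := fun _ => Iff.rfl
  mul_mem' := by
    intro a b ha hb i
    rw [Equiv.Perm.mul_apply]
    exact (ha (b i)).trans (hb i)
  inv_mem' := by
    intro a ha i
    have := ha (a⁻¹ i)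
    have e : a (a⁻¹ i) = i := by simp
    rw [e] at this
    exact this.symm

/-- the embedding of the first sixty-four points -/
def emb (i : Fin 64) : Fin 304 := ⟨i.1, by omega⟩

theorem emb_injective : Function.Injective emb := by
  intro i j h
  apply Fin.ext
  have h' : (emb i).1 = (emb j).1 := congrArg Fin.val h
  exact h'

/-- the restriction to the first sixty-four points, as a function -/
def resFun (g : Stab) (i : Fin 64) : Fin 64 := ⟨(g.1 (emb i)).1, (g.2 (emb i)).2 i.2⟩

theorem emb_resFun (g : Stab) (i : Fin 64) : emb (resFun g i) = g.1 (emb i) := Fin.ext rfl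

theorem resFun_mul (g h : Stab) (i : Fin 64) : resFun (g * h) i = resFun g (resFun h i) := by
  apply emb_injective
  rw [emb_resFun, emb_resFun, emb_resFun]
  rfl

theorem resFun_one (i : Fin 64) : resFun 1 i = i := by
  apply emb_injective
  rw [emb_resFun]
  rfl

/-- the restriction to the first sixty-four points -/
def res : Stab →* Equiv.Perm (Fin 64) where
  toFun g :=
    { toFun := resFun g
      invFun := resFun g⁻¹
      left_inv := fun i => by rw [← resFun_mul, inv_mul_cancel, resFun_one]
      right_inv := fun i => by rw [← resFun_mul, mul_inv_cancel, resFun_one] }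
  map_one' := by
    apply Equiv.ext
    intro i
    exact resFun_one i
  map_mul' := by
    intro g h
    apply Equiv.ext
    intro i
    exact resFun_mul g h i

theorem res_apply (g : Stab) (i : Fin 64) : ((res g) i).1 = (g.1 (emb i)).1 := rfl

/-! ### the generators -/

/-- the lift of the generator of index `k`, as a pair of lookups -/
def cG (k : ℕ) : PFun := spcL1.own.getD k PFun.one

/-- the generator of index `k`, as a pair of lookups -/
def bG (k : ℕ) : PFun := spbL1.own.getD k PFun.one

theorem cG_ok (k : ℕ) : (cG k).ok 304 = true := pgGetD_ok spcok k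

theorem bG_ok (k : ℕ) : (bG k).ok 64 = true := pgGetD_ok spbok k

theorem own_length : spcL1.own.length = 63 := rfl

theorem bown_length : spbL1.own.length = 63 := rfl

theorem mem_own {P : PFun} (hP : P ∈ spcL1.own) : ∃ k, k < 63 ∧ P = cG k := by
  obtain ⟨k, hk, rfl⟩ := List.mem_iff_getElem.mp hP
  refine ⟨k, by rw [← own_length]; exact hk, ?_⟩
  unfold cG
  rw [List.getD_eq_getElem _ _ hk]

theorem mem_bown {P : PFun} (hP : P ∈ spbL1.own) : ∃ k, k < 63 ∧ P = bG k := by
  obtain ⟨k, hk, rfl⟩ := List.mem_iff_getElem.mp hP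
  refine ⟨k, by rw [← bown_length]; exact hk, ?_⟩
  unfold bG
  rw [List.getD_eq_getElem _ _ hk]

theorem stab_chk : pgAll 63 (fun k => pgAll 304 (fun i =>
    pgEqB (Nat.blt ((cG k).f i) 64) (Nat.blt i 64))) = true := by decide +kernel

theorem res_chk : pgAll 63 (fun k => pgAll 64 (fun i =>
    Nat.beq ((cG k).f i) ((bG k).f i))) = true := by decide +kernel

theorem perm_mem_Stab {P : PFun} (hP : P.ok 304 = true)
    (h : pgAll 304 (fun i => pgEqB (Nat.blt (P.f i) 64) (Nat.blt i 64)) = true) :
    P.perm 304 ∈ Stab := by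
  intro i
  rw [PFun.perm_apply hP]
  have := (pgAll_iff _ _).1 h i.1 i.2
  rw [pgEqB_iff] at this
  constructor
  · intro h1
    have h2 : Nat.blt (P.f i.1) 64 = true := by simpa using h1
    rw [this] at h2
    simpa using h2
  · intro h1
    have h2 : Nat.blt i.1 64 = true := by simpa using h1
    rw [← this] at h2
    simpa using h2

theorem cG_stab (k : ℕ) (hk : k < 63) : (cG k).perm 304 ∈ Stab :=
  perm_mem_Stab (cG_ok k) ((pgAll_iff _ _).1 stab_chk k hk)

theorem Cov_le_Stab : Cov ≤ Stab := by
  rw [closure_le]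
  rintro _ ⟨P, hP, rfl⟩
  obtain ⟨k, hk, rfl⟩ := mem_own hP
  exact cG_stab k hk

theorem res_perm {P Q : PFun} (hP : P.ok 304 = true) (hs : P.perm 304 ∈ Stab)
    (hQ : Q.ok 64 = true) (h : pgAll 64 (fun i => Nat.beq (P.f i) (Q.f i)) = true) :
    res ⟨P.perm 304, hs⟩ = Q.perm 64 := by
  apply Equiv.ext
  intro i
  apply Fin.ext
  rw [res_apply, PFun.perm_apply hP, PFun.perm_apply hQ]
  have := (pgAll_iff _ _).1 h i.1 i.2
  rw [Nat.beq_eq] at this
  exact this

theorem res_cG (k : ℕ) (hk : k < 63) : res ⟨(cG k).perm 304, cG_stab k hk⟩ = (bG k).perm 64 :=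
  res_perm (cG_ok k) (cG_stab k hk) (bG_ok k) ((pgAll_iff _ _).1 res_chk k hk)

/-- the restriction on the covering group -/
def sig0 : Cov →* Equiv.Perm (Fin 64) := res.comp (Subgroup.inclusion Cov_le_Stab)

theorem sig0_mem (γ : Cov) : sig0 γ ∈ H64 := by
  have hle : Cov ≤ (H64.comap res).map Stab.subtype := by
    rw [closure_le]
    rintro _ ⟨P, hP, rfl⟩
    obtain ⟨k, hk, rfl⟩ := mem_own hP
    refine ⟨⟨(cG k).perm 304, cG_stab k hk⟩, ?_, rfl⟩
    show res _ ∈ H64
    rw [res_cG k hk]
    exact pgGetD_mem k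
  obtain ⟨s, hs, hsγ⟩ := hle γ.2
  have e : Subgroup.inclusion Cov_le_Stab γ = s := Subtype.ext hsγ.symm
  show res (Subgroup.inclusion Cov_le_Stab γ) ∈ H64
  rw [e]
  exact hs

/-- the covering map -/
def sig : Cov →* HG := sig0.codRestrict H64 sig0_mem

theorem sig_coe (γ : Cov) : ((sig γ : HG) : Equiv.Perm (Fin 64)) = sig0 γ := rfl

/-- the lift of the generator of index `k` -/
def xG (k : ℕ) : Cov := ⟨(cG k).perm 304, pgGetD_mem k⟩

theorem sig0_xG (k : ℕ) (hk : k < 63) : sig0 (xG k) = (bG k).perm 64 := res_cG k hk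

theorem sig_surj : Function.Surjective sig := by
  rintro ⟨y, hy⟩
  have key : ∀ y (hy : y ∈ H64), ∃ γ : Cov, sig0 γ = y := by
    intro y hy
    induction hy using Subgroup.closure_induction with
    | mem y hy =>
      obtain ⟨P, hP, rfl⟩ := hy
      obtain ⟨k, hk, rfl⟩ := mem_bown hP
      exact ⟨xG k, sig0_xG k hk⟩
    | one => exact ⟨1, map_one _⟩
    | mul a b ha hb iha ihb =>
      obtain ⟨γ, hγ⟩ := iha
      obtain ⟨δ, hδ⟩ := ihb
      exact ⟨γ * δ, by rw [map_mul, hγ, hδ]⟩
    | inv a ha iha =>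
      obtain ⟨γ, hγ⟩ := iha
      exact ⟨γ⁻¹, by rw [map_inv, hγ]⟩
  obtain ⟨γ, hγ⟩ := key y hy
  exact ⟨γ, Subtype.ext hγ⟩

theorem card_ker_sig : Nat.card sig.ker = 2 := by
  have h1 := Subgroup.card_eq_card_quotient_mul_card_subgroup sig.ker
  have e := QuotientGroup.quotientKerEquivOfSurjective sig sig_surj
  rw [Nat.card_congr e.toEquiv, Cov_card, card_HG] at h1
  omega

/-! ### the central involution -/

/-- the first word -/
def w1 : List ℕ := [0]

/-- the second word -/
def w2 : List ℕ := [1]

/-- the commutator word -/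
def wz : List ℕ := w1 ++ (w2 ++ (pgInvW 63 w1 ++ pgInvW 63 w2))

/-- the two elements and their commutator -/
def eX : Cov := ⟨pgWordPerm 304 spcL1.own w1, pgWordPerm_mem spcok w1⟩
def eY : Cov := ⟨pgWordPerm 304 spcL1.own w2, pgWordPerm_mem spcok w2⟩
def zeta : Cov := ⟨pgWordPerm 304 spcL1.own wz, pgWordPerm_mem spcok wz⟩

theorem w1_lt : ∀ j ∈ w1, j < 2 * spcL1.own.length := by decide
theorem w2_lt : ∀ j ∈ w2, j < 2 * spcL1.own.length := by decide

theorem zeta_eq : zeta = ⁅eX, eY⁆ := by
  apply Subtype.ext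
  show pgWordPerm 304 spcL1.own wz = _
  have hl : spcL1.own.length = 63 := rfl
  have e1 := pgInvW_perm spcok w1 w1_lt
  have e2 := pgInvW_perm spcok w2 w2_lt
  rw [hl] at e1 e2
  unfold wz
  rw [pgWordPerm_append, pgWordPerm_append, pgWordPerm_append, e1, e2,
    commutatorElement_def]
  show _ = pgWordPerm 304 spcL1.own w1 * pgWordPerm 304 spcL1.own w2 *
    (pgWordPerm 304 spcL1.own w1)⁻¹ * (pgWordPerm 304 spcL1.own w2)⁻¹
  group

theorem zeta_fix : pgAll 64 (fun i => Nat.beq (pgEvalW spcL1.own wz i) i) = true := by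
  decide +kernel

theorem zeta_move : Nat.beq (pgEvalW spcL1.own wz 64) 64 = false := by decide +kernel

theorem zeta_ker : zeta ∈ sig.ker := by
  rw [MonoidHom.mem_ker]
  apply Subtype.ext
  rw [sig_coe]
  apply Equiv.ext
  intro i
  apply Fin.ext
  show ((res (Subgroup.inclusion Cov_le_Stab zeta)) i).1 = i.1
  rw [res_apply]
  show ((pgWordPerm 304 spcL1.own wz) (emb i)).1 = i.1
  rw [pgWordPerm_apply spcok]
  have := (pgAll_iff _ _).1 zeta_fix i.1 i.2
  rw [Nat.beq_eq] at this
  exact this

theorem zeta_ne : zeta ≠ 1 := by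
  intro h
  have h1 : (zeta : Equiv.Perm (Fin 304)) = 1 := congrArg Subtype.val h
  have h2 : ((pgWordPerm 304 spcL1.own wz) ⟨64, by norm_num⟩).1 = 64 := by
    have : pgWordPerm 304 spcL1.own wz = 1 := h1
    rw [this]
    rfl
  rw [pgWordPerm_apply spcok] at h2
  have := zeta_move
  rw [← Bool.not_eq_true, Nat.beq_eq] at this
  exact this h2

theorem ker_cases (k : Cov) (hk : k ∈ sig.ker) : k = 1 ∨ k = zeta := by
  by_contra hne
  push Not at hne
  obtain ⟨y, hy1, hy2⟩ := (Nat.card_eq_two_iff' (1 : sig.ker)).mp card_ker_sig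
  have h1 : (⟨k, hk⟩ : sig.ker) = y := hy2 _ (fun h => hne.1 (congrArg Subtype.val h))
  have h2 : (⟨zeta, zeta_ker⟩ : sig.ker) = y :=
    hy2 _ (fun h => zeta_ne (congrArg Subtype.val h))
  exact hne.2 (congrArg Subtype.val (h1.trans h2.symm))

theorem sig_stem : Cfsg.IsStemExtension sig := by
  refine ⟨sig_surj, ?_, ?_⟩
  · intro k hk
    rw [Subgroup.mem_center_iff]
    intro g
    rcases ker_cases k hk with rfl | rfl
    · rw [mul_one, one_mul]
    · have hn : g * zeta * g⁻¹ ∈ sig.ker := (inferInstance : sig.ker.Normal).conj_mem _ zeta_ker g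
      rcases ker_cases _ hn with h | h
      · exfalso
        apply zeta_ne
        have : zeta = g⁻¹ * (g * zeta * g⁻¹) * g := by group
        rw [this, h]
        group
      · calc g * zeta = (g * zeta * g⁻¹) * g := by group
          _ = zeta * g := by rw [h]
  · intro k hk
    rcases ker_cases k hk with rfl | rfl
    · exact one_mem _
    · rw [zeta_eq, commutator_def]
      exact Subgroup.commutator_mem_commutator (Subgroup.mem_top _) (Subgroup.mem_top _)

/-- the symplectic group on 64 points has a finite stem extension with kernel of order two -/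
theorem exists_stem_two_HG : ∃ (Γ : Type) (_ : Group Γ) (_ : Finite Γ) (σ : Γ →* HG),
    Cfsg.IsStemExtension σ ∧ Nat.card σ.ker = 2 :=
  ⟨↥Cov, inferInstance, inferInstance, sig, sig_stem, card_ker_sig⟩

end Cfsg.Agent.Lib.Helper5.Sp6Cov
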