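import Mathlib
import Cfsg.Agent.Lib.helper6.Symp
import Cfsg.Agent.S0765
import Cfsg.Agent.Lib.Helper5.Sp6MA
import Cfsg.Prelude.Def_Classical

set_option autoImplicit false
set_option maxRecDepth 1000000

/-! The projective symplectic group of degree six over a field with two elements is isomorphic to the
group of permutations of 64 points generated by the 63 transvections. -/

namespace Cfsg.Agent.Lib.Helper5.Sp6M

open Cfsg Cfsg.Agent.Lib.helper23 Cfsg.Agent.Lib.helper6 Matrix Subgroup

/-- the vectors over the field with two elements -/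
abbrev V2 : Type := Fin 3 ⊕ Fin 3 → ZMod 2

/-- the symplectic group over the field with two elements -/
abbrev SpK : Type := Matrix.symplecticGroup (Fin 3) (ZMod 2)

/-- the position of a coordinate -/
def pos : Fin 3 ⊕ Fin 3 → ℕ
  | .inl i => i.1
  | .inr i => 3 + i.1

/-- the vector of a code -/
def decode (a : ℕ) : V2 := fun i => ((a / 2 ^ pos i % 2 : ℕ) : ZMod 2)

/-- the code of a vector -/
def code (v : V2) : ℕ :=
  (v (.inl 0)).val + 2 * (v (.inl 1)).val + 4 * (v (.inl 2)).val + 8 * (v (.inr 0)).val +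
    16 * (v (.inr 1)).val + 32 * (v (.inr 2)).val

theorem code_lt (v : V2) : code v < 64 := by
  have h0 := ZMod.val_lt (v (.inl 0))
  have h1 := ZMod.val_lt (v (.inl 1))
  have h2 := ZMod.val_lt (v (.inl 2))
  have h3 := ZMod.val_lt (v (.inr 0))
  have h4 := ZMod.val_lt (v (.inr 1))
  have h5 := ZMod.val_lt (v (.inr 2))
  unfold code
  omega

theorem code_decode_chk : pgAll 64 (fun a => Nat.beq (code (decode a)) a) = true := by
  decide +kernel

theorem code_decode (a : ℕ) (ha : a < 64) : code (decode a) = a := by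
  have := (pgAll_iff _ _).1 code_decode_chk a ha
  rwa [Nat.beq_eq] at this

theorem bits (x0 x1 x2 x3 x4 x5 : ℕ) (h0 : x0 < 2) (h1 : x1 < 2) (h2 : x2 < 2) (h3 : x3 < 2)
    (h4 : x4 < 2) (h5 : x5 < 2) :
    (x0 + 2 * x1 + 4 * x2 + 8 * x3 + 16 * x4 + 32 * x5) / 1 % 2 = x0 ∧
    (x0 + 2 * x1 + 4 * x2 + 8 * x3 + 16 * x4 + 32 * x5) / 2 % 2 = x1 ∧
    (x0 + 2 * x1 + 4 * x2 + 8 * x3 + 16 * x4 + 32 * x5) / 4 % 2 = x2 ∧
    (x0 + 2 * x1 + 4 * x2 + 8 * x3 + 16 * x4 + 32 * x5) / 8 % 2 = x3 ∧
    (x0 + 2 * x1 + 4 * x2 + 8 * x3 + 16 * x4 + 32 * x5) / 16 % 2 = x4 ∧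
    (x0 + 2 * x1 + 4 * x2 + 8 * x3 + 16 * x4 + 32 * x5) / 32 % 2 = x5 := by
  refine ⟨?_, ?_, ?_, ?_, ?_, ?_⟩ <;> omega

theorem decode_code (v : V2) : decode (code v) = v := by
  obtain ⟨b0, b1, b2, b3, b4, b5⟩ := bits _ _ _ _ _ _ (ZMod.val_lt (v (.inl 0)))
    (ZMod.val_lt (v (.inl 1))) (ZMod.val_lt (v (.inl 2))) (ZMod.val_lt (v (.inr 0)))
    (ZMod.val_lt (v (.inr 1))) (ZMod.val_lt (v (.inr 2)))
  funext i
  rcases i with i | i <;> fin_cases i
  · show ((code v / 2 ^ 0 % 2 : ℕ) : ZMod 2) = v (.inl 0)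
    rw [pow_zero]; unfold code; rw [b0, ZMod.natCast_zmod_val]
  · show ((code v / 2 ^ 1 % 2 : ℕ) : ZMod 2) = v (.inl 1)
    rw [pow_one]; unfold code; rw [b1, ZMod.natCast_zmod_val]
  · show ((code v / 2 ^ 2 % 2 : ℕ) : ZMod 2) = v (.inl 2)
    norm_num only; unfold code; rw [b2, ZMod.natCast_zmod_val]
  · show ((code v / 2 ^ 3 % 2 : ℕ) : ZMod 2) = v (.inr 0)
    norm_num only; unfold code; rw [b3, ZMod.natCast_zmod_val]
  · show ((code v / 2 ^ 4 % 2 : ℕ) : ZMod 2) = v (.inr 1)
    norm_num only; unfold code; rw [b4, ZMod.natCast_zmod_val]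
  · show ((code v / 2 ^ 5 % 2 : ℕ) : ZMod 2) = v (.inr 2)
    norm_num only; unfold code; rw [b5, ZMod.natCast_zmod_val]

/-- the coding of the vectors -/
def E : V2 ≃ Fin 64 where
  toFun v := ⟨code v, code_lt v⟩
  invFun a := decode a.1
  left_inv := decode_code
  right_inv a := Fin.ext (code_decode a.1 a.2)

/-! ### the action -/

/-- the action of a symplectic matrix on the vectors -/
def actPerm (A : SpK) : Equiv.Perm V2 where
  toFun v := A.1 *ᵥ v
  invFun v := (A⁻¹).1 *ᵥ v
  left_inv v := by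
    show (A⁻¹).1 *ᵥ (A.1 *ᵥ v) = v
    rw [Matrix.mulVec_mulVec]
    have : (A⁻¹).1 * A.1 = ((A⁻¹ * A : SpK) : Matrix _ _ _) := rfl
    rw [this, inv_mul_cancel]
    exact Matrix.one_mulVec v
  right_inv v := by
    show A.1 *ᵥ ((A⁻¹).1 *ᵥ v) = v
    rw [Matrix.mulVec_mulVec]
    have : A.1 * (A⁻¹).1 = ((A * A⁻¹ : SpK) : Matrix _ _ _) := rfl
    rw [this, mul_inv_cancel]
    exact Matrix.one_mulVec v

/-- the action as a homomorphism -/
def rho0 : SpK →* Equiv.Perm V2 where
  toFun := actPerm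
  map_one' := by
    apply Equiv.ext
    intro v
    exact Matrix.one_mulVec v
  map_mul' A B := by
    apply Equiv.ext
    intro v
    show (A * B).1 *ᵥ v = A.1 *ᵥ (B.1 *ᵥ v)
    rw [Matrix.mulVec_mulVec]
    rfl

/-- the action on the codes -/
def rho : SpK →* Equiv.Perm (Fin 64) := (E.permCongrHom).toMonoidHom.comp rho0

theorem rho_apply (A : SpK) (a : Fin 64) : ((rho A) a).1 = code (A.1 *ᵥ decode a.1) := rfl

/-- the symplectic form, explicitly -/
def form3 (x w : V2) : ZMod 2 :=
  x (.inl 0) * w (.inr 0) + x (.inl 1) * w (.inr 1) + x (.inl 2) * w (.inr 2) +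
    (x (.inr 0) * w (.inl 0) + x (.inr 1) * w (.inl 1) + x (.inr 2) * w (.inl 2))

theorem neg_eq_self_two (x : ZMod 2) : -x = x := by
  revert x; decide

theorem sympForm_eq (x w : V2) : Cfsg.sympForm 3 (ZMod 2) x w = form3 x w := by
  unfold Cfsg.sympForm Matrix.J form3
  simp only [dotProduct, Fintype.sum_sum_type, Matrix.mulVec, Matrix.fromBlocks_apply₁₁,
    Matrix.fromBlocks_apply₁₂, Matrix.fromBlocks_apply₂₁, Matrix.fromBlocks_apply₂₂,
    Matrix.zero_apply, zero_mul, Finset.sum_const_zero, zero_add, add_zero, Matrix.neg_apply,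
    Matrix.one_apply, neg_mul, Finset.sum_neg_distrib, ite_mul, one_mul,
    Finset.sum_ite_eq, Finset.mem_univ, if_true, mul_neg, Fin.sum_univ_three, neg_eq_self_two]
  simp

/-- the transvection, on vectors -/
def tauV (w x : V2) : V2 := x + (form3 x w) • w

/-- the generator of index `k`, as a pair of lookups -/
def bG (k : ℕ) : PFun := spbL1.own.getD k PFun.one

theorem bG_ok (k : ℕ) : (bG k).ok 64 = true := pgGetD_ok spbok k

theorem tau_chk : pgAll 63 (fun k => pgAll 64 (fun a =>
    Nat.beq (code (tauV (decode (k + 1)) (decode a))) ((bG k).f a))) = true := by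
  decide +kernel

theorem code_zero : code (0 : V2) = 0 := by decide

theorem code_ne_zero {w : V2} (hw : w ≠ 0) : code w ≠ 0 := by
  intro h
  apply hw
  rw [← decode_code w, h]
  funext i
  show ((0 / 2 ^ pos i % 2 : ℕ) : ZMod 2) = 0
  simp

theorem one_mul_two (x : ZMod 2) : 1 * x = x := one_mul x

theorem rho_transvection (A : SpK) (w : V2) (hA : A.1 = Cfsg.sympTransvection 3 w 1)
    (hw : w ≠ 0) : rho A = (bG (code w - 1)).perm 64 := by
  have h0 := code_ne_zero hw
  have hlt := code_lt w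
  have hk : code w - 1 < 63 := by omega
  have hk1 : code w - 1 + 1 = code w := by omega
  apply Equiv.ext
  intro a
  apply Fin.ext
  rw [rho_apply, PFun.perm_apply (bG_ok _), hA, sympTransvection_mulVec, sympForm_eq, one_mul]
  have := (pgAll_iff _ _).1 ((pgAll_iff _ _).1 tau_chk (code w - 1) hk) a.1 a.2
  rw [Nat.beq_eq, hk1, decode_code] at this
  exact this

theorem transvection_zero_coeff (w : V2) : Cfsg.sympTransvection 3 w (0 : ZMod 2) = 1 := by
  unfold Cfsg.sympTransvection
  rw [zero_smul, add_zero]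

theorem transvection_zero_vec (c : ZMod 2) : Cfsg.sympTransvection 3 (0 : V2) c = 1 := by
  unfold Cfsg.sympTransvection
  rw [Matrix.zero_vecMulVec, smul_zero, add_zero]

theorem two_cases (c : ZMod 2) : c = 0 ∨ c = 1 := by
  revert c; decide

theorem rho_mem (A : SpK) : rho A ∈ H64 := by
  have htop : A ∈ (⊤ : Subgroup SpK) := Subgroup.mem_top A
  rw [← Cfsg.Agent.S0765.result (F := ZMod 2) 3] at htop
  induction htop using Subgroup.closure_induction with
  | mem B hB =>
    obtain ⟨w, c, hB⟩ := hB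
    rcases two_cases c with rfl | rfl
    · have : B = 1 := Subtype.ext (by rw [hB, transvection_zero_coeff]; rfl)
      rw [this, map_one]
      exact one_mem _
    · by_cases hw : w = 0
      · have : B = 1 := Subtype.ext (by rw [hB, hw, transvection_zero_vec]; rfl)
        rw [this, map_one]
        exact one_mem _
      · rw [rho_transvection B w hB hw]
        exact pgGetD_mem _
  | one => rw [map_one]; exact one_mem _
  | mul x y _ _ hx hy => rw [map_mul]; exact mul_mem hx hy
  | inv x _ hx => rw [map_inv]; exact inv_mem hx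

/-- the action, into the group on 64 points -/
def rhoH : SpK →* HG := rho.codRestrict H64 rho_mem

theorem rhoH_coe (A : SpK) : ((rhoH A : HG) : Equiv.Perm (Fin 64)) = rho A := rfl

theorem decode_ne_zero (k : ℕ) (hk : k < 63) : decode (k + 1) ≠ 0 := by
  intro h
  have := code_decode (k + 1) (by omega)
  rw [h, code_zero] at this
  omega

theorem rhoH_surj : Function.Surjective rhoH := by
  rintro ⟨y, hy⟩
  have key : ∀ y (hy : y ∈ H64), ∃ A : SpK, rho A = y := by
    intro y hy
    induction hy using Subgroup.closure_induction with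
    | mem y hy =>
      obtain ⟨P, hP, rfl⟩ := hy
      obtain ⟨k, hk, rfl⟩ := List.mem_iff_getElem.mp hP
      have hk' : k < 63 := hk
      refine ⟨⟨Cfsg.sympTransvection 3 (decode (k + 1)) 1, sympTransvection_mem 3 _ _⟩, ?_⟩
      rw [rho_transvection _ (decode (k + 1)) rfl (decode_ne_zero k hk'),
        code_decode (k + 1) (by omega)]
      show (bG k).perm 64 = _
      unfold bG
      rw [List.getD_eq_getElem _ _ hk]
    | one => exact ⟨1, map_one _⟩
    | mul a b ha hb iha ihb =>
      obtain ⟨γ, hγ⟩ := iha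
      obtain ⟨δ, hδ⟩ := ihb
      exact ⟨γ * δ, by rw [map_mul, hγ, hδ]⟩
    | inv a ha iha =>
      obtain ⟨γ, hγ⟩ := iha
      exact ⟨γ⁻¹, by rw [map_inv, hγ]⟩
  obtain ⟨A, hA⟩ := key y hy
  exact ⟨A, Subtype.ext hA⟩

theorem rhoH_inj : Function.Injective rhoH := by
  rw [injective_iff_map_eq_one]
  intro A hA
  have h1 : rho A = 1 := by
    rw [← rhoH_coe, hA]; rfl
  have h2 : ∀ v : V2, A.1 *ᵥ v = v := by
    intro v
    have := congrArg (fun p : Equiv.Perm (Fin 64) => (p (E v)).1) h1
    simp only [Equiv.Perm.one_apply] at this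
    rw [rho_apply] at this
    have e : decode (E v).1 = v := decode_code v
    rw [e] at this
    have e2 : (E v).1 = code v := rfl
    rw [e2] at this
    rw [← decode_code (A.1 *ᵥ v), this, decode_code]
  apply Subtype.ext
  apply Matrix.mulVec_injective
  funext v
  rw [h2 v]
  exact (Matrix.one_mulVec v).symm

/-- the symplectic group over the field with two elements is the group on 64 points -/
noncomputable def isoK : SpK ≃* HG := MulEquiv.ofBijective rhoH ⟨rhoH_inj, rhoH_surj⟩

/-! ### the centre -/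

theorem center_chk : pgAll 64 (fun p => pgAll 64 (fun q =>
    cond (pgAll 63 (fun k => pgEqB (Nat.beq ((bG k).f p) p) (Nat.beq ((bG k).f q) q)))
      (Nat.beq p q) true)) = true := by
  decide +kernel

theorem tg_apply (k : ℕ) (x : Fin 64) : (((tg k : HG) : Equiv.Perm (Fin 64)) x).1 = (bG k).f x.1 :=
  PFun.perm_apply (bG_ok k) x

theorem center_HG : Subgroup.center HG = ⊥ := by
  rw [eq_bot_iff]
  intro z hz
  rw [Subgroup.mem_bot]
  apply Subtype.ext
  apply Equiv.ext
  intro p
  show z.1 p = p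
  have hcomm : ∀ k : ℕ, ∀ x : Fin 64, (tg k).1 (z.1 x) = z.1 ((tg k).1 x) := by
    intro k x
    have h := Subgroup.mem_center_iff.mp hz (tg k)
    have h' := congrArg (fun g : HG => g.1 x) h
    exact h'
  have hpat : pgAll 63 (fun k => pgEqB (Nat.beq ((bG k).f p.1) p.1)
      (Nat.beq ((bG k).f (z.1 p).1) (z.1 p).1)) = true := by
    rw [pgAll_iff]
    intro k _
    rw [pgEqB_iff, Bool.eq_iff_iff, Nat.beq_eq, Nat.beq_eq, ← tg_apply, ← tg_apply]
    constructor
    · intro h
      have h1 : (tg k).1 p = p := Fin.ext h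
      rw [hcomm k p, h1]
    · intro h
      have h1 : (tg k).1 (z.1 p) = z.1 p := Fin.ext h
      rw [hcomm k p] at h1
      have h2 := z.1.injective h1
      rw [h2]
  have hc := (pgAll_iff _ _).1 ((pgAll_iff _ _).1 center_chk p.1 p.2) (z.1 p).1 (z.1 p).2
  rw [hpat] at hc
  have hc' : Nat.beq p.1 (z.1 p).1 = true := hc
  rw [Nat.beq_eq] at hc'
  exact (Fin.ext hc').symm

/-! ### change of field -/

section field

variable {R S : Type*} [CommRing R] [CommRing S]

/-- a ring isomorphism maps symplectic matrices to symplectic matrices -/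
theorem map_mem_symplectic (φ : R ≃+* S) (A : Matrix (Fin 3 ⊕ Fin 3) (Fin 3 ⊕ Fin 3) R)
    (hA : A ∈ Matrix.symplecticGroup (Fin 3) R) :
    A.map φ ∈ Matrix.symplecticGroup (Fin 3) S := by
  rw [SymplecticGroup.mem_iff] at hA ⊢
  have h := congrArg (fun M : Matrix (Fin 3 ⊕ Fin 3) (Fin 3 ⊕ Fin 3) R => M.map φ) hA
  simp only [Matrix.map_mul, Matrix.map_J, Matrix.transpose_map] at h
  exact h

/-- the symplectic groups over isomorphic rings are isomorphic -/
def mapSp (φ : R ≃+* S) :
    Matrix.symplecticGroup (Fin 3) R ≃* Matrix.symplecticGroup (Fin 3) S where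
  toFun A := ⟨A.1.map φ, map_mem_symplectic φ A.1 A.2⟩
  invFun A := ⟨A.1.map φ.symm, map_mem_symplectic φ.symm A.1 A.2⟩
  left_inv A := by
    apply Subtype.ext
    show (A.1.map φ).map φ.symm = A.1
    rw [Matrix.map_map]
    ext i j
    simp
  right_inv A := by
    apply Subtype.ext
    show (A.1.map φ.symm).map φ = A.1
    rw [Matrix.map_map]
    ext i j
    simp
  map_mul' A B := by
    apply Subtype.ext
    show (A.1 * B.1).map φ = A.1.map φ * B.1.map φ
    exact Matrix.map_mul

end field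

universe u

/-- the projective symplectic group of degree six over a field with two elements is the group on 64
points -/
theorem exists_iso {F : Type u} [Field F] [Fintype F] (hF : Fintype.card F = 2) :
    Nonempty (Cfsg.PSp 3 F ≃* HG) := by
  have φ : ZMod 2 ≃+* F := ZMod.ringEquivOfPrime F Nat.prime_two hF
  let ι : Matrix.symplecticGroup (Fin 3) F ≃* HG := (mapSp φ.symm).trans isoK
  have hbot : Subgroup.center (Matrix.symplecticGroup (Fin 3) F) = ⊥ := by
    rw [eq_bot_iff]
    intro z hz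
    rw [Subgroup.mem_bot]
    have h1 : ι z ∈ Subgroup.center HG := by
      rw [Subgroup.mem_center_iff]
      intro h
      obtain ⟨g, rfl⟩ := ι.surjective h
      rw [← map_mul, ← map_mul, Subgroup.mem_center_iff.mp hz g]
    rw [center_HG, Subgroup.mem_bot] at h1
    exact (MulEquiv.map_eq_one_iff ι).mp h1
  exact ⟨(QuotientGroup.quotientMulEquivOfEq hbot).trans (QuotientGroup.quotientBot.trans ι)⟩

end Cfsg.Agent.Lib.Helper5.Sp6M
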