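import Mathlib
import Cfsg.Agent.Lib.Helper5.Sp6MA
import Cfsg.Agent.Lib.Helper5.Sp6MData

set_option autoImplicit false

/-! Elements of the symplectic group of degree six over the field with two elements given by words, with their coded permutations
(generated). -/

namespace Cfsg.Agent.Lib.Helper5.Sp6M

open Cfsg.Agent.Lib.helper23 Cfsg.Agent.Lib.Helper5.CP

/-- a generator -/
noncomputable def tA : HG := tg 27

theorem rep_tA : RepH spbT1x27 tA := rep_tg 27 spbT1x27 spbI1x27 rfl

/-- a generator -/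
noncomputable def tB : HG := tg 25

theorem rep_tB : RepH spbT1x25 tB := rep_tg 25 spbT1x25 spbI1x25 rfl

/-- a generator -/
noncomputable def tC : HG := tg 21

theorem rep_tC : RepH spbT1x21 tC := rep_tg 21 spbT1x21 spbI1x21 rfl

/-- a generator -/
noncomputable def tD : HG := tg 55

theorem rep_tD : RepH spbT1x55 tD := rep_tg 55 spbT1x55 spbI1x55 rfl

/-- a generator -/
noncomputable def tE : HG := tg 39

theorem rep_tE : RepH spbT1x39 tE := rep_tg 39 spbT1x39 spbI1x39 rfl

/-- a generator -/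
noncomputable def tF : HG := tg 37

theorem rep_tF : RepH spbT1x37 tF := rep_tg 37 spbT1x37 spbI1x37 rfl

/-- a generator -/
noncomputable def tG : HG := tg 46

theorem rep_tG : RepH spbT1x46 tG := rep_tg 46 spbT1x46 spbI1x46 rfl

/-- an element given by a word -/
noncomputable def l7 : HG := [tD, tE, tE, tG, tG, tG, tA, tC, tA, tD].prod

theorem rep_l7 : RepH Ul7 l7 :=
  rep_word Ul7 [spbT1x55, spbT1x39, spbT1x39, spbT1x46, spbT1x46, spbT1x46, spbT1x27, spbT1x21, spbT1x27, spbT1x55] [tD, tE, tE, tG, tG, tG, tA, tC, tA, tD]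
    (List.Forall₂.cons rep_tD (List.Forall₂.cons rep_tE (List.Forall₂.cons rep_tE (List.Forall₂.cons rep_tG (List.Forall₂.cons rep_tG (List.Forall₂.cons rep_tG (List.Forall₂.cons rep_tA (List.Forall₂.cons rep_tC (List.Forall₂.cons rep_tA (List.Forall₂.cons rep_tD List.Forall₂.nil))))))))))
    (by decide +kernel)

/-- an element given by a word -/
noncomputable def l8 : HG := [tD, tA, tC, tA, tG, tG, tG, tE, tE, tD].prod

theorem rep_l8 : RepH Ul8 l8 :=
  rep_word Ul8 [spbT1x55, spbT1x27, spbT1x21, spbT1x27, spbT1x46, spbT1x46, spbT1x46, spbT1x39, spbT1x39, spbT1x55] [tD, tA, tC, tA, tG, tG, tG, tE, tE, tD]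
    (List.Forall₂.cons rep_tD (List.Forall₂.cons rep_tA (List.Forall₂.cons rep_tC (List.Forall₂.cons rep_tA (List.Forall₂.cons rep_tG (List.Forall₂.cons rep_tG (List.Forall₂.cons rep_tG (List.Forall₂.cons rep_tE (List.Forall₂.cons rep_tE (List.Forall₂.cons rep_tD List.Forall₂.nil))))))))))
    (by decide +kernel)

/-- an element given by a word -/
noncomputable def l9 : HG := [tB, tE, tA, l8, tD, tF, tD, tG, tB, tA, tD, tA, tG, tD, tD, tE, tG].prod

theorem rep_l9 : RepH Ul9 l9 :=
  rep_word Ul9 [spbT1x25, spbT1x39, spbT1x27, Ul8, spbT1x55, spbT1x37, spbT1x55, spbT1x46, spbT1x25, spbT1x27, spbT1x55, spbT1x27, spbT1x46, spbT1x55, spbT1x55, spbT1x39, spbT1x46] [tB, tE, tA, l8, tD, tF, tD, tG, tB, tA, tD, tA, tG, tD, tD, tE, tG]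
    (List.Forall₂.cons rep_tB (List.Forall₂.cons rep_tE (List.Forall₂.cons rep_tA (List.Forall₂.cons rep_l8 (List.Forall₂.cons rep_tD (List.Forall₂.cons rep_tF (List.Forall₂.cons rep_tD (List.Forall₂.cons rep_tG (List.Forall₂.cons rep_tB (List.Forall₂.cons rep_tA (List.Forall₂.cons rep_tD (List.Forall₂.cons rep_tA (List.Forall₂.cons rep_tG (List.Forall₂.cons rep_tD (List.Forall₂.cons rep_tD (List.Forall₂.cons rep_tE (List.Forall₂.cons rep_tG List.Forall₂.nil)))))))))))))))))
    (by decide +kernel)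

/-- an element given by a word -/
noncomputable def l10 : HG := [tG, tE, tD, tD, tG, tA, tD, tA, tB, tG, tD, tF, tD, l7, tA, tE, tB].prod

theorem rep_l10 : RepH Ul10 l10 :=
  rep_word Ul10 [spbT1x46, spbT1x39, spbT1x55, spbT1x55, spbT1x46, spbT1x27, spbT1x55, spbT1x27, spbT1x25, spbT1x46, spbT1x55, spbT1x37, spbT1x55, Ul7, spbT1x27, spbT1x39, spbT1x25] [tG, tE, tD, tD, tG, tA, tD, tA, tB, tG, tD, tF, tD, l7, tA, tE, tB]
    (List.Forall₂.cons rep_tG (List.Forall₂.cons rep_tE (List.Forall₂.cons rep_tD (List.Forall₂.cons rep_tD (List.Forall₂.cons rep_tG (List.Forall₂.cons rep_tA (List.Forall₂.cons rep_tD (List.Forall₂.cons rep_tA (List.Forall₂.cons rep_tB (List.Forall₂.cons rep_tG (List.Forall₂.cons rep_tD (List.Forall₂.cons rep_tF (List.Forall₂.cons rep_tD (List.Forall₂.cons rep_l7 (List.Forall₂.cons rep_tA (List.Forall₂.cons rep_tE (List.Forall₂.cons rep_tB List.Forall₂.nil)))))))))))))))))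
    (by decide +kernel)

/-- an element given by a word -/
noncomputable def l11 : HG := [tB, l8, tF, tD, tC, tF, tG, tB].prod

theorem rep_l11 : RepH Ul11 l11 :=
  rep_word Ul11 [spbT1x25, Ul8, spbT1x37, spbT1x55, spbT1x21, spbT1x37, spbT1x46, spbT1x25] [tB, l8, tF, tD, tC, tF, tG, tB]
    (List.Forall₂.cons rep_tB (List.Forall₂.cons rep_l8 (List.Forall₂.cons rep_tF (List.Forall₂.cons rep_tD (List.Forall₂.cons rep_tC (List.Forall₂.cons rep_tF (List.Forall₂.cons rep_tG (List.Forall₂.cons rep_tB List.Forall₂.nil))))))))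
    (by decide +kernel)

/-- an element given by a word -/
noncomputable def l12 : HG := [tB, tG, tF, tC, tD, tF, l7, tB].prod

theorem rep_l12 : RepH Ul12 l12 :=
  rep_word Ul12 [spbT1x25, spbT1x46, spbT1x37, spbT1x21, spbT1x55, spbT1x37, Ul7, spbT1x25] [tB, tG, tF, tC, tD, tF, l7, tB]
    (List.Forall₂.cons rep_tB (List.Forall₂.cons rep_tG (List.Forall₂.cons rep_tF (List.Forall₂.cons rep_tC (List.Forall₂.cons rep_tD (List.Forall₂.cons rep_tF (List.Forall₂.cons rep_l7 (List.Forall₂.cons rep_tB List.Forall₂.nil))))))))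
    (by decide +kernel)

/-- an element given by a word -/
noncomputable def l13 : HG := [l9, tC, tA, tA, tA, tF, tE, tA].prod

theorem rep_l13 : RepH Ul13 l13 :=
  rep_word Ul13 [Ul9, spbT1x21, spbT1x27, spbT1x27, spbT1x27, spbT1x37, spbT1x39, spbT1x27] [l9, tC, tA, tA, tA, tF, tE, tA]
    (List.Forall₂.cons rep_l9 (List.Forall₂.cons rep_tC (List.Forall₂.cons rep_tA (List.Forall₂.cons rep_tA (List.Forall₂.cons rep_tA (List.Forall₂.cons rep_tF (List.Forall₂.cons rep_tE (List.Forall₂.cons rep_tA List.Forall₂.nil))))))))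
    (by decide +kernel)

/-- an element given by a word -/
noncomputable def l14 : HG := [tA, tE, tF, tA, tA, tA, tC, l10].prod

theorem rep_l14 : RepH Ul14 l14 :=
  rep_word Ul14 [spbT1x27, spbT1x39, spbT1x37, spbT1x27, spbT1x27, spbT1x27, spbT1x21, Ul10] [tA, tE, tF, tA, tA, tA, tC, l10]
    (List.Forall₂.cons rep_tA (List.Forall₂.cons rep_tE (List.Forall₂.cons rep_tF (List.Forall₂.cons rep_tA (List.Forall₂.cons rep_tA (List.Forall₂.cons rep_tA (List.Forall₂.cons rep_tC (List.Forall₂.cons rep_l10 List.Forall₂.nil))))))))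
    (by decide +kernel)

/-- an element given by a word -/
noncomputable def l15 : HG := [l7, l12, tB, tF, tG, tF, tB, tD, tF, tA, tE, tB, tG, tD, tD, tE, tB].prod

theorem rep_l15 : RepH Ul15 l15 :=
  rep_word Ul15 [Ul7, Ul12, spbT1x25, spbT1x37, spbT1x46, spbT1x37, spbT1x25, spbT1x55, spbT1x37, spbT1x27, spbT1x39, spbT1x25, spbT1x46, spbT1x55, spbT1x55, spbT1x39, spbT1x25] [l7, l12, tB, tF, tG, tF, tB, tD, tF, tA, tE, tB, tG, tD, tD, tE, tB]
    (List.Forall₂.cons rep_l7 (List.Forall₂.cons rep_l12 (List.Forall₂.cons rep_tB (List.Forall₂.cons rep_tF (List.Forall₂.cons rep_tG (List.Forall₂.cons rep_tF (List.Forall₂.cons rep_tB (List.Forall₂.cons rep_tD (List.Forall₂.cons rep_tF (List.Forall₂.cons rep_tA (List.Forall₂.cons rep_tE (List.Forall₂.cons rep_tB (List.Forall₂.cons rep_tG (List.Forall₂.cons rep_tD (List.Forall₂.cons rep_tD (List.Forall₂.cons rep_tE (List.Forall₂.cons rep_tB List.Forall₂.nil)))))))))))))))))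
    (by decide +kernel)

/-- an element given by a word -/
noncomputable def l16 : HG := [tB, tE, tD, tD, tG, tB, tE, tA, tF, tD, tB, tF, tG, tF, tB, l11, l8].prod

theorem rep_l16 : RepH Ul16 l16 :=
  rep_word Ul16 [spbT1x25, spbT1x39, spbT1x55, spbT1x55, spbT1x46, spbT1x25, spbT1x39, spbT1x27, spbT1x37, spbT1x55, spbT1x25, spbT1x37, spbT1x46, spbT1x37, spbT1x25, Ul11, Ul8] [tB, tE, tD, tD, tG, tB, tE, tA, tF, tD, tB, tF, tG, tF, tB, l11, l8]
    (List.Forall₂.cons rep_tB (List.Forall₂.cons rep_tE (List.Forall₂.cons rep_tD (List.Forall₂.cons rep_tD (List.Forall₂.cons rep_tG (List.Forall₂.cons rep_tB (List.Forall₂.cons rep_tE (List.Forall₂.cons rep_tA (List.Forall₂.cons rep_tF (List.Forall₂.cons rep_tD (List.Forall₂.cons rep_tB (List.Forall₂.cons rep_tF (List.Forall₂.cons rep_tG (List.Forall₂.cons rep_tF (List.Forall₂.cons rep_tB (List.Forall₂.cons rep_l11 (List.Forall₂.cons rep_l8 List.Forall₂.nil)))))))))))))))))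
    (by decide +kernel)

/-- an element given by a word -/
noncomputable def l17 : HG := [l16, l13, l16, l8, l9, tE, l12, tB, tF, tB, tG, tD, tC, tA, tD, tG, tE, tF].prod

theorem rep_l17 : RepH Ul17 l17 :=
  rep_word Ul17 [Ul16, Ul13, Ul16, Ul8, Ul9, spbT1x39, Ul12, spbT1x25, spbT1x37, spbT1x25, spbT1x46, spbT1x55, spbT1x21, spbT1x27, spbT1x55, spbT1x46, spbT1x39, spbT1x37] [l16, l13, l16, l8, l9, tE, l12, tB, tF, tB, tG, tD, tC, tA, tD, tG, tE, tF]
    (List.Forall₂.cons rep_l16 (List.Forall₂.cons rep_l13 (List.Forall₂.cons rep_l16 (List.Forall₂.cons rep_l8 (List.Forall₂.cons rep_l9 (List.Forall₂.cons rep_tE (List.Forall₂.cons rep_l12 (List.Forall₂.cons rep_tB (List.Forall₂.cons rep_tF (List.Forall₂.cons rep_tB (List.Forall₂.cons rep_tG (List.Forall₂.cons rep_tD (List.Forall₂.cons rep_tC (List.Forall₂.cons rep_tA (List.Forall₂.cons rep_tD (List.Forall₂.cons rep_tG (List.Forall₂.cons rep_tE (List.Forall₂.cons rep_tF List.Forall₂.nil))))))))))))))))))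
    (by decide +kernel)

/-- an element given by a word -/
noncomputable def l18 : HG := [l16, l14, l7, l12, tA, tC, tB, tF, tF, tG, tC, tA, tF].prod

theorem rep_l18 : RepH Ul18 l18 :=
  rep_word Ul18 [Ul16, Ul14, Ul7, Ul12, spbT1x27, spbT1x21, spbT1x25, spbT1x37, spbT1x37, spbT1x46, spbT1x21, spbT1x27, spbT1x37] [l16, l14, l7, l12, tA, tC, tB, tF, tF, tG, tC, tA, tF]
    (List.Forall₂.cons rep_l16 (List.Forall₂.cons rep_l14 (List.Forall₂.cons rep_l7 (List.Forall₂.cons rep_l12 (List.Forall₂.cons rep_tA (List.Forall₂.cons rep_tC (List.Forall₂.cons rep_tB (List.Forall₂.cons rep_tF (List.Forall₂.cons rep_tF (List.Forall₂.cons rep_tG (List.Forall₂.cons rep_tC (List.Forall₂.cons rep_tA (List.Forall₂.cons rep_tF List.Forall₂.nil)))))))))))))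
    (by decide +kernel)

/-- an element given by a word -/
noncomputable def l19 : HG := [l15, l8, l18, tA, l10, tD, tF, tF, tE, tD, tE, tG, tF, tB, tC, tC, tE].prod

theorem rep_l19 : RepH Ul19 l19 :=
  rep_word Ul19 [Ul15, Ul8, Ul18, spbT1x27, Ul10, spbT1x55, spbT1x37, spbT1x37, spbT1x39, spbT1x55, spbT1x39, spbT1x46, spbT1x37, spbT1x25, spbT1x21, spbT1x21, spbT1x39] [l15, l8, l18, tA, l10, tD, tF, tF, tE, tD, tE, tG, tF, tB, tC, tC, tE]
    (List.Forall₂.cons rep_l15 (List.Forall₂.cons rep_l8 (List.Forall₂.cons rep_l18 (List.Forall₂.cons rep_tA (List.Forall₂.cons rep_l10 (List.Forall₂.cons rep_tD (List.Forall₂.cons rep_tF (List.Forall₂.cons rep_tF (List.Forall₂.cons rep_tE (List.Forall₂.cons rep_tD (List.Forall₂.cons rep_tE (List.Forall₂.cons rep_tG (List.Forall₂.cons rep_tF (List.Forall₂.cons rep_tB (List.Forall₂.cons rep_tC (List.Forall₂.cons rep_tC (List.Forall₂.cons rep_tE List.Forall₂.nil)))))))))))))))))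
    (by decide +kernel)

/-- an element given by a word -/
noncomputable def l20 : HG := [l18, l19, l14, l15, tB, tG, tE, tD, tE, tG, tA, tD, tB, tF, tG, tD, tD, tF].prod

theorem rep_l20 : RepH Ul20 l20 :=
  rep_word Ul20 [Ul18, Ul19, Ul14, Ul15, spbT1x25, spbT1x46, spbT1x39, spbT1x55, spbT1x39, spbT1x46, spbT1x27, spbT1x55, spbT1x25, spbT1x37, spbT1x46, spbT1x55, spbT1x55, spbT1x37] [l18, l19, l14, l15, tB, tG, tE, tD, tE, tG, tA, tD, tB, tF, tG, tD, tD, tF]
    (List.Forall₂.cons rep_l18 (List.Forall₂.cons rep_l19 (List.Forall₂.cons rep_l14 (List.Forall₂.cons rep_l15 (List.Forall₂.cons rep_tB (List.Forall₂.cons rep_tG (List.Forall₂.cons rep_tE (List.Forall₂.cons rep_tD (List.Forall₂.cons rep_tE (List.Forall₂.cons rep_tG (List.Forall₂.cons rep_tA (List.Forall₂.cons rep_tD (List.Forall₂.cons rep_tB (List.Forall₂.cons rep_tF (List.Forall₂.cons rep_tG (List.Forall₂.cons rep_tD (List.Forall₂.cons rep_tD (List.Forall₂.cons rep_tF List.Forall₂.nil))))))))))))))))))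
    (by decide +kernel)

/-- an element given by a word -/
noncomputable def l21 : HG := [l18, l19, l14, l16, l10, l15, tA, tC, tE, tC, tE, tF, tG, tF, tF, tC, tA].prod

theorem rep_l21 : RepH Ul21 l21 :=
  rep_word Ul21 [Ul18, Ul19, Ul14, Ul16, Ul10, Ul15, spbT1x27, spbT1x21, spbT1x39, spbT1x21, spbT1x39, spbT1x37, spbT1x46, spbT1x37, spbT1x37, spbT1x21, spbT1x27] [l18, l19, l14, l16, l10, l15, tA, tC, tE, tC, tE, tF, tG, tF, tF, tC, tA]
    (List.Forall₂.cons rep_l18 (List.Forall₂.cons rep_l19 (List.Forall₂.cons rep_l14 (List.Forall₂.cons rep_l16 (List.Forall₂.cons rep_l10 (List.Forall₂.cons rep_l15 (List.Forall₂.cons rep_tA (List.Forall₂.cons rep_tC (List.Forall₂.cons rep_tE (List.Forall₂.cons rep_tC (List.Forall₂.cons rep_tE (List.Forall₂.cons rep_tF (List.Forall₂.cons rep_tG (List.Forall₂.cons rep_tF (List.Forall₂.cons rep_tF (List.Forall₂.cons rep_tC (List.Forall₂.cons rep_tA List.Forall₂.nil)))))))))))))))))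
    (by decide +kernel)

/-- an element given by a word -/
noncomputable def l22 : HG := [l18, l15, l14, l7, l17, tA, l19, tG, tC, tF, tG, tE, tE, tE].prod

theorem rep_l22 : RepH Ul22 l22 :=
  rep_word Ul22 [Ul18, Ul15, Ul14, Ul7, Ul17, spbT1x27, Ul19, spbT1x46, spbT1x21, spbT1x37, spbT1x46, spbT1x39, spbT1x39, spbT1x39] [l18, l15, l14, l7, l17, tA, l19, tG, tC, tF, tG, tE, tE, tE]
    (List.Forall₂.cons rep_l18 (List.Forall₂.cons rep_l15 (List.Forall₂.cons rep_l14 (List.Forall₂.cons rep_l7 (List.Forall₂.cons rep_l17 (List.Forall₂.cons rep_tA (List.Forall₂.cons rep_l19 (List.Forall₂.cons rep_tG (List.Forall₂.cons rep_tC (List.Forall₂.cons rep_tF (List.Forall₂.cons rep_tG (List.Forall₂.cons rep_tE (List.Forall₂.cons rep_tE (List.Forall₂.cons rep_tE List.Forall₂.nil))))))))))))))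
    (by decide +kernel)

/-- an element given by a word -/
noncomputable def g0 : HG := [l12, l8, l13, l16, l20].prod

theorem rep_g0 : RepH Ug0 g0 :=
  rep_word Ug0 [Ul12, Ul8, Ul13, Ul16, Ul20] [l12, l8, l13, l16, l20]
    (List.Forall₂.cons rep_l12 (List.Forall₂.cons rep_l8 (List.Forall₂.cons rep_l13 (List.Forall₂.cons rep_l16 (List.Forall₂.cons rep_l20 List.Forall₂.nil)))))
    (by decide +kernel)

/-- an element given by a word -/
noncomputable def g1 : HG := [l13, l19, l18, l17, l20, l22].prod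

theorem rep_g1 : RepH Ug1 g1 :=
  rep_word Ug1 [Ul13, Ul19, Ul18, Ul17, Ul20, Ul22] [l13, l19, l18, l17, l20, l22]
    (List.Forall₂.cons rep_l13 (List.Forall₂.cons rep_l19 (List.Forall₂.cons rep_l18 (List.Forall₂.cons rep_l17 (List.Forall₂.cons rep_l20 (List.Forall₂.cons rep_l22 List.Forall₂.nil))))))
    (by decide +kernel)

/-- an element given by a word -/
noncomputable def g2 : HG := [l15, l13, l15, l19, l17, l20].prod

theorem rep_g2 : RepH Ug2 g2 :=
  rep_word Ug2 [Ul15, Ul13, Ul15, Ul19, Ul17, Ul20] [l15, l13, l15, l19, l17, l20]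
    (List.Forall₂.cons rep_l15 (List.Forall₂.cons rep_l13 (List.Forall₂.cons rep_l15 (List.Forall₂.cons rep_l19 (List.Forall₂.cons rep_l17 (List.Forall₂.cons rep_l20 List.Forall₂.nil))))))
    (by decide +kernel)

/-- an element given by a word -/
noncomputable def g3 : HG := [l22].prod

theorem rep_g3 : RepH Ug3 g3 :=
  rep_word Ug3 [Ul22] [l22]
    (List.Forall₂.cons rep_l22 List.Forall₂.nil)
    (by decide +kernel)

/-- an element given by a word -/
noncomputable def g4 : HG := [l21].prod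

theorem rep_g4 : RepH Ug4 g4 :=
  rep_word Ug4 [Ul21] [l21]
    (List.Forall₂.cons rep_l21 List.Forall₂.nil)
    (by decide +kernel)

/-- an element given by a word -/
noncomputable def g5 : HG := [l19, l18, l21, l20, l22].prod

theorem rep_g5 : RepH Ug5 g5 :=
  rep_word Ug5 [Ul19, Ul18, Ul21, Ul20, Ul22] [l19, l18, l21, l20, l22]
    (List.Forall₂.cons rep_l19 (List.Forall₂.cons rep_l18 (List.Forall₂.cons rep_l21 (List.Forall₂.cons rep_l20 (List.Forall₂.cons rep_l22 List.Forall₂.nil)))))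
    (by decide +kernel)

/-- an element given by a word -/
noncomputable def g6 : HG := [l20].prod

theorem rep_g6 : RepH Ug6 g6 :=
  rep_word Ug6 [Ul20] [l20]
    (List.Forall₂.cons rep_l20 List.Forall₂.nil)
    (by decide +kernel)

/-- an element given by a word -/
noncomputable def g7 : HG := [l19, l17, l22].prod

theorem rep_g7 : RepH Ug7 g7 :=
  rep_word Ug7 [Ul19, Ul17, Ul22] [l19, l17, l22]
    (List.Forall₂.cons rep_l19 (List.Forall₂.cons rep_l17 (List.Forall₂.cons rep_l22 List.Forall₂.nil)))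
    (by decide +kernel)

/-- an element given by a word -/
noncomputable def g8 : HG := [l19, l18, l17, l21].prod

theorem rep_g8 : RepH Ug8 g8 :=
  rep_word Ug8 [Ul19, Ul18, Ul17, Ul21] [l19, l18, l17, l21]
    (List.Forall₂.cons rep_l19 (List.Forall₂.cons rep_l18 (List.Forall₂.cons rep_l17 (List.Forall₂.cons rep_l21 List.Forall₂.nil))))
    (by decide +kernel)

/-- an element given by a word -/
noncomputable def aC : HG := [l15, l13, l15, l20, l22].prod

theorem rep_aC : RepH UaC aC :=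
  rep_word UaC [Ul15, Ul13, Ul15, Ul20, Ul22] [l15, l13, l15, l20, l22]
    (List.Forall₂.cons rep_l15 (List.Forall₂.cons rep_l13 (List.Forall₂.cons rep_l15 (List.Forall₂.cons rep_l20 (List.Forall₂.cons rep_l22 List.Forall₂.nil)))))
    (by decide +kernel)

/-- an element given by a word -/
noncomputable def ebC : HG := [l15, l13, l15, l19, l17, l20].prod

theorem rep_ebC : RepH UebC ebC :=
  rep_word UebC [Ul15, Ul13, Ul15, Ul19, Ul17, Ul20] [l15, l13, l15, l19, l17, l20]
    (List.Forall₂.cons rep_l15 (List.Forall₂.cons rep_l13 (List.Forall₂.cons rep_l15 (List.Forall₂.cons rep_l19 (List.Forall₂.cons rep_l17 (List.Forall₂.cons rep_l20 List.Forall₂.nil))))))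
    (by decide +kernel)

/-- an element given by a word -/
noncomputable def ecC : HG := [l13, l19, l18, l17, l20, l22].prod

theorem rep_ecC : RepH UecC ecC :=
  rep_word UecC [Ul13, Ul19, Ul18, Ul17, Ul20, Ul22] [l13, l19, l18, l17, l20, l22]
    (List.Forall₂.cons rep_l13 (List.Forall₂.cons rep_l19 (List.Forall₂.cons rep_l18 (List.Forall₂.cons rep_l17 (List.Forall₂.cons rep_l20 (List.Forall₂.cons rep_l22 List.Forall₂.nil))))))
    (by decide +kernel)

/-- an element given by a word -/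
noncomputable def qCb : HG := [l13, l19, l18, l17, l21, l20, l22].prod

theorem rep_qCb : RepH UqCb qCb :=
  rep_word UqCb [Ul13, Ul19, Ul18, Ul17, Ul21, Ul20, Ul22] [l13, l19, l18, l17, l21, l20, l22]
    (List.Forall₂.cons rep_l13 (List.Forall₂.cons rep_l19 (List.Forall₂.cons rep_l18 (List.Forall₂.cons rep_l17 (List.Forall₂.cons rep_l21 (List.Forall₂.cons rep_l20 (List.Forall₂.cons rep_l22 List.Forall₂.nil)))))))
    (by decide +kernel)

/-- an element given by a word -/
noncomputable def qCc : HG := [tD, l17, tA, l12, l8, l19, l15, l19, l18, l22].prod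

theorem rep_qCc : RepH UqCc qCc :=
  rep_word UqCc [spbT1x55, Ul17, spbT1x27, Ul12, Ul8, Ul19, Ul15, Ul19, Ul18, Ul22] [tD, l17, tA, l12, l8, l19, l15, l19, l18, l22]
    (List.Forall₂.cons rep_tD (List.Forall₂.cons rep_l17 (List.Forall₂.cons rep_tA (List.Forall₂.cons rep_l12 (List.Forall₂.cons rep_l8 (List.Forall₂.cons rep_l19 (List.Forall₂.cons rep_l15 (List.Forall₂.cons rep_l19 (List.Forall₂.cons rep_l18 (List.Forall₂.cons rep_l22 List.Forall₂.nil))))))))))
    (by decide +kernel)

/-- an element given by a word -/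
noncomputable def qCab : HG := [l16, l9, l15, l13, l19, l18, l21].prod

theorem rep_qCab : RepH UqCab qCab :=
  rep_word UqCab [Ul16, Ul9, Ul15, Ul13, Ul19, Ul18, Ul21] [l16, l9, l15, l13, l19, l18, l21]
    (List.Forall₂.cons rep_l16 (List.Forall₂.cons rep_l9 (List.Forall₂.cons rep_l15 (List.Forall₂.cons rep_l13 (List.Forall₂.cons rep_l19 (List.Forall₂.cons rep_l18 (List.Forall₂.cons rep_l21 List.Forall₂.nil)))))))
    (by decide +kernel)

/-- an element given by a word -/
noncomputable def qCac : HG := [tD, l17, tA, l16, l9, l14, l15, l18, l17, l21, l20].prod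

theorem rep_qCac : RepH UqCac qCac :=
  rep_word UqCac [spbT1x55, Ul17, spbT1x27, Ul16, Ul9, Ul14, Ul15, Ul18, Ul17, Ul21, Ul20] [tD, l17, tA, l16, l9, l14, l15, l18, l17, l21, l20]
    (List.Forall₂.cons rep_tD (List.Forall₂.cons rep_l17 (List.Forall₂.cons rep_tA (List.Forall₂.cons rep_l16 (List.Forall₂.cons rep_l9 (List.Forall₂.cons rep_l14 (List.Forall₂.cons rep_l15 (List.Forall₂.cons rep_l18 (List.Forall₂.cons rep_l17 (List.Forall₂.cons rep_l21 (List.Forall₂.cons rep_l20 List.Forall₂.nil)))))))))))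
    (by decide +kernel)

/-- an element given by a word -/
noncomputable def qCbc : HG := [l9, tG, tB, l18, l7, l15, l14, l15, l19, l18, l17, l22].prod

theorem rep_qCbc : RepH UqCbc qCbc :=
  rep_word UqCbc [Ul9, spbT1x46, spbT1x25, Ul18, Ul7, Ul15, Ul14, Ul15, Ul19, Ul18, Ul17, Ul22] [l9, tG, tB, l18, l7, l15, l14, l15, l19, l18, l17, l22]
    (List.Forall₂.cons rep_l9 (List.Forall₂.cons rep_tG (List.Forall₂.cons rep_tB (List.Forall₂.cons rep_l18 (List.Forall₂.cons rep_l7 (List.Forall₂.cons rep_l15 (List.Forall₂.cons rep_l14 (List.Forall₂.cons rep_l15 (List.Forall₂.cons rep_l19 (List.Forall₂.cons rep_l18 (List.Forall₂.cons rep_l17 (List.Forall₂.cons rep_l22 List.Forall₂.nil))))))))))))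
    (by decide +kernel)

/-- an element given by a word -/
noncomputable def qCabc : HG := [tD, l19, tA, l17, l8, l14, l15, l18, l17, l21, l22].prod

theorem rep_qCabc : RepH UqCabc qCabc :=
  rep_word UqCabc [spbT1x55, Ul19, spbT1x27, Ul17, Ul8, Ul14, Ul15, Ul18, Ul17, Ul21, Ul22] [tD, l19, tA, l17, l8, l14, l15, l18, l17, l21, l22]
    (List.Forall₂.cons rep_tD (List.Forall₂.cons rep_l19 (List.Forall₂.cons rep_tA (List.Forall₂.cons rep_l17 (List.Forall₂.cons rep_l8 (List.Forall₂.cons rep_l14 (List.Forall₂.cons rep_l15 (List.Forall₂.cons rep_l18 (List.Forall₂.cons rep_l17 (List.Forall₂.cons rep_l21 (List.Forall₂.cons rep_l22 List.Forall₂.nil)))))))))))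
    (by decide +kernel)

/-- an element given by a word -/
noncomputable def qC0 : HG := [l11, l8, l15, l13, l19, l18, l17, l21, l20, l22].prod

theorem rep_qC0 : RepH UqC0 qC0 :=
  rep_word UqC0 [Ul11, Ul8, Ul15, Ul13, Ul19, Ul18, Ul17, Ul21, Ul20, Ul22] [l11, l8, l15, l13, l19, l18, l17, l21, l20, l22]
    (List.Forall₂.cons rep_l11 (List.Forall₂.cons rep_l8 (List.Forall₂.cons rep_l15 (List.Forall₂.cons rep_l13 (List.Forall₂.cons rep_l19 (List.Forall₂.cons rep_l18 (List.Forall₂.cons rep_l17 (List.Forall₂.cons rep_l21 (List.Forall₂.cons rep_l20 (List.Forall₂.cons rep_l22 List.Forall₂.nil))))))))))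
    (by decide +kernel)

/-- an element given by a word -/
noncomputable def qC1 : HG := [tD, l17, tA, l12, l8, l19, l15, l19, l18, l22].prod

theorem rep_qC1 : RepH UqC1 qC1 :=
  rep_word UqC1 [spbT1x55, Ul17, spbT1x27, Ul12, Ul8, Ul19, Ul15, Ul19, Ul18, Ul22] [tD, l17, tA, l12, l8, l19, l15, l19, l18, l22]
    (List.Forall₂.cons rep_tD (List.Forall₂.cons rep_l17 (List.Forall₂.cons rep_tA (List.Forall₂.cons rep_l12 (List.Forall₂.cons rep_l8 (List.Forall₂.cons rep_l19 (List.Forall₂.cons rep_l15 (List.Forall₂.cons rep_l19 (List.Forall₂.cons rep_l18 (List.Forall₂.cons rep_l22 List.Forall₂.nil))))))))))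
    (by decide +kernel)

/-- an element given by a word -/
noncomputable def qC2 : HG := [l13, l19, l18, l17, l21, l20, l22].prod

theorem rep_qC2 : RepH UqC2 qC2 :=
  rep_word UqC2 [Ul13, Ul19, Ul18, Ul17, Ul21, Ul20, Ul22] [l13, l19, l18, l17, l21, l20, l22]
    (List.Forall₂.cons rep_l13 (List.Forall₂.cons rep_l19 (List.Forall₂.cons rep_l18 (List.Forall₂.cons rep_l17 (List.Forall₂.cons rep_l21 (List.Forall₂.cons rep_l20 (List.Forall₂.cons rep_l22 List.Forall₂.nil)))))))
    (by decide +kernel)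

/-- an element given by a word -/
noncomputable def qC4 : HG := [tG, tE, l16, l9, l15, l13, l19, l18, l21].prod

theorem rep_qC4 : RepH UqC4 qC4 :=
  rep_word UqC4 [spbT1x46, spbT1x39, Ul16, Ul9, Ul15, Ul13, Ul19, Ul18, Ul21] [tG, tE, l16, l9, l15, l13, l19, l18, l21]
    (List.Forall₂.cons rep_tG (List.Forall₂.cons rep_tE (List.Forall₂.cons rep_l16 (List.Forall₂.cons rep_l9 (List.Forall₂.cons rep_l15 (List.Forall₂.cons rep_l13 (List.Forall₂.cons rep_l19 (List.Forall₂.cons rep_l18 (List.Forall₂.cons rep_l21 List.Forall₂.nil)))))))))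
    (by decide +kernel)

/-- an element given by a word -/
noncomputable def qC5 : HG := [l16, l19, l21, l22].prod

theorem rep_qC5 : RepH UqC5 qC5 :=
  rep_word UqC5 [Ul16, Ul19, Ul21, Ul22] [l16, l19, l21, l22]
    (List.Forall₂.cons rep_l16 (List.Forall₂.cons rep_l19 (List.Forall₂.cons rep_l21 (List.Forall₂.cons rep_l22 List.Forall₂.nil))))
    (by decide +kernel)

/-- an element given by a word -/
noncomputable def aD : HG := [l19, l18, l17].prod

theorem rep_aD : RepH UaD aD :=
  rep_word UaD [Ul19, Ul18, Ul17] [l19, l18, l17]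
    (List.Forall₂.cons rep_l19 (List.Forall₂.cons rep_l18 (List.Forall₂.cons rep_l17 List.Forall₂.nil)))
    (by decide +kernel)

/-- an element given by a word -/
noncomputable def ebD : HG := [l18, l17, l20, l22].prod

theorem rep_ebD : RepH UebD ebD :=
  rep_word UebD [Ul18, Ul17, Ul20, Ul22] [l18, l17, l20, l22]
    (List.Forall₂.cons rep_l18 (List.Forall₂.cons rep_l17 (List.Forall₂.cons rep_l20 (List.Forall₂.cons rep_l22 List.Forall₂.nil))))
    (by decide +kernel)

/-- an element given by a word -/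
noncomputable def ecD : HG := [l19, l18, l22].prod

theorem rep_ecD : RepH UecD ecD :=
  rep_word UecD [Ul19, Ul18, Ul22] [l19, l18, l22]
    (List.Forall₂.cons rep_l19 (List.Forall₂.cons rep_l18 (List.Forall₂.cons rep_l22 List.Forall₂.nil)))
    (by decide +kernel)

/-- an element given by a word -/
noncomputable def qDb : HG := [tE, l10, tB, l19, l9, l13, l19, l18, l22].prod

theorem rep_qDb : RepH UqDb qDb :=
  rep_word UqDb [spbT1x39, Ul10, spbT1x25, Ul19, Ul9, Ul13, Ul19, Ul18, Ul22] [tE, l10, tB, l19, l9, l13, l19, l18, l22]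
    (List.Forall₂.cons rep_tE (List.Forall₂.cons rep_l10 (List.Forall₂.cons rep_tB (List.Forall₂.cons rep_l19 (List.Forall₂.cons rep_l9 (List.Forall₂.cons rep_l13 (List.Forall₂.cons rep_l19 (List.Forall₂.cons rep_l18 (List.Forall₂.cons rep_l22 List.Forall₂.nil)))))))))
    (by decide +kernel)

/-- an element given by a word -/
noncomputable def qDc : HG := [tD, l13, tA, l12, l8, l15, l13, l19, l18, l21].prod

theorem rep_qDc : RepH UqDc qDc :=
  rep_word UqDc [spbT1x55, Ul13, spbT1x27, Ul12, Ul8, Ul15, Ul13, Ul19, Ul18, Ul21] [tD, l13, tA, l12, l8, l15, l13, l19, l18, l21]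
    (List.Forall₂.cons rep_tD (List.Forall₂.cons rep_l13 (List.Forall₂.cons rep_tA (List.Forall₂.cons rep_l12 (List.Forall₂.cons rep_l8 (List.Forall₂.cons rep_l15 (List.Forall₂.cons rep_l13 (List.Forall₂.cons rep_l19 (List.Forall₂.cons rep_l18 (List.Forall₂.cons rep_l21 List.Forall₂.nil))))))))))
    (by decide +kernel)

/-- an element given by a word -/
noncomputable def qDab : HG := [tA, l19, tA, l10, l15, l19, l17, l20].prod

theorem rep_qDab : RepH UqDab qDab :=
  rep_word UqDab [spbT1x27, Ul19, spbT1x27, Ul10, Ul15, Ul19, Ul17, Ul20] [tA, l19, tA, l10, l15, l19, l17, l20]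
    (List.Forall₂.cons rep_tA (List.Forall₂.cons rep_l19 (List.Forall₂.cons rep_tA (List.Forall₂.cons rep_l10 (List.Forall₂.cons rep_l15 (List.Forall₂.cons rep_l19 (List.Forall₂.cons rep_l17 (List.Forall₂.cons rep_l20 List.Forall₂.nil))))))))
    (by decide +kernel)

/-- an element given by a word -/
noncomputable def qDac : HG := [tG, l10, tB, l12, l8, l13, l19, l18, l20, l22].prod

theorem rep_qDac : RepH UqDac qDac :=
  rep_word UqDac [spbT1x46, Ul10, spbT1x25, Ul12, Ul8, Ul13, Ul19, Ul18, Ul20, Ul22] [tG, l10, tB, l12, l8, l13, l19, l18, l20, l22]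
    (List.Forall₂.cons rep_tG (List.Forall₂.cons rep_l10 (List.Forall₂.cons rep_tB (List.Forall₂.cons rep_l12 (List.Forall₂.cons rep_l8 (List.Forall₂.cons rep_l13 (List.Forall₂.cons rep_l19 (List.Forall₂.cons rep_l18 (List.Forall₂.cons rep_l20 (List.Forall₂.cons rep_l22 List.Forall₂.nil))))))))))
    (by decide +kernel)

/-- an element given by a word -/
noncomputable def qDbc : HG := [tG, tE, l15, l14, l15, l19, l18, l21].prod

theorem rep_qDbc : RepH UqDbc qDbc :=
  rep_word UqDbc [spbT1x46, spbT1x39, Ul15, Ul14, Ul15, Ul19, Ul18, Ul21] [tG, tE, l15, l14, l15, l19, l18, l21]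
    (List.Forall₂.cons rep_tG (List.Forall₂.cons rep_tE (List.Forall₂.cons rep_l15 (List.Forall₂.cons rep_l14 (List.Forall₂.cons rep_l15 (List.Forall₂.cons rep_l19 (List.Forall₂.cons rep_l18 (List.Forall₂.cons rep_l21 List.Forall₂.nil))))))))
    (by decide +kernel)

/-- an element given by a word -/
noncomputable def qDabc : HG := [l11, tE, tB, l15, l11, l15, l13, l15, l19, l18, l20].prod

theorem rep_qDabc : RepH UqDabc qDabc :=
  rep_word UqDabc [Ul11, spbT1x39, spbT1x25, Ul15, Ul11, Ul15, Ul13, Ul15, Ul19, Ul18, Ul20] [l11, tE, tB, l15, l11, l15, l13, l15, l19, l18, l20]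
    (List.Forall₂.cons rep_l11 (List.Forall₂.cons rep_tE (List.Forall₂.cons rep_tB (List.Forall₂.cons rep_l15 (List.Forall₂.cons rep_l11 (List.Forall₂.cons rep_l15 (List.Forall₂.cons rep_l13 (List.Forall₂.cons rep_l15 (List.Forall₂.cons rep_l19 (List.Forall₂.cons rep_l18 (List.Forall₂.cons rep_l20 List.Forall₂.nil)))))))))))
    (by decide +kernel)

/-- an element given by a word -/
noncomputable def qD03 : HG := [tE, l10, tB, l19, l7, l15, l18].prod

theorem rep_qD03 : RepH UqD03 qD03 :=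
  rep_word UqD03 [spbT1x39, Ul10, spbT1x25, Ul19, Ul7, Ul15, Ul18] [tE, l10, tB, l19, l7, l15, l18]
    (List.Forall₂.cons rep_tE (List.Forall₂.cons rep_l10 (List.Forall₂.cons rep_tB (List.Forall₂.cons rep_l19 (List.Forall₂.cons rep_l7 (List.Forall₂.cons rep_l15 (List.Forall₂.cons rep_l18 List.Forall₂.nil)))))))
    (by decide +kernel)

/-- an element given by a word -/
noncomputable def qD18 : HG := [l16, l19, l21, l22].prod

theorem rep_qD18 : RepH UqD18 qD18 :=
  rep_word UqD18 [Ul16, Ul19, Ul21, Ul22] [l16, l19, l21, l22]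
    (List.Forall₂.cons rep_l16 (List.Forall₂.cons rep_l19 (List.Forall₂.cons rep_l21 (List.Forall₂.cons rep_l22 List.Forall₂.nil))))
    (by decide +kernel)

/-- an element given by a word -/
noncomputable def qD26 : HG := [tD, l13, tA, l21, l9, l19, l17, l20].prod

theorem rep_qD26 : RepH UqD26 qD26 :=
  rep_word UqD26 [spbT1x55, Ul13, spbT1x27, Ul21, Ul9, Ul19, Ul17, Ul20] [tD, l13, tA, l21, l9, l19, l17, l20]
    (List.Forall₂.cons rep_tD (List.Forall₂.cons rep_l13 (List.Forall₂.cons rep_tA (List.Forall₂.cons rep_l21 (List.Forall₂.cons rep_l9 (List.Forall₂.cons rep_l19 (List.Forall₂.cons rep_l17 (List.Forall₂.cons rep_l20 List.Forall₂.nil))))))))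
    (by decide +kernel)

/-- an element given by a word -/
noncomputable def qD37 : HG := [tE, l10, tB, l19, l15, l17, l21, l20, l22].prod

theorem rep_qD37 : RepH UqD37 qD37 :=
  rep_word UqD37 [spbT1x39, Ul10, spbT1x25, Ul19, Ul15, Ul17, Ul21, Ul20, Ul22] [tE, l10, tB, l19, l15, l17, l21, l20, l22]
    (List.Forall₂.cons rep_tE (List.Forall₂.cons rep_l10 (List.Forall₂.cons rep_tB (List.Forall₂.cons rep_l19 (List.Forall₂.cons rep_l15 (List.Forall₂.cons rep_l17 (List.Forall₂.cons rep_l21 (List.Forall₂.cons rep_l20 (List.Forall₂.cons rep_l22 List.Forall₂.nil)))))))))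
    (by decide +kernel)

/-- an element given by a word -/
noncomputable def qD126 : HG := [tD, l13, tA, l21, l9, l15, l14, l15, l19, l18, l17, l20].prod

theorem rep_qD126 : RepH UqD126 qD126 :=
  rep_word UqD126 [spbT1x55, Ul13, spbT1x27, Ul21, Ul9, Ul15, Ul14, Ul15, Ul19, Ul18, Ul17, Ul20] [tD, l13, tA, l21, l9, l15, l14, l15, l19, l18, l17, l20]
    (List.Forall₂.cons rep_tD (List.Forall₂.cons rep_l13 (List.Forall₂.cons rep_tA (List.Forall₂.cons rep_l21 (List.Forall₂.cons rep_l9 (List.Forall₂.cons rep_l15 (List.Forall₂.cons rep_l14 (List.Forall₂.cons rep_l15 (List.Forall₂.cons rep_l19 (List.Forall₂.cons rep_l18 (List.Forall₂.cons rep_l17 (List.Forall₂.cons rep_l20 List.Forall₂.nil))))))))))))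
    (by decide +kernel)

/-- an element given by a word -/
noncomputable def qD347 : HG := [tE, l10, tB, l12, l8, l15, l14, l15, l18, l17, l20].prod

theorem rep_qD347 : RepH UqD347 qD347 :=
  rep_word UqD347 [spbT1x39, Ul10, spbT1x25, Ul12, Ul8, Ul15, Ul14, Ul15, Ul18, Ul17, Ul20] [tE, l10, tB, l12, l8, l15, l14, l15, l18, l17, l20]
    (List.Forall₂.cons rep_tE (List.Forall₂.cons rep_l10 (List.Forall₂.cons rep_tB (List.Forall₂.cons rep_l12 (List.Forall₂.cons rep_l8 (List.Forall₂.cons rep_l15 (List.Forall₂.cons rep_l14 (List.Forall₂.cons rep_l15 (List.Forall₂.cons rep_l18 (List.Forall₂.cons rep_l17 (List.Forall₂.cons rep_l20 List.Forall₂.nil)))))))))))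
    (by decide +kernel)

/-- an element given by a word -/
noncomputable def a3 : HG := [l15, tE, l16, l19, l18, l17, l21].prod

theorem rep_a3 : RepH Ua3 a3 :=
  rep_word Ua3 [Ul15, spbT1x39, Ul16, Ul19, Ul18, Ul17, Ul21] [l15, tE, l16, l19, l18, l17, l21]
    (List.Forall₂.cons rep_l15 (List.Forall₂.cons rep_tE (List.Forall₂.cons rep_l16 (List.Forall₂.cons rep_l19 (List.Forall₂.cons rep_l18 (List.Forall₂.cons rep_l17 (List.Forall₂.cons rep_l21 List.Forall₂.nil)))))))
    (by decide +kernel)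

/-- an element given by a word -/
noncomputable def t3 : HG := [tD, l13, tA, l16, l9, l13, l19, l17, l22].prod

theorem rep_t3 : RepH Ut3 t3 :=
  rep_word Ut3 [spbT1x55, Ul13, spbT1x27, Ul16, Ul9, Ul13, Ul19, Ul17, Ul22] [tD, l13, tA, l16, l9, l13, l19, l17, l22]
    (List.Forall₂.cons rep_tD (List.Forall₂.cons rep_l13 (List.Forall₂.cons rep_tA (List.Forall₂.cons rep_l16 (List.Forall₂.cons rep_l9 (List.Forall₂.cons rep_l13 (List.Forall₂.cons rep_l19 (List.Forall₂.cons rep_l17 (List.Forall₂.cons rep_l22 List.Forall₂.nil)))))))))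
    (by decide +kernel)

/-- an element given by a word -/
noncomputable def s3 : HG := [l15, tE, l16].prod

theorem rep_s3 : RepH Us3 s3 :=
  rep_word Us3 [Ul15, spbT1x39, Ul16] [l15, tE, l16]
    (List.Forall₂.cons rep_l15 (List.Forall₂.cons rep_tE (List.Forall₂.cons rep_l16 List.Forall₂.nil)))
    (by decide +kernel)

/-- an element given by a word -/
noncomputable def b3 : HG := [t3, a3, t3, t3].prod

theorem rep_b3 : RepH Ub3 b3 :=
  rep_word Ub3 [Ut3, Ua3, Ut3, Ut3] [t3, a3, t3, t3]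
    (List.Forall₂.cons rep_t3 (List.Forall₂.cons rep_a3 (List.Forall₂.cons rep_t3 (List.Forall₂.cons rep_t3 List.Forall₂.nil))))
    (by decide +kernel)

/-- an element given by a word -/
noncomputable def c3 : HG := [t3, b3, t3, t3].prod

theorem rep_c3 : RepH Uc3 c3 :=
  rep_word Uc3 [Ut3, Ub3, Ut3, Ut3] [t3, b3, t3, t3]
    (List.Forall₂.cons rep_t3 (List.Forall₂.cons rep_b3 (List.Forall₂.cons rep_t3 (List.Forall₂.cons rep_t3 List.Forall₂.nil))))
    (by decide +kernel)

/-- an element given by a word -/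
noncomputable def b3i : HG := [b3, b3].prod

theorem rep_b3i : RepH Ub3i b3i :=
  rep_word Ub3i [Ub3, Ub3] [b3, b3]
    (List.Forall₂.cons rep_b3 (List.Forall₂.cons rep_b3 List.Forall₂.nil))
    (by decide +kernel)

/-- an element given by a word -/
noncomputable def c3i : HG := [c3, c3].prod

theorem rep_c3i : RepH Uc3i c3i :=
  rep_word Uc3i [Uc3, Uc3] [c3, c3]
    (List.Forall₂.cons rep_c3 (List.Forall₂.cons rep_c3 List.Forall₂.nil))
    (by decide +kernel)

/-- an element given by a word -/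
noncomputable def uu : HG := [a3, b3i].prod

theorem rep_uu : RepH Uuu uu :=
  rep_word Uuu [Ua3, Ub3i] [a3, b3i]
    (List.Forall₂.cons rep_a3 (List.Forall₂.cons rep_b3i List.Forall₂.nil))
    (by decide +kernel)

/-- an element given by a word -/
noncomputable def vv : HG := [b3, c3i].prod

theorem rep_vv : RepH Uvv vv :=
  rep_word Uvv [Ub3, Uc3i] [b3, c3i]
    (List.Forall₂.cons rep_b3 (List.Forall₂.cons rep_c3i List.Forall₂.nil))
    (by decide +kernel)

/-- an element given by a word -/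
noncomputable def d01 : HG := [vv].prod

theorem rep_d01 : RepH Ud01 d01 :=
  rep_word Ud01 [Uvv] [vv]
    (List.Forall₂.cons rep_vv List.Forall₂.nil)
    (by decide +kernel)

/-- an element given by a word -/
noncomputable def d02 : HG := [vv, vv].prod

theorem rep_d02 : RepH Ud02 d02 :=
  rep_word Ud02 [Uvv, Uvv] [vv, vv]
    (List.Forall₂.cons rep_vv (List.Forall₂.cons rep_vv List.Forall₂.nil))
    (by decide +kernel)

/-- an element given by a word -/
noncomputable def d10 : HG := [uu].prod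

theorem rep_d10 : RepH Ud10 d10 :=
  rep_word Ud10 [Uuu] [uu]
    (List.Forall₂.cons rep_uu List.Forall₂.nil)
    (by decide +kernel)

/-- an element given by a word -/
noncomputable def d11 : HG := [uu, vv].prod

theorem rep_d11 : RepH Ud11 d11 :=
  rep_word Ud11 [Uuu, Uvv] [uu, vv]
    (List.Forall₂.cons rep_uu (List.Forall₂.cons rep_vv List.Forall₂.nil))
    (by decide +kernel)

/-- an element given by a word -/
noncomputable def d12 : HG := [uu, vv, vv].prod

theorem rep_d12 : RepH Ud12 d12 :=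
  rep_word Ud12 [Uuu, Uvv, Uvv] [uu, vv, vv]
    (List.Forall₂.cons rep_uu (List.Forall₂.cons rep_vv (List.Forall₂.cons rep_vv List.Forall₂.nil)))
    (by decide +kernel)

/-- an element given by a word -/
noncomputable def d20 : HG := [uu, uu].prod

theorem rep_d20 : RepH Ud20 d20 :=
  rep_word Ud20 [Uuu, Uuu] [uu, uu]
    (List.Forall₂.cons rep_uu (List.Forall₂.cons rep_uu List.Forall₂.nil))
    (by decide +kernel)

/-- an element given by a word -/
noncomputable def d21 : HG := [uu, uu, vv].prod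

theorem rep_d21 : RepH Ud21 d21 :=
  rep_word Ud21 [Uuu, Uuu, Uvv] [uu, uu, vv]
    (List.Forall₂.cons rep_uu (List.Forall₂.cons rep_uu (List.Forall₂.cons rep_vv List.Forall₂.nil)))
    (by decide +kernel)

/-- an element given by a word -/
noncomputable def d22 : HG := [uu, uu, vv, vv].prod

theorem rep_d22 : RepH Ud22 d22 :=
  rep_word Ud22 [Uuu, Uuu, Uvv, Uvv] [uu, uu, vv, vv]
    (List.Forall₂.cons rep_uu (List.Forall₂.cons rep_uu (List.Forall₂.cons rep_vv (List.Forall₂.cons rep_vv List.Forall₂.nil))))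
    (by decide +kernel)

attribute [irreducible] tA tB tC tD tE tF tG l7 l8 l9 l10 l11 l12 l13 l14 l15 l16 l17 l18 l19 l20 l21 l22 g0 g1 g2 g3 g4 g5 g6 g7 g8 aC ebC ecC qCb qCc qCab qCac qCbc qCabc qC0 qC1 qC2 qC4 qC5 aD ebD ecD qDb qDc qDab qDac qDbc qDabc qD03 qD18 qD26 qD37 qD126 qD347 a3 t3 s3 b3 c3 b3i c3i uu vv d01 d02 d10 d11 d12 d20 d21 d22

end Cfsg.Agent.Lib.Helper5.Sp6M
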