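import Mathlib
import Cfsg.Agent.Lib.Helper5.Sp6MB

set_option autoImplicit false

/-! Relations between elements of the symplectic group of degree six over the field with two elements, checked on coded
permutations (generated). -/

namespace Cfsg.Agent.Lib.Helper5.Sp6M

open Cfsg.Agent.Lib.helper23 Cfsg.Agent.Lib.Helper5.CP

theorem aC_sq : aC * aC = 1 := by
  have h := eq_of_chk (look := spblk) (n := 64) (H := H64) [UaC, UaC] [] [aC, aC] []
    (List.Forall₂.cons rep_aC (List.Forall₂.cons rep_aC List.Forall₂.nil))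
    List.Forall₂.nil
    (by decide +kernel)
  simpa only [List.prod_cons, List.prod_nil, mul_one, mul_assoc] using h

theorem aC_eb : aC * ebC = ebC * aC := by
  have h := eq_of_chk (look := spblk) (n := 64) (H := H64) [UaC, UebC] [UebC, UaC] [aC, ebC] [ebC, aC]
    (List.Forall₂.cons rep_aC (List.Forall₂.cons rep_ebC List.Forall₂.nil))
    (List.Forall₂.cons rep_ebC (List.Forall₂.cons rep_aC List.Forall₂.nil))
    (by decide +kernel)
  simpa only [List.prod_cons, List.prod_nil, mul_one, mul_assoc] using h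

theorem aC_ec : aC * ecC = ecC * aC := by
  have h := eq_of_chk (look := spblk) (n := 64) (H := H64) [UaC, UecC] [UecC, UaC] [aC, ecC] [ecC, aC]
    (List.Forall₂.cons rep_aC (List.Forall₂.cons rep_ecC List.Forall₂.nil))
    (List.Forall₂.cons rep_ecC (List.Forall₂.cons rep_aC List.Forall₂.nil))
    (by decide +kernel)
  simpa only [List.prod_cons, List.prod_nil, mul_one, mul_assoc] using h

theorem ebC_ec : ebC * ecC = ecC * ebC := by
  have h := eq_of_chk (look := spblk) (n := 64) (H := H64) [UebC, UecC] [UecC, UebC] [ebC, ecC] [ecC, ebC]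
    (List.Forall₂.cons rep_ebC (List.Forall₂.cons rep_ecC List.Forall₂.nil))
    (List.Forall₂.cons rep_ecC (List.Forall₂.cons rep_ebC List.Forall₂.nil))
    (by decide +kernel)
  simpa only [List.prod_cons, List.prod_nil, mul_one, mul_assoc] using h

theorem qCb_conj : qCb * aC = ebC * qCb := by
  have h := eq_of_chk (look := spblk) (n := 64) (H := H64) [UqCb, UaC] [UebC, UqCb] [qCb, aC] [ebC, qCb]
    (List.Forall₂.cons rep_qCb (List.Forall₂.cons rep_aC List.Forall₂.nil))
    (List.Forall₂.cons rep_ebC (List.Forall₂.cons rep_qCb List.Forall₂.nil))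
    (by decide +kernel)
  simpa only [List.prod_cons, List.prod_nil, mul_one, mul_assoc] using h

theorem qCc_conj : qCc * aC = ecC * qCc := by
  have h := eq_of_chk (look := spblk) (n := 64) (H := H64) [UqCc, UaC] [UecC, UqCc] [qCc, aC] [ecC, qCc]
    (List.Forall₂.cons rep_qCc (List.Forall₂.cons rep_aC List.Forall₂.nil))
    (List.Forall₂.cons rep_ecC (List.Forall₂.cons rep_qCc List.Forall₂.nil))
    (by decide +kernel)
  simpa only [List.prod_cons, List.prod_nil, mul_one, mul_assoc] using h

theorem qCab_conj : qCab * aC = (aC * ebC) * qCab := by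
  have h := eq_of_chk (look := spblk) (n := 64) (H := H64) [UqCab, UaC] [UaC, UebC, UqCab] [qCab, aC] [aC, ebC, qCab]
    (List.Forall₂.cons rep_qCab (List.Forall₂.cons rep_aC List.Forall₂.nil))
    (List.Forall₂.cons rep_aC (List.Forall₂.cons rep_ebC (List.Forall₂.cons rep_qCab List.Forall₂.nil)))
    (by decide +kernel)
  simpa only [List.prod_cons, List.prod_nil, mul_one, mul_assoc] using h

theorem qCac_conj : qCac * aC = (aC * ecC) * qCac := by
  have h := eq_of_chk (look := spblk) (n := 64) (H := H64) [UqCac, UaC] [UaC, UecC, UqCac] [qCac, aC] [aC, ecC, qCac]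
    (List.Forall₂.cons rep_qCac (List.Forall₂.cons rep_aC List.Forall₂.nil))
    (List.Forall₂.cons rep_aC (List.Forall₂.cons rep_ecC (List.Forall₂.cons rep_qCac List.Forall₂.nil)))
    (by decide +kernel)
  simpa only [List.prod_cons, List.prod_nil, mul_one, mul_assoc] using h

theorem qCbc_conj : qCbc * aC = (ebC * ecC) * qCbc := by
  have h := eq_of_chk (look := spblk) (n := 64) (H := H64) [UqCbc, UaC] [UebC, UecC, UqCbc] [qCbc, aC] [ebC, ecC, qCbc]
    (List.Forall₂.cons rep_qCbc (List.Forall₂.cons rep_aC List.Forall₂.nil))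
    (List.Forall₂.cons rep_ebC (List.Forall₂.cons rep_ecC (List.Forall₂.cons rep_qCbc List.Forall₂.nil)))
    (by decide +kernel)
  simpa only [List.prod_cons, List.prod_nil, mul_one, mul_assoc] using h

theorem qCabc_conj : qCabc * aC = (aC * ebC * ecC) * qCabc := by
  have h := eq_of_chk (look := spblk) (n := 64) (H := H64) [UqCabc, UaC] [UaC, UebC, UecC, UqCabc] [qCabc, aC] [aC, ebC, ecC, qCabc]
    (List.Forall₂.cons rep_qCabc (List.Forall₂.cons rep_aC List.Forall₂.nil))
    (List.Forall₂.cons rep_aC (List.Forall₂.cons rep_ebC (List.Forall₂.cons rep_ecC (List.Forall₂.cons rep_qCabc List.Forall₂.nil))))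
    (by decide +kernel)
  simpa only [List.prod_cons, List.prod_nil, mul_one, mul_assoc] using h

theorem qC0_conj : qC0 * aC = g0 * qC0 := by
  have h := eq_of_chk (look := spblk) (n := 64) (H := H64) [UqC0, UaC] [Ug0, UqC0] [qC0, aC] [g0, qC0]
    (List.Forall₂.cons rep_qC0 (List.Forall₂.cons rep_aC List.Forall₂.nil))
    (List.Forall₂.cons rep_g0 (List.Forall₂.cons rep_qC0 List.Forall₂.nil))
    (by decide +kernel)
  simpa only [List.prod_cons, List.prod_nil, mul_one, mul_assoc] using h

theorem qC1_conj : qC1 * aC = g1 * qC1 := by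
  have h := eq_of_chk (look := spblk) (n := 64) (H := H64) [UqC1, UaC] [Ug1, UqC1] [qC1, aC] [g1, qC1]
    (List.Forall₂.cons rep_qC1 (List.Forall₂.cons rep_aC List.Forall₂.nil))
    (List.Forall₂.cons rep_g1 (List.Forall₂.cons rep_qC1 List.Forall₂.nil))
    (by decide +kernel)
  simpa only [List.prod_cons, List.prod_nil, mul_one, mul_assoc] using h

theorem qC2_conj : qC2 * aC = g2 * qC2 := by
  have h := eq_of_chk (look := spblk) (n := 64) (H := H64) [UqC2, UaC] [Ug2, UqC2] [qC2, aC] [g2, qC2]
    (List.Forall₂.cons rep_qC2 (List.Forall₂.cons rep_aC List.Forall₂.nil))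
    (List.Forall₂.cons rep_g2 (List.Forall₂.cons rep_qC2 List.Forall₂.nil))
    (by decide +kernel)
  simpa only [List.prod_cons, List.prod_nil, mul_one, mul_assoc] using h

theorem qC4_conj : qC4 * aC = g4 * qC4 := by
  have h := eq_of_chk (look := spblk) (n := 64) (H := H64) [UqC4, UaC] [Ug4, UqC4] [qC4, aC] [g4, qC4]
    (List.Forall₂.cons rep_qC4 (List.Forall₂.cons rep_aC List.Forall₂.nil))
    (List.Forall₂.cons rep_g4 (List.Forall₂.cons rep_qC4 List.Forall₂.nil))
    (by decide +kernel)
  simpa only [List.prod_cons, List.prod_nil, mul_one, mul_assoc] using h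

theorem qC5_conj : qC5 * aC = g5 * qC5 := by
  have h := eq_of_chk (look := spblk) (n := 64) (H := H64) [UqC5, UaC] [Ug5, UqC5] [qC5, aC] [g5, qC5]
    (List.Forall₂.cons rep_qC5 (List.Forall₂.cons rep_aC List.Forall₂.nil))
    (List.Forall₂.cons rep_g5 (List.Forall₂.cons rep_qC5 List.Forall₂.nil))
    (by decide +kernel)
  simpa only [List.prod_cons, List.prod_nil, mul_one, mul_assoc] using h

theorem aD_sq : aD * aD = 1 := by
  have h := eq_of_chk (look := spblk) (n := 64) (H := H64) [UaD, UaD] [] [aD, aD] []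
    (List.Forall₂.cons rep_aD (List.Forall₂.cons rep_aD List.Forall₂.nil))
    List.Forall₂.nil
    (by decide +kernel)
  simpa only [List.prod_cons, List.prod_nil, mul_one, mul_assoc] using h

theorem aD_eb : aD * ebD = ebD * aD := by
  have h := eq_of_chk (look := spblk) (n := 64) (H := H64) [UaD, UebD] [UebD, UaD] [aD, ebD] [ebD, aD]
    (List.Forall₂.cons rep_aD (List.Forall₂.cons rep_ebD List.Forall₂.nil))
    (List.Forall₂.cons rep_ebD (List.Forall₂.cons rep_aD List.Forall₂.nil))
    (by decide +kernel)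
  simpa only [List.prod_cons, List.prod_nil, mul_one, mul_assoc] using h

theorem aD_ec : aD * ecD = ecD * aD := by
  have h := eq_of_chk (look := spblk) (n := 64) (H := H64) [UaD, UecD] [UecD, UaD] [aD, ecD] [ecD, aD]
    (List.Forall₂.cons rep_aD (List.Forall₂.cons rep_ecD List.Forall₂.nil))
    (List.Forall₂.cons rep_ecD (List.Forall₂.cons rep_aD List.Forall₂.nil))
    (by decide +kernel)
  simpa only [List.prod_cons, List.prod_nil, mul_one, mul_assoc] using h

theorem ebD_ec : ebD * ecD = ecD * ebD := by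
  have h := eq_of_chk (look := spblk) (n := 64) (H := H64) [UebD, UecD] [UecD, UebD] [ebD, ecD] [ecD, ebD]
    (List.Forall₂.cons rep_ebD (List.Forall₂.cons rep_ecD List.Forall₂.nil))
    (List.Forall₂.cons rep_ecD (List.Forall₂.cons rep_ebD List.Forall₂.nil))
    (by decide +kernel)
  simpa only [List.prod_cons, List.prod_nil, mul_one, mul_assoc] using h

theorem qDb_conj : qDb * aD = ebD * qDb := by
  have h := eq_of_chk (look := spblk) (n := 64) (H := H64) [UqDb, UaD] [UebD, UqDb] [qDb, aD] [ebD, qDb]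
    (List.Forall₂.cons rep_qDb (List.Forall₂.cons rep_aD List.Forall₂.nil))
    (List.Forall₂.cons rep_ebD (List.Forall₂.cons rep_qDb List.Forall₂.nil))
    (by decide +kernel)
  simpa only [List.prod_cons, List.prod_nil, mul_one, mul_assoc] using h

theorem qDc_conj : qDc * aD = ecD * qDc := by
  have h := eq_of_chk (look := spblk) (n := 64) (H := H64) [UqDc, UaD] [UecD, UqDc] [qDc, aD] [ecD, qDc]
    (List.Forall₂.cons rep_qDc (List.Forall₂.cons rep_aD List.Forall₂.nil))
    (List.Forall₂.cons rep_ecD (List.Forall₂.cons rep_qDc List.Forall₂.nil))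
    (by decide +kernel)
  simpa only [List.prod_cons, List.prod_nil, mul_one, mul_assoc] using h

theorem qDab_conj : qDab * aD = (aD * ebD) * qDab := by
  have h := eq_of_chk (look := spblk) (n := 64) (H := H64) [UqDab, UaD] [UaD, UebD, UqDab] [qDab, aD] [aD, ebD, qDab]
    (List.Forall₂.cons rep_qDab (List.Forall₂.cons rep_aD List.Forall₂.nil))
    (List.Forall₂.cons rep_aD (List.Forall₂.cons rep_ebD (List.Forall₂.cons rep_qDab List.Forall₂.nil)))
    (by decide +kernel)
  simpa only [List.prod_cons, List.prod_nil, mul_one, mul_assoc] using h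

theorem qDac_conj : qDac * aD = (aD * ecD) * qDac := by
  have h := eq_of_chk (look := spblk) (n := 64) (H := H64) [UqDac, UaD] [UaD, UecD, UqDac] [qDac, aD] [aD, ecD, qDac]
    (List.Forall₂.cons rep_qDac (List.Forall₂.cons rep_aD List.Forall₂.nil))
    (List.Forall₂.cons rep_aD (List.Forall₂.cons rep_ecD (List.Forall₂.cons rep_qDac List.Forall₂.nil)))
    (by decide +kernel)
  simpa only [List.prod_cons, List.prod_nil, mul_one, mul_assoc] using h

theorem qDbc_conj : qDbc * aD = (ebD * ecD) * qDbc := by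
  have h := eq_of_chk (look := spblk) (n := 64) (H := H64) [UqDbc, UaD] [UebD, UecD, UqDbc] [qDbc, aD] [ebD, ecD, qDbc]
    (List.Forall₂.cons rep_qDbc (List.Forall₂.cons rep_aD List.Forall₂.nil))
    (List.Forall₂.cons rep_ebD (List.Forall₂.cons rep_ecD (List.Forall₂.cons rep_qDbc List.Forall₂.nil)))
    (by decide +kernel)
  simpa only [List.prod_cons, List.prod_nil, mul_one, mul_assoc] using h

theorem qDabc_conj : qDabc * aD = (aD * ebD * ecD) * qDabc := by
  have h := eq_of_chk (look := spblk) (n := 64) (H := H64) [UqDabc, UaD] [UaD, UebD, UecD, UqDabc] [qDabc, aD] [aD, ebD, ecD, qDabc]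
    (List.Forall₂.cons rep_qDabc (List.Forall₂.cons rep_aD List.Forall₂.nil))
    (List.Forall₂.cons rep_aD (List.Forall₂.cons rep_ebD (List.Forall₂.cons rep_ecD (List.Forall₂.cons rep_qDabc List.Forall₂.nil))))
    (by decide +kernel)
  simpa only [List.prod_cons, List.prod_nil, mul_one, mul_assoc] using h

theorem qD03_conj : qD03 * aD = (g0 * g3) * qD03 := by
  have h := eq_of_chk (look := spblk) (n := 64) (H := H64) [UqD03, UaD] [Ug0, Ug3, UqD03] [qD03, aD] [g0, g3, qD03]
    (List.Forall₂.cons rep_qD03 (List.Forall₂.cons rep_aD List.Forall₂.nil))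
    (List.Forall₂.cons rep_g0 (List.Forall₂.cons rep_g3 (List.Forall₂.cons rep_qD03 List.Forall₂.nil)))
    (by decide +kernel)
  simpa only [List.prod_cons, List.prod_nil, mul_one, mul_assoc] using h

theorem qD18_conj : qD18 * aD = (g1 * g8) * qD18 := by
  have h := eq_of_chk (look := spblk) (n := 64) (H := H64) [UqD18, UaD] [Ug1, Ug8, UqD18] [qD18, aD] [g1, g8, qD18]
    (List.Forall₂.cons rep_qD18 (List.Forall₂.cons rep_aD List.Forall₂.nil))
    (List.Forall₂.cons rep_g1 (List.Forall₂.cons rep_g8 (List.Forall₂.cons rep_qD18 List.Forall₂.nil)))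
    (by decide +kernel)
  simpa only [List.prod_cons, List.prod_nil, mul_one, mul_assoc] using h

theorem qD26_conj : qD26 * aD = (g2 * g6) * qD26 := by
  have h := eq_of_chk (look := spblk) (n := 64) (H := H64) [UqD26, UaD] [Ug2, Ug6, UqD26] [qD26, aD] [g2, g6, qD26]
    (List.Forall₂.cons rep_qD26 (List.Forall₂.cons rep_aD List.Forall₂.nil))
    (List.Forall₂.cons rep_g2 (List.Forall₂.cons rep_g6 (List.Forall₂.cons rep_qD26 List.Forall₂.nil)))
    (by decide +kernel)
  simpa only [List.prod_cons, List.prod_nil, mul_one, mul_assoc] using h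

theorem qD37_conj : qD37 * aD = (g3 * g7) * qD37 := by
  have h := eq_of_chk (look := spblk) (n := 64) (H := H64) [UqD37, UaD] [Ug3, Ug7, UqD37] [qD37, aD] [g3, g7, qD37]
    (List.Forall₂.cons rep_qD37 (List.Forall₂.cons rep_aD List.Forall₂.nil))
    (List.Forall₂.cons rep_g3 (List.Forall₂.cons rep_g7 (List.Forall₂.cons rep_qD37 List.Forall₂.nil)))
    (by decide +kernel)
  simpa only [List.prod_cons, List.prod_nil, mul_one, mul_assoc] using h

theorem qD126_conj : qD126 * aD = (g1 * (g2 * g6)) * qD126 := by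
  have h := eq_of_chk (look := spblk) (n := 64) (H := H64) [UqD126, UaD] [Ug1, Ug2, Ug6, UqD126] [qD126, aD] [g1, g2, g6, qD126]
    (List.Forall₂.cons rep_qD126 (List.Forall₂.cons rep_aD List.Forall₂.nil))
    (List.Forall₂.cons rep_g1 (List.Forall₂.cons rep_g2 (List.Forall₂.cons rep_g6 (List.Forall₂.cons rep_qD126 List.Forall₂.nil))))
    (by decide +kernel)
  simpa only [List.prod_cons, List.prod_nil, mul_one, mul_assoc] using h

theorem qD347_conj : qD347 * aD = (g3 * (g4 * g7)) * qD347 := by
  have h := eq_of_chk (look := spblk) (n := 64) (H := H64) [UqD347, UaD] [Ug3, Ug4, Ug7, UqD347] [qD347, aD] [g3, g4, g7, qD347]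
    (List.Forall₂.cons rep_qD347 (List.Forall₂.cons rep_aD List.Forall₂.nil))
    (List.Forall₂.cons rep_g3 (List.Forall₂.cons rep_g4 (List.Forall₂.cons rep_g7 (List.Forall₂.cons rep_qD347 List.Forall₂.nil))))
    (by decide +kernel)
  simpa only [List.prod_cons, List.prod_nil, mul_one, mul_assoc] using h

theorem g0_g3 : g0 * g3 = g3 * g0 := by
  have h := eq_of_chk (look := spblk) (n := 64) (H := H64) [Ug0, Ug3] [Ug3, Ug0] [g0, g3] [g3, g0]
    (List.Forall₂.cons rep_g0 (List.Forall₂.cons rep_g3 List.Forall₂.nil))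
    (List.Forall₂.cons rep_g3 (List.Forall₂.cons rep_g0 List.Forall₂.nil))
    (by decide +kernel)
  simpa only [List.prod_cons, List.prod_nil, mul_one, mul_assoc] using h

theorem g3_sq : g3 * g3 = 1 := by
  have h := eq_of_chk (look := spblk) (n := 64) (H := H64) [Ug3, Ug3] [] [g3, g3] []
    (List.Forall₂.cons rep_g3 (List.Forall₂.cons rep_g3 List.Forall₂.nil))
    List.Forall₂.nil
    (by decide +kernel)
  simpa only [List.prod_cons, List.prod_nil, mul_one, mul_assoc] using h

theorem a3_cube : a3 * a3 * a3 = 1 := by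
  have h := eq_of_chk (look := spblk) (n := 64) (H := H64) [Ua3, Ua3, Ua3] [] [a3, a3, a3] []
    (List.Forall₂.cons rep_a3 (List.Forall₂.cons rep_a3 (List.Forall₂.cons rep_a3 List.Forall₂.nil)))
    List.Forall₂.nil
    (by decide +kernel)
  simpa only [List.prod_cons, List.prod_nil, mul_one, mul_assoc] using h

theorem b3_cube : b3 * b3 * b3 = 1 := by
  have h := eq_of_chk (look := spblk) (n := 64) (H := H64) [Ub3, Ub3, Ub3] [] [b3, b3, b3] []
    (List.Forall₂.cons rep_b3 (List.Forall₂.cons rep_b3 (List.Forall₂.cons rep_b3 List.Forall₂.nil)))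
    List.Forall₂.nil
    (by decide +kernel)
  simpa only [List.prod_cons, List.prod_nil, mul_one, mul_assoc] using h

theorem c3_cube : c3 * c3 * c3 = 1 := by
  have h := eq_of_chk (look := spblk) (n := 64) (H := H64) [Uc3, Uc3, Uc3] [] [c3, c3, c3] []
    (List.Forall₂.cons rep_c3 (List.Forall₂.cons rep_c3 (List.Forall₂.cons rep_c3 List.Forall₂.nil)))
    List.Forall₂.nil
    (by decide +kernel)
  simpa only [List.prod_cons, List.prod_nil, mul_one, mul_assoc] using h

theorem t3_cube : t3 * t3 * t3 = 1 := by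
  have h := eq_of_chk (look := spblk) (n := 64) (H := H64) [Ut3, Ut3, Ut3] [] [t3, t3, t3] []
    (List.Forall₂.cons rep_t3 (List.Forall₂.cons rep_t3 (List.Forall₂.cons rep_t3 List.Forall₂.nil)))
    List.Forall₂.nil
    (by decide +kernel)
  simpa only [List.prod_cons, List.prod_nil, mul_one, mul_assoc] using h

theorem t3_a3 : t3 * a3 = b3 * t3 := by
  have h := eq_of_chk (look := spblk) (n := 64) (H := H64) [Ut3, Ua3] [Ub3, Ut3] [t3, a3] [b3, t3]
    (List.Forall₂.cons rep_t3 (List.Forall₂.cons rep_a3 List.Forall₂.nil))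
    (List.Forall₂.cons rep_b3 (List.Forall₂.cons rep_t3 List.Forall₂.nil))
    (by decide +kernel)
  simpa only [List.prod_cons, List.prod_nil, mul_one, mul_assoc] using h

theorem t3_b3 : t3 * b3 = c3 * t3 := by
  have h := eq_of_chk (look := spblk) (n := 64) (H := H64) [Ut3, Ub3] [Uc3, Ut3] [t3, b3] [c3, t3]
    (List.Forall₂.cons rep_t3 (List.Forall₂.cons rep_b3 List.Forall₂.nil))
    (List.Forall₂.cons rep_c3 (List.Forall₂.cons rep_t3 List.Forall₂.nil))
    (by decide +kernel)
  simpa only [List.prod_cons, List.prod_nil, mul_one, mul_assoc] using h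

theorem t3_c3 : t3 * c3 = a3 * t3 := by
  have h := eq_of_chk (look := spblk) (n := 64) (H := H64) [Ut3, Uc3] [Ua3, Ut3] [t3, c3] [a3, t3]
    (List.Forall₂.cons rep_t3 (List.Forall₂.cons rep_c3 List.Forall₂.nil))
    (List.Forall₂.cons rep_a3 (List.Forall₂.cons rep_t3 List.Forall₂.nil))
    (by decide +kernel)
  simpa only [List.prod_cons, List.prod_nil, mul_one, mul_assoc] using h

theorem a3_b3 : a3 * b3 = b3 * a3 := by
  have h := eq_of_chk (look := spblk) (n := 64) (H := H64) [Ua3, Ub3] [Ub3, Ua3] [a3, b3] [b3, a3]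
    (List.Forall₂.cons rep_a3 (List.Forall₂.cons rep_b3 List.Forall₂.nil))
    (List.Forall₂.cons rep_b3 (List.Forall₂.cons rep_a3 List.Forall₂.nil))
    (by decide +kernel)
  simpa only [List.prod_cons, List.prod_nil, mul_one, mul_assoc] using h

theorem a3_c3 : a3 * c3 = c3 * a3 := by
  have h := eq_of_chk (look := spblk) (n := 64) (H := H64) [Ua3, Uc3] [Uc3, Ua3] [a3, c3] [c3, a3]
    (List.Forall₂.cons rep_a3 (List.Forall₂.cons rep_c3 List.Forall₂.nil))
    (List.Forall₂.cons rep_c3 (List.Forall₂.cons rep_a3 List.Forall₂.nil))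
    (by decide +kernel)
  simpa only [List.prod_cons, List.prod_nil, mul_one, mul_assoc] using h

theorem b3_c3 : b3 * c3 = c3 * b3 := by
  have h := eq_of_chk (look := spblk) (n := 64) (H := H64) [Ub3, Uc3] [Uc3, Ub3] [b3, c3] [c3, b3]
    (List.Forall₂.cons rep_b3 (List.Forall₂.cons rep_c3 List.Forall₂.nil))
    (List.Forall₂.cons rep_c3 (List.Forall₂.cons rep_b3 List.Forall₂.nil))
    (by decide +kernel)
  simpa only [List.prod_cons, List.prod_nil, mul_one, mul_assoc] using h

theorem s3_a3 : a3 * s3 * a3 = s3 := by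
  have h := eq_of_chk (look := spblk) (n := 64) (H := H64) [Ua3, Us3, Ua3] [Us3] [a3, s3, a3] [s3]
    (List.Forall₂.cons rep_a3 (List.Forall₂.cons rep_s3 (List.Forall₂.cons rep_a3 List.Forall₂.nil)))
    (List.Forall₂.cons rep_s3 List.Forall₂.nil)
    (by decide +kernel)
  simpa only [List.prod_cons, List.prod_nil, mul_one, mul_assoc] using h

theorem s3_b3 : s3 * b3 = b3 * s3 := by
  have h := eq_of_chk (look := spblk) (n := 64) (H := H64) [Us3, Ub3] [Ub3, Us3] [s3, b3] [b3, s3]
    (List.Forall₂.cons rep_s3 (List.Forall₂.cons rep_b3 List.Forall₂.nil))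
    (List.Forall₂.cons rep_b3 (List.Forall₂.cons rep_s3 List.Forall₂.nil))
    (by decide +kernel)
  simpa only [List.prod_cons, List.prod_nil, mul_one, mul_assoc] using h

theorem s3_c3 : s3 * c3 = c3 * s3 := by
  have h := eq_of_chk (look := spblk) (n := 64) (H := H64) [Us3, Uc3] [Uc3, Us3] [s3, c3] [c3, s3]
    (List.Forall₂.cons rep_s3 (List.Forall₂.cons rep_c3 List.Forall₂.nil))
    (List.Forall₂.cons rep_c3 (List.Forall₂.cons rep_s3 List.Forall₂.nil))
    (by decide +kernel)
  simpa only [List.prod_cons, List.prod_nil, mul_one, mul_assoc] using h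

theorem b3i_def : b3 * b3i = 1 := by
  have h := eq_of_chk (look := spblk) (n := 64) (H := H64) [Ub3, Ub3i] [] [b3, b3i] []
    (List.Forall₂.cons rep_b3 (List.Forall₂.cons rep_b3i List.Forall₂.nil))
    List.Forall₂.nil
    (by decide +kernel)
  simpa only [List.prod_cons, List.prod_nil, mul_one, mul_assoc] using h

theorem c3i_def : c3 * c3i = 1 := by
  have h := eq_of_chk (look := spblk) (n := 64) (H := H64) [Uc3, Uc3i] [] [c3, c3i] []
    (List.Forall₂.cons rep_c3 (List.Forall₂.cons rep_c3i List.Forall₂.nil))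
    List.Forall₂.nil
    (by decide +kernel)
  simpa only [List.prod_cons, List.prod_nil, mul_one, mul_assoc] using h

theorem uu_def : uu = a3 * b3i := by
  have h := eq_of_chk (look := spblk) (n := 64) (H := H64) [Uuu] [Ua3, Ub3i] [uu] [a3, b3i]
    (List.Forall₂.cons rep_uu List.Forall₂.nil)
    (List.Forall₂.cons rep_a3 (List.Forall₂.cons rep_b3i List.Forall₂.nil))
    (by decide +kernel)
  simpa only [List.prod_cons, List.prod_nil, mul_one, mul_assoc] using h

theorem vv_def : vv = b3 * c3i := by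
  have h := eq_of_chk (look := spblk) (n := 64) (H := H64) [Uvv] [Ub3, Uc3i] [vv] [b3, c3i]
    (List.Forall₂.cons rep_vv List.Forall₂.nil)
    (List.Forall₂.cons rep_b3 (List.Forall₂.cons rep_c3i List.Forall₂.nil))
    (by decide +kernel)
  simpa only [List.prod_cons, List.prod_nil, mul_one, mul_assoc] using h

theorem d01_def : vv = d01 := by
  have h := eq_of_chk (look := spblk) (n := 64) (H := H64) [Uvv] [Ud01] [vv] [d01]
    (List.Forall₂.cons rep_vv List.Forall₂.nil)
    (List.Forall₂.cons rep_d01 List.Forall₂.nil)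
    (by decide +kernel)
  simpa only [List.prod_cons, List.prod_nil, mul_one, mul_assoc] using h

theorem d02_def : vv * vv = d02 := by
  have h := eq_of_chk (look := spblk) (n := 64) (H := H64) [Uvv, Uvv] [Ud02] [vv, vv] [d02]
    (List.Forall₂.cons rep_vv (List.Forall₂.cons rep_vv List.Forall₂.nil))
    (List.Forall₂.cons rep_d02 List.Forall₂.nil)
    (by decide +kernel)
  simpa only [List.prod_cons, List.prod_nil, mul_one, mul_assoc] using h

theorem d10_def : uu = d10 := by
  have h := eq_of_chk (look := spblk) (n := 64) (H := H64) [Uuu] [Ud10] [uu] [d10]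
    (List.Forall₂.cons rep_uu List.Forall₂.nil)
    (List.Forall₂.cons rep_d10 List.Forall₂.nil)
    (by decide +kernel)
  simpa only [List.prod_cons, List.prod_nil, mul_one, mul_assoc] using h

theorem d11_def : uu * vv = d11 := by
  have h := eq_of_chk (look := spblk) (n := 64) (H := H64) [Uuu, Uvv] [Ud11] [uu, vv] [d11]
    (List.Forall₂.cons rep_uu (List.Forall₂.cons rep_vv List.Forall₂.nil))
    (List.Forall₂.cons rep_d11 List.Forall₂.nil)
    (by decide +kernel)
  simpa only [List.prod_cons, List.prod_nil, mul_one, mul_assoc] using h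

theorem d12_def : uu * vv * vv = d12 := by
  have h := eq_of_chk (look := spblk) (n := 64) (H := H64) [Uuu, Uvv, Uvv] [Ud12] [uu, vv, vv] [d12]
    (List.Forall₂.cons rep_uu (List.Forall₂.cons rep_vv (List.Forall₂.cons rep_vv List.Forall₂.nil)))
    (List.Forall₂.cons rep_d12 List.Forall₂.nil)
    (by decide +kernel)
  simpa only [List.prod_cons, List.prod_nil, mul_one, mul_assoc] using h

theorem d20_def : uu * uu = d20 := by
  have h := eq_of_chk (look := spblk) (n := 64) (H := H64) [Uuu, Uuu] [Ud20] [uu, uu] [d20]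
    (List.Forall₂.cons rep_uu (List.Forall₂.cons rep_uu List.Forall₂.nil))
    (List.Forall₂.cons rep_d20 List.Forall₂.nil)
    (by decide +kernel)
  simpa only [List.prod_cons, List.prod_nil, mul_one, mul_assoc] using h

theorem d21_def : uu * uu * vv = d21 := by
  have h := eq_of_chk (look := spblk) (n := 64) (H := H64) [Uuu, Uuu, Uvv] [Ud21] [uu, uu, vv] [d21]
    (List.Forall₂.cons rep_uu (List.Forall₂.cons rep_uu (List.Forall₂.cons rep_vv List.Forall₂.nil)))
    (List.Forall₂.cons rep_d21 List.Forall₂.nil)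
    (by decide +kernel)
  simpa only [List.prod_cons, List.prod_nil, mul_one, mul_assoc] using h

theorem d22_def : uu * uu * vv * vv = d22 := by
  have h := eq_of_chk (look := spblk) (n := 64) (H := H64) [Uuu, Uuu, Uvv, Uvv] [Ud22] [uu, uu, vv, vv] [d22]
    (List.Forall₂.cons rep_uu (List.Forall₂.cons rep_uu (List.Forall₂.cons rep_vv (List.Forall₂.cons rep_vv List.Forall₂.nil))))
    (List.Forall₂.cons rep_d22 List.Forall₂.nil)
    (by decide +kernel)
  simpa only [List.prod_cons, List.prod_nil, mul_one, mul_assoc] using h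

theorem d01_ne : d01 ≠ 1 :=
  ne_one_of_moves' Ud01 d01 rep_d01 2 (by norm_num) (by decide +kernel)

theorem d02_ne : d02 ≠ 1 :=
  ne_one_of_moves' Ud02 d02 rep_d02 2 (by norm_num) (by decide +kernel)

theorem d10_ne : d10 ≠ 1 :=
  ne_one_of_moves' Ud10 d10 rep_d10 1 (by norm_num) (by decide +kernel)

theorem d11_ne : d11 ≠ 1 :=
  ne_one_of_moves' Ud11 d11 rep_d11 1 (by norm_num) (by decide +kernel)

theorem d12_ne : d12 ≠ 1 :=
  ne_one_of_moves' Ud12 d12 rep_d12 1 (by norm_num) (by decide +kernel)

theorem d20_ne : d20 ≠ 1 :=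
  ne_one_of_moves' Ud20 d20 rep_d20 1 (by norm_num) (by decide +kernel)

theorem d21_ne : d21 ≠ 1 :=
  ne_one_of_moves' Ud21 d21 rep_d21 1 (by norm_num) (by decide +kernel)

theorem d22_ne : d22 ≠ 1 :=
  ne_one_of_moves' Ud22 d22 rep_d22 1 (by norm_num) (by decide +kernel)

end Cfsg.Agent.Lib.Helper5.Sp6M
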