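import Mathlib
import Cfsg.Agent.Lib.Helper5.Sp6MC
import Cfsg.Agent.Lib.Helper5.PcTE
import Cfsg.Agent.Lib.Helper5.PcTF

set_option autoImplicit false

/-! Word lists for the orders of the Sylow subgroups of the symplectic group of degree six over the field with two elements, and the
certificate for the splitting of the Sylow 2-subgroup (generated). -/

namespace Cfsg.Agent.Lib.Helper5.Sp6M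

open Cfsg.Agent.Lib.helper23 Cfsg.Agent.Lib.Helper5.CP Cfsg.Agent.Lib.Helper5.PcT

/-- the base points for signatures -/
def sbase : List ℕ := [1, 2, 4, 8, 16, 32]

theorem sbase_lt : ∀ b ∈ sbase, b < 64 := by decide

theorem chk_id : eqW spblk 64 Uid [] = true := by decide +kernel

/-- coded generators -/
def gT2 : List ℕ := [Ug0, Ug1, Ug2, Ug3, Ug4, Ug5, Ug6, Ug7, Ug8]

/-- generators -/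
noncomputable def gG2 : List HG := [g0, g1, g2, g3, g4, g5, g6, g7, g8]

theorem gRep2 : List.Forall₂ RepH gT2 gG2 :=
  (List.Forall₂.cons rep_g0 (List.Forall₂.cons rep_g1 (List.Forall₂.cons rep_g2 (List.Forall₂.cons rep_g3 (List.Forall₂.cons rep_g4 (List.Forall₂.cons rep_g5 (List.Forall₂.cons rep_g6 (List.Forall₂.cons rep_g7 (List.Forall₂.cons rep_g8 List.Forall₂.nil)))))))))

/-- words with pairwise different values -/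
def words2 : List (List ℕ) := [[], [8], [0], [0, 8], [2], [2, 8], [0, 2], [0, 2, 8], [7], [7, 8], [0, 7, 8], [0, 7], [2, 7], [2, 7, 8], [0, 2, 7, 8], [0, 2, 7], [6], [6, 8], [0, 6, 7, 8], [0, 6, 7], [2, 6], [2, 6, 8], [0, 2, 6, 7, 8], [0, 2, 6, 7], [6, 7], [6, 7, 8], [0, 6], [0, 6, 8], [2, 6, 7], [2, 6, 7, 8], [0, 2, 6], [0, 2, 6, 8], [1], [1, 8], [0, 1], [0, 1, 8], [1, 2], [1, 2, 8], [0, 1, 2], [0, 1, 2, 8], [1, 7], [1, 7, 8], [0, 1, 7, 8], [0, 1, 7], [1, 2, 7], [1, 2, 7, 8], [0, 1, 2, 7, 8], [0, 1, 2, 7], [1, 6], [1, 6, 8], [0, 1, 6, 7, 8], [0, 1, 6, 7], [1, 2, 6], [1, 2, 6, 8], [0, 1, 2, 6, 7, 8], [0, 1, 2, 6, 7], [1, 6, 7], [1, 6, 7, 8], [0, 1, 6], [0, 1, 6, 8], [1, 2, 6, 7], [1, 2, 6, 7, 8], [0, 1, 2, 6], [0, 1, 2, 6, 8], [5], [5, 8], [0, 5], [0, 5, 8], [2,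 5, 8], [2, 5], [0, 2, 5, 8], [0, 2, 5], [5, 7], [5, 7, 8], [0, 5, 7, 8], [0, 5, 7], [2, 5, 7, 8], [2, 5, 7], [0, 2, 5, 7], [0, 2, 5, 7, 8], [5, 6], [5, 6, 8], [0, 5, 6, 7, 8], [0, 5, 6, 7], [2, 5, 6, 8], [2, 5, 6], [0, 2, 5, 6, 7], [0, 2, 5, 6, 7, 8], [5, 6, 7], [5, 6, 7, 8], [0, 5, 6], [0, 5, 6, 8], [2, 5, 6, 7, 8], [2, 5, 6, 7], [0, 2, 5, 6, 8], [0, 2, 5, 6], [1, 5], [1, 5, 8], [0, 1, 5, 8], [0, 1, 5], [1, 2, 5, 8], [1, 2, 5], [0, 1, 2, 5], [0, 1, 2, 5, 8], [1, 5, 7], [1, 5, 7, 8], [0, 1, 5, 7], [0, 1, 5, 7, 8], [1, 2, 5, 7, 8], [1, 2, 5, 7], [0, 1, 2, 5, 7, 8], [0, 1, 2, 5, 7], [1, 5, 6], [1, 5, 6, 8], [0, 1, 5, 6, 7], [0, 1, 5, 6, 7, 8], [1, 2, 5, 6, 8], [1, 2, 5, 6], [0, 1, 2, 5, 6, 7, 8], [0, 1, 2, 5, 6, 7], [1, 5, 6, 7], [1, 5, 6, 7, 8], [0, 1, 5, 6, 8], [0,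 1, 5, 6], [1, 2, 5, 6, 7, 8], [1, 2, 5, 6, 7], [0, 1, 2, 5, 6], [0, 1, 2, 5, 6, 8], [4], [4, 8], [0, 4, 5], [0, 4, 5, 8], [2, 4, 7], [2, 4, 7, 8], [0, 2, 4, 5, 7], [0, 2, 4, 5, 7, 8], [4, 7], [4, 7, 8], [0, 4, 5, 7, 8], [0, 4, 5, 7], [2, 4], [2, 4, 8], [0, 2, 4, 5, 8], [0, 2, 4, 5], [4, 6], [4, 6, 8], [0, 4, 5, 6, 7, 8], [0, 4, 5, 6, 7], [2, 4, 6, 7], [2, 4, 6, 7, 8], [0, 2, 4, 5, 6, 8], [0, 2, 4, 5, 6], [4, 6, 7], [4, 6, 7, 8], [0, 4, 5, 6], [0, 4, 5, 6, 8], [2, 4, 6], [2, 4, 6, 8], [0, 2, 4, 5, 6, 7], [0, 2, 4, 5, 6, 7, 8], [1, 4, 6], [1, 4, 6, 8], [0, 1, 4, 5, 6, 8], [0, 1, 4, 5, 6], [1, 2, 4, 6, 7], [1, 2, 4, 6, 7, 8], [0, 1, 2, 4, 5, 6, 7, 8], [0, 1, 2, 4, 5, 6, 7], [1, 4, 6, 7], [1, 4, 6, 7, 8], [0, 1, 4, 5, 6, 7], [0, 1, 4, 5, 6, 7, 8], [1, 2, 4, 6], [1, 2,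 4, 6, 8], [0, 1, 2, 4, 5, 6], [0, 1, 2, 4, 5, 6, 8], [1, 4], [1, 4, 8], [0, 1, 4, 5, 7], [0, 1, 4, 5, 7, 8], [1, 2, 4, 7], [1, 2, 4, 7, 8], [0, 1, 2, 4, 5], [0, 1, 2, 4, 5, 8], [1, 4, 7], [1, 4, 7, 8], [0, 1, 4, 5, 8], [0, 1, 4, 5], [1, 2, 4], [1, 2, 4, 8], [0, 1, 2, 4, 5, 7, 8], [0, 1, 2, 4, 5, 7], [4, 5], [4, 5, 8], [0, 4], [0, 4, 8], [2, 4, 5, 7, 8], [2, 4, 5, 7], [0, 2, 4, 7, 8], [0, 2, 4, 7], [4, 5, 7], [4, 5, 7, 8], [0, 4, 7, 8], [0, 4, 7], [2, 4, 5, 8], [2, 4, 5], [0, 2, 4], [0, 2, 4, 8], [4, 5, 6], [4, 5, 6, 8], [0, 4, 6, 7, 8], [0, 4, 6, 7], [2, 4, 5, 6, 7, 8], [2, 4, 5, 6, 7], [0, 2, 4, 6], [0, 2, 4, 6, 8], [4, 5, 6, 7], [4, 5, 6, 7, 8], [0, 4, 6], [0, 4, 6, 8], [2, 4, 5, 6, 8], [2, 4, 5, 6], [0, 2, 4, 6, 7, 8], [0, 2, 4, 6, 7], [1, 4, 5, 6], [1, 4, 5,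 6, 8], [0, 1, 4, 6], [0, 1, 4, 6, 8], [1, 2, 4, 5, 6, 7, 8], [1, 2, 4, 5, 6, 7], [0, 1, 2, 4, 6, 7, 8], [0, 1, 2, 4, 6, 7], [1, 4, 5, 6, 7], [1, 4, 5, 6, 7, 8], [0, 1, 4, 6, 7, 8], [0, 1, 4, 6, 7], [1, 2, 4, 5, 6, 8], [1, 2, 4, 5, 6], [0, 1, 2, 4, 6], [0, 1, 2, 4, 6, 8], [1, 4, 5], [1, 4, 5, 8], [0, 1, 4, 7, 8], [0, 1, 4, 7], [1, 2, 4, 5, 7, 8], [1, 2, 4, 5, 7], [0, 1, 2, 4], [0, 1, 2, 4, 8], [1, 4, 5, 7], [1, 4, 5, 7, 8], [0, 1, 4], [0, 1, 4, 8], [1, 2, 4, 5, 8], [1, 2, 4, 5], [0, 1, 2, 4, 7, 8], [0, 1, 2, 4, 7], [3], [3, 8], [0, 3], [0, 3, 8], [2, 3, 5, 8], [2, 3, 5], [0, 2, 3, 5, 8], [0, 2, 3, 5], [3, 7], [3, 7, 8], [0, 3, 7, 8], [0, 3, 7], [2, 3, 5, 7, 8], [2, 3, 5, 7], [0, 2, 3, 5, 7], [0, 2, 3, 5, 7, 8], [3, 6], [3, 6, 8], [0, 3, 6, 7, 8], [0, 3, 6, 7], [2,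 3, 5, 6, 8], [2, 3, 5, 6], [0, 2, 3, 5, 6, 7], [0, 2, 3, 5, 6, 7, 8], [3, 6, 7], [3, 6, 7, 8], [0, 3, 6], [0, 3, 6, 8], [2, 3, 5, 6, 7, 8], [2, 3, 5, 6, 7], [0, 2, 3, 5, 6, 8], [0, 2, 3, 5, 6], [1, 3, 4, 6], [1, 3, 4, 6, 8], [0, 1, 3, 4, 6], [0, 1, 3, 4, 6, 8], [1, 2, 3, 4, 5, 6, 7, 8], [1, 2, 3, 4, 5, 6, 7], [0, 1, 2, 3, 4, 5, 6, 7, 8], [0, 1, 2, 3, 4, 5, 6, 7], [1, 3, 4, 6, 7], [1, 3, 4, 6, 7, 8], [0, 1, 3, 4, 6, 7, 8], [0, 1, 3, 4, 6, 7], [1, 2, 3, 4, 5, 6, 8], [1, 2, 3, 4, 5, 6], [0, 1, 2, 3, 4, 5, 6], [0, 1, 2, 3, 4, 5, 6, 8], [1, 3, 4], [1, 3, 4, 8], [0, 1, 3, 4, 7, 8], [0, 1, 3, 4, 7], [1, 2, 3, 4, 5, 7, 8], [1, 2, 3, 4, 5, 7], [0, 1, 2, 3, 4, 5], [0, 1, 2, 3, 4, 5, 8], [1, 3, 4, 7], [1, 3, 4, 7, 8], [0, 1, 3, 4], [0, 1, 3, 4, 8], [1, 2, 3, 4, 5, 8], [1, 2,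 3, 4, 5], [0, 1, 2, 3, 4, 5, 7, 8], [0, 1, 2, 3, 4, 5, 7], [3, 5], [3, 5, 8], [0, 3, 5], [0, 3, 5, 8], [2, 3], [2, 3, 8], [0, 2, 3], [0, 2, 3, 8], [3, 5, 7], [3, 5, 7, 8], [0, 3, 5, 7, 8], [0, 3, 5, 7], [2, 3, 7], [2, 3, 7, 8], [0, 2, 3, 7, 8], [0, 2, 3, 7], [3, 5, 6], [3, 5, 6, 8], [0, 3, 5, 6, 7, 8], [0, 3, 5, 6, 7], [2, 3, 6], [2, 3, 6, 8], [0, 2, 3, 6, 7, 8], [0, 2, 3, 6, 7], [3, 5, 6, 7], [3, 5, 6, 7, 8], [0, 3, 5, 6], [0, 3, 5, 6, 8], [2, 3, 6, 7], [2, 3, 6, 7, 8], [0, 2, 3, 6], [0, 2, 3, 6, 8], [1, 3, 4, 5, 6], [1, 3, 4, 5, 6, 8], [0, 1, 3, 4, 5, 6, 8], [0, 1, 3, 4, 5, 6], [1, 2, 3, 4, 6, 7], [1, 2, 3, 4, 6, 7, 8], [0, 1, 2, 3, 4, 6, 7, 8], [0, 1, 2, 3, 4, 6, 7], [1, 3, 4, 5, 6, 7], [1, 3, 4, 5, 6, 7, 8], [0, 1, 3, 4, 5, 6, 7], [0, 1, 3, 4, 5, 6, 7, 8], [1,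 2, 3, 4, 6], [1, 2, 3, 4, 6, 8], [0, 1, 2, 3, 4, 6], [0, 1, 2, 3, 4, 6, 8], [1, 3, 4, 5], [1, 3, 4, 5, 8], [0, 1, 3, 4, 5, 7], [0, 1, 3, 4, 5, 7, 8], [1, 2, 3, 4, 7], [1, 2, 3, 4, 7, 8], [0, 1, 2, 3, 4], [0, 1, 2, 3, 4, 8], [1, 3, 4, 5, 7], [1, 3, 4, 5, 7, 8], [0, 1, 3, 4, 5, 8], [0, 1, 3, 4, 5], [1, 2, 3, 4], [1, 2, 3, 4, 8], [0, 1, 2, 3, 4, 7, 8], [0, 1, 2, 3, 4, 7], [3, 4], [3, 4, 8], [0, 3, 4, 5], [0, 3, 4, 5, 8], [2, 3, 4, 5, 7, 8], [2, 3, 4, 5, 7], [0, 2, 3, 4, 7, 8], [0, 2, 3, 4, 7], [3, 4, 7], [3, 4, 7, 8], [0, 3, 4, 5, 7, 8], [0, 3, 4, 5, 7], [2, 3, 4, 5, 8], [2, 3, 4, 5], [0, 2, 3, 4], [0, 2, 3, 4, 8], [3, 4, 6], [3, 4, 6, 8], [0, 3, 4, 5, 6, 7, 8], [0, 3, 4, 5, 6, 7], [2, 3, 4, 5, 6, 7, 8], [2, 3, 4, 5, 6, 7], [0, 2, 3, 4, 6], [0, 2, 3, 4, 6, 8], [3, 4,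 6, 7], [3, 4, 6, 7, 8], [0, 3, 4, 5, 6], [0, 3, 4, 5, 6, 8], [2, 3, 4, 5, 6, 8], [2, 3, 4, 5, 6], [0, 2, 3, 4, 6, 7, 8], [0, 2, 3, 4, 6, 7], [1, 3], [1, 3, 8], [0, 1, 3, 5, 8], [0, 1, 3, 5], [1, 2, 3, 5, 8], [1, 2, 3, 5], [0, 1, 2, 3], [0, 1, 2, 3, 8], [1, 3, 7], [1, 3, 7, 8], [0, 1, 3, 5, 7], [0, 1, 3, 5, 7, 8], [1, 2, 3, 5, 7, 8], [1, 2, 3, 5, 7], [0, 1, 2, 3, 7, 8], [0, 1, 2, 3, 7], [1, 3, 6], [1, 3, 6, 8], [0, 1, 3, 5, 6, 7], [0, 1, 3, 5, 6, 7, 8], [1, 2, 3, 5, 6, 8], [1, 2, 3, 5, 6], [0, 1, 2, 3, 6, 7, 8], [0, 1, 2, 3, 6, 7], [1, 3, 6, 7], [1, 3, 6, 7, 8], [0, 1, 3, 5, 6, 8], [0, 1, 3, 5, 6], [1, 2, 3, 5, 6, 7, 8], [1, 2, 3, 5, 6, 7], [0, 1, 2, 3, 6], [0, 1, 2, 3, 6, 8], [3, 4, 5], [3, 4, 5, 8], [0, 3, 4], [0, 3, 4, 8], [2, 3, 4, 7], [2, 3, 4, 7, 8], [0, 2,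 3, 4, 5, 7], [0, 2, 3, 4, 5, 7, 8], [3, 4, 5, 7], [3, 4, 5, 7, 8], [0, 3, 4, 7, 8], [0, 3, 4, 7], [2, 3, 4], [2, 3, 4, 8], [0, 2, 3, 4, 5, 8], [0, 2, 3, 4, 5], [3, 4, 5, 6], [3, 4, 5, 6, 8], [0, 3, 4, 6, 7, 8], [0, 3, 4, 6, 7], [2, 3, 4, 6, 7], [2, 3, 4, 6, 7, 8], [0, 2, 3, 4, 5, 6, 8], [0, 2, 3, 4, 5, 6], [3, 4, 5, 6, 7], [3, 4, 5, 6, 7, 8], [0, 3, 4, 6], [0, 3, 4, 6, 8], [2, 3, 4, 6], [2, 3, 4, 6, 8], [0, 2, 3, 4, 5, 6, 7], [0, 2, 3, 4, 5, 6, 7, 8], [1, 3, 5], [1, 3, 5, 8], [0, 1, 3], [0, 1, 3, 8], [1, 2, 3], [1, 2, 3, 8], [0, 1, 2, 3, 5], [0, 1, 2, 3, 5, 8], [1, 3, 5, 7], [1, 3, 5, 7, 8], [0, 1, 3, 7, 8], [0, 1, 3, 7], [1, 2, 3, 7], [1, 2, 3, 7, 8], [0, 1, 2, 3, 5, 7, 8], [0, 1, 2, 3, 5, 7], [1, 3, 5, 6], [1, 3, 5, 6, 8], [0, 1, 3, 6, 7, 8], [0, 1, 3, 6, 7], [1,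 2, 3, 6], [1, 2, 3, 6, 8], [0, 1, 2, 3, 5, 6, 7, 8], [0, 1, 2, 3, 5, 6, 7], [1, 3, 5, 6, 7], [1, 3, 5, 6, 7, 8], [0, 1, 3, 6], [0, 1, 3, 6, 8], [1, 2, 3, 6, 7], [1, 2, 3, 6, 7, 8], [0, 1, 2, 3, 5, 6], [0, 1, 2, 3, 5, 6, 8]]

theorem words2_length : words2.length = 512 := by decide +kernel

theorem words2_inc : isStrictInc (words2.map fun l => sigW spblk sbase (l.map fun i => gT2.getD i Uid)) = true := by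
  decide +kernel

/-- coded generators -/
def gT3 : List ℕ := [Ua3, Ub3, Uc3, Ut3]

/-- generators -/
noncomputable def gG3 : List HG := [a3, b3, c3, t3]

theorem gRep3 : List.Forall₂ RepH gT3 gG3 :=
  (List.Forall₂.cons rep_a3 (List.Forall₂.cons rep_b3 (List.Forall₂.cons rep_c3 (List.Forall₂.cons rep_t3 List.Forall₂.nil))))

/-- words with pairwise different values -/
def words3 : List (List ℕ) := [[0, 0, 1, 1, 2, 2, 3], [0, 0, 2, 2, 3], [0, 0, 1, 2, 2, 3], [0, 0, 1, 1, 3], [0, 0, 3], [0, 0, 1, 3], [0, 0, 1, 1, 2, 3], [0, 0, 2, 3], [0, 0, 1, 2, 3], [0, 0, 1, 1, 2, 2, 3, 3], [0, 0, 1, 1, 3, 3], [0, 0, 1, 1, 2, 3, 3], [1, 1, 2, 2, 3, 3], [1, 1, 3, 3], [1, 1, 2, 3, 3], [0, 1, 1, 2, 2, 3, 3], [0, 1, 1, 3, 3], [0, 1, 1, 2, 3, 3], [0, 0, 1, 1, 2, 2], [1, 1, 2, 2], [0,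 1, 1, 2, 2], [0, 0, 2, 2], [2, 2], [0, 2, 2], [0, 0, 1, 2, 2], [1, 2, 2], [0, 1, 2, 2], [1, 1, 2, 2, 3], [2, 2, 3], [1, 2, 2, 3], [1, 1, 3], [3], [1, 3], [1, 1, 2, 3], [2, 3], [1, 2, 3], [0, 1, 1, 2, 2, 3], [0, 2, 2, 3], [0, 1, 2, 2, 3], [0, 1, 1, 3], [0, 3], [0, 1, 3], [0, 1, 1, 2, 3], [0, 2, 3], [0, 1, 2, 3], [0, 0, 2, 2, 3, 3], [0, 0, 3, 3], [0, 0, 2, 3, 3], [2, 2, 3, 3], [3, 3], [2, 3, 3], [0, 2, 2, 3, 3], [0, 3, 3], [0, 2, 3, 3], [0, 0, 1, 2, 2, 3, 3], [0, 0, 1, 3, 3], [0, 0, 1, 2, 3, 3], [1, 2, 2, 3, 3], [1, 3, 3], [1, 2, 3, 3], [0, 1, 2, 2, 3, 3], [0, 1, 3, 3], [0, 1, 2, 3, 3], [0, 0, 1, 1], [1, 1], [0, 1, 1], [0, 0], [], [0], [0, 0, 1], [1], [0, 1], [0, 0, 1, 1, 2], [1, 1, 2], [0, 1, 1, 2], [0, 0, 2], [2], [0, 2], [0, 0, 1, 2], [1, 2], [0, 1, 2]]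

theorem words3_length : words3.length = 81 := by decide +kernel

theorem words3_inc : isStrictInc (words3.map fun l => sigW spblk sbase (l.map fun i => gT3.getD i Uid)) = true := by
  decide +kernel

/-- the squares of the polycyclic generators -/
def sqL : List (List ℕ) := [[], [], [], [], [], [], [], [], []]

/-- the commutators of the polycyclic generators -/
def cmL : List (List (List ℕ)) := [[[], [2], [], [], [5], [], [7, 8], [], []], [[], [], [], [4, 6], [], [7], [], [], []], [[], [], [], [5, 8], [7], [], [], [], []], [[], [], [], [], [], [], [], [], []], [[], [], [], [], [], [], [], [], []], [[], [], [], [], [], [], [], [], []], [[], [], [], [], [], [], [], [], []], [[], [], [], [], [], [], [], [], []], [[], [], [], [], [], [], [], [], []]]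

/-- the involution words used -/
def invW : List (List ℕ) := [[0], [1], [2], [4], [5], [0, 3], [1, 8], [2, 6], [3, 7], [1, 2, 6], [3, 4, 7]]

/-- the associativity triples used -/
def triL : List (ℕ × ℕ × ℕ) := [(1, 0, 0), (4, 0, 0), (6, 0, 0), (1, 1, 0), (3, 1, 0), (4, 1, 0), (5, 1, 0), (6, 1, 0), (7, 1, 0), (8, 1, 0), (3, 2, 0), (4, 2, 0), (4, 3, 0), (6, 3, 0), (4, 4, 0), (6, 4, 0), (8, 4, 0), (6, 6, 0), (7, 6, 0), (3, 1, 1), (5, 1, 1), (3, 2, 1), (4, 2, 1), (3, 3, 1), (4, 3, 1), (5, 3, 1), (7, 3, 1), (8, 3, 1)]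

/-- the commuting pairs used -/
def commW : List (List ℕ × List ℕ) := [([0], [3])]

/-- the forms of the correcting exponents -/
def CC : List (List (ℕ × ℕ)) := [[], [], [(0, 1)], [], [(1, 3)], [(0, 4)], [], [(1, 5)], [(0, 6), (1, 5)]]

/-- the certificates -/
def certs : List (List ℕ) := [[0], [], [2, 11], [39], [], [4, 12], [], [0, 5, 8, 12, 13, 17, 19, 21, 22, 25, 26, 27, 28, 31, 33, 36, 38, 39], [4, 12, 21], [], [1], [2, 14], [], [0, 3, 4, 5, 6, 8, 9, 14, 17, 18, 20, 22, 25, 26, 27, 28, 29, 30, 33, 35, 36, 38, 39], [], [1, 2, 7, 9, 14], [33], [0, 1, 4, 5, 6, 8, 17, 19, 22, 25, 26, 27, 28, 29, 36, 38, 39], [], [], [2], [1, 6, 15, 17, 19, 22, 26, 27, 28, 29, 31, 32, 33, 37, 38], [0, 5, 8, 12, 13, 16, 17, 21, 25, 26, 27, 28, 36, 38, 39], [0, 5, 8, 12, 13, 21, 22,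 25, 26, 27, 28, 31, 33, 36, 38, 39], [0, 1, 4, 5, 6, 8, 17, 18, 20, 22, 25, 26, 27, 28, 29, 33, 36, 38, 39], [19], [20], [], [], [], [0, 5, 39], [3, 8, 10, 12, 13, 16, 17, 18, 19, 20, 21, 25, 26, 27, 28, 29, 31, 32], [23], [0, 1, 2, 4, 5, 6, 7, 10, 12, 13, 16, 19, 21, 22, 31, 32, 33, 34, 35, 36, 38, 39], [0, 5, 8, 31, 33, 39], [0, 5, 8, 24, 31, 33, 39], [], [], [], [], [3], [4, 25], [35], [12, 13, 16, 17, 18, 19, 20, 21, 25, 26, 27, 28, 29, 31, 32], [0, 4, 5, 8, 12, 13, 16, 18, 20, 21, 22, 28, 29, 32, 33, 36, 37, 39], [], [], [], [], [], [4], [0, 4, 5, 8, 25, 31, 33, 36, 37, 39], [17, 19, 22], [27], [], [], [], [], [], [], [0, 1, 2, 4, 5, 6, 7, 8, 17, 18, 20, 22, 25, 26, 27, 28, 29, 33, 36, 38, 39], [12, 13, 16, 17, 18, 19, 20, 21, 25, 26, 27, 28, 29, 31, 32, 37],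 [0, 4, 5, 8, 12, 13, 16, 18, 20, 21, 22, 28, 29, 32, 33, 36, 37, 38, 39], [], [], [], [], [], [], [], [31, 33], [29], [], [], [], [], [], [], [], [], [0, 4, 5, 8, 17, 19, 22, 25, 26, 27, 28, 29, 36, 38, 39]]

theorem data_ok : dataOK 9 sqL cmL = true := by decide +kernel

theorem cert_ok : certOK (PcD.ofLists 9 sqL cmL) CC (zforms2 (PcD.ofLists 9 sqL cmL) 40 invW triL commW) certs = true := by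
  decide +kernel

theorem rels_ok : relsChk spblk 64 Uid gT2 9 sqL cmL = true := by decide +kernel

end Cfsg.Agent.Lib.Helper5.Sp6M
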