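import Mathlib
import Cfsg.Agent.Lib.Helper5.Sp6MW
import Cfsg.Agent.Lib.Helper5.StemB
import Cfsg.Agent.Lib.Helper5.StemG
import Cfsg.Agent.Lib.Helper5.StemV
import Cfsg.Agent.Lib.helper3.StemTools2

set_option autoImplicit false

/-! The Sylow 2-subgroup of the symplectic group of degree six over the field with two elements
and its double covers. -/

namespace Cfsg.Agent.Lib.Helper5.Sp6M

open Cfsg Cfsg.Agent.Lib.helper23 Cfsg.Agent.Lib.Helper5.CP Cfsg.Agent.Lib.Helper5.PcT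
open Cfsg.Agent.Lib.Helper5.Stem Cfsg.Agent.Lib.helper3
open Subgroup
open scoped commutatorElement

theorem conj_of_mul {a b c : HG} (h : a * b = c * a) : a * b * a⁻¹ = c := by
  rw [h]; group

/-- the Sylow 2-subgroup -/
def P2 : Subgroup HG := closure {x | ∃ i, i < 9 ∧ x = gG2.getD i 1}

theorem rels2 :
    (∀ i, i < 9 → gG2.getD i 1 * gG2.getD i 1 = nfw (fun i => gG2.getD i 1) (sqL.getD i [])) ∧
    (∀ i j, i < j → j < 9 → gG2.getD j 1 * gG2.getD i 1 =
      gG2.getD i 1 * gG2.getD j 1 * nfw (fun i => gG2.getD i 1) ((cmL.getD i []).getD j [])) :=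
  rels_of_chk Uid chk_id gT2 gG2 gRep2 9 sqL cmL rels_ok

theorem card_P2_le : Nat.card P2 ≤ 2 ^ 9 :=
  card_closure_gens_le 9 sqL cmL gG2 data_ok rels2.1 rels2.2 (by simp [gG2])

theorem gG2_mem : ∀ g ∈ gG2, g ∈ P2 := by
  intro g hg
  obtain ⟨i, hi, rfl⟩ := List.mem_iff_getElem.mp hg
  refine subset_closure ⟨i, ?_, ?_⟩
  · simpa [gG2] using hi
  · rw [List.getD_eq_getElem _ _ hi]

theorem card_P2_ge : 512 ≤ Nat.card P2 := by
  have := card_ge_of_words Uid chk_id sbase sbase_lt gT2 gG2 gRep2 P2 gG2_mem words2 words2_inc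
  rwa [words2_length] at this

theorem card_P2 : Nat.card P2 = 512 := le_antisymm card_P2_le card_P2_ge

theorem P2_index : ¬ 2 ∣ P2.index := by
  have h := Subgroup.card_mul_index P2
  rw [card_P2, card_HG] at h
  have : P2.index = 2835 := by omega
  rw [this]
  norm_num

/-- in every double cover the lifts of `g0` and `g3` do not commute -/
theorem lifts_noncomm {Γ : Type*} [Group Γ] [Finite Γ] (σ : Γ →* HG)
    (hσ : Cfsg.IsStemExtension σ) (hcard : Nat.card σ.ker = 2) :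
    ∀ X Y : Γ, σ X = g0 → σ Y = g3 → X * Y ≠ Y * X := by
  obtain ⟨hsurj, hcen, hder⟩ := hσ
  obtain ⟨z, hK⟩ := ker2_of_card hcen hcard
  have hK' := hK
  obtain ⟨hz1, hz2, hσz, hw, hzc⟩ := hK
  have QC : QInv σ aC := by
    refine qinv_of_E8 hsurj hK' aC ebC ecC aC_sq aC_eb aC_ec ebC_ec
      ⟨qCb, conj_of_mul qCb_conj⟩ ⟨qCc, conj_of_mul qCc_conj⟩ ⟨qCab, conj_of_mul qCab_conj⟩
      ⟨qCac, conj_of_mul qCac_conj⟩ ⟨qCbc, conj_of_mul qCbc_conj⟩ ⟨qCabc, conj_of_mul qCabc_conj⟩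
  have qC : ∀ {h v : HG}, h * aC = v * h → QInv σ v := by
    intro h v hh
    have := qinv_conj hsurj QC h
    rwa [conj_of_mul hh] at this
  have QD : QInv σ aD := by
    refine qinv_of_E8 hsurj hK' aD ebD ecD aD_sq aD_eb aD_ec ebD_ec
      ⟨qDb, conj_of_mul qDb_conj⟩ ⟨qDc, conj_of_mul qDc_conj⟩ ⟨qDab, conj_of_mul qDab_conj⟩
      ⟨qDac, conj_of_mul qDac_conj⟩ ⟨qDbc, conj_of_mul qDbc_conj⟩ ⟨qDabc, conj_of_mul qDabc_conj⟩
  have qD : ∀ {h v : HG}, h * aD = v * h → QInv σ v := by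
    intro h v hh
    have := qinv_conj hsurj QD h
    rwa [conj_of_mul hh] at this
  intro X Y hX hY hcomm
  have hQ : ∀ u ∈ invW, QInv σ (nfw (fun i => gG2.getD i 1) u) := by
    intro u hu
    simp only [invW, List.mem_cons, List.not_mem_nil, or_false] at hu
    rcases hu with rfl | rfl | rfl | rfl | rfl | rfl | rfl | rfl | rfl | rfl | rfl
    · show QInv σ (g0 * 1)
      rw [mul_one]; exact qC qC0_conj
    · show QInv σ (g1 * 1)
      rw [mul_one]; exact qC qC1_conj
    · show QInv σ (g2 * 1)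
      rw [mul_one]; exact qC qC2_conj
    · show QInv σ (g4 * 1)
      rw [mul_one]; exact qC qC4_conj
    · show QInv σ (g5 * 1)
      rw [mul_one]; exact qC qC5_conj
    · show QInv σ (g0 * (g3 * 1))
      rw [mul_one]; exact qD qD03_conj
    · show QInv σ (g1 * (g8 * 1))
      rw [mul_one]; exact qD qD18_conj
    · show QInv σ (g2 * (g6 * 1))
      rw [mul_one]; exact qD qD26_conj
    · show QInv σ (g3 * (g7 * 1))
      rw [mul_one]; exact qD qD37_conj
    · show QInv σ (g1 * (g2 * (g6 * 1)))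
      rw [mul_one]; exact qD qD126_conj
    · show QInv σ (g3 * (g4 * (g7 * 1)))
      rw [mul_one]; exact qD qD347_conj
  have hC : ∀ uv ∈ commW, QComm σ (nfw (fun i => gG2.getD i 1) uv.1)
      (nfw (fun i => gG2.getD i 1) uv.2) := by
    intro uv huv
    simp only [commW, List.mem_cons, List.not_mem_nil, or_false] at huv
    subst huv
    show QComm σ (g0 * 1) (g3 * 1)
    rw [mul_one, mul_one]
    exact qcomm_of_lifts hcen hX hY hcomm
  have hg1 : ∀ i, 9 ≤ i → (fun i => gG2.getD i 1) i = 1 := by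
    intro i hi
    exact List.getD_eq_default _ _ (by simpa [gG2] using hi)
  have hS := comm_comap_trivial_of_pc' hsurj hK' 9 sqL cmL (fun i => gG2.getD i 1) hg1
    rels2.1 rels2.2 40 invW triL CC commW certs data_ok cert_ok hQ hC P2 (le_refl _)
    (by rw [card_P2]; norm_num)
  have : Fact (Nat.Prime 2) := ⟨Nat.prime_two⟩
  have := stem_no_prime_of_subgroup σ hsurj hcen hder P2 P2_index hS
    (MonoidHom.mem_ker.mpr hσz) (by rw [pow_two, hz2])
  exact hz1 this

end Cfsg.Agent.Lib.Helper5.Sp6M
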