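import Mathlib
import Cfsg.Agent.Lib.Helper5.Sp6MD
import Cfsg.Agent.Lib.Helper5.StemW
import Cfsg.Agent.Lib.Helper5.StemJ
import Cfsg.Agent.Lib.Helper5.StemS
import Cfsg.Agent.Lib.Helper5.StemT

set_option autoImplicit false

/-! Kernels of stem extensions of the symplectic group of degree six over the field with two
elements have order at most two. -/

namespace Cfsg.Agent.Lib.Helper5.Sp6M

open Cfsg Cfsg.Agent.Lib.helper23 Cfsg.Agent.Lib.Helper5.CP Cfsg.Agent.Lib.Helper5.PcT
open Cfsg.Agent.Lib.Helper5.Stem Cfsg.Agent.Lib.helper3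
open Subgroup
open scoped commutatorElement

/-- the Sylow `3`-subgroup -/
def P3 : Subgroup HG := closure {a3, t3}

theorem a3_mem : a3 ∈ P3 := subset_closure (by simp)
theorem t3_mem : t3 ∈ P3 := subset_closure (by simp)

theorem rt_a : t3 * a3 * t3⁻¹ = b3 := conj_of_mul t3_a3
theorem rt_b : t3 * b3 * t3⁻¹ = c3 := conj_of_mul t3_b3
theorem rt_c : t3 * c3 * t3⁻¹ = a3 := conj_of_mul t3_c3

theorem b3_mem : b3 ∈ P3 := by
  rw [← rt_a]; exact mul_mem (mul_mem t3_mem a3_mem) (inv_mem t3_mem)

theorem c3_mem : c3 ∈ P3 := by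
  rw [← rt_b]; exact mul_mem (mul_mem t3_mem b3_mem) (inv_mem t3_mem)

theorem card_P3_ge : 81 ≤ Nat.card P3 := by
  have h := card_ge_of_words Uid chk_id sbase sbase_lt gT3 gG3 gRep3 P3 ?_ words3 words3_inc
  · rwa [words3_length] at h
  · intro g hg
    simp only [gG3, List.mem_cons, List.not_mem_nil, or_false] at hg
    rcases hg with rfl | rfl | rfl | rfl
    · exact a3_mem
    · exact b3_mem
    · exact c3_mem
    · exact t3_mem

theorem card_N3_le : Nat.card (closure ({a3, b3, c3} : Set HG)) ≤ 27 := by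
  have h1 : Nat.card (closure ({c3} : Set HG)) ≤ 3 := card_closure_singleton_cube_le c3_cube
  have h2 : Nat.card (closure (insert b3 ({c3} : Set HG))) ≤ 3 * Nat.card (closure ({c3} : Set HG)) := by
    apply card_closure_insert_cube_le b3_cube
    intro x hx
    rw [Set.mem_singleton_iff] at hx
    subst hx
    exact b3_c3
  have h3 : Nat.card (closure (insert a3 (insert b3 ({c3} : Set HG)))) ≤
      3 * Nat.card (closure (insert b3 ({c3} : Set HG))) := by
    apply card_closure_insert_cube_le a3_cube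
    intro x hx
    rcases hx with rfl | hx
    · exact a3_b3
    · rw [Set.mem_singleton_iff] at hx
      subst hx
      exact a3_c3
  omega

theorem card_P3_le : Nat.card P3 ≤ 81 := by
  have hle : P3 ≤ closure (insert t3 ({a3, b3, c3} : Set HG)) := by
    apply Subgroup.closure_mono
    intro x hx
    rcases hx with rfl | hx
    · exact Set.mem_insert_of_mem _ (Set.mem_insert _ _)
    · rw [Set.mem_singleton_iff] at hx
      subst hx
      exact Set.mem_insert _ _
  have h1 : Nat.card (closure (insert t3 ({a3, b3, c3} : Set HG))) ≤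
      3 * Nat.card (closure ({a3, b3, c3} : Set HG)) := by
    apply card_closure_insert_pow_le 3 (by norm_num)
    · have : t3 ^ 3 = 1 := by rw [← t3_cube, pow_succ, pow_two]
      rw [this]; exact one_mem _
    · intro x hx
      rcases hx with rfl | rfl | hx
      · rw [rt_a]; exact subset_closure (by simp)
      · rw [rt_b]; exact subset_closure (by simp)
      · rw [Set.mem_singleton_iff] at hx
        subst hx
        rw [rt_c]; exact subset_closure (by simp)
  have h2 := card_N3_le
  have h3 := Subgroup.card_le_of_le hle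
  omega

theorem card_P3 : Nat.card P3 = 81 := le_antisymm card_P3_le card_P3_ge

theorem P3_index : ¬ 3 ∣ P3.index := by
  have h1 := Subgroup.card_mul_index P3
  rw [card_P3, card_HG] at h1
  have : P3.index = 17920 := by omega
  rw [this]
  norm_num

theorem card_one_of_all {Γ : Type*} [Group Γ] (K : Subgroup Γ) (hall : ∀ z ∈ K, z = 1) :
    Nat.card K = 1 := by
  rw [Nat.card_eq_one_iff_unique]
  refine ⟨⟨fun a b => ?_⟩, ⟨1⟩⟩
  apply Subtype.ext
  rw [hall a a.2, hall b b.2]

theorem b3_inv : b3⁻¹ = b3i := inv_eq_of_mul_eq_one_right b3i_def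
theorem c3_inv : c3⁻¹ = c3i := inv_eq_of_mul_eq_one_right c3i_def

theorem indep3 : ∀ i j : ℕ, i < 3 → j < 3 → (a3 * b3⁻¹) ^ i * (b3 * c3⁻¹) ^ j = 1 →
    i = 0 ∧ j = 0 := by
  intro i j hi hj h
  rw [b3_inv, c3_inv, ← uu_def, ← vv_def] at h
  interval_cases i <;> interval_cases j
  · exact ⟨rfl, rfl⟩
  · exfalso; apply d01_ne; rw [← d01_def]; simpa [pow_succ] using h
  · exfalso; apply d02_ne; rw [← d02_def]; simpa [pow_succ, mul_assoc] using h
  · exfalso; apply d10_ne; rw [← d10_def]; simpa [pow_succ] using h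
  · exfalso; apply d11_ne; rw [← d11_def]; simpa [pow_succ, mul_assoc] using h
  · exfalso; apply d12_ne; rw [← d12_def]; simpa [pow_succ, mul_assoc] using h
  · exfalso; apply d20_ne; rw [← d20_def]; simpa [pow_succ, mul_assoc] using h
  · exfalso; apply d21_ne; rw [← d21_def]; simpa [pow_succ, mul_assoc] using h
  · exfalso; apply d22_ne; rw [← d22_def]; simpa [pow_succ, mul_assoc] using h

/-- no stem extension has a kernel of order three -/
theorem no_stem_three {Γ : Type*} [Group Γ] [Finite Γ] (σ : Γ →* HG)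
    (hσ : Cfsg.IsStemExtension σ) : Nat.card σ.ker ≠ 3 := by
  intro hcard
  obtain ⟨hsurj, hcen, hder⟩ := hσ
  have hk3 : ∀ κ ∈ σ.ker, κ ^ 3 = 1 := by
    intro κ hκ
    have := pow_card_eq_one' (G := σ.ker) (x := ⟨κ, hκ⟩)
    rw [hcard] at this
    exact congrArg Subtype.val this
  have ha : a3 ^ 3 = 1 := by rw [← a3_cube, pow_succ, pow_two]
  have ht : t3 ^ 3 = 1 := by rw [← t3_cube, pow_succ, pow_two]
  have rs_a : s3 * a3 * s3⁻¹ = a3⁻¹ := by
    have h : s3 = a3 * s3 * a3 := s3_a3.symm
    calc s3 * a3 * s3⁻¹ = a3⁻¹ * (a3 * s3 * a3) * s3⁻¹ := by group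
      _ = a3⁻¹ * s3 * s3⁻¹ := by rw [← h]
      _ = a3⁻¹ := by group
  have rs_b : s3 * b3 * s3⁻¹ = b3 := by rw [s3_b3]; group
  have rs_c : s3 * c3 * s3⁻¹ = c3 := by rw [s3_c3]; group
  have hS := comm_comap_trivial_of_wr3 hsurj hcen hk3 a3 b3 c3 t3 s3 ha ht rt_a rt_b a3_b3 a3_c3
    rs_a rs_b rs_c indep3
  have : Fact (Nat.Prime 3) := ⟨by norm_num⟩
  have hall : ∀ z ∈ σ.ker, z = 1 := by
    intro z hz
    exact stem_no_prime_of_subgroup σ hsurj hcen hder P3 P3_index hS hz (hk3 z hz)
  have := card_one_of_all σ.ker hall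
  omega

/-- no stem extension has a kernel of prime order at least five -/
theorem no_stem_other (p : ℕ) (hpP : p.Prime) (hp2 : p ≠ 2) (hp3 : p ≠ 3) {Γ : Type*} [Group Γ]
    [Finite Γ] (σ : Γ →* HG) (hσ : Cfsg.IsStemExtension σ) : Nat.card σ.ker ≠ p := by
  intro hcardp
  obtain ⟨hsurj, hcen, hder⟩ := hσ
  have hcard := card_HG
  have : Fact p.Prime := ⟨hpP⟩
  obtain ⟨Rr⟩ : Nonempty (Sylow p HG) := inferInstance
  have hcyc : IsCyclic (Rr : Subgroup HG) := by
    obtain ⟨j, hj⟩ := IsPGroup.iff_card.mp Rr.2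
    have hdvd : p ^ j ∣ 1451520 := by
      rw [← hj, ← hcard]
      exact Subgroup.card_subgroup_dvd_card _
    have hj1 : j ≤ 1 := by
      by_contra hlt
      push Not at hlt
      have h2 : p ^ 2 ∣ 1451520 := dvd_trans (pow_dvd_pow p hlt) hdvd
      have e : (1451520 : ℕ) = 2 ^ 9 * 3 ^ 4 * 5 * 7 := by norm_num
      rw [e] at h2
      have hpd : p ∣ 2 ^ 9 * 3 ^ 4 * 5 * 7 :=
        dvd_trans (dvd_pow_self p (by norm_num)) h2
      have hcases : p = 2 ∨ p = 3 ∨ p = 5 ∨ p = 7 := by
        rcases (Nat.Prime.dvd_mul hpP).mp hpd with h | h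
        · rcases (Nat.Prime.dvd_mul hpP).mp h with h | h
          · rcases (Nat.Prime.dvd_mul hpP).mp h with h | h
            · left
              exact (Nat.prime_dvd_prime_iff_eq hpP Nat.prime_two).mp (hpP.dvd_of_dvd_pow h)
            · right; left
              exact (Nat.prime_dvd_prime_iff_eq hpP Nat.prime_three).mp
                (hpP.dvd_of_dvd_pow h)
          · right; right; left
            exact (Nat.prime_dvd_prime_iff_eq hpP (by norm_num)).mp h
        · right; right; right
          exact (Nat.prime_dvd_prime_iff_eq hpP (by norm_num)).mp h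
      rcases hcases with rfl | rfl | rfl | rfl
      · exact hp2 rfl
      · exact hp3 rfl
      · revert h2; norm_num
      · revert h2; norm_num
    interval_cases j
    · rw [pow_zero] at hj
      have : Subsingleton (Rr : Subgroup HG) :=
        (Nat.card_eq_one_iff_unique.mp hj).1
      exact isCyclic_of_subsingleton
    · rw [pow_one] at hj
      exact isCyclic_of_prime_card hj
  have hind : ¬ p ∣ (Rr : Subgroup HG).index := Sylow.not_dvd_index Rr
  have hall : ∀ z ∈ σ.ker, z = 1 := by
    intro z hz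
    have hzp : z ^ p = 1 := by
      have := pow_card_eq_one' (G := σ.ker) (x := ⟨z, hz⟩)
      rw [hcardp] at this
      exact congrArg Subtype.val this
    refine stem_no_prime_of_subgroup σ hsurj hcen hder (Rr : Subgroup HG) hind ?_
      hz hzp
    intro w hw _
    exact comm_comap_trivial_of_cyclic σ hcen (Rr : Subgroup HG) w hw
  have := card_one_of_all σ.ker hall
  rw [this] at hcardp
  exact hpP.one_lt.ne hcardp

/-- the kernel of every finite stem extension of the symplectic group on 64 points has at most two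
elements -/
theorem hg_card_ker_le_two {Γ : Type*} [Group Γ] [Finite Γ] (σ : Γ →* HG)
    (hσ : Cfsg.IsStemExtension σ) : Nat.card σ.ker ≤ 2 := by
  refine card_ker_le_two g0 g3 g0_g3 g3_sq ?_ ?_ σ hσ
  · intro p hp hp2 Γ' _ _ σ' hσ'
    by_cases hp3 : p = 3
    · subst hp3
      exact no_stem_three σ' hσ'
    · exact no_stem_other p hp hp2 hp3 σ' hσ'
  · intro Γ' _ _ σ' hσ' hc
    exact lifts_noncomm σ' hσ' hc

end Cfsg.Agent.Lib.Helper5.Sp6M
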