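import Mathlib
import Cfsg.Agent.Lib.Helper5.Sp6Iso
import Cfsg.Agent.Lib.Helper5.Sp6ME
import Cfsg.Agent.Lib.Helper5.Sp6CovMain
import Cfsg.Agent.Lib.Helper5.StemX
import Cfsg.Agent.Lib.Helper21.SchurCyclic

set_option autoImplicit false

/-! The Schur multiplier of the projective symplectic group of degree six over a field with two
elements is cyclic of order two. -/

namespace Cfsg.Agent.Lib.Helper5.Sp6M

open Cfsg Cfsg.Agent.Lib.Helper5.Stem

universe u

theorem sp6_two_multiplier {F : Type u} [Field F] [Fintype F] (hF : Fintype.card F = 2) :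
    Cfsg.HasCyclicSchurMultiplier (Cfsg.PSp 3 F) 2 := by
  obtain ⟨e⟩ := exists_iso hF
  apply hasSchurMultiplier_of_equiv e
  · obtain ⟨Γ, iG, iF, σ, hσ, hcard⟩ := Cfsg.Agent.Lib.Helper5.Sp6Cov.exists_stem_two_HG
    refine ⟨Γ, iG, iF, σ, hσ, ?_⟩
    have : Fact (Nat.Prime 2) := ⟨Nat.prime_two⟩
    have hcyc : IsCyclic σ.ker := isCyclic_of_prime_card hcard
    have e2 := zmodCyclicMulEquiv hcyc
    rw [hcard] at e2
    exact ⟨e2.symm⟩
  · intro Γ _ _ σ hσ
    have hle := hg_card_ker_le_two σ hσ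
    have hpos : 0 < Nat.card σ.ker := Nat.card_pos
    have hcases : Nat.card σ.ker = 1 ∨ Nat.card σ.ker = 2 := by omega
    rcases hcases with h1 | h2
    · refine Cfsg.Agent.Lib.Helper21.exists_surj_of_cyclic 2 (1 : σ.ker) (one_pow 2) ?_
      intro x
      haveI : Subsingleton σ.ker := (Nat.card_eq_one_iff_unique.mp h1).1
      rw [Subsingleton.elim x 1]
      exact one_mem _
    · haveI : Fact (Nat.Prime 2) := ⟨Nat.prime_two⟩
      have hcyc : IsCyclic σ.ker := isCyclic_of_prime_card h2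
      obtain ⟨w, hw⟩ := hcyc.exists_generator
      refine Cfsg.Agent.Lib.Helper21.exists_surj_of_cyclic 2 w ?_ hw
      rw [← h2]
      exact pow_card_eq_one'

end Cfsg.Agent.Lib.Helper5.Sp6M
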