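import Mathlib
import Cfsg.Agent.Lib.Helper5.SpSylB
import Cfsg.Agent.Lib.Lead.SpWreathB

set_option autoImplicit false

namespace Cfsg.Agent.Lib.Helper5.SymSyl

open scoped commutatorElement MatrixGroups
open Cfsg.Agent.Lib.Lead.SpW

section Wr

variable {F : Type*} [Field F] (n : ℕ)

def topW : Equiv.Perm (Fin n) →* Matrix.symplecticGroup (Fin n) F where
  toFun σ := W σ (fun _ => 1)
  map_one' := W_one
  map_mul' σ τ := by
    rw [W_mul]
    congr 1
    funext i
    rw [mul_one]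

def baseW : (Fin n → Matrix.SpecialLinearGroup (Fin 2) F) →* Matrix.symplecticGroup (Fin n) F where
  toFun A := W 1 A
  map_one' := W_one
  map_mul' A B := by
    rw [W_mul]
    rfl

theorem W_eq (σ : Equiv.Perm (Fin n)) (A : Fin n → Matrix.SpecialLinearGroup (Fin 2) F) :
    W σ A = baseW n (fun i => A (σ⁻¹ i)) * topW n σ := by
  show W σ A = W 1 (fun i => A (σ⁻¹ i)) * W σ (fun _ => 1)
  rw [W_mul, one_mul]
  congr 1
  funext i
  rw [mul_one, Equiv.Perm.inv_def, Equiv.symm_apply_apply]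

theorem topW_mul_baseW (σ : Equiv.Perm (Fin n)) (A : Fin n → Matrix.SpecialLinearGroup (Fin 2) F) :
    topW n σ * baseW n A * (topW n σ)⁻¹ = baseW n (fun i => A (σ⁻¹ i)) := by
  rw [mul_inv_eq_iff_eq_mul, ← W_eq]
  show W σ (fun _ => 1) * W 1 A = W σ A
  rw [W_mul, mul_one]
  congr 1
  funext i
  rw [one_mul]

theorem W_inj (σ τ : Equiv.Perm (Fin n)) (A B : Fin n → Matrix.SpecialLinearGroup (Fin 2) F)
    (h : W σ A = W τ B) : σ = τ ∧ A = B := by
  have := W_injective (a₁ := (σ, A)) (a₂ := (τ, B)) h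
  exact Prod.ext_iff.mp this

theorem baseW_injective : Function.Injective (baseW (F := F) n) := by
  intro A B h
  exact (W_inj n 1 1 A B h).2

theorem topW_injective : Function.Injective (topW (F := F) n) := by
  intro σ τ h
  exact (W_inj n σ τ _ _ h).1

theorem baseW_inf_topW : (baseW (F := F) n).range ⊓ (topW n).range = ⊥ := by
  rw [eq_bot_iff]
  rintro x ⟨⟨A, rfl⟩, ⟨σ, hσ⟩⟩
  rw [Subgroup.mem_bot]
  have hA : A = fun _ => 1 := (W_inj n σ 1 _ A hσ).2.symm
  rw [hA]
  exact W_one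

def piEquiv {ι : Type*} {M : Type*} [Group M] (Q : Subgroup M) :
    ↥(Subgroup.pi (Set.univ : Set ι) (fun _ => Q)) ≃ (ι → ↥Q) where
  toFun f := fun i => ⟨f.1 i, f.2 i (Set.mem_univ i)⟩
  invFun g := ⟨fun i => (g i : M), fun i _ => (g i).2⟩
  left_inv f := rfl
  right_inv g := rfl

theorem exists_genSq_sylow_sp [Fintype F] (hF : Odd (Fintype.card F)) :
    ∃ S : Subgroup (Matrix.symplecticGroup (Fin n) F),
      Nat.card S = 2 ^ (Nat.card (Matrix.symplecticGroup (Fin n) F)).factorization 2 ∧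
        GenSq 2 S := by
  classical
  haveI : Fact (Nat.Prime 2) := ⟨Nat.prime_two⟩
  obtain ⟨Q, hQ⟩ := exists_good_sylow_sl2 hF
  obtain ⟨T, hTp, hTcard, hTgen⟩ := good_all 2 n (Fin n) (by simp)
  set Q' : Subgroup (Matrix.SpecialLinearGroup (Fin 2) F) := Q.toSubgroup with hQ'
  set Bq : Subgroup (Fin n → Matrix.SpecialLinearGroup (Fin 2) F) :=
    Subgroup.pi Set.univ (fun _ => Q') with hBq
  set B : Subgroup (Matrix.symplecticGroup (Fin n) F) := Bq.map (baseW n) with hB
  set Tt : Subgroup (Matrix.symplecticGroup (Fin n) F) := T.map (topW n) with hTt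
  have hq1 : 1 < Fintype.card F := Fintype.one_lt_card
  have hQcard : Nat.card Q' = 2 ^ padicValNat 2 (Fintype.card F ^ 2 - 1) := by
    rw [hQ', Q.card_eq_multiplicity, Nat.factorization_def _ Nat.prime_two,
      Cfsg.Agent.Lib.helper15.card_SL2]
    have h1 : 1 < Fintype.card F ^ 2 := Nat.one_lt_pow (by omega) hq1
    rw [padicValNat.mul (by omega) (by omega)]
    have := v2_odd_pow hF 1
    rw [pow_one] at this
    rw [this, zero_add]
  have hBqcard : Nat.card Bq = (2 ^ padicValNat 2 (Fintype.card F ^ 2 - 1)) ^ n := by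
    rw [Nat.card_congr (piEquiv Q'), Nat.card_fun, hQcard]
    simp
  have hBcard : Nat.card B = (2 ^ padicValNat 2 (Fintype.card F ^ 2 - 1)) ^ n := by
    rw [hB, Subgroup.card_map_of_injective (baseW_injective n), hBqcard]
  have hTtcard : Nat.card Tt = 2 ^ padicValNat 2 n.factorial := by
    rw [hTt, Subgroup.card_map_of_injective (topW_injective n), hTcard]
    simp
  have hBp : IsPGroup 2 B := by
    apply IsPGroup.of_card (n := padicValNat 2 (Fintype.card F ^ 2 - 1) * n)
    rw [hBcard, pow_mul]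
  have hTtp : IsPGroup 2 Tt := hTp.map _
  have hnorm : Tt ≤ Subgroup.normalizer (B : Set (Matrix.symplecticGroup (Fin n) F)) := by
    rintro _ ⟨σ, _, rfl⟩
    apply Subgroup.mem_normalizer_fintype
    rintro _ ⟨A, hA, rfl⟩
    rw [topW_mul_baseW]
    refine ⟨_, ?_, rfl⟩
    intro i _
    exact hA _ (Set.mem_univ _)
  have hSp : IsPGroup 2 ↥(B ⊔ Tt) := IsPGroup.to_sup_of_normal_left' hBp hTtp hnorm
  have hinf : B ⊓ Tt = ⊥ := by
    rw [eq_bot_iff, ← baseW_inf_topW n]
    apply inf_le_inf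
    · rintro _ ⟨A, _, rfl⟩
      exact ⟨A, rfl⟩
    · rintro _ ⟨σ, _, rfl⟩
      exact ⟨σ, rfl⟩
  refine ⟨B ⊔ Tt, ?_, ?_⟩
  · rw [Nat.factorization_def _ Nat.prime_two]
    apply card_eq_of_pgroup _ hSp _ (Nat.card_pos.ne')
    · exact Subgroup.card_subgroup_dvd_card _
    · have h1 := card_mul_le_card_sup hinf
      rw [hBcard, hTtcard] at h1
      rw [v2_card_Sp hF, pow_add, mul_comm n, pow_mul]
      exact h1
  · have hBle : B ≤ B ⊔ Tt := le_sup_left
    have hTle : Tt ≤ B ⊔ Tt := le_sup_right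
    apply genSq_of_sets
      ({x | ∃ i, ∃ a ∈ Q', x = baseW n (Pi.mulSingle i a)} ∪
        {x | ∃ σ ∈ T, σ ^ 2 = 1 ∧ x = topW n σ})
    · rintro x (⟨i, a, ha, rfl⟩ | ⟨σ, hσ, hσ2, rfl⟩)
      · have hmem : ∀ c ∈ Q', baseW n (Pi.mulSingle i c) ∈ B ⊔ Tt := by
          intro c hc
          apply hBle
          exact ⟨_, (Subgroup.mulSingle_mem_pi i c).mpr (fun _ => hc), rfl⟩
        refine ⟨hmem a ha, ?_⟩
        have h1 : (baseW n (Pi.mulSingle i a)) ^ 2 =
            ((baseW (F := F) n).comp (MonoidHom.mulSingle _ i)) (a ^ 2) := by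
          rw [map_pow]
          rfl
        rw [h1]
        have h2 : Q'.map ((baseW (F := F) n).comp (MonoidHom.mulSingle _ i)) ≤ B ⊔ Tt := by
          rintro _ ⟨c, hc, rfl⟩
          exact hmem c hc
        have h3 := Subgroup.mem_map_of_mem
          ((baseW (F := F) n).comp (MonoidHom.mulSingle _ i)) (hQ a ha)
        rw [Subgroup.map_commutator] at h3
        exact Subgroup.commutator_mono h2 h2 h3
      · refine ⟨hTle ⟨σ, hσ, rfl⟩, ?_⟩
        rw [← map_pow, hσ2, map_one]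
        exact Subgroup.one_mem _
    · apply sup_le
      · rw [hB, Subgroup.map_le_iff_le_comap, hBq, Subgroup.pi_le_iff]
        intro i
        rintro _ ⟨a, ha, rfl⟩
        apply Subgroup.subset_closure
        left
        exact ⟨i, a, ha, rfl⟩
      · have h1 : Tt ≤ (Subgroup.closure {x | x ∈ T ∧ x ^ 2 = 1}).map (topW n) :=
          Subgroup.map_mono hTgen
        rw [MonoidHom.map_closure] at h1
        apply h1.trans
        apply Subgroup.closure_mono
        rintro _ ⟨σ, ⟨hσ, hσ2⟩, rfl⟩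
        right
        exact ⟨σ, hσ, hσ2, rfl⟩

end Wr

end Cfsg.Agent.Lib.Helper5.SymSyl
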