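import Mathlib
import Cfsg.Prelude.Def_Local
import Cfsg.Agent.Lib.Helper9.Components

set_option autoImplicit false

namespace Cfsg.Agent.Lib.Helper5.Std

open scoped commutatorElement
open Cfsg Cfsg.Agent.Lib.Helper9

theorem component_eq_top {X : Type*} [Group X] (hX : IsQuasisimple X) (K : Subgroup X)
    (hK : IsComponent K) : K = ⊤ := by
  rcases quasisimple_subnormal_top_or_central hX K hK.1 with h | h
  · exact h
  · exfalso
    obtain ⟨hp, hs⟩ := hK.2
    have hcomm : ∀ a b : ↥K, a * b = b * a := by
      intro a b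
      apply Subtype.ext
      have := Subgroup.mem_center_iff.mp (h a.2) (b : X)
      exact this.symm
    have h1 : commutator ↥K = ⊥ := by
      rw [commutator_def, Subgroup.commutator_eq_bot_iff_le_centralizer]
      intro a _ b _
      exact (hcomm a b).symm
    have h2 : (⊤ : Subgroup ↥K) = ⊥ := by
      rw [← hp.commutator_eq_top, h1]
    have h3 : Subgroup.center ↥K = ⊤ := by
      rw [h2]
      exact le_antisymm (by rw [← h2]; exact le_top) bot_le
    haveI := hs
    have : Subsingleton (↥K ⧸ Subgroup.center ↥K) := by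
      rw [h3]
      exact QuotientGroup.subsingleton_quotient_top
    exact not_subsingleton _ this

theorem layer_eq_of_normal_quasisimple {C : Type*} [Group C] (L : Subgroup C) (hLn : L.Normal)
    (hLq : IsQuasisimple ↥L) (hab : commutator C ≤ L) : layer C = L := by
  have hLc : IsComponent L := ⟨hLn.isSubnormal, hLq⟩
  unfold layer
  apply le_antisymm
  · apply sSup_le
    intro K hK
    have hKL : K ≤ L := by
      obtain ⟨hp, _⟩ := hK.2
      have h1 : K = (commutator ↥K).map K.subtype := by
        rw [hp.commutator_eq_top, ← MonoidHom.range_eq_map, Subgroup.range_subtype]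
      rw [h1, commutator_def, Subgroup.map_commutator]
      refine le_trans ?_ hab
      rw [commutator_def]
      exact Subgroup.commutator_mono le_top le_top
    have h2 := component_eq_top hLq (K.subgroupOf L) (isComponent_subgroupOf hK hKL)
    rw [Subgroup.subgroupOf_eq_top] at h2
    exact le_antisymm hKL h2 ▸ le_rfl
  · exact le_sSup hLc

theorem standard_of {G : Type*} [Group G] [Finite G] (t : G) (ht2 : t ^ 2 = 1) (ht1 : t ≠ 1)
    (L : Subgroup G)
    (hLC : L ≤ Subgroup.centralizer ({t} : Set G))
    (hnorm : ∀ c ∈ Subgroup.centralizer ({t} : Set G), ∀ x ∈ L, c * x * c⁻¹ ∈ L)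
    (hab : ∀ a ∈ Subgroup.centralizer ({t} : Set G), ∀ b ∈ Subgroup.centralizer ({t} : Set G),
      ⁅a, b⁆ ∈ L)
    (hq : IsQuasisimple ↥L) (htL : t ∈ L)
    (huniq : ∀ x ∈ Subgroup.centralizer (L : Set G), x ^ 2 = 1 → x = 1 ∨ x = t) :
    (layer ↥(Subgroup.centralizer ({t} : Set G))).map
      (Subgroup.centralizer ({t} : Set G)).subtype = L ∧ IsStandardSubgroup L := by
  classical
  set C : Subgroup G := Subgroup.centralizer ({t} : Set G) with hC
  have hmemC : ∀ g : G, g ∈ C ↔ g * t = t * g := by
    intro g
    rw [hC, Subgroup.mem_centralizer_iff]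
    constructor
    · intro h
      exact (h t (Set.mem_singleton t)).symm
    · intro h y hy
      rw [Set.mem_singleton_iff] at hy
      rw [hy]
      exact h.symm
  -- Part 1 : the layer
  have hlayer : (layer ↥C).map C.subtype = L := by
    have hLn : (L.subgroupOf C).Normal := by
      constructor
      intro x hx c
      rw [Subgroup.mem_subgroupOf] at hx ⊢
      exact hnorm c.1 c.2 x.1 hx
    have hLq : IsQuasisimple ↥(L.subgroupOf C) :=
      isQuasisimple_of_mulEquiv (Subgroup.subgroupOfEquivOfLe hLC).symm hq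
    have habC : commutator ↥C ≤ L.subgroupOf C := by
      rw [commutator_def, Subgroup.commutator_le]
      intro a _ b _
      rw [Subgroup.mem_subgroupOf]
      exact hab a.1 a.2 b.1 b.2
    rw [layer_eq_of_normal_quasisimple (L.subgroupOf C) hLn hLq habC,
      Subgroup.map_subgroupOf_eq_of_le hLC]
  refine ⟨hlayer, ?_⟩
  set K : Subgroup G := Subgroup.centralizer (L : Set G) with hK
  have htK : t ∈ K := by
    rw [hK, Subgroup.mem_centralizer_iff]
    intro x hx
    have := (hmemC x).mp (hLC hx)
    exact this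
  have hto : orderOf t = 2 := orderOf_eq_prime ht2 ht1
  -- conjugates of t inside K
  have hconjK : ∀ g : G, g * t * g⁻¹ ∈ K → g ∈ C := by
    intro g hg
    have h2 : (g * t * g⁻¹) ^ 2 = 1 := by rw [conj_pow, ht2, mul_one, mul_inv_cancel]
    rcases huniq _ hg h2 with h | h
    · exfalso
      apply ht1
      have : t = g⁻¹ * (g * t * g⁻¹) * g := by group
      rw [this, h]
      group
    · rw [hmemC]
      calc g * t = g * t * g⁻¹ * g := by group
        _ = t * g := by rw [h]
  have hCnormL : C ≤ Subgroup.normalizer (L : Set G) := by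
    intro c hc
    apply Subgroup.mem_normalizer_fintype
    intro x hx
    exact hnorm c hc x hx
  have hNLK : Subgroup.normalizer (L : Set G) ≤ Subgroup.normalizer (K : Set G) := by
    intro g hg
    rw [Subgroup.mem_normalizer_iff] at hg
    apply Subgroup.mem_normalizer_fintype
    intro k hk
    rw [SetLike.mem_coe, hK, Subgroup.mem_centralizer_iff] at hk ⊢
    intro x hx
    have hx' : g⁻¹ * x * g ∈ L := by
      have := (hg (g⁻¹ * x * g)).mpr (by
        have e : g * (g⁻¹ * x * g) * g⁻¹ = x := by group
        rw [e]; exact hx)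
      exact this
    have h1 := hk _ hx'
    calc x * (g * k * g⁻¹) = g * ((g⁻¹ * x * g) * k) * g⁻¹ := by group
      _ = g * (k * (g⁻¹ * x * g)) * g⁻¹ := by rw [h1]
      _ = g * k * g⁻¹ * x := by group
  have hNKC : Subgroup.normalizer (K : Set G) ≤ C := by
    intro g hg
    rw [Subgroup.mem_normalizer_iff] at hg
    exact hconjK g ((hg t).mp htK)
  refine ⟨hq, ⟨?_, ?_⟩, ?_, ?_⟩
  · -- even order
    have h1 : orderOf t ∣ Nat.card K := by
      have := Subgroup.orderOf_dvd_natCard K htK
      exact this
    rw [hto] at h1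
    exact even_iff_two_dvd.mpr h1
  · intro g hg
    by_contra hodd
    rw [Nat.not_odd_iff_even, even_iff_two_dvd] at hodd
    haveI : Fact (Nat.Prime 2) := ⟨Nat.prime_two⟩
    obtain ⟨x, hx⟩ := exists_prime_orderOf_dvd_card' 2 hodd
    have hx2 : (x : G) ^ 2 = 1 := by
      have := pow_orderOf_eq_one x
      rw [hx] at this
      exact congrArg Subtype.val this
    have hx1 : (x : G) ≠ 1 := by
      intro h
      have : x = 1 := Subtype.ext h
      rw [this, orderOf_one] at hx
      norm_num at hx
    have hxK : (x : G) ∈ K := x.2.1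
    have hxKg : (x : G) ∈ K.map (MulAut.conj g).toMonoidHom := x.2.2
    have hxt : (x : G) = t := by
      rcases huniq _ hxK hx2 with h | h
      · exact absurd h hx1
      · exact h
    obtain ⟨k, hk, hkx⟩ := hxKg
    have hkx' : g * k * g⁻¹ = t := by
      rw [← hxt, ← hkx]
      rfl
    have hk' : g⁻¹ * t * (g⁻¹)⁻¹ ∈ K := by
      have : g⁻¹ * t * (g⁻¹)⁻¹ = k := by rw [← hkx']; group
      rw [this]; exact hk
    have hgC : g ∈ C := by
      have := C.inv_mem (hconjK g⁻¹ hk')
      rwa [inv_inv] at this
    exact hg (hNLK (hCnormL hgC))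
  · intro g hLg hcomm
    rw [Subgroup.commutator_comm, Subgroup.commutator_eq_bot_iff_le_centralizer] at hcomm
    have h1 : g * t * g⁻¹ ∈ K := hcomm ⟨t, htL, rfl⟩
    have hgN : g ∈ Subgroup.normalizer (L : Set G) := hCnormL (hconjK g h1)
    rw [Subgroup.mem_normalizer_iff] at hgN
    apply hLg
    ext x
    constructor
    · rintro ⟨y, hy, rfl⟩
      exact (hgN y).mp hy
    · intro hx
      refine ⟨g⁻¹ * x * g, ?_, ?_⟩
      · apply (hgN _).mpr
        have e : g * (g⁻¹ * x * g) * g⁻¹ = x := by group
        rw [e]; exact hx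
      · show g * (g⁻¹ * x * g) * g⁻¹ = x
        group
  · exact le_antisymm hNLK (hNKC.trans hCnormL)

end Cfsg.Agent.Lib.Helper5.Std
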