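import Mathlib
import Cfsg.Agent.Lib.Helper5.StdA
import Cfsg.Agent.Lib.Helper5.GLSylC
import Cfsg.Agent.S0249
import Cfsg.Agent.Lib.Lead.SLn

set_option autoImplicit false

namespace Cfsg.Agent.Lib.Helper5.Std

open scoped commutatorElement
open Cfsg Cfsg.Agent.Lib.Helper5.SymSyl

section
variable {F : Type*} [Field F] {ι κ : Type*} [Fintype ι] [DecidableEq ι] [Fintype κ]
  [DecidableEq κ] (e : ι ⊕ Unit ≃ κ)

def tInv : Matrix.SpecialLinearGroup κ F := embSL e (-1 : GL ι F)

theorem det_neg_one_GL (hev : Even (Fintype.card ι)) :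
    Matrix.GeneralLinearGroup.det (-1 : GL ι F) = 1 := by
  apply Units.ext
  have h1 : ((Matrix.GeneralLinearGroup.det (-1 : GL ι F) : Fˣ) : F) =
      ((-1 : GL ι F) : Matrix ι ι F).det := rfl
  rw [h1, Units.val_neg, Units.val_one, Matrix.det_neg, Matrix.det_one, mul_one, Units.val_one,
    hev.neg_one_pow]

theorem tInv_val (hev : Even (Fintype.card ι)) :
    ((tInv e : Matrix.SpecialLinearGroup κ F) : Matrix κ κ F) =
      Matrix.reindex e e (Matrix.fromBlocks (-1 : Matrix ι ι F) 0 0 (1 : Matrix Unit Unit F)) := by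
  have h0 : ((tInv e : Matrix.SpecialLinearGroup κ F) : Matrix κ κ F) = embMat e (-1 : GL ι F) := rfl
  rw [h0]
  unfold embMat
  rw [det_neg_one_GL hev]
  congr 2

theorem embSL_mem_centralizer (A : GL ι F) :
    embSL e A ∈ Subgroup.centralizer ({tInv e} : Set (Matrix.SpecialLinearGroup κ F)) := by
  rw [Subgroup.mem_centralizer_iff]
  intro y hy
  rw [Set.mem_singleton_iff] at hy
  rw [hy]
  unfold tInv
  rw [← map_mul, ← map_mul]
  congr 1
  rw [neg_one_mul, mul_neg_one]

theorem mem_range_of_mem_centralizer (h2 : (2 : F) ≠ 0) (hev : Even (Fintype.card ι))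
    (g : Matrix.SpecialLinearGroup κ F)
    (hg : g ∈ Subgroup.centralizer ({tInv e} : Set (Matrix.SpecialLinearGroup κ F))) :
    g ∈ (embSL (F := F) e).range := by
  rw [Subgroup.mem_centralizer_iff] at hg
  have hc := hg _ (Set.mem_singleton _)
  have hc' : (tInv e : Matrix.SpecialLinearGroup κ F).val * g.val = g.val * (tInv e).val :=
    congrArg Subtype.val hc
  obtain ⟨M, hM⟩ : ∃ M : Matrix (ι ⊕ Unit) (ι ⊕ Unit) F, M = g.val.submatrix e e := ⟨_, rfl⟩
  have hgM : g.val = Matrix.reindex e e M := by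
    rw [hM]
    ext i j
    simp
  have htv : (tInv e : Matrix.SpecialLinearGroup κ F).val =
      Matrix.reindex e e (Matrix.fromBlocks (-1 : Matrix ι ι F) 0 0 (1 : Matrix Unit Unit F)) :=
    tInv_val e hev
  rw [htv, hgM, Matrix.reindex_apply, Matrix.reindex_apply, Matrix.submatrix_mul_equiv,
    Matrix.submatrix_mul_equiv] at hc'
  have hc2 : Matrix.fromBlocks (-1 : Matrix ι ι F) 0 0 (1 : Matrix Unit Unit F) * M =
      M * Matrix.fromBlocks (-1 : Matrix ι ι F) 0 0 (1 : Matrix Unit Unit F) := by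
    have := congrArg (fun X => X.submatrix e e) hc'
    simpa using this
  rw [← Matrix.fromBlocks_toBlocks M, Matrix.fromBlocks_multiply, Matrix.fromBlocks_multiply,
    Matrix.fromBlocks_inj] at hc2
  obtain ⟨-, h12, h21, -⟩ := hc2
  simp only [Matrix.zero_mul, Matrix.mul_zero, add_zero, zero_add, Matrix.one_mul, Matrix.mul_one,
    Matrix.neg_mul, Matrix.mul_neg] at h12 h21
  have hz : ∀ b : F, -b = b → b = 0 := by
    intro b hb
    have : 2 * b = 0 := by linear_combination -hb
    exact (mul_eq_zero.mp this).resolve_left h2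
  have hB : M.toBlocks₁₂ = 0 := by
    ext i j
    exact hz _ (congrFun (congrFun h12 i) j)
  have hC : M.toBlocks₂₁ = 0 := by
    ext i j
    exact hz _ (congrFun (congrFun h21 i) j).symm
  have hMb : M = Matrix.fromBlocks M.toBlocks₁₁ 0 0 M.toBlocks₂₂ := by
    conv_lhs => rw [← Matrix.fromBlocks_toBlocks M, hB, hC]
  have hdet : M.toBlocks₁₁.det * M.toBlocks₂₂.det = 1 := by
    have h1 : M.det = 1 := by
      rw [hM, Matrix.det_submatrix_equiv_self]
      exact g.2
    rw [hMb, Matrix.det_fromBlocks_zero₂₁] at h1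
    simpa using h1
  have hA0 : M.toBlocks₁₁.det ≠ 0 := by
    intro h0
    rw [h0, zero_mul] at hdet
    exact zero_ne_one hdet
  refine ⟨Matrix.GeneralLinearGroup.mkOfDetNeZero M.toBlocks₁₁ hA0, ?_⟩
  apply Subtype.ext
  rw [hgM]
  have h0 : ((embSL e (Matrix.GeneralLinearGroup.mkOfDetNeZero M.toBlocks₁₁ hA0) :
      Matrix.SpecialLinearGroup κ F) : Matrix κ κ F) =
      embMat e (Matrix.GeneralLinearGroup.mkOfDetNeZero M.toBlocks₁₁ hA0) := rfl
  rw [h0]
  unfold embMat
  congr 1
  conv_rhs => rw [hMb]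
  congr 1
  ext i j
  have h3 : ((Matrix.GeneralLinearGroup.det
      (Matrix.GeneralLinearGroup.mkOfDetNeZero M.toBlocks₁₁ hA0) : Fˣ) : F) =
      M.toBlocks₁₁.det := rfl
  rw [Matrix.of_apply, Units.val_inv_eq_inv_val, h3]
  rw [Matrix.det_unique (M.toBlocks₂₂)] at hdet
  have hi : i = default := Subsingleton.elim _ _
  have hj : j = default := Subsingleton.elim _ _
  rw [hi, hj]
  exact (eq_inv_of_mul_eq_one_right hdet).symm

def Lsub : Subgroup (Matrix.SpecialLinearGroup κ F) :=
  ((embSL (F := F) e).comp Matrix.SpecialLinearGroup.toGL).range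

theorem mem_toGL_range (B : GL ι F) (hB : Matrix.GeneralLinearGroup.det B = 1) :
    B ∈ (Matrix.SpecialLinearGroup.toGL (n := ι) (R := F)).range := by
  refine ⟨⟨B.val, ?_⟩, ?_⟩
  · have := congrArg Units.val hB
    exact this
  · apply Units.ext
    rfl

theorem embSL_mem_Lsub (B : GL ι F) (hB : Matrix.GeneralLinearGroup.det B = 1) :
    embSL e B ∈ Lsub (F := F) e := by
  obtain ⟨s, rfl⟩ := mem_toGL_range B hB
  exact ⟨s, rfl⟩

theorem mem_Lsub_iff (x : Matrix.SpecialLinearGroup κ F) :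
    x ∈ Lsub (F := F) e ↔ ∃ B : GL ι F, Matrix.GeneralLinearGroup.det B = 1 ∧ embSL e B = x := by
  constructor
  · rintro ⟨s, rfl⟩
    refine ⟨Matrix.SpecialLinearGroup.toGL s, ?_, rfl⟩
    apply Units.ext
    exact s.2
  · rintro ⟨B, hB, rfl⟩
    exact embSL_mem_Lsub e B hB

theorem Lsub_le_centralizer :
    Lsub (F := F) e ≤ Subgroup.centralizer ({tInv e} : Set (Matrix.SpecialLinearGroup κ F)) := by
  rintro x ⟨s, rfl⟩
  exact embSL_mem_centralizer e _

theorem tInv_mem_Lsub (hev : Even (Fintype.card ι)) : tInv e ∈ Lsub (F := F) e :=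
  embSL_mem_Lsub e _ (det_neg_one_GL hev)

theorem Lsub_conj (h2 : (2 : F) ≠ 0) (hev : Even (Fintype.card ι)) :
    ∀ c ∈ Subgroup.centralizer ({tInv e} : Set (Matrix.SpecialLinearGroup κ F)),
      ∀ x ∈ Lsub (F := F) e, c * x * c⁻¹ ∈ Lsub (F := F) e := by
  intro c hc x hx
  obtain ⟨A, rfl⟩ := mem_range_of_mem_centralizer e h2 hev c hc
  obtain ⟨B, hB, rfl⟩ := (mem_Lsub_iff e x).mp hx
  rw [← map_inv, ← map_mul, ← map_mul]
  apply embSL_mem_Lsub
  rw [map_mul, map_mul, map_inv, hB, mul_one, mul_inv_cancel]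

theorem Lsub_comm (h2 : (2 : F) ≠ 0) (hev : Even (Fintype.card ι)) :
    ∀ a ∈ Subgroup.centralizer ({tInv e} : Set (Matrix.SpecialLinearGroup κ F)),
      ∀ b ∈ Subgroup.centralizer ({tInv e} : Set (Matrix.SpecialLinearGroup κ F)),
      ⁅a, b⁆ ∈ Lsub (F := F) e := by
  intro a ha b hb
  obtain ⟨A, rfl⟩ := mem_range_of_mem_centralizer e h2 hev a ha
  obtain ⟨B, rfl⟩ := mem_range_of_mem_centralizer e h2 hev b hb
  rw [← map_commutatorElement]
  apply embSL_mem_Lsub
  rw [map_commutatorElement, commutatorElement_eq_one_iff_mul_comm]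
  exact mul_comm _ _

theorem Lsub_quasisimple (h3 : 3 ≤ Fintype.card ι) : IsQuasisimple ↥(Lsub (F := F) e) := by
  have hinj : Function.Injective ((embSL (F := F) e).comp Matrix.SpecialLinearGroup.toGL) := by
    intro a b hab
    exact Matrix.SpecialLinearGroup.toGL_injective (embSL_injective e hab)
  have hq : IsQuasisimple (Matrix.SpecialLinearGroup ι F) :=
    ⟨⟨Cfsg.Agent.Lib.Lead.SL_commutator_eq_top h3⟩, Cfsg.Agent.S0249.PSL_simple h3⟩
  exact Cfsg.Agent.Lib.Helper9.isQuasisimple_of_mulEquiv (MonoidHom.ofInjective hinj) hq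

theorem Lsub_uniq (h2 : (2 : F) ≠ 0) (hev : Even (Fintype.card ι)) [Nonempty ι] :
    ∀ x ∈ Subgroup.centralizer ((Lsub (F := F) e : Subgroup (Matrix.SpecialLinearGroup κ F)) :
      Set (Matrix.SpecialLinearGroup κ F)), x ^ 2 = 1 → x = 1 ∨ x = tInv e := by
  intro x hx hx2
  rw [Subgroup.mem_centralizer_iff] at hx
  have hxt : x ∈ Subgroup.centralizer ({tInv e} : Set (Matrix.SpecialLinearGroup κ F)) := by
    rw [Subgroup.mem_centralizer_iff]
    intro y hy
    rw [Set.mem_singleton_iff] at hy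
    rw [hy]
    exact hx _ (tInv_mem_Lsub e hev)
  obtain ⟨A, rfl⟩ := mem_range_of_mem_centralizer e h2 hev x hxt
  have hcomm : ∀ t : Matrix.TransvectionStruct ι F, Commute t.toMatrix (A : Matrix ι ι F) := by
    intro t
    have hdet : t.toMatrix.det = 1 := t.det
    have h1 := hx (embSL e (Matrix.SpecialLinearGroup.toGL ⟨t.toMatrix, hdet⟩)) ⟨_, rfl⟩
    rw [← map_mul, ← map_mul] at h1
    have h2' := embSL_injective e h1
    have h3 := congrArg Units.val h2'
    exact h3
  obtain ⟨a, ha⟩ := Matrix.mem_range_scalar_of_commute_transvectionStruct hcomm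
  have hA2 : A ^ 2 = 1 := by
    apply embSL_injective e
    rw [map_pow, hx2, map_one]
  have ha2 : a ^ 2 = 1 := by
    have h1 := congrArg Units.val hA2
    rw [Units.val_pow_eq_pow_val, ← ha, Units.val_one] at h1
    obtain ⟨i⟩ := ‹Nonempty ι›
    have h4 := congrFun (congrFun h1 i) i
    simpa [pow_two, Matrix.scalar_apply] using h4
  have ha' : a = 1 ∨ a = -1 := by
    rw [pow_two] at ha2
    exact mul_self_eq_one_iff.mp ha2
  rcases ha' with h | h
  · left
    have hA1 : A = 1 := by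
      apply Units.ext
      rw [← ha, h, map_one, Units.val_one]
    rw [hA1, map_one]
  · right
    have hA1 : A = -1 := by
      apply Units.ext
      rw [← ha, h, map_neg, map_one, Units.val_neg, Units.val_one]
    rw [hA1]
    rfl

theorem tInv_sq : (tInv e : Matrix.SpecialLinearGroup κ F) ^ 2 = 1 := by
  unfold tInv
  rw [← map_pow, neg_one_sq, map_one]

theorem tInv_ne_one (h2 : (2 : F) ≠ 0) [Nonempty ι] :
    (tInv e : Matrix.SpecialLinearGroup κ F) ≠ 1 := by
  intro h
  unfold tInv at h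
  rw [← map_one (embSL (F := F) e)] at h
  have h1 := embSL_injective e h
  have h3 := congrArg Units.val h1
  rw [Units.val_neg, Units.val_one] at h3
  obtain ⟨i⟩ := ‹Nonempty ι›
  have h4 := congrFun (congrFun h3 i) i
  rw [Matrix.neg_apply, Matrix.one_apply_eq] at h4
  apply h2
  linear_combination -h4

theorem std_general [Finite F] (h2 : (2 : F) ≠ 0) (hev : Even (Fintype.card ι))
    (h3 : 3 ≤ Fintype.card ι) :
    IsStandardSubgroup
      ((layer ↥(Subgroup.centralizer ({tInv e} : Set (Matrix.SpecialLinearGroup κ F)))).map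
        (Subgroup.centralizer ({tInv e} : Set (Matrix.SpecialLinearGroup κ F))).subtype) := by
  haveI : Nonempty ι := Fintype.card_pos_iff.mp (by omega)
  haveI : Finite (Matrix.SpecialLinearGroup κ F) := Subtype.finite
  have h := standard_of (tInv e : Matrix.SpecialLinearGroup κ F) (tInv_sq e) (tInv_ne_one e h2)
    (Lsub e) (Lsub_le_centralizer e) (Lsub_conj e h2 hev) (Lsub_comm e h2 hev)
    (Lsub_quasisimple e h3) (tInv_mem_Lsub e hev) (Lsub_uniq e h2 hev)
  rw [h.1]
  exact h.2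

end

end Cfsg.Agent.Lib.Helper5.Std
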