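import Mathlib

set_option autoImplicit false

namespace Cfsg.Agent.Lib.Helper5.SylMax

open Equiv Equiv.Perm MulAction
open scoped Pointwise

variable {α : Type*} [Fintype α] [DecidableEq α]

theorem crit (M : Subgroup (Perm α)) (a : α) (hmove : ∃ g ∈ M, g a ≠ a)
    (htr : ∀ y z : α, y ≠ a → z ≠ a → ∃ g ∈ M, g a = a ∧ g y = z) :
    IsPreprimitive M α := by
  apply IsPreprimitive.of_isTrivialBlock_of_notMem_fixedPoints (a := a)
  · intro hfix
    obtain ⟨g, hg, hga⟩ := hmove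
    exact hga (hfix ⟨g, hg⟩)
  · intro B haB hB
    by_cases hsub : B.Subsingleton
    · exact Or.inl hsub
    · right
      rw [Set.not_subsingleton_iff] at hsub
      obtain ⟨y, hyB, hya⟩ : ∃ y ∈ B, y ≠ a := by
        obtain ⟨p, hp, q, hq, hpq⟩ := hsub
        by_cases h : p = a
        · exact ⟨q, hq, fun h' => hpq (h.trans h'.symm)⟩
        · exact ⟨p, hp, h⟩
      apply Set.eq_univ_of_forall
      intro z
      by_cases hza : z = a
      · rw [hza]; exact haB
      · obtain ⟨g, hg, hga, hgy⟩ := htr y z hya hza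
        have h1 : (⟨g, hg⟩ : M) • B = B := by
          apply isBlock_iff_smul_eq_of_mem.mp hB haB
          change g a ∈ B
          rw [hga]; exact haB
        rw [← h1, ← hgy]
        exact Set.smul_mem_smul_set (a := (⟨g, hg⟩ : M)) hyB



theorem sign_dswap {a b c d : α} (hab : a ≠ b) (hcd : c ≠ d) :
    sign (swap a b * swap c d) = 1 := by
  rw [Perm.sign_mul, sign_swap hab, sign_swap hcd]; rfl

theorem swap_comm_of_ne {a b c d : α} (hac : a ≠ c) (had : a ≠ d) (hbc : b ≠ c) (hbd : b ≠ d) :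
    swap a b * swap c d = swap c d * swap a b := by
  have h : Perm.Disjoint (swap a b) (swap c d) := by
    intro x
    by_cases hxa : x = a
    · right; rw [hxa]; exact swap_apply_of_ne_of_ne hac had
    · by_cases hxb : x = b
      · right; rw [hxb]; exact swap_apply_of_ne_of_ne hbc hbd
      · left; exact swap_apply_of_ne_of_ne hxa hxb
  exact h.commute.eq

theorem threeCycle_three {x p q r e : α} (hxp : x ≠ p) (hxe : x ≠ e) (hep : e ≠ p)
    (hqe : q ≠ e) (hqp : q ≠ p) (hre : r ≠ e) (hrp : r ≠ p) :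
    IsThreeCycle ((swap x p * swap q r) * (swap e p * swap q r)) := by
  have h1 : (swap x p * swap q r) * (swap e p * swap q r) = swap p x * swap p e := by
    calc (swap x p * swap q r) * (swap e p * swap q r)
        = swap x p * (swap q r * swap e p) * swap q r := by group
      _ = swap x p * (swap e p * swap q r) * swap q r := by
          rw [swap_comm_of_ne hqe hqp hre hrp]
      _ = swap x p * swap e p * (swap q r * swap q r) := by group
      _ = swap p x * swap p e := by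
          rw [swap_mul_self, mul_one, swap_comm x p, swap_comm e p]
  rw [h1]
  exact isThreeCycle_swap_mul_swap_same hxp.symm hep.symm hxe

theorem threeCycle_one {r s t u e f g : α} (hrs : r ≠ s) (hre : r ≠ e) (hse : s ≠ e)
    (hrf : r ≠ f) (hrg : r ≠ g) (hsf : s ≠ f) (hsg : s ≠ g) (htf : t ≠ f) (htg : t ≠ g)
    (huf : u ≠ f) (hug : u ≠ g) (hte : t ≠ e) (hue : u ≠ e) (htr : t ≠ r) (hur : u ≠ r)
    (hts : t ≠ s) (hus : u ≠ s) :
    IsThreeCycle ((swap r s * swap t u) * (swap r e * swap f g) * (swap r s * swap t u)⁻¹ *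
      (swap r e * swap f g)⁻¹) := by
  obtain ⟨v, hv⟩ : ∃ v, v = swap r s * swap t u := ⟨_, rfl⟩
  have hvr : v r = s := by
    rw [hv, Perm.mul_apply, swap_apply_of_ne_of_ne htr.symm hur.symm, swap_apply_left]
  have hve : v e = e := by
    rw [hv, Perm.mul_apply, swap_apply_of_ne_of_ne hte.symm hue.symm,
      swap_apply_of_ne_of_ne hre.symm hse.symm]
  have hvf : v f = f := by
    rw [hv, Perm.mul_apply, swap_apply_of_ne_of_ne htf.symm huf.symm,
      swap_apply_of_ne_of_ne hrf.symm hsf.symm]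
  have hvg : v g = g := by
    rw [hv, Perm.mul_apply, swap_apply_of_ne_of_ne htg.symm hug.symm,
      swap_apply_of_ne_of_ne hrg.symm hsg.symm]
  have h1 : v * (swap r e * swap f g) * v⁻¹ = swap s e * swap f g := by
    calc v * (swap r e * swap f g) * v⁻¹ = (v * swap r e * v⁻¹) * (v * swap f g * v⁻¹) := by group
      _ = swap (v r) (v e) * swap (v f) (v g) := by
          rw [swap_apply_apply, swap_apply_apply]
      _ = swap s e * swap f g := by rw [hvr, hve, hvf, hvg]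
  have h2 : (swap r e * swap f g)⁻¹ = swap f g * swap r e := by
    rw [mul_inv_rev, swap_inv, swap_inv]
  rw [← hv, h1, h2]
  have h3 : swap s e * swap f g * (swap f g * swap r e) = swap e s * swap e r := by
    calc swap s e * swap f g * (swap f g * swap r e)
        = swap s e * (swap f g * swap f g) * swap r e := by group
      _ = swap e s * swap e r := by
          rw [swap_mul_self, mul_one, swap_comm s e, swap_comm r e]
  rw [h3]
  exact isThreeCycle_swap_mul_swap_same hse.symm hre.symm hrs.symm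


def KleinIn (M : Subgroup (Perm α)) (S : Set α) : Prop :=
  ∀ a b c d : α, a ∈ S → b ∈ S → c ∈ S → d ∈ S → a ≠ b → a ≠ c → a ≠ d → b ≠ c → b ≠ d → c ≠ d →
    swap a b * swap c d ∈ M

theorem kleinIn_mono {M N : Subgroup (Perm α)} (h : M ≤ N) {S : Set α} (hS : KleinIn M S) :
    KleinIn N S := fun a b c d ha hb hc hd h1 h2 h3 h4 h5 h6 =>
  h (hS a b c d ha hb hc hd h1 h2 h3 h4 h5 h6)

theorem kleinIn_smul {M : Subgroup (Perm α)} {S : Set α} (hS : KleinIn M S) {m : Perm α}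
    (hm : m ∈ M) : KleinIn M (m • S) := by
  intro a b c d ha hb hc hd h1 h2 h3 h4 h5 h6
  obtain ⟨a, ha, rfl⟩ := ha
  obtain ⟨b, hb, rfl⟩ := hb
  obtain ⟨c, hc, rfl⟩ := hc
  obtain ⟨d, hd, rfl⟩ := hd
  have hne : ∀ {p q : α}, m • p ≠ m • q → p ≠ q := fun h h' => h (h' ▸ rfl)
  have := hS a b c d ha hb hc hd (hne h1) (hne h2) (hne h3) (hne h4) (hne h5) (hne h6)
  have h7 : swap (m • a) (m • b) * swap (m • c) (m • d) = m * (swap a b * swap c d) * m⁻¹ := by
    simp only [Perm.smul_def, swap_apply_apply]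
    group
  rw [h7]
  exact M.mul_mem (M.mul_mem hm this) (M.inv_mem hm)

theorem ncard_four_elim {S : Set α} (hS : S.ncard = 4) {r : α} (hr : r ∈ S) :
    ∃ e f g, e ≠ f ∧ e ≠ g ∧ f ≠ g ∧ e ≠ r ∧ f ≠ r ∧ g ≠ r ∧ e ∈ S ∧ f ∈ S ∧ g ∈ S ∧
      ∀ y ∈ S, y = r ∨ y = e ∨ y = f ∨ y = g := by
  have h3 : (S \ {r}).ncard = 3 := by
    rw [Set.ncard_diff_singleton_of_mem hr, hS]
  rw [Set.ncard_eq_three] at h3
  obtain ⟨e, f, g, hef, heg, hfg, hS'⟩ := h3
  have he : e ∈ S \ {r} := by rw [hS']; simp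
  have hf : f ∈ S \ {r} := by rw [hS']; simp
  have hg : g ∈ S \ {r} := by rw [hS']; simp
  refine ⟨e, f, g, hef, heg, hfg, he.2, hf.2, hg.2, he.1, hf.1, hg.1, ?_⟩
  intro y hy
  by_cases hyr : y = r
  · exact Or.inl hyr
  · right
    have : y ∈ S \ {r} := ⟨hy, hyr⟩
    rw [hS'] at this
    simpa using this

theorem exists_threeCycle_one {M : Subgroup (Perm α)} {A S : Set α} (hA : KleinIn M A)
    (hS : KleinIn M S) (hAc : A.ncard = 4) (hSc : S.ncard = 4) {r : α} (hrA : r ∈ A) (hrS : r ∈ S)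
    (hAS : ∀ y ∈ A, y ∈ S → y = r) : ∃ c ∈ M, IsThreeCycle c := by
  obtain ⟨s, t, u, hst, hsu, htu, hsr, htr, hur, hsA, htA, huA, -⟩ := ncard_four_elim hAc hrA
  obtain ⟨e, f, g, hef, heg, hfg, her, hfr, hgr, heS, hfS, hgS, -⟩ := ncard_four_elim hSc hrS
  have hne : ∀ {y z : α}, y ∈ A → z ∈ S → y ≠ r → y ≠ z := by
    intro y z hy hz hyr hyz
    exact hyr (hAS y hy (hyz ▸ hz))
  refine ⟨_, ?_, threeCycle_one (r := r) (s := s) (t := t) (u := u) (e := e) (f := f) (g := g)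
    hsr.symm her.symm (hne hsA heS hsr) hfr.symm hgr.symm (hne hsA hfS hsr) (hne hsA hgS hsr)
    (hne htA hfS htr) (hne htA hgS htr) (hne huA hfS hur) (hne huA hgS hur) (hne htA heS htr)
    (hne huA heS hur) htr hur hst.symm hsu.symm⟩
  have hv := hA r s t u hrA hsA htA huA hsr.symm htr.symm hur.symm hst hsu htu
  have hw := hS r e f g hrS heS hfS hgS her.symm hfr.symm hgr.symm hef heg hfg
  exact M.mul_mem (M.mul_mem (M.mul_mem hv hw) (M.inv_mem hv)) (M.inv_mem hw)

theorem exists_threeCycle_three {M : Subgroup (Perm α)} {A S : Set α} (hA : KleinIn M A)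
    (hS : KleinIn M S) (hAc : A.ncard = 4) (hSc : S.ncard = 4) {x : α} (hxA : x ∈ A) (hxS : x ∉ S)
    (hAS : ∀ y ∈ A, y ≠ x → y ∈ S) : ∃ c ∈ M, IsThreeCycle c := by
  obtain ⟨p, q, r, hpq, hpr, hqr, hpx, hqx, hrx, hpA, hqA, hrA, -⟩ := ncard_four_elim hAc hxA
  have hpS := hAS p hpA hpx
  have hqS := hAS q hqA hqx
  have hrS := hAS r hrA hrx
  obtain ⟨e, f, g, hef, heg, hfg, hep, hfp, hgp, heS, hfS, hgS, hall⟩ := ncard_four_elim hSc hpS
  have hxe' : ∀ {z : α}, z ∈ S → x ≠ z := fun hz h => hxS (h ▸ hz)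
  obtain ⟨e', he'S, he'p, he'q, he'r⟩ : ∃ e' ∈ S, e' ≠ p ∧ e' ≠ q ∧ e' ≠ r := by
    by_cases h1 : e ≠ q ∧ e ≠ r
    · exact ⟨e, heS, hep, h1.1, h1.2⟩
    · by_cases h2 : f ≠ q ∧ f ≠ r
      · exact ⟨f, hfS, hfp, h2.1, h2.2⟩
      · refine ⟨g, hgS, hgp, ?_, ?_⟩
        · rintro rfl
          rcases not_and_or.mp h1 with h | h <;> rcases not_and_or.mp h2 with h' | h' <;>
            simp only [ne_eq, not_not] at h h' <;> simp_all
        · rintro rfl
          rcases not_and_or.mp h1 with h | h <;> rcases not_and_or.mp h2 with h' | h' <;>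
            simp only [ne_eq, not_not] at h h' <;> simp_all
  refine ⟨_, ?_, threeCycle_three (x := x) (p := p) (q := q) (r := r) (e := e') hpx.symm
    (hxe' he'S) he'p he'q.symm hpq.symm he'r.symm hpr.symm⟩
  have hv := hA x p q r hxA hpA hqA hrA hpx.symm hqx.symm hrx.symm hpq hpr hqr
  have hw := hS e' p q r he'S hpS hqS hrS he'p he'q he'r hpq hpr hqr
  exact M.mul_mem hv hw


theorem exists_threeCycle_of_blocks {M : Subgroup (Perm α)} (x₀ : α) (D : Set (Set α))
    (hD1 : ∀ S ∈ D, S.ncard = 4 ∧ x₀ ∉ S ∧ KleinIn M S)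
    (hD2 : ∀ y, y ≠ x₀ → ∃ S ∈ D, y ∈ S)
    (hD3 : ∀ S ∈ D, ∀ S' ∈ D, ∀ y, y ∈ S → y ∈ S' → S = S')
    {m : Perm α} (hm : m ∈ M) (hmx : m x₀ ≠ x₀) : ∃ c ∈ M, IsThreeCycle c := by
  have hy : m⁻¹ x₀ ≠ x₀ := by
    intro h
    apply hmx
    conv_lhs => rw [← h]
    simp
  obtain ⟨S, hSD, hyS⟩ := hD2 _ hy
  obtain ⟨hSc, -, hSK⟩ := hD1 S hSD
  have hAK : KleinIn M (m • S) := kleinIn_smul hSK hm
  have hAc : (m • S).ncard = 4 := by rw [Set.ncard_smul_set, hSc]
  have hxA : x₀ ∈ m • S := ⟨m⁻¹ x₀, hyS, by simp⟩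
  obtain ⟨p, q, r, hpq, hpr, hqr, hpx, hqx, hrx, hpA, hqA, hrA, hall⟩ := ncard_four_elim hAc hxA
  obtain ⟨Sp, hSpD, hpSp⟩ := hD2 p hpx
  obtain ⟨Sq, hSqD, hqSq⟩ := hD2 q hqx
  obtain ⟨Sr, hSrD, hrSr⟩ := hD2 r hrx
  have alone : ∀ (t : α) (St : Set α), St ∈ D → t ∈ m • S → t ∈ St →
      (∀ y ∈ m • S, y ≠ x₀ → y ≠ t → y ∉ St) → ∃ c ∈ M, IsThreeCycle c := by
    intro t St hStD htA htSt h
    obtain ⟨hStc, hxSt, hStK⟩ := hD1 St hStD
    apply exists_threeCycle_one hAK hStK hAc hStc htA htSt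
    intro y hyA hySt
    by_contra hyt
    by_cases hyx : y = x₀
    · exact hxSt (hyx ▸ hySt)
    · exact h y hyA hyx hyt hySt
  by_cases hpq' : Sp = Sq
  · by_cases hpr' : Sp = Sr
    · obtain ⟨hSpc, hxSp, hSpK⟩ := hD1 Sp hSpD
      apply exists_threeCycle_three hAK hSpK hAc hSpc hxA hxSp
      intro y hyA hyx
      rcases hall y hyA with h | h | h | h
      · exact absurd h hyx
      · rw [h]; exact hpSp
      · rw [h, hpq']; exact hqSq
      · rw [h, hpr']; exact hrSr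
    · apply alone r Sr hSrD hrA hrSr
      intro y hyA hyx hyr hySr
      rcases hall y hyA with h | h | h | h
      · exact hyx h
      · rw [h] at hySr
        exact hpr' (hD3 Sp hSpD Sr hSrD p hpSp hySr)
      · rw [h] at hySr
        exact hpr' (hpq'.trans (hD3 Sq hSqD Sr hSrD q hqSq hySr))
      · exact hyr h
  · by_cases hpr' : Sp = Sr
    · apply alone q Sq hSqD hqA hqSq
      intro y hyA hyx hyq hySq
      rcases hall y hyA with h | h | h | h
      · exact hyx h
      · rw [h] at hySq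
        exact hpq' (hD3 Sp hSpD Sq hSqD p hpSp hySq)
      · exact hyq h
      · rw [h] at hySq
        exact hpq' (hpr'.trans (hD3 Sr hSrD Sq hSqD r hrSr hySq))
    · apply alone p Sp hSpD hpA hpSp
      intro y hyA hyx hyp hySp
      rcases hall y hyA with h | h | h | h
      · exact hyx h
      · exact hyp h
      · rw [h] at hySp
        exact hpq' (hD3 Sp hSpD Sq hSqD q hySp hqSq)
      · rw [h] at hySp
        exact hpr' (hD3 Sp hSpD Sr hSrD r hySp hrSr)

end Cfsg.Agent.Lib.Helper5.SylMax
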