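import Mathlib

set_option autoImplicit false

namespace Cfsg.Agent.Lib.Helper5.SylMax

open Equiv Equiv.Perm MulAction
open scoped Pointwise

abbrev W4 := Fin 2 × Fin 2

theorem w4_add_self (w : W4) : w + w = 0 := by revert w; decide

theorem w4_sum (a b c d : W4) (h : a ≠ b ∧ a ≠ c ∧ a ≠ d ∧ b ≠ c ∧ b ≠ d ∧ c ≠ d) :
    c + d = a + b := by revert a b c d; decide

theorem w4_all (a b c d w : W4) (h : a ≠ b ∧ a ≠ c ∧ a ≠ d ∧ b ≠ c ∧ b ≠ d ∧ c ≠ d) :
    w = a ∨ w = b ∨ w = c ∨ w = d := by revert a b c d w; decide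

theorem w4_sign (w : W4) : sign (Equiv.addLeft w) = 1 := by revert w; decide

variable (U : Type*) [Group U]

def baseHom : Multiplicative (U → W4) →* Perm (W4 × U) where
  toFun g := ⟨fun x => (x.1 + (Multiplicative.toAdd g) x.2, x.2),
    fun x => (x.1 + (Multiplicative.toAdd g) x.2, x.2),
    by intro x; simp [add_assoc, w4_add_self], by intro x; simp [add_assoc, w4_add_self]⟩
  map_one' := by
    refine Equiv.ext fun x => Prod.ext ?_ ?_ <;> simp
  map_mul' g h := by
    refine Equiv.ext fun x => Prod.ext ?_ ?_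
    · simp only [toAdd_mul, Pi.add_apply, coe_fn_mk, Perm.coe_mul, Function.comp_apply]
      abel
    · rfl

def topHom : U →* Perm (W4 × U) where
  toFun t := ⟨fun x => (x.1, t * x.2), fun x => (x.1, t⁻¹ * x.2), by intro x; simp,
    by intro x; simp⟩
  map_one' := by
    refine Equiv.ext fun x => Prod.ext ?_ ?_ <;> simp
  map_mul' s t := by
    refine Equiv.ext fun x => Prod.ext ?_ ?_ <;> simp [mul_assoc]

variable {U}

@[simp] theorem baseHom_apply (g : Multiplicative (U → W4)) (x : W4 × U) :
    baseHom U g x = (x.1 + (Multiplicative.toAdd g) x.2, x.2) := rfl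

@[simp] theorem topHom_apply (t : U) (x : W4 × U) : topHom U t x = (x.1, t * x.2) := rfl

theorem sign_baseHom [Fintype U] [DecidableEq U] (g : Multiplicative (U → W4)) :
    sign (baseHom U g) = 1 := by
  have h : baseHom U g = prodCongrLeft (fun u => Equiv.addLeft ((Multiplicative.toAdd g) u)) := by
    refine Equiv.ext fun x => Prod.ext ?_ ?_
    · simp [prodCongrLeft, add_comm]
    · rfl
  rw [h, sign_prodCongrLeft]
  simp [w4_sign]

theorem sign_topHom [Fintype U] [DecidableEq U] (t : U) : sign (topHom U t) = 1 := by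
  have h : topHom U t = prodCongrRight (fun _ : W4 => Equiv.mulLeft t) := by
    refine Equiv.ext fun x => Prod.ext ?_ ?_ <;> simp [prodCongrRight]
  rw [h, sign_prodCongrRight]
  simp only [Finset.prod_const, Finset.card_univ]
  have : Fintype.card W4 = 2 * 2 := by simp
  rw [this, pow_mul, Int.units_sq]

theorem top_conj_base (t : U) (g : Multiplicative (U → W4)) :
    topHom U t * baseHom U g * (topHom U t)⁻¹ =
      baseHom U (Multiplicative.ofAdd (fun u => (Multiplicative.toAdd g) (t⁻¹ * u))) := by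
  refine Equiv.ext fun x => Prod.ext ?_ ?_ <;> simp [← map_inv]

theorem top_le_normalizer_base :
    (topHom U).range ≤ Subgroup.normalizer ((baseHom U).range : Set (Perm (W4 × U))) := by
  rintro _ ⟨t, rfl⟩
  rw [Subgroup.mem_normalizer_iff]
  intro h
  constructor
  · rintro ⟨g, rfl⟩
    rw [top_conj_base]
    exact ⟨_, rfl⟩
  · intro hh
    obtain ⟨g, hg⟩ := hh
    have : h = (topHom U t⁻¹) * (topHom U t * h * (topHom U t)⁻¹) * (topHom U t⁻¹)⁻¹ := by
      simp only [map_inv]; group
    rw [this, ← hg, top_conj_base]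
    exact ⟨_, rfl⟩

def PP (U : Type*) [Group U] : Subgroup (Perm (W4 × U)) := (topHom U).range ⊔ (baseHom U).range

theorem isPGroup_PP (hU : IsPGroup 2 U) : IsPGroup 2 (PP U) := by
  haveI : Fact (Nat.Prime 2) := ⟨Nat.prime_two⟩
  apply IsPGroup.to_sup_of_normal_right'
  · exact hU.of_surjective (topHom U).rangeRestrict (topHom U).rangeRestrict_surjective
  · have hb : IsPGroup 2 (Multiplicative (U → W4)) := by
      intro g
      refine ⟨1, ?_⟩
      rw [pow_one]
      apply Multiplicative.toAdd.injective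
      rw [sq, toAdd_mul, toAdd_one]
      funext u
      exact w4_add_self _
    exact hb.of_surjective (baseHom U).rangeRestrict (baseHom U).rangeRestrict_surjective
  · exact top_le_normalizer_base

theorem PP_le_alt [Fintype U] [DecidableEq U] : PP U ≤ alternatingGroup (W4 × U) := by
  apply sup_le
  · rintro _ ⟨t, rfl⟩
    exact mem_alternatingGroup.mpr (sign_topHom t)
  · rintro _ ⟨g, rfl⟩
    exact mem_alternatingGroup.mpr (sign_baseHom g)

theorem PP_trans (x y : W4 × U) : ∃ σ ∈ PP U, σ x = y := by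
  refine ⟨baseHom U (Multiplicative.ofAdd (fun _ => y.1 + x.1)) * topHom U (y.2 * x.2⁻¹),
    (PP U).mul_mem (Subgroup.mem_sup_right ⟨_, rfl⟩) (Subgroup.mem_sup_left ⟨_, rfl⟩), ?_⟩
  refine Prod.ext ?_ ?_
  · simp only [Perm.coe_mul, Function.comp_apply, topHom_apply, baseHom_apply, toAdd_ofAdd]
    rw [add_comm y.1, ← add_assoc, w4_add_self, zero_add]
  · simp only [Perm.coe_mul, Function.comp_apply, topHom_apply, baseHom_apply]
    exact inv_mul_cancel_right _ _

theorem PP_klein [DecidableEq U] (u : U) (a b c d : W4)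
    (h : a ≠ b ∧ a ≠ c ∧ a ≠ d ∧ b ≠ c ∧ b ≠ d ∧ c ≠ d) :
    swap (a, u) (b, u) * swap (c, u) (d, u) ∈ PP U := by
  have : swap (a, u) (b, u) * swap (c, u) (d, u) =
      baseHom U (Multiplicative.ofAdd (Pi.single u (a + b))) := by
    refine Equiv.ext fun x => ?_
    obtain ⟨w, u'⟩ := x
    have hsum := w4_sum a b c d h
    obtain ⟨hab, hac, had, hbc, hbd, hcd⟩ := h
    simp only [Perm.coe_mul, Function.comp_apply, baseHom_apply, toAdd_ofAdd]
    have hne : ∀ {p q : W4}, p ≠ q → ((p, u) : W4 × U) ≠ (q, u) := by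
      intro p q hpq h
      exact hpq (Prod.ext_iff.mp h).1
    by_cases hu : u' = u
    · subst hu
      rw [Pi.single_eq_same]
      rcases w4_all a b c d w ⟨hab, hac, had, hbc, hbd, hcd⟩ with rfl | rfl | rfl | rfl
      · rw [swap_apply_of_ne_of_ne (hne hac) (hne had), swap_apply_left]
        rw [← add_assoc, w4_add_self, zero_add]
      · rw [swap_apply_of_ne_of_ne (hne hbc) (hne hbd), swap_apply_right]
        rw [add_comm a, ← add_assoc, w4_add_self, zero_add]
      · rw [swap_apply_left, swap_apply_of_ne_of_ne (hne had.symm) (hne hbd.symm)]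
        rw [← hsum, ← add_assoc, w4_add_self, zero_add]
      · rw [swap_apply_right, swap_apply_of_ne_of_ne (hne hac.symm) (hne hbc.symm)]
        rw [← hsum, add_comm c, ← add_assoc, w4_add_self, zero_add]
    · have hne' : ∀ p : W4, ((w, u') : W4 × U) ≠ (p, u) := by
        intro p h
        exact hu (Prod.ext_iff.mp h).2
      rw [swap_apply_of_ne_of_ne (hne' c) (hne' d), swap_apply_of_ne_of_ne (hne' a) (hne' b)]
      rw [Pi.single_eq_of_ne hu, add_zero]
  rw [this]
  exact Subgroup.mem_sup_right ⟨_, rfl⟩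

end Cfsg.Agent.Lib.Helper5.SylMax
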