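import Mathlib
import Cfsg.Agent.Lib.Helper5.SylMaxA
import Cfsg.Agent.Lib.Helper5.SylMaxB

set_option autoImplicit false

namespace Cfsg.Agent.Lib.Helper5.SylMax

open Equiv Equiv.Perm MulAction
open scoped Pointwise

variable {α : Type*} [Fintype α] [DecidableEq α]

def Good (T : Subgroup (Perm α)) (x₀ : α) : Prop :=
  IsPGroup 2 T ∧ T ≤ alternatingGroup α ∧ (∀ t ∈ T, t x₀ = x₀) ∧
  (∀ y z, y ≠ x₀ → z ≠ x₀ → ∃ t ∈ T, t y = z) ∧
  ∃ D : Set (Set α), (∀ S ∈ D, S.ncard = 4 ∧ x₀ ∉ S ∧ KleinIn T S) ∧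
    (∀ y, y ≠ x₀ → ∃ S ∈ D, y ∈ S) ∧ (∀ S ∈ D, ∀ S' ∈ D, ∀ y, y ∈ S → y ∈ S' → S = S')

theorem extendDomain_swap {β : Type*} [DecidableEq β] {p : α → Prop} [DecidablePred p]
    (f : β ≃ Subtype p) (a b : β) :
    (swap a b).extendDomain f = swap (f a : α) (f b : α) := by
  ext y
  by_cases hy : p y
  · obtain ⟨x, hx⟩ := f.surjective ⟨y, hy⟩
    have hyx : y = (f x : α) := by rw [hx]
    rw [hyx, Perm.extendDomain_apply_image]
    have hinj : Function.Injective (fun x => (f x : α)) :=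
      Subtype.val_injective.comp f.injective
    exact (hinj.swap_apply a b x).symm
  · rw [Perm.extendDomain_apply_not_subtype _ _ hy]
    rw [swap_apply_of_ne_of_ne]
    · rintro rfl; exact hy (f a).2
    · rintro rfl; exact hy (f b).2

theorem good_of_equiv {U : Type*} [Group U] [Fintype U] [DecidableEq U] (hU : IsPGroup 2 U)
    (x₀ : α) (f : W4 × U ≃ {y : α // y ≠ x₀}) :
    Good ((PP U).map (Perm.extendDomainHom f)) x₀ := by
  refine ⟨(isPGroup_PP hU).map _, ?_, ?_, ?_, ?_⟩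
  · rintro _ ⟨σ, hσ, rfl⟩
    rw [mem_alternatingGroup]
    change sign (σ.extendDomain f) = 1
    rw [sign_extendDomain]
    exact mem_alternatingGroup.mp (PP_le_alt hσ)
  · rintro _ ⟨σ, hσ, rfl⟩
    change σ.extendDomain f x₀ = x₀
    exact Perm.extendDomain_apply_not_subtype _ _ (fun h => h rfl)
  · intro y z hy hz
    obtain ⟨x, hx⟩ := f.surjective ⟨y, hy⟩
    obtain ⟨x', hx'⟩ := f.surjective ⟨z, hz⟩
    obtain ⟨σ, hσ, hσx⟩ := PP_trans x x'
    refine ⟨_, ⟨σ, hσ, rfl⟩, ?_⟩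
    change σ.extendDomain f y = z
    have hyx : y = (f x : α) := by rw [hx]
    rw [hyx, Perm.extendDomain_apply_image, hσx, hx']
  · refine ⟨Set.range (fun u : U => Set.range (fun w : W4 => (f (w, u) : α))), ?_, ?_, ?_⟩
    · rintro _ ⟨u, rfl⟩
      have hinj : Function.Injective (fun w : W4 => (f (w, u) : α)) := by
        intro w w' h
        have := f.injective (Subtype.val_injective h)
        exact (Prod.ext_iff.mp this).1
      refine ⟨?_, ?_, ?_⟩
      · change (Set.range (fun w : W4 => (f (w, u) : α))).ncard = 4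
        rw [← Set.image_univ, Set.ncard_image_of_injective _ hinj, Set.ncard_univ]
        simp
      · rintro ⟨w, hw⟩
        exact (f (w, u)).2 hw
      · rintro _ _ _ _ ⟨a, rfl⟩ ⟨b, rfl⟩ ⟨c, rfl⟩ ⟨d, rfl⟩ hab hac had hbc hbd hcd
        have hne : ∀ {p q : W4}, (f (p, u) : α) ≠ (f (q, u) : α) → p ≠ q := by
          intro p q h h'
          exact h (h' ▸ rfl)
        refine ⟨swap (a, u) (b, u) * swap (c, u) (d, u),
          PP_klein u a b c d ⟨hne hab, hne hac, hne had, hne hbc, hne hbd, hne hcd⟩, ?_⟩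
        rw [map_mul]
        change (swap (a, u) (b, u)).extendDomain f * (swap (c, u) (d, u)).extendDomain f = _
        rw [extendDomain_swap, extendDomain_swap]
    · intro y hy
      obtain ⟨x, hx⟩ := f.surjective ⟨y, hy⟩
      refine ⟨_, ⟨x.2, rfl⟩, ⟨x.1, ?_⟩⟩
      change (f (x.1, x.2) : α) = y
      rw [Prod.mk.eta, hx]
    · rintro _ ⟨u, rfl⟩ _ ⟨u', rfl⟩ y ⟨w, hw⟩ ⟨w', hw'⟩
      have h : f (w, u) = f (w', u') := Subtype.val_injective (hw.trans hw'.symm)
      have := f.injective h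
      have hu : u = u' := (Prod.ext_iff.mp this).2
      rw [hu]

theorem exists_good (k : ℕ) (hk : 2 ≤ k) (hα : Fintype.card α = 2 ^ k + 1) :
    ∃ (T : Subgroup (Perm α)) (x₀ : α), Good T x₀ := by
  have hne : Nonempty α := by
    rw [← Fintype.card_pos_iff, hα]; exact Nat.succ_pos _
  obtain ⟨x₀⟩ := hne
  haveI : NeZero (2 ^ (k - 2)) := ⟨by positivity⟩
  let U := Multiplicative (ZMod (2 ^ (k - 2)))
  have hUcard : Nat.card U = 2 ^ (k - 2) := by
    rw [Nat.card_eq_fintype_card, Fintype.card_multiplicative]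
    exact ZMod.card _
  have hU : IsPGroup 2 U := IsPGroup.of_card hUcard
  have hcard : Fintype.card (W4 × U) = Fintype.card {y : α // y ≠ x₀} := by
    rw [Fintype.card_subtype_compl, Fintype.card_subtype_eq, hα, Fintype.card_prod,
      ← Nat.card_eq_fintype_card (α := U), hUcard]
    have : Fintype.card W4 = 2 ^ 2 := by simp
    rw [this, ← pow_add]
    congr 1
    omega
  exact ⟨_, x₀, good_of_equiv hU x₀ (Fintype.equivOfCardEq hcard)⟩

end Cfsg.Agent.Lib.Helper5.SylMax
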