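import Mathlib
import Cfsg.Agent.Lib.Helper5.SylMaxA
import Cfsg.Agent.Lib.Helper5.SylMaxB
import Cfsg.Agent.Lib.Helper5.SylMaxC

set_option autoImplicit false

namespace Cfsg.Agent.Lib.Helper5.SylMax

open Equiv Equiv.Perm MulAction
open scoped Pointwise

variable {α : Type*} [Fintype α] [DecidableEq α] {G : Type*} [Group G]

theorem eq_top_of_alt_le (ι : G →* Perm α) (hι : Function.Injective ι) (M : Subgroup G)
    (h1 : alternatingGroup α ≤ M.map ι)
    (h2 : (∃ g : G, sign (ι g) ≠ 1) → ∃ m ∈ M, sign (ι m) ≠ 1) : M = ⊤ := by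
  rw [eq_top_iff]
  intro g _
  have key : ∀ g : G, sign (ι g) = 1 → g ∈ M := by
    intro g hg
    obtain ⟨m, hm, hmg⟩ := h1 (mem_alternatingGroup.mpr hg)
    rw [← hι hmg]; exact hm
  by_cases hg : sign (ι g) = 1
  · exact key g hg
  · obtain ⟨m, hm, hms⟩ := h2 ⟨g, hg⟩
    have h3 : sign (ι (g * m⁻¹)) = 1 := by
      rw [map_mul, map_inv, Perm.sign_mul, Perm.sign_inv]
      rcases Int.units_eq_one_or (sign (ι g)) with h | h
      · exact absurd h hg
      · rcases Int.units_eq_one_or (sign (ι m)) with h' | h'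
        · exact absurd h' hms
        · rw [h, h']; rfl
    have := M.mul_mem (key _ h3) hm
    simpa using this

theorem odd_mem_of_sylow [Finite G] (ι : G →* Perm α) (R : Sylow 2 G)
    (h : ∃ g : G, sign (ι g) ≠ 1) : ∃ r ∈ (R : Subgroup G), sign (ι r) ≠ 1 := by
  haveI : Fact (Nat.Prime 2) := ⟨Nat.prime_two⟩
  by_contra hcon
  push Not at hcon
  let φ : G →* ℤˣ := (sign : Perm α →* ℤˣ).comp ι
  have hR : (R : Subgroup G) ≤ φ.ker := by
    intro r hr
    rw [MonoidHom.mem_ker]
    exact hcon r hr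
  have hidx : φ.ker.index = 2 := by
    rw [Subgroup.index_ker]
    have : φ.range = ⊤ := by
      rw [eq_top_iff]
      intro u _
      obtain ⟨g, hg⟩ := h
      rcases Int.units_eq_one_or u with hu | hu
      · rw [hu]; exact Subgroup.one_mem _
      · refine ⟨g, ?_⟩
        rcases Int.units_eq_one_or (sign (ι g)) with h' | h'
        · exact absurd h' hg
        · rw [hu]; exact h'
    rw [this, Subgroup.card_top]
    simp
  have := Subgroup.relIndex_mul_index hR
  rw [hidx] at this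
  exact R.not_dvd_index ⟨_, this.symm.trans (mul_comm _ _)⟩

theorem unique_of_good (ι : G →* Perm α) (hι : Function.Injective ι)
    (hco : ∀ s : Set α, s.Nonempty → sᶜ.Nonempty → Fintype.card α ≠ 2 * s.ncard →
      IsCoatom ((stabilizer (Perm α) s).comap ι))
    (hodd : ¬ 2 ∣ Fintype.card α) (h3 : 3 ≤ Fintype.card α)
    {T : Subgroup (Perm α)} {x₀ : α} (hT : Good T x₀)
    (R : Subgroup G) (hR : IsPGroup 2 R) (hTR : T ≤ R.map ι)
    (hRodd : (∃ g : G, sign (ι g) ≠ 1) → ∃ r ∈ R, sign (ι r) ≠ 1) :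
    ∃! M : Subgroup G, IsCoatom M ∧ R ≤ M := by
  haveI : Fact (Nat.Prime 2) := ⟨Nat.prime_two⟩
  obtain ⟨hT2, hTalt, hTfix, hTtr, D, hD1, hD2, hD3⟩ := hT
  have hRfix : ∀ r ∈ R, ι r x₀ = x₀ := by
    have hR' : IsPGroup 2 (R.map ι) := hR.map ι
    obtain ⟨x, hx⟩ := hR'.nonempty_fixed_point_of_prime_not_dvd_card α
      (by rwa [Nat.card_eq_fintype_card])
    have hxx : x = x₀ := by
      by_contra hne
      obtain ⟨z, hzx₀, hzx⟩ : ∃ z, z ≠ x₀ ∧ z ≠ x := by
        by_contra hcon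
        push Not at hcon
        have : (Finset.univ : Finset α) ⊆ {x₀, x} := by
          intro z _
          by_cases h : z = x₀
          · simp [h]
          · simp [hcon z h]
        have := Finset.card_le_card this
        rw [Finset.card_univ] at this
        have h2 : ({x₀, x} : Finset α).card ≤ 2 := Finset.card_le_two
        omega
      obtain ⟨t, ht, htx⟩ := hTtr x z hne hzx₀
      have : t x = x := hx ⟨t, hTR ht⟩
      exact hzx (htx.symm.trans this)
    intro r hr
    rw [← hxx]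
    exact hx ⟨ι r, r, hr, rfl⟩
  have hM₀ : IsCoatom ((stabilizer (Perm α) ({x₀} : Set α)).comap ι) := by
    apply hco
    · exact Set.singleton_nonempty _
    · rw [Set.nonempty_compl]
      intro h
      have := congrArg Set.ncard h
      rw [Set.ncard_singleton, Set.ncard_univ, Nat.card_eq_fintype_card] at this
      omega
    · rw [Set.ncard_singleton]
      intro h
      exact hodd ⟨1, h⟩
  have hmem₀ : ∀ g : G, g ∈ (stabilizer (Perm α) ({x₀} : Set α)).comap ι ↔ ι g x₀ = x₀ := by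
    intro g
    rw [Subgroup.mem_comap, stabilizer_singleton, mem_stabilizer_iff]
    rfl
  refine ⟨_, ⟨hM₀, fun r hr => (hmem₀ r).mpr (hRfix r hr)⟩, ?_⟩
  rintro M ⟨hM, hRM⟩
  by_cases hfix : ∀ m ∈ M, ι m x₀ = x₀
  · have hle : M ≤ (stabilizer (Perm α) ({x₀} : Set α)).comap ι :=
      fun m hm => (hmem₀ m).mpr (hfix m hm)
    rcases hM.le_iff.mp hle with h | h
    · exact absurd h hM₀.1
    · exact h.symm
  · exfalso
    push Not at hfix
    obtain ⟨m, hm, hmx⟩ := hfix
    have hTM : T ≤ M.map ι := hTR.trans (Subgroup.map_mono hRM)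
    have hprim : IsPreprimitive (M.map ι) α := by
      apply crit (M.map ι) x₀ ⟨ι m, ⟨m, hm, rfl⟩, hmx⟩
      intro y z hy hz
      obtain ⟨t, ht, hty⟩ := hTtr y z hy hz
      exact ⟨t, hTM ht, hTfix t ht, hty⟩
    obtain ⟨c, hc, hc3⟩ := exists_threeCycle_of_blocks (M := M.map ι) x₀ D
      (fun S hS => ⟨(hD1 S hS).1, (hD1 S hS).2.1, kleinIn_mono hTM (hD1 S hS).2.2⟩) hD2 hD3
      (m := ι m) ⟨m, hm, rfl⟩ hmx
    have halt := alternatingGroup_le_of_isPreprimitive_of_isThreeCycle_mem hprim hc3 hc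
    apply hM.1
    apply eq_top_of_alt_le ι hι M halt
    intro h
    obtain ⟨r, hr, hrs⟩ := hRodd h
    exact ⟨r, hRM hr, hrs⟩

end Cfsg.Agent.Lib.Helper5.SylMax
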