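import Mathlib
import Cfsg.Agent.Lib.Helper5.SylMaxD

set_option autoImplicit false

namespace Cfsg.Agent.Lib.Helper5.SylMax

open Equiv Equiv.Perm MulAction
open scoped Pointwise

variable {α : Type*} [Fintype α] [DecidableEq α] {G : Type*} [Group G]

theorem unique_of_card [Finite G] (ι : G →* Perm α) (hι : Function.Injective ι)
    (hA : alternatingGroup α ≤ ι.range)
    (hco : ∀ s : Set α, s.Nonempty → sᶜ.Nonempty → Fintype.card α ≠ 2 * s.ncard →
      IsCoatom ((stabilizer (Perm α) s).comap ι))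
    (k : ℕ) (hk : 2 ≤ k) (hα : Fintype.card α = 2 ^ k + 1) (R : Sylow 2 G) :
    ∃! M : Subgroup G, IsCoatom M ∧ (R : Subgroup G) ≤ M := by
  haveI : Fact (Nat.Prime 2) := ⟨Nat.prime_two⟩
  obtain ⟨T, x₀, hT⟩ := exists_good (α := α) k hk hα
  have hT2 : IsPGroup 2 (T.comap ι) := hT.1.comap_of_injective ι hι
  obtain ⟨Q, hQ⟩ := hT2.exists_le_sylow
  obtain ⟨g, hg⟩ := MulAction.exists_smul_eq G Q R
  let φ : G ≃* G := MulAut.conj g⁻¹
  let ι' : G →* Perm α := ι.comp φ.toMonoidHom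
  have hι' : Function.Injective ι' := hι.comp φ.injective
  have hco' : ∀ s : Set α, s.Nonempty → sᶜ.Nonempty → Fintype.card α ≠ 2 * s.ncard →
      IsCoatom ((stabilizer (Perm α) s).comap ι') := by
    intro s h1 h2 h3
    have := hco s h1 h2 h3
    rw [← Subgroup.comap_comap]
    exact (OrderIso.isCoatom_iff (MulEquiv.comapSubgroup φ) _).mpr this
  have h2k : 4 ≤ 2 ^ k := by
    calc 4 = 2 ^ 2 := by norm_num
      _ ≤ 2 ^ k := Nat.pow_le_pow_right (by norm_num) hk
  have hodd : ¬ 2 ∣ Fintype.card α := by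
    rw [hα]
    have : 2 ∣ 2 ^ k := dvd_pow_self 2 (by omega)
    omega
  apply unique_of_good ι' hι' hco' hodd (by omega) hT (R : Subgroup G) R.isPGroup'
  · intro t ht
    obtain ⟨x, hx⟩ := hA (hT.2.1 ht)
    have hxQ : x ∈ (Q : Subgroup G) := hQ (by rw [Subgroup.mem_comap, hx]; exact ht)
    refine ⟨g * x * g⁻¹, ?_, ?_⟩
    · rw [← hg]
      change g * x * g⁻¹ ∈ ((g • Q : Sylow 2 G) : Subgroup G)
      rw [Sylow.smul_def, Sylow.pointwise_smul_def]
      have := Subgroup.smul_mem_pointwise_smul x (MulAut.conj g) (Q : Subgroup G) hxQ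
      rwa [MulAut.smul_def, MulAut.conj_apply] at this
    · change ι (g⁻¹ * (g * x * g⁻¹) * g⁻¹⁻¹) = t
      rw [← hx]
      congr 1
      group
  · exact odd_mem_of_sylow ι' R

end Cfsg.Agent.Lib.Helper5.SylMax
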