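import Mathlib

set_option autoImplicit false

namespace Cfsg.Agent.Lib.Helper5.SylMax

open Equiv Equiv.Perm MulAction
open scoped Pointwise

variable {α : Type*} [Fintype α] [DecidableEq α]

def ZGood (P : Subgroup (Perm α)) (O : Set α) (ζ : Perm α) : Prop :=
  ζ * ζ = 1 ∧ (∀ y ∈ O, ζ y ∈ O ∧ ζ y ≠ y) ∧ (∀ y, y ∉ O → ζ y = y) ∧ ∀ σ ∈ P, σ * ζ = ζ * σ

theorem exists_zgood_orbit (P : Subgroup (Perm α)) (hP : IsPGroup 2 P) (x : α)
    (hx : ∃ σ ∈ P, σ x ≠ x) : ∃ ζ : Perm α, ZGood P (orbit P x) ζ := by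
  classical
  haveI : Fact (Nat.Prime 2) := ⟨Nat.prime_two⟩
  let O : Set α := orbit P x
  let ρ : P →* Perm O := MulAction.toPermHom P O
  have hρ : ∀ (σ : P) (y : O), ((ρ σ y : O) : α) = (σ : Perm α) (y : α) := fun σ y => rfl
  have hP1 : IsPGroup 2 ρ.range := hP.of_surjective ρ.rangeRestrict ρ.rangeRestrict_surjective
  have hnt : Nontrivial ρ.range := by
    obtain ⟨σ, hσ, hσx⟩ := hx
    refine ⟨⟨⟨ρ ⟨σ, hσ⟩, ⟨_, rfl⟩⟩, 1, ?_⟩⟩
    intro h
    have h1 : ρ ⟨σ, hσ⟩ = 1 := congrArg Subtype.val h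
    have h2 := hρ ⟨σ, hσ⟩ ⟨x, mem_orbit_self x⟩
    rw [h1] at h2
    exact hσx h2.symm
  have hcn : Nontrivial (Subgroup.center ρ.range) := hP1.center_nontrivial
  have hc2 : IsPGroup 2 (Subgroup.center ρ.range) := hP1.to_subgroup _
  have hdvd : 2 ∣ Nat.card (Subgroup.center ρ.range) := by
    rcases hc2.card_eq_or_dvd with h | h
    · exfalso
      have := (Nat.card_eq_one_iff_unique.mp h).1
      exact not_subsingleton _ this
    · exact h
  obtain ⟨c, hc⟩ := exists_prime_orderOf_dvd_card' 2 hdvd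
  obtain ⟨z₁, hz₁⟩ : ∃ z₁ : Perm O, z₁ = ((c : ρ.range) : Perm O) := ⟨_, rfl⟩
  have hz₁sq : z₁ * z₁ = 1 := by
    have h1 : c ^ 2 = 1 := by rw [← hc]; exact pow_orderOf_eq_one c
    have h2 : ((c ^ 2 : Subgroup.center ρ.range) : ρ.range) = 1 := by rw [h1]; rfl
    have h3 : (((c ^ 2 : Subgroup.center ρ.range) : ρ.range) : Perm O) = 1 := by rw [h2]; rfl
    rw [hz₁, ← sq]
    exact h3
  have hz₁ne : z₁ ≠ 1 := by
    intro h
    have h1 : c = 1 := by
      apply Subtype.ext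
      apply Subtype.ext
      rw [← hz₁, h]; rfl
    rw [h1, orderOf_one] at hc
    omega
  have hz₁comm : ∀ σ : P, ρ σ * z₁ = z₁ * ρ σ := by
    intro σ
    have hmem := c.2
    rw [Subgroup.mem_center_iff] at hmem
    have := hmem ⟨ρ σ, ⟨σ, rfl⟩⟩
    have h2 := congrArg Subtype.val this
    rw [hz₁]
    exact h2
  have hz₁fpf : ∀ y : O, z₁ y ≠ y := by
    intro y hy
    apply hz₁ne
    ext y'
    obtain ⟨σ, hσ⟩ := MulAction.exists_smul_eq P y y'
    have h1 : ρ σ y = y' := hσ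
    rw [← h1]
    have h2 : z₁ (ρ σ y) = (z₁ * ρ σ) y := rfl
    rw [h2, ← hz₁comm σ, Perm.mul_apply, hy, Perm.one_apply]
  refine ⟨ofSubtype z₁, ?_, ?_, ?_, ?_⟩
  · rw [← map_mul, hz₁sq, map_one]
  · intro y hy
    rw [ofSubtype_apply_of_mem z₁ hy]
    refine ⟨(z₁ ⟨y, hy⟩).2, ?_⟩
    intro h
    exact hz₁fpf ⟨y, hy⟩ (Subtype.ext h)
  · intro y hy
    exact ofSubtype_apply_of_not_mem z₁ hy
  · intro σ hσ
    ext y
    rw [Perm.mul_apply, Perm.mul_apply]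
    by_cases hy : y ∈ O
    · have hσy : σ y ∈ O := by
        have : (⟨σ, hσ⟩ : P) • y ∈ orbit P x := by
          rw [← orbit_eq_iff.mpr hy]
          exact mem_orbit _ _
        exact this
      rw [ofSubtype_apply_of_mem z₁ hy, ofSubtype_apply_of_mem z₁ hσy]
      have h1 : (⟨σ y, hσy⟩ : O) = ρ ⟨σ, hσ⟩ ⟨y, hy⟩ := Subtype.ext rfl
      rw [h1]
      have h2 : z₁ (ρ ⟨σ, hσ⟩ ⟨y, hy⟩) = (z₁ * ρ ⟨σ, hσ⟩) ⟨y, hy⟩ := rfl
      rw [h2, ← hz₁comm, Perm.mul_apply, hρ]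
    · have hσy : σ y ∉ O := by
        intro h
        apply hy
        have h1 : (⟨σ, hσ⟩ : P)⁻¹ • (σ y) ∈ orbit P x := by
          rw [← orbit_eq_iff.mpr h]
          exact mem_orbit _ _
        have h2 : (⟨σ, hσ⟩ : P)⁻¹ • (σ y) = y := by
          change σ⁻¹ (σ y) = y
          simp
        rwa [h2] at h1
      rw [ofSubtype_apply_of_not_mem z₁ hy, ofSubtype_apply_of_not_mem z₁ hσy]

theorem exists_fpf_involution (P : Subgroup (Perm α)) (hP : IsPGroup 2 P)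
    (hx : ∀ x : α, ∃ σ ∈ P, σ x ≠ x) :
    ∃ z : Perm α, z * z = 1 ∧ (∀ x, z x ≠ x) ∧ (∀ x, z x ∈ orbit P x) ∧
      ∀ σ ∈ P, σ * z = z * σ := by
  classical
  let F : Set α → Perm α := fun O => if h : ∃ ζ, ZGood P O ζ then h.choose else 1
  have hF : ∀ x, ZGood P (orbit P x) (F (orbit P x)) := by
    intro x
    have h := exists_zgood_orbit P hP x (hx x)
    simp only [F, dif_pos h]
    exact h.choose_spec
  have hmem : ∀ x, F (orbit P x) x ∈ orbit P x := fun x => ((hF x).2.1 x (mem_orbit_self x)).1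
  have hinv : Function.Involutive (fun x => F (orbit P x) x) := by
    intro x
    change F (orbit P (F (orbit P x) x)) (F (orbit P x) x) = x
    rw [orbit_eq_iff.mpr (hmem x)]
    have := (hF x).1
    rw [← Perm.mul_apply, this, Perm.one_apply]
  refine ⟨hinv.toPerm _, ?_, ?_, ?_, ?_⟩
  · ext x
    rw [Perm.mul_apply, Perm.one_apply]
    exact hinv x
  · intro x
    exact ((hF x).2.1 x (mem_orbit_self x)).2
  · intro x
    exact hmem x
  · intro σ hσ
    ext x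
    rw [Perm.mul_apply, Perm.mul_apply]
    change σ (F (orbit P x) x) = F (orbit P (σ x)) (σ x)
    have h1 : orbit P (σ x) = orbit P x := orbit_smul (⟨σ, hσ⟩ : P) x
    rw [h1, ← Perm.mul_apply, ← Perm.mul_apply, (hF x).2.2.2 σ hσ]

end Cfsg.Agent.Lib.Helper5.SylMax
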