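import Mathlib
import Cfsg.Agent.Lib.Helper5.SylMaxA
import Cfsg.Agent.Lib.Helper5.SylMaxD

set_option autoImplicit false

namespace Cfsg.Agent.Lib.Helper5.SylMax

open Equiv Equiv.Perm MulAction
open scoped Pointwise

variable {α : Type*} [Fintype α] [DecidableEq α] {G : Type*} [Group G]

theorem not_unique_of_ne {R M₁ M₂ : Subgroup G} (h1 : IsCoatom M₁) (h2 : IsCoatom M₂)
    (hR1 : R ≤ M₁) (hR2 : R ≤ M₂) (hne : M₁ ≠ M₂) :
    ¬ ∃! M : Subgroup G, IsCoatom M ∧ R ≤ M := by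
  rintro ⟨M, -, hM⟩
  exact hne ((hM M₁ ⟨h1, hR1⟩).trans (hM M₂ ⟨h2, hR2⟩).symm)

theorem not_unique_of_not_le [Finite G] {R M₁ H : Subgroup G} (h1 : IsCoatom M₁)
    (hR1 : R ≤ M₁) (hRH : R ≤ H) (hH : H ≠ ⊤) (hHM : ¬ H ≤ M₁) :
    ¬ ∃! M : Subgroup G, IsCoatom M ∧ R ≤ M := by
  rcases eq_top_or_exists_le_coatom H with h | ⟨M₂, h2, hHM₂⟩
  · exact absurd h hH
  · apply not_unique_of_ne h1 h2 hR1 (hRH.trans hHM₂)
    rintro rfl
    exact hHM hHM₂

theorem not_unique_of_sup [Finite G] {R H₁ H₂ : Subgroup G} (hR1 : R ≤ H₁) (hR2 : R ≤ H₂)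
    (h1 : H₁ ≠ ⊤) (h2 : H₂ ≠ ⊤) (hsup : H₁ ⊔ H₂ = ⊤) :
    ¬ ∃! M : Subgroup G, IsCoatom M ∧ R ≤ M := by
  rcases eq_top_or_exists_le_coatom H₁ with h | ⟨M₁, hM₁, hHM₁⟩
  · exact absurd h h1
  · apply not_unique_of_not_le hM₁ (hR1.trans hHM₁) hR2 h2
    intro h
    apply hM₁.1
    rw [eq_top_iff, ← hsup]
    exact sup_le hHM₁ h

theorem exists_of_even (ι : G →* Perm α) (hA : alternatingGroup α ≤ ι.range) (σ : Perm α)
    (hσ : sign σ = 1) : ∃ g : G, ι g = σ := hA (mem_alternatingGroup.mpr hσ)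

theorem swap_smul_eq_of_mem {s : Set α} {a b : α} (ha : a ∈ s) (hb : b ∈ s) :
    swap a b ∈ stabilizer (Perm α) s := Equiv.Perm.swap_mem_stabilizer ha hb

theorem swap_smul_eq_of_notMem {s : Set α} {a b : α} (ha : a ∉ s) (hb : b ∉ s) :
    swap a b ∈ stabilizer (Perm α) s := by
  rw [← stabilizer_compl]
  exact Equiv.Perm.swap_mem_stabilizer ha hb

theorem apply_mem_of_mem_stabilizer {s : Set α} {σ : Perm α} (hσ : σ ∈ stabilizer (Perm α) s)
    {y : α} (hy : y ∈ s) : σ y ∈ s := by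
  rw [mem_stabilizer_iff] at hσ
  rw [← hσ]
  exact Set.smul_mem_smul_set hy

theorem case_three (ι : G →* Perm α) [Finite G] (hA : alternatingGroup α ≤ ι.range)
    (hco : ∀ s : Set α, s.Nonempty → sᶜ.Nonempty → Fintype.card α ≠ 2 * s.ncard →
      IsCoatom ((stabilizer (Perm α) s).comap ι))
    (h5 : 5 ≤ Fintype.card α) (R : Subgroup G) (S S' : Set α)
    (hRS : R ≤ (stabilizer (Perm α) S).comap ι) (hRS' : R ≤ (stabilizer (Perm α) S').comap ι)
    (hS : S.Nonempty) (hS' : S'.Nonempty) (hdisj : Disjoint S S') (w : α) (hwS : w ∉ S)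
    (hwS' : w ∉ S') (hc : Fintype.card α ≠ 2 * S.ncard) (hc' : Fintype.card α ≠ 2 * S'.ncard) :
    ¬ ∃! M : Subgroup G, IsCoatom M ∧ R ≤ M := by
  obtain ⟨y', hy'⟩ := hS'
  have hy'S : y' ∉ S := fun h => Set.disjoint_left.mp hdisj h hy'
  have hM₁ := hco S hS ⟨w, hwS⟩ hc
  have hM₂ := hco S' ⟨y', hy'⟩ ⟨w, hwS'⟩ hc'
  apply not_unique_of_ne hM₁ hM₂ hRS hRS'
  have hwy : y' ≠ w := fun h => hwS' (h ▸ hy')
  obtain ⟨p, q, hpq, hpy, hpw, hqy, hqw, hpqS⟩ : ∃ p q : α, p ≠ q ∧ p ≠ y' ∧ p ≠ w ∧ q ≠ y' ∧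
      q ≠ w ∧ (p ∈ S ↔ q ∈ S) := by
    have hcard : 3 ≤ ((Finset.univ : Finset α) \ {y', w}).card := by
      have h1 := Finset.card_sdiff_add_card_inter (Finset.univ : Finset α) {y', w}
      have h2 : ((Finset.univ : Finset α) ∩ {y', w}).card ≤ 2 :=
        (Finset.card_le_card Finset.inter_subset_right).trans Finset.card_le_two
      rw [Finset.card_univ] at h1
      omega
    obtain ⟨r₁, r₂, r₃, hr₁, hr₂, hr₃, h12, h13, h23⟩ := Finset.two_lt_card_iff.mp hcard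
    have hout : ∀ {r : α}, r ∈ (Finset.univ : Finset α) \ {y', w} → r ≠ y' ∧ r ≠ w := by
      intro r hr
      rw [Finset.mem_sdiff, Finset.mem_insert, Finset.mem_singleton] at hr
      exact ⟨fun h => hr.2 (Or.inl h), fun h => hr.2 (Or.inr h)⟩
    by_cases c12 : r₁ ∈ S ↔ r₂ ∈ S
    · exact ⟨r₁, r₂, h12, (hout hr₁).1, (hout hr₁).2, (hout hr₂).1, (hout hr₂).2, c12⟩
    · by_cases c13 : r₁ ∈ S ↔ r₃ ∈ S
      · exact ⟨r₁, r₃, h13, (hout hr₁).1, (hout hr₁).2, (hout hr₃).1, (hout hr₃).2, c13⟩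
      · refine ⟨r₂, r₃, h23, (hout hr₂).1, (hout hr₂).2, (hout hr₃).1, (hout hr₃).2, ?_⟩
        tauto
  obtain ⟨g, hg⟩ := exists_of_even ι hA (swap y' w * swap p q) (sign_dswap hwy hpq)
  intro heq
  have hg1 : g ∈ (stabilizer (Perm α) S).comap ι := by
    rw [Subgroup.mem_comap, hg]
    apply Subgroup.mul_mem
    · exact swap_smul_eq_of_notMem hy'S hwS
    · by_cases hp : p ∈ S
      · exact swap_smul_eq_of_mem hp (hpqS.mp hp)
      · exact swap_smul_eq_of_notMem hp (fun h => hp (hpqS.mpr h))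
  rw [heq, Subgroup.mem_comap, hg] at hg1
  have := apply_mem_of_mem_stabilizer hg1 hy'
  rw [Perm.mul_apply, swap_apply_of_ne_of_ne hpy.symm hqy.symm, swap_apply_left] at this
  exact hwS' this

def CZ (ι : G →* Perm α) (z : Perm α) : Subgroup G := (Subgroup.centralizer {z}).comap ι

theorem mem_CZ (ι : G →* Perm α) (z : Perm α) (g : G) : g ∈ CZ ι z ↔ z * ι g = ι g * z := by
  unfold CZ
  rw [Subgroup.mem_comap, Subgroup.mem_centralizer_iff]
  simp

theorem le_CZ (ι : G →* Perm α) (z : Perm α) (R : Subgroup G)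
    (hz : ∀ r ∈ R, ι r * z = z * ι r) : R ≤ CZ ι z := fun r hr =>
  (mem_CZ ι z r).mpr (hz r hr).symm

theorem CZ_ne_top (ι : G →* Perm α) (hA : alternatingGroup α ≤ ι.range)
    (h3 : 3 ≤ Fintype.card α) (z : Perm α) (hz2 : z * z = 1) (hfpf : ∀ x, z x ≠ x) :
    CZ ι z ≠ ⊤ := by
  have hne : Nonempty α := by
    rw [← Fintype.card_pos_iff]; omega
  obtain ⟨a⟩ := hne
  obtain ⟨b, hba, hbz⟩ : ∃ b, b ≠ a ∧ b ≠ z a := by
    by_contra hcon
    push Not at hcon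
    have : (Finset.univ : Finset α) ⊆ {a, z a} := by
      intro b _
      by_cases h : b = a
      · simp [h]
      · simp [hcon b h]
    have := Finset.card_le_card this
    rw [Finset.card_univ] at this
    have h2 : ({a, z a} : Finset α).card ≤ 2 := Finset.card_le_two
    omega
  obtain ⟨g, hg⟩ := exists_of_even ι hA (swap a b * swap a (z a)) (sign_dswap hba.symm (hfpf a).symm)
  intro htop
  have hgm : g ∈ CZ ι z := by rw [htop]; trivial
  rw [mem_CZ, hg] at hgm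
  have h1 := congrArg (fun σ : Perm α => σ a) hgm
  simp only [Perm.mul_apply] at h1
  rw [swap_apply_left, swap_apply_of_ne_of_ne (hfpf a) hbz.symm, swap_apply_right, swap_apply_left,
    ← Perm.mul_apply, hz2, Perm.one_apply] at h1
  exact hba h1.symm

theorem dswap_mem_CZ (ι : G →* Perm α) (z : Perm α) (hz2 : z * z = 1) {y y' : α} {g : G}
    (hg : ι g = swap y y' * swap (z y) (z y')) (h1 : y ≠ z y) (h2 : y ≠ z y') (h3 : y' ≠ z y)
    (h4 : y' ≠ z y') : g ∈ CZ ι z := by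
  rw [mem_CZ, hg]
  have hzz : ∀ x, z (z x) = x := fun x => by rw [← Perm.mul_apply, hz2, Perm.one_apply]
  have hconj : z * (swap y y' * swap (z y) (z y')) * z⁻¹ = swap y y' * swap (z y) (z y') := by
    calc z * (swap y y' * swap (z y) (z y')) * z⁻¹
        = (z * swap y y' * z⁻¹) * (z * swap (z y) (z y') * z⁻¹) := by group
      _ = swap (z y) (z y') * swap (z (z y)) (z (z y')) := by
          rw [← swap_apply_apply, ← swap_apply_apply]
      _ = swap (z y) (z y') * swap y y' := by rw [hzz, hzz]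
      _ = swap y y' * swap (z y) (z y') := (swap_comm_of_ne h1 h2 h3 h4).symm
  calc z * (swap y y' * swap (z y) (z y'))
      = (z * (swap y y' * swap (z y) (z y')) * z⁻¹) * z := by group
    _ = swap y y' * swap (z y) (z y') * z := by rw [hconj]

theorem case_two_unequal (ι : G →* Perm α) [Finite G] (hA : alternatingGroup α ≤ ι.range)
    (hco : ∀ s : Set α, s.Nonempty → sᶜ.Nonempty → Fintype.card α ≠ 2 * s.ncard →
      IsCoatom ((stabilizer (Perm α) s).comap ι))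
    (h3 : 3 ≤ Fintype.card α) (R : Subgroup G) (O : Set α)
    (hRO : R ≤ (stabilizer (Perm α) O).comap ι) (hO : O.Nonempty) (hOc : Oᶜ.Nonempty)
    (hc : Fintype.card α ≠ 2 * O.ncard) (z : Perm α) (hz2 : z * z = 1) (hfpf : ∀ x, z x ≠ x)
    (hzO : ∀ y ∈ O, z y ∈ O) (hzOc : ∀ y, y ∉ O → z y ∉ O)
    (hzR : ∀ r ∈ R, ι r * z = z * ι r) :
    ¬ ∃! M : Subgroup G, IsCoatom M ∧ R ≤ M := by
  have hM₁ := hco O hO hOc hc
  apply not_unique_of_not_le hM₁ hRO (le_CZ ι z R hzR) (CZ_ne_top ι hA h3 z hz2 hfpf)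
  obtain ⟨y, hy⟩ := hO
  obtain ⟨y', hy'⟩ := hOc
  rw [Set.mem_compl_iff] at hy'
  have hyy' : y ≠ y' := fun h => hy' (h ▸ hy)
  have hzyy' : z y ≠ z y' := fun h => hyy' (z.injective h)
  have h2 : y ≠ z y' := fun h => hzOc y' hy' (h ▸ hy)
  have h3' : y' ≠ z y := fun h => hy' (h ▸ hzO y hy)
  obtain ⟨g, hg⟩ := exists_of_even ι hA (swap y y' * swap (z y) (z y')) (sign_dswap hyy' hzyy')
  intro hle
  have hgm := hle (dswap_mem_CZ ι z hz2 hg (hfpf y).symm h2 h3' (hfpf y').symm)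
  rw [Subgroup.mem_comap, hg] at hgm
  have := apply_mem_of_mem_stabilizer hgm hy
  rw [Perm.mul_apply, swap_apply_of_ne_of_ne (hfpf y).symm h2, swap_apply_left] at this
  exact hy' this

end Cfsg.Agent.Lib.Helper5.SylMax
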