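import Mathlib
import Cfsg.Agent.Lib.Helper5.SylMaxA
import Cfsg.Agent.Lib.Helper5.SylMaxD
import Cfsg.Agent.Lib.Helper5.SylMaxG

set_option autoImplicit false

namespace Cfsg.Agent.Lib.Helper5.SylMax

open Equiv Equiv.Perm MulAction
open scoped Pointwise

variable {α : Type*} [Fintype α] [DecidableEq α] {G : Type*} [Group G]

def BS (ι : G →* Perm α) (B : Set α) : Subgroup G :=
  (stabilizer (Perm α) ({B, Bᶜ} : Set (Set α))).comap ι

theorem mem_BS (ι : G →* Perm α) (B : Set α) (g : G) :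
    g ∈ BS ι B ↔ (ι g • B = B ∨ ι g • B = Bᶜ) := by
  unfold BS
  rw [Subgroup.mem_comap, mem_stabilizer_iff]
  constructor
  · intro h
    have : ι g • B ∈ ι g • ({B, Bᶜ} : Set (Set α)) := Set.smul_mem_smul_set (by simp)
    rw [h] at this
    simpa using this
  · intro h
    rw [Set.smul_set_insert, Set.smul_set_singleton, Set.smul_set_compl]
    rcases h with h | h
    · rw [h]
    · rw [h, compl_compl, Set.pair_comm]

theorem mem_BS_of_stab (ι : G →* Perm α) (B : Set α) (g : G)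
    (h : ι g ∈ stabilizer (Perm α) B) : g ∈ BS ι B :=
  (mem_BS ι B g).mpr (Or.inl (mem_stabilizer_iff.mp h))

theorem BS_ne_top (ι : G →* Perm α) (hA : alternatingGroup α ≤ ι.range) (B : Set α)
    {y y' u v : α} (hy : y ∈ B) (hy' : y' ∈ B) (hyy' : y ≠ y') (hu : u ∉ B) (hv : v ∉ B)
    (huv : u ≠ v) : BS ι B ≠ ⊤ := by
  have hyu : y ≠ u := fun h => hu (h ▸ hy)
  have hyv : y ≠ v := fun h => hv (h ▸ hy)
  have hy'u : y' ≠ u := fun h => hu (h ▸ hy')
  have hy'v : y' ≠ v := fun h => hv (h ▸ hy')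
  obtain ⟨g, hg⟩ := exists_of_even ι hA (swap y u * swap u v) (sign_dswap hyu huv)
  intro htop
  have hgm : g ∈ BS ι B := by rw [htop]; trivial
  rw [mem_BS, hg] at hgm
  have h1 : (swap y u * swap u v) y = u := by
    rw [Perm.mul_apply, swap_apply_of_ne_of_ne hyu hyv, swap_apply_left]
  have h2 : (swap y u * swap u v) y' = y' := by
    rw [Perm.mul_apply, swap_apply_of_ne_of_ne hy'u hy'v, swap_apply_of_ne_of_ne hyy'.symm hy'u]
  rcases hgm with h | h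
  · have : (swap y u * swap u v) • y ∈ (swap y u * swap u v) • B := Set.smul_mem_smul_set hy
    rw [h, Perm.smul_def, h1] at this
    exact hu this
  · have : (swap y u * swap u v) • y' ∈ (swap y u * swap u v) • B := Set.smul_mem_smul_set hy'
    rw [h, Perm.smul_def, h2] at this
    exact this hy'

theorem range_eq_top_of_odd (ι : G →* Perm α) (hA : alternatingGroup α ≤ ι.range) {g : G}
    (hg : sign (ι g) ≠ 1) (τ : Perm α) : ∃ m : G, ι m = τ := by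
  by_cases hτ : sign τ = 1
  · exact exists_of_even ι hA τ hτ
  · have h3 : sign (τ * (ι g)⁻¹) = 1 := by
      rw [Perm.sign_mul, Perm.sign_inv]
      rcases Int.units_eq_one_or (sign τ) with h | h
      · exact absurd h hτ
      · rcases Int.units_eq_one_or (sign (ι g)) with h' | h'
        · exact absurd h' hg
        · rw [h, h']; rfl
    obtain ⟨m, hm⟩ := exists_of_even ι hA _ h3
    refine ⟨m * g, ?_⟩
    rw [map_mul, hm]
    group

theorem exists_two_of_ncard {S : Set α} (h : 2 ≤ S.ncard) : ∃ u v, u ∈ S ∧ v ∈ S ∧ u ≠ v := by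
  have : 1 < S.ncard := h
  rw [Set.one_lt_ncard_iff] at this
  obtain ⟨u, v, hu, hv, huv⟩ := this
  exact ⟨u, v, hu, hv, huv⟩

theorem exists_three_of_ncard {S : Set α} (h : 3 ≤ S.ncard) :
    ∃ a b c, a ∈ S ∧ b ∈ S ∧ c ∈ S ∧ a ≠ b ∧ a ≠ c ∧ b ≠ c := by
  have : 2 < S.ncard := h
  rw [Set.two_lt_ncard_iff] at this
  obtain ⟨a, b, c, ha, hb, hc, hab, hac, hbc⟩ := this
  exact ⟨a, b, c, ha, hb, hc, hab, hac, hbc⟩

theorem exists_ne_ne_of_ncard {S : Set α} (h : 3 ≤ S.ncard) (p q : α) :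
    ∃ y ∈ S, y ≠ p ∧ y ≠ q := by
  obtain ⟨a, b, c, ha, hb, hc, hab, hac, hbc⟩ := exists_three_of_ncard h
  by_cases h1 : a ≠ p ∧ a ≠ q
  · exact ⟨a, ha, h1.1, h1.2⟩
  · by_cases h2 : b ≠ p ∧ b ≠ q
    · exact ⟨b, hb, h2.1, h2.2⟩
    · refine ⟨c, hc, ?_, ?_⟩
      · rintro rfl
        rcases not_and_or.mp h1 with h | h <;> rcases not_and_or.mp h2 with h' | h' <;>
          simp only [ne_eq, not_not] at h h' <;> simp_all
      · rintro rfl
        rcases not_and_or.mp h1 with h | h <;> rcases not_and_or.mp h2 with h' | h' <;>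
          simp only [ne_eq, not_not] at h h' <;> simp_all

theorem sup_eq_top_bisect (ι : G →* Perm α) (hι : Function.Injective ι)
    (hA : alternatingGroup α ≤ ι.range) (B : Set α) (z : Perm α) (hz2 : z * z = 1)
    (hfpf : ∀ x, z x ≠ x) (hzB : ∀ y ∈ B, z y ∈ B) (hzBc : ∀ y, y ∉ B → z y ∉ B)
    (hB3 : 3 ≤ B.ncard) (hBc2 : 2 ≤ Bᶜ.ncard) : CZ ι z ⊔ BS ι B = ⊤ := by
  obtain ⟨J, hJ⟩ : ∃ J, J = CZ ι z ⊔ BS ι B := ⟨_, rfl⟩
  rw [← hJ]
  have hzz : ∀ x, z (z x) = x := fun x => by rw [← Perm.mul_apply, hz2, Perm.one_apply]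
  obtain ⟨u, v, hu, hv, huv⟩ := exists_two_of_ncard hBc2
  rw [Set.mem_compl_iff] at hu hv
  obtain ⟨a, b₁, b₂, ha, hb₁, hb₂, hab₁, hab₂, hb₁₂⟩ := exists_three_of_ncard hB3
  have hstab : ∀ σ : Perm α, sign σ = 1 → σ ∈ stabilizer (Perm α) B → σ ∈ J.map ι := by
    intro σ hσ hσB
    obtain ⟨g, hg⟩ := exists_of_even ι hA σ hσ
    refine ⟨g, ?_, hg⟩
    rw [hJ]
    exact Subgroup.mem_sup_right (mem_BS_of_stab ι B g (hg ▸ hσB))
  have hBB : ∀ {p q r s : α}, p ∈ B → q ∈ B → r ∉ B → s ∉ B → p ≠ q → r ≠ s →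
      swap p q * swap r s ∈ J.map ι := by
    intro p q r s hp hq hr hs hpq hrs
    apply hstab _ (sign_dswap hpq hrs)
    exact Subgroup.mul_mem _ (swap_smul_eq_of_mem hp hq) (swap_smul_eq_of_notMem hr hs)
  have hBB' : ∀ {p q r s : α}, p ∉ B → q ∉ B → r ∈ B → s ∈ B → p ≠ q → r ≠ s →
      swap p q * swap r s ∈ J.map ι := by
    intro p q r s hp hq hr hs hpq hrs
    apply hstab _ (sign_dswap hpq hrs)
    exact Subgroup.mul_mem _ (swap_smul_eq_of_notMem hp hq) (swap_smul_eq_of_mem hr hs)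
  have hne_of : ∀ {p q : α}, p ∈ B → q ∉ B → p ≠ q := fun hp hq h => hq (h ▸ hp)
  obtain ⟨y₀, hy₀B, hy₀a, hy₀za⟩ := exists_ne_ne_of_ncard hB3 a (z a)
  have hrel0 : ∃ σ ∈ J.map ι, σ a = a ∧ σ y₀ = u := by
    have h1 : y₀ ≠ z u := hne_of hy₀B (hzBc u hu)
    have h2 : u ≠ z y₀ := (hne_of (hzB y₀ hy₀B) hu).symm
    have hy₀u : y₀ ≠ u := hne_of hy₀B hu
    obtain ⟨g, hg⟩ := exists_of_even ι hA (swap y₀ u * swap (z y₀) (z u))
      (sign_dswap hy₀u (fun h => hy₀u (z.injective h)))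
    have hgm := dswap_mem_CZ ι z hz2 hg (hfpf y₀).symm h1 h2 (hfpf u).symm
    refine ⟨_, ⟨g, by rw [hJ]; exact Subgroup.mem_sup_left hgm, hg⟩, ?_, ?_⟩
    · have ha1 : a ≠ z y₀ := by
        intro h
        apply hy₀za
        rw [h, hzz]
      have ha2 : a ≠ z u := hne_of ha (hzBc u hu)
      rw [Perm.mul_apply, swap_apply_of_ne_of_ne ha1 ha2,
        swap_apply_of_ne_of_ne hy₀a.symm (hne_of ha hu)]
    · rw [Perm.mul_apply, swap_apply_of_ne_of_ne (hfpf y₀).symm h1, swap_apply_left]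
  have hrelB : ∀ y ∈ B, y ≠ a → ∃ σ ∈ J.map ι, σ a = a ∧ σ y₀ = y := by
    intro y hy hya
    by_cases hyy : y₀ = y
    · exact ⟨1, Subgroup.one_mem _, rfl, by rw [Perm.one_apply, hyy]⟩
    · refine ⟨_, hBB hy₀B hy hu hv hyy huv, ?_, ?_⟩
      · rw [Perm.mul_apply, swap_apply_of_ne_of_ne (hne_of ha hu) (hne_of ha hv),
          swap_apply_of_ne_of_ne hy₀a.symm hya.symm]
      · rw [Perm.mul_apply, swap_apply_of_ne_of_ne (hne_of hy₀B hu) (hne_of hy₀B hv),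
          swap_apply_left]
  have hrelBc : ∀ w, w ∉ B → ∃ σ ∈ J.map ι, σ a = a ∧ σ y₀ = w := by
    intro w hw
    obtain ⟨σ₀, hσ₀, hσ₀a, hσ₀y⟩ := hrel0
    by_cases hwu : u = w
    · exact ⟨σ₀, hσ₀, hσ₀a, by rw [hσ₀y, hwu]⟩
    · obtain ⟨c₁, hc₁B, hc₁a, hc₁y⟩ := exists_ne_ne_of_ncard hB3 a y₀
      have hτ := hBB' hu hw hy₀B hc₁B hwu hc₁y.symm
      refine ⟨_, Subgroup.mul_mem _ hτ hσ₀, ?_, ?_⟩
      · rw [Perm.mul_apply, hσ₀a, Perm.mul_apply, swap_apply_of_ne_of_ne hy₀a.symm hc₁a.symm,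
          swap_apply_of_ne_of_ne (hne_of ha hu) (hne_of ha hw)]
      · rw [Perm.mul_apply, hσ₀y, Perm.mul_apply,
          swap_apply_of_ne_of_ne (hne_of hy₀B hu).symm (hne_of hc₁B hu).symm, swap_apply_left]
  have hrel : ∀ y, y ≠ a → ∃ σ ∈ J.map ι, σ a = a ∧ σ y₀ = y := by
    intro y hya
    by_cases hy : y ∈ B
    · exact hrelB y hy hya
    · exact hrelBc y hy
  have hprim : IsPreprimitive (J.map ι) α := by
    apply crit (J.map ι) a
    · refine ⟨_, hBB ha hb₁ hu hv hab₁ huv, ?_⟩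
      rw [Perm.mul_apply, swap_apply_of_ne_of_ne (hne_of ha hu) (hne_of ha hv), swap_apply_left]
      exact hab₁.symm
    · intro y y' hy hy'
      obtain ⟨σ, hσ, hσa, hσy⟩ := hrel y hy
      obtain ⟨τ, hτ, hτa, hτy⟩ := hrel y' hy'
      refine ⟨τ * σ⁻¹, Subgroup.mul_mem _ hτ (Subgroup.inv_mem _ hσ), ?_, ?_⟩
      · rw [Perm.mul_apply]
        have : σ⁻¹ a = a := by
          conv_lhs => rw [← hσa]
          simp
        rw [this, hτa]
      · rw [Perm.mul_apply]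
        have : σ⁻¹ y = y₀ := by
          rw [← hσy]; simp
        rw [this, hτy]
  have h3c : IsThreeCycle (swap a b₁ * swap a b₂) :=
    isThreeCycle_swap_mul_swap_same hab₁ hab₂ hb₁₂
  have hc : swap a b₁ * swap a b₂ ∈ J.map ι := by
    apply hstab _ h3c.sign
    exact Subgroup.mul_mem _ (swap_smul_eq_of_mem ha hb₁) (swap_smul_eq_of_mem ha hb₂)
  have halt := alternatingGroup_le_of_isPreprimitive_of_isThreeCycle_mem hprim h3c hc
  apply eq_top_of_alt_le ι hι J halt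
  rintro ⟨g, hg⟩
  obtain ⟨m, hm⟩ := range_eq_top_of_odd ι hA hg (swap a (z a))
  refine ⟨m, ?_, ?_⟩
  · rw [hJ]
    apply Subgroup.mem_sup_left
    rw [mem_CZ, hm]
    have hconj : z * swap a (z a) * z⁻¹ = swap a (z a) := by
      rw [← swap_apply_apply, hzz, swap_comm]
    calc z * swap a (z a) = (z * swap a (z a) * z⁻¹) * z := by group
      _ = swap a (z a) * z := by rw [hconj]
  · rw [hm, sign_swap (hfpf a).symm]
    decide

theorem case_bisect (ι : G →* Perm α) [Finite G] (hι : Function.Injective ι)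
    (hA : alternatingGroup α ≤ ι.range) (R : Subgroup G) (B : Set α) (z : Perm α)
    (hz2 : z * z = 1) (hfpf : ∀ x, z x ≠ x) (hzB : ∀ y ∈ B, z y ∈ B)
    (hzBc : ∀ y, y ∉ B → z y ∉ B) (hzR : ∀ r ∈ R, ι r * z = z * ι r)
    (hRB : ∀ r ∈ R, ι r • B = B ∨ ι r • B = Bᶜ)
    (hB3 : 3 ≤ B.ncard) (hBc2 : 2 ≤ Bᶜ.ncard) :
    ¬ ∃! M : Subgroup G, IsCoatom M ∧ R ≤ M := by
  have h3 : 3 ≤ Fintype.card α := by
    have := Set.ncard_le_card B
    rw [Nat.card_eq_fintype_card] at this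
    omega
  obtain ⟨u, v, hu, hv, huv⟩ := exists_two_of_ncard hBc2
  obtain ⟨a, b₁, b₂, ha, hb₁, hb₂, hab₁, hab₂, hb₁₂⟩ := exists_three_of_ncard hB3
  exact not_unique_of_sup (le_CZ ι z R hzR) (fun r hr => (mem_BS ι B r).mpr (hRB r hr))
    (CZ_ne_top ι hA h3 z hz2 hfpf) (BS_ne_top ι hA B ha hb₁ hab₁ hu hv huv)
    (sup_eq_top_bisect ι hι hA B z hz2 hfpf hzB hzBc hB3 hBc2)

end Cfsg.Agent.Lib.Helper5.SylMax
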