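import Mathlib
import Cfsg.Agent.Lib.Helper5.PGroup

set_option autoImplicit false

namespace Cfsg.Agent.Lib.Helper5.SylMax

open Equiv Equiv.Perm MulAction
open scoped Pointwise

variable {α : Type*} [Fintype α] [DecidableEq α]

theorem exists_bisection (P : Subgroup (Perm α)) (hP : IsPGroup 2 P)
    (htr : ∀ x y : α, ∃ σ ∈ P, σ x = y) (h3 : 3 ≤ Fintype.card α) (z : Perm α)
    (hz2 : z * z = 1) (hfpf : ∀ x, z x ≠ x) (hzP : ∀ σ ∈ P, σ * z = z * σ) :
    ∃ B : Set α, (∀ y ∈ B, z y ∈ B) ∧ (∀ y, y ∉ B → z y ∉ B) ∧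
      (∀ σ ∈ P, σ • B = B ∨ σ • B = Bᶜ) ∧ 2 * B.ncard = Fintype.card α := by
  haveI : Fact (Nat.Prime 2) := ⟨Nat.prime_two⟩
  have hzz : ∀ x, z (z x) = x := fun x => by rw [← Perm.mul_apply, hz2, Perm.one_apply]
  have hcomm : ∀ σ ∈ P, ∀ x, σ (z x) = z (σ x) := by
    intro σ hσ x
    rw [← Perm.mul_apply, hzP σ hσ, Perm.mul_apply]
  have hne : Nonempty α := by
    rw [← Fintype.card_pos_iff]; omega
  obtain ⟨a⟩ := hne
  let S : Subgroup P := stabilizer P ({a, z a} : Set α)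
  have hS : ∀ σ : P, ((σ : Perm α) a = a ∨ (σ : Perm α) a = z a) → σ ∈ S := by
    intro σ h
    change σ • ({a, z a} : Set α) = {a, z a}
    rw [Set.smul_set_insert, Set.smul_set_singleton]
    change ({(σ : Perm α) a, (σ : Perm α) (z a)} : Set α) = _
    rw [hcomm σ σ.2]
    rcases h with h | h
    · rw [h]
    · rw [h, hzz, Set.pair_comm]
  have hSmem : ∀ σ : P, σ ∈ S → ((σ : Perm α) a = a ∨ (σ : Perm α) a = z a) := by
    intro σ h
    have h1 : σ • a ∈ σ • ({a, z a} : Set α) := Set.smul_mem_smul_set (by simp)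
    rw [mem_stabilizer_iff.mp h] at h1
    have h2 : σ • a = a ∨ σ • a = z a := by simpa using h1
    exact h2
  have hStop : S ≠ ⊤ := by
    obtain ⟨b, hba, hbz⟩ : ∃ b, b ≠ a ∧ b ≠ z a := by
      by_contra hcon
      push Not at hcon
      have : (Finset.univ : Finset α) ⊆ {a, z a} := by
        intro b _
        by_cases h : b = a
        · simp [h]
        · simp [hcon b h]
      have := Finset.card_le_card this
      rw [Finset.card_univ] at this
      have h2 : ({a, z a} : Finset α).card ≤ 2 := Finset.card_le_two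
      omega
    obtain ⟨σ, hσ, hσa⟩ := htr a b
    intro htop
    have : (⟨σ, hσ⟩ : P) ∈ S := by rw [htop]; trivial
    rcases hSmem _ this with h | h
    · exact hba (hσa.symm.trans h)
    · exact hbz (hσa.symm.trans h)
  obtain ⟨K, hK, hSK⟩ := (eq_top_or_exists_le_coatom S).resolve_left hStop
  have hidx : K.index = 2 := h5_pgroup_coatom_index hP hK
  obtain ⟨B, hB⟩ : ∃ B : Set α, B = {y | ∃ k ∈ K, (k : Perm α) a = y} := ⟨_, rfl⟩
  have hstabK : ∀ σ : P, (σ : Perm α) a = a → σ ∈ K := fun σ h => hSK (hS σ (Or.inl h))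
  obtain ⟨k₀, hk₀K, hk₀a⟩ : ∃ k₀ ∈ K, (k₀ : Perm α) a = z a := by
    obtain ⟨σ, hσ, hσa⟩ := htr a (z a)
    exact ⟨⟨σ, hσ⟩, hSK (hS _ (Or.inr hσa)), hσa⟩
  have hzB : ∀ y ∈ B, z y ∈ B := by
    intro y hy
    rw [hB] at hy ⊢
    obtain ⟨k, hk, rfl⟩ := hy
    refine ⟨k * k₀, K.mul_mem hk hk₀K, ?_⟩
    change (k : Perm α) ((k₀ : Perm α) a) = _
    rw [hk₀a, hcomm _ k.2]
  have hKB : ∀ σ : P, σ ∈ K → (σ : Perm α) • B = B := by
    intro σ hσ
    have hsub : ∀ τ : P, τ ∈ K → (τ : Perm α) • B ⊆ B := by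
      intro τ hτ
      rintro _ ⟨y, hy, rfl⟩
      rw [hB] at hy ⊢
      obtain ⟨k, hk, rfl⟩ := hy
      exact ⟨τ * k, K.mul_mem hτ hk, rfl⟩
    apply Set.Subset.antisymm (hsub σ hσ)
    have := hsub σ⁻¹ (K.inv_mem hσ)
    rw [Set.subset_smul_set_iff]
    exact this
  have hnKB : ∀ σ : P, σ ∉ K → (σ : Perm α) • B = Bᶜ := by
    intro σ hσ
    apply Set.Subset.antisymm
    · rintro _ ⟨y, hy, rfl⟩ hmem
      rw [hB] at hy hmem
      obtain ⟨k, hk, rfl⟩ := hy
      obtain ⟨k', hk', hk'a⟩ := hmem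
      apply hσ
      have h1 : (k'⁻¹ * σ * k) ∈ K := by
        apply hstabK
        change (k' : Perm α)⁻¹ ((σ : Perm α) ((k : Perm α) a)) = a
        change (k' : Perm α) a = (σ : Perm α) • ((k : Perm α) a) at hk'a
        rw [Perm.smul_def] at hk'a
        rw [← hk'a]
        simp
      have h2 : σ = k' * (k'⁻¹ * σ * k) * k⁻¹ := by group
      rw [h2]
      exact K.mul_mem (K.mul_mem hk' h1) (K.inv_mem hk)
    · intro y hy
      obtain ⟨τ, hτ, hτa⟩ := htr a y
      have hτK : (⟨τ, hτ⟩ : P) ∉ K := by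
        intro h
        apply hy
        rw [hB]
        exact ⟨⟨τ, hτ⟩, h, hτa⟩
      have h1 : σ⁻¹ * ⟨τ, hτ⟩ ∈ K := by
        rw [Subgroup.mul_mem_iff_of_index_two hidx]
        constructor
        · intro h
          exact absurd (K.inv_mem_iff.mp h) hσ
        · intro h
          exact absurd h hτK
      refine ⟨(σ⁻¹ * ⟨τ, hτ⟩ : P) • a, ?_, ?_⟩
      · rw [hB]
        exact ⟨_, h1, rfl⟩
      · change (σ : Perm α) ((σ : Perm α)⁻¹ (τ a)) = y
        simp [hτa]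
  refine ⟨B, hzB, ?_, ?_, ?_⟩
  · intro y hy hzy
    apply hy
    have := hzB _ hzy
    rwa [hzz] at this
  · intro σ hσ
    by_cases h : (⟨σ, hσ⟩ : P) ∈ K
    · exact Or.inl (hKB _ h)
    · exact Or.inr (hnKB _ h)
  · obtain ⟨σ, hσ⟩ : ∃ σ : P, σ ∉ K := by
      by_contra hcon
      push Not at hcon
      apply hK.1
      rw [eq_top_iff]
      intro σ _
      exact hcon σ
    have h1 := hnKB σ hσ
    have h2 : ((σ : Perm α) • B).ncard = B.ncard := Set.ncard_smul_set _ _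
    have h3' := Set.ncard_add_ncard_compl B
    rw [← h1, h2, Nat.card_eq_fintype_card] at h3'
    omega

end Cfsg.Agent.Lib.Helper5.SylMax
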