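import Mathlib
import Cfsg.Agent.Lib.Helper5.SylMaxF
import Cfsg.Agent.Lib.Helper5.SylMaxG
import Cfsg.Agent.Lib.Helper5.SylMaxH
import Cfsg.Agent.Lib.Helper5.SylMaxI

set_option autoImplicit false

namespace Cfsg.Agent.Lib.Helper5.SylMax

open Equiv Equiv.Perm MulAction
open scoped Pointwise

variable {α : Type*} [Fintype α] [DecidableEq α] {G : Type*} [Group G]

theorem orbit_smul_eq (P : Subgroup (Perm α)) {σ : Perm α} (hσ : σ ∈ P) (x : α) :
    σ • orbit P x = orbit P x := smul_orbit (⟨σ, hσ⟩ : P) x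

theorem orbit_disjoint (P : Subgroup (Perm α)) {x y : α} (h : y ∉ orbit P x) :
    Disjoint (orbit P x) (orbit P y) := by
  rw [Set.disjoint_left]
  intro w hwx hwy
  apply h
  rw [← orbit_eq_iff.mpr hwx, orbit_eq_iff.mpr hwy]
  exact mem_orbit_self y

theorem ncard_orbit_pow (P : Subgroup (Perm α)) (hP : IsPGroup 2 P) (x : α) :
    ∃ m : ℕ, (orbit P x).ncard = 2 ^ m := by
  obtain ⟨m, hm⟩ := hP.card_orbit x
  exact ⟨m, by rw [← hm, Nat.card_coe_set_eq]⟩

theorem moved_of_ncard (P : Subgroup (Perm α)) (x : α) (h : 2 ≤ (orbit P x).ncard) :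
    ∃ σ ∈ P, σ x ≠ x := by
  by_contra hcon
  push Not at hcon
  have : orbit P x ⊆ {x} := by
    rintro _ ⟨σ, rfl⟩
    exact hcon σ σ.2
  have := Set.ncard_le_ncard this
  rw [Set.ncard_singleton] at this
  omega

theorem not_unique_of_card (ι : G →* Perm α) [Finite G] (hι : Function.Injective ι)
    (hA : alternatingGroup α ≤ ι.range)
    (hco : ∀ s : Set α, s.Nonempty → sᶜ.Nonempty → Fintype.card α ≠ 2 * s.ncard →
      IsCoatom ((stabilizer (Perm α) s).comap ι))
    (h5 : 5 ≤ Fintype.card α) (hnot : ¬ ∃ k : ℕ, Fintype.card α = 2 ^ k + 1)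
    (R : Subgroup G) (hR : IsPGroup 2 R) :
    ¬ ∃! M : Subgroup G, IsCoatom M ∧ R ≤ M := by
  obtain ⟨P, hPdef⟩ : ∃ P, P = R.map ι := ⟨_, rfl⟩
  have hP : IsPGroup 2 P := by rw [hPdef]; exact hR.map ι
  have hRP : ∀ r ∈ R, ι r ∈ P := fun r hr => by rw [hPdef]; exact Subgroup.mem_map_of_mem ι hr
  have hRstab : ∀ x : α, R ≤ (stabilizer (Perm α) (orbit P x)).comap ι := by
    intro x r hr
    rw [Subgroup.mem_comap, mem_stabilizer_iff]
    exact orbit_smul_eq P (hRP r hr) x
  have hzorb : ∀ (z : Perm α), (∀ x, z x ∈ orbit P x) → ∀ x y, (y ∈ orbit P x ↔ z y ∈ orbit P x) := by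
    intro z hz x y
    constructor
    · intro hy
      rw [← orbit_eq_iff.mpr hy]
      exact hz y
    · intro hzy
      rw [← orbit_eq_iff.mpr hzy, orbit_eq_iff.mpr (hz y)]
      exact mem_orbit_self y
  have hne : Nonempty α := by
    rw [← Fintype.card_pos_iff]; omega
  obtain ⟨a₁⟩ := hne
  by_cases h1 : orbit P a₁ = Set.univ
  · -- transitive
    have htr : ∀ x y : α, ∃ σ ∈ P, σ x = y := by
      intro x y
      have hx : x ∈ orbit P a₁ := by rw [h1]; trivial
      have hy : y ∈ orbit P a₁ := by rw [h1]; trivial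
      obtain ⟨g, hg⟩ := hx
      obtain ⟨h, hh⟩ := hy
      refine ⟨(h * g⁻¹ : P), (h * g⁻¹ : P).2, ?_⟩
      change (h * g⁻¹ : P) • x = y
      rw [← hg, mul_smul, inv_smul_smul]
      exact hh
    have hmoved : ∀ x : α, ∃ σ ∈ P, σ x ≠ x := by
      intro x
      apply moved_of_ncard
      rw [orbit_eq_iff.mpr (show x ∈ orbit P a₁ by rw [h1]; trivial), h1, Set.ncard_univ,
        Nat.card_eq_fintype_card]
      omega
    obtain ⟨z, hz2, hfpf, hzO, hzP⟩ := exists_fpf_involution P hP hmoved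
    obtain ⟨B, hzB, hzBc, hPB, hBcard⟩ := exists_bisection P hP htr (by omega) z hz2 hfpf hzP
    have hBc := Set.ncard_add_ncard_compl B
    rw [Nat.card_eq_fintype_card] at hBc
    exact case_bisect ι hι hA R B z hz2 hfpf hzB hzBc (fun r hr => hzP _ (hRP r hr))
      (fun r hr => hPB _ (hRP r hr)) (by omega) (by omega)
  · obtain ⟨a₂, ha₂⟩ : ∃ a₂, a₂ ∉ orbit P a₁ := by
      by_contra hcon
      push Not at hcon
      exact h1 (Set.eq_univ_of_forall hcon)
    have hd12 := orbit_disjoint P ha₂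
    obtain ⟨m, hm⟩ := ncard_orbit_pow P hP a₁
    obtain ⟨l, hl⟩ := ncard_orbit_pow P hP a₂
    have hu12 := Set.ncard_union_eq hd12
    by_cases h2 : orbit P a₁ ∪ orbit P a₂ = Set.univ
    · -- two orbits
      have hsum : 2 ^ m + 2 ^ l = Fintype.card α := by
        rw [← hm, ← hl, ← hu12, h2, Set.ncard_univ, Nat.card_eq_fintype_card]
      have hcompl : (orbit P a₁)ᶜ = orbit P a₂ := by
        ext y
        constructor
        · intro hy
          have : y ∈ orbit P a₁ ∪ orbit P a₂ := by rw [h2]; trivial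
          exact this.resolve_left hy
        · intro hy hy1
          exact Set.disjoint_left.mp hd12 hy1 hy
      have hm0 : m ≠ 0 := by
        rintro rfl
        exact hnot ⟨l, by omega⟩
      have hl0 : l ≠ 0 := by
        rintro rfl
        exact hnot ⟨m, by omega⟩
      have hm2 : 2 ≤ 2 ^ m := by
        calc 2 = 2 ^ 1 := by norm_num
          _ ≤ 2 ^ m := Nat.pow_le_pow_right (by norm_num) (by omega)
      have hl2 : 2 ≤ 2 ^ l := by
        calc 2 = 2 ^ 1 := by norm_num
          _ ≤ 2 ^ l := Nat.pow_le_pow_right (by norm_num) (by omega)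
      have hmoved : ∀ x : α, ∃ σ ∈ P, σ x ≠ x := by
        intro x
        apply moved_of_ncard
        have : x ∈ orbit P a₁ ∪ orbit P a₂ := by rw [h2]; trivial
        rcases this with hx | hx
        · rw [orbit_eq_iff.mpr hx, hm]; exact hm2
        · rw [orbit_eq_iff.mpr hx, hl]; exact hl2
      obtain ⟨z, hz2, hfpf, hzO, hzP⟩ := exists_fpf_involution P hP hmoved
      have hzO1 : ∀ y ∈ orbit P a₁, z y ∈ orbit P a₁ := fun y hy => (hzorb z hzO a₁ y).mp hy
      have hzO1c : ∀ y, y ∉ orbit P a₁ → z y ∉ orbit P a₁ :=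
        fun y hy h => hy ((hzorb z hzO a₁ y).mpr h)
      by_cases hml : m = l
      · subst hml
        have hm3 : 3 ≤ 2 ^ m := by omega
        apply case_bisect ι hι hA R (orbit P a₁) z hz2 hfpf hzO1 hzO1c
          (fun r hr => hzP _ (hRP r hr))
          (fun r hr => Or.inl (orbit_smul_eq P (hRP r hr) a₁))
        · rw [hm]; exact hm3
        · rw [hcompl, hl]; omega
      · apply case_two_unequal ι hA hco (by omega) R (orbit P a₁) (hRstab a₁)
          ⟨a₁, mem_orbit_self a₁⟩ ⟨a₂, ha₂⟩ ?_ z hz2 hfpf hzO1 hzO1c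
          (fun r hr => hzP _ (hRP r hr))
        rw [hm, ← hsum]
        intro h
        have : 2 ^ l = 2 ^ m := by omega
        exact hml (Nat.pow_right_injective (le_refl 2) this).symm
    · -- at least three orbits
      obtain ⟨a₃, ha₃⟩ : ∃ a₃, a₃ ∉ orbit P a₁ ∪ orbit P a₂ := by
        by_contra hcon
        push Not at hcon
        exact h2 (Set.eq_univ_of_forall hcon)
      have ha₃1 : a₃ ∉ orbit P a₁ := fun h => ha₃ (Or.inl h)
      have ha₃2 : a₃ ∉ orbit P a₂ := fun h => ha₃ (Or.inr h)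
      have hd13 := orbit_disjoint P ha₃1
      have hd23 := orbit_disjoint P ha₃2
      have ha₁2 : a₁ ∉ orbit P a₂ := fun h => Set.disjoint_left.mp hd12 (mem_orbit_self a₁) h
      have ha₁3 : a₁ ∉ orbit P a₃ := fun h => Set.disjoint_left.mp hd13 (mem_orbit_self a₁) h
      have ha₂3 : a₂ ∉ orbit P a₃ := fun h => Set.disjoint_left.mp hd23 (mem_orbit_self a₂) h
      have hpos : ∀ x : α, 0 < (orbit P x).ncard := fun x =>
        (Set.ncard_pos (Set.toFinite _)).mpr ⟨x, mem_orbit_self x⟩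
      have htotal : (orbit P a₁).ncard + (orbit P a₂).ncard + (orbit P a₃).ncard ≤
          Fintype.card α := by
        have hd : Disjoint (orbit P a₁ ∪ orbit P a₂) (orbit P a₃) :=
          Set.disjoint_union_left.mpr ⟨hd13, hd23⟩
        have h3 := Set.ncard_union_eq hd
        rw [hu12] at h3
        rw [← h3, ← Nat.card_eq_fintype_card]
        exact Set.ncard_le_card _
      have hp1 := hpos a₁
      have hp2 := hpos a₂
      have hp3 := hpos a₃
      by_cases hc1 : Fintype.card α = 2 * (orbit P a₁).ncard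
      · exact case_three ι hA hco h5 R (orbit P a₂) (orbit P a₃) (hRstab a₂) (hRstab a₃)
          ⟨a₂, mem_orbit_self a₂⟩ ⟨a₃, mem_orbit_self a₃⟩ hd23 a₁ ha₁2 ha₁3 (by omega) (by omega)
      · by_cases hc2 : Fintype.card α = 2 * (orbit P a₂).ncard
        · exact case_three ι hA hco h5 R (orbit P a₁) (orbit P a₃) (hRstab a₁) (hRstab a₃)
            ⟨a₁, mem_orbit_self a₁⟩ ⟨a₃, mem_orbit_self a₃⟩ hd13 a₂ ha₂ ha₂3 hc1 (by omega)
        · exact case_three ι hA hco h5 R (orbit P a₁) (orbit P a₂) (hRstab a₁) (hRstab a₂)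
            ⟨a₁, mem_orbit_self a₁⟩ ⟨a₂, mem_orbit_self a₂⟩ hd12 a₃ ha₃1 ha₃2 hc1 hc2

end Cfsg.Agent.Lib.Helper5.SylMax
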