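import Mathlib
import Cfsg.Agent.Lib.Helper5.SylMaxE
import Cfsg.Agent.Lib.Helper5.SylMaxJ

set_option autoImplicit false

namespace Cfsg.Agent.Lib.Helper5.SylMax

open Equiv Equiv.Perm MulAction
open scoped Pointwise

variable {α : Type*} [Fintype α] [DecidableEq α] {G : Type*} [Group G]

theorem main_iff (ι : G →* Perm α) [Finite G] (hι : Function.Injective ι)
    (hA : alternatingGroup α ≤ ι.range)
    (hco : ∀ s : Set α, s.Nonempty → sᶜ.Nonempty → Fintype.card α ≠ 2 * s.ncard →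
      IsCoatom ((stabilizer (Perm α) s).comap ι))
    (h5 : 5 ≤ Fintype.card α) (R : Sylow 2 G) :
    (∃! M : Subgroup G, IsCoatom M ∧ (R : Subgroup G) ≤ M) ↔
      ∃ k : ℕ, 2 ≤ k ∧ Fintype.card α = 2 ^ k + 1 := by
  constructor
  · intro h
    by_contra hcon
    apply not_unique_of_card ι hι hA hco h5 _ (R : Subgroup G) R.isPGroup' h
    rintro ⟨k, hk⟩
    apply hcon
    refine ⟨k, ?_, hk⟩
    by_contra hk2
    have : k = 0 ∨ k = 1 := by omega
    rcases this with rfl | rfl <;> omega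
  · rintro ⟨k, hk, hα⟩
    exact unique_of_card ι hι hA hco k hk hα R

theorem main_perm (n : ℕ) (hn : 5 ≤ n) (R : Sylow 2 (Perm (Fin n))) :
    (∃! M : Subgroup (Perm (Fin n)), IsCoatom M ∧ (R : Subgroup (Perm (Fin n))) ≤ M) ↔
      ∃ k : ℕ, 2 ≤ k ∧ n = 2 ^ k + 1 := by
  have := main_iff (MonoidHom.id (Perm (Fin n))) (fun _ _ h => h) (fun _ _ => ⟨_, rfl⟩)
    (fun s h0 h1 hs => by
      rw [Subgroup.comap_id]
      exact Equiv.Perm.isCoatom_stabilizer h0 h1 (by rwa [Nat.card_eq_fintype_card]))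
    (by rw [Fintype.card_fin]; exact hn) R
  rw [Fintype.card_fin] at this
  exact this

theorem main_alt (n : ℕ) (hn : 5 ≤ n) (R : Sylow 2 (alternatingGroup (Fin n))) :
    (∃! M : Subgroup (alternatingGroup (Fin n)), IsCoatom M ∧
      (R : Subgroup (alternatingGroup (Fin n))) ≤ M) ↔ ∃ k : ℕ, 2 ≤ k ∧ n = 2 ^ k + 1 := by
  have := main_iff (alternatingGroup (Fin n)).subtype Subtype.val_injective
    (by rw [Subgroup.range_subtype])
    (fun s h0 h1 hs => by
      have h := alternatingGroup.isCoatom_stabilizer h0 h1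
        (by rwa [Nat.card_eq_fintype_card] : Nat.card (Fin n) ≠ 2 * s.ncard)
      exact h)
    (by rw [Fintype.card_fin]; exact hn) R
  rw [Fintype.card_fin] at this
  exact this

end Cfsg.Agent.Lib.Helper5.SylMax
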