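import Mathlib
import Cfsg.Agent.Lib.helper3.T2E.Defs2
import Cfsg.Agent.Lib.Helper20.T2ED10b

/-!
# T2E (S2108), row L3 `long_iso` : CORE on the statements of L1 (second half), L2, D13c, S0 (second clause) (helper5)

`cm (L42 t) (L40 u) = 1` if `t u` has trace zero.  D10b `HT_mem`, D10c `HT_chi` are cited from main (Helper20.T2ED10b).
-/

set_option autoImplicit false

namespace Cfsg.Agent.Lib.helper3.T2E

open Cfsg.Lie Cfsg.Lie.ChevalleyDatum Matrix
open Cfsg.Agent.Lib.helper8 Cfsg.Agent.Lib.Helper10.TEM Cfsg.Agent.Lib.helper7.Ce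
  Cfsg.Agent.Lib.helper15.St2

universe u

variable {K : Type u} [Field K] {q : ℕ} {f : K ≃+* K} {Γ : Type u} [Group Γ]
  {π : Γ →* ↥(twistedE6 K q)}

/-- extra: an element of the kernel of `pm π` is in the kernel of `π` -/
theorem t2el3h5_ker {π : Γ →* ↥(twistedE6 K q)} {z : Γ} (hz : pm π z = 1) : π z = 1 := by
  apply Subtype.ext
  exact hz

/-- [L3] CORE. -/
theorem t2el3h5_core (hF : Frob q f) (hπ : IsCE π) {L42 L40 : K → Γ} (h42 : IsRootLift q π 42 L42)
    (h40 : IsRootLift q π 40 L40)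
    (hL1 : ∀ s t u : K, cm (L42 s) (L40 (t + u)) = cm (L42 s) (L40 t) * cm (L42 s) (L40 u))
    (hL2 : ∀ lam : K, lam ≠ 0 → ∀ t u : K, cm (L42 (lam * t)) (L40 (lam⁻¹ * u)) = cm (L42 t) (L40 u))
    (hD13c : ∃ ε : K, (ε = 1 ∨ ε = -1) ∧ ∀ t u : K, cm (XS q 42 t) (XS q 40 u) = X 44 (ε * (t * u + (t * u) ^ q)))
    (hS0 : ∃ c : K, c ≠ 0 ∧ c ≠ 1 ∧ c ^ q = c)
    (t u : K) (htu : t * u + (t * u) ^ q = 0) : cm (L42 t) (L40 u) = 1 := by
  have n42 : h8sE6 42 ≠ 42 := by decide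
  have n40 : h8sE6 40 ≠ 40 := by decide
  have a42 : ∀ t : K, Adm q 42 t := fun t h => absurd h n42
  have a40 : ∀ t : K, Adm q 40 t := fun t h => absurd h n40
  have m42 : ∀ t : K, pm π (L42 t) = XS q 42 t := by
    intro t
    rw [h42.map t (a42 t)]; unfold XT; rw [if_neg n42]
  have m40 : ∀ t : K, pm π (L40 t) = XS q 40 t := by
    intro t
    rw [h40.map t (a40 t)]; unfold XT; rw [if_neg n40]
  obtain ⟨ε, -, hε⟩ := hD13c
  have hX0 : X 44 (0 : K) = 1 := by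
    unfold X
    exact h8xU_zero chevE6 hB 44
  -- `z w = cm (L42 1) (L40 w)` is central if `w` has trace zero
  have hzker : ∀ w : K, w + w ^ q = 0 → π (cm (L42 1) (L40 w)) = 1 := by
    intro w hw
    apply t2el3h5_ker
    rw [map_cm, m42, m40, hε, one_mul, hw, mul_zero, hX0]
  -- `L42 0 = 1`
  have h420 : L42 0 = 1 := by
    have := h42.add 0 0 (a42 0) (a42 0)
    rw [add_zero] at this
    exact mul_eq_left.1 this.symm
  by_cases ht : t = 0
  · rw [ht, h420]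
    unfold cm; group
  -- reduce to `t = 1`
  have hred : cm (L42 t) (L40 u) = cm (L42 1) (L40 (t * u)) := by
    have := hL2 t ht 1 (t * u)
    rw [mul_one, inv_mul_cancel_left₀ ht] at this
    exact this
  rw [hred]
  -- the torus element
  obtain ⟨c, hc0, hc1, hcq⟩ := hS0
  have adm46 : Adm q 46 c := fun _ => hcq
  have hmem : HT q 46 c ∈ T1 K q := HT_mem hF 46 (by norm_num) c hc0 adm46
  have hmem2 := Subgroup.mem_inf.1 hmem
  obtain ⟨γ, hγ⟩ := hπ.surj ⟨HT q 46 c, hmem2.2⟩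
  have hpγ : pm π γ = HT q 46 c := by
    show ((π γ : ↥(twistedE6 K q)) : GG K) = HT q 46 c
    rw [hγ]
  have hdiag : pm π γ ∈ chevE6.diagonalSubgroup K := by rw [hpγ]; exact hmem2.1
  have f46 : h8sE6 46 = 46 := by decide
  have k42 : h8K chevE6 46 42 = 0 := by decide
  have k40 : h8K chevE6 46 40 = -1 := by decide
  have χ42 : h8chi chevE6 hB (pm π γ) 42 = 1 := by
    rw [hpγ, HT_chi hF 46 (by norm_num) c hc0 42 (by norm_num), if_pos f46, k42, _root_.zpow_zero]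
  have χ40 : h8chi chevE6 hB (pm π γ) 40 = c⁻¹ := by
    rw [hpγ, HT_chi hF 46 (by norm_num) c hc0 40 (by norm_num), if_pos f46, k40, _root_.zpow_neg_one]
  have t42 := h42.tor γ hdiag 1 (a42 1)
  rw [χ42, mul_one] at t42
  have hinv : ∀ w : K, w + w ^ q = 0 → cm (L42 1) (L40 (c⁻¹ * w)) = cm (L42 1) (L40 w) := by
    intro w hw
    have t40 := h40.tor γ hdiag w (a40 w)
    rw [χ40] at t40
    have hc := hπ.cj_of_map_one (hzker w hw) γ
    rw [cj_cm] at hc
    unfold cj at hc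
    rw [t42, t40] at hc
    exact hc
  -- additivity
  have hz0 : cm (L42 1) (L40 0) = 1 := by
    have := hL1 1 0 0
    rw [add_zero] at this
    exact mul_eq_left.1 this.symm
  have hzneg : ∀ w : K, cm (L42 1) (L40 (-w)) = (cm (L42 1) (L40 w))⁻¹ := by
    intro w
    have := hL1 1 w (-w)
    rw [add_neg_cancel, hz0] at this
    exact eq_inv_of_mul_eq_one_right this.symm
  have hkill : ∀ w : K, w + w ^ q = 0 → cm (L42 1) (L40 ((c⁻¹ - 1) * w)) = 1 := by
    intro w hw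
    rw [sub_mul, one_mul, sub_eq_add_neg, hL1, hinv w hw, hzneg, mul_inv_cancel]
  -- `(c⁻¹ - 1)⁻¹ * (t u)` has trace zero again
  have hd : c⁻¹ - 1 ≠ 0 := by
    intro h0
    apply hc1
    have : c⁻¹ = 1 := sub_eq_zero.1 h0
    rw [← inv_inv c, this, inv_one]
  have hdq : (c⁻¹ - 1) ^ q = c⁻¹ - 1 := by
    rw [← hF.pow, map_sub, map_inv₀, map_one, hF.pow, hcq]
  have htr : (c⁻¹ - 1)⁻¹ * (t * u) + ((c⁻¹ - 1)⁻¹ * (t * u)) ^ q = 0 := by
    rw [mul_pow, inv_pow, hdq, ← mul_add, htu, mul_zero]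
  have := hkill _ htr
  rw [mul_inv_cancel_left₀ hd] at this
  exact this

end Cfsg.Agent.Lib.helper3.T2E
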