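import Mathlib
import Cfsg.Agent.Lib.Helper10.TEM.Defs

/-!
# Project TEM = S2191 (designer helper10), row C1 `comm_of_terms`, VERBATIM (helper5).
Closure induction; generators: `h8xU_commute` (ChevTw7) resp. `h8xU_add`.
-/

set_option autoImplicit false

namespace Cfsg.Agent.Lib.Helper10.TEM

open Cfsg.Lie Cfsg.Lie.ChevalleyDatum Matrix
open Cfsg.Agent.Lib.helper8

universe u

variable {K : Type u} [Field K] {q : ℕ} {f : K ≃+* K} {M H : Subgroup (GG K)}

/-- two root elements of the same root commute -/
theorem temc1_same (a : ℕ) (ha : a < 72) (t c : K) : Commute (X a t : GG K) (X a c) := by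
  have ha' : a < chevE6.nroots := (root_data a ha).1
  show X a t * X a c = X a c * X a t
  unfold X
  rw [h8xU_add chevE6 hB a ha', h8xU_add chevE6 hB a ha', add_comm]

/-- two root elements with trivial commutator formula commute -/
theorem temc1_gen (a r : ℕ) (ha : a < 72) (hr : r < 72) (hra : r ≠ a) (hneg : r ≠ 71 - a)
    (ht : chevE6.commTerms a r = []) (t c : K) : Commute (X r t : GG K) (X a c) := by
  have ha' : a < chevE6.nroots := (root_data a ha).1
  have hr' : r < chevE6.nroots := (root_data r hr).1
  have hn : chevE6.negIdx.getD a 0 = 71 - a := (root_data a ha).2.1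
  exact (h8xU_commute chevE6 hB hC a r ha' hr' hra (by rw [hn]; exact hneg) ht c t).symm

-- ROW C1  [S-M]  closure induction; generators: `h8xU_commute` (ChevTw7) resp. `h8xU_add`.
theorem comm_of_terms (L : List ℕ) (a : ℕ) (ha : a < 72)
    (h : ∀ r ∈ L, r < 72 ∧ (r = a ∨ (r ≠ 71 - a ∧ chevE6.commTerms a r = [])))
    (g : GG K) (hg : g ∈ UPsi K L) (c : K) : Commute g (X a c) := by
  unfold UPsi at hg
  induction hg using Subgroup.closure_induction with
  | mem x hx =>
    obtain ⟨r, hrL, t, rfl⟩ := hx
    obtain ⟨hr, hcase⟩ := h r hrL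
    by_cases hra : r = a
    · subst hra
      exact temc1_same r ha t c
    · rcases hcase with e | ⟨hneg, ht⟩
      · exact absurd e hra
      · exact temc1_gen a r ha hr hra hneg ht t c
  | one => exact Commute.one_left _
  | mul x y _ _ hx hy => exact hx.mul_left hy
  | inv x _ hx => exact hx.inv_left

end Cfsg.Agent.Lib.Helper10.TEM
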