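import Mathlib
import Cfsg.Agent.Lib.Helper5.PcPI
import Cfsg.Agent.Lib.Helper5.PcPH
import Cfsg.Agent.Lib.Helper5.PcPG
import Cfsg.Agent.Lib.Helper5.PcPJ
import Cfsg.Agent.Lib.Helper5.PcPK
import Cfsg.Agent.Lib.helper23.U4pChk
import Cfsg.Agent.Lib.Helper5.U43Data3

set_option autoImplicit false
set_option maxRecDepth 1000000
set_option Elab.async false

/-! Checks of the certificates for a Sylow 3-subgroup of the projective special unitary group of degree four over nine elements on 280 points (generated). -/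

namespace Cfsg.Agent.Lib.Helper5.U43M

open Cfsg Cfsg.Agent.Lib.helper23 Cfsg.Agent.Lib.Helper5.CP Cfsg.Agent.Lib.Helper5.PcT Cfsg.Agent.Lib.Helper5.PcP
theorem chk_id : eqW u4plk 280 Uid [] = true := by decide +kernel

theorem gtabs3p0_chk : tabsChk u4plk 280 (pgRigidAll 280).base u4pC gtabs3p0 = true := by decide +kernel

theorem gtabs3_chk : tabsChk u4plk 280 (pgRigidAll 280).base u4pC gtabs3 = true :=
  gtabs3p0_chk

theorem htabs3p0_chk : tabsChk u4plk 280 (pgRigidAll 280).base u4pC htabs3p0 = true := by decide +kernel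

theorem htabs3_chk : tabsChk u4plk 280 (pgRigidAll 280).base u4pC htabs3 = true :=
  htabs3p0_chk

end Cfsg.Agent.Lib.Helper5.U43M
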