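import Mathlib
import Cfsg.Agent.Lib.Helper5.PcPI
import Cfsg.Agent.Lib.Helper5.PcPH
import Cfsg.Agent.Lib.Helper5.PcPG
import Cfsg.Agent.Lib.Helper5.PcPJ
import Cfsg.Agent.Lib.Helper5.PcPK
import Cfsg.Agent.Lib.helper23.U4pChk
import Cfsg.Agent.Lib.Helper5.U43Data3

set_option autoImplicit false
set_option maxRecDepth 1000000
set_option Elab.async false

/-! Checks of the certificates for a Sylow 3-subgroup of the projective special unitary group of degree four over nine elements on 280 points (generated). -/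

namespace Cfsg.Agent.Lib.Helper5.U43M

open Cfsg Cfsg.Agent.Lib.helper23 Cfsg.Agent.Lib.Helper5.CP Cfsg.Agent.Lib.Helper5.PcT Cfsg.Agent.Lib.Helper5.PcP
theorem data3_ok : dataOK 6 sqL3 cmL3 = true := by decide +kernel

theorem relpart3x0_ok : relsPart u4plk 280 Uid 3 (gtabs3.map Prod.fst) sqL3 cmL3 relpart3x0 = true := by
  decide +kernel

theorem rels3_ok : relsChkP u4plk 280 Uid 3 (gtabs3.map Prod.fst) 6 sqL3 cmL3 = true := by
  apply relsChkP_of_parts u4plk 280 Uid 3 _ 6 sqL3 cmL3 relparts3 (by decide +kernel)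
  intro L hL
  simp only [relparts3, List.mem_cons, List.not_mem_nil, or_false] at hL
  rcases hL with rfl
  · exact relpart3x0_ok

end Cfsg.Agent.Lib.Helper5.U43M
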