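import Cfsg.Agent.Lib.Helper5.U43CovData
import Cfsg.Agent.Lib.helper23.PgX
import Cfsg.Agent.Lib.helper23.PgH

set_option autoImplicit false
set_option maxRecDepth 1000000
set_option Elab.async false

/-! the covering group of the unitary group of degree four over nine elements, on 3276 points: the checks of the stabiliser chain (generated), part 1. -/

namespace Cfsg.Agent.Lib.Helper5.U43Cov

open Cfsg.Agent.Lib.helper23 Subgroup MulAction
theorem uccl7x0c0 : pgChkGenW 3276 (List.range 3276) ucL7 []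
    (ucgen ucT7x0 ucI7x0) 0 3276 = true := by
  decide +kernel

theorem uccl7x1c0 : pgChkGenW 3276 (List.range 3276) ucL7 []
    (ucgen ucT7x1 ucI7x1) 0 3276 = true := by
  decide +kernel

theorem uccl6x0c0 : pgChkGenW 3276 (List.range 3276) ucL6 [ucL7]
    (ucgen ucT6x0 ucI6x0) 0 3276 = true := by
  decide +kernel

theorem uccl6x1c0 : pgChkGenW 3276 (List.range 3276) ucL6 [ucL7]
    (ucgen ucT6x1 ucI6x1) 0 3276 = true := by
  decide +kernel

theorem uccl5x0c0 : pgChkGenW 3276 (List.range 3276) ucL5 [ucL6, ucL7]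
    (ucgen ucT5x0 ucI5x0) 0 3276 = true := by
  decide +kernel

theorem uccl5x1c0 : pgChkGenW 3276 (List.range 3276) ucL5 [ucL6, ucL7]
    (ucgen ucT5x1 ucI5x1) 0 3276 = true := by
  decide +kernel

theorem uccl4x0c0 : pgChkGenW 3276 (List.range 3276) ucL4 [ucL5, ucL6, ucL7]
    (ucgen ucT4x0 ucI4x0) 0 3276 = true := by
  decide +kernel

theorem uccl4x1c0 : pgChkGenW 3276 (List.range 3276) ucL4 [ucL5, ucL6, ucL7]
    (ucgen ucT4x1 ucI4x1) 0 3276 = true := by
  decide +kernel

theorem uccl4x2c0 : pgChkGenW 3276 (List.range 3276) ucL4 [ucL5, ucL6, ucL7]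
    (ucgen ucT4x2 ucI4x2) 0 3276 = true := by
  decide +kernel

theorem uccl3x0c0 : pgChkGenW 3276 (List.range 3276) ucL3 [ucL4, ucL5, ucL6, ucL7]
    (ucgen ucT3x0 ucI3x0) 0 3276 = true := by
  decide +kernel

theorem uccl3x1c0 : pgChkGenW 3276 (List.range 3276) ucL3 [ucL4, ucL5, ucL6, ucL7]
    (ucgen ucT3x1 ucI3x1) 0 3276 = true := by
  decide +kernel

theorem uccl2x0c0 : pgChkGenW 3276 (List.range 3276) ucL2 [ucL3, ucL4, ucL5, ucL6, ucL7]
    (ucgen ucT2x0 ucI2x0) 0 42 = true := by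
  decide +kernel

end Cfsg.Agent.Lib.Helper5.U43Cov
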