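import Cfsg.Agent.Lib.Helper5.U43CovData
import Cfsg.Agent.Lib.helper23.PgX
import Cfsg.Agent.Lib.helper23.PgH

set_option autoImplicit false
set_option maxRecDepth 1000000
set_option Elab.async false

/-! the covering group of the unitary group of degree four over nine elements, on 3276 points: the checks of the stabiliser chain (generated), part 6. -/

namespace Cfsg.Agent.Lib.Helper5.U43Cov

open Cfsg.Agent.Lib.helper23 Subgroup MulAction
theorem uccl1x0c120 : pgChkGenW 3276 (List.range 3276) ucL1 [ucL2, ucL3, ucL4, ucL5, ucL6, ucL7]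
    (ucgen ucT1x0 ucI1x0) 120 40 = true := by
  decide +kernel

theorem uccl1x0c160 : pgChkGenW 3276 (List.range 3276) ucL1 [ucL2, ucL3, ucL4, ucL5, ucL6, ucL7]
    (ucgen ucT1x0 ucI1x0) 160 40 = true := by
  decide +kernel

theorem uccl1x0c200 : pgChkGenW 3276 (List.range 3276) ucL1 [ucL2, ucL3, ucL4, ucL5, ucL6, ucL7]
    (ucgen ucT1x0 ucI1x0) 200 40 = true := by
  decide +kernel

theorem uccl1x0c240 : pgChkGenW 3276 (List.range 3276) ucL1 [ucL2, ucL3, ucL4, ucL5, ucL6, ucL7]
    (ucgen ucT1x0 ucI1x0) 240 40 = true := by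
  decide +kernel

theorem uccl1x0c280 : pgChkGenW 3276 (List.range 3276) ucL1 [ucL2, ucL3, ucL4, ucL5, ucL6, ucL7]
    (ucgen ucT1x0 ucI1x0) 280 2996 = true := by
  decide +kernel

end Cfsg.Agent.Lib.Helper5.U43Cov
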