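import Cfsg.Agent.Lib.Helper5.U43CovChkP0
import Cfsg.Agent.Lib.Helper5.U43CovChkP1
import Cfsg.Agent.Lib.Helper5.U43CovChkP2
import Cfsg.Agent.Lib.Helper5.U43CovChkP3
import Cfsg.Agent.Lib.Helper5.U43CovChkP4
import Cfsg.Agent.Lib.Helper5.U43CovChkP5
import Cfsg.Agent.Lib.Helper5.U43CovChkP6
import Cfsg.Agent.Lib.Helper5.U43CovChkP7
import Cfsg.Agent.Lib.Helper5.U43CovChkP8
import Cfsg.Agent.Lib.Helper5.U43CovData
import Cfsg.Agent.Lib.helper23.PgX
import Cfsg.Agent.Lib.helper23.PgH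

set_option autoImplicit false
set_option maxRecDepth 1000000
set_option Elab.async false

/-! the covering group of the unitary group of degree four over nine elements, on 3276 points: the checks of the stabiliser chain (generated), part final. -/

namespace Cfsg.Agent.Lib.Helper5.U43Cov

open Cfsg.Agent.Lib.helper23 Subgroup MulAction
theorem uccl7x0 : pgChkGenW 3276 (List.range 3276) ucL7 []
    (ucgen ucT7x0 ucI7x0) 0 3276 = true :=
  uccl7x0c0

theorem uccl7x1 : pgChkGenW 3276 (List.range 3276) ucL7 []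
    (ucgen ucT7x1 ucI7x1) 0 3276 = true :=
  uccl7x1c0

theorem uccl6x0 : pgChkGenW 3276 (List.range 3276) ucL6 [ucL7]
    (ucgen ucT6x0 ucI6x0) 0 3276 = true :=
  uccl6x0c0

theorem uccl6x1 : pgChkGenW 3276 (List.range 3276) ucL6 [ucL7]
    (ucgen ucT6x1 ucI6x1) 0 3276 = true :=
  uccl6x1c0

theorem uccl5x0 : pgChkGenW 3276 (List.range 3276) ucL5 [ucL6, ucL7]
    (ucgen ucT5x0 ucI5x0) 0 3276 = true :=
  uccl5x0c0

theorem uccl5x1 : pgChkGenW 3276 (List.range 3276) ucL5 [ucL6, ucL7]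
    (ucgen ucT5x1 ucI5x1) 0 3276 = true :=
  uccl5x1c0

theorem uccl4x0 : pgChkGenW 3276 (List.range 3276) ucL4 [ucL5, ucL6, ucL7]
    (ucgen ucT4x0 ucI4x0) 0 3276 = true :=
  uccl4x0c0

theorem uccl4x1 : pgChkGenW 3276 (List.range 3276) ucL4 [ucL5, ucL6, ucL7]
    (ucgen ucT4x1 ucI4x1) 0 3276 = true :=
  uccl4x1c0

theorem uccl4x2 : pgChkGenW 3276 (List.range 3276) ucL4 [ucL5, ucL6, ucL7]
    (ucgen ucT4x2 ucI4x2) 0 3276 = true :=
  uccl4x2c0

theorem uccl3x0 : pgChkGenW 3276 (List.range 3276) ucL3 [ucL4, ucL5, ucL6, ucL7]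
    (ucgen ucT3x0 ucI3x0) 0 3276 = true :=
  uccl3x0c0

theorem uccl3x1 : pgChkGenW 3276 (List.range 3276) ucL3 [ucL4, ucL5, ucL6, ucL7]
    (ucgen ucT3x1 ucI3x1) 0 3276 = true :=
  uccl3x1c0

theorem uccl2x0 : pgChkGenW 3276 (List.range 3276) ucL2 [ucL3, ucL4, ucL5, ucL6, ucL7]
    (ucgen ucT2x0 ucI2x0) 0 3276 = true :=
  pgChkGenW_append (lo := 0) (c1 := 277) (c2 := 2999) (pgChkGenW_append (lo := 0) (c1 := 231) (c2 := 46) (pgChkGenW_append (lo := 0) (c1 := 183) (c2 := 48) (pgChkGenW_append (lo := 0) (c1 := 138) (c2 := 45) (pgChkGenW_append (lo := 0) (c1 := 89) (c2 := 49) (pgChkGenW_append (lo := 0) (c1 := 42) (c2 := 47) (uccl2x0c0) uccl2x0c42) uccl2x0c89) uccl2x0c138) uccl2x0c183) uccl2x0c231) uccl2x0c277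

theorem uccl2x1 : pgChkGenW 3276 (List.range 3276) ucL2 [ucL3, ucL4, ucL5, ucL6, ucL7]
    (ucgen ucT2x1 ucI2x1) 0 3276 = true :=
  pgChkGenW_append (lo := 0) (c1 := 277) (c2 := 2999) (pgChkGenW_append (lo := 0) (c1 := 231) (c2 := 46) (pgChkGenW_append (lo := 0) (c1 := 183) (c2 := 48) (pgChkGenW_append (lo := 0) (c1 := 138) (c2 := 45) (pgChkGenW_append (lo := 0) (c1 := 89) (c2 := 49) (pgChkGenW_append (lo := 0) (c1 := 42) (c2 := 47) (uccl2x1c0) uccl2x1c42) uccl2x1c89) uccl2x1c138) uccl2x1c183) uccl2x1c231) uccl2x1c277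

theorem uccl1x0 : pgChkGenW 3276 (List.range 3276) ucL1 [ucL2, ucL3, ucL4, ucL5, ucL6, ucL7]
    (ucgen ucT1x0 ucI1x0) 0 3276 = true :=
  pgChkGenW_append (lo := 0) (c1 := 280) (c2 := 2996) (pgChkGenW_append (lo := 0) (c1 := 240) (c2 := 40) (pgChkGenW_append (lo := 0) (c1 := 200) (c2 := 40) (pgChkGenW_append (lo := 0) (c1 := 160) (c2 := 40) (pgChkGenW_append (lo := 0) (c1 := 120) (c2 := 40) (pgChkGenW_append (lo := 0) (c1 := 80) (c2 := 40) (pgChkGenW_append (lo := 0) (c1 := 40) (c2 := 40) (uccl1x0c0) uccl1x0c40) uccl1x0c80) uccl1x0c120) uccl1x0c160) uccl1x0c200) uccl1x0c240) uccl1x0c280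

theorem uccl1x1 : pgChkGenW 3276 (List.range 3276) ucL1 [ucL2, ucL3, ucL4, ucL5, ucL6, ucL7]
    (ucgen ucT1x1 ucI1x1) 0 3276 = true :=
  pgChkGenW_append (lo := 0) (c1 := 280) (c2 := 2996) (pgChkGenW_append (lo := 0) (c1 := 240) (c2 := 40) (pgChkGenW_append (lo := 0) (c1 := 200) (c2 := 40) (pgChkGenW_append (lo := 0) (c1 := 160) (c2 := 40) (pgChkGenW_append (lo := 0) (c1 := 120) (c2 := 40) (pgChkGenW_append (lo := 0) (c1 := 80) (c2 := 40) (pgChkGenW_append (lo := 0) (c1 := 40) (c2 := 40) (uccl1x1c0) uccl1x1c40) uccl1x1c80) uccl1x1c120) uccl1x1c160) uccl1x1c200) uccl1x1c240) uccl1x1c280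

theorem ucchkL7 : pgChkLvlW 3276 (List.range 3276) ucL7 [] = true := by
  apply pgChkLvlW_ofAllX ucchk0x7
  intro s hs
  change s ∈ [ucgen ucT7x0 ucI7x0, ucgen ucT7x1 ucI7x1] at hs
  simp only [List.mem_cons, List.not_mem_nil, or_false] at hs
  rcases hs with rfl | rfl
  · exact uccl7x0
  · exact uccl7x1

theorem ucchkL6 : pgChkLvlW 3276 (List.range 3276) ucL6 [ucL7] = true := by
  apply pgChkLvlW_ofAllX ucchk0x6
  intro s hs
  change s ∈ [ucgen ucT6x0 ucI6x0, ucgen ucT6x1 ucI6x1] at hs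
  simp only [List.mem_cons, List.not_mem_nil, or_false] at hs
  rcases hs with rfl | rfl
  · exact uccl6x0
  · exact uccl6x1

theorem ucchkL5 : pgChkLvlW 3276 (List.range 3276) ucL5 [ucL6, ucL7] = true := by
  apply pgChkLvlW_ofAllX ucchk0x5
  intro s hs
  change s ∈ [ucgen ucT5x0 ucI5x0, ucgen ucT5x1 ucI5x1] at hs
  simp only [List.mem_cons, List.not_mem_nil, or_false] at hs
  rcases hs with rfl | rfl
  · exact uccl5x0
  · exact uccl5x1

theorem ucchkL4 : pgChkLvlW 3276 (List.range 3276) ucL4 [ucL5, ucL6, ucL7] = true := by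
  apply pgChkLvlW_ofAllX ucchk0x4
  intro s hs
  change s ∈ [ucgen ucT4x0 ucI4x0, ucgen ucT4x1 ucI4x1, ucgen ucT4x2 ucI4x2] at hs
  simp only [List.mem_cons, List.not_mem_nil, or_false] at hs
  rcases hs with rfl | rfl | rfl
  · exact uccl4x0
  · exact uccl4x1
  · exact uccl4x2

theorem ucchkL3 : pgChkLvlW 3276 (List.range 3276) ucL3 [ucL4, ucL5, ucL6, ucL7] = true := by
  apply pgChkLvlW_ofAllX ucchk0x3
  intro s hs
  change s ∈ [ucgen ucT3x0 ucI3x0, ucgen ucT3x1 ucI3x1] at hs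
  simp only [List.mem_cons, List.not_mem_nil, or_false] at hs
  rcases hs with rfl | rfl
  · exact uccl3x0
  · exact uccl3x1

theorem ucchkL2 : pgChkLvlW 3276 (List.range 3276) ucL2 [ucL3, ucL4, ucL5, ucL6, ucL7] = true := by
  apply pgChkLvlW_ofAllX ucchk0x2
  intro s hs
  change s ∈ [ucgen ucT2x0 ucI2x0, ucgen ucT2x1 ucI2x1] at hs
  simp only [List.mem_cons, List.not_mem_nil, or_false] at hs
  rcases hs with rfl | rfl
  · exact uccl2x0
  · exact uccl2x1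

theorem ucchkL1 : pgChkLvlW 3276 (List.range 3276) ucL1 [ucL2, ucL3, ucL4, ucL5, ucL6, ucL7] = true := by
  apply pgChkLvlW_ofAllX ucchk0x1
  intro s hs
  change s ∈ [ucgen ucT1x0 ucI1x0, ucgen ucT1x1 ucI1x1] at hs
  simp only [List.mem_cons, List.not_mem_nil, or_false] at hs
  rcases hs with rfl | rfl
  · exact uccl1x0
  · exact uccl1x1

/-- the stabiliser chain -/
def ucC : List PgLvlW := [ucL1, ucL2, ucL3, ucL4, ucL5, ucL6, ucL7]

theorem ucchkC : pgChkW 3276 (pgRigidAll 3276).base ucC = true := by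
  change pgChkW 3276 (List.range 3276) [ucL1, ucL2, ucL3, ucL4, ucL5, ucL6, ucL7] = true
  rw [pgChkW_cons, pgChkW_cons, pgChkW_cons, pgChkW_cons, pgChkW_cons, pgChkW_cons, pgChkW_cons, ucchkL1, ucchkL2, ucchkL3, ucchkL4, ucchkL5, ucchkL6, ucchkL7]
  rfl

end Cfsg.Agent.Lib.Helper5.U43Cov
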