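import Cfsg.Agent.Lib.Helper5.U43CovData
import Cfsg.Agent.Lib.helper23.PgX
import Cfsg.Agent.Lib.helper23.PgH

set_option autoImplicit false
set_option maxRecDepth 1000000
set_option Elab.async false

/-! the covering group of the unitary group of degree four over nine elements, on 3276 points: the checks of the stabiliser chain (generated), part 0. -/

namespace Cfsg.Agent.Lib.Helper5.U43Cov

open Cfsg.Agent.Lib.helper23 Subgroup MulAction
theorem ucchk0x7 : pgChkLvlW0 3276 ucL7 [] = true := by decide +kernel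

theorem ucchk0x6 : pgChkLvlW0 3276 ucL6 [ucL7] = true := by decide +kernel

theorem ucchk0x5 : pgChkLvlW0 3276 ucL5 [ucL6, ucL7] = true := by decide +kernel

theorem ucchk0x4 : pgChkLvlW0 3276 ucL4 [ucL5, ucL6, ucL7] = true := by decide +kernel

theorem ucchk0x3 : pgChkLvlW0 3276 ucL3 [ucL4, ucL5, ucL6, ucL7] = true := by decide +kernel

theorem ucchk0x2 : pgChkLvlW0 3276 ucL2 [ucL3, ucL4, ucL5, ucL6, ucL7] = true := by decide +kernel

theorem ucchk0x1 : pgChkLvlW0 3276 ucL1 [ucL2, ucL3, ucL4, ucL5, ucL6, ucL7] = true := by decide +kernel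

end Cfsg.Agent.Lib.Helper5.U43Cov
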