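import Mathlib
import Cfsg.Agent.Lib.Helper5.PcPF
import Cfsg.Agent.Lib.Helper5.PcPK
import Cfsg.Agent.Lib.Helper5.U43CovChk
import Cfsg.Agent.Lib.Helper5.U43CovEl

set_option autoImplicit false
set_option maxRecDepth 1000000
set_option Elab.async false

/-! Checks on the elements of the covering group on 3276 points (generated), part 0. -/

namespace Cfsg.Agent.Lib.Helper5.U43Cov

open Cfsg.Agent.Lib.helper23 Cfsg.Agent.Lib.Helper5.CP Cfsg.Agent.Lib.Helper5.PcP
theorem etabsp0_chk : tabsChk uclk 3276 (pgRigidAll 3276).base ucC etabsp0 = true := by decide +kernel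

end Cfsg.Agent.Lib.Helper5.U43Cov
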