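import Mathlib
import Cfsg.Agent.Lib.Helper5.PcPF
import Cfsg.Agent.Lib.Helper5.PcPK
import Cfsg.Agent.Lib.Helper5.U43CovChk
import Cfsg.Agent.Lib.Helper5.U43CovEl
import Cfsg.Agent.Lib.Helper5.U43CovElChk0
import Cfsg.Agent.Lib.Helper5.U43CovElChk1
import Cfsg.Agent.Lib.Helper5.U43CovElChk2

set_option autoImplicit false
set_option maxRecDepth 1000000
set_option Elab.async false

/-! Checks on the elements of the covering group on 3276 points (generated), part 3. -/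

namespace Cfsg.Agent.Lib.Helper5.U43Cov

open Cfsg.Agent.Lib.helper23 Cfsg.Agent.Lib.Helper5.CP Cfsg.Agent.Lib.Helper5.PcP
theorem etabs_chk : tabsChk uclk 3276 (pgRigidAll 3276).base ucC etabs = true :=
  tabsChk_append _ _ _ _ _ _ etabsp0_chk (tabsChk_append _ _ _ _ _ _ etabsp1_chk etabsp2_chk)

theorem ucid_chk : eqW uclk 3276 ucId [] = true := by decide +kernel

theorem commZ4_chk : eqWW uclk 3276 [ucEZ4, ucEY3, ucEX3] [ucEX3, ucEY3] = true := by decide +kernel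

theorem kerZ4_chk : allB 280 (fun p => Nat.beq (uclk ucEZ4 p) p) = true := by decide +kernel

theorem cenAZ4_chk : eqWW uclk 3276 [ucEZ4, ucT1x0] [ucT1x0, ucEZ4] = true := by decide +kernel

theorem cenBZ4_chk : eqWW uclk 3276 [ucEZ4, ucT1x1] [ucT1x1, ucEZ4] = true := by decide +kernel

theorem powZ4_chk : eqWW uclk 3276 [ucEZ4, ucEZ4, ucEZ4, ucEZ4] [] = true := by decide +kernel

theorem commZ3a_chk : eqWW uclk 3276 [ucEZ3a, ucEY1, ucEX1] [ucEX1, ucEY1] = true := by decide +kernel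

theorem kerZ3a_chk : allB 280 (fun p => Nat.beq (uclk ucEZ3a p) p) = true := by decide +kernel

theorem cenAZ3a_chk : eqWW uclk 3276 [ucEZ3a, ucT1x0] [ucT1x0, ucEZ3a] = true := by decide +kernel

theorem cenBZ3a_chk : eqWW uclk 3276 [ucEZ3a, ucT1x1] [ucT1x1, ucEZ3a] = true := by decide +kernel

theorem powZ3a_chk : eqWW uclk 3276 [ucEZ3a, ucEZ3a, ucEZ3a] [] = true := by decide +kernel

theorem commZ3b_chk : eqWW uclk 3276 [ucEZ3b, ucEY1, ucEX2] [ucEX2, ucEY1] = true := by decide +kernel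

theorem kerZ3b_chk : allB 280 (fun p => Nat.beq (uclk ucEZ3b p) p) = true := by decide +kernel

theorem cenAZ3b_chk : eqWW uclk 3276 [ucEZ3b, ucT1x0] [ucT1x0, ucEZ3b] = true := by decide +kernel

theorem cenBZ3b_chk : eqWW uclk 3276 [ucEZ3b, ucT1x1] [ucT1x1, ucEZ3b] = true := by decide +kernel

theorem powZ3b_chk : eqWW uclk 3276 [ucEZ3b, ucEZ3b, ucEZ3b] [] = true := by decide +kernel

theorem vals_chk :
    (uclk ucEZ4 280 = 285 ∧ uclk ucEZ4 285 = 281 ∧ uclk ucEZ4 281 = 282) ∧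
    (uclk ucEZ3a 280 = 280 ∧ uclk ucEZ3b 280 = 280) ∧
    (uclk ucEZ3a 2520 = 2521 ∧ uclk ucEZ3a 2521 = 2522) ∧ uclk ucEZ3b 2520 = 2520 ∧
    (uclk ucEZ3b 2898 = 2899 ∧ uclk ucEZ3b 2899 = 2900) := by decide +kernel

end Cfsg.Agent.Lib.Helper5.U43Cov
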