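import Mathlib
import Cfsg.Agent.Lib.Helper5.U43CovElChk
import Cfsg.Agent.Lib.Helper5.StemY
import Cfsg.Agent.Lib.helper23.U4B
import Cfsg.Prelude.Def_KGroupFacts

set_option autoImplicit false
set_option maxRecDepth 1000000

/-! The group on 3276 points generated by lifts of the two generators is a stem extension of the
projective special unitary group of degree four over the field with nine elements (on 280 points),
with kernel the product of cyclic groups of orders four, three and three. -/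

namespace Cfsg.Agent.Lib.Helper5.U43Cov

open Cfsg Cfsg.Agent.Lib.helper23 Cfsg.Agent.Lib.Helper5.CP Cfsg.Agent.Lib.Helper5.PcP
open Subgroup
open scoped commutatorElement

theorem ucA : pgGrpW 3276 ucC ≤ (pgRigidAll 3276).A := le_top

theorem ucok : ∀ P ∈ ucL1.own, P.ok 3276 = true :=
  pgChkW_own_ok 3276 (pgRigidAll 3276).base ucC ucchkC

theorem ucord : pgOrdW 3276 ucC = 117573120 := by decide +kernel

/-- the covering group on 3276 points -/
abbrev Cov : Subgroup (Equiv.Perm (Fin 3276)) := closure (pgSet 3276 ucL1.own)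

theorem Cov_eq : Cov = pgGrpW 3276 ucC := rfl

theorem Cov_card : Nat.card Cov = 117573120 := by
  rw [Cov_eq, pgCardW (pgRigidAll 3276) ucC ucchkC ucA, ucord]

instance Cov_finite : Finite Cov := Nat.finite_of_card_ne_zero (by rw [Cov_card]; norm_num)

/-- the group on 280 points, as a type -/
abbrev HG : Type := ↥P280

theorem card_HG : Nat.card HG = 3265920 := P280_card

instance HG_finite : Finite HG := Nat.finite_of_card_ne_zero (by rw [card_HG]; norm_num)

/-! ### the restriction to the first 280 points -/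

/-- the permutations preserving the first 280 points -/
def Stab : Subgroup (Equiv.Perm (Fin 3276)) where
  carrier := {g | ∀ i : Fin 3276, (g i).1 < 280 ↔ i.1 < 280}
  one_mem' := fun _ => Iff.rfl
  mul_mem' := by
    intro a b ha hb i
    rw [Equiv.Perm.mul_apply]
    exact (ha (b i)).trans (hb i)
  inv_mem' := by
    intro a ha i
    have := ha (a⁻¹ i)
    have e : a (a⁻¹ i) = i := by simp
    rw [e] at this
    exact this.symm

/-- the embedding of the first 280 points -/
def emb (i : Fin 280) : Fin 3276 := ⟨i.1, by omega⟩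

theorem emb_injective : Function.Injective emb := by
  intro i j h
  apply Fin.ext
  have h' : (emb i).1 = (emb j).1 := congrArg Fin.val h
  exact h'

/-- the restriction to the first 280 points, as a function -/
def resFun (g : Stab) (i : Fin 280) : Fin 280 := ⟨(g.1 (emb i)).1, (g.2 (emb i)).2 i.2⟩

theorem emb_resFun (g : Stab) (i : Fin 280) : emb (resFun g i) = g.1 (emb i) := Fin.ext rfl

theorem resFun_mul (g h : Stab) (i : Fin 280) : resFun (g * h) i = resFun g (resFun h i) := by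
  apply emb_injective
  rw [emb_resFun, emb_resFun, emb_resFun]
  rfl

theorem resFun_one (i : Fin 280) : resFun 1 i = i := by
  apply emb_injective
  rw [emb_resFun]
  rfl

/-- the restriction to the first 280 points -/
def res : Stab →* Equiv.Perm (Fin 280) where
  toFun g :=
    { toFun := resFun g
      invFun := resFun g⁻¹
      left_inv := fun i => by rw [← resFun_mul, inv_mul_cancel, resFun_one]
      right_inv := fun i => by rw [← resFun_mul, mul_inv_cancel, resFun_one] }
  map_one' := by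
    apply Equiv.ext
    intro i
    exact resFun_one i
  map_mul' := by
    intro g h
    apply Equiv.ext
    intro i
    exact resFun_mul g h i

theorem res_apply (g : Stab) (i : Fin 280) : ((res g) i).1 = (g.1 (emb i)).1 := rfl

/-! ### the generators -/

/-- the lift of the generator of index `k`, as a pair of lookups -/
def cG (k : ℕ) : PFun := ucL1.own.getD k PFun.one

/-- the generator of index `k`, as a pair of lookups -/
def bG (k : ℕ) : PFun := u4pL1.own.getD k PFun.one

theorem cG_ok (k : ℕ) : (cG k).ok 3276 = true := pgGetD_ok ucok k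

theorem bG_ok (k : ℕ) : (bG k).ok 280 = true := pgGetD_ok u4pok k

theorem own_length : ucL1.own.length = 2 := rfl

theorem bown_length : u4pL1.own.length = 2 := rfl

theorem mem_own {P : PFun} (hP : P ∈ ucL1.own) : ∃ k, k < 2 ∧ P = cG k := by
  obtain ⟨k, hk, rfl⟩ := List.mem_iff_getElem.mp hP
  refine ⟨k, by rw [← own_length]; exact hk, ?_⟩
  unfold cG
  rw [List.getD_eq_getElem _ _ hk]

theorem mem_bown {P : PFun} (hP : P ∈ u4pL1.own) : ∃ k, k < 2 ∧ P = bG k := by
  obtain ⟨k, hk, rfl⟩ := List.mem_iff_getElem.mp hP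
  refine ⟨k, by rw [← bown_length]; exact hk, ?_⟩
  unfold bG
  rw [List.getD_eq_getElem _ _ hk]

theorem stab_chk : pgAll 2 (fun k => pgAll 3276 (fun i =>
    pgEqB (Nat.blt ((cG k).f i) 280) (Nat.blt i 280))) = true := by decide +kernel

theorem res_chk : pgAll 2 (fun k => pgAll 280 (fun i =>
    Nat.beq ((cG k).f i) ((bG k).f i))) = true := by decide +kernel

theorem perm_mem_Stab {P : PFun} (hP : P.ok 3276 = true)
    (h : pgAll 3276 (fun i => pgEqB (Nat.blt (P.f i) 280) (Nat.blt i 280)) = true) :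
    P.perm 3276 ∈ Stab := by
  intro i
  rw [PFun.perm_apply hP]
  have := (pgAll_iff _ _).1 h i.1 i.2
  rw [pgEqB_iff] at this
  constructor
  · intro h1
    have h2 : Nat.blt (P.f i.1) 280 = true := by simpa using h1
    rw [this] at h2
    simpa using h2
  · intro h1
    have h2 : Nat.blt i.1 280 = true := by simpa using h1
    rw [← this] at h2
    simpa using h2

theorem cG_stab (k : ℕ) (hk : k < 2) : (cG k).perm 3276 ∈ Stab :=
  perm_mem_Stab (cG_ok k) ((pgAll_iff _ _).1 stab_chk k hk)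

theorem Cov_le_Stab : Cov ≤ Stab := by
  rw [closure_le]
  rintro _ ⟨P, hP, rfl⟩
  obtain ⟨k, hk, rfl⟩ := mem_own hP
  exact cG_stab k hk

theorem res_perm {P Q : PFun} (hP : P.ok 3276 = true) (hs : P.perm 3276 ∈ Stab)
    (hQ : Q.ok 280 = true) (h : pgAll 280 (fun i => Nat.beq (P.f i) (Q.f i)) = true) :
    res ⟨P.perm 3276, hs⟩ = Q.perm 280 := by
  apply Equiv.ext
  intro i
  apply Fin.ext
  rw [res_apply, PFun.perm_apply hP, PFun.perm_apply hQ]
  have := (pgAll_iff _ _).1 h i.1 i.2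
  rw [Nat.beq_eq] at this
  exact this

theorem res_cG (k : ℕ) (hk : k < 2) : res ⟨(cG k).perm 3276, cG_stab k hk⟩ = (bG k).perm 280 :=
  res_perm (cG_ok k) (cG_stab k hk) (bG_ok k) ((pgAll_iff _ _).1 res_chk k hk)

/-- the restriction on the covering group -/
def sig0 : Cov →* Equiv.Perm (Fin 280) := res.comp (Subgroup.inclusion Cov_le_Stab)

theorem sig0_mem (γ : Cov) : sig0 γ ∈ P280 := by
  have hle : Cov ≤ (P280.comap res).map Stab.subtype := by
    rw [closure_le]
    rintro _ ⟨P, hP, rfl⟩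
    obtain ⟨k, hk, rfl⟩ := mem_own hP
    refine ⟨⟨(cG k).perm 3276, cG_stab k hk⟩, ?_, rfl⟩
    show res _ ∈ P280
    rw [res_cG k hk]
    exact pgGetD_mem k
  obtain ⟨s, hs, hsγ⟩ := hle γ.2
  have e : Subgroup.inclusion Cov_le_Stab γ = s := Subtype.ext hsγ.symm
  show res (Subgroup.inclusion Cov_le_Stab γ) ∈ P280
  rw [e]
  exact hs

/-- the covering map -/
def sig : Cov →* HG := sig0.codRestrict P280 sig0_mem

theorem sig_coe (γ : Cov) : ((sig γ : HG) : Equiv.Perm (Fin 280)) = sig0 γ := rfl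

/-- the lift of the generator of index `k` -/
def xG (k : ℕ) : Cov := ⟨(cG k).perm 3276, pgGetD_mem k⟩

theorem sig0_xG (k : ℕ) (hk : k < 2) : sig0 (xG k) = (bG k).perm 280 := res_cG k hk

theorem sig_surj : Function.Surjective sig := by
  rintro ⟨y, hy⟩
  have key : ∀ y (hy : y ∈ P280), ∃ γ : Cov, sig0 γ = y := by
    intro y hy
    induction hy using Subgroup.closure_induction with
    | mem y hy =>
      obtain ⟨P, hP, rfl⟩ := hy
      obtain ⟨k, hk, rfl⟩ := mem_bown hP
      exact ⟨xG k, sig0_xG k hk⟩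
    | one => exact ⟨1, map_one _⟩
    | mul a b ha hb iha ihb =>
      obtain ⟨γ, hγ⟩ := iha
      obtain ⟨δ, hδ⟩ := ihb
      exact ⟨γ * δ, by rw [map_mul, hγ, hδ]⟩
    | inv a ha iha =>
      obtain ⟨γ, hγ⟩ := iha
      exact ⟨γ⁻¹, by rw [map_inv, hγ]⟩
  obtain ⟨γ, hγ⟩ := key y hy
  exact ⟨γ, Subtype.ext hγ⟩

theorem card_ker_sig : Nat.card sig.ker = 36 := by
  have h1 := Subgroup.card_eq_card_quotient_mul_card_subgroup sig.ker
  have e := QuotientGroup.quotientKerEquivOfSurjective sig sig_surj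
  rw [Nat.card_congr e.toEquiv, Cov_card, card_HG] at h1
  omega

/-! ### elements given by tables -/

theorem etabs_mem : (∀ t ∈ etabs, (mkP uclk t).perm 3276 ∈ pgGrpW 3276 ucC) ∧
    (∀ t ∈ etabs, (mkP uclk t).ok 3276 = true) :=
  tabs_of_chk (pgRigidAll 3276) ucchkC ucA rfl etabs etabs_chk

/-- the elements of the tables -/
noncomputable def eG : List Cov := elList etabs etabs_mem.1

theorem eG_rep : List.Forall₂ (RepS uclk 3276 Cov) (etabs.map Prod.fst) eG :=
  elList_rep etabs etabs_mem.1 etabs_mem.2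

/-- the table of index `i` -/
def eT (i : ℕ) : ℕ := (etabs.map Prod.fst).getD i ucId

/-- the element of index `i` -/
noncomputable def eE (i : ℕ) : Cov := eG.getD i 1

theorem eE_rep (i : ℕ) : RepS uclk 3276 Cov (eT i) (eE i) :=
  getD_rep ucId ucid_chk _ _ eG_rep i

theorem xG_rep0 : RepS uclk 3276 Cov ucT1x0 (xG 0) := by
  intro i
  show (((cG 0).perm 3276) i).1 = uclk ucT1x0 i.1
  rw [PFun.perm_apply (cG_ok 0)]
  rfl

theorem xG_rep1 : RepS uclk 3276 Cov ucT1x1 (xG 1) := by
  intro i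
  show (((cG 1).perm 3276) i).1 = uclk ucT1x1 i.1
  rw [PFun.perm_apply (cG_ok 1)]
  rfl

/-- the three central elements: indices in the list of tables -/
noncomputable def z4 : Cov := eE 5
noncomputable def z3a : Cov := eE 6
noncomputable def z3b : Cov := eE 7

theorem rX1 : RepS uclk 3276 Cov ucEX1 (eE 0) := eE_rep 0
theorem rY1 : RepS uclk 3276 Cov ucEY1 (eE 1) := eE_rep 1
theorem rX2 : RepS uclk 3276 Cov ucEX2 (eE 2) := eE_rep 2
theorem rX3 : RepS uclk 3276 Cov ucEX3 (eE 3) := eE_rep 3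
theorem rY3 : RepS uclk 3276 Cov ucEY3 (eE 4) := eE_rep 4
theorem rZ4 : RepS uclk 3276 Cov ucEZ4 z4 := eE_rep 5
theorem rZ3a : RepS uclk 3276 Cov ucEZ3a z3a := eE_rep 6
theorem rZ3b : RepS uclk 3276 Cov ucEZ3b z3b := eE_rep 7

theorem rep2 {a b : ℕ} {x y : Cov} (hx : RepS uclk 3276 Cov a x) (hy : RepS uclk 3276 Cov b y) :
    List.Forall₂ (RepS uclk 3276 Cov) [a, b] [x, y] :=
  List.Forall₂.cons hx (List.Forall₂.cons hy List.Forall₂.nil)

theorem rep3 {a b c : ℕ} {x y z : Cov} (hx : RepS uclk 3276 Cov a x)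
    (hy : RepS uclk 3276 Cov b y) (hz : RepS uclk 3276 Cov c z) :
    List.Forall₂ (RepS uclk 3276 Cov) [a, b, c] [x, y, z] :=
  List.Forall₂.cons hx (rep2 hy hz)

theorem comm_of_chk {a b c : ℕ} {x y z : Cov} (hx : RepS uclk 3276 Cov a x)
    (hy : RepS uclk 3276 Cov b y) (hz : RepS uclk 3276 Cov c z)
    (h : eqWW uclk 3276 [c, b, a] [a, b] = true) : z = ⁅x, y⁆ := by
  have e := eq_of_chk [c, b, a] [a, b] [z, y, x] [x, y] (rep3 hz hy hx) (rep2 hx hy) h
  simp only [List.prod_cons, List.prod_nil, mul_one] at e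
  rw [commutatorElement_def]
  calc z = z * (y * x) * (y * x)⁻¹ := by group
    _ = x * y * (y * x)⁻¹ := by rw [e]
    _ = x * y * x⁻¹ * y⁻¹ := by group

theorem z4_eq : z4 = ⁅eE 3, eE 4⁆ := comm_of_chk rX3 rY3 rZ4 commZ4_chk
theorem z3a_eq : z3a = ⁅eE 0, eE 1⁆ := comm_of_chk rX1 rY1 rZ3a commZ3a_chk
theorem z3b_eq : z3b = ⁅eE 2, eE 1⁆ := comm_of_chk rX2 rY1 rZ3b commZ3b_chk

theorem ker_of_chk {T : ℕ} {z : Cov} (hz : RepS uclk 3276 Cov T z)
    (h : allB 280 (fun p => Nat.beq (uclk T p) p) = true) : z ∈ sig.ker := by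
  rw [MonoidHom.mem_ker]
  apply Subtype.ext
  rw [sig_coe]
  apply Equiv.ext
  intro i
  apply Fin.ext
  show ((res (Subgroup.inclusion Cov_le_Stab z)) i).1 = i.1
  rw [res_apply]
  show ((z.1 (emb i))).1 = i.1
  rw [hz (emb i)]
  have := (allB_iff _ _).1 h i.1 i.2
  rw [Nat.beq_eq] at this
  exact this

theorem z4_ker : z4 ∈ sig.ker := ker_of_chk rZ4 kerZ4_chk
theorem z3a_ker : z3a ∈ sig.ker := ker_of_chk rZ3a kerZ3a_chk
theorem z3b_ker : z3b ∈ sig.ker := ker_of_chk rZ3b kerZ3b_chk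

theorem central_of_chk {T : ℕ} {z : Cov} (hz : RepS uclk 3276 Cov T z)
    (hA : eqWW uclk 3276 [T, ucT1x0] [ucT1x0, T] = true)
    (hB : eqWW uclk 3276 [T, ucT1x1] [ucT1x1, T] = true) : z ∈ Subgroup.center Cov := by
  have eA := eq_of_chk [T, ucT1x0] [ucT1x0, T] [z, xG 0] [xG 0, z] (rep2 hz xG_rep0)
    (rep2 xG_rep0 hz) hA
  have eB := eq_of_chk [T, ucT1x1] [ucT1x1, T] [z, xG 1] [xG 1, z] (rep2 hz xG_rep1)
    (rep2 xG_rep1 hz) hB
  simp only [List.prod_cons, List.prod_nil, mul_one] at eA eB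
  rw [Subgroup.mem_center_iff]
  intro g
  apply Subtype.ext
  show g.1 * z.1 = z.1 * g.1
  have hle : Cov ≤ Subgroup.centralizer {z.1} := by
    rw [closure_le]
    rintro _ ⟨P, hP, rfl⟩
    obtain ⟨k, hk, rfl⟩ := mem_own hP
    rw [SetLike.mem_coe, Subgroup.mem_centralizer_iff]
    intro w hw
    rw [Set.mem_singleton_iff] at hw
    subst hw
    interval_cases k
    · exact congrArg Subtype.val eA
    · exact congrArg Subtype.val eB
  have := Subgroup.mem_centralizer_iff.mp (hle g.2) z.1 rfl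
  exact this.symm

theorem z4_central : z4 ∈ Subgroup.center Cov := central_of_chk rZ4 cenAZ4_chk cenBZ4_chk
theorem z3a_central : z3a ∈ Subgroup.center Cov :=
  central_of_chk rZ3a cenAZ3a_chk cenBZ3a_chk
theorem z3b_central : z3b ∈ Subgroup.center Cov :=
  central_of_chk rZ3b cenAZ3b_chk cenBZ3b_chk

theorem z4_pow : z4 ^ 4 = 1 := by
  have e := eq_of_chk [ucEZ4, ucEZ4, ucEZ4, ucEZ4] [] [z4, z4, z4, z4] []
    (List.Forall₂.cons rZ4 (List.Forall₂.cons rZ4 (rep2 rZ4 rZ4)))
    List.Forall₂.nil powZ4_chk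
  simp only [List.prod_cons, List.prod_nil, mul_one] at e
  calc z4 ^ 4 = z4 * (z4 * (z4 * z4)) := by simp only [pow_succ, pow_zero, one_mul, mul_assoc]
    _ = 1 := e

theorem z3a_pow : z3a ^ 3 = 1 := by
  have e := eq_of_chk [ucEZ3a, ucEZ3a, ucEZ3a] [] [z3a, z3a, z3a] []
    (rep3 rZ3a rZ3a rZ3a) List.Forall₂.nil powZ3a_chk
  simp only [List.prod_cons, List.prod_nil, mul_one] at e
  calc z3a ^ 3 = z3a * (z3a * z3a) := by simp only [pow_succ, pow_zero, one_mul, mul_assoc]
    _ = 1 := e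

theorem z3b_pow : z3b ^ 3 = 1 := by
  have e := eq_of_chk [ucEZ3b, ucEZ3b, ucEZ3b] [] [z3b, z3b, z3b] []
    (rep3 rZ3b rZ3b rZ3b) List.Forall₂.nil powZ3b_chk
  simp only [List.prod_cons, List.prod_nil, mul_one] at e
  calc z3b ^ 3 = z3b * (z3b * z3b) := by simp only [pow_succ, pow_zero, one_mul, mul_assoc]
    _ = 1 := e

theorem el_val {T : ℕ} {z : Cov} (hz : RepS uclk 3276 Cov T z) (i j : ℕ) (hi : i < 3276)
    (hj : j < 3276) (h : uclk T i = j) : z.1 ⟨i, hi⟩ = ⟨j, hj⟩ := by
  apply Fin.ext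
  rw [hz ⟨i, hi⟩]
  exact h

theorem pow_fix {g : Equiv.Perm (Fin 3276)} {x : Fin 3276} (h : g x = x) (n : ℕ) :
    (g ^ n) x = x := Equiv.Perm.pow_apply_eq_self_of_apply_eq_self h n

theorem indep : ∀ a b c : ℕ, a < 4 → b < 3 → c < 3 → z4 ^ a * (z3a ^ b * z3b ^ c) = 1 →
    a = 0 ∧ b = 0 ∧ c = 0 := by
  intro a b c ha hb hc h
  obtain ⟨⟨e1, e2, e3⟩, ⟨e4, e5⟩, ⟨e6, e7⟩, e8, e9, e10⟩ := vals_chk
  have h' : z4.1 ^ a * (z3a.1 ^ b * z3b.1 ^ c) = 1 := by
    have := congrArg Subtype.val h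
    simpa using this
  have ha0 : a = 0 := by
    have f1 : z3a.1 ⟨280, by norm_num⟩ = ⟨280, by norm_num⟩ := el_val rZ3a 280 280 _ _ e4
    have f2 : z3b.1 ⟨280, by norm_num⟩ = ⟨280, by norm_num⟩ := el_val rZ3b 280 280 _ _ e5
    have g1 : z4.1 ⟨280, by norm_num⟩ = ⟨285, by norm_num⟩ := el_val rZ4 280 285 _ _ e1
    have g2 : z4.1 ⟨285, by norm_num⟩ = ⟨281, by norm_num⟩ := el_val rZ4 285 281 _ _ e2
    have g3 : z4.1 ⟨281, by norm_num⟩ = ⟨282, by norm_num⟩ := el_val rZ4 281 282 _ _ e3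
    have h1 := congrArg (fun g : Equiv.Perm (Fin 3276) => g ⟨280, by norm_num⟩) h'
    simp only [Equiv.Perm.mul_apply, Equiv.Perm.one_apply] at h1
    rw [pow_fix f2, pow_fix f1] at h1
    interval_cases a
    · rfl
    · rw [pow_one, g1] at h1
      exact absurd (congrArg Fin.val h1) (by norm_num)
    · rw [pow_two, Equiv.Perm.mul_apply, g1, g2] at h1
      exact absurd (congrArg Fin.val h1) (by norm_num)
    · rw [pow_succ, pow_two, Equiv.Perm.mul_apply, Equiv.Perm.mul_apply, g1, g2, g3] at h1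
      exact absurd (congrArg Fin.val h1) (by norm_num)
  subst ha0
  rw [pow_zero, one_mul] at h'
  have hb0 : b = 0 := by
    have f2 : z3b.1 ⟨2520, by norm_num⟩ = ⟨2520, by norm_num⟩ :=
      el_val rZ3b 2520 2520 _ _ e8
    have g1 : z3a.1 ⟨2520, by norm_num⟩ = ⟨2521, by norm_num⟩ :=
      el_val rZ3a 2520 2521 _ _ e6
    have g2 : z3a.1 ⟨2521, by norm_num⟩ = ⟨2522, by norm_num⟩ :=
      el_val rZ3a 2521 2522 _ _ e7
    have h1 := congrArg (fun g : Equiv.Perm (Fin 3276) => g ⟨2520, by norm_num⟩) h'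
    simp only [Equiv.Perm.mul_apply, Equiv.Perm.one_apply] at h1
    rw [pow_fix f2] at h1
    interval_cases b
    · rfl
    · rw [pow_one, g1] at h1
      exact absurd (congrArg Fin.val h1) (by norm_num)
    · rw [pow_two, Equiv.Perm.mul_apply, g1, g2] at h1
      exact absurd (congrArg Fin.val h1) (by norm_num)
  subst hb0
  rw [pow_zero, one_mul] at h'
  have hc0 : c = 0 := by
    have g1 : z3b.1 ⟨2898, by norm_num⟩ = ⟨2899, by norm_num⟩ :=
      el_val rZ3b 2898 2899 _ _ e9
    have g2 : z3b.1 ⟨2899, by norm_num⟩ = ⟨2900, by norm_num⟩ :=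
      el_val rZ3b 2899 2900 _ _ e10
    have h1 := congrArg (fun g : Equiv.Perm (Fin 3276) => g ⟨2898, by norm_num⟩) h'
    simp only [Equiv.Perm.one_apply] at h1
    interval_cases c
    · rfl
    · rw [pow_one, g1] at h1
      exact absurd (congrArg Fin.val h1) (by norm_num)
    · rw [pow_two, Equiv.Perm.mul_apply, g1, g2] at h1
      exact absurd (congrArg Fin.val h1) (by norm_num)
  exact ⟨rfl, rfl, hc0⟩

/-! ### the stem extension -/

theorem ker_struct :
    (∀ x ∈ sig.ker, ∃ a b c : ℕ, x = z4 ^ a * (z3a ^ b * z3b ^ c)) ∧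
    Nonempty (sig.ker ≃* Multiplicative (ZMod 4 × ZMod 3 × ZMod 3)) :=
  Cfsg.Agent.Lib.Helper5.Stem.ker_equiv_of_three sig 4 3 3 z4 z3a z3b z4_ker z3a_ker z3b_ker
    z4_central z3a_central z3b_central z4_pow z3a_pow z3b_pow indep (by rw [card_ker_sig])

theorem sig_stem : Cfsg.IsStemExtension sig := by
  refine ⟨sig_surj, ?_, ?_⟩
  · intro k hk
    obtain ⟨a, b, c, rfl⟩ := ker_struct.1 k hk
    exact mul_mem (pow_mem z4_central _) (mul_mem (pow_mem z3a_central _) (pow_mem z3b_central _))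
  · intro k hk
    obtain ⟨a, b, c, rfl⟩ := ker_struct.1 k hk
    have h4 : z4 ∈ commutator Cov := by
      rw [z4_eq, commutator_def]
      exact Subgroup.commutator_mem_commutator (Subgroup.mem_top _) (Subgroup.mem_top _)
    have ha : z3a ∈ commutator Cov := by
      rw [z3a_eq, commutator_def]
      exact Subgroup.commutator_mem_commutator (Subgroup.mem_top _) (Subgroup.mem_top _)
    have hb : z3b ∈ commutator Cov := by
      rw [z3b_eq, commutator_def]
      exact Subgroup.commutator_mem_commutator (Subgroup.mem_top _) (Subgroup.mem_top _)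
    exact mul_mem (pow_mem h4 _) (mul_mem (pow_mem ha _) (pow_mem hb _))

/-- the group on 280 points has a finite stem extension with kernel the product of cyclic groups of
orders four, three and three -/
theorem exists_stem_HG : ∃ (Γ : Type) (_ : Group Γ) (_ : Finite Γ) (σ : Γ →* HG),
    Cfsg.IsStemExtension σ ∧
      Nonempty (σ.ker ≃* Multiplicative (ZMod 4 × ZMod 3 × ZMod 3)) :=
  ⟨↥Cov, inferInstance, inferInstance, sig, sig_stem, ker_struct.2⟩

end Cfsg.Agent.Lib.Helper5.U43Cov
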