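import Mathlib
import Cfsg.Agent.Lib.Helper5.U43Chk3A
import Cfsg.Agent.Lib.Helper5.U43Chk3B
import Cfsg.Agent.Lib.Helper5.U43Chk3C
import Cfsg.Agent.Lib.Helper5.U43Chk2A
import Cfsg.Agent.Lib.Helper5.U43Chk2B
import Cfsg.Agent.Lib.Helper5.U43Chk2C
import Cfsg.Agent.Lib.Helper5.StemY
import Cfsg.Agent.Lib.Helper5.StemS
import Cfsg.Agent.Lib.Helper5.StemT
import Cfsg.Agent.Lib.helper23.U4B

set_option autoImplicit false
set_option maxRecDepth 1000000

/-! Kernels of stem extensions of the projective special unitary group of degree four over the field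
with nine elements (on 280 points) are quotients of the product of cyclic groups of orders four,
three and three. -/

namespace Cfsg.Agent.Lib.Helper5.U43M

open Cfsg Cfsg.Agent.Lib.helper23 Cfsg.Agent.Lib.Helper5.CP Cfsg.Agent.Lib.Helper5.PcT
open Cfsg.Agent.Lib.Helper5.PcP
open Cfsg.Agent.Lib.Helper5.Stem Cfsg.Agent.Lib.helper3
open Subgroup
open scoped commutatorElement

/-- the group on 280 points, as a type -/
abbrev HG : Type := ↥P280

theorem card_HG : Nat.card HG = 3265920 := P280_card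

instance HG_finite : Finite HG := Nat.finite_of_card_ne_zero (by rw [card_HG]; norm_num)

/-! ### the Sylow subgroups -/

theorem g3mem : (∀ t ∈ gtabs3, (mkP u4plk t).perm 280 ∈ pgGrpW 280 u4pC) ∧
    (∀ t ∈ gtabs3, (mkP u4plk t).ok 280 = true) :=
  tabs_of_chk (pgRigidAll 280) u4pchkC le_top rfl gtabs3 gtabs3_chk

theorem h3mem : (∀ t ∈ htabs3, (mkP u4plk t).perm 280 ∈ pgGrpW 280 u4pC) ∧
    (∀ t ∈ htabs3, (mkP u4plk t).ok 280 = true) :=
  tabs_of_chk (pgRigidAll 280) u4pchkC le_top rfl htabs3 htabs3_chk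

theorem g2mem : (∀ t ∈ gtabs2, (mkP u4plk t).perm 280 ∈ pgGrpW 280 u4pC) ∧
    (∀ t ∈ gtabs2, (mkP u4plk t).ok 280 = true) :=
  tabs_of_chk (pgRigidAll 280) u4pchkC le_top rfl gtabs2 gtabs2_chk

theorem h2mem : (∀ t ∈ htabs2, (mkP u4plk t).perm 280 ∈ pgGrpW 280 u4pC) ∧
    (∀ t ∈ htabs2, (mkP u4plk t).ok 280 = true) :=
  tabs_of_chk (pgRigidAll 280) u4pchkC le_top rfl htabs2 htabs2_chk

/-- the polycyclic generators of a Sylow `3`-subgroup -/
noncomputable def gG3 : List HG := elList gtabs3 g3mem.1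

/-- the conjugating elements for the prime `3` -/
noncomputable def hG3 : List HG := elList htabs3 h3mem.1

/-- the polycyclic generators of a Sylow `2`-subgroup -/
noncomputable def gG2 : List HG := elList gtabs2 g2mem.1

/-- the conjugating elements for the prime `2` -/
noncomputable def hG2 : List HG := elList htabs2 h2mem.1

theorem gG3_rep : List.Forall₂ (RepS u4plk 280 P280) (gtabs3.map Prod.fst) gG3 :=
  elList_rep gtabs3 g3mem.1 g3mem.2

theorem hG3_rep : List.Forall₂ (RepS u4plk 280 P280) (htabs3.map Prod.fst) hG3 :=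
  elList_rep htabs3 h3mem.1 h3mem.2

theorem gG2_rep : List.Forall₂ (RepS u4plk 280 P280) (gtabs2.map Prod.fst) gG2 :=
  elList_rep gtabs2 g2mem.1 g2mem.2

theorem hG2_rep : List.Forall₂ (RepS u4plk 280 P280) (htabs2.map Prod.fst) hG2 :=
  elList_rep htabs2 h2mem.1 h2mem.2

/-- the polycyclic generators as a function, for the prime `3` -/
noncomputable def g3 (i : ℕ) : HG := gG3.getD i 1

/-- the polycyclic generators as a function, for the prime `2` -/
noncomputable def g2 (i : ℕ) : HG := gG2.getD i 1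

/-- the first commuting pair -/
noncomputable def x₁ : HG := nfw g3 [0, 1]
noncomputable def y₁ : HG := nfw g3 [3]

/-- the second commuting pair (with the same second element) -/
noncomputable def x₂ : HG := nfw g3 [2, 4]

/-- the third commuting pair -/
noncomputable def x₃ : HG := nfw g2 [0, 1, 2, 4]
noncomputable def y₃ : HG := nfw g2 [3]

theorem word_eq3 (w v : List ℕ)
    (h : eqWW u4plk 280 (w.map fun i => (gtabs3.map Prod.fst).getD i Uid)
      (v.map fun i => (gtabs3.map Prod.fst).getD i Uid) = true) : nfw g3 w = nfw g3 v :=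
  eq_of_chk _ _ _ _ (word_rep Uid chk_id _ gG3 gG3_rep w) (word_rep Uid chk_id _ gG3 gG3_rep v) h

theorem word_eq2 (w v : List ℕ)
    (h : eqWW u4plk 280 (w.map fun i => (gtabs2.map Prod.fst).getD i Uid)
      (v.map fun i => (gtabs2.map Prod.fst).getD i Uid) = true) : nfw g2 w = nfw g2 v :=
  eq_of_chk _ _ _ _ (word_rep Uid chk_id _ gG2 gG2_rep w) (word_rep Uid chk_id _ gG2 gG2_rep v) h

theorem x₁_y₁ : x₁ * y₁ = y₁ * x₁ := by
  unfold x₁ y₁
  rw [← nfw_append, ← nfw_append]
  exact word_eq3 _ _ (by decide +kernel)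

theorem x₂_y₁ : x₂ * y₁ = y₁ * x₂ := by
  unfold x₂ y₁
  rw [← nfw_append, ← nfw_append]
  exact word_eq3 _ _ (by decide +kernel)

theorem x₃_y₃ : x₃ * y₃ = y₃ * x₃ := by
  unfold x₃ y₃
  rw [← nfw_append, ← nfw_append]
  exact word_eq2 _ _ (by decide +kernel)

theorem y₁_pow : y₁ ^ 3 = 1 := by
  have h : nfw g3 [3, 3, 3] = nfw g3 [] := word_eq3 _ _ (by decide +kernel)
  have e : nfw g3 [3, 3, 3] = y₁ ^ 3 := by
    unfold y₁
    simp only [nfw_cons, nfw_nil, mul_one, pow_succ, pow_zero, one_mul, mul_assoc]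
  rw [← e, h, nfw_nil]

theorem y₃_pow : y₃ ^ 4 = 1 := by
  have h : nfw g2 [3, 3, 3, 3] = nfw g2 [] := word_eq2 _ _ (by decide +kernel)
  have e : nfw g2 [3, 3, 3, 3] = y₃ ^ 4 := by
    unfold y₃
    simp only [nfw_cons, nfw_nil, mul_one, pow_succ, pow_zero, one_mul, mul_assoc]
  rw [← e, h, nfw_nil]

/-- in a stem extension with kernel of order three the two pairs do not both have commuting
lifts -/
theorem not_both_comm {Γ : Type*} [Group Γ] [Finite Γ] (σ : Γ →* HG)
    (hσ : Cfsg.IsStemExtension σ) (hcard : Nat.card σ.ker = 3) :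
    ¬ (QComm σ x₁ y₁ ∧ QComm σ x₂ y₁) := by
  rintro ⟨h1, h2⟩
  refine stem_card_ne_of_cert_chain Uid chk_id 3 Nat.prime_three (gtabs3.map Prod.fst) gG3
    gG3_rep (htabs3.map Prod.fst) hG3 hG3_rep 6 sqL3 cmL3 data3_ok
    (by unfold gG3; rw [elList_length]; decide)
    rels3_ok 400 conL3 pwL3 [] cmEL3 cmOL3 CC3 certs3 cert3_ok pw3_ok cm3_ok
    levels3 levels3_ok levels3_prod 3265920 card_HG (by norm_num) σ hσ (by simp) ?_ hcard
  intro q hq
  simp only [cmOL3, List.mem_cons, List.not_mem_nil, or_false] at hq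
  rcases hq with rfl | rfl
  · exact h1
  · exact h2

/-- in a stem extension with kernel of order two the third pair does not have commuting lifts -/
theorem not_comm_two {Γ : Type*} [Group Γ] [Finite Γ] (σ : Γ →* HG)
    (hσ : Cfsg.IsStemExtension σ) (hcard : Nat.card σ.ker = 2) : ¬ QComm σ x₃ y₃ := by
  intro h1
  refine stem_card_ne_of_cert_chain Uid chk_id 2 Nat.prime_two (gtabs2.map Prod.fst) gG2
    gG2_rep (htabs2.map Prod.fst) hG2 hG2_rep 7 sqL2 cmL2 data2_ok
    (by unfold gG2; rw [elList_length]; decide)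
    rels2_ok 400 conL2 pwL2 [] cmEL2 cmOL2 CC2 certs2 cert2_ok pw2_ok cm2_ok
    levels2 levels2_ok levels2_prod 3265920 card_HG (by norm_num) σ hσ (by simp) ?_ hcard
  intro q hq
  simp only [cmOL2, List.mem_cons, List.not_mem_nil, or_false] at hq
  subst hq
  exact h1

theorem card_one_of_all {Γ : Type*} [Group Γ] (K : Subgroup Γ) (hall : ∀ z ∈ K, z = 1) :
    Nat.card K = 1 := by
  rw [Nat.card_eq_one_iff_unique]
  refine ⟨⟨fun a b => ?_⟩, ⟨1⟩⟩
  apply Subtype.ext
  rw [hall a a.2, hall b b.2]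

/-- no stem extension has a kernel of prime order at least five -/
theorem no_stem_other (p : ℕ) (hpP : p.Prime) (hp2 : p ≠ 2) (hp3 : p ≠ 3) {Γ : Type*} [Group Γ]
    [Finite Γ] (σ : Γ →* HG) (hσ : Cfsg.IsStemExtension σ) : Nat.card σ.ker ≠ p := by
  intro hcardp
  obtain ⟨hsurj, hcen, hder⟩ := hσ
  have hcard := card_HG
  have : Fact p.Prime := ⟨hpP⟩
  obtain ⟨Rr⟩ : Nonempty (Sylow p HG) := inferInstance
  have hcyc : IsCyclic (Rr : Subgroup HG) := by
    obtain ⟨j, hj⟩ := IsPGroup.iff_card.mp Rr.2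
    have hdvd : p ^ j ∣ 3265920 := by
      rw [← hj, ← hcard]
      exact Subgroup.card_subgroup_dvd_card _
    have hj1 : j ≤ 1 := by
      by_contra hlt
      push Not at hlt
      have h2 : p ^ 2 ∣ 3265920 := dvd_trans (pow_dvd_pow p hlt) hdvd
      have e : (3265920 : ℕ) = 2 ^ 7 * 3 ^ 6 * 5 * 7 := by norm_num
      rw [e] at h2
      have hpd : p ∣ 2 ^ 7 * 3 ^ 6 * 5 * 7 :=
        dvd_trans (dvd_pow_self p (by norm_num)) h2
      have hcases : p = 2 ∨ p = 3 ∨ p = 5 ∨ p = 7 := by
        rcases (Nat.Prime.dvd_mul hpP).mp hpd with h | h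
        · rcases (Nat.Prime.dvd_mul hpP).mp h with h | h
          · rcases (Nat.Prime.dvd_mul hpP).mp h with h | h
            · left
              exact (Nat.prime_dvd_prime_iff_eq hpP Nat.prime_two).mp (hpP.dvd_of_dvd_pow h)
            · right; left
              exact (Nat.prime_dvd_prime_iff_eq hpP Nat.prime_three).mp
                (hpP.dvd_of_dvd_pow h)
          · right; right; left
            exact (Nat.prime_dvd_prime_iff_eq hpP (by norm_num)).mp h
        · right; right; right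
          exact (Nat.prime_dvd_prime_iff_eq hpP (by norm_num)).mp h
      rcases hcases with rfl | rfl | rfl | rfl
      · exact hp2 rfl
      · exact hp3 rfl
      · revert h2; norm_num
      · revert h2; norm_num
    interval_cases j
    · rw [pow_zero] at hj
      have : Subsingleton (Rr : Subgroup HG) :=
        (Nat.card_eq_one_iff_unique.mp hj).1
      exact isCyclic_of_subsingleton
    · rw [pow_one] at hj
      exact isCyclic_of_prime_card hj
  have hind : ¬ p ∣ (Rr : Subgroup HG).index := Sylow.not_dvd_index Rr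
  have hall : ∀ z ∈ σ.ker, z = 1 := by
    intro z hz
    have hzp : z ^ p = 1 := by
      have := pow_card_eq_one' (G := σ.ker) (x := ⟨z, hz⟩)
      rw [hcardp] at this
      exact congrArg Subtype.val this
    refine stem_no_prime_of_subgroup σ hsurj hcen hder (Rr : Subgroup HG) hind ?_
      hz hzp
    intro w hw _
    exact comm_comap_trivial_of_cyclic σ hcen (Rr : Subgroup HG) w hw
  have := card_one_of_all σ.ker hall
  rw [this] at hcardp
  exact hpP.one_lt.ne hcardp

/-- the kernel of every finite stem extension of the group on 280 points is a quotient of the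
product of cyclic groups of orders four, three and three -/
theorem hg_ker_quot {Γ : Type*} [Group Γ] [Finite Γ] (σ : Γ →* HG)
    (hσ : Cfsg.IsStemExtension σ) :
    ∃ π : Multiplicative (ZMod 4 × ZMod 3 × ZMod 3) →* σ.ker, Function.Surjective π := by
  refine ker_quot_of_noncomm_three 3 2 3 3 4 x₁ y₁ x₂ y₁ x₃ y₃ x₁_y₁ y₁_pow x₂_y₁ y₁_pow x₃_y₃
    y₃_pow ?_ ?_ ?_ σ hσ
  · intro p hp hp3 hp2 Γ' _ _ σ' hσ'
    exact no_stem_other p hp hp2 hp3 σ' hσ'
  · intro Γ' _ _ σ' hσ' hc
    exact not_both_comm σ' hσ' hc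
  · intro Γ' _ _ σ' hσ' hc
    exact not_comm_two σ' hσ' hc

end Cfsg.Agent.Lib.Helper5.U43M
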