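import Mathlib
import Cfsg.Agent.Lib.Helper5.U43E
import Cfsg.Agent.Lib.Helper5.U43CovMain
import Cfsg.Agent.Lib.Helper5.StemX
import Cfsg.Agent.Lib.helper23.SUTr
import Cfsg.Agent.Lib.helper23.U4B

set_option autoImplicit false

/-! The Schur multiplier of the projective special unitary group of degree four over a field with
nine elements is the product of cyclic groups of orders four, three and three. -/

namespace Cfsg.Agent.Lib.Helper5.U43M

open Cfsg Cfsg.Agent.Lib.Helper5.Stem Cfsg.Agent.Lib.helper23 Cfsg.Agent.Lib.Helper19.L27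

universe u

theorem u43_multiplier {F : Type u} [Field F] [Fintype F] (hF : Fintype.card F = 9) :
    Cfsg.HasSchurMultiplier (Cfsg.PSU 4 F 3) (Multiplicative (ZMod 4 × ZMod 3 × ZMod 3)) := by
  have hcard : Fintype.card F = Fintype.card F9 := by rw [hF, F9.card]
  let e : F ≃+* F9 := FiniteField.ringEquivOfCardEq hcard
  apply hasSchurMultiplier_of_equiv ((psuEquiv e 3).trans u4PsuEquiv)
  · exact Cfsg.Agent.Lib.Helper5.U43Cov.exists_stem_HG
  · intro Γ _ _ σ hσ
    exact hg_ker_quot σ hσ

end Cfsg.Agent.Lib.Helper5.U43M
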