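import Mathlib
import Cfsg.Agent.Lib.Helper5.PcPI
import Cfsg.Agent.Lib.Helper5.PcPH
import Cfsg.Agent.Lib.Helper5.PcPG
import Cfsg.Agent.Lib.Helper5.PcPJ
import Cfsg.Agent.Lib.Helper5.PcPK
import Cfsg.Agent.Lib.helper23.U6pChk
import Cfsg.Agent.Lib.Helper5.U62Data2
import Cfsg.Agent.Lib.Helper5.U62Data3

set_option autoImplicit false
set_option maxRecDepth 1000000
set_option Elab.async false

/-! Checks of the certificates for a Sylow 2-subgroup of the projective special unitary group of degree six over four elements on 693 points (generated). -/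

namespace Cfsg.Agent.Lib.Helper5.U62M

open Cfsg Cfsg.Agent.Lib.helper23 Cfsg.Agent.Lib.Helper5.CP Cfsg.Agent.Lib.Helper5.PcT Cfsg.Agent.Lib.Helper5.PcP
theorem gtabs2p0_chk : tabsChk u6plk 693 (List.range 693) u6pC gtabs2p0 = true := by decide +kernel

theorem gtabs2p1_chk : tabsChk u6plk 693 (List.range 693) u6pC gtabs2p1 = true := by decide +kernel

theorem gtabs2_chk : tabsChk u6plk 693 (List.range 693) u6pC gtabs2 = true :=
  tabsChk_append _ _ _ _ _ _ gtabs2p0_chk (gtabs2p1_chk)

theorem htabs2p0_chk : tabsChk u6plk 693 (List.range 693) u6pC htabs2p0 = true := by decide +kernel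

theorem htabs2_chk : tabsChk u6plk 693 (List.range 693) u6pC htabs2 = true :=
  htabs2p0_chk

end Cfsg.Agent.Lib.Helper5.U62M
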