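import Mathlib
import Cfsg.Agent.Lib.Helper5.PcPI
import Cfsg.Agent.Lib.Helper5.PcPH
import Cfsg.Agent.Lib.Helper5.PcPG
import Cfsg.Agent.Lib.Helper5.PcPJ
import Cfsg.Agent.Lib.Helper5.PcPK
import Cfsg.Agent.Lib.helper23.U6pChk
import Cfsg.Agent.Lib.Helper5.U62Data3

set_option autoImplicit false
set_option maxRecDepth 1000000
set_option Elab.async false

/-! Checks of the certificates for a Sylow 3-subgroup of the projective special unitary group of degree six over four elements on 693 points (generated). -/

namespace Cfsg.Agent.Lib.Helper5.U62M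

open Cfsg Cfsg.Agent.Lib.helper23 Cfsg.Agent.Lib.Helper5.CP Cfsg.Agent.Lib.Helper5.PcT Cfsg.Agent.Lib.Helper5.PcP
theorem chk_id : eqW u6plk 693 Uid [] = true := by decide +kernel

theorem gtabs3p0_chk : tabsChk u6plk 693 (List.range 693) u6pC gtabs3p0 = true := by decide +kernel

theorem gtabs3_chk : tabsChk u6plk 693 (List.range 693) u6pC gtabs3 = true :=
  gtabs3p0_chk

theorem htabs3p0_chk : tabsChk u6plk 693 (List.range 693) u6pC htabs3p0 = true := by decide +kernel

theorem htabs3_chk : tabsChk u6plk 693 (List.range 693) u6pC htabs3 = true :=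
  htabs3p0_chk

end Cfsg.Agent.Lib.Helper5.U62M
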