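import Mathlib
import Cfsg.Agent.Lib.Helper5.PcPI
import Cfsg.Agent.Lib.Helper5.PcPH
import Cfsg.Agent.Lib.Helper5.PcPG
import Cfsg.Agent.Lib.Helper5.PcPJ
import Cfsg.Agent.Lib.Helper5.PcPK
import Cfsg.Agent.Lib.helper23.U6pChk
import Cfsg.Agent.Lib.Helper5.U62Data3

set_option autoImplicit false
set_option maxRecDepth 1000000
set_option Elab.async false

/-! Checks of the certificates for a Sylow 3-subgroup of the projective special unitary group of degree six over four elements on 693 points (generated). -/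

namespace Cfsg.Agent.Lib.Helper5.U62M

open Cfsg Cfsg.Agent.Lib.helper23 Cfsg.Agent.Lib.Helper5.CP Cfsg.Agent.Lib.Helper5.PcT Cfsg.Agent.Lib.Helper5.PcP
theorem zv3_ok : (zformsP 3 (PcD.ofLists 6 sqL3 cmL3) 400 conL3
    (mkRel 3 (pwL3.map Prod.fst) [] (cmEL3.map Prod.fst) cmOL3)).map vecOf = ZV3 := by decide +kernel

theorem cert3_ok : certOKP 3 (PcD.ofLists 6 sqL3 cmL3) CC3
    (zformsP 3 (PcD.ofLists 6 sqL3 cmL3) 400 conL3
      (mkRel 3 (pwL3.map Prod.fst) [] (cmEL3.map Prod.fst) cmOL3)) certs3 = true := by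
  apply certOKP_of_certOKV
  unfold certOKV
  rw [zv3_ok]
  decide +kernel

theorem pwL3p0_ok : pwChk u6plk 693 Uid 3 (gtabs3.map Prod.fst) (htabs3.map Prod.fst) pwL3p0 = true := by
  decide +kernel

theorem pw3_ok : pwChk u6plk 693 Uid 3 (gtabs3.map Prod.fst) (htabs3.map Prod.fst) pwL3 = true :=
  pwL3p0_ok

theorem cmEL3p0_ok : cmChk u6plk 693 Uid (gtabs3.map Prod.fst) (htabs3.map Prod.fst) cmEL3p0 = true := by
  decide +kernel

theorem cm3_ok : cmChk u6plk 693 Uid (gtabs3.map Prod.fst) (htabs3.map Prod.fst) cmEL3 = true :=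
  cmEL3p0_ok

theorem levels3_ok : chainChk u6plk 693 Uid (gtabs3.map Prod.fst) [] levels3 = true := by
  decide +kernel

theorem levels3_prod : chainProd levels3 = 3 ^ 6 := by decide +kernel

end Cfsg.Agent.Lib.Helper5.U62M
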