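import Cfsg.Agent.Lib.Helper5.U62CovData
import Cfsg.Agent.Lib.helper23.PgX
import Cfsg.Agent.Lib.helper23.PgH

set_option autoImplicit false
set_option maxRecDepth 1000000
set_option Elab.async false

/-! the covering group of the unitary group of degree six over four elements, on 8404 points: the checks of the stabiliser chain (generated), part 1. -/

namespace Cfsg.Agent.Lib.Helper5.U62Cov

open Cfsg.Agent.Lib.helper23 Subgroup MulAction
theorem wccl10x0c0 : pgChkGenW 8404 (List.range 8404) wcL10 []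
    (wcgen wcT10x0 wcI10x0) 0 8404 = true := by
  decide +kernel

theorem wccl10x1c0 : pgChkGenW 8404 (List.range 8404) wcL10 []
    (wcgen wcT10x1 wcI10x1) 0 8404 = true := by
  decide +kernel

theorem wccl9x0c0 : pgChkGenW 8404 (List.range 8404) wcL9 [wcL10]
    (wcgen wcT9x0 wcI9x0) 0 8404 = true := by
  decide +kernel

theorem wccl9x1c0 : pgChkGenW 8404 (List.range 8404) wcL9 [wcL10]
    (wcgen wcT9x1 wcI9x1) 0 8404 = true := by
  decide +kernel

theorem wccl8x0c0 : pgChkGenW 8404 (List.range 8404) wcL8 [wcL9, wcL10]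
    (wcgen wcT8x0 wcI8x0) 0 8404 = true := by
  decide +kernel

theorem wccl8x1c0 : pgChkGenW 8404 (List.range 8404) wcL8 [wcL9, wcL10]
    (wcgen wcT8x1 wcI8x1) 0 8404 = true := by
  decide +kernel

theorem wccl7x0c0 : pgChkGenW 8404 (List.range 8404) wcL7 [wcL8, wcL9, wcL10]
    (wcgen wcT7x0 wcI7x0) 0 8404 = true := by
  decide +kernel

theorem wccl7x1c0 : pgChkGenW 8404 (List.range 8404) wcL7 [wcL8, wcL9, wcL10]
    (wcgen wcT7x1 wcI7x1) 0 8404 = true := by
  decide +kernel

theorem wccl7x2c0 : pgChkGenW 8404 (List.range 8404) wcL7 [wcL8, wcL9, wcL10]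
    (wcgen wcT7x2 wcI7x2) 0 8404 = true := by
  decide +kernel

theorem wccl6x0c0 : pgChkGenW 8404 (List.range 8404) wcL6 [wcL7, wcL8, wcL9, wcL10]
    (wcgen wcT6x0 wcI6x0) 0 8404 = true := by
  decide +kernel

theorem wccl6x1c0 : pgChkGenW 8404 (List.range 8404) wcL6 [wcL7, wcL8, wcL9, wcL10]
    (wcgen wcT6x1 wcI6x1) 0 8404 = true := by
  decide +kernel

theorem wccl6x2c0 : pgChkGenW 8404 (List.range 8404) wcL6 [wcL7, wcL8, wcL9, wcL10]
    (wcgen wcT6x2 wcI6x2) 0 8404 = true := by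
  decide +kernel

end Cfsg.Agent.Lib.Helper5.U62Cov
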