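import Cfsg.Agent.Lib.Helper5.U62CovData
import Cfsg.Agent.Lib.helper23.PgX
import Cfsg.Agent.Lib.helper23.PgH

set_option autoImplicit false
set_option maxRecDepth 1000000
set_option Elab.async false

/-! the covering group of the unitary group of degree six over four elements, on 8404 points: the checks of the stabiliser chain (generated), part 14. -/

namespace Cfsg.Agent.Lib.Helper5.U62Cov

open Cfsg.Agent.Lib.helper23 Subgroup MulAction
theorem wccl4x3c0s0 : pgChkGenW 8404 (List.range 8404) wcL4 [wcL5, wcL6, wcL7, wcL8, wcL9, wcL10]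
    (wcgen wcT4x3 wcI4x3) 0 252 = true := by
  decide +kernel

theorem wccl4x3c0s1 : pgChkGenW 8404 (List.range 8404) wcL4 [wcL5, wcL6, wcL7, wcL8, wcL9, wcL10]
    (wcgen wcT4x3 wcI4x3) 252 46 = true := by
  decide +kernel

theorem wccl4x3c0 : pgChkGenW 8404 (List.range 8404) wcL4 [wcL5, wcL6, wcL7, wcL8, wcL9, wcL10]
    (wcgen wcT4x3 wcI4x3) 0 298 = true :=
  pgChkGenW_append (lo := 0) (c1 := 252) (c2 := 46) (wccl4x3c0s0) wccl4x3c0s1

theorem wccl4x3c298s0 : pgChkGenW 8404 (List.range 8404) wcL4 [wcL5, wcL6, wcL7, wcL8, wcL9, wcL10]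
    (wcgen wcT4x3 wcI4x3) 298 95 = true := by
  decide +kernel

theorem wccl4x3c298s1 : pgChkGenW 8404 (List.range 8404) wcL4 [wcL5, wcL6, wcL7, wcL8, wcL9, wcL10]
    (wcgen wcT4x3 wcI4x3) 393 46 = true := by
  decide +kernel

theorem wccl4x3c298 : pgChkGenW 8404 (List.range 8404) wcL4 [wcL5, wcL6, wcL7, wcL8, wcL9, wcL10]
    (wcgen wcT4x3 wcI4x3) 298 141 = true :=
  pgChkGenW_append (lo := 298) (c1 := 95) (c2 := 46) (wccl4x3c298s0) wccl4x3c298s1

theorem wccl4x3c439s0 : pgChkGenW 8404 (List.range 8404) wcL4 [wcL5, wcL6, wcL7, wcL8, wcL9, wcL10]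
    (wcgen wcT4x3 wcI4x3) 439 61 = true := by
  decide +kernel

theorem wccl4x3c439s1 : pgChkGenW 8404 (List.range 8404) wcL4 [wcL5, wcL6, wcL7, wcL8, wcL9, wcL10]
    (wcgen wcT4x3 wcI4x3) 500 72 = true := by
  decide +kernel

theorem wccl4x3c439 : pgChkGenW 8404 (List.range 8404) wcL4 [wcL5, wcL6, wcL7, wcL8, wcL9, wcL10]
    (wcgen wcT4x3 wcI4x3) 439 133 = true :=
  pgChkGenW_append (lo := 439) (c1 := 61) (c2 := 72) (wccl4x3c439s0) wccl4x3c439s1

theorem wccl4x3c572s0 : pgChkGenW 8404 (List.range 8404) wcL4 [wcL5, wcL6, wcL7, wcL8, wcL9, wcL10]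
    (wcgen wcT4x3 wcI4x3) 572 74 = true := by
  decide +kernel

theorem wccl4x3c572s1 : pgChkGenW 8404 (List.range 8404) wcL4 [wcL5, wcL6, wcL7, wcL8, wcL9, wcL10]
    (wcgen wcT4x3 wcI4x3) 646 46 = true := by
  decide +kernel

theorem wccl4x3c572 : pgChkGenW 8404 (List.range 8404) wcL4 [wcL5, wcL6, wcL7, wcL8, wcL9, wcL10]
    (wcgen wcT4x3 wcI4x3) 572 120 = true :=
  pgChkGenW_append (lo := 572) (c1 := 74) (c2 := 46) (wccl4x3c572s0) wccl4x3c572s1

theorem wccl4x3c692 : pgChkGenW 8404 (List.range 8404) wcL4 [wcL5, wcL6, wcL7, wcL8, wcL9, wcL10]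
    (wcgen wcT4x3 wcI4x3) 692 7712 = true := by
  decide +kernel

end Cfsg.Agent.Lib.Helper5.U62Cov
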