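import Cfsg.Agent.Lib.Helper5.U62CovData
import Cfsg.Agent.Lib.helper23.PgX
import Cfsg.Agent.Lib.helper23.PgH

set_option autoImplicit false
set_option maxRecDepth 1000000
set_option Elab.async false

/-! the covering group of the unitary group of degree six over four elements, on 8404 points: the checks of the stabiliser chain (generated), part 15. -/

namespace Cfsg.Agent.Lib.Helper5.U62Cov

open Cfsg.Agent.Lib.helper23 Subgroup MulAction
theorem wccl3x0c0 : pgChkGenW 8404 (List.range 8404) wcL3 [wcL4, wcL5, wcL6, wcL7, wcL8, wcL9, wcL10]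
    (wcgen wcT3x0 wcI3x0) 0 8404 = true := by
  decide +kernel

theorem wccl3x1c0 : pgChkGenW 8404 (List.range 8404) wcL3 [wcL4, wcL5, wcL6, wcL7, wcL8, wcL9, wcL10]
    (wcgen wcT3x1 wcI3x1) 0 8404 = true := by
  decide +kernel

theorem wccl2x0c0s0 : pgChkGenW 8404 (List.range 8404) wcL2 [wcL3, wcL4, wcL5, wcL6, wcL7, wcL8, wcL9, wcL10]
    (wcgen wcT2x0 wcI2x0) 0 28 = true := by
  decide +kernel

theorem wccl2x0c0s1 : pgChkGenW 8404 (List.range 8404) wcL2 [wcL3, wcL4, wcL5, wcL6, wcL7, wcL8, wcL9, wcL10]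
    (wcgen wcT2x0 wcI2x0) 28 16 = true := by
  decide +kernel

theorem wccl2x0c0 : pgChkGenW 8404 (List.range 8404) wcL2 [wcL3, wcL4, wcL5, wcL6, wcL7, wcL8, wcL9, wcL10]
    (wcgen wcT2x0 wcI2x0) 0 44 = true :=
  pgChkGenW_append (lo := 0) (c1 := 28) (c2 := 16) (wccl2x0c0s0) wccl2x0c0s1

theorem wccl2x0c44s0 : pgChkGenW 8404 (List.range 8404) wcL2 [wcL3, wcL4, wcL5, wcL6, wcL7, wcL8, wcL9, wcL10]
    (wcgen wcT2x0 wcI2x0) 44 24 = true := by
  decide +kernel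

theorem wccl2x0c44s1 : pgChkGenW 8404 (List.range 8404) wcL2 [wcL3, wcL4, wcL5, wcL6, wcL7, wcL8, wcL9, wcL10]
    (wcgen wcT2x0 wcI2x0) 68 28 = true := by
  decide +kernel

theorem wccl2x0c44 : pgChkGenW 8404 (List.range 8404) wcL2 [wcL3, wcL4, wcL5, wcL6, wcL7, wcL8, wcL9, wcL10]
    (wcgen wcT2x0 wcI2x0) 44 52 = true :=
  pgChkGenW_append (lo := 44) (c1 := 24) (c2 := 28) (wccl2x0c44s0) wccl2x0c44s1

theorem wccl2x0c96s0 : pgChkGenW 8404 (List.range 8404) wcL2 [wcL3, wcL4, wcL5, wcL6, wcL7, wcL8, wcL9, wcL10]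
    (wcgen wcT2x0 wcI2x0) 96 36 = true := by
  decide +kernel

theorem wccl2x0c96s1 : pgChkGenW 8404 (List.range 8404) wcL2 [wcL3, wcL4, wcL5, wcL6, wcL7, wcL8, wcL9, wcL10]
    (wcgen wcT2x0 wcI2x0) 132 26 = true := by
  decide +kernel

theorem wccl2x0c96 : pgChkGenW 8404 (List.range 8404) wcL2 [wcL3, wcL4, wcL5, wcL6, wcL7, wcL8, wcL9, wcL10]
    (wcgen wcT2x0 wcI2x0) 96 62 = true :=
  pgChkGenW_append (lo := 96) (c1 := 36) (c2 := 26) (wccl2x0c96s0) wccl2x0c96s1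

end Cfsg.Agent.Lib.Helper5.U62Cov
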