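import Cfsg.Agent.Lib.Helper5.U62CovData
import Cfsg.Agent.Lib.helper23.PgX
import Cfsg.Agent.Lib.helper23.PgH

set_option autoImplicit false
set_option maxRecDepth 1000000
set_option Elab.async false

/-! the covering group of the unitary group of degree six over four elements, on 8404 points: the checks of the stabiliser chain (generated), part 16. -/

namespace Cfsg.Agent.Lib.Helper5.U62Cov

open Cfsg.Agent.Lib.helper23 Subgroup MulAction
theorem wccl2x0c158s0 : pgChkGenW 8404 (List.range 8404) wcL2 [wcL3, wcL4, wcL5, wcL6, wcL7, wcL8, wcL9, wcL10]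
    (wcgen wcT2x0 wcI2x0) 158 30 = true := by
  decide +kernel

theorem wccl2x0c158s1 : pgChkGenW 8404 (List.range 8404) wcL2 [wcL3, wcL4, wcL5, wcL6, wcL7, wcL8, wcL9, wcL10]
    (wcgen wcT2x0 wcI2x0) 188 32 = true := by
  decide +kernel

theorem wccl2x0c158 : pgChkGenW 8404 (List.range 8404) wcL2 [wcL3, wcL4, wcL5, wcL6, wcL7, wcL8, wcL9, wcL10]
    (wcgen wcT2x0 wcI2x0) 158 62 = true :=
  pgChkGenW_append (lo := 158) (c1 := 30) (c2 := 32) (wccl2x0c158s0) wccl2x0c158s1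

theorem wccl2x0c220s0 : pgChkGenW 8404 (List.range 8404) wcL2 [wcL3, wcL4, wcL5, wcL6, wcL7, wcL8, wcL9, wcL10]
    (wcgen wcT2x0 wcI2x0) 220 21 = true := by
  decide +kernel

theorem wccl2x0c220s1 : pgChkGenW 8404 (List.range 8404) wcL2 [wcL3, wcL4, wcL5, wcL6, wcL7, wcL8, wcL9, wcL10]
    (wcgen wcT2x0 wcI2x0) 241 22 = true := by
  decide +kernel

theorem wccl2x0c220 : pgChkGenW 8404 (List.range 8404) wcL2 [wcL3, wcL4, wcL5, wcL6, wcL7, wcL8, wcL9, wcL10]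
    (wcgen wcT2x0 wcI2x0) 220 43 = true :=
  pgChkGenW_append (lo := 220) (c1 := 21) (c2 := 22) (wccl2x0c220s0) wccl2x0c220s1

theorem wccl2x0c263s0 : pgChkGenW 8404 (List.range 8404) wcL2 [wcL3, wcL4, wcL5, wcL6, wcL7, wcL8, wcL9, wcL10]
    (wcgen wcT2x0 wcI2x0) 263 19 = true := by
  decide +kernel

theorem wccl2x0c263s1 : pgChkGenW 8404 (List.range 8404) wcL2 [wcL3, wcL4, wcL5, wcL6, wcL7, wcL8, wcL9, wcL10]
    (wcgen wcT2x0 wcI2x0) 282 16 = true := by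
  decide +kernel

theorem wccl2x0c263 : pgChkGenW 8404 (List.range 8404) wcL2 [wcL3, wcL4, wcL5, wcL6, wcL7, wcL8, wcL9, wcL10]
    (wcgen wcT2x0 wcI2x0) 263 35 = true :=
  pgChkGenW_append (lo := 263) (c1 := 19) (c2 := 16) (wccl2x0c263s0) wccl2x0c263s1

theorem wccl2x0c298s0 : pgChkGenW 8404 (List.range 8404) wcL2 [wcL3, wcL4, wcL5, wcL6, wcL7, wcL8, wcL9, wcL10]
    (wcgen wcT2x0 wcI2x0) 298 26 = true := by
  decide +kernel

theorem wccl2x0c298s1 : pgChkGenW 8404 (List.range 8404) wcL2 [wcL3, wcL4, wcL5, wcL6, wcL7, wcL8, wcL9, wcL10]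
    (wcgen wcT2x0 wcI2x0) 324 16 = true := by
  decide +kernel

theorem wccl2x0c298 : pgChkGenW 8404 (List.range 8404) wcL2 [wcL3, wcL4, wcL5, wcL6, wcL7, wcL8, wcL9, wcL10]
    (wcgen wcT2x0 wcI2x0) 298 42 = true :=
  pgChkGenW_append (lo := 298) (c1 := 26) (c2 := 16) (wccl2x0c298s0) wccl2x0c298s1

end Cfsg.Agent.Lib.Helper5.U62Cov
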