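import Cfsg.Agent.Lib.Helper5.U62CovData
import Cfsg.Agent.Lib.helper23.PgX
import Cfsg.Agent.Lib.helper23.PgH

set_option autoImplicit false
set_option maxRecDepth 1000000
set_option Elab.async false

/-! the covering group of the unitary group of degree six over four elements, on 8404 points: the checks of the stabiliser chain (generated), part 20. -/

namespace Cfsg.Agent.Lib.Helper5.U62Cov

open Cfsg.Agent.Lib.helper23 Subgroup MulAction
theorem wccl2x1c220s0 : pgChkGenW 8404 (List.range 8404) wcL2 [wcL3, wcL4, wcL5, wcL6, wcL7, wcL8, wcL9, wcL10]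
    (wcgen wcT2x1 wcI2x1) 220 21 = true := by
  decide +kernel

theorem wccl2x1c220s1 : pgChkGenW 8404 (List.range 8404) wcL2 [wcL3, wcL4, wcL5, wcL6, wcL7, wcL8, wcL9, wcL10]
    (wcgen wcT2x1 wcI2x1) 241 22 = true := by
  decide +kernel

theorem wccl2x1c220 : pgChkGenW 8404 (List.range 8404) wcL2 [wcL3, wcL4, wcL5, wcL6, wcL7, wcL8, wcL9, wcL10]
    (wcgen wcT2x1 wcI2x1) 220 43 = true :=
  pgChkGenW_append (lo := 220) (c1 := 21) (c2 := 22) (wccl2x1c220s0) wccl2x1c220s1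

theorem wccl2x1c263s0 : pgChkGenW 8404 (List.range 8404) wcL2 [wcL3, wcL4, wcL5, wcL6, wcL7, wcL8, wcL9, wcL10]
    (wcgen wcT2x1 wcI2x1) 263 19 = true := by
  decide +kernel

theorem wccl2x1c263s1 : pgChkGenW 8404 (List.range 8404) wcL2 [wcL3, wcL4, wcL5, wcL6, wcL7, wcL8, wcL9, wcL10]
    (wcgen wcT2x1 wcI2x1) 282 16 = true := by
  decide +kernel

theorem wccl2x1c263 : pgChkGenW 8404 (List.range 8404) wcL2 [wcL3, wcL4, wcL5, wcL6, wcL7, wcL8, wcL9, wcL10]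
    (wcgen wcT2x1 wcI2x1) 263 35 = true :=
  pgChkGenW_append (lo := 263) (c1 := 19) (c2 := 16) (wccl2x1c263s0) wccl2x1c263s1

theorem wccl2x1c298s0 : pgChkGenW 8404 (List.range 8404) wcL2 [wcL3, wcL4, wcL5, wcL6, wcL7, wcL8, wcL9, wcL10]
    (wcgen wcT2x1 wcI2x1) 298 26 = true := by
  decide +kernel

theorem wccl2x1c298s1 : pgChkGenW 8404 (List.range 8404) wcL2 [wcL3, wcL4, wcL5, wcL6, wcL7, wcL8, wcL9, wcL10]
    (wcgen wcT2x1 wcI2x1) 324 16 = true := by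
  decide +kernel

theorem wccl2x1c298 : pgChkGenW 8404 (List.range 8404) wcL2 [wcL3, wcL4, wcL5, wcL6, wcL7, wcL8, wcL9, wcL10]
    (wcgen wcT2x1 wcI2x1) 298 42 = true :=
  pgChkGenW_append (lo := 298) (c1 := 26) (c2 := 16) (wccl2x1c298s0) wccl2x1c298s1

theorem wccl2x1c340s0 : pgChkGenW 8404 (List.range 8404) wcL2 [wcL3, wcL4, wcL5, wcL6, wcL7, wcL8, wcL9, wcL10]
    (wcgen wcT2x1 wcI2x1) 340 24 = true := by
  decide +kernel

theorem wccl2x1c340s1 : pgChkGenW 8404 (List.range 8404) wcL2 [wcL3, wcL4, wcL5, wcL6, wcL7, wcL8, wcL9, wcL10]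
    (wcgen wcT2x1 wcI2x1) 364 32 = true := by
  decide +kernel

theorem wccl2x1c340 : pgChkGenW 8404 (List.range 8404) wcL2 [wcL3, wcL4, wcL5, wcL6, wcL7, wcL8, wcL9, wcL10]
    (wcgen wcT2x1 wcI2x1) 340 56 = true :=
  pgChkGenW_append (lo := 340) (c1 := 24) (c2 := 32) (wccl2x1c340s0) wccl2x1c340s1

end Cfsg.Agent.Lib.Helper5.U62Cov
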