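import Cfsg.Agent.Lib.Helper5.U62CovData
import Cfsg.Agent.Lib.helper23.PgX
import Cfsg.Agent.Lib.helper23.PgH

set_option autoImplicit false
set_option maxRecDepth 1000000
set_option Elab.async false

/-! the covering group of the unitary group of degree six over four elements, on 8404 points: the checks of the stabiliser chain (generated), part 23. -/

namespace Cfsg.Agent.Lib.Helper5.U62Cov

open Cfsg.Agent.Lib.helper23 Subgroup MulAction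
theorem wccl1x0c0s0 : pgChkGenW 8404 (List.range 8404) wcL1 [wcL2, wcL3, wcL4, wcL5, wcL6, wcL7, wcL8, wcL9, wcL10]
    (wcgen wcT1x0 wcI1x0) 0 4 = true := by
  decide +kernel

theorem wccl1x0c0s1 : pgChkGenW 8404 (List.range 8404) wcL1 [wcL2, wcL3, wcL4, wcL5, wcL6, wcL7, wcL8, wcL9, wcL10]
    (wcgen wcT1x0 wcI1x0) 4 4 = true := by
  decide +kernel

theorem wccl1x0c0s2 : pgChkGenW 8404 (List.range 8404) wcL1 [wcL2, wcL3, wcL4, wcL5, wcL6, wcL7, wcL8, wcL9, wcL10]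
    (wcgen wcT1x0 wcI1x0) 8 4 = true := by
  decide +kernel

theorem wccl1x0c0 : pgChkGenW 8404 (List.range 8404) wcL1 [wcL2, wcL3, wcL4, wcL5, wcL6, wcL7, wcL8, wcL9, wcL10]
    (wcgen wcT1x0 wcI1x0) 0 12 = true :=
  pgChkGenW_append (lo := 0) (c1 := 8) (c2 := 4) (pgChkGenW_append (lo := 0) (c1 := 4) (c2 := 4) (wccl1x0c0s0) wccl1x0c0s1) wccl1x0c0s2

theorem wccl1x0c12s0 : pgChkGenW 8404 (List.range 8404) wcL1 [wcL2, wcL3, wcL4, wcL5, wcL6, wcL7, wcL8, wcL9, wcL10]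
    (wcgen wcT1x0 wcI1x0) 12 4 = true := by
  decide +kernel

theorem wccl1x0c12s1 : pgChkGenW 8404 (List.range 8404) wcL1 [wcL2, wcL3, wcL4, wcL5, wcL6, wcL7, wcL8, wcL9, wcL10]
    (wcgen wcT1x0 wcI1x0) 16 4 = true := by
  decide +kernel

theorem wccl1x0c12s2 : pgChkGenW 8404 (List.range 8404) wcL1 [wcL2, wcL3, wcL4, wcL5, wcL6, wcL7, wcL8, wcL9, wcL10]
    (wcgen wcT1x0 wcI1x0) 20 4 = true := by
  decide +kernel

theorem wccl1x0c12 : pgChkGenW 8404 (List.range 8404) wcL1 [wcL2, wcL3, wcL4, wcL5, wcL6, wcL7, wcL8, wcL9, wcL10]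
    (wcgen wcT1x0 wcI1x0) 12 12 = true :=
  pgChkGenW_append (lo := 12) (c1 := 8) (c2 := 4) (pgChkGenW_append (lo := 12) (c1 := 4) (c2 := 4) (wccl1x0c12s0) wccl1x0c12s1) wccl1x0c12s2

theorem wccl1x0c24s0 : pgChkGenW 8404 (List.range 8404) wcL1 [wcL2, wcL3, wcL4, wcL5, wcL6, wcL7, wcL8, wcL9, wcL10]
    (wcgen wcT1x0 wcI1x0) 24 4 = true := by
  decide +kernel

theorem wccl1x0c24s1 : pgChkGenW 8404 (List.range 8404) wcL1 [wcL2, wcL3, wcL4, wcL5, wcL6, wcL7, wcL8, wcL9, wcL10]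
    (wcgen wcT1x0 wcI1x0) 28 4 = true := by
  decide +kernel

theorem wccl1x0c24s2 : pgChkGenW 8404 (List.range 8404) wcL1 [wcL2, wcL3, wcL4, wcL5, wcL6, wcL7, wcL8, wcL9, wcL10]
    (wcgen wcT1x0 wcI1x0) 32 4 = true := by
  decide +kernel

theorem wccl1x0c24 : pgChkGenW 8404 (List.range 8404) wcL1 [wcL2, wcL3, wcL4, wcL5, wcL6, wcL7, wcL8, wcL9, wcL10]
    (wcgen wcT1x0 wcI1x0) 24 12 = true :=
  pgChkGenW_append (lo := 24) (c1 := 8) (c2 := 4) (pgChkGenW_append (lo := 24) (c1 := 4) (c2 := 4) (wccl1x0c24s0) wccl1x0c24s1) wccl1x0c24s2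

theorem wccl1x0c36s0 : pgChkGenW 8404 (List.range 8404) wcL1 [wcL2, wcL3, wcL4, wcL5, wcL6, wcL7, wcL8, wcL9, wcL10]
    (wcgen wcT1x0 wcI1x0) 36 4 = true := by
  decide +kernel

theorem wccl1x0c36s1 : pgChkGenW 8404 (List.range 8404) wcL1 [wcL2, wcL3, wcL4, wcL5, wcL6, wcL7, wcL8, wcL9, wcL10]
    (wcgen wcT1x0 wcI1x0) 40 4 = true := by
  decide +kernel

theorem wccl1x0c36s2 : pgChkGenW 8404 (List.range 8404) wcL1 [wcL2, wcL3, wcL4, wcL5, wcL6, wcL7, wcL8, wcL9, wcL10]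
    (wcgen wcT1x0 wcI1x0) 44 4 = true := by
  decide +kernel

theorem wccl1x0c36 : pgChkGenW 8404 (List.range 8404) wcL1 [wcL2, wcL3, wcL4, wcL5, wcL6, wcL7, wcL8, wcL9, wcL10]
    (wcgen wcT1x0 wcI1x0) 36 12 = true :=
  pgChkGenW_append (lo := 36) (c1 := 8) (c2 := 4) (pgChkGenW_append (lo := 36) (c1 := 4) (c2 := 4) (wccl1x0c36s0) wccl1x0c36s1) wccl1x0c36s2

end Cfsg.Agent.Lib.Helper5.U62Cov
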