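import Cfsg.Agent.Lib.Helper5.U62CovData
import Cfsg.Agent.Lib.helper23.PgX
import Cfsg.Agent.Lib.helper23.PgH

set_option autoImplicit false
set_option maxRecDepth 1000000
set_option Elab.async false

/-! the covering group of the unitary group of degree six over four elements, on 8404 points: the checks of the stabiliser chain (generated), part 24. -/

namespace Cfsg.Agent.Lib.Helper5.U62Cov

open Cfsg.Agent.Lib.helper23 Subgroup MulAction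
theorem wccl1x0c48s0 : pgChkGenW 8404 (List.range 8404) wcL1 [wcL2, wcL3, wcL4, wcL5, wcL6, wcL7, wcL8, wcL9, wcL10]
    (wcgen wcT1x0 wcI1x0) 48 2 = true := by
  decide +kernel

theorem wccl1x0c48s1 : pgChkGenW 8404 (List.range 8404) wcL1 [wcL2, wcL3, wcL4, wcL5, wcL6, wcL7, wcL8, wcL9, wcL10]
    (wcgen wcT1x0 wcI1x0) 50 2 = true := by
  decide +kernel

theorem wccl1x0c48s2 : pgChkGenW 8404 (List.range 8404) wcL1 [wcL2, wcL3, wcL4, wcL5, wcL6, wcL7, wcL8, wcL9, wcL10]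
    (wcgen wcT1x0 wcI1x0) 52 2 = true := by
  decide +kernel

theorem wccl1x0c48s3 : pgChkGenW 8404 (List.range 8404) wcL1 [wcL2, wcL3, wcL4, wcL5, wcL6, wcL7, wcL8, wcL9, wcL10]
    (wcgen wcT1x0 wcI1x0) 54 2 = true := by
  decide +kernel

theorem wccl1x0c48s4 : pgChkGenW 8404 (List.range 8404) wcL1 [wcL2, wcL3, wcL4, wcL5, wcL6, wcL7, wcL8, wcL9, wcL10]
    (wcgen wcT1x0 wcI1x0) 56 2 = true := by
  decide +kernel

theorem wccl1x0c48s5 : pgChkGenW 8404 (List.range 8404) wcL1 [wcL2, wcL3, wcL4, wcL5, wcL6, wcL7, wcL8, wcL9, wcL10]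
    (wcgen wcT1x0 wcI1x0) 58 2 = true := by
  decide +kernel

theorem wccl1x0c48 : pgChkGenW 8404 (List.range 8404) wcL1 [wcL2, wcL3, wcL4, wcL5, wcL6, wcL7, wcL8, wcL9, wcL10]
    (wcgen wcT1x0 wcI1x0) 48 12 = true :=
  pgChkGenW_append (lo := 48) (c1 := 10) (c2 := 2) (pgChkGenW_append (lo := 48) (c1 := 8) (c2 := 2) (pgChkGenW_append (lo := 48) (c1 := 6) (c2 := 2) (pgChkGenW_append (lo := 48) (c1 := 4) (c2 := 2) (pgChkGenW_append (lo := 48) (c1 := 2) (c2 := 2) (wccl1x0c48s0) wccl1x0c48s1) wccl1x0c48s2) wccl1x0c48s3) wccl1x0c48s4) wccl1x0c48s5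

theorem wccl1x0c60s0 : pgChkGenW 8404 (List.range 8404) wcL1 [wcL2, wcL3, wcL4, wcL5, wcL6, wcL7, wcL8, wcL9, wcL10]
    (wcgen wcT1x0 wcI1x0) 60 2 = true := by
  decide +kernel

theorem wccl1x0c60s1 : pgChkGenW 8404 (List.range 8404) wcL1 [wcL2, wcL3, wcL4, wcL5, wcL6, wcL7, wcL8, wcL9, wcL10]
    (wcgen wcT1x0 wcI1x0) 62 2 = true := by
  decide +kernel

theorem wccl1x0c60s2 : pgChkGenW 8404 (List.range 8404) wcL1 [wcL2, wcL3, wcL4, wcL5, wcL6, wcL7, wcL8, wcL9, wcL10]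
    (wcgen wcT1x0 wcI1x0) 64 2 = true := by
  decide +kernel

theorem wccl1x0c60s3 : pgChkGenW 8404 (List.range 8404) wcL1 [wcL2, wcL3, wcL4, wcL5, wcL6, wcL7, wcL8, wcL9, wcL10]
    (wcgen wcT1x0 wcI1x0) 66 2 = true := by
  decide +kernel

theorem wccl1x0c60s4 : pgChkGenW 8404 (List.range 8404) wcL1 [wcL2, wcL3, wcL4, wcL5, wcL6, wcL7, wcL8, wcL9, wcL10]
    (wcgen wcT1x0 wcI1x0) 68 2 = true := by
  decide +kernel

theorem wccl1x0c60s5 : pgChkGenW 8404 (List.range 8404) wcL1 [wcL2, wcL3, wcL4, wcL5, wcL6, wcL7, wcL8, wcL9, wcL10]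
    (wcgen wcT1x0 wcI1x0) 70 2 = true := by
  decide +kernel

theorem wccl1x0c60 : pgChkGenW 8404 (List.range 8404) wcL1 [wcL2, wcL3, wcL4, wcL5, wcL6, wcL7, wcL8, wcL9, wcL10]
    (wcgen wcT1x0 wcI1x0) 60 12 = true :=
  pgChkGenW_append (lo := 60) (c1 := 10) (c2 := 2) (pgChkGenW_append (lo := 60) (c1 := 8) (c2 := 2) (pgChkGenW_append (lo := 60) (c1 := 6) (c2 := 2) (pgChkGenW_append (lo := 60) (c1 := 4) (c2 := 2) (pgChkGenW_append (lo := 60) (c1 := 2) (c2 := 2) (wccl1x0c60s0) wccl1x0c60s1) wccl1x0c60s2) wccl1x0c60s3) wccl1x0c60s4) wccl1x0c60s5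

theorem wccl1x0c72s0 : pgChkGenW 8404 (List.range 8404) wcL1 [wcL2, wcL3, wcL4, wcL5, wcL6, wcL7, wcL8, wcL9, wcL10]
    (wcgen wcT1x0 wcI1x0) 72 2 = true := by
  decide +kernel

theorem wccl1x0c72s1 : pgChkGenW 8404 (List.range 8404) wcL1 [wcL2, wcL3, wcL4, wcL5, wcL6, wcL7, wcL8, wcL9, wcL10]
    (wcgen wcT1x0 wcI1x0) 74 2 = true := by
  decide +kernel

theorem wccl1x0c72s2 : pgChkGenW 8404 (List.range 8404) wcL1 [wcL2, wcL3, wcL4, wcL5, wcL6, wcL7, wcL8, wcL9, wcL10]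
    (wcgen wcT1x0 wcI1x0) 76 2 = true := by
  decide +kernel

theorem wccl1x0c72s3 : pgChkGenW 8404 (List.range 8404) wcL1 [wcL2, wcL3, wcL4, wcL5, wcL6, wcL7, wcL8, wcL9, wcL10]
    (wcgen wcT1x0 wcI1x0) 78 2 = true := by
  decide +kernel

theorem wccl1x0c72s4 : pgChkGenW 8404 (List.range 8404) wcL1 [wcL2, wcL3, wcL4, wcL5, wcL6, wcL7, wcL8, wcL9, wcL10]
    (wcgen wcT1x0 wcI1x0) 80 2 = true := by
  decide +kernel

theorem wccl1x0c72s5 : pgChkGenW 8404 (List.range 8404) wcL1 [wcL2, wcL3, wcL4, wcL5, wcL6, wcL7, wcL8, wcL9, wcL10]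
    (wcgen wcT1x0 wcI1x0) 82 2 = true := by
  decide +kernel

theorem wccl1x0c72 : pgChkGenW 8404 (List.range 8404) wcL1 [wcL2, wcL3, wcL4, wcL5, wcL6, wcL7, wcL8, wcL9, wcL10]
    (wcgen wcT1x0 wcI1x0) 72 12 = true :=
  pgChkGenW_append (lo := 72) (c1 := 10) (c2 := 2) (pgChkGenW_append (lo := 72) (c1 := 8) (c2 := 2) (pgChkGenW_append (lo := 72) (c1 := 6) (c2 := 2) (pgChkGenW_append (lo := 72) (c1 := 4) (c2 := 2) (pgChkGenW_append (lo := 72) (c1 := 2) (c2 := 2) (wccl1x0c72s0) wccl1x0c72s1) wccl1x0c72s2) wccl1x0c72s3) wccl1x0c72s4) wccl1x0c72s5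

theorem wccl1x0c84s0 : pgChkGenW 8404 (List.range 8404) wcL1 [wcL2, wcL3, wcL4, wcL5, wcL6, wcL7, wcL8, wcL9, wcL10]
    (wcgen wcT1x0 wcI1x0) 84 2 = true := by
  decide +kernel

theorem wccl1x0c84s1 : pgChkGenW 8404 (List.range 8404) wcL1 [wcL2, wcL3, wcL4, wcL5, wcL6, wcL7, wcL8, wcL9, wcL10]
    (wcgen wcT1x0 wcI1x0) 86 2 = true := by
  decide +kernel

theorem wccl1x0c84s2 : pgChkGenW 8404 (List.range 8404) wcL1 [wcL2, wcL3, wcL4, wcL5, wcL6, wcL7, wcL8, wcL9, wcL10]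
    (wcgen wcT1x0 wcI1x0) 88 2 = true := by
  decide +kernel

theorem wccl1x0c84s3 : pgChkGenW 8404 (List.range 8404) wcL1 [wcL2, wcL3, wcL4, wcL5, wcL6, wcL7, wcL8, wcL9, wcL10]
    (wcgen wcT1x0 wcI1x0) 90 2 = true := by
  decide +kernel

theorem wccl1x0c84s4 : pgChkGenW 8404 (List.range 8404) wcL1 [wcL2, wcL3, wcL4, wcL5, wcL6, wcL7, wcL8, wcL9, wcL10]
    (wcgen wcT1x0 wcI1x0) 92 2 = true := by
  decide +kernel

theorem wccl1x0c84s5 : pgChkGenW 8404 (List.range 8404) wcL1 [wcL2, wcL3, wcL4, wcL5, wcL6, wcL7, wcL8, wcL9, wcL10]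
    (wcgen wcT1x0 wcI1x0) 94 2 = true := by
  decide +kernel

theorem wccl1x0c84 : pgChkGenW 8404 (List.range 8404) wcL1 [wcL2, wcL3, wcL4, wcL5, wcL6, wcL7, wcL8, wcL9, wcL10]
    (wcgen wcT1x0 wcI1x0) 84 12 = true :=
  pgChkGenW_append (lo := 84) (c1 := 10) (c2 := 2) (pgChkGenW_append (lo := 84) (c1 := 8) (c2 := 2) (pgChkGenW_append (lo := 84) (c1 := 6) (c2 := 2) (pgChkGenW_append (lo := 84) (c1 := 4) (c2 := 2) (pgChkGenW_append (lo := 84) (c1 := 2) (c2 := 2) (wccl1x0c84s0) wccl1x0c84s1) wccl1x0c84s2) wccl1x0c84s3) wccl1x0c84s4) wccl1x0c84s5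

end Cfsg.Agent.Lib.Helper5.U62Cov
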