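import Cfsg.Agent.Lib.Helper5.U62CovData
import Cfsg.Agent.Lib.helper23.PgX
import Cfsg.Agent.Lib.helper23.PgH

set_option autoImplicit false
set_option maxRecDepth 1000000
set_option Elab.async false

/-! the covering group of the unitary group of degree six over four elements, on 8404 points: the checks of the stabiliser chain (generated), part 26. -/

namespace Cfsg.Agent.Lib.Helper5.U62Cov

open Cfsg.Agent.Lib.helper23 Subgroup MulAction
theorem wccl1x0c144s0 : pgChkGenW 8404 (List.range 8404) wcL1 [wcL2, wcL3, wcL4, wcL5, wcL6, wcL7, wcL8, wcL9, wcL10]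
    (wcgen wcT1x0 wcI1x0) 144 2 = true := by
  decide +kernel

theorem wccl1x0c144s1 : pgChkGenW 8404 (List.range 8404) wcL1 [wcL2, wcL3, wcL4, wcL5, wcL6, wcL7, wcL8, wcL9, wcL10]
    (wcgen wcT1x0 wcI1x0) 146 2 = true := by
  decide +kernel

theorem wccl1x0c144s2 : pgChkGenW 8404 (List.range 8404) wcL1 [wcL2, wcL3, wcL4, wcL5, wcL6, wcL7, wcL8, wcL9, wcL10]
    (wcgen wcT1x0 wcI1x0) 148 2 = true := by
  decide +kernel

theorem wccl1x0c144s3 : pgChkGenW 8404 (List.range 8404) wcL1 [wcL2, wcL3, wcL4, wcL5, wcL6, wcL7, wcL8, wcL9, wcL10]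
    (wcgen wcT1x0 wcI1x0) 150 2 = true := by
  decide +kernel

theorem wccl1x0c144s4 : pgChkGenW 8404 (List.range 8404) wcL1 [wcL2, wcL3, wcL4, wcL5, wcL6, wcL7, wcL8, wcL9, wcL10]
    (wcgen wcT1x0 wcI1x0) 152 2 = true := by
  decide +kernel

theorem wccl1x0c144s5 : pgChkGenW 8404 (List.range 8404) wcL1 [wcL2, wcL3, wcL4, wcL5, wcL6, wcL7, wcL8, wcL9, wcL10]
    (wcgen wcT1x0 wcI1x0) 154 2 = true := by
  decide +kernel

theorem wccl1x0c144 : pgChkGenW 8404 (List.range 8404) wcL1 [wcL2, wcL3, wcL4, wcL5, wcL6, wcL7, wcL8, wcL9, wcL10]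
    (wcgen wcT1x0 wcI1x0) 144 12 = true :=
  pgChkGenW_append (lo := 144) (c1 := 10) (c2 := 2) (pgChkGenW_append (lo := 144) (c1 := 8) (c2 := 2) (pgChkGenW_append (lo := 144) (c1 := 6) (c2 := 2) (pgChkGenW_append (lo := 144) (c1 := 4) (c2 := 2) (pgChkGenW_append (lo := 144) (c1 := 2) (c2 := 2) (wccl1x0c144s0) wccl1x0c144s1) wccl1x0c144s2) wccl1x0c144s3) wccl1x0c144s4) wccl1x0c144s5

theorem wccl1x0c156s0 : pgChkGenW 8404 (List.range 8404) wcL1 [wcL2, wcL3, wcL4, wcL5, wcL6, wcL7, wcL8, wcL9, wcL10]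
    (wcgen wcT1x0 wcI1x0) 156 2 = true := by
  decide +kernel

theorem wccl1x0c156s1 : pgChkGenW 8404 (List.range 8404) wcL1 [wcL2, wcL3, wcL4, wcL5, wcL6, wcL7, wcL8, wcL9, wcL10]
    (wcgen wcT1x0 wcI1x0) 158 2 = true := by
  decide +kernel

theorem wccl1x0c156s2 : pgChkGenW 8404 (List.range 8404) wcL1 [wcL2, wcL3, wcL4, wcL5, wcL6, wcL7, wcL8, wcL9, wcL10]
    (wcgen wcT1x0 wcI1x0) 160 2 = true := by
  decide +kernel

theorem wccl1x0c156s3 : pgChkGenW 8404 (List.range 8404) wcL1 [wcL2, wcL3, wcL4, wcL5, wcL6, wcL7, wcL8, wcL9, wcL10]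
    (wcgen wcT1x0 wcI1x0) 162 2 = true := by
  decide +kernel

theorem wccl1x0c156s4 : pgChkGenW 8404 (List.range 8404) wcL1 [wcL2, wcL3, wcL4, wcL5, wcL6, wcL7, wcL8, wcL9, wcL10]
    (wcgen wcT1x0 wcI1x0) 164 2 = true := by
  decide +kernel

theorem wccl1x0c156s5 : pgChkGenW 8404 (List.range 8404) wcL1 [wcL2, wcL3, wcL4, wcL5, wcL6, wcL7, wcL8, wcL9, wcL10]
    (wcgen wcT1x0 wcI1x0) 166 2 = true := by
  decide +kernel

theorem wccl1x0c156 : pgChkGenW 8404 (List.range 8404) wcL1 [wcL2, wcL3, wcL4, wcL5, wcL6, wcL7, wcL8, wcL9, wcL10]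
    (wcgen wcT1x0 wcI1x0) 156 12 = true :=
  pgChkGenW_append (lo := 156) (c1 := 10) (c2 := 2) (pgChkGenW_append (lo := 156) (c1 := 8) (c2 := 2) (pgChkGenW_append (lo := 156) (c1 := 6) (c2 := 2) (pgChkGenW_append (lo := 156) (c1 := 4) (c2 := 2) (pgChkGenW_append (lo := 156) (c1 := 2) (c2 := 2) (wccl1x0c156s0) wccl1x0c156s1) wccl1x0c156s2) wccl1x0c156s3) wccl1x0c156s4) wccl1x0c156s5

theorem wccl1x0c168s0 : pgChkGenW 8404 (List.range 8404) wcL1 [wcL2, wcL3, wcL4, wcL5, wcL6, wcL7, wcL8, wcL9, wcL10]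
    (wcgen wcT1x0 wcI1x0) 168 2 = true := by
  decide +kernel

theorem wccl1x0c168s1 : pgChkGenW 8404 (List.range 8404) wcL1 [wcL2, wcL3, wcL4, wcL5, wcL6, wcL7, wcL8, wcL9, wcL10]
    (wcgen wcT1x0 wcI1x0) 170 2 = true := by
  decide +kernel

theorem wccl1x0c168s2 : pgChkGenW 8404 (List.range 8404) wcL1 [wcL2, wcL3, wcL4, wcL5, wcL6, wcL7, wcL8, wcL9, wcL10]
    (wcgen wcT1x0 wcI1x0) 172 2 = true := by
  decide +kernel

theorem wccl1x0c168s3 : pgChkGenW 8404 (List.range 8404) wcL1 [wcL2, wcL3, wcL4, wcL5, wcL6, wcL7, wcL8, wcL9, wcL10]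
    (wcgen wcT1x0 wcI1x0) 174 2 = true := by
  decide +kernel

theorem wccl1x0c168s4 : pgChkGenW 8404 (List.range 8404) wcL1 [wcL2, wcL3, wcL4, wcL5, wcL6, wcL7, wcL8, wcL9, wcL10]
    (wcgen wcT1x0 wcI1x0) 176 2 = true := by
  decide +kernel

theorem wccl1x0c168s5 : pgChkGenW 8404 (List.range 8404) wcL1 [wcL2, wcL3, wcL4, wcL5, wcL6, wcL7, wcL8, wcL9, wcL10]
    (wcgen wcT1x0 wcI1x0) 178 2 = true := by
  decide +kernel

theorem wccl1x0c168 : pgChkGenW 8404 (List.range 8404) wcL1 [wcL2, wcL3, wcL4, wcL5, wcL6, wcL7, wcL8, wcL9, wcL10]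
    (wcgen wcT1x0 wcI1x0) 168 12 = true :=
  pgChkGenW_append (lo := 168) (c1 := 10) (c2 := 2) (pgChkGenW_append (lo := 168) (c1 := 8) (c2 := 2) (pgChkGenW_append (lo := 168) (c1 := 6) (c2 := 2) (pgChkGenW_append (lo := 168) (c1 := 4) (c2 := 2) (pgChkGenW_append (lo := 168) (c1 := 2) (c2 := 2) (wccl1x0c168s0) wccl1x0c168s1) wccl1x0c168s2) wccl1x0c168s3) wccl1x0c168s4) wccl1x0c168s5

theorem wccl1x0c180s0 : pgChkGenW 8404 (List.range 8404) wcL1 [wcL2, wcL3, wcL4, wcL5, wcL6, wcL7, wcL8, wcL9, wcL10]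
    (wcgen wcT1x0 wcI1x0) 180 2 = true := by
  decide +kernel

theorem wccl1x0c180s1 : pgChkGenW 8404 (List.range 8404) wcL1 [wcL2, wcL3, wcL4, wcL5, wcL6, wcL7, wcL8, wcL9, wcL10]
    (wcgen wcT1x0 wcI1x0) 182 2 = true := by
  decide +kernel

theorem wccl1x0c180s2 : pgChkGenW 8404 (List.range 8404) wcL1 [wcL2, wcL3, wcL4, wcL5, wcL6, wcL7, wcL8, wcL9, wcL10]
    (wcgen wcT1x0 wcI1x0) 184 2 = true := by
  decide +kernel

theorem wccl1x0c180s3 : pgChkGenW 8404 (List.range 8404) wcL1 [wcL2, wcL3, wcL4, wcL5, wcL6, wcL7, wcL8, wcL9, wcL10]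
    (wcgen wcT1x0 wcI1x0) 186 2 = true := by
  decide +kernel

theorem wccl1x0c180s4 : pgChkGenW 8404 (List.range 8404) wcL1 [wcL2, wcL3, wcL4, wcL5, wcL6, wcL7, wcL8, wcL9, wcL10]
    (wcgen wcT1x0 wcI1x0) 188 2 = true := by
  decide +kernel

theorem wccl1x0c180s5 : pgChkGenW 8404 (List.range 8404) wcL1 [wcL2, wcL3, wcL4, wcL5, wcL6, wcL7, wcL8, wcL9, wcL10]
    (wcgen wcT1x0 wcI1x0) 190 2 = true := by
  decide +kernel

theorem wccl1x0c180 : pgChkGenW 8404 (List.range 8404) wcL1 [wcL2, wcL3, wcL4, wcL5, wcL6, wcL7, wcL8, wcL9, wcL10]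
    (wcgen wcT1x0 wcI1x0) 180 12 = true :=
  pgChkGenW_append (lo := 180) (c1 := 10) (c2 := 2) (pgChkGenW_append (lo := 180) (c1 := 8) (c2 := 2) (pgChkGenW_append (lo := 180) (c1 := 6) (c2 := 2) (pgChkGenW_append (lo := 180) (c1 := 4) (c2 := 2) (pgChkGenW_append (lo := 180) (c1 := 2) (c2 := 2) (wccl1x0c180s0) wccl1x0c180s1) wccl1x0c180s2) wccl1x0c180s3) wccl1x0c180s4) wccl1x0c180s5

end Cfsg.Agent.Lib.Helper5.U62Cov
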