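import Cfsg.Agent.Lib.Helper5.U62CovData
import Cfsg.Agent.Lib.helper23.PgX
import Cfsg.Agent.Lib.helper23.PgH

set_option autoImplicit false
set_option maxRecDepth 1000000
set_option Elab.async false

/-! the covering group of the unitary group of degree six over four elements, on 8404 points: the checks of the stabiliser chain (generated), part 27. -/

namespace Cfsg.Agent.Lib.Helper5.U62Cov

open Cfsg.Agent.Lib.helper23 Subgroup MulAction
theorem wccl1x0c192s0 : pgChkGenW 8404 (List.range 8404) wcL1 [wcL2, wcL3, wcL4, wcL5, wcL6, wcL7, wcL8, wcL9, wcL10]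
    (wcgen wcT1x0 wcI1x0) 192 2 = true := by
  decide +kernel

theorem wccl1x0c192s1 : pgChkGenW 8404 (List.range 8404) wcL1 [wcL2, wcL3, wcL4, wcL5, wcL6, wcL7, wcL8, wcL9, wcL10]
    (wcgen wcT1x0 wcI1x0) 194 2 = true := by
  decide +kernel

theorem wccl1x0c192s2 : pgChkGenW 8404 (List.range 8404) wcL1 [wcL2, wcL3, wcL4, wcL5, wcL6, wcL7, wcL8, wcL9, wcL10]
    (wcgen wcT1x0 wcI1x0) 196 2 = true := by
  decide +kernel

theorem wccl1x0c192s3 : pgChkGenW 8404 (List.range 8404) wcL1 [wcL2, wcL3, wcL4, wcL5, wcL6, wcL7, wcL8, wcL9, wcL10]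
    (wcgen wcT1x0 wcI1x0) 198 2 = true := by
  decide +kernel

theorem wccl1x0c192s4 : pgChkGenW 8404 (List.range 8404) wcL1 [wcL2, wcL3, wcL4, wcL5, wcL6, wcL7, wcL8, wcL9, wcL10]
    (wcgen wcT1x0 wcI1x0) 200 2 = true := by
  decide +kernel

theorem wccl1x0c192s5 : pgChkGenW 8404 (List.range 8404) wcL1 [wcL2, wcL3, wcL4, wcL5, wcL6, wcL7, wcL8, wcL9, wcL10]
    (wcgen wcT1x0 wcI1x0) 202 2 = true := by
  decide +kernel

theorem wccl1x0c192 : pgChkGenW 8404 (List.range 8404) wcL1 [wcL2, wcL3, wcL4, wcL5, wcL6, wcL7, wcL8, wcL9, wcL10]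
    (wcgen wcT1x0 wcI1x0) 192 12 = true :=
  pgChkGenW_append (lo := 192) (c1 := 10) (c2 := 2) (pgChkGenW_append (lo := 192) (c1 := 8) (c2 := 2) (pgChkGenW_append (lo := 192) (c1 := 6) (c2 := 2) (pgChkGenW_append (lo := 192) (c1 := 4) (c2 := 2) (pgChkGenW_append (lo := 192) (c1 := 2) (c2 := 2) (wccl1x0c192s0) wccl1x0c192s1) wccl1x0c192s2) wccl1x0c192s3) wccl1x0c192s4) wccl1x0c192s5

theorem wccl1x0c204s0 : pgChkGenW 8404 (List.range 8404) wcL1 [wcL2, wcL3, wcL4, wcL5, wcL6, wcL7, wcL8, wcL9, wcL10]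
    (wcgen wcT1x0 wcI1x0) 204 2 = true := by
  decide +kernel

theorem wccl1x0c204s1 : pgChkGenW 8404 (List.range 8404) wcL1 [wcL2, wcL3, wcL4, wcL5, wcL6, wcL7, wcL8, wcL9, wcL10]
    (wcgen wcT1x0 wcI1x0) 206 2 = true := by
  decide +kernel

theorem wccl1x0c204s2 : pgChkGenW 8404 (List.range 8404) wcL1 [wcL2, wcL3, wcL4, wcL5, wcL6, wcL7, wcL8, wcL9, wcL10]
    (wcgen wcT1x0 wcI1x0) 208 2 = true := by
  decide +kernel

theorem wccl1x0c204s3 : pgChkGenW 8404 (List.range 8404) wcL1 [wcL2, wcL3, wcL4, wcL5, wcL6, wcL7, wcL8, wcL9, wcL10]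
    (wcgen wcT1x0 wcI1x0) 210 2 = true := by
  decide +kernel

theorem wccl1x0c204s4 : pgChkGenW 8404 (List.range 8404) wcL1 [wcL2, wcL3, wcL4, wcL5, wcL6, wcL7, wcL8, wcL9, wcL10]
    (wcgen wcT1x0 wcI1x0) 212 2 = true := by
  decide +kernel

theorem wccl1x0c204s5 : pgChkGenW 8404 (List.range 8404) wcL1 [wcL2, wcL3, wcL4, wcL5, wcL6, wcL7, wcL8, wcL9, wcL10]
    (wcgen wcT1x0 wcI1x0) 214 2 = true := by
  decide +kernel

theorem wccl1x0c204 : pgChkGenW 8404 (List.range 8404) wcL1 [wcL2, wcL3, wcL4, wcL5, wcL6, wcL7, wcL8, wcL9, wcL10]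
    (wcgen wcT1x0 wcI1x0) 204 12 = true :=
  pgChkGenW_append (lo := 204) (c1 := 10) (c2 := 2) (pgChkGenW_append (lo := 204) (c1 := 8) (c2 := 2) (pgChkGenW_append (lo := 204) (c1 := 6) (c2 := 2) (pgChkGenW_append (lo := 204) (c1 := 4) (c2 := 2) (pgChkGenW_append (lo := 204) (c1 := 2) (c2 := 2) (wccl1x0c204s0) wccl1x0c204s1) wccl1x0c204s2) wccl1x0c204s3) wccl1x0c204s4) wccl1x0c204s5

theorem wccl1x0c216s0 : pgChkGenW 8404 (List.range 8404) wcL1 [wcL2, wcL3, wcL4, wcL5, wcL6, wcL7, wcL8, wcL9, wcL10]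
    (wcgen wcT1x0 wcI1x0) 216 2 = true := by
  decide +kernel

theorem wccl1x0c216s1 : pgChkGenW 8404 (List.range 8404) wcL1 [wcL2, wcL3, wcL4, wcL5, wcL6, wcL7, wcL8, wcL9, wcL10]
    (wcgen wcT1x0 wcI1x0) 218 2 = true := by
  decide +kernel

theorem wccl1x0c216s2 : pgChkGenW 8404 (List.range 8404) wcL1 [wcL2, wcL3, wcL4, wcL5, wcL6, wcL7, wcL8, wcL9, wcL10]
    (wcgen wcT1x0 wcI1x0) 220 2 = true := by
  decide +kernel

theorem wccl1x0c216s3 : pgChkGenW 8404 (List.range 8404) wcL1 [wcL2, wcL3, wcL4, wcL5, wcL6, wcL7, wcL8, wcL9, wcL10]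
    (wcgen wcT1x0 wcI1x0) 222 2 = true := by
  decide +kernel

theorem wccl1x0c216s4 : pgChkGenW 8404 (List.range 8404) wcL1 [wcL2, wcL3, wcL4, wcL5, wcL6, wcL7, wcL8, wcL9, wcL10]
    (wcgen wcT1x0 wcI1x0) 224 2 = true := by
  decide +kernel

theorem wccl1x0c216s5 : pgChkGenW 8404 (List.range 8404) wcL1 [wcL2, wcL3, wcL4, wcL5, wcL6, wcL7, wcL8, wcL9, wcL10]
    (wcgen wcT1x0 wcI1x0) 226 2 = true := by
  decide +kernel

theorem wccl1x0c216 : pgChkGenW 8404 (List.range 8404) wcL1 [wcL2, wcL3, wcL4, wcL5, wcL6, wcL7, wcL8, wcL9, wcL10]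
    (wcgen wcT1x0 wcI1x0) 216 12 = true :=
  pgChkGenW_append (lo := 216) (c1 := 10) (c2 := 2) (pgChkGenW_append (lo := 216) (c1 := 8) (c2 := 2) (pgChkGenW_append (lo := 216) (c1 := 6) (c2 := 2) (pgChkGenW_append (lo := 216) (c1 := 4) (c2 := 2) (pgChkGenW_append (lo := 216) (c1 := 2) (c2 := 2) (wccl1x0c216s0) wccl1x0c216s1) wccl1x0c216s2) wccl1x0c216s3) wccl1x0c216s4) wccl1x0c216s5

theorem wccl1x0c228s0 : pgChkGenW 8404 (List.range 8404) wcL1 [wcL2, wcL3, wcL4, wcL5, wcL6, wcL7, wcL8, wcL9, wcL10]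
    (wcgen wcT1x0 wcI1x0) 228 2 = true := by
  decide +kernel

theorem wccl1x0c228s1 : pgChkGenW 8404 (List.range 8404) wcL1 [wcL2, wcL3, wcL4, wcL5, wcL6, wcL7, wcL8, wcL9, wcL10]
    (wcgen wcT1x0 wcI1x0) 230 2 = true := by
  decide +kernel

theorem wccl1x0c228s2 : pgChkGenW 8404 (List.range 8404) wcL1 [wcL2, wcL3, wcL4, wcL5, wcL6, wcL7, wcL8, wcL9, wcL10]
    (wcgen wcT1x0 wcI1x0) 232 2 = true := by
  decide +kernel

theorem wccl1x0c228s3 : pgChkGenW 8404 (List.range 8404) wcL1 [wcL2, wcL3, wcL4, wcL5, wcL6, wcL7, wcL8, wcL9, wcL10]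
    (wcgen wcT1x0 wcI1x0) 234 2 = true := by
  decide +kernel

theorem wccl1x0c228s4 : pgChkGenW 8404 (List.range 8404) wcL1 [wcL2, wcL3, wcL4, wcL5, wcL6, wcL7, wcL8, wcL9, wcL10]
    (wcgen wcT1x0 wcI1x0) 236 2 = true := by
  decide +kernel

theorem wccl1x0c228s5 : pgChkGenW 8404 (List.range 8404) wcL1 [wcL2, wcL3, wcL4, wcL5, wcL6, wcL7, wcL8, wcL9, wcL10]
    (wcgen wcT1x0 wcI1x0) 238 2 = true := by
  decide +kernel

theorem wccl1x0c228 : pgChkGenW 8404 (List.range 8404) wcL1 [wcL2, wcL3, wcL4, wcL5, wcL6, wcL7, wcL8, wcL9, wcL10]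
    (wcgen wcT1x0 wcI1x0) 228 12 = true :=
  pgChkGenW_append (lo := 228) (c1 := 10) (c2 := 2) (pgChkGenW_append (lo := 228) (c1 := 8) (c2 := 2) (pgChkGenW_append (lo := 228) (c1 := 6) (c2 := 2) (pgChkGenW_append (lo := 228) (c1 := 4) (c2 := 2) (pgChkGenW_append (lo := 228) (c1 := 2) (c2 := 2) (wccl1x0c228s0) wccl1x0c228s1) wccl1x0c228s2) wccl1x0c228s3) wccl1x0c228s4) wccl1x0c228s5

end Cfsg.Agent.Lib.Helper5.U62Cov
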