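import Cfsg.Agent.Lib.Helper5.U62CovData
import Cfsg.Agent.Lib.helper23.PgX
import Cfsg.Agent.Lib.helper23.PgH

set_option autoImplicit false
set_option maxRecDepth 1000000
set_option Elab.async false

/-! the covering group of the unitary group of degree six over four elements, on 8404 points: the checks of the stabiliser chain (generated), part 28. -/

namespace Cfsg.Agent.Lib.Helper5.U62Cov

open Cfsg.Agent.Lib.helper23 Subgroup MulAction
theorem wccl1x0c240s0 : pgChkGenW 8404 (List.range 8404) wcL1 [wcL2, wcL3, wcL4, wcL5, wcL6, wcL7, wcL8, wcL9, wcL10]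
    (wcgen wcT1x0 wcI1x0) 240 2 = true := by
  decide +kernel

theorem wccl1x0c240s1 : pgChkGenW 8404 (List.range 8404) wcL1 [wcL2, wcL3, wcL4, wcL5, wcL6, wcL7, wcL8, wcL9, wcL10]
    (wcgen wcT1x0 wcI1x0) 242 2 = true := by
  decide +kernel

theorem wccl1x0c240s2 : pgChkGenW 8404 (List.range 8404) wcL1 [wcL2, wcL3, wcL4, wcL5, wcL6, wcL7, wcL8, wcL9, wcL10]
    (wcgen wcT1x0 wcI1x0) 244 2 = true := by
  decide +kernel

theorem wccl1x0c240s3 : pgChkGenW 8404 (List.range 8404) wcL1 [wcL2, wcL3, wcL4, wcL5, wcL6, wcL7, wcL8, wcL9, wcL10]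
    (wcgen wcT1x0 wcI1x0) 246 2 = true := by
  decide +kernel

theorem wccl1x0c240s4 : pgChkGenW 8404 (List.range 8404) wcL1 [wcL2, wcL3, wcL4, wcL5, wcL6, wcL7, wcL8, wcL9, wcL10]
    (wcgen wcT1x0 wcI1x0) 248 2 = true := by
  decide +kernel

theorem wccl1x0c240s5 : pgChkGenW 8404 (List.range 8404) wcL1 [wcL2, wcL3, wcL4, wcL5, wcL6, wcL7, wcL8, wcL9, wcL10]
    (wcgen wcT1x0 wcI1x0) 250 2 = true := by
  decide +kernel

theorem wccl1x0c240 : pgChkGenW 8404 (List.range 8404) wcL1 [wcL2, wcL3, wcL4, wcL5, wcL6, wcL7, wcL8, wcL9, wcL10]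
    (wcgen wcT1x0 wcI1x0) 240 12 = true :=
  pgChkGenW_append (lo := 240) (c1 := 10) (c2 := 2) (pgChkGenW_append (lo := 240) (c1 := 8) (c2 := 2) (pgChkGenW_append (lo := 240) (c1 := 6) (c2 := 2) (pgChkGenW_append (lo := 240) (c1 := 4) (c2 := 2) (pgChkGenW_append (lo := 240) (c1 := 2) (c2 := 2) (wccl1x0c240s0) wccl1x0c240s1) wccl1x0c240s2) wccl1x0c240s3) wccl1x0c240s4) wccl1x0c240s5

theorem wccl1x0c252s0 : pgChkGenW 8404 (List.range 8404) wcL1 [wcL2, wcL3, wcL4, wcL5, wcL6, wcL7, wcL8, wcL9, wcL10]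
    (wcgen wcT1x0 wcI1x0) 252 2 = true := by
  decide +kernel

theorem wccl1x0c252s1 : pgChkGenW 8404 (List.range 8404) wcL1 [wcL2, wcL3, wcL4, wcL5, wcL6, wcL7, wcL8, wcL9, wcL10]
    (wcgen wcT1x0 wcI1x0) 254 2 = true := by
  decide +kernel

theorem wccl1x0c252s2 : pgChkGenW 8404 (List.range 8404) wcL1 [wcL2, wcL3, wcL4, wcL5, wcL6, wcL7, wcL8, wcL9, wcL10]
    (wcgen wcT1x0 wcI1x0) 256 2 = true := by
  decide +kernel

theorem wccl1x0c252s3 : pgChkGenW 8404 (List.range 8404) wcL1 [wcL2, wcL3, wcL4, wcL5, wcL6, wcL7, wcL8, wcL9, wcL10]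
    (wcgen wcT1x0 wcI1x0) 258 2 = true := by
  decide +kernel

theorem wccl1x0c252s4 : pgChkGenW 8404 (List.range 8404) wcL1 [wcL2, wcL3, wcL4, wcL5, wcL6, wcL7, wcL8, wcL9, wcL10]
    (wcgen wcT1x0 wcI1x0) 260 2 = true := by
  decide +kernel

theorem wccl1x0c252s5 : pgChkGenW 8404 (List.range 8404) wcL1 [wcL2, wcL3, wcL4, wcL5, wcL6, wcL7, wcL8, wcL9, wcL10]
    (wcgen wcT1x0 wcI1x0) 262 2 = true := by
  decide +kernel

theorem wccl1x0c252 : pgChkGenW 8404 (List.range 8404) wcL1 [wcL2, wcL3, wcL4, wcL5, wcL6, wcL7, wcL8, wcL9, wcL10]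
    (wcgen wcT1x0 wcI1x0) 252 12 = true :=
  pgChkGenW_append (lo := 252) (c1 := 10) (c2 := 2) (pgChkGenW_append (lo := 252) (c1 := 8) (c2 := 2) (pgChkGenW_append (lo := 252) (c1 := 6) (c2 := 2) (pgChkGenW_append (lo := 252) (c1 := 4) (c2 := 2) (pgChkGenW_append (lo := 252) (c1 := 2) (c2 := 2) (wccl1x0c252s0) wccl1x0c252s1) wccl1x0c252s2) wccl1x0c252s3) wccl1x0c252s4) wccl1x0c252s5

theorem wccl1x0c264s0 : pgChkGenW 8404 (List.range 8404) wcL1 [wcL2, wcL3, wcL4, wcL5, wcL6, wcL7, wcL8, wcL9, wcL10]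
    (wcgen wcT1x0 wcI1x0) 264 2 = true := by
  decide +kernel

theorem wccl1x0c264s1 : pgChkGenW 8404 (List.range 8404) wcL1 [wcL2, wcL3, wcL4, wcL5, wcL6, wcL7, wcL8, wcL9, wcL10]
    (wcgen wcT1x0 wcI1x0) 266 2 = true := by
  decide +kernel

theorem wccl1x0c264s2 : pgChkGenW 8404 (List.range 8404) wcL1 [wcL2, wcL3, wcL4, wcL5, wcL6, wcL7, wcL8, wcL9, wcL10]
    (wcgen wcT1x0 wcI1x0) 268 2 = true := by
  decide +kernel

theorem wccl1x0c264s3 : pgChkGenW 8404 (List.range 8404) wcL1 [wcL2, wcL3, wcL4, wcL5, wcL6, wcL7, wcL8, wcL9, wcL10]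
    (wcgen wcT1x0 wcI1x0) 270 2 = true := by
  decide +kernel

theorem wccl1x0c264s4 : pgChkGenW 8404 (List.range 8404) wcL1 [wcL2, wcL3, wcL4, wcL5, wcL6, wcL7, wcL8, wcL9, wcL10]
    (wcgen wcT1x0 wcI1x0) 272 2 = true := by
  decide +kernel

theorem wccl1x0c264s5 : pgChkGenW 8404 (List.range 8404) wcL1 [wcL2, wcL3, wcL4, wcL5, wcL6, wcL7, wcL8, wcL9, wcL10]
    (wcgen wcT1x0 wcI1x0) 274 2 = true := by
  decide +kernel

theorem wccl1x0c264 : pgChkGenW 8404 (List.range 8404) wcL1 [wcL2, wcL3, wcL4, wcL5, wcL6, wcL7, wcL8, wcL9, wcL10]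
    (wcgen wcT1x0 wcI1x0) 264 12 = true :=
  pgChkGenW_append (lo := 264) (c1 := 10) (c2 := 2) (pgChkGenW_append (lo := 264) (c1 := 8) (c2 := 2) (pgChkGenW_append (lo := 264) (c1 := 6) (c2 := 2) (pgChkGenW_append (lo := 264) (c1 := 4) (c2 := 2) (pgChkGenW_append (lo := 264) (c1 := 2) (c2 := 2) (wccl1x0c264s0) wccl1x0c264s1) wccl1x0c264s2) wccl1x0c264s3) wccl1x0c264s4) wccl1x0c264s5

theorem wccl1x0c276s0 : pgChkGenW 8404 (List.range 8404) wcL1 [wcL2, wcL3, wcL4, wcL5, wcL6, wcL7, wcL8, wcL9, wcL10]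
    (wcgen wcT1x0 wcI1x0) 276 2 = true := by
  decide +kernel

theorem wccl1x0c276s1 : pgChkGenW 8404 (List.range 8404) wcL1 [wcL2, wcL3, wcL4, wcL5, wcL6, wcL7, wcL8, wcL9, wcL10]
    (wcgen wcT1x0 wcI1x0) 278 2 = true := by
  decide +kernel

theorem wccl1x0c276s2 : pgChkGenW 8404 (List.range 8404) wcL1 [wcL2, wcL3, wcL4, wcL5, wcL6, wcL7, wcL8, wcL9, wcL10]
    (wcgen wcT1x0 wcI1x0) 280 2 = true := by
  decide +kernel

theorem wccl1x0c276s3 : pgChkGenW 8404 (List.range 8404) wcL1 [wcL2, wcL3, wcL4, wcL5, wcL6, wcL7, wcL8, wcL9, wcL10]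
    (wcgen wcT1x0 wcI1x0) 282 2 = true := by
  decide +kernel

theorem wccl1x0c276s4 : pgChkGenW 8404 (List.range 8404) wcL1 [wcL2, wcL3, wcL4, wcL5, wcL6, wcL7, wcL8, wcL9, wcL10]
    (wcgen wcT1x0 wcI1x0) 284 2 = true := by
  decide +kernel

theorem wccl1x0c276s5 : pgChkGenW 8404 (List.range 8404) wcL1 [wcL2, wcL3, wcL4, wcL5, wcL6, wcL7, wcL8, wcL9, wcL10]
    (wcgen wcT1x0 wcI1x0) 286 2 = true := by
  decide +kernel

theorem wccl1x0c276 : pgChkGenW 8404 (List.range 8404) wcL1 [wcL2, wcL3, wcL4, wcL5, wcL6, wcL7, wcL8, wcL9, wcL10]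
    (wcgen wcT1x0 wcI1x0) 276 12 = true :=
  pgChkGenW_append (lo := 276) (c1 := 10) (c2 := 2) (pgChkGenW_append (lo := 276) (c1 := 8) (c2 := 2) (pgChkGenW_append (lo := 276) (c1 := 6) (c2 := 2) (pgChkGenW_append (lo := 276) (c1 := 4) (c2 := 2) (pgChkGenW_append (lo := 276) (c1 := 2) (c2 := 2) (wccl1x0c276s0) wccl1x0c276s1) wccl1x0c276s2) wccl1x0c276s3) wccl1x0c276s4) wccl1x0c276s5

end Cfsg.Agent.Lib.Helper5.U62Cov
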