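import Cfsg.Agent.Lib.Helper5.U62CovData
import Cfsg.Agent.Lib.helper23.PgX
import Cfsg.Agent.Lib.helper23.PgH

set_option autoImplicit false
set_option maxRecDepth 1000000
set_option Elab.async false

/-! the covering group of the unitary group of degree six over four elements, on 8404 points: the checks of the stabiliser chain (generated), part 29. -/

namespace Cfsg.Agent.Lib.Helper5.U62Cov

open Cfsg.Agent.Lib.helper23 Subgroup MulAction
theorem wccl1x0c288s0 : pgChkGenW 8404 (List.range 8404) wcL1 [wcL2, wcL3, wcL4, wcL5, wcL6, wcL7, wcL8, wcL9, wcL10]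
    (wcgen wcT1x0 wcI1x0) 288 2 = true := by
  decide +kernel

theorem wccl1x0c288s1 : pgChkGenW 8404 (List.range 8404) wcL1 [wcL2, wcL3, wcL4, wcL5, wcL6, wcL7, wcL8, wcL9, wcL10]
    (wcgen wcT1x0 wcI1x0) 290 2 = true := by
  decide +kernel

theorem wccl1x0c288s2 : pgChkGenW 8404 (List.range 8404) wcL1 [wcL2, wcL3, wcL4, wcL5, wcL6, wcL7, wcL8, wcL9, wcL10]
    (wcgen wcT1x0 wcI1x0) 292 2 = true := by
  decide +kernel

theorem wccl1x0c288s3 : pgChkGenW 8404 (List.range 8404) wcL1 [wcL2, wcL3, wcL4, wcL5, wcL6, wcL7, wcL8, wcL9, wcL10]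
    (wcgen wcT1x0 wcI1x0) 294 2 = true := by
  decide +kernel

theorem wccl1x0c288s4 : pgChkGenW 8404 (List.range 8404) wcL1 [wcL2, wcL3, wcL4, wcL5, wcL6, wcL7, wcL8, wcL9, wcL10]
    (wcgen wcT1x0 wcI1x0) 296 2 = true := by
  decide +kernel

theorem wccl1x0c288s5 : pgChkGenW 8404 (List.range 8404) wcL1 [wcL2, wcL3, wcL4, wcL5, wcL6, wcL7, wcL8, wcL9, wcL10]
    (wcgen wcT1x0 wcI1x0) 298 2 = true := by
  decide +kernel

theorem wccl1x0c288 : pgChkGenW 8404 (List.range 8404) wcL1 [wcL2, wcL3, wcL4, wcL5, wcL6, wcL7, wcL8, wcL9, wcL10]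
    (wcgen wcT1x0 wcI1x0) 288 12 = true :=
  pgChkGenW_append (lo := 288) (c1 := 10) (c2 := 2) (pgChkGenW_append (lo := 288) (c1 := 8) (c2 := 2) (pgChkGenW_append (lo := 288) (c1 := 6) (c2 := 2) (pgChkGenW_append (lo := 288) (c1 := 4) (c2 := 2) (pgChkGenW_append (lo := 288) (c1 := 2) (c2 := 2) (wccl1x0c288s0) wccl1x0c288s1) wccl1x0c288s2) wccl1x0c288s3) wccl1x0c288s4) wccl1x0c288s5

theorem wccl1x0c300s0 : pgChkGenW 8404 (List.range 8404) wcL1 [wcL2, wcL3, wcL4, wcL5, wcL6, wcL7, wcL8, wcL9, wcL10]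
    (wcgen wcT1x0 wcI1x0) 300 2 = true := by
  decide +kernel

theorem wccl1x0c300s1 : pgChkGenW 8404 (List.range 8404) wcL1 [wcL2, wcL3, wcL4, wcL5, wcL6, wcL7, wcL8, wcL9, wcL10]
    (wcgen wcT1x0 wcI1x0) 302 2 = true := by
  decide +kernel

theorem wccl1x0c300s2 : pgChkGenW 8404 (List.range 8404) wcL1 [wcL2, wcL3, wcL4, wcL5, wcL6, wcL7, wcL8, wcL9, wcL10]
    (wcgen wcT1x0 wcI1x0) 304 2 = true := by
  decide +kernel

theorem wccl1x0c300s3 : pgChkGenW 8404 (List.range 8404) wcL1 [wcL2, wcL3, wcL4, wcL5, wcL6, wcL7, wcL8, wcL9, wcL10]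
    (wcgen wcT1x0 wcI1x0) 306 2 = true := by
  decide +kernel

theorem wccl1x0c300s4 : pgChkGenW 8404 (List.range 8404) wcL1 [wcL2, wcL3, wcL4, wcL5, wcL6, wcL7, wcL8, wcL9, wcL10]
    (wcgen wcT1x0 wcI1x0) 308 2 = true := by
  decide +kernel

theorem wccl1x0c300s5 : pgChkGenW 8404 (List.range 8404) wcL1 [wcL2, wcL3, wcL4, wcL5, wcL6, wcL7, wcL8, wcL9, wcL10]
    (wcgen wcT1x0 wcI1x0) 310 2 = true := by
  decide +kernel

theorem wccl1x0c300 : pgChkGenW 8404 (List.range 8404) wcL1 [wcL2, wcL3, wcL4, wcL5, wcL6, wcL7, wcL8, wcL9, wcL10]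
    (wcgen wcT1x0 wcI1x0) 300 12 = true :=
  pgChkGenW_append (lo := 300) (c1 := 10) (c2 := 2) (pgChkGenW_append (lo := 300) (c1 := 8) (c2 := 2) (pgChkGenW_append (lo := 300) (c1 := 6) (c2 := 2) (pgChkGenW_append (lo := 300) (c1 := 4) (c2 := 2) (pgChkGenW_append (lo := 300) (c1 := 2) (c2 := 2) (wccl1x0c300s0) wccl1x0c300s1) wccl1x0c300s2) wccl1x0c300s3) wccl1x0c300s4) wccl1x0c300s5

theorem wccl1x0c312s0 : pgChkGenW 8404 (List.range 8404) wcL1 [wcL2, wcL3, wcL4, wcL5, wcL6, wcL7, wcL8, wcL9, wcL10]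
    (wcgen wcT1x0 wcI1x0) 312 2 = true := by
  decide +kernel

theorem wccl1x0c312s1 : pgChkGenW 8404 (List.range 8404) wcL1 [wcL2, wcL3, wcL4, wcL5, wcL6, wcL7, wcL8, wcL9, wcL10]
    (wcgen wcT1x0 wcI1x0) 314 2 = true := by
  decide +kernel

theorem wccl1x0c312s2 : pgChkGenW 8404 (List.range 8404) wcL1 [wcL2, wcL3, wcL4, wcL5, wcL6, wcL7, wcL8, wcL9, wcL10]
    (wcgen wcT1x0 wcI1x0) 316 2 = true := by
  decide +kernel

theorem wccl1x0c312s3 : pgChkGenW 8404 (List.range 8404) wcL1 [wcL2, wcL3, wcL4, wcL5, wcL6, wcL7, wcL8, wcL9, wcL10]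
    (wcgen wcT1x0 wcI1x0) 318 2 = true := by
  decide +kernel

theorem wccl1x0c312s4 : pgChkGenW 8404 (List.range 8404) wcL1 [wcL2, wcL3, wcL4, wcL5, wcL6, wcL7, wcL8, wcL9, wcL10]
    (wcgen wcT1x0 wcI1x0) 320 2 = true := by
  decide +kernel

theorem wccl1x0c312s5 : pgChkGenW 8404 (List.range 8404) wcL1 [wcL2, wcL3, wcL4, wcL5, wcL6, wcL7, wcL8, wcL9, wcL10]
    (wcgen wcT1x0 wcI1x0) 322 2 = true := by
  decide +kernel

theorem wccl1x0c312 : pgChkGenW 8404 (List.range 8404) wcL1 [wcL2, wcL3, wcL4, wcL5, wcL6, wcL7, wcL8, wcL9, wcL10]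
    (wcgen wcT1x0 wcI1x0) 312 12 = true :=
  pgChkGenW_append (lo := 312) (c1 := 10) (c2 := 2) (pgChkGenW_append (lo := 312) (c1 := 8) (c2 := 2) (pgChkGenW_append (lo := 312) (c1 := 6) (c2 := 2) (pgChkGenW_append (lo := 312) (c1 := 4) (c2 := 2) (pgChkGenW_append (lo := 312) (c1 := 2) (c2 := 2) (wccl1x0c312s0) wccl1x0c312s1) wccl1x0c312s2) wccl1x0c312s3) wccl1x0c312s4) wccl1x0c312s5

theorem wccl1x0c324s0 : pgChkGenW 8404 (List.range 8404) wcL1 [wcL2, wcL3, wcL4, wcL5, wcL6, wcL7, wcL8, wcL9, wcL10]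
    (wcgen wcT1x0 wcI1x0) 324 2 = true := by
  decide +kernel

theorem wccl1x0c324s1 : pgChkGenW 8404 (List.range 8404) wcL1 [wcL2, wcL3, wcL4, wcL5, wcL6, wcL7, wcL8, wcL9, wcL10]
    (wcgen wcT1x0 wcI1x0) 326 2 = true := by
  decide +kernel

theorem wccl1x0c324s2 : pgChkGenW 8404 (List.range 8404) wcL1 [wcL2, wcL3, wcL4, wcL5, wcL6, wcL7, wcL8, wcL9, wcL10]
    (wcgen wcT1x0 wcI1x0) 328 2 = true := by
  decide +kernel

theorem wccl1x0c324s3 : pgChkGenW 8404 (List.range 8404) wcL1 [wcL2, wcL3, wcL4, wcL5, wcL6, wcL7, wcL8, wcL9, wcL10]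
    (wcgen wcT1x0 wcI1x0) 330 2 = true := by
  decide +kernel

theorem wccl1x0c324s4 : pgChkGenW 8404 (List.range 8404) wcL1 [wcL2, wcL3, wcL4, wcL5, wcL6, wcL7, wcL8, wcL9, wcL10]
    (wcgen wcT1x0 wcI1x0) 332 2 = true := by
  decide +kernel

theorem wccl1x0c324s5 : pgChkGenW 8404 (List.range 8404) wcL1 [wcL2, wcL3, wcL4, wcL5, wcL6, wcL7, wcL8, wcL9, wcL10]
    (wcgen wcT1x0 wcI1x0) 334 2 = true := by
  decide +kernel

theorem wccl1x0c324 : pgChkGenW 8404 (List.range 8404) wcL1 [wcL2, wcL3, wcL4, wcL5, wcL6, wcL7, wcL8, wcL9, wcL10]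
    (wcgen wcT1x0 wcI1x0) 324 12 = true :=
  pgChkGenW_append (lo := 324) (c1 := 10) (c2 := 2) (pgChkGenW_append (lo := 324) (c1 := 8) (c2 := 2) (pgChkGenW_append (lo := 324) (c1 := 6) (c2 := 2) (pgChkGenW_append (lo := 324) (c1 := 4) (c2 := 2) (pgChkGenW_append (lo := 324) (c1 := 2) (c2 := 2) (wccl1x0c324s0) wccl1x0c324s1) wccl1x0c324s2) wccl1x0c324s3) wccl1x0c324s4) wccl1x0c324s5

end Cfsg.Agent.Lib.Helper5.U62Cov
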