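import Cfsg.Agent.Lib.Helper5.U62CovData
import Cfsg.Agent.Lib.helper23.PgX
import Cfsg.Agent.Lib.helper23.PgH

set_option autoImplicit false
set_option maxRecDepth 1000000
set_option Elab.async false

/-! the covering group of the unitary group of degree six over four elements, on 8404 points: the checks of the stabiliser chain (generated), part 30. -/

namespace Cfsg.Agent.Lib.Helper5.U62Cov

open Cfsg.Agent.Lib.helper23 Subgroup MulAction
theorem wccl1x0c336s0 : pgChkGenW 8404 (List.range 8404) wcL1 [wcL2, wcL3, wcL4, wcL5, wcL6, wcL7, wcL8, wcL9, wcL10]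
    (wcgen wcT1x0 wcI1x0) 336 2 = true := by
  decide +kernel

theorem wccl1x0c336s1 : pgChkGenW 8404 (List.range 8404) wcL1 [wcL2, wcL3, wcL4, wcL5, wcL6, wcL7, wcL8, wcL9, wcL10]
    (wcgen wcT1x0 wcI1x0) 338 2 = true := by
  decide +kernel

theorem wccl1x0c336s2 : pgChkGenW 8404 (List.range 8404) wcL1 [wcL2, wcL3, wcL4, wcL5, wcL6, wcL7, wcL8, wcL9, wcL10]
    (wcgen wcT1x0 wcI1x0) 340 2 = true := by
  decide +kernel

theorem wccl1x0c336s3 : pgChkGenW 8404 (List.range 8404) wcL1 [wcL2, wcL3, wcL4, wcL5, wcL6, wcL7, wcL8, wcL9, wcL10]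
    (wcgen wcT1x0 wcI1x0) 342 2 = true := by
  decide +kernel

theorem wccl1x0c336s4 : pgChkGenW 8404 (List.range 8404) wcL1 [wcL2, wcL3, wcL4, wcL5, wcL6, wcL7, wcL8, wcL9, wcL10]
    (wcgen wcT1x0 wcI1x0) 344 2 = true := by
  decide +kernel

theorem wccl1x0c336s5 : pgChkGenW 8404 (List.range 8404) wcL1 [wcL2, wcL3, wcL4, wcL5, wcL6, wcL7, wcL8, wcL9, wcL10]
    (wcgen wcT1x0 wcI1x0) 346 2 = true := by
  decide +kernel

theorem wccl1x0c336 : pgChkGenW 8404 (List.range 8404) wcL1 [wcL2, wcL3, wcL4, wcL5, wcL6, wcL7, wcL8, wcL9, wcL10]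
    (wcgen wcT1x0 wcI1x0) 336 12 = true :=
  pgChkGenW_append (lo := 336) (c1 := 10) (c2 := 2) (pgChkGenW_append (lo := 336) (c1 := 8) (c2 := 2) (pgChkGenW_append (lo := 336) (c1 := 6) (c2 := 2) (pgChkGenW_append (lo := 336) (c1 := 4) (c2 := 2) (pgChkGenW_append (lo := 336) (c1 := 2) (c2 := 2) (wccl1x0c336s0) wccl1x0c336s1) wccl1x0c336s2) wccl1x0c336s3) wccl1x0c336s4) wccl1x0c336s5

theorem wccl1x0c348s0 : pgChkGenW 8404 (List.range 8404) wcL1 [wcL2, wcL3, wcL4, wcL5, wcL6, wcL7, wcL8, wcL9, wcL10]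
    (wcgen wcT1x0 wcI1x0) 348 2 = true := by
  decide +kernel

theorem wccl1x0c348s1 : pgChkGenW 8404 (List.range 8404) wcL1 [wcL2, wcL3, wcL4, wcL5, wcL6, wcL7, wcL8, wcL9, wcL10]
    (wcgen wcT1x0 wcI1x0) 350 2 = true := by
  decide +kernel

theorem wccl1x0c348s2 : pgChkGenW 8404 (List.range 8404) wcL1 [wcL2, wcL3, wcL4, wcL5, wcL6, wcL7, wcL8, wcL9, wcL10]
    (wcgen wcT1x0 wcI1x0) 352 2 = true := by
  decide +kernel

theorem wccl1x0c348s3 : pgChkGenW 8404 (List.range 8404) wcL1 [wcL2, wcL3, wcL4, wcL5, wcL6, wcL7, wcL8, wcL9, wcL10]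
    (wcgen wcT1x0 wcI1x0) 354 2 = true := by
  decide +kernel

theorem wccl1x0c348s4 : pgChkGenW 8404 (List.range 8404) wcL1 [wcL2, wcL3, wcL4, wcL5, wcL6, wcL7, wcL8, wcL9, wcL10]
    (wcgen wcT1x0 wcI1x0) 356 2 = true := by
  decide +kernel

theorem wccl1x0c348s5 : pgChkGenW 8404 (List.range 8404) wcL1 [wcL2, wcL3, wcL4, wcL5, wcL6, wcL7, wcL8, wcL9, wcL10]
    (wcgen wcT1x0 wcI1x0) 358 2 = true := by
  decide +kernel

theorem wccl1x0c348 : pgChkGenW 8404 (List.range 8404) wcL1 [wcL2, wcL3, wcL4, wcL5, wcL6, wcL7, wcL8, wcL9, wcL10]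
    (wcgen wcT1x0 wcI1x0) 348 12 = true :=
  pgChkGenW_append (lo := 348) (c1 := 10) (c2 := 2) (pgChkGenW_append (lo := 348) (c1 := 8) (c2 := 2) (pgChkGenW_append (lo := 348) (c1 := 6) (c2 := 2) (pgChkGenW_append (lo := 348) (c1 := 4) (c2 := 2) (pgChkGenW_append (lo := 348) (c1 := 2) (c2 := 2) (wccl1x0c348s0) wccl1x0c348s1) wccl1x0c348s2) wccl1x0c348s3) wccl1x0c348s4) wccl1x0c348s5

theorem wccl1x0c360s0 : pgChkGenW 8404 (List.range 8404) wcL1 [wcL2, wcL3, wcL4, wcL5, wcL6, wcL7, wcL8, wcL9, wcL10]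
    (wcgen wcT1x0 wcI1x0) 360 2 = true := by
  decide +kernel

theorem wccl1x0c360s1 : pgChkGenW 8404 (List.range 8404) wcL1 [wcL2, wcL3, wcL4, wcL5, wcL6, wcL7, wcL8, wcL9, wcL10]
    (wcgen wcT1x0 wcI1x0) 362 2 = true := by
  decide +kernel

theorem wccl1x0c360s2 : pgChkGenW 8404 (List.range 8404) wcL1 [wcL2, wcL3, wcL4, wcL5, wcL6, wcL7, wcL8, wcL9, wcL10]
    (wcgen wcT1x0 wcI1x0) 364 2 = true := by
  decide +kernel

theorem wccl1x0c360s3 : pgChkGenW 8404 (List.range 8404) wcL1 [wcL2, wcL3, wcL4, wcL5, wcL6, wcL7, wcL8, wcL9, wcL10]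
    (wcgen wcT1x0 wcI1x0) 366 2 = true := by
  decide +kernel

theorem wccl1x0c360s4 : pgChkGenW 8404 (List.range 8404) wcL1 [wcL2, wcL3, wcL4, wcL5, wcL6, wcL7, wcL8, wcL9, wcL10]
    (wcgen wcT1x0 wcI1x0) 368 2 = true := by
  decide +kernel

theorem wccl1x0c360s5 : pgChkGenW 8404 (List.range 8404) wcL1 [wcL2, wcL3, wcL4, wcL5, wcL6, wcL7, wcL8, wcL9, wcL10]
    (wcgen wcT1x0 wcI1x0) 370 2 = true := by
  decide +kernel

theorem wccl1x0c360 : pgChkGenW 8404 (List.range 8404) wcL1 [wcL2, wcL3, wcL4, wcL5, wcL6, wcL7, wcL8, wcL9, wcL10]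
    (wcgen wcT1x0 wcI1x0) 360 12 = true :=
  pgChkGenW_append (lo := 360) (c1 := 10) (c2 := 2) (pgChkGenW_append (lo := 360) (c1 := 8) (c2 := 2) (pgChkGenW_append (lo := 360) (c1 := 6) (c2 := 2) (pgChkGenW_append (lo := 360) (c1 := 4) (c2 := 2) (pgChkGenW_append (lo := 360) (c1 := 2) (c2 := 2) (wccl1x0c360s0) wccl1x0c360s1) wccl1x0c360s2) wccl1x0c360s3) wccl1x0c360s4) wccl1x0c360s5

theorem wccl1x0c372s0 : pgChkGenW 8404 (List.range 8404) wcL1 [wcL2, wcL3, wcL4, wcL5, wcL6, wcL7, wcL8, wcL9, wcL10]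
    (wcgen wcT1x0 wcI1x0) 372 2 = true := by
  decide +kernel

theorem wccl1x0c372s1 : pgChkGenW 8404 (List.range 8404) wcL1 [wcL2, wcL3, wcL4, wcL5, wcL6, wcL7, wcL8, wcL9, wcL10]
    (wcgen wcT1x0 wcI1x0) 374 2 = true := by
  decide +kernel

theorem wccl1x0c372s2 : pgChkGenW 8404 (List.range 8404) wcL1 [wcL2, wcL3, wcL4, wcL5, wcL6, wcL7, wcL8, wcL9, wcL10]
    (wcgen wcT1x0 wcI1x0) 376 2 = true := by
  decide +kernel

theorem wccl1x0c372s3 : pgChkGenW 8404 (List.range 8404) wcL1 [wcL2, wcL3, wcL4, wcL5, wcL6, wcL7, wcL8, wcL9, wcL10]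
    (wcgen wcT1x0 wcI1x0) 378 2 = true := by
  decide +kernel

theorem wccl1x0c372s4 : pgChkGenW 8404 (List.range 8404) wcL1 [wcL2, wcL3, wcL4, wcL5, wcL6, wcL7, wcL8, wcL9, wcL10]
    (wcgen wcT1x0 wcI1x0) 380 2 = true := by
  decide +kernel

theorem wccl1x0c372s5 : pgChkGenW 8404 (List.range 8404) wcL1 [wcL2, wcL3, wcL4, wcL5, wcL6, wcL7, wcL8, wcL9, wcL10]
    (wcgen wcT1x0 wcI1x0) 382 2 = true := by
  decide +kernel

theorem wccl1x0c372 : pgChkGenW 8404 (List.range 8404) wcL1 [wcL2, wcL3, wcL4, wcL5, wcL6, wcL7, wcL8, wcL9, wcL10]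
    (wcgen wcT1x0 wcI1x0) 372 12 = true :=
  pgChkGenW_append (lo := 372) (c1 := 10) (c2 := 2) (pgChkGenW_append (lo := 372) (c1 := 8) (c2 := 2) (pgChkGenW_append (lo := 372) (c1 := 6) (c2 := 2) (pgChkGenW_append (lo := 372) (c1 := 4) (c2 := 2) (pgChkGenW_append (lo := 372) (c1 := 2) (c2 := 2) (wccl1x0c372s0) wccl1x0c372s1) wccl1x0c372s2) wccl1x0c372s3) wccl1x0c372s4) wccl1x0c372s5

end Cfsg.Agent.Lib.Helper5.U62Cov
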