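import Cfsg.Agent.Lib.Helper5.U62CovData
import Cfsg.Agent.Lib.helper23.PgX
import Cfsg.Agent.Lib.helper23.PgH

set_option autoImplicit false
set_option maxRecDepth 1000000
set_option Elab.async false

/-! the covering group of the unitary group of degree six over four elements, on 8404 points: the checks of the stabiliser chain (generated), part 31. -/

namespace Cfsg.Agent.Lib.Helper5.U62Cov

open Cfsg.Agent.Lib.helper23 Subgroup MulAction
theorem wccl1x0c384s0 : pgChkGenW 8404 (List.range 8404) wcL1 [wcL2, wcL3, wcL4, wcL5, wcL6, wcL7, wcL8, wcL9, wcL10]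
    (wcgen wcT1x0 wcI1x0) 384 2 = true := by
  decide +kernel

theorem wccl1x0c384s1 : pgChkGenW 8404 (List.range 8404) wcL1 [wcL2, wcL3, wcL4, wcL5, wcL6, wcL7, wcL8, wcL9, wcL10]
    (wcgen wcT1x0 wcI1x0) 386 2 = true := by
  decide +kernel

theorem wccl1x0c384s2 : pgChkGenW 8404 (List.range 8404) wcL1 [wcL2, wcL3, wcL4, wcL5, wcL6, wcL7, wcL8, wcL9, wcL10]
    (wcgen wcT1x0 wcI1x0) 388 2 = true := by
  decide +kernel

theorem wccl1x0c384s3 : pgChkGenW 8404 (List.range 8404) wcL1 [wcL2, wcL3, wcL4, wcL5, wcL6, wcL7, wcL8, wcL9, wcL10]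
    (wcgen wcT1x0 wcI1x0) 390 2 = true := by
  decide +kernel

theorem wccl1x0c384s4 : pgChkGenW 8404 (List.range 8404) wcL1 [wcL2, wcL3, wcL4, wcL5, wcL6, wcL7, wcL8, wcL9, wcL10]
    (wcgen wcT1x0 wcI1x0) 392 2 = true := by
  decide +kernel

theorem wccl1x0c384s5 : pgChkGenW 8404 (List.range 8404) wcL1 [wcL2, wcL3, wcL4, wcL5, wcL6, wcL7, wcL8, wcL9, wcL10]
    (wcgen wcT1x0 wcI1x0) 394 2 = true := by
  decide +kernel

theorem wccl1x0c384 : pgChkGenW 8404 (List.range 8404) wcL1 [wcL2, wcL3, wcL4, wcL5, wcL6, wcL7, wcL8, wcL9, wcL10]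
    (wcgen wcT1x0 wcI1x0) 384 12 = true :=
  pgChkGenW_append (lo := 384) (c1 := 10) (c2 := 2) (pgChkGenW_append (lo := 384) (c1 := 8) (c2 := 2) (pgChkGenW_append (lo := 384) (c1 := 6) (c2 := 2) (pgChkGenW_append (lo := 384) (c1 := 4) (c2 := 2) (pgChkGenW_append (lo := 384) (c1 := 2) (c2 := 2) (wccl1x0c384s0) wccl1x0c384s1) wccl1x0c384s2) wccl1x0c384s3) wccl1x0c384s4) wccl1x0c384s5

theorem wccl1x0c396s0 : pgChkGenW 8404 (List.range 8404) wcL1 [wcL2, wcL3, wcL4, wcL5, wcL6, wcL7, wcL8, wcL9, wcL10]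
    (wcgen wcT1x0 wcI1x0) 396 2 = true := by
  decide +kernel

theorem wccl1x0c396s1 : pgChkGenW 8404 (List.range 8404) wcL1 [wcL2, wcL3, wcL4, wcL5, wcL6, wcL7, wcL8, wcL9, wcL10]
    (wcgen wcT1x0 wcI1x0) 398 2 = true := by
  decide +kernel

theorem wccl1x0c396s2 : pgChkGenW 8404 (List.range 8404) wcL1 [wcL2, wcL3, wcL4, wcL5, wcL6, wcL7, wcL8, wcL9, wcL10]
    (wcgen wcT1x0 wcI1x0) 400 2 = true := by
  decide +kernel

theorem wccl1x0c396s3 : pgChkGenW 8404 (List.range 8404) wcL1 [wcL2, wcL3, wcL4, wcL5, wcL6, wcL7, wcL8, wcL9, wcL10]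
    (wcgen wcT1x0 wcI1x0) 402 2 = true := by
  decide +kernel

theorem wccl1x0c396s4 : pgChkGenW 8404 (List.range 8404) wcL1 [wcL2, wcL3, wcL4, wcL5, wcL6, wcL7, wcL8, wcL9, wcL10]
    (wcgen wcT1x0 wcI1x0) 404 2 = true := by
  decide +kernel

theorem wccl1x0c396s5 : pgChkGenW 8404 (List.range 8404) wcL1 [wcL2, wcL3, wcL4, wcL5, wcL6, wcL7, wcL8, wcL9, wcL10]
    (wcgen wcT1x0 wcI1x0) 406 2 = true := by
  decide +kernel

theorem wccl1x0c396 : pgChkGenW 8404 (List.range 8404) wcL1 [wcL2, wcL3, wcL4, wcL5, wcL6, wcL7, wcL8, wcL9, wcL10]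
    (wcgen wcT1x0 wcI1x0) 396 12 = true :=
  pgChkGenW_append (lo := 396) (c1 := 10) (c2 := 2) (pgChkGenW_append (lo := 396) (c1 := 8) (c2 := 2) (pgChkGenW_append (lo := 396) (c1 := 6) (c2 := 2) (pgChkGenW_append (lo := 396) (c1 := 4) (c2 := 2) (pgChkGenW_append (lo := 396) (c1 := 2) (c2 := 2) (wccl1x0c396s0) wccl1x0c396s1) wccl1x0c396s2) wccl1x0c396s3) wccl1x0c396s4) wccl1x0c396s5

theorem wccl1x0c408s0 : pgChkGenW 8404 (List.range 8404) wcL1 [wcL2, wcL3, wcL4, wcL5, wcL6, wcL7, wcL8, wcL9, wcL10]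
    (wcgen wcT1x0 wcI1x0) 408 2 = true := by
  decide +kernel

theorem wccl1x0c408s1 : pgChkGenW 8404 (List.range 8404) wcL1 [wcL2, wcL3, wcL4, wcL5, wcL6, wcL7, wcL8, wcL9, wcL10]
    (wcgen wcT1x0 wcI1x0) 410 2 = true := by
  decide +kernel

theorem wccl1x0c408s2 : pgChkGenW 8404 (List.range 8404) wcL1 [wcL2, wcL3, wcL4, wcL5, wcL6, wcL7, wcL8, wcL9, wcL10]
    (wcgen wcT1x0 wcI1x0) 412 2 = true := by
  decide +kernel

theorem wccl1x0c408s3 : pgChkGenW 8404 (List.range 8404) wcL1 [wcL2, wcL3, wcL4, wcL5, wcL6, wcL7, wcL8, wcL9, wcL10]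
    (wcgen wcT1x0 wcI1x0) 414 2 = true := by
  decide +kernel

theorem wccl1x0c408s4 : pgChkGenW 8404 (List.range 8404) wcL1 [wcL2, wcL3, wcL4, wcL5, wcL6, wcL7, wcL8, wcL9, wcL10]
    (wcgen wcT1x0 wcI1x0) 416 2 = true := by
  decide +kernel

theorem wccl1x0c408s5 : pgChkGenW 8404 (List.range 8404) wcL1 [wcL2, wcL3, wcL4, wcL5, wcL6, wcL7, wcL8, wcL9, wcL10]
    (wcgen wcT1x0 wcI1x0) 418 2 = true := by
  decide +kernel

theorem wccl1x0c408 : pgChkGenW 8404 (List.range 8404) wcL1 [wcL2, wcL3, wcL4, wcL5, wcL6, wcL7, wcL8, wcL9, wcL10]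
    (wcgen wcT1x0 wcI1x0) 408 12 = true :=
  pgChkGenW_append (lo := 408) (c1 := 10) (c2 := 2) (pgChkGenW_append (lo := 408) (c1 := 8) (c2 := 2) (pgChkGenW_append (lo := 408) (c1 := 6) (c2 := 2) (pgChkGenW_append (lo := 408) (c1 := 4) (c2 := 2) (pgChkGenW_append (lo := 408) (c1 := 2) (c2 := 2) (wccl1x0c408s0) wccl1x0c408s1) wccl1x0c408s2) wccl1x0c408s3) wccl1x0c408s4) wccl1x0c408s5

theorem wccl1x0c420s0 : pgChkGenW 8404 (List.range 8404) wcL1 [wcL2, wcL3, wcL4, wcL5, wcL6, wcL7, wcL8, wcL9, wcL10]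
    (wcgen wcT1x0 wcI1x0) 420 2 = true := by
  decide +kernel

theorem wccl1x0c420s1 : pgChkGenW 8404 (List.range 8404) wcL1 [wcL2, wcL3, wcL4, wcL5, wcL6, wcL7, wcL8, wcL9, wcL10]
    (wcgen wcT1x0 wcI1x0) 422 2 = true := by
  decide +kernel

theorem wccl1x0c420s2 : pgChkGenW 8404 (List.range 8404) wcL1 [wcL2, wcL3, wcL4, wcL5, wcL6, wcL7, wcL8, wcL9, wcL10]
    (wcgen wcT1x0 wcI1x0) 424 2 = true := by
  decide +kernel

theorem wccl1x0c420s3 : pgChkGenW 8404 (List.range 8404) wcL1 [wcL2, wcL3, wcL4, wcL5, wcL6, wcL7, wcL8, wcL9, wcL10]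
    (wcgen wcT1x0 wcI1x0) 426 2 = true := by
  decide +kernel

theorem wccl1x0c420s4 : pgChkGenW 8404 (List.range 8404) wcL1 [wcL2, wcL3, wcL4, wcL5, wcL6, wcL7, wcL8, wcL9, wcL10]
    (wcgen wcT1x0 wcI1x0) 428 2 = true := by
  decide +kernel

theorem wccl1x0c420s5 : pgChkGenW 8404 (List.range 8404) wcL1 [wcL2, wcL3, wcL4, wcL5, wcL6, wcL7, wcL8, wcL9, wcL10]
    (wcgen wcT1x0 wcI1x0) 430 2 = true := by
  decide +kernel

theorem wccl1x0c420 : pgChkGenW 8404 (List.range 8404) wcL1 [wcL2, wcL3, wcL4, wcL5, wcL6, wcL7, wcL8, wcL9, wcL10]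
    (wcgen wcT1x0 wcI1x0) 420 12 = true :=
  pgChkGenW_append (lo := 420) (c1 := 10) (c2 := 2) (pgChkGenW_append (lo := 420) (c1 := 8) (c2 := 2) (pgChkGenW_append (lo := 420) (c1 := 6) (c2 := 2) (pgChkGenW_append (lo := 420) (c1 := 4) (c2 := 2) (pgChkGenW_append (lo := 420) (c1 := 2) (c2 := 2) (wccl1x0c420s0) wccl1x0c420s1) wccl1x0c420s2) wccl1x0c420s3) wccl1x0c420s4) wccl1x0c420s5

end Cfsg.Agent.Lib.Helper5.U62Cov
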