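import Cfsg.Agent.Lib.Helper5.U62CovData
import Cfsg.Agent.Lib.helper23.PgX
import Cfsg.Agent.Lib.helper23.PgH

set_option autoImplicit false
set_option maxRecDepth 1000000
set_option Elab.async false

/-! the covering group of the unitary group of degree six over four elements, on 8404 points: the checks of the stabiliser chain (generated), part 33. -/

namespace Cfsg.Agent.Lib.Helper5.U62Cov

open Cfsg.Agent.Lib.helper23 Subgroup MulAction
theorem wccl1x0c480s0 : pgChkGenW 8404 (List.range 8404) wcL1 [wcL2, wcL3, wcL4, wcL5, wcL6, wcL7, wcL8, wcL9, wcL10]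
    (wcgen wcT1x0 wcI1x0) 480 2 = true := by
  decide +kernel

theorem wccl1x0c480s1 : pgChkGenW 8404 (List.range 8404) wcL1 [wcL2, wcL3, wcL4, wcL5, wcL6, wcL7, wcL8, wcL9, wcL10]
    (wcgen wcT1x0 wcI1x0) 482 2 = true := by
  decide +kernel

theorem wccl1x0c480s2 : pgChkGenW 8404 (List.range 8404) wcL1 [wcL2, wcL3, wcL4, wcL5, wcL6, wcL7, wcL8, wcL9, wcL10]
    (wcgen wcT1x0 wcI1x0) 484 2 = true := by
  decide +kernel

theorem wccl1x0c480s3 : pgChkGenW 8404 (List.range 8404) wcL1 [wcL2, wcL3, wcL4, wcL5, wcL6, wcL7, wcL8, wcL9, wcL10]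
    (wcgen wcT1x0 wcI1x0) 486 2 = true := by
  decide +kernel

theorem wccl1x0c480s4 : pgChkGenW 8404 (List.range 8404) wcL1 [wcL2, wcL3, wcL4, wcL5, wcL6, wcL7, wcL8, wcL9, wcL10]
    (wcgen wcT1x0 wcI1x0) 488 2 = true := by
  decide +kernel

theorem wccl1x0c480s5 : pgChkGenW 8404 (List.range 8404) wcL1 [wcL2, wcL3, wcL4, wcL5, wcL6, wcL7, wcL8, wcL9, wcL10]
    (wcgen wcT1x0 wcI1x0) 490 2 = true := by
  decide +kernel

theorem wccl1x0c480 : pgChkGenW 8404 (List.range 8404) wcL1 [wcL2, wcL3, wcL4, wcL5, wcL6, wcL7, wcL8, wcL9, wcL10]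
    (wcgen wcT1x0 wcI1x0) 480 12 = true :=
  pgChkGenW_append (lo := 480) (c1 := 10) (c2 := 2) (pgChkGenW_append (lo := 480) (c1 := 8) (c2 := 2) (pgChkGenW_append (lo := 480) (c1 := 6) (c2 := 2) (pgChkGenW_append (lo := 480) (c1 := 4) (c2 := 2) (pgChkGenW_append (lo := 480) (c1 := 2) (c2 := 2) (wccl1x0c480s0) wccl1x0c480s1) wccl1x0c480s2) wccl1x0c480s3) wccl1x0c480s4) wccl1x0c480s5

theorem wccl1x0c492s0 : pgChkGenW 8404 (List.range 8404) wcL1 [wcL2, wcL3, wcL4, wcL5, wcL6, wcL7, wcL8, wcL9, wcL10]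
    (wcgen wcT1x0 wcI1x0) 492 2 = true := by
  decide +kernel

theorem wccl1x0c492s1 : pgChkGenW 8404 (List.range 8404) wcL1 [wcL2, wcL3, wcL4, wcL5, wcL6, wcL7, wcL8, wcL9, wcL10]
    (wcgen wcT1x0 wcI1x0) 494 2 = true := by
  decide +kernel

theorem wccl1x0c492s2 : pgChkGenW 8404 (List.range 8404) wcL1 [wcL2, wcL3, wcL4, wcL5, wcL6, wcL7, wcL8, wcL9, wcL10]
    (wcgen wcT1x0 wcI1x0) 496 2 = true := by
  decide +kernel

theorem wccl1x0c492s3 : pgChkGenW 8404 (List.range 8404) wcL1 [wcL2, wcL3, wcL4, wcL5, wcL6, wcL7, wcL8, wcL9, wcL10]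
    (wcgen wcT1x0 wcI1x0) 498 2 = true := by
  decide +kernel

theorem wccl1x0c492s4 : pgChkGenW 8404 (List.range 8404) wcL1 [wcL2, wcL3, wcL4, wcL5, wcL6, wcL7, wcL8, wcL9, wcL10]
    (wcgen wcT1x0 wcI1x0) 500 2 = true := by
  decide +kernel

theorem wccl1x0c492s5 : pgChkGenW 8404 (List.range 8404) wcL1 [wcL2, wcL3, wcL4, wcL5, wcL6, wcL7, wcL8, wcL9, wcL10]
    (wcgen wcT1x0 wcI1x0) 502 2 = true := by
  decide +kernel

theorem wccl1x0c492 : pgChkGenW 8404 (List.range 8404) wcL1 [wcL2, wcL3, wcL4, wcL5, wcL6, wcL7, wcL8, wcL9, wcL10]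
    (wcgen wcT1x0 wcI1x0) 492 12 = true :=
  pgChkGenW_append (lo := 492) (c1 := 10) (c2 := 2) (pgChkGenW_append (lo := 492) (c1 := 8) (c2 := 2) (pgChkGenW_append (lo := 492) (c1 := 6) (c2 := 2) (pgChkGenW_append (lo := 492) (c1 := 4) (c2 := 2) (pgChkGenW_append (lo := 492) (c1 := 2) (c2 := 2) (wccl1x0c492s0) wccl1x0c492s1) wccl1x0c492s2) wccl1x0c492s3) wccl1x0c492s4) wccl1x0c492s5

theorem wccl1x0c504s0 : pgChkGenW 8404 (List.range 8404) wcL1 [wcL2, wcL3, wcL4, wcL5, wcL6, wcL7, wcL8, wcL9, wcL10]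
    (wcgen wcT1x0 wcI1x0) 504 2 = true := by
  decide +kernel

theorem wccl1x0c504s1 : pgChkGenW 8404 (List.range 8404) wcL1 [wcL2, wcL3, wcL4, wcL5, wcL6, wcL7, wcL8, wcL9, wcL10]
    (wcgen wcT1x0 wcI1x0) 506 2 = true := by
  decide +kernel

theorem wccl1x0c504s2 : pgChkGenW 8404 (List.range 8404) wcL1 [wcL2, wcL3, wcL4, wcL5, wcL6, wcL7, wcL8, wcL9, wcL10]
    (wcgen wcT1x0 wcI1x0) 508 2 = true := by
  decide +kernel

theorem wccl1x0c504s3 : pgChkGenW 8404 (List.range 8404) wcL1 [wcL2, wcL3, wcL4, wcL5, wcL6, wcL7, wcL8, wcL9, wcL10]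
    (wcgen wcT1x0 wcI1x0) 510 2 = true := by
  decide +kernel

theorem wccl1x0c504s4 : pgChkGenW 8404 (List.range 8404) wcL1 [wcL2, wcL3, wcL4, wcL5, wcL6, wcL7, wcL8, wcL9, wcL10]
    (wcgen wcT1x0 wcI1x0) 512 2 = true := by
  decide +kernel

theorem wccl1x0c504s5 : pgChkGenW 8404 (List.range 8404) wcL1 [wcL2, wcL3, wcL4, wcL5, wcL6, wcL7, wcL8, wcL9, wcL10]
    (wcgen wcT1x0 wcI1x0) 514 2 = true := by
  decide +kernel

theorem wccl1x0c504 : pgChkGenW 8404 (List.range 8404) wcL1 [wcL2, wcL3, wcL4, wcL5, wcL6, wcL7, wcL8, wcL9, wcL10]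
    (wcgen wcT1x0 wcI1x0) 504 12 = true :=
  pgChkGenW_append (lo := 504) (c1 := 10) (c2 := 2) (pgChkGenW_append (lo := 504) (c1 := 8) (c2 := 2) (pgChkGenW_append (lo := 504) (c1 := 6) (c2 := 2) (pgChkGenW_append (lo := 504) (c1 := 4) (c2 := 2) (pgChkGenW_append (lo := 504) (c1 := 2) (c2 := 2) (wccl1x0c504s0) wccl1x0c504s1) wccl1x0c504s2) wccl1x0c504s3) wccl1x0c504s4) wccl1x0c504s5

theorem wccl1x0c516s0 : pgChkGenW 8404 (List.range 8404) wcL1 [wcL2, wcL3, wcL4, wcL5, wcL6, wcL7, wcL8, wcL9, wcL10]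
    (wcgen wcT1x0 wcI1x0) 516 2 = true := by
  decide +kernel

theorem wccl1x0c516s1 : pgChkGenW 8404 (List.range 8404) wcL1 [wcL2, wcL3, wcL4, wcL5, wcL6, wcL7, wcL8, wcL9, wcL10]
    (wcgen wcT1x0 wcI1x0) 518 2 = true := by
  decide +kernel

theorem wccl1x0c516s2 : pgChkGenW 8404 (List.range 8404) wcL1 [wcL2, wcL3, wcL4, wcL5, wcL6, wcL7, wcL8, wcL9, wcL10]
    (wcgen wcT1x0 wcI1x0) 520 2 = true := by
  decide +kernel

theorem wccl1x0c516s3 : pgChkGenW 8404 (List.range 8404) wcL1 [wcL2, wcL3, wcL4, wcL5, wcL6, wcL7, wcL8, wcL9, wcL10]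
    (wcgen wcT1x0 wcI1x0) 522 2 = true := by
  decide +kernel

theorem wccl1x0c516s4 : pgChkGenW 8404 (List.range 8404) wcL1 [wcL2, wcL3, wcL4, wcL5, wcL6, wcL7, wcL8, wcL9, wcL10]
    (wcgen wcT1x0 wcI1x0) 524 2 = true := by
  decide +kernel

theorem wccl1x0c516s5 : pgChkGenW 8404 (List.range 8404) wcL1 [wcL2, wcL3, wcL4, wcL5, wcL6, wcL7, wcL8, wcL9, wcL10]
    (wcgen wcT1x0 wcI1x0) 526 2 = true := by
  decide +kernel

theorem wccl1x0c516 : pgChkGenW 8404 (List.range 8404) wcL1 [wcL2, wcL3, wcL4, wcL5, wcL6, wcL7, wcL8, wcL9, wcL10]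
    (wcgen wcT1x0 wcI1x0) 516 12 = true :=
  pgChkGenW_append (lo := 516) (c1 := 10) (c2 := 2) (pgChkGenW_append (lo := 516) (c1 := 8) (c2 := 2) (pgChkGenW_append (lo := 516) (c1 := 6) (c2 := 2) (pgChkGenW_append (lo := 516) (c1 := 4) (c2 := 2) (pgChkGenW_append (lo := 516) (c1 := 2) (c2 := 2) (wccl1x0c516s0) wccl1x0c516s1) wccl1x0c516s2) wccl1x0c516s3) wccl1x0c516s4) wccl1x0c516s5

end Cfsg.Agent.Lib.Helper5.U62Cov
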