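import Cfsg.Agent.Lib.Helper5.U62CovData
import Cfsg.Agent.Lib.helper23.PgX
import Cfsg.Agent.Lib.helper23.PgH

set_option autoImplicit false
set_option maxRecDepth 1000000
set_option Elab.async false

/-! the covering group of the unitary group of degree six over four elements, on 8404 points: the checks of the stabiliser chain (generated), part 34. -/

namespace Cfsg.Agent.Lib.Helper5.U62Cov

open Cfsg.Agent.Lib.helper23 Subgroup MulAction
theorem wccl1x0c528s0 : pgChkGenW 8404 (List.range 8404) wcL1 [wcL2, wcL3, wcL4, wcL5, wcL6, wcL7, wcL8, wcL9, wcL10]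
    (wcgen wcT1x0 wcI1x0) 528 2 = true := by
  decide +kernel

theorem wccl1x0c528s1 : pgChkGenW 8404 (List.range 8404) wcL1 [wcL2, wcL3, wcL4, wcL5, wcL6, wcL7, wcL8, wcL9, wcL10]
    (wcgen wcT1x0 wcI1x0) 530 2 = true := by
  decide +kernel

theorem wccl1x0c528s2 : pgChkGenW 8404 (List.range 8404) wcL1 [wcL2, wcL3, wcL4, wcL5, wcL6, wcL7, wcL8, wcL9, wcL10]
    (wcgen wcT1x0 wcI1x0) 532 2 = true := by
  decide +kernel

theorem wccl1x0c528s3 : pgChkGenW 8404 (List.range 8404) wcL1 [wcL2, wcL3, wcL4, wcL5, wcL6, wcL7, wcL8, wcL9, wcL10]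
    (wcgen wcT1x0 wcI1x0) 534 2 = true := by
  decide +kernel

theorem wccl1x0c528s4 : pgChkGenW 8404 (List.range 8404) wcL1 [wcL2, wcL3, wcL4, wcL5, wcL6, wcL7, wcL8, wcL9, wcL10]
    (wcgen wcT1x0 wcI1x0) 536 2 = true := by
  decide +kernel

theorem wccl1x0c528s5 : pgChkGenW 8404 (List.range 8404) wcL1 [wcL2, wcL3, wcL4, wcL5, wcL6, wcL7, wcL8, wcL9, wcL10]
    (wcgen wcT1x0 wcI1x0) 538 2 = true := by
  decide +kernel

theorem wccl1x0c528 : pgChkGenW 8404 (List.range 8404) wcL1 [wcL2, wcL3, wcL4, wcL5, wcL6, wcL7, wcL8, wcL9, wcL10]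
    (wcgen wcT1x0 wcI1x0) 528 12 = true :=
  pgChkGenW_append (lo := 528) (c1 := 10) (c2 := 2) (pgChkGenW_append (lo := 528) (c1 := 8) (c2 := 2) (pgChkGenW_append (lo := 528) (c1 := 6) (c2 := 2) (pgChkGenW_append (lo := 528) (c1 := 4) (c2 := 2) (pgChkGenW_append (lo := 528) (c1 := 2) (c2 := 2) (wccl1x0c528s0) wccl1x0c528s1) wccl1x0c528s2) wccl1x0c528s3) wccl1x0c528s4) wccl1x0c528s5

theorem wccl1x0c540s0 : pgChkGenW 8404 (List.range 8404) wcL1 [wcL2, wcL3, wcL4, wcL5, wcL6, wcL7, wcL8, wcL9, wcL10]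
    (wcgen wcT1x0 wcI1x0) 540 2 = true := by
  decide +kernel

theorem wccl1x0c540s1 : pgChkGenW 8404 (List.range 8404) wcL1 [wcL2, wcL3, wcL4, wcL5, wcL6, wcL7, wcL8, wcL9, wcL10]
    (wcgen wcT1x0 wcI1x0) 542 2 = true := by
  decide +kernel

theorem wccl1x0c540s2 : pgChkGenW 8404 (List.range 8404) wcL1 [wcL2, wcL3, wcL4, wcL5, wcL6, wcL7, wcL8, wcL9, wcL10]
    (wcgen wcT1x0 wcI1x0) 544 2 = true := by
  decide +kernel

theorem wccl1x0c540s3 : pgChkGenW 8404 (List.range 8404) wcL1 [wcL2, wcL3, wcL4, wcL5, wcL6, wcL7, wcL8, wcL9, wcL10]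
    (wcgen wcT1x0 wcI1x0) 546 2 = true := by
  decide +kernel

theorem wccl1x0c540s4 : pgChkGenW 8404 (List.range 8404) wcL1 [wcL2, wcL3, wcL4, wcL5, wcL6, wcL7, wcL8, wcL9, wcL10]
    (wcgen wcT1x0 wcI1x0) 548 2 = true := by
  decide +kernel

theorem wccl1x0c540s5 : pgChkGenW 8404 (List.range 8404) wcL1 [wcL2, wcL3, wcL4, wcL5, wcL6, wcL7, wcL8, wcL9, wcL10]
    (wcgen wcT1x0 wcI1x0) 550 2 = true := by
  decide +kernel

theorem wccl1x0c540 : pgChkGenW 8404 (List.range 8404) wcL1 [wcL2, wcL3, wcL4, wcL5, wcL6, wcL7, wcL8, wcL9, wcL10]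
    (wcgen wcT1x0 wcI1x0) 540 12 = true :=
  pgChkGenW_append (lo := 540) (c1 := 10) (c2 := 2) (pgChkGenW_append (lo := 540) (c1 := 8) (c2 := 2) (pgChkGenW_append (lo := 540) (c1 := 6) (c2 := 2) (pgChkGenW_append (lo := 540) (c1 := 4) (c2 := 2) (pgChkGenW_append (lo := 540) (c1 := 2) (c2 := 2) (wccl1x0c540s0) wccl1x0c540s1) wccl1x0c540s2) wccl1x0c540s3) wccl1x0c540s4) wccl1x0c540s5

theorem wccl1x0c552s0 : pgChkGenW 8404 (List.range 8404) wcL1 [wcL2, wcL3, wcL4, wcL5, wcL6, wcL7, wcL8, wcL9, wcL10]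
    (wcgen wcT1x0 wcI1x0) 552 2 = true := by
  decide +kernel

theorem wccl1x0c552s1 : pgChkGenW 8404 (List.range 8404) wcL1 [wcL2, wcL3, wcL4, wcL5, wcL6, wcL7, wcL8, wcL9, wcL10]
    (wcgen wcT1x0 wcI1x0) 554 2 = true := by
  decide +kernel

theorem wccl1x0c552s2 : pgChkGenW 8404 (List.range 8404) wcL1 [wcL2, wcL3, wcL4, wcL5, wcL6, wcL7, wcL8, wcL9, wcL10]
    (wcgen wcT1x0 wcI1x0) 556 2 = true := by
  decide +kernel

theorem wccl1x0c552s3 : pgChkGenW 8404 (List.range 8404) wcL1 [wcL2, wcL3, wcL4, wcL5, wcL6, wcL7, wcL8, wcL9, wcL10]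
    (wcgen wcT1x0 wcI1x0) 558 2 = true := by
  decide +kernel

theorem wccl1x0c552s4 : pgChkGenW 8404 (List.range 8404) wcL1 [wcL2, wcL3, wcL4, wcL5, wcL6, wcL7, wcL8, wcL9, wcL10]
    (wcgen wcT1x0 wcI1x0) 560 2 = true := by
  decide +kernel

theorem wccl1x0c552s5 : pgChkGenW 8404 (List.range 8404) wcL1 [wcL2, wcL3, wcL4, wcL5, wcL6, wcL7, wcL8, wcL9, wcL10]
    (wcgen wcT1x0 wcI1x0) 562 2 = true := by
  decide +kernel

theorem wccl1x0c552 : pgChkGenW 8404 (List.range 8404) wcL1 [wcL2, wcL3, wcL4, wcL5, wcL6, wcL7, wcL8, wcL9, wcL10]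
    (wcgen wcT1x0 wcI1x0) 552 12 = true :=
  pgChkGenW_append (lo := 552) (c1 := 10) (c2 := 2) (pgChkGenW_append (lo := 552) (c1 := 8) (c2 := 2) (pgChkGenW_append (lo := 552) (c1 := 6) (c2 := 2) (pgChkGenW_append (lo := 552) (c1 := 4) (c2 := 2) (pgChkGenW_append (lo := 552) (c1 := 2) (c2 := 2) (wccl1x0c552s0) wccl1x0c552s1) wccl1x0c552s2) wccl1x0c552s3) wccl1x0c552s4) wccl1x0c552s5

theorem wccl1x0c564s0 : pgChkGenW 8404 (List.range 8404) wcL1 [wcL2, wcL3, wcL4, wcL5, wcL6, wcL7, wcL8, wcL9, wcL10]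
    (wcgen wcT1x0 wcI1x0) 564 2 = true := by
  decide +kernel

theorem wccl1x0c564s1 : pgChkGenW 8404 (List.range 8404) wcL1 [wcL2, wcL3, wcL4, wcL5, wcL6, wcL7, wcL8, wcL9, wcL10]
    (wcgen wcT1x0 wcI1x0) 566 2 = true := by
  decide +kernel

theorem wccl1x0c564s2 : pgChkGenW 8404 (List.range 8404) wcL1 [wcL2, wcL3, wcL4, wcL5, wcL6, wcL7, wcL8, wcL9, wcL10]
    (wcgen wcT1x0 wcI1x0) 568 2 = true := by
  decide +kernel

theorem wccl1x0c564s3 : pgChkGenW 8404 (List.range 8404) wcL1 [wcL2, wcL3, wcL4, wcL5, wcL6, wcL7, wcL8, wcL9, wcL10]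
    (wcgen wcT1x0 wcI1x0) 570 2 = true := by
  decide +kernel

theorem wccl1x0c564s4 : pgChkGenW 8404 (List.range 8404) wcL1 [wcL2, wcL3, wcL4, wcL5, wcL6, wcL7, wcL8, wcL9, wcL10]
    (wcgen wcT1x0 wcI1x0) 572 2 = true := by
  decide +kernel

theorem wccl1x0c564s5 : pgChkGenW 8404 (List.range 8404) wcL1 [wcL2, wcL3, wcL4, wcL5, wcL6, wcL7, wcL8, wcL9, wcL10]
    (wcgen wcT1x0 wcI1x0) 574 2 = true := by
  decide +kernel

theorem wccl1x0c564 : pgChkGenW 8404 (List.range 8404) wcL1 [wcL2, wcL3, wcL4, wcL5, wcL6, wcL7, wcL8, wcL9, wcL10]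
    (wcgen wcT1x0 wcI1x0) 564 12 = true :=
  pgChkGenW_append (lo := 564) (c1 := 10) (c2 := 2) (pgChkGenW_append (lo := 564) (c1 := 8) (c2 := 2) (pgChkGenW_append (lo := 564) (c1 := 6) (c2 := 2) (pgChkGenW_append (lo := 564) (c1 := 4) (c2 := 2) (pgChkGenW_append (lo := 564) (c1 := 2) (c2 := 2) (wccl1x0c564s0) wccl1x0c564s1) wccl1x0c564s2) wccl1x0c564s3) wccl1x0c564s4) wccl1x0c564s5

end Cfsg.Agent.Lib.Helper5.U62Cov
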