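import Cfsg.Agent.Lib.Helper5.U62CovData
import Cfsg.Agent.Lib.helper23.PgX
import Cfsg.Agent.Lib.helper23.PgH

set_option autoImplicit false
set_option maxRecDepth 1000000
set_option Elab.async false

/-! the covering group of the unitary group of degree six over four elements, on 8404 points: the checks of the stabiliser chain (generated), part 35. -/

namespace Cfsg.Agent.Lib.Helper5.U62Cov

open Cfsg.Agent.Lib.helper23 Subgroup MulAction
theorem wccl1x0c576s0 : pgChkGenW 8404 (List.range 8404) wcL1 [wcL2, wcL3, wcL4, wcL5, wcL6, wcL7, wcL8, wcL9, wcL10]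
    (wcgen wcT1x0 wcI1x0) 576 2 = true := by
  decide +kernel

theorem wccl1x0c576s1 : pgChkGenW 8404 (List.range 8404) wcL1 [wcL2, wcL3, wcL4, wcL5, wcL6, wcL7, wcL8, wcL9, wcL10]
    (wcgen wcT1x0 wcI1x0) 578 2 = true := by
  decide +kernel

theorem wccl1x0c576s2 : pgChkGenW 8404 (List.range 8404) wcL1 [wcL2, wcL3, wcL4, wcL5, wcL6, wcL7, wcL8, wcL9, wcL10]
    (wcgen wcT1x0 wcI1x0) 580 2 = true := by
  decide +kernel

theorem wccl1x0c576s3 : pgChkGenW 8404 (List.range 8404) wcL1 [wcL2, wcL3, wcL4, wcL5, wcL6, wcL7, wcL8, wcL9, wcL10]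
    (wcgen wcT1x0 wcI1x0) 582 2 = true := by
  decide +kernel

theorem wccl1x0c576s4 : pgChkGenW 8404 (List.range 8404) wcL1 [wcL2, wcL3, wcL4, wcL5, wcL6, wcL7, wcL8, wcL9, wcL10]
    (wcgen wcT1x0 wcI1x0) 584 2 = true := by
  decide +kernel

theorem wccl1x0c576s5 : pgChkGenW 8404 (List.range 8404) wcL1 [wcL2, wcL3, wcL4, wcL5, wcL6, wcL7, wcL8, wcL9, wcL10]
    (wcgen wcT1x0 wcI1x0) 586 2 = true := by
  decide +kernel

theorem wccl1x0c576 : pgChkGenW 8404 (List.range 8404) wcL1 [wcL2, wcL3, wcL4, wcL5, wcL6, wcL7, wcL8, wcL9, wcL10]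
    (wcgen wcT1x0 wcI1x0) 576 12 = true :=
  pgChkGenW_append (lo := 576) (c1 := 10) (c2 := 2) (pgChkGenW_append (lo := 576) (c1 := 8) (c2 := 2) (pgChkGenW_append (lo := 576) (c1 := 6) (c2 := 2) (pgChkGenW_append (lo := 576) (c1 := 4) (c2 := 2) (pgChkGenW_append (lo := 576) (c1 := 2) (c2 := 2) (wccl1x0c576s0) wccl1x0c576s1) wccl1x0c576s2) wccl1x0c576s3) wccl1x0c576s4) wccl1x0c576s5

theorem wccl1x0c588s0 : pgChkGenW 8404 (List.range 8404) wcL1 [wcL2, wcL3, wcL4, wcL5, wcL6, wcL7, wcL8, wcL9, wcL10]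
    (wcgen wcT1x0 wcI1x0) 588 2 = true := by
  decide +kernel

theorem wccl1x0c588s1 : pgChkGenW 8404 (List.range 8404) wcL1 [wcL2, wcL3, wcL4, wcL5, wcL6, wcL7, wcL8, wcL9, wcL10]
    (wcgen wcT1x0 wcI1x0) 590 2 = true := by
  decide +kernel

theorem wccl1x0c588s2 : pgChkGenW 8404 (List.range 8404) wcL1 [wcL2, wcL3, wcL4, wcL5, wcL6, wcL7, wcL8, wcL9, wcL10]
    (wcgen wcT1x0 wcI1x0) 592 2 = true := by
  decide +kernel

theorem wccl1x0c588s3 : pgChkGenW 8404 (List.range 8404) wcL1 [wcL2, wcL3, wcL4, wcL5, wcL6, wcL7, wcL8, wcL9, wcL10]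
    (wcgen wcT1x0 wcI1x0) 594 2 = true := by
  decide +kernel

theorem wccl1x0c588s4 : pgChkGenW 8404 (List.range 8404) wcL1 [wcL2, wcL3, wcL4, wcL5, wcL6, wcL7, wcL8, wcL9, wcL10]
    (wcgen wcT1x0 wcI1x0) 596 2 = true := by
  decide +kernel

theorem wccl1x0c588s5 : pgChkGenW 8404 (List.range 8404) wcL1 [wcL2, wcL3, wcL4, wcL5, wcL6, wcL7, wcL8, wcL9, wcL10]
    (wcgen wcT1x0 wcI1x0) 598 2 = true := by
  decide +kernel

theorem wccl1x0c588 : pgChkGenW 8404 (List.range 8404) wcL1 [wcL2, wcL3, wcL4, wcL5, wcL6, wcL7, wcL8, wcL9, wcL10]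
    (wcgen wcT1x0 wcI1x0) 588 12 = true :=
  pgChkGenW_append (lo := 588) (c1 := 10) (c2 := 2) (pgChkGenW_append (lo := 588) (c1 := 8) (c2 := 2) (pgChkGenW_append (lo := 588) (c1 := 6) (c2 := 2) (pgChkGenW_append (lo := 588) (c1 := 4) (c2 := 2) (pgChkGenW_append (lo := 588) (c1 := 2) (c2 := 2) (wccl1x0c588s0) wccl1x0c588s1) wccl1x0c588s2) wccl1x0c588s3) wccl1x0c588s4) wccl1x0c588s5

theorem wccl1x0c600s0 : pgChkGenW 8404 (List.range 8404) wcL1 [wcL2, wcL3, wcL4, wcL5, wcL6, wcL7, wcL8, wcL9, wcL10]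
    (wcgen wcT1x0 wcI1x0) 600 2 = true := by
  decide +kernel

theorem wccl1x0c600s1 : pgChkGenW 8404 (List.range 8404) wcL1 [wcL2, wcL3, wcL4, wcL5, wcL6, wcL7, wcL8, wcL9, wcL10]
    (wcgen wcT1x0 wcI1x0) 602 2 = true := by
  decide +kernel

theorem wccl1x0c600s2 : pgChkGenW 8404 (List.range 8404) wcL1 [wcL2, wcL3, wcL4, wcL5, wcL6, wcL7, wcL8, wcL9, wcL10]
    (wcgen wcT1x0 wcI1x0) 604 2 = true := by
  decide +kernel

theorem wccl1x0c600s3 : pgChkGenW 8404 (List.range 8404) wcL1 [wcL2, wcL3, wcL4, wcL5, wcL6, wcL7, wcL8, wcL9, wcL10]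
    (wcgen wcT1x0 wcI1x0) 606 2 = true := by
  decide +kernel

theorem wccl1x0c600s4 : pgChkGenW 8404 (List.range 8404) wcL1 [wcL2, wcL3, wcL4, wcL5, wcL6, wcL7, wcL8, wcL9, wcL10]
    (wcgen wcT1x0 wcI1x0) 608 2 = true := by
  decide +kernel

theorem wccl1x0c600s5 : pgChkGenW 8404 (List.range 8404) wcL1 [wcL2, wcL3, wcL4, wcL5, wcL6, wcL7, wcL8, wcL9, wcL10]
    (wcgen wcT1x0 wcI1x0) 610 2 = true := by
  decide +kernel

theorem wccl1x0c600 : pgChkGenW 8404 (List.range 8404) wcL1 [wcL2, wcL3, wcL4, wcL5, wcL6, wcL7, wcL8, wcL9, wcL10]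
    (wcgen wcT1x0 wcI1x0) 600 12 = true :=
  pgChkGenW_append (lo := 600) (c1 := 10) (c2 := 2) (pgChkGenW_append (lo := 600) (c1 := 8) (c2 := 2) (pgChkGenW_append (lo := 600) (c1 := 6) (c2 := 2) (pgChkGenW_append (lo := 600) (c1 := 4) (c2 := 2) (pgChkGenW_append (lo := 600) (c1 := 2) (c2 := 2) (wccl1x0c600s0) wccl1x0c600s1) wccl1x0c600s2) wccl1x0c600s3) wccl1x0c600s4) wccl1x0c600s5

theorem wccl1x0c612s0 : pgChkGenW 8404 (List.range 8404) wcL1 [wcL2, wcL3, wcL4, wcL5, wcL6, wcL7, wcL8, wcL9, wcL10]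
    (wcgen wcT1x0 wcI1x0) 612 2 = true := by
  decide +kernel

theorem wccl1x0c612s1 : pgChkGenW 8404 (List.range 8404) wcL1 [wcL2, wcL3, wcL4, wcL5, wcL6, wcL7, wcL8, wcL9, wcL10]
    (wcgen wcT1x0 wcI1x0) 614 2 = true := by
  decide +kernel

theorem wccl1x0c612s2 : pgChkGenW 8404 (List.range 8404) wcL1 [wcL2, wcL3, wcL4, wcL5, wcL6, wcL7, wcL8, wcL9, wcL10]
    (wcgen wcT1x0 wcI1x0) 616 2 = true := by
  decide +kernel

theorem wccl1x0c612s3 : pgChkGenW 8404 (List.range 8404) wcL1 [wcL2, wcL3, wcL4, wcL5, wcL6, wcL7, wcL8, wcL9, wcL10]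
    (wcgen wcT1x0 wcI1x0) 618 2 = true := by
  decide +kernel

theorem wccl1x0c612s4 : pgChkGenW 8404 (List.range 8404) wcL1 [wcL2, wcL3, wcL4, wcL5, wcL6, wcL7, wcL8, wcL9, wcL10]
    (wcgen wcT1x0 wcI1x0) 620 2 = true := by
  decide +kernel

theorem wccl1x0c612s5 : pgChkGenW 8404 (List.range 8404) wcL1 [wcL2, wcL3, wcL4, wcL5, wcL6, wcL7, wcL8, wcL9, wcL10]
    (wcgen wcT1x0 wcI1x0) 622 2 = true := by
  decide +kernel

theorem wccl1x0c612 : pgChkGenW 8404 (List.range 8404) wcL1 [wcL2, wcL3, wcL4, wcL5, wcL6, wcL7, wcL8, wcL9, wcL10]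
    (wcgen wcT1x0 wcI1x0) 612 12 = true :=
  pgChkGenW_append (lo := 612) (c1 := 10) (c2 := 2) (pgChkGenW_append (lo := 612) (c1 := 8) (c2 := 2) (pgChkGenW_append (lo := 612) (c1 := 6) (c2 := 2) (pgChkGenW_append (lo := 612) (c1 := 4) (c2 := 2) (pgChkGenW_append (lo := 612) (c1 := 2) (c2 := 2) (wccl1x0c612s0) wccl1x0c612s1) wccl1x0c612s2) wccl1x0c612s3) wccl1x0c612s4) wccl1x0c612s5

end Cfsg.Agent.Lib.Helper5.U62Cov
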