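import Cfsg.Agent.Lib.Helper5.U62CovData
import Cfsg.Agent.Lib.helper23.PgX
import Cfsg.Agent.Lib.helper23.PgH

set_option autoImplicit false
set_option maxRecDepth 1000000
set_option Elab.async false

/-! the covering group of the unitary group of degree six over four elements, on 8404 points: the checks of the stabiliser chain (generated), part 36. -/

namespace Cfsg.Agent.Lib.Helper5.U62Cov

open Cfsg.Agent.Lib.helper23 Subgroup MulAction
theorem wccl1x0c624s0 : pgChkGenW 8404 (List.range 8404) wcL1 [wcL2, wcL3, wcL4, wcL5, wcL6, wcL7, wcL8, wcL9, wcL10]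
    (wcgen wcT1x0 wcI1x0) 624 2 = true := by
  decide +kernel

theorem wccl1x0c624s1 : pgChkGenW 8404 (List.range 8404) wcL1 [wcL2, wcL3, wcL4, wcL5, wcL6, wcL7, wcL8, wcL9, wcL10]
    (wcgen wcT1x0 wcI1x0) 626 2 = true := by
  decide +kernel

theorem wccl1x0c624s2 : pgChkGenW 8404 (List.range 8404) wcL1 [wcL2, wcL3, wcL4, wcL5, wcL6, wcL7, wcL8, wcL9, wcL10]
    (wcgen wcT1x0 wcI1x0) 628 2 = true := by
  decide +kernel

theorem wccl1x0c624s3 : pgChkGenW 8404 (List.range 8404) wcL1 [wcL2, wcL3, wcL4, wcL5, wcL6, wcL7, wcL8, wcL9, wcL10]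
    (wcgen wcT1x0 wcI1x0) 630 2 = true := by
  decide +kernel

theorem wccl1x0c624s4 : pgChkGenW 8404 (List.range 8404) wcL1 [wcL2, wcL3, wcL4, wcL5, wcL6, wcL7, wcL8, wcL9, wcL10]
    (wcgen wcT1x0 wcI1x0) 632 2 = true := by
  decide +kernel

theorem wccl1x0c624s5 : pgChkGenW 8404 (List.range 8404) wcL1 [wcL2, wcL3, wcL4, wcL5, wcL6, wcL7, wcL8, wcL9, wcL10]
    (wcgen wcT1x0 wcI1x0) 634 2 = true := by
  decide +kernel

theorem wccl1x0c624 : pgChkGenW 8404 (List.range 8404) wcL1 [wcL2, wcL3, wcL4, wcL5, wcL6, wcL7, wcL8, wcL9, wcL10]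
    (wcgen wcT1x0 wcI1x0) 624 12 = true :=
  pgChkGenW_append (lo := 624) (c1 := 10) (c2 := 2) (pgChkGenW_append (lo := 624) (c1 := 8) (c2 := 2) (pgChkGenW_append (lo := 624) (c1 := 6) (c2 := 2) (pgChkGenW_append (lo := 624) (c1 := 4) (c2 := 2) (pgChkGenW_append (lo := 624) (c1 := 2) (c2 := 2) (wccl1x0c624s0) wccl1x0c624s1) wccl1x0c624s2) wccl1x0c624s3) wccl1x0c624s4) wccl1x0c624s5

theorem wccl1x0c636s0 : pgChkGenW 8404 (List.range 8404) wcL1 [wcL2, wcL3, wcL4, wcL5, wcL6, wcL7, wcL8, wcL9, wcL10]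
    (wcgen wcT1x0 wcI1x0) 636 2 = true := by
  decide +kernel

theorem wccl1x0c636s1 : pgChkGenW 8404 (List.range 8404) wcL1 [wcL2, wcL3, wcL4, wcL5, wcL6, wcL7, wcL8, wcL9, wcL10]
    (wcgen wcT1x0 wcI1x0) 638 2 = true := by
  decide +kernel

theorem wccl1x0c636s2 : pgChkGenW 8404 (List.range 8404) wcL1 [wcL2, wcL3, wcL4, wcL5, wcL6, wcL7, wcL8, wcL9, wcL10]
    (wcgen wcT1x0 wcI1x0) 640 2 = true := by
  decide +kernel

theorem wccl1x0c636s3 : pgChkGenW 8404 (List.range 8404) wcL1 [wcL2, wcL3, wcL4, wcL5, wcL6, wcL7, wcL8, wcL9, wcL10]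
    (wcgen wcT1x0 wcI1x0) 642 2 = true := by
  decide +kernel

theorem wccl1x0c636s4 : pgChkGenW 8404 (List.range 8404) wcL1 [wcL2, wcL3, wcL4, wcL5, wcL6, wcL7, wcL8, wcL9, wcL10]
    (wcgen wcT1x0 wcI1x0) 644 2 = true := by
  decide +kernel

theorem wccl1x0c636s5 : pgChkGenW 8404 (List.range 8404) wcL1 [wcL2, wcL3, wcL4, wcL5, wcL6, wcL7, wcL8, wcL9, wcL10]
    (wcgen wcT1x0 wcI1x0) 646 2 = true := by
  decide +kernel

theorem wccl1x0c636 : pgChkGenW 8404 (List.range 8404) wcL1 [wcL2, wcL3, wcL4, wcL5, wcL6, wcL7, wcL8, wcL9, wcL10]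
    (wcgen wcT1x0 wcI1x0) 636 12 = true :=
  pgChkGenW_append (lo := 636) (c1 := 10) (c2 := 2) (pgChkGenW_append (lo := 636) (c1 := 8) (c2 := 2) (pgChkGenW_append (lo := 636) (c1 := 6) (c2 := 2) (pgChkGenW_append (lo := 636) (c1 := 4) (c2 := 2) (pgChkGenW_append (lo := 636) (c1 := 2) (c2 := 2) (wccl1x0c636s0) wccl1x0c636s1) wccl1x0c636s2) wccl1x0c636s3) wccl1x0c636s4) wccl1x0c636s5

theorem wccl1x0c648s0 : pgChkGenW 8404 (List.range 8404) wcL1 [wcL2, wcL3, wcL4, wcL5, wcL6, wcL7, wcL8, wcL9, wcL10]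
    (wcgen wcT1x0 wcI1x0) 648 2 = true := by
  decide +kernel

theorem wccl1x0c648s1 : pgChkGenW 8404 (List.range 8404) wcL1 [wcL2, wcL3, wcL4, wcL5, wcL6, wcL7, wcL8, wcL9, wcL10]
    (wcgen wcT1x0 wcI1x0) 650 2 = true := by
  decide +kernel

theorem wccl1x0c648s2 : pgChkGenW 8404 (List.range 8404) wcL1 [wcL2, wcL3, wcL4, wcL5, wcL6, wcL7, wcL8, wcL9, wcL10]
    (wcgen wcT1x0 wcI1x0) 652 2 = true := by
  decide +kernel

theorem wccl1x0c648s3 : pgChkGenW 8404 (List.range 8404) wcL1 [wcL2, wcL3, wcL4, wcL5, wcL6, wcL7, wcL8, wcL9, wcL10]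
    (wcgen wcT1x0 wcI1x0) 654 2 = true := by
  decide +kernel

theorem wccl1x0c648s4 : pgChkGenW 8404 (List.range 8404) wcL1 [wcL2, wcL3, wcL4, wcL5, wcL6, wcL7, wcL8, wcL9, wcL10]
    (wcgen wcT1x0 wcI1x0) 656 2 = true := by
  decide +kernel

theorem wccl1x0c648s5 : pgChkGenW 8404 (List.range 8404) wcL1 [wcL2, wcL3, wcL4, wcL5, wcL6, wcL7, wcL8, wcL9, wcL10]
    (wcgen wcT1x0 wcI1x0) 658 2 = true := by
  decide +kernel

theorem wccl1x0c648 : pgChkGenW 8404 (List.range 8404) wcL1 [wcL2, wcL3, wcL4, wcL5, wcL6, wcL7, wcL8, wcL9, wcL10]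
    (wcgen wcT1x0 wcI1x0) 648 12 = true :=
  pgChkGenW_append (lo := 648) (c1 := 10) (c2 := 2) (pgChkGenW_append (lo := 648) (c1 := 8) (c2 := 2) (pgChkGenW_append (lo := 648) (c1 := 6) (c2 := 2) (pgChkGenW_append (lo := 648) (c1 := 4) (c2 := 2) (pgChkGenW_append (lo := 648) (c1 := 2) (c2 := 2) (wccl1x0c648s0) wccl1x0c648s1) wccl1x0c648s2) wccl1x0c648s3) wccl1x0c648s4) wccl1x0c648s5

theorem wccl1x0c660s0 : pgChkGenW 8404 (List.range 8404) wcL1 [wcL2, wcL3, wcL4, wcL5, wcL6, wcL7, wcL8, wcL9, wcL10]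
    (wcgen wcT1x0 wcI1x0) 660 2 = true := by
  decide +kernel

theorem wccl1x0c660s1 : pgChkGenW 8404 (List.range 8404) wcL1 [wcL2, wcL3, wcL4, wcL5, wcL6, wcL7, wcL8, wcL9, wcL10]
    (wcgen wcT1x0 wcI1x0) 662 2 = true := by
  decide +kernel

theorem wccl1x0c660s2 : pgChkGenW 8404 (List.range 8404) wcL1 [wcL2, wcL3, wcL4, wcL5, wcL6, wcL7, wcL8, wcL9, wcL10]
    (wcgen wcT1x0 wcI1x0) 664 2 = true := by
  decide +kernel

theorem wccl1x0c660s3 : pgChkGenW 8404 (List.range 8404) wcL1 [wcL2, wcL3, wcL4, wcL5, wcL6, wcL7, wcL8, wcL9, wcL10]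
    (wcgen wcT1x0 wcI1x0) 666 2 = true := by
  decide +kernel

theorem wccl1x0c660s4 : pgChkGenW 8404 (List.range 8404) wcL1 [wcL2, wcL3, wcL4, wcL5, wcL6, wcL7, wcL8, wcL9, wcL10]
    (wcgen wcT1x0 wcI1x0) 668 2 = true := by
  decide +kernel

theorem wccl1x0c660s5 : pgChkGenW 8404 (List.range 8404) wcL1 [wcL2, wcL3, wcL4, wcL5, wcL6, wcL7, wcL8, wcL9, wcL10]
    (wcgen wcT1x0 wcI1x0) 670 2 = true := by
  decide +kernel

theorem wccl1x0c660 : pgChkGenW 8404 (List.range 8404) wcL1 [wcL2, wcL3, wcL4, wcL5, wcL6, wcL7, wcL8, wcL9, wcL10]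
    (wcgen wcT1x0 wcI1x0) 660 12 = true :=
  pgChkGenW_append (lo := 660) (c1 := 10) (c2 := 2) (pgChkGenW_append (lo := 660) (c1 := 8) (c2 := 2) (pgChkGenW_append (lo := 660) (c1 := 6) (c2 := 2) (pgChkGenW_append (lo := 660) (c1 := 4) (c2 := 2) (pgChkGenW_append (lo := 660) (c1 := 2) (c2 := 2) (wccl1x0c660s0) wccl1x0c660s1) wccl1x0c660s2) wccl1x0c660s3) wccl1x0c660s4) wccl1x0c660s5

end Cfsg.Agent.Lib.Helper5.U62Cov
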