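import Cfsg.Agent.Lib.Helper5.U62CovData
import Cfsg.Agent.Lib.helper23.PgX
import Cfsg.Agent.Lib.helper23.PgH

set_option autoImplicit false
set_option maxRecDepth 1000000
set_option Elab.async false

/-! the covering group of the unitary group of degree six over four elements, on 8404 points: the checks of the stabiliser chain (generated), part 37. -/

namespace Cfsg.Agent.Lib.Helper5.U62Cov

open Cfsg.Agent.Lib.helper23 Subgroup MulAction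
theorem wccl1x0c672s0 : pgChkGenW 8404 (List.range 8404) wcL1 [wcL2, wcL3, wcL4, wcL5, wcL6, wcL7, wcL8, wcL9, wcL10]
    (wcgen wcT1x0 wcI1x0) 672 2 = true := by
  decide +kernel

theorem wccl1x0c672s1 : pgChkGenW 8404 (List.range 8404) wcL1 [wcL2, wcL3, wcL4, wcL5, wcL6, wcL7, wcL8, wcL9, wcL10]
    (wcgen wcT1x0 wcI1x0) 674 2 = true := by
  decide +kernel

theorem wccl1x0c672s2 : pgChkGenW 8404 (List.range 8404) wcL1 [wcL2, wcL3, wcL4, wcL5, wcL6, wcL7, wcL8, wcL9, wcL10]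
    (wcgen wcT1x0 wcI1x0) 676 2 = true := by
  decide +kernel

theorem wccl1x0c672s3 : pgChkGenW 8404 (List.range 8404) wcL1 [wcL2, wcL3, wcL4, wcL5, wcL6, wcL7, wcL8, wcL9, wcL10]
    (wcgen wcT1x0 wcI1x0) 678 2 = true := by
  decide +kernel

theorem wccl1x0c672s4 : pgChkGenW 8404 (List.range 8404) wcL1 [wcL2, wcL3, wcL4, wcL5, wcL6, wcL7, wcL8, wcL9, wcL10]
    (wcgen wcT1x0 wcI1x0) 680 2 = true := by
  decide +kernel

theorem wccl1x0c672s5 : pgChkGenW 8404 (List.range 8404) wcL1 [wcL2, wcL3, wcL4, wcL5, wcL6, wcL7, wcL8, wcL9, wcL10]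
    (wcgen wcT1x0 wcI1x0) 682 2 = true := by
  decide +kernel

theorem wccl1x0c672 : pgChkGenW 8404 (List.range 8404) wcL1 [wcL2, wcL3, wcL4, wcL5, wcL6, wcL7, wcL8, wcL9, wcL10]
    (wcgen wcT1x0 wcI1x0) 672 12 = true :=
  pgChkGenW_append (lo := 672) (c1 := 10) (c2 := 2) (pgChkGenW_append (lo := 672) (c1 := 8) (c2 := 2) (pgChkGenW_append (lo := 672) (c1 := 6) (c2 := 2) (pgChkGenW_append (lo := 672) (c1 := 4) (c2 := 2) (pgChkGenW_append (lo := 672) (c1 := 2) (c2 := 2) (wccl1x0c672s0) wccl1x0c672s1) wccl1x0c672s2) wccl1x0c672s3) wccl1x0c672s4) wccl1x0c672s5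

theorem wccl1x0c684s0 : pgChkGenW 8404 (List.range 8404) wcL1 [wcL2, wcL3, wcL4, wcL5, wcL6, wcL7, wcL8, wcL9, wcL10]
    (wcgen wcT1x0 wcI1x0) 684 2 = true := by
  decide +kernel

theorem wccl1x0c684s1 : pgChkGenW 8404 (List.range 8404) wcL1 [wcL2, wcL3, wcL4, wcL5, wcL6, wcL7, wcL8, wcL9, wcL10]
    (wcgen wcT1x0 wcI1x0) 686 2 = true := by
  decide +kernel

theorem wccl1x0c684s2 : pgChkGenW 8404 (List.range 8404) wcL1 [wcL2, wcL3, wcL4, wcL5, wcL6, wcL7, wcL8, wcL9, wcL10]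
    (wcgen wcT1x0 wcI1x0) 688 2 = true := by
  decide +kernel

theorem wccl1x0c684s3 : pgChkGenW 8404 (List.range 8404) wcL1 [wcL2, wcL3, wcL4, wcL5, wcL6, wcL7, wcL8, wcL9, wcL10]
    (wcgen wcT1x0 wcI1x0) 690 2 = true := by
  decide +kernel

theorem wccl1x0c684s4 : pgChkGenW 8404 (List.range 8404) wcL1 [wcL2, wcL3, wcL4, wcL5, wcL6, wcL7, wcL8, wcL9, wcL10]
    (wcgen wcT1x0 wcI1x0) 692 7712 = true := by
  decide +kernel

theorem wccl1x0c684 : pgChkGenW 8404 (List.range 8404) wcL1 [wcL2, wcL3, wcL4, wcL5, wcL6, wcL7, wcL8, wcL9, wcL10]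
    (wcgen wcT1x0 wcI1x0) 684 7720 = true :=
  pgChkGenW_append (lo := 684) (c1 := 8) (c2 := 7712) (pgChkGenW_append (lo := 684) (c1 := 6) (c2 := 2) (pgChkGenW_append (lo := 684) (c1 := 4) (c2 := 2) (pgChkGenW_append (lo := 684) (c1 := 2) (c2 := 2) (wccl1x0c684s0) wccl1x0c684s1) wccl1x0c684s2) wccl1x0c684s3) wccl1x0c684s4

theorem wccl1x1c0s0 : pgChkGenW 8404 (List.range 8404) wcL1 [wcL2, wcL3, wcL4, wcL5, wcL6, wcL7, wcL8, wcL9, wcL10]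
    (wcgen wcT1x1 wcI1x1) 0 2 = true := by
  decide +kernel

theorem wccl1x1c0s1 : pgChkGenW 8404 (List.range 8404) wcL1 [wcL2, wcL3, wcL4, wcL5, wcL6, wcL7, wcL8, wcL9, wcL10]
    (wcgen wcT1x1 wcI1x1) 2 2 = true := by
  decide +kernel

theorem wccl1x1c0s2 : pgChkGenW 8404 (List.range 8404) wcL1 [wcL2, wcL3, wcL4, wcL5, wcL6, wcL7, wcL8, wcL9, wcL10]
    (wcgen wcT1x1 wcI1x1) 4 2 = true := by
  decide +kernel

theorem wccl1x1c0s3 : pgChkGenW 8404 (List.range 8404) wcL1 [wcL2, wcL3, wcL4, wcL5, wcL6, wcL7, wcL8, wcL9, wcL10]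
    (wcgen wcT1x1 wcI1x1) 6 2 = true := by
  decide +kernel

theorem wccl1x1c0s4 : pgChkGenW 8404 (List.range 8404) wcL1 [wcL2, wcL3, wcL4, wcL5, wcL6, wcL7, wcL8, wcL9, wcL10]
    (wcgen wcT1x1 wcI1x1) 8 2 = true := by
  decide +kernel

theorem wccl1x1c0s5 : pgChkGenW 8404 (List.range 8404) wcL1 [wcL2, wcL3, wcL4, wcL5, wcL6, wcL7, wcL8, wcL9, wcL10]
    (wcgen wcT1x1 wcI1x1) 10 2 = true := by
  decide +kernel

theorem wccl1x1c0 : pgChkGenW 8404 (List.range 8404) wcL1 [wcL2, wcL3, wcL4, wcL5, wcL6, wcL7, wcL8, wcL9, wcL10]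
    (wcgen wcT1x1 wcI1x1) 0 12 = true :=
  pgChkGenW_append (lo := 0) (c1 := 10) (c2 := 2) (pgChkGenW_append (lo := 0) (c1 := 8) (c2 := 2) (pgChkGenW_append (lo := 0) (c1 := 6) (c2 := 2) (pgChkGenW_append (lo := 0) (c1 := 4) (c2 := 2) (pgChkGenW_append (lo := 0) (c1 := 2) (c2 := 2) (wccl1x1c0s0) wccl1x1c0s1) wccl1x1c0s2) wccl1x1c0s3) wccl1x1c0s4) wccl1x1c0s5

theorem wccl1x1c12s0 : pgChkGenW 8404 (List.range 8404) wcL1 [wcL2, wcL3, wcL4, wcL5, wcL6, wcL7, wcL8, wcL9, wcL10]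
    (wcgen wcT1x1 wcI1x1) 12 2 = true := by
  decide +kernel

theorem wccl1x1c12s1 : pgChkGenW 8404 (List.range 8404) wcL1 [wcL2, wcL3, wcL4, wcL5, wcL6, wcL7, wcL8, wcL9, wcL10]
    (wcgen wcT1x1 wcI1x1) 14 2 = true := by
  decide +kernel

theorem wccl1x1c12s2 : pgChkGenW 8404 (List.range 8404) wcL1 [wcL2, wcL3, wcL4, wcL5, wcL6, wcL7, wcL8, wcL9, wcL10]
    (wcgen wcT1x1 wcI1x1) 16 2 = true := by
  decide +kernel

theorem wccl1x1c12s3 : pgChkGenW 8404 (List.range 8404) wcL1 [wcL2, wcL3, wcL4, wcL5, wcL6, wcL7, wcL8, wcL9, wcL10]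
    (wcgen wcT1x1 wcI1x1) 18 2 = true := by
  decide +kernel

theorem wccl1x1c12s4 : pgChkGenW 8404 (List.range 8404) wcL1 [wcL2, wcL3, wcL4, wcL5, wcL6, wcL7, wcL8, wcL9, wcL10]
    (wcgen wcT1x1 wcI1x1) 20 2 = true := by
  decide +kernel

theorem wccl1x1c12s5 : pgChkGenW 8404 (List.range 8404) wcL1 [wcL2, wcL3, wcL4, wcL5, wcL6, wcL7, wcL8, wcL9, wcL10]
    (wcgen wcT1x1 wcI1x1) 22 2 = true := by
  decide +kernel

theorem wccl1x1c12 : pgChkGenW 8404 (List.range 8404) wcL1 [wcL2, wcL3, wcL4, wcL5, wcL6, wcL7, wcL8, wcL9, wcL10]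
    (wcgen wcT1x1 wcI1x1) 12 12 = true :=
  pgChkGenW_append (lo := 12) (c1 := 10) (c2 := 2) (pgChkGenW_append (lo := 12) (c1 := 8) (c2 := 2) (pgChkGenW_append (lo := 12) (c1 := 6) (c2 := 2) (pgChkGenW_append (lo := 12) (c1 := 4) (c2 := 2) (pgChkGenW_append (lo := 12) (c1 := 2) (c2 := 2) (wccl1x1c12s0) wccl1x1c12s1) wccl1x1c12s2) wccl1x1c12s3) wccl1x1c12s4) wccl1x1c12s5

end Cfsg.Agent.Lib.Helper5.U62Cov
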