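import Cfsg.Agent.Lib.Helper5.U62CovData
import Cfsg.Agent.Lib.helper23.PgX
import Cfsg.Agent.Lib.helper23.PgH

set_option autoImplicit false
set_option maxRecDepth 1000000
set_option Elab.async false

/-! the covering group of the unitary group of degree six over four elements, on 8404 points: the checks of the stabiliser chain (generated), part 39. -/

namespace Cfsg.Agent.Lib.Helper5.U62Cov

open Cfsg.Agent.Lib.helper23 Subgroup MulAction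
theorem wccl1x1c72s0 : pgChkGenW 8404 (List.range 8404) wcL1 [wcL2, wcL3, wcL4, wcL5, wcL6, wcL7, wcL8, wcL9, wcL10]
    (wcgen wcT1x1 wcI1x1) 72 2 = true := by
  decide +kernel

theorem wccl1x1c72s1 : pgChkGenW 8404 (List.range 8404) wcL1 [wcL2, wcL3, wcL4, wcL5, wcL6, wcL7, wcL8, wcL9, wcL10]
    (wcgen wcT1x1 wcI1x1) 74 2 = true := by
  decide +kernel

theorem wccl1x1c72s2 : pgChkGenW 8404 (List.range 8404) wcL1 [wcL2, wcL3, wcL4, wcL5, wcL6, wcL7, wcL8, wcL9, wcL10]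
    (wcgen wcT1x1 wcI1x1) 76 2 = true := by
  decide +kernel

theorem wccl1x1c72s3 : pgChkGenW 8404 (List.range 8404) wcL1 [wcL2, wcL3, wcL4, wcL5, wcL6, wcL7, wcL8, wcL9, wcL10]
    (wcgen wcT1x1 wcI1x1) 78 2 = true := by
  decide +kernel

theorem wccl1x1c72s4 : pgChkGenW 8404 (List.range 8404) wcL1 [wcL2, wcL3, wcL4, wcL5, wcL6, wcL7, wcL8, wcL9, wcL10]
    (wcgen wcT1x1 wcI1x1) 80 2 = true := by
  decide +kernel

theorem wccl1x1c72s5 : pgChkGenW 8404 (List.range 8404) wcL1 [wcL2, wcL3, wcL4, wcL5, wcL6, wcL7, wcL8, wcL9, wcL10]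
    (wcgen wcT1x1 wcI1x1) 82 2 = true := by
  decide +kernel

theorem wccl1x1c72 : pgChkGenW 8404 (List.range 8404) wcL1 [wcL2, wcL3, wcL4, wcL5, wcL6, wcL7, wcL8, wcL9, wcL10]
    (wcgen wcT1x1 wcI1x1) 72 12 = true :=
  pgChkGenW_append (lo := 72) (c1 := 10) (c2 := 2) (pgChkGenW_append (lo := 72) (c1 := 8) (c2 := 2) (pgChkGenW_append (lo := 72) (c1 := 6) (c2 := 2) (pgChkGenW_append (lo := 72) (c1 := 4) (c2 := 2) (pgChkGenW_append (lo := 72) (c1 := 2) (c2 := 2) (wccl1x1c72s0) wccl1x1c72s1) wccl1x1c72s2) wccl1x1c72s3) wccl1x1c72s4) wccl1x1c72s5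

theorem wccl1x1c84s0 : pgChkGenW 8404 (List.range 8404) wcL1 [wcL2, wcL3, wcL4, wcL5, wcL6, wcL7, wcL8, wcL9, wcL10]
    (wcgen wcT1x1 wcI1x1) 84 2 = true := by
  decide +kernel

theorem wccl1x1c84s1 : pgChkGenW 8404 (List.range 8404) wcL1 [wcL2, wcL3, wcL4, wcL5, wcL6, wcL7, wcL8, wcL9, wcL10]
    (wcgen wcT1x1 wcI1x1) 86 2 = true := by
  decide +kernel

theorem wccl1x1c84s2 : pgChkGenW 8404 (List.range 8404) wcL1 [wcL2, wcL3, wcL4, wcL5, wcL6, wcL7, wcL8, wcL9, wcL10]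
    (wcgen wcT1x1 wcI1x1) 88 2 = true := by
  decide +kernel

theorem wccl1x1c84s3 : pgChkGenW 8404 (List.range 8404) wcL1 [wcL2, wcL3, wcL4, wcL5, wcL6, wcL7, wcL8, wcL9, wcL10]
    (wcgen wcT1x1 wcI1x1) 90 2 = true := by
  decide +kernel

theorem wccl1x1c84s4 : pgChkGenW 8404 (List.range 8404) wcL1 [wcL2, wcL3, wcL4, wcL5, wcL6, wcL7, wcL8, wcL9, wcL10]
    (wcgen wcT1x1 wcI1x1) 92 2 = true := by
  decide +kernel

theorem wccl1x1c84s5 : pgChkGenW 8404 (List.range 8404) wcL1 [wcL2, wcL3, wcL4, wcL5, wcL6, wcL7, wcL8, wcL9, wcL10]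
    (wcgen wcT1x1 wcI1x1) 94 2 = true := by
  decide +kernel

theorem wccl1x1c84 : pgChkGenW 8404 (List.range 8404) wcL1 [wcL2, wcL3, wcL4, wcL5, wcL6, wcL7, wcL8, wcL9, wcL10]
    (wcgen wcT1x1 wcI1x1) 84 12 = true :=
  pgChkGenW_append (lo := 84) (c1 := 10) (c2 := 2) (pgChkGenW_append (lo := 84) (c1 := 8) (c2 := 2) (pgChkGenW_append (lo := 84) (c1 := 6) (c2 := 2) (pgChkGenW_append (lo := 84) (c1 := 4) (c2 := 2) (pgChkGenW_append (lo := 84) (c1 := 2) (c2 := 2) (wccl1x1c84s0) wccl1x1c84s1) wccl1x1c84s2) wccl1x1c84s3) wccl1x1c84s4) wccl1x1c84s5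

theorem wccl1x1c96s0 : pgChkGenW 8404 (List.range 8404) wcL1 [wcL2, wcL3, wcL4, wcL5, wcL6, wcL7, wcL8, wcL9, wcL10]
    (wcgen wcT1x1 wcI1x1) 96 2 = true := by
  decide +kernel

theorem wccl1x1c96s1 : pgChkGenW 8404 (List.range 8404) wcL1 [wcL2, wcL3, wcL4, wcL5, wcL6, wcL7, wcL8, wcL9, wcL10]
    (wcgen wcT1x1 wcI1x1) 98 2 = true := by
  decide +kernel

theorem wccl1x1c96s2 : pgChkGenW 8404 (List.range 8404) wcL1 [wcL2, wcL3, wcL4, wcL5, wcL6, wcL7, wcL8, wcL9, wcL10]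
    (wcgen wcT1x1 wcI1x1) 100 2 = true := by
  decide +kernel

theorem wccl1x1c96s3 : pgChkGenW 8404 (List.range 8404) wcL1 [wcL2, wcL3, wcL4, wcL5, wcL6, wcL7, wcL8, wcL9, wcL10]
    (wcgen wcT1x1 wcI1x1) 102 2 = true := by
  decide +kernel

theorem wccl1x1c96s4 : pgChkGenW 8404 (List.range 8404) wcL1 [wcL2, wcL3, wcL4, wcL5, wcL6, wcL7, wcL8, wcL9, wcL10]
    (wcgen wcT1x1 wcI1x1) 104 2 = true := by
  decide +kernel

theorem wccl1x1c96s5 : pgChkGenW 8404 (List.range 8404) wcL1 [wcL2, wcL3, wcL4, wcL5, wcL6, wcL7, wcL8, wcL9, wcL10]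
    (wcgen wcT1x1 wcI1x1) 106 2 = true := by
  decide +kernel

theorem wccl1x1c96 : pgChkGenW 8404 (List.range 8404) wcL1 [wcL2, wcL3, wcL4, wcL5, wcL6, wcL7, wcL8, wcL9, wcL10]
    (wcgen wcT1x1 wcI1x1) 96 12 = true :=
  pgChkGenW_append (lo := 96) (c1 := 10) (c2 := 2) (pgChkGenW_append (lo := 96) (c1 := 8) (c2 := 2) (pgChkGenW_append (lo := 96) (c1 := 6) (c2 := 2) (pgChkGenW_append (lo := 96) (c1 := 4) (c2 := 2) (pgChkGenW_append (lo := 96) (c1 := 2) (c2 := 2) (wccl1x1c96s0) wccl1x1c96s1) wccl1x1c96s2) wccl1x1c96s3) wccl1x1c96s4) wccl1x1c96s5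

theorem wccl1x1c108s0 : pgChkGenW 8404 (List.range 8404) wcL1 [wcL2, wcL3, wcL4, wcL5, wcL6, wcL7, wcL8, wcL9, wcL10]
    (wcgen wcT1x1 wcI1x1) 108 2 = true := by
  decide +kernel

theorem wccl1x1c108s1 : pgChkGenW 8404 (List.range 8404) wcL1 [wcL2, wcL3, wcL4, wcL5, wcL6, wcL7, wcL8, wcL9, wcL10]
    (wcgen wcT1x1 wcI1x1) 110 2 = true := by
  decide +kernel

theorem wccl1x1c108s2 : pgChkGenW 8404 (List.range 8404) wcL1 [wcL2, wcL3, wcL4, wcL5, wcL6, wcL7, wcL8, wcL9, wcL10]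
    (wcgen wcT1x1 wcI1x1) 112 2 = true := by
  decide +kernel

theorem wccl1x1c108s3 : pgChkGenW 8404 (List.range 8404) wcL1 [wcL2, wcL3, wcL4, wcL5, wcL6, wcL7, wcL8, wcL9, wcL10]
    (wcgen wcT1x1 wcI1x1) 114 2 = true := by
  decide +kernel

theorem wccl1x1c108s4 : pgChkGenW 8404 (List.range 8404) wcL1 [wcL2, wcL3, wcL4, wcL5, wcL6, wcL7, wcL8, wcL9, wcL10]
    (wcgen wcT1x1 wcI1x1) 116 2 = true := by
  decide +kernel

theorem wccl1x1c108s5 : pgChkGenW 8404 (List.range 8404) wcL1 [wcL2, wcL3, wcL4, wcL5, wcL6, wcL7, wcL8, wcL9, wcL10]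
    (wcgen wcT1x1 wcI1x1) 118 2 = true := by
  decide +kernel

theorem wccl1x1c108 : pgChkGenW 8404 (List.range 8404) wcL1 [wcL2, wcL3, wcL4, wcL5, wcL6, wcL7, wcL8, wcL9, wcL10]
    (wcgen wcT1x1 wcI1x1) 108 12 = true :=
  pgChkGenW_append (lo := 108) (c1 := 10) (c2 := 2) (pgChkGenW_append (lo := 108) (c1 := 8) (c2 := 2) (pgChkGenW_append (lo := 108) (c1 := 6) (c2 := 2) (pgChkGenW_append (lo := 108) (c1 := 4) (c2 := 2) (pgChkGenW_append (lo := 108) (c1 := 2) (c2 := 2) (wccl1x1c108s0) wccl1x1c108s1) wccl1x1c108s2) wccl1x1c108s3) wccl1x1c108s4) wccl1x1c108s5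

end Cfsg.Agent.Lib.Helper5.U62Cov
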