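import Cfsg.Agent.Lib.Helper5.U62CovData
import Cfsg.Agent.Lib.helper23.PgX
import Cfsg.Agent.Lib.helper23.PgH

set_option autoImplicit false
set_option maxRecDepth 1000000
set_option Elab.async false

/-! the covering group of the unitary group of degree six over four elements, on 8404 points: the checks of the stabiliser chain (generated), part 40. -/

namespace Cfsg.Agent.Lib.Helper5.U62Cov

open Cfsg.Agent.Lib.helper23 Subgroup MulAction
theorem wccl1x1c120s0 : pgChkGenW 8404 (List.range 8404) wcL1 [wcL2, wcL3, wcL4, wcL5, wcL6, wcL7, wcL8, wcL9, wcL10]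
    (wcgen wcT1x1 wcI1x1) 120 2 = true := by
  decide +kernel

theorem wccl1x1c120s1 : pgChkGenW 8404 (List.range 8404) wcL1 [wcL2, wcL3, wcL4, wcL5, wcL6, wcL7, wcL8, wcL9, wcL10]
    (wcgen wcT1x1 wcI1x1) 122 2 = true := by
  decide +kernel

theorem wccl1x1c120s2 : pgChkGenW 8404 (List.range 8404) wcL1 [wcL2, wcL3, wcL4, wcL5, wcL6, wcL7, wcL8, wcL9, wcL10]
    (wcgen wcT1x1 wcI1x1) 124 2 = true := by
  decide +kernel

theorem wccl1x1c120s3 : pgChkGenW 8404 (List.range 8404) wcL1 [wcL2, wcL3, wcL4, wcL5, wcL6, wcL7, wcL8, wcL9, wcL10]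
    (wcgen wcT1x1 wcI1x1) 126 2 = true := by
  decide +kernel

theorem wccl1x1c120s4 : pgChkGenW 8404 (List.range 8404) wcL1 [wcL2, wcL3, wcL4, wcL5, wcL6, wcL7, wcL8, wcL9, wcL10]
    (wcgen wcT1x1 wcI1x1) 128 2 = true := by
  decide +kernel

theorem wccl1x1c120s5 : pgChkGenW 8404 (List.range 8404) wcL1 [wcL2, wcL3, wcL4, wcL5, wcL6, wcL7, wcL8, wcL9, wcL10]
    (wcgen wcT1x1 wcI1x1) 130 2 = true := by
  decide +kernel

theorem wccl1x1c120 : pgChkGenW 8404 (List.range 8404) wcL1 [wcL2, wcL3, wcL4, wcL5, wcL6, wcL7, wcL8, wcL9, wcL10]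
    (wcgen wcT1x1 wcI1x1) 120 12 = true :=
  pgChkGenW_append (lo := 120) (c1 := 10) (c2 := 2) (pgChkGenW_append (lo := 120) (c1 := 8) (c2 := 2) (pgChkGenW_append (lo := 120) (c1 := 6) (c2 := 2) (pgChkGenW_append (lo := 120) (c1 := 4) (c2 := 2) (pgChkGenW_append (lo := 120) (c1 := 2) (c2 := 2) (wccl1x1c120s0) wccl1x1c120s1) wccl1x1c120s2) wccl1x1c120s3) wccl1x1c120s4) wccl1x1c120s5

theorem wccl1x1c132s0 : pgChkGenW 8404 (List.range 8404) wcL1 [wcL2, wcL3, wcL4, wcL5, wcL6, wcL7, wcL8, wcL9, wcL10]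
    (wcgen wcT1x1 wcI1x1) 132 2 = true := by
  decide +kernel

theorem wccl1x1c132s1 : pgChkGenW 8404 (List.range 8404) wcL1 [wcL2, wcL3, wcL4, wcL5, wcL6, wcL7, wcL8, wcL9, wcL10]
    (wcgen wcT1x1 wcI1x1) 134 2 = true := by
  decide +kernel

theorem wccl1x1c132s2 : pgChkGenW 8404 (List.range 8404) wcL1 [wcL2, wcL3, wcL4, wcL5, wcL6, wcL7, wcL8, wcL9, wcL10]
    (wcgen wcT1x1 wcI1x1) 136 2 = true := by
  decide +kernel

theorem wccl1x1c132s3 : pgChkGenW 8404 (List.range 8404) wcL1 [wcL2, wcL3, wcL4, wcL5, wcL6, wcL7, wcL8, wcL9, wcL10]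
    (wcgen wcT1x1 wcI1x1) 138 2 = true := by
  decide +kernel

theorem wccl1x1c132s4 : pgChkGenW 8404 (List.range 8404) wcL1 [wcL2, wcL3, wcL4, wcL5, wcL6, wcL7, wcL8, wcL9, wcL10]
    (wcgen wcT1x1 wcI1x1) 140 2 = true := by
  decide +kernel

theorem wccl1x1c132s5 : pgChkGenW 8404 (List.range 8404) wcL1 [wcL2, wcL3, wcL4, wcL5, wcL6, wcL7, wcL8, wcL9, wcL10]
    (wcgen wcT1x1 wcI1x1) 142 2 = true := by
  decide +kernel

theorem wccl1x1c132 : pgChkGenW 8404 (List.range 8404) wcL1 [wcL2, wcL3, wcL4, wcL5, wcL6, wcL7, wcL8, wcL9, wcL10]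
    (wcgen wcT1x1 wcI1x1) 132 12 = true :=
  pgChkGenW_append (lo := 132) (c1 := 10) (c2 := 2) (pgChkGenW_append (lo := 132) (c1 := 8) (c2 := 2) (pgChkGenW_append (lo := 132) (c1 := 6) (c2 := 2) (pgChkGenW_append (lo := 132) (c1 := 4) (c2 := 2) (pgChkGenW_append (lo := 132) (c1 := 2) (c2 := 2) (wccl1x1c132s0) wccl1x1c132s1) wccl1x1c132s2) wccl1x1c132s3) wccl1x1c132s4) wccl1x1c132s5

theorem wccl1x1c144s0 : pgChkGenW 8404 (List.range 8404) wcL1 [wcL2, wcL3, wcL4, wcL5, wcL6, wcL7, wcL8, wcL9, wcL10]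
    (wcgen wcT1x1 wcI1x1) 144 2 = true := by
  decide +kernel

theorem wccl1x1c144s1 : pgChkGenW 8404 (List.range 8404) wcL1 [wcL2, wcL3, wcL4, wcL5, wcL6, wcL7, wcL8, wcL9, wcL10]
    (wcgen wcT1x1 wcI1x1) 146 2 = true := by
  decide +kernel

theorem wccl1x1c144s2 : pgChkGenW 8404 (List.range 8404) wcL1 [wcL2, wcL3, wcL4, wcL5, wcL6, wcL7, wcL8, wcL9, wcL10]
    (wcgen wcT1x1 wcI1x1) 148 2 = true := by
  decide +kernel

theorem wccl1x1c144s3 : pgChkGenW 8404 (List.range 8404) wcL1 [wcL2, wcL3, wcL4, wcL5, wcL6, wcL7, wcL8, wcL9, wcL10]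
    (wcgen wcT1x1 wcI1x1) 150 2 = true := by
  decide +kernel

theorem wccl1x1c144s4 : pgChkGenW 8404 (List.range 8404) wcL1 [wcL2, wcL3, wcL4, wcL5, wcL6, wcL7, wcL8, wcL9, wcL10]
    (wcgen wcT1x1 wcI1x1) 152 2 = true := by
  decide +kernel

theorem wccl1x1c144s5 : pgChkGenW 8404 (List.range 8404) wcL1 [wcL2, wcL3, wcL4, wcL5, wcL6, wcL7, wcL8, wcL9, wcL10]
    (wcgen wcT1x1 wcI1x1) 154 2 = true := by
  decide +kernel

theorem wccl1x1c144 : pgChkGenW 8404 (List.range 8404) wcL1 [wcL2, wcL3, wcL4, wcL5, wcL6, wcL7, wcL8, wcL9, wcL10]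
    (wcgen wcT1x1 wcI1x1) 144 12 = true :=
  pgChkGenW_append (lo := 144) (c1 := 10) (c2 := 2) (pgChkGenW_append (lo := 144) (c1 := 8) (c2 := 2) (pgChkGenW_append (lo := 144) (c1 := 6) (c2 := 2) (pgChkGenW_append (lo := 144) (c1 := 4) (c2 := 2) (pgChkGenW_append (lo := 144) (c1 := 2) (c2 := 2) (wccl1x1c144s0) wccl1x1c144s1) wccl1x1c144s2) wccl1x1c144s3) wccl1x1c144s4) wccl1x1c144s5

theorem wccl1x1c156s0 : pgChkGenW 8404 (List.range 8404) wcL1 [wcL2, wcL3, wcL4, wcL5, wcL6, wcL7, wcL8, wcL9, wcL10]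
    (wcgen wcT1x1 wcI1x1) 156 2 = true := by
  decide +kernel

theorem wccl1x1c156s1 : pgChkGenW 8404 (List.range 8404) wcL1 [wcL2, wcL3, wcL4, wcL5, wcL6, wcL7, wcL8, wcL9, wcL10]
    (wcgen wcT1x1 wcI1x1) 158 2 = true := by
  decide +kernel

theorem wccl1x1c156s2 : pgChkGenW 8404 (List.range 8404) wcL1 [wcL2, wcL3, wcL4, wcL5, wcL6, wcL7, wcL8, wcL9, wcL10]
    (wcgen wcT1x1 wcI1x1) 160 2 = true := by
  decide +kernel

theorem wccl1x1c156s3 : pgChkGenW 8404 (List.range 8404) wcL1 [wcL2, wcL3, wcL4, wcL5, wcL6, wcL7, wcL8, wcL9, wcL10]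
    (wcgen wcT1x1 wcI1x1) 162 2 = true := by
  decide +kernel

theorem wccl1x1c156s4 : pgChkGenW 8404 (List.range 8404) wcL1 [wcL2, wcL3, wcL4, wcL5, wcL6, wcL7, wcL8, wcL9, wcL10]
    (wcgen wcT1x1 wcI1x1) 164 2 = true := by
  decide +kernel

theorem wccl1x1c156s5 : pgChkGenW 8404 (List.range 8404) wcL1 [wcL2, wcL3, wcL4, wcL5, wcL6, wcL7, wcL8, wcL9, wcL10]
    (wcgen wcT1x1 wcI1x1) 166 2 = true := by
  decide +kernel

theorem wccl1x1c156 : pgChkGenW 8404 (List.range 8404) wcL1 [wcL2, wcL3, wcL4, wcL5, wcL6, wcL7, wcL8, wcL9, wcL10]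
    (wcgen wcT1x1 wcI1x1) 156 12 = true :=
  pgChkGenW_append (lo := 156) (c1 := 10) (c2 := 2) (pgChkGenW_append (lo := 156) (c1 := 8) (c2 := 2) (pgChkGenW_append (lo := 156) (c1 := 6) (c2 := 2) (pgChkGenW_append (lo := 156) (c1 := 4) (c2 := 2) (pgChkGenW_append (lo := 156) (c1 := 2) (c2 := 2) (wccl1x1c156s0) wccl1x1c156s1) wccl1x1c156s2) wccl1x1c156s3) wccl1x1c156s4) wccl1x1c156s5

end Cfsg.Agent.Lib.Helper5.U62Cov
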