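import Cfsg.Agent.Lib.Helper5.U62CovData
import Cfsg.Agent.Lib.helper23.PgX
import Cfsg.Agent.Lib.helper23.PgH

set_option autoImplicit false
set_option maxRecDepth 1000000
set_option Elab.async false

/-! the covering group of the unitary group of degree six over four elements, on 8404 points: the checks of the stabiliser chain (generated), part 41. -/

namespace Cfsg.Agent.Lib.Helper5.U62Cov

open Cfsg.Agent.Lib.helper23 Subgroup MulAction
theorem wccl1x1c168s0 : pgChkGenW 8404 (List.range 8404) wcL1 [wcL2, wcL3, wcL4, wcL5, wcL6, wcL7, wcL8, wcL9, wcL10]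
    (wcgen wcT1x1 wcI1x1) 168 2 = true := by
  decide +kernel

theorem wccl1x1c168s1 : pgChkGenW 8404 (List.range 8404) wcL1 [wcL2, wcL3, wcL4, wcL5, wcL6, wcL7, wcL8, wcL9, wcL10]
    (wcgen wcT1x1 wcI1x1) 170 2 = true := by
  decide +kernel

theorem wccl1x1c168s2 : pgChkGenW 8404 (List.range 8404) wcL1 [wcL2, wcL3, wcL4, wcL5, wcL6, wcL7, wcL8, wcL9, wcL10]
    (wcgen wcT1x1 wcI1x1) 172 2 = true := by
  decide +kernel

theorem wccl1x1c168s3 : pgChkGenW 8404 (List.range 8404) wcL1 [wcL2, wcL3, wcL4, wcL5, wcL6, wcL7, wcL8, wcL9, wcL10]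
    (wcgen wcT1x1 wcI1x1) 174 2 = true := by
  decide +kernel

theorem wccl1x1c168s4 : pgChkGenW 8404 (List.range 8404) wcL1 [wcL2, wcL3, wcL4, wcL5, wcL6, wcL7, wcL8, wcL9, wcL10]
    (wcgen wcT1x1 wcI1x1) 176 2 = true := by
  decide +kernel

theorem wccl1x1c168s5 : pgChkGenW 8404 (List.range 8404) wcL1 [wcL2, wcL3, wcL4, wcL5, wcL6, wcL7, wcL8, wcL9, wcL10]
    (wcgen wcT1x1 wcI1x1) 178 2 = true := by
  decide +kernel

theorem wccl1x1c168 : pgChkGenW 8404 (List.range 8404) wcL1 [wcL2, wcL3, wcL4, wcL5, wcL6, wcL7, wcL8, wcL9, wcL10]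
    (wcgen wcT1x1 wcI1x1) 168 12 = true :=
  pgChkGenW_append (lo := 168) (c1 := 10) (c2 := 2) (pgChkGenW_append (lo := 168) (c1 := 8) (c2 := 2) (pgChkGenW_append (lo := 168) (c1 := 6) (c2 := 2) (pgChkGenW_append (lo := 168) (c1 := 4) (c2 := 2) (pgChkGenW_append (lo := 168) (c1 := 2) (c2 := 2) (wccl1x1c168s0) wccl1x1c168s1) wccl1x1c168s2) wccl1x1c168s3) wccl1x1c168s4) wccl1x1c168s5

theorem wccl1x1c180s0 : pgChkGenW 8404 (List.range 8404) wcL1 [wcL2, wcL3, wcL4, wcL5, wcL6, wcL7, wcL8, wcL9, wcL10]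
    (wcgen wcT1x1 wcI1x1) 180 2 = true := by
  decide +kernel

theorem wccl1x1c180s1 : pgChkGenW 8404 (List.range 8404) wcL1 [wcL2, wcL3, wcL4, wcL5, wcL6, wcL7, wcL8, wcL9, wcL10]
    (wcgen wcT1x1 wcI1x1) 182 2 = true := by
  decide +kernel

theorem wccl1x1c180s2 : pgChkGenW 8404 (List.range 8404) wcL1 [wcL2, wcL3, wcL4, wcL5, wcL6, wcL7, wcL8, wcL9, wcL10]
    (wcgen wcT1x1 wcI1x1) 184 2 = true := by
  decide +kernel

theorem wccl1x1c180s3 : pgChkGenW 8404 (List.range 8404) wcL1 [wcL2, wcL3, wcL4, wcL5, wcL6, wcL7, wcL8, wcL9, wcL10]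
    (wcgen wcT1x1 wcI1x1) 186 2 = true := by
  decide +kernel

theorem wccl1x1c180s4 : pgChkGenW 8404 (List.range 8404) wcL1 [wcL2, wcL3, wcL4, wcL5, wcL6, wcL7, wcL8, wcL9, wcL10]
    (wcgen wcT1x1 wcI1x1) 188 2 = true := by
  decide +kernel

theorem wccl1x1c180s5 : pgChkGenW 8404 (List.range 8404) wcL1 [wcL2, wcL3, wcL4, wcL5, wcL6, wcL7, wcL8, wcL9, wcL10]
    (wcgen wcT1x1 wcI1x1) 190 2 = true := by
  decide +kernel

theorem wccl1x1c180 : pgChkGenW 8404 (List.range 8404) wcL1 [wcL2, wcL3, wcL4, wcL5, wcL6, wcL7, wcL8, wcL9, wcL10]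
    (wcgen wcT1x1 wcI1x1) 180 12 = true :=
  pgChkGenW_append (lo := 180) (c1 := 10) (c2 := 2) (pgChkGenW_append (lo := 180) (c1 := 8) (c2 := 2) (pgChkGenW_append (lo := 180) (c1 := 6) (c2 := 2) (pgChkGenW_append (lo := 180) (c1 := 4) (c2 := 2) (pgChkGenW_append (lo := 180) (c1 := 2) (c2 := 2) (wccl1x1c180s0) wccl1x1c180s1) wccl1x1c180s2) wccl1x1c180s3) wccl1x1c180s4) wccl1x1c180s5

theorem wccl1x1c192s0 : pgChkGenW 8404 (List.range 8404) wcL1 [wcL2, wcL3, wcL4, wcL5, wcL6, wcL7, wcL8, wcL9, wcL10]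
    (wcgen wcT1x1 wcI1x1) 192 2 = true := by
  decide +kernel

theorem wccl1x1c192s1 : pgChkGenW 8404 (List.range 8404) wcL1 [wcL2, wcL3, wcL4, wcL5, wcL6, wcL7, wcL8, wcL9, wcL10]
    (wcgen wcT1x1 wcI1x1) 194 2 = true := by
  decide +kernel

theorem wccl1x1c192s2 : pgChkGenW 8404 (List.range 8404) wcL1 [wcL2, wcL3, wcL4, wcL5, wcL6, wcL7, wcL8, wcL9, wcL10]
    (wcgen wcT1x1 wcI1x1) 196 2 = true := by
  decide +kernel

theorem wccl1x1c192s3 : pgChkGenW 8404 (List.range 8404) wcL1 [wcL2, wcL3, wcL4, wcL5, wcL6, wcL7, wcL8, wcL9, wcL10]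
    (wcgen wcT1x1 wcI1x1) 198 2 = true := by
  decide +kernel

theorem wccl1x1c192s4 : pgChkGenW 8404 (List.range 8404) wcL1 [wcL2, wcL3, wcL4, wcL5, wcL6, wcL7, wcL8, wcL9, wcL10]
    (wcgen wcT1x1 wcI1x1) 200 2 = true := by
  decide +kernel

theorem wccl1x1c192s5 : pgChkGenW 8404 (List.range 8404) wcL1 [wcL2, wcL3, wcL4, wcL5, wcL6, wcL7, wcL8, wcL9, wcL10]
    (wcgen wcT1x1 wcI1x1) 202 2 = true := by
  decide +kernel

theorem wccl1x1c192 : pgChkGenW 8404 (List.range 8404) wcL1 [wcL2, wcL3, wcL4, wcL5, wcL6, wcL7, wcL8, wcL9, wcL10]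
    (wcgen wcT1x1 wcI1x1) 192 12 = true :=
  pgChkGenW_append (lo := 192) (c1 := 10) (c2 := 2) (pgChkGenW_append (lo := 192) (c1 := 8) (c2 := 2) (pgChkGenW_append (lo := 192) (c1 := 6) (c2 := 2) (pgChkGenW_append (lo := 192) (c1 := 4) (c2 := 2) (pgChkGenW_append (lo := 192) (c1 := 2) (c2 := 2) (wccl1x1c192s0) wccl1x1c192s1) wccl1x1c192s2) wccl1x1c192s3) wccl1x1c192s4) wccl1x1c192s5

theorem wccl1x1c204s0 : pgChkGenW 8404 (List.range 8404) wcL1 [wcL2, wcL3, wcL4, wcL5, wcL6, wcL7, wcL8, wcL9, wcL10]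
    (wcgen wcT1x1 wcI1x1) 204 2 = true := by
  decide +kernel

theorem wccl1x1c204s1 : pgChkGenW 8404 (List.range 8404) wcL1 [wcL2, wcL3, wcL4, wcL5, wcL6, wcL7, wcL8, wcL9, wcL10]
    (wcgen wcT1x1 wcI1x1) 206 2 = true := by
  decide +kernel

theorem wccl1x1c204s2 : pgChkGenW 8404 (List.range 8404) wcL1 [wcL2, wcL3, wcL4, wcL5, wcL6, wcL7, wcL8, wcL9, wcL10]
    (wcgen wcT1x1 wcI1x1) 208 2 = true := by
  decide +kernel

theorem wccl1x1c204s3 : pgChkGenW 8404 (List.range 8404) wcL1 [wcL2, wcL3, wcL4, wcL5, wcL6, wcL7, wcL8, wcL9, wcL10]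
    (wcgen wcT1x1 wcI1x1) 210 2 = true := by
  decide +kernel

theorem wccl1x1c204s4 : pgChkGenW 8404 (List.range 8404) wcL1 [wcL2, wcL3, wcL4, wcL5, wcL6, wcL7, wcL8, wcL9, wcL10]
    (wcgen wcT1x1 wcI1x1) 212 2 = true := by
  decide +kernel

theorem wccl1x1c204s5 : pgChkGenW 8404 (List.range 8404) wcL1 [wcL2, wcL3, wcL4, wcL5, wcL6, wcL7, wcL8, wcL9, wcL10]
    (wcgen wcT1x1 wcI1x1) 214 2 = true := by
  decide +kernel

theorem wccl1x1c204 : pgChkGenW 8404 (List.range 8404) wcL1 [wcL2, wcL3, wcL4, wcL5, wcL6, wcL7, wcL8, wcL9, wcL10]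
    (wcgen wcT1x1 wcI1x1) 204 12 = true :=
  pgChkGenW_append (lo := 204) (c1 := 10) (c2 := 2) (pgChkGenW_append (lo := 204) (c1 := 8) (c2 := 2) (pgChkGenW_append (lo := 204) (c1 := 6) (c2 := 2) (pgChkGenW_append (lo := 204) (c1 := 4) (c2 := 2) (pgChkGenW_append (lo := 204) (c1 := 2) (c2 := 2) (wccl1x1c204s0) wccl1x1c204s1) wccl1x1c204s2) wccl1x1c204s3) wccl1x1c204s4) wccl1x1c204s5

end Cfsg.Agent.Lib.Helper5.U62Cov
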