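import Cfsg.Agent.Lib.Helper5.U62CovData
import Cfsg.Agent.Lib.helper23.PgX
import Cfsg.Agent.Lib.helper23.PgH

set_option autoImplicit false
set_option maxRecDepth 1000000
set_option Elab.async false

/-! the covering group of the unitary group of degree six over four elements, on 8404 points: the checks of the stabiliser chain (generated), part 42. -/

namespace Cfsg.Agent.Lib.Helper5.U62Cov

open Cfsg.Agent.Lib.helper23 Subgroup MulAction
theorem wccl1x1c216s0 : pgChkGenW 8404 (List.range 8404) wcL1 [wcL2, wcL3, wcL4, wcL5, wcL6, wcL7, wcL8, wcL9, wcL10]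
    (wcgen wcT1x1 wcI1x1) 216 2 = true := by
  decide +kernel

theorem wccl1x1c216s1 : pgChkGenW 8404 (List.range 8404) wcL1 [wcL2, wcL3, wcL4, wcL5, wcL6, wcL7, wcL8, wcL9, wcL10]
    (wcgen wcT1x1 wcI1x1) 218 2 = true := by
  decide +kernel

theorem wccl1x1c216s2 : pgChkGenW 8404 (List.range 8404) wcL1 [wcL2, wcL3, wcL4, wcL5, wcL6, wcL7, wcL8, wcL9, wcL10]
    (wcgen wcT1x1 wcI1x1) 220 2 = true := by
  decide +kernel

theorem wccl1x1c216s3 : pgChkGenW 8404 (List.range 8404) wcL1 [wcL2, wcL3, wcL4, wcL5, wcL6, wcL7, wcL8, wcL9, wcL10]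
    (wcgen wcT1x1 wcI1x1) 222 2 = true := by
  decide +kernel

theorem wccl1x1c216s4 : pgChkGenW 8404 (List.range 8404) wcL1 [wcL2, wcL3, wcL4, wcL5, wcL6, wcL7, wcL8, wcL9, wcL10]
    (wcgen wcT1x1 wcI1x1) 224 2 = true := by
  decide +kernel

theorem wccl1x1c216s5 : pgChkGenW 8404 (List.range 8404) wcL1 [wcL2, wcL3, wcL4, wcL5, wcL6, wcL7, wcL8, wcL9, wcL10]
    (wcgen wcT1x1 wcI1x1) 226 2 = true := by
  decide +kernel

theorem wccl1x1c216 : pgChkGenW 8404 (List.range 8404) wcL1 [wcL2, wcL3, wcL4, wcL5, wcL6, wcL7, wcL8, wcL9, wcL10]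
    (wcgen wcT1x1 wcI1x1) 216 12 = true :=
  pgChkGenW_append (lo := 216) (c1 := 10) (c2 := 2) (pgChkGenW_append (lo := 216) (c1 := 8) (c2 := 2) (pgChkGenW_append (lo := 216) (c1 := 6) (c2 := 2) (pgChkGenW_append (lo := 216) (c1 := 4) (c2 := 2) (pgChkGenW_append (lo := 216) (c1 := 2) (c2 := 2) (wccl1x1c216s0) wccl1x1c216s1) wccl1x1c216s2) wccl1x1c216s3) wccl1x1c216s4) wccl1x1c216s5

theorem wccl1x1c228s0 : pgChkGenW 8404 (List.range 8404) wcL1 [wcL2, wcL3, wcL4, wcL5, wcL6, wcL7, wcL8, wcL9, wcL10]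
    (wcgen wcT1x1 wcI1x1) 228 2 = true := by
  decide +kernel

theorem wccl1x1c228s1 : pgChkGenW 8404 (List.range 8404) wcL1 [wcL2, wcL3, wcL4, wcL5, wcL6, wcL7, wcL8, wcL9, wcL10]
    (wcgen wcT1x1 wcI1x1) 230 2 = true := by
  decide +kernel

theorem wccl1x1c228s2 : pgChkGenW 8404 (List.range 8404) wcL1 [wcL2, wcL3, wcL4, wcL5, wcL6, wcL7, wcL8, wcL9, wcL10]
    (wcgen wcT1x1 wcI1x1) 232 2 = true := by
  decide +kernel

theorem wccl1x1c228s3 : pgChkGenW 8404 (List.range 8404) wcL1 [wcL2, wcL3, wcL4, wcL5, wcL6, wcL7, wcL8, wcL9, wcL10]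
    (wcgen wcT1x1 wcI1x1) 234 2 = true := by
  decide +kernel

theorem wccl1x1c228s4 : pgChkGenW 8404 (List.range 8404) wcL1 [wcL2, wcL3, wcL4, wcL5, wcL6, wcL7, wcL8, wcL9, wcL10]
    (wcgen wcT1x1 wcI1x1) 236 2 = true := by
  decide +kernel

theorem wccl1x1c228s5 : pgChkGenW 8404 (List.range 8404) wcL1 [wcL2, wcL3, wcL4, wcL5, wcL6, wcL7, wcL8, wcL9, wcL10]
    (wcgen wcT1x1 wcI1x1) 238 2 = true := by
  decide +kernel

theorem wccl1x1c228 : pgChkGenW 8404 (List.range 8404) wcL1 [wcL2, wcL3, wcL4, wcL5, wcL6, wcL7, wcL8, wcL9, wcL10]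
    (wcgen wcT1x1 wcI1x1) 228 12 = true :=
  pgChkGenW_append (lo := 228) (c1 := 10) (c2 := 2) (pgChkGenW_append (lo := 228) (c1 := 8) (c2 := 2) (pgChkGenW_append (lo := 228) (c1 := 6) (c2 := 2) (pgChkGenW_append (lo := 228) (c1 := 4) (c2 := 2) (pgChkGenW_append (lo := 228) (c1 := 2) (c2 := 2) (wccl1x1c228s0) wccl1x1c228s1) wccl1x1c228s2) wccl1x1c228s3) wccl1x1c228s4) wccl1x1c228s5

theorem wccl1x1c240s0 : pgChkGenW 8404 (List.range 8404) wcL1 [wcL2, wcL3, wcL4, wcL5, wcL6, wcL7, wcL8, wcL9, wcL10]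
    (wcgen wcT1x1 wcI1x1) 240 2 = true := by
  decide +kernel

theorem wccl1x1c240s1 : pgChkGenW 8404 (List.range 8404) wcL1 [wcL2, wcL3, wcL4, wcL5, wcL6, wcL7, wcL8, wcL9, wcL10]
    (wcgen wcT1x1 wcI1x1) 242 2 = true := by
  decide +kernel

theorem wccl1x1c240s2 : pgChkGenW 8404 (List.range 8404) wcL1 [wcL2, wcL3, wcL4, wcL5, wcL6, wcL7, wcL8, wcL9, wcL10]
    (wcgen wcT1x1 wcI1x1) 244 2 = true := by
  decide +kernel

theorem wccl1x1c240s3 : pgChkGenW 8404 (List.range 8404) wcL1 [wcL2, wcL3, wcL4, wcL5, wcL6, wcL7, wcL8, wcL9, wcL10]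
    (wcgen wcT1x1 wcI1x1) 246 2 = true := by
  decide +kernel

theorem wccl1x1c240s4 : pgChkGenW 8404 (List.range 8404) wcL1 [wcL2, wcL3, wcL4, wcL5, wcL6, wcL7, wcL8, wcL9, wcL10]
    (wcgen wcT1x1 wcI1x1) 248 2 = true := by
  decide +kernel

theorem wccl1x1c240s5 : pgChkGenW 8404 (List.range 8404) wcL1 [wcL2, wcL3, wcL4, wcL5, wcL6, wcL7, wcL8, wcL9, wcL10]
    (wcgen wcT1x1 wcI1x1) 250 2 = true := by
  decide +kernel

theorem wccl1x1c240 : pgChkGenW 8404 (List.range 8404) wcL1 [wcL2, wcL3, wcL4, wcL5, wcL6, wcL7, wcL8, wcL9, wcL10]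
    (wcgen wcT1x1 wcI1x1) 240 12 = true :=
  pgChkGenW_append (lo := 240) (c1 := 10) (c2 := 2) (pgChkGenW_append (lo := 240) (c1 := 8) (c2 := 2) (pgChkGenW_append (lo := 240) (c1 := 6) (c2 := 2) (pgChkGenW_append (lo := 240) (c1 := 4) (c2 := 2) (pgChkGenW_append (lo := 240) (c1 := 2) (c2 := 2) (wccl1x1c240s0) wccl1x1c240s1) wccl1x1c240s2) wccl1x1c240s3) wccl1x1c240s4) wccl1x1c240s5

theorem wccl1x1c252s0 : pgChkGenW 8404 (List.range 8404) wcL1 [wcL2, wcL3, wcL4, wcL5, wcL6, wcL7, wcL8, wcL9, wcL10]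
    (wcgen wcT1x1 wcI1x1) 252 2 = true := by
  decide +kernel

theorem wccl1x1c252s1 : pgChkGenW 8404 (List.range 8404) wcL1 [wcL2, wcL3, wcL4, wcL5, wcL6, wcL7, wcL8, wcL9, wcL10]
    (wcgen wcT1x1 wcI1x1) 254 2 = true := by
  decide +kernel

theorem wccl1x1c252s2 : pgChkGenW 8404 (List.range 8404) wcL1 [wcL2, wcL3, wcL4, wcL5, wcL6, wcL7, wcL8, wcL9, wcL10]
    (wcgen wcT1x1 wcI1x1) 256 2 = true := by
  decide +kernel

theorem wccl1x1c252s3 : pgChkGenW 8404 (List.range 8404) wcL1 [wcL2, wcL3, wcL4, wcL5, wcL6, wcL7, wcL8, wcL9, wcL10]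
    (wcgen wcT1x1 wcI1x1) 258 2 = true := by
  decide +kernel

theorem wccl1x1c252s4 : pgChkGenW 8404 (List.range 8404) wcL1 [wcL2, wcL3, wcL4, wcL5, wcL6, wcL7, wcL8, wcL9, wcL10]
    (wcgen wcT1x1 wcI1x1) 260 2 = true := by
  decide +kernel

theorem wccl1x1c252s5 : pgChkGenW 8404 (List.range 8404) wcL1 [wcL2, wcL3, wcL4, wcL5, wcL6, wcL7, wcL8, wcL9, wcL10]
    (wcgen wcT1x1 wcI1x1) 262 2 = true := by
  decide +kernel

theorem wccl1x1c252 : pgChkGenW 8404 (List.range 8404) wcL1 [wcL2, wcL3, wcL4, wcL5, wcL6, wcL7, wcL8, wcL9, wcL10]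
    (wcgen wcT1x1 wcI1x1) 252 12 = true :=
  pgChkGenW_append (lo := 252) (c1 := 10) (c2 := 2) (pgChkGenW_append (lo := 252) (c1 := 8) (c2 := 2) (pgChkGenW_append (lo := 252) (c1 := 6) (c2 := 2) (pgChkGenW_append (lo := 252) (c1 := 4) (c2 := 2) (pgChkGenW_append (lo := 252) (c1 := 2) (c2 := 2) (wccl1x1c252s0) wccl1x1c252s1) wccl1x1c252s2) wccl1x1c252s3) wccl1x1c252s4) wccl1x1c252s5

end Cfsg.Agent.Lib.Helper5.U62Cov
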