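import Cfsg.Agent.Lib.Helper5.U62CovData
import Cfsg.Agent.Lib.helper23.PgX
import Cfsg.Agent.Lib.helper23.PgH

set_option autoImplicit false
set_option maxRecDepth 1000000
set_option Elab.async false

/-! the covering group of the unitary group of degree six over four elements, on 8404 points: the checks of the stabiliser chain (generated), part 44. -/

namespace Cfsg.Agent.Lib.Helper5.U62Cov

open Cfsg.Agent.Lib.helper23 Subgroup MulAction
theorem wccl1x1c312s0 : pgChkGenW 8404 (List.range 8404) wcL1 [wcL2, wcL3, wcL4, wcL5, wcL6, wcL7, wcL8, wcL9, wcL10]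
    (wcgen wcT1x1 wcI1x1) 312 2 = true := by
  decide +kernel

theorem wccl1x1c312s1 : pgChkGenW 8404 (List.range 8404) wcL1 [wcL2, wcL3, wcL4, wcL5, wcL6, wcL7, wcL8, wcL9, wcL10]
    (wcgen wcT1x1 wcI1x1) 314 2 = true := by
  decide +kernel

theorem wccl1x1c312s2 : pgChkGenW 8404 (List.range 8404) wcL1 [wcL2, wcL3, wcL4, wcL5, wcL6, wcL7, wcL8, wcL9, wcL10]
    (wcgen wcT1x1 wcI1x1) 316 2 = true := by
  decide +kernel

theorem wccl1x1c312s3 : pgChkGenW 8404 (List.range 8404) wcL1 [wcL2, wcL3, wcL4, wcL5, wcL6, wcL7, wcL8, wcL9, wcL10]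
    (wcgen wcT1x1 wcI1x1) 318 2 = true := by
  decide +kernel

theorem wccl1x1c312s4 : pgChkGenW 8404 (List.range 8404) wcL1 [wcL2, wcL3, wcL4, wcL5, wcL6, wcL7, wcL8, wcL9, wcL10]
    (wcgen wcT1x1 wcI1x1) 320 2 = true := by
  decide +kernel

theorem wccl1x1c312s5 : pgChkGenW 8404 (List.range 8404) wcL1 [wcL2, wcL3, wcL4, wcL5, wcL6, wcL7, wcL8, wcL9, wcL10]
    (wcgen wcT1x1 wcI1x1) 322 2 = true := by
  decide +kernel

theorem wccl1x1c312 : pgChkGenW 8404 (List.range 8404) wcL1 [wcL2, wcL3, wcL4, wcL5, wcL6, wcL7, wcL8, wcL9, wcL10]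
    (wcgen wcT1x1 wcI1x1) 312 12 = true :=
  pgChkGenW_append (lo := 312) (c1 := 10) (c2 := 2) (pgChkGenW_append (lo := 312) (c1 := 8) (c2 := 2) (pgChkGenW_append (lo := 312) (c1 := 6) (c2 := 2) (pgChkGenW_append (lo := 312) (c1 := 4) (c2 := 2) (pgChkGenW_append (lo := 312) (c1 := 2) (c2 := 2) (wccl1x1c312s0) wccl1x1c312s1) wccl1x1c312s2) wccl1x1c312s3) wccl1x1c312s4) wccl1x1c312s5

theorem wccl1x1c324s0 : pgChkGenW 8404 (List.range 8404) wcL1 [wcL2, wcL3, wcL4, wcL5, wcL6, wcL7, wcL8, wcL9, wcL10]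
    (wcgen wcT1x1 wcI1x1) 324 2 = true := by
  decide +kernel

theorem wccl1x1c324s1 : pgChkGenW 8404 (List.range 8404) wcL1 [wcL2, wcL3, wcL4, wcL5, wcL6, wcL7, wcL8, wcL9, wcL10]
    (wcgen wcT1x1 wcI1x1) 326 2 = true := by
  decide +kernel

theorem wccl1x1c324s2 : pgChkGenW 8404 (List.range 8404) wcL1 [wcL2, wcL3, wcL4, wcL5, wcL6, wcL7, wcL8, wcL9, wcL10]
    (wcgen wcT1x1 wcI1x1) 328 2 = true := by
  decide +kernel

theorem wccl1x1c324s3 : pgChkGenW 8404 (List.range 8404) wcL1 [wcL2, wcL3, wcL4, wcL5, wcL6, wcL7, wcL8, wcL9, wcL10]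
    (wcgen wcT1x1 wcI1x1) 330 2 = true := by
  decide +kernel

theorem wccl1x1c324s4 : pgChkGenW 8404 (List.range 8404) wcL1 [wcL2, wcL3, wcL4, wcL5, wcL6, wcL7, wcL8, wcL9, wcL10]
    (wcgen wcT1x1 wcI1x1) 332 2 = true := by
  decide +kernel

theorem wccl1x1c324s5 : pgChkGenW 8404 (List.range 8404) wcL1 [wcL2, wcL3, wcL4, wcL5, wcL6, wcL7, wcL8, wcL9, wcL10]
    (wcgen wcT1x1 wcI1x1) 334 2 = true := by
  decide +kernel

theorem wccl1x1c324 : pgChkGenW 8404 (List.range 8404) wcL1 [wcL2, wcL3, wcL4, wcL5, wcL6, wcL7, wcL8, wcL9, wcL10]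
    (wcgen wcT1x1 wcI1x1) 324 12 = true :=
  pgChkGenW_append (lo := 324) (c1 := 10) (c2 := 2) (pgChkGenW_append (lo := 324) (c1 := 8) (c2 := 2) (pgChkGenW_append (lo := 324) (c1 := 6) (c2 := 2) (pgChkGenW_append (lo := 324) (c1 := 4) (c2 := 2) (pgChkGenW_append (lo := 324) (c1 := 2) (c2 := 2) (wccl1x1c324s0) wccl1x1c324s1) wccl1x1c324s2) wccl1x1c324s3) wccl1x1c324s4) wccl1x1c324s5

theorem wccl1x1c336s0 : pgChkGenW 8404 (List.range 8404) wcL1 [wcL2, wcL3, wcL4, wcL5, wcL6, wcL7, wcL8, wcL9, wcL10]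
    (wcgen wcT1x1 wcI1x1) 336 2 = true := by
  decide +kernel

theorem wccl1x1c336s1 : pgChkGenW 8404 (List.range 8404) wcL1 [wcL2, wcL3, wcL4, wcL5, wcL6, wcL7, wcL8, wcL9, wcL10]
    (wcgen wcT1x1 wcI1x1) 338 2 = true := by
  decide +kernel

theorem wccl1x1c336s2 : pgChkGenW 8404 (List.range 8404) wcL1 [wcL2, wcL3, wcL4, wcL5, wcL6, wcL7, wcL8, wcL9, wcL10]
    (wcgen wcT1x1 wcI1x1) 340 2 = true := by
  decide +kernel

theorem wccl1x1c336s3 : pgChkGenW 8404 (List.range 8404) wcL1 [wcL2, wcL3, wcL4, wcL5, wcL6, wcL7, wcL8, wcL9, wcL10]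
    (wcgen wcT1x1 wcI1x1) 342 2 = true := by
  decide +kernel

theorem wccl1x1c336s4 : pgChkGenW 8404 (List.range 8404) wcL1 [wcL2, wcL3, wcL4, wcL5, wcL6, wcL7, wcL8, wcL9, wcL10]
    (wcgen wcT1x1 wcI1x1) 344 2 = true := by
  decide +kernel

theorem wccl1x1c336s5 : pgChkGenW 8404 (List.range 8404) wcL1 [wcL2, wcL3, wcL4, wcL5, wcL6, wcL7, wcL8, wcL9, wcL10]
    (wcgen wcT1x1 wcI1x1) 346 2 = true := by
  decide +kernel

theorem wccl1x1c336 : pgChkGenW 8404 (List.range 8404) wcL1 [wcL2, wcL3, wcL4, wcL5, wcL6, wcL7, wcL8, wcL9, wcL10]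
    (wcgen wcT1x1 wcI1x1) 336 12 = true :=
  pgChkGenW_append (lo := 336) (c1 := 10) (c2 := 2) (pgChkGenW_append (lo := 336) (c1 := 8) (c2 := 2) (pgChkGenW_append (lo := 336) (c1 := 6) (c2 := 2) (pgChkGenW_append (lo := 336) (c1 := 4) (c2 := 2) (pgChkGenW_append (lo := 336) (c1 := 2) (c2 := 2) (wccl1x1c336s0) wccl1x1c336s1) wccl1x1c336s2) wccl1x1c336s3) wccl1x1c336s4) wccl1x1c336s5

theorem wccl1x1c348s0 : pgChkGenW 8404 (List.range 8404) wcL1 [wcL2, wcL3, wcL4, wcL5, wcL6, wcL7, wcL8, wcL9, wcL10]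
    (wcgen wcT1x1 wcI1x1) 348 2 = true := by
  decide +kernel

theorem wccl1x1c348s1 : pgChkGenW 8404 (List.range 8404) wcL1 [wcL2, wcL3, wcL4, wcL5, wcL6, wcL7, wcL8, wcL9, wcL10]
    (wcgen wcT1x1 wcI1x1) 350 2 = true := by
  decide +kernel

theorem wccl1x1c348s2 : pgChkGenW 8404 (List.range 8404) wcL1 [wcL2, wcL3, wcL4, wcL5, wcL6, wcL7, wcL8, wcL9, wcL10]
    (wcgen wcT1x1 wcI1x1) 352 2 = true := by
  decide +kernel

theorem wccl1x1c348s3 : pgChkGenW 8404 (List.range 8404) wcL1 [wcL2, wcL3, wcL4, wcL5, wcL6, wcL7, wcL8, wcL9, wcL10]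
    (wcgen wcT1x1 wcI1x1) 354 2 = true := by
  decide +kernel

theorem wccl1x1c348s4 : pgChkGenW 8404 (List.range 8404) wcL1 [wcL2, wcL3, wcL4, wcL5, wcL6, wcL7, wcL8, wcL9, wcL10]
    (wcgen wcT1x1 wcI1x1) 356 2 = true := by
  decide +kernel

theorem wccl1x1c348s5 : pgChkGenW 8404 (List.range 8404) wcL1 [wcL2, wcL3, wcL4, wcL5, wcL6, wcL7, wcL8, wcL9, wcL10]
    (wcgen wcT1x1 wcI1x1) 358 2 = true := by
  decide +kernel

theorem wccl1x1c348 : pgChkGenW 8404 (List.range 8404) wcL1 [wcL2, wcL3, wcL4, wcL5, wcL6, wcL7, wcL8, wcL9, wcL10]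
    (wcgen wcT1x1 wcI1x1) 348 12 = true :=
  pgChkGenW_append (lo := 348) (c1 := 10) (c2 := 2) (pgChkGenW_append (lo := 348) (c1 := 8) (c2 := 2) (pgChkGenW_append (lo := 348) (c1 := 6) (c2 := 2) (pgChkGenW_append (lo := 348) (c1 := 4) (c2 := 2) (pgChkGenW_append (lo := 348) (c1 := 2) (c2 := 2) (wccl1x1c348s0) wccl1x1c348s1) wccl1x1c348s2) wccl1x1c348s3) wccl1x1c348s4) wccl1x1c348s5

end Cfsg.Agent.Lib.Helper5.U62Cov
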