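import Cfsg.Agent.Lib.Helper5.U62CovData
import Cfsg.Agent.Lib.helper23.PgX
import Cfsg.Agent.Lib.helper23.PgH

set_option autoImplicit false
set_option maxRecDepth 1000000
set_option Elab.async false

/-! the covering group of the unitary group of degree six over four elements, on 8404 points: the checks of the stabiliser chain (generated), part 45. -/

namespace Cfsg.Agent.Lib.Helper5.U62Cov

open Cfsg.Agent.Lib.helper23 Subgroup MulAction
theorem wccl1x1c360s0 : pgChkGenW 8404 (List.range 8404) wcL1 [wcL2, wcL3, wcL4, wcL5, wcL6, wcL7, wcL8, wcL9, wcL10]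
    (wcgen wcT1x1 wcI1x1) 360 2 = true := by
  decide +kernel

theorem wccl1x1c360s1 : pgChkGenW 8404 (List.range 8404) wcL1 [wcL2, wcL3, wcL4, wcL5, wcL6, wcL7, wcL8, wcL9, wcL10]
    (wcgen wcT1x1 wcI1x1) 362 2 = true := by
  decide +kernel

theorem wccl1x1c360s2 : pgChkGenW 8404 (List.range 8404) wcL1 [wcL2, wcL3, wcL4, wcL5, wcL6, wcL7, wcL8, wcL9, wcL10]
    (wcgen wcT1x1 wcI1x1) 364 2 = true := by
  decide +kernel

theorem wccl1x1c360s3 : pgChkGenW 8404 (List.range 8404) wcL1 [wcL2, wcL3, wcL4, wcL5, wcL6, wcL7, wcL8, wcL9, wcL10]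
    (wcgen wcT1x1 wcI1x1) 366 2 = true := by
  decide +kernel

theorem wccl1x1c360s4 : pgChkGenW 8404 (List.range 8404) wcL1 [wcL2, wcL3, wcL4, wcL5, wcL6, wcL7, wcL8, wcL9, wcL10]
    (wcgen wcT1x1 wcI1x1) 368 2 = true := by
  decide +kernel

theorem wccl1x1c360s5 : pgChkGenW 8404 (List.range 8404) wcL1 [wcL2, wcL3, wcL4, wcL5, wcL6, wcL7, wcL8, wcL9, wcL10]
    (wcgen wcT1x1 wcI1x1) 370 2 = true := by
  decide +kernel

theorem wccl1x1c360 : pgChkGenW 8404 (List.range 8404) wcL1 [wcL2, wcL3, wcL4, wcL5, wcL6, wcL7, wcL8, wcL9, wcL10]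
    (wcgen wcT1x1 wcI1x1) 360 12 = true :=
  pgChkGenW_append (lo := 360) (c1 := 10) (c2 := 2) (pgChkGenW_append (lo := 360) (c1 := 8) (c2 := 2) (pgChkGenW_append (lo := 360) (c1 := 6) (c2 := 2) (pgChkGenW_append (lo := 360) (c1 := 4) (c2 := 2) (pgChkGenW_append (lo := 360) (c1 := 2) (c2 := 2) (wccl1x1c360s0) wccl1x1c360s1) wccl1x1c360s2) wccl1x1c360s3) wccl1x1c360s4) wccl1x1c360s5

theorem wccl1x1c372s0 : pgChkGenW 8404 (List.range 8404) wcL1 [wcL2, wcL3, wcL4, wcL5, wcL6, wcL7, wcL8, wcL9, wcL10]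
    (wcgen wcT1x1 wcI1x1) 372 2 = true := by
  decide +kernel

theorem wccl1x1c372s1 : pgChkGenW 8404 (List.range 8404) wcL1 [wcL2, wcL3, wcL4, wcL5, wcL6, wcL7, wcL8, wcL9, wcL10]
    (wcgen wcT1x1 wcI1x1) 374 2 = true := by
  decide +kernel

theorem wccl1x1c372s2 : pgChkGenW 8404 (List.range 8404) wcL1 [wcL2, wcL3, wcL4, wcL5, wcL6, wcL7, wcL8, wcL9, wcL10]
    (wcgen wcT1x1 wcI1x1) 376 2 = true := by
  decide +kernel

theorem wccl1x1c372s3 : pgChkGenW 8404 (List.range 8404) wcL1 [wcL2, wcL3, wcL4, wcL5, wcL6, wcL7, wcL8, wcL9, wcL10]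
    (wcgen wcT1x1 wcI1x1) 378 2 = true := by
  decide +kernel

theorem wccl1x1c372s4 : pgChkGenW 8404 (List.range 8404) wcL1 [wcL2, wcL3, wcL4, wcL5, wcL6, wcL7, wcL8, wcL9, wcL10]
    (wcgen wcT1x1 wcI1x1) 380 2 = true := by
  decide +kernel

theorem wccl1x1c372s5 : pgChkGenW 8404 (List.range 8404) wcL1 [wcL2, wcL3, wcL4, wcL5, wcL6, wcL7, wcL8, wcL9, wcL10]
    (wcgen wcT1x1 wcI1x1) 382 2 = true := by
  decide +kernel

theorem wccl1x1c372 : pgChkGenW 8404 (List.range 8404) wcL1 [wcL2, wcL3, wcL4, wcL5, wcL6, wcL7, wcL8, wcL9, wcL10]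
    (wcgen wcT1x1 wcI1x1) 372 12 = true :=
  pgChkGenW_append (lo := 372) (c1 := 10) (c2 := 2) (pgChkGenW_append (lo := 372) (c1 := 8) (c2 := 2) (pgChkGenW_append (lo := 372) (c1 := 6) (c2 := 2) (pgChkGenW_append (lo := 372) (c1 := 4) (c2 := 2) (pgChkGenW_append (lo := 372) (c1 := 2) (c2 := 2) (wccl1x1c372s0) wccl1x1c372s1) wccl1x1c372s2) wccl1x1c372s3) wccl1x1c372s4) wccl1x1c372s5

theorem wccl1x1c384s0 : pgChkGenW 8404 (List.range 8404) wcL1 [wcL2, wcL3, wcL4, wcL5, wcL6, wcL7, wcL8, wcL9, wcL10]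
    (wcgen wcT1x1 wcI1x1) 384 2 = true := by
  decide +kernel

theorem wccl1x1c384s1 : pgChkGenW 8404 (List.range 8404) wcL1 [wcL2, wcL3, wcL4, wcL5, wcL6, wcL7, wcL8, wcL9, wcL10]
    (wcgen wcT1x1 wcI1x1) 386 2 = true := by
  decide +kernel

theorem wccl1x1c384s2 : pgChkGenW 8404 (List.range 8404) wcL1 [wcL2, wcL3, wcL4, wcL5, wcL6, wcL7, wcL8, wcL9, wcL10]
    (wcgen wcT1x1 wcI1x1) 388 2 = true := by
  decide +kernel

theorem wccl1x1c384s3 : pgChkGenW 8404 (List.range 8404) wcL1 [wcL2, wcL3, wcL4, wcL5, wcL6, wcL7, wcL8, wcL9, wcL10]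
    (wcgen wcT1x1 wcI1x1) 390 2 = true := by
  decide +kernel

theorem wccl1x1c384s4 : pgChkGenW 8404 (List.range 8404) wcL1 [wcL2, wcL3, wcL4, wcL5, wcL6, wcL7, wcL8, wcL9, wcL10]
    (wcgen wcT1x1 wcI1x1) 392 2 = true := by
  decide +kernel

theorem wccl1x1c384s5 : pgChkGenW 8404 (List.range 8404) wcL1 [wcL2, wcL3, wcL4, wcL5, wcL6, wcL7, wcL8, wcL9, wcL10]
    (wcgen wcT1x1 wcI1x1) 394 2 = true := by
  decide +kernel

theorem wccl1x1c384 : pgChkGenW 8404 (List.range 8404) wcL1 [wcL2, wcL3, wcL4, wcL5, wcL6, wcL7, wcL8, wcL9, wcL10]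
    (wcgen wcT1x1 wcI1x1) 384 12 = true :=
  pgChkGenW_append (lo := 384) (c1 := 10) (c2 := 2) (pgChkGenW_append (lo := 384) (c1 := 8) (c2 := 2) (pgChkGenW_append (lo := 384) (c1 := 6) (c2 := 2) (pgChkGenW_append (lo := 384) (c1 := 4) (c2 := 2) (pgChkGenW_append (lo := 384) (c1 := 2) (c2 := 2) (wccl1x1c384s0) wccl1x1c384s1) wccl1x1c384s2) wccl1x1c384s3) wccl1x1c384s4) wccl1x1c384s5

theorem wccl1x1c396s0 : pgChkGenW 8404 (List.range 8404) wcL1 [wcL2, wcL3, wcL4, wcL5, wcL6, wcL7, wcL8, wcL9, wcL10]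
    (wcgen wcT1x1 wcI1x1) 396 2 = true := by
  decide +kernel

theorem wccl1x1c396s1 : pgChkGenW 8404 (List.range 8404) wcL1 [wcL2, wcL3, wcL4, wcL5, wcL6, wcL7, wcL8, wcL9, wcL10]
    (wcgen wcT1x1 wcI1x1) 398 2 = true := by
  decide +kernel

theorem wccl1x1c396s2 : pgChkGenW 8404 (List.range 8404) wcL1 [wcL2, wcL3, wcL4, wcL5, wcL6, wcL7, wcL8, wcL9, wcL10]
    (wcgen wcT1x1 wcI1x1) 400 2 = true := by
  decide +kernel

theorem wccl1x1c396s3 : pgChkGenW 8404 (List.range 8404) wcL1 [wcL2, wcL3, wcL4, wcL5, wcL6, wcL7, wcL8, wcL9, wcL10]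
    (wcgen wcT1x1 wcI1x1) 402 2 = true := by
  decide +kernel

theorem wccl1x1c396s4 : pgChkGenW 8404 (List.range 8404) wcL1 [wcL2, wcL3, wcL4, wcL5, wcL6, wcL7, wcL8, wcL9, wcL10]
    (wcgen wcT1x1 wcI1x1) 404 2 = true := by
  decide +kernel

theorem wccl1x1c396s5 : pgChkGenW 8404 (List.range 8404) wcL1 [wcL2, wcL3, wcL4, wcL5, wcL6, wcL7, wcL8, wcL9, wcL10]
    (wcgen wcT1x1 wcI1x1) 406 2 = true := by
  decide +kernel

theorem wccl1x1c396 : pgChkGenW 8404 (List.range 8404) wcL1 [wcL2, wcL3, wcL4, wcL5, wcL6, wcL7, wcL8, wcL9, wcL10]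
    (wcgen wcT1x1 wcI1x1) 396 12 = true :=
  pgChkGenW_append (lo := 396) (c1 := 10) (c2 := 2) (pgChkGenW_append (lo := 396) (c1 := 8) (c2 := 2) (pgChkGenW_append (lo := 396) (c1 := 6) (c2 := 2) (pgChkGenW_append (lo := 396) (c1 := 4) (c2 := 2) (pgChkGenW_append (lo := 396) (c1 := 2) (c2 := 2) (wccl1x1c396s0) wccl1x1c396s1) wccl1x1c396s2) wccl1x1c396s3) wccl1x1c396s4) wccl1x1c396s5

end Cfsg.Agent.Lib.Helper5.U62Cov
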