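import Cfsg.Agent.Lib.Helper5.U62CovData
import Cfsg.Agent.Lib.helper23.PgX
import Cfsg.Agent.Lib.helper23.PgH

set_option autoImplicit false
set_option maxRecDepth 1000000
set_option Elab.async false

/-! the covering group of the unitary group of degree six over four elements, on 8404 points: the checks of the stabiliser chain (generated), part 46. -/

namespace Cfsg.Agent.Lib.Helper5.U62Cov

open Cfsg.Agent.Lib.helper23 Subgroup MulAction
theorem wccl1x1c408s0 : pgChkGenW 8404 (List.range 8404) wcL1 [wcL2, wcL3, wcL4, wcL5, wcL6, wcL7, wcL8, wcL9, wcL10]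
    (wcgen wcT1x1 wcI1x1) 408 2 = true := by
  decide +kernel

theorem wccl1x1c408s1 : pgChkGenW 8404 (List.range 8404) wcL1 [wcL2, wcL3, wcL4, wcL5, wcL6, wcL7, wcL8, wcL9, wcL10]
    (wcgen wcT1x1 wcI1x1) 410 2 = true := by
  decide +kernel

theorem wccl1x1c408s2 : pgChkGenW 8404 (List.range 8404) wcL1 [wcL2, wcL3, wcL4, wcL5, wcL6, wcL7, wcL8, wcL9, wcL10]
    (wcgen wcT1x1 wcI1x1) 412 2 = true := by
  decide +kernel

theorem wccl1x1c408s3 : pgChkGenW 8404 (List.range 8404) wcL1 [wcL2, wcL3, wcL4, wcL5, wcL6, wcL7, wcL8, wcL9, wcL10]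
    (wcgen wcT1x1 wcI1x1) 414 2 = true := by
  decide +kernel

theorem wccl1x1c408s4 : pgChkGenW 8404 (List.range 8404) wcL1 [wcL2, wcL3, wcL4, wcL5, wcL6, wcL7, wcL8, wcL9, wcL10]
    (wcgen wcT1x1 wcI1x1) 416 2 = true := by
  decide +kernel

theorem wccl1x1c408s5 : pgChkGenW 8404 (List.range 8404) wcL1 [wcL2, wcL3, wcL4, wcL5, wcL6, wcL7, wcL8, wcL9, wcL10]
    (wcgen wcT1x1 wcI1x1) 418 2 = true := by
  decide +kernel

theorem wccl1x1c408 : pgChkGenW 8404 (List.range 8404) wcL1 [wcL2, wcL3, wcL4, wcL5, wcL6, wcL7, wcL8, wcL9, wcL10]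
    (wcgen wcT1x1 wcI1x1) 408 12 = true :=
  pgChkGenW_append (lo := 408) (c1 := 10) (c2 := 2) (pgChkGenW_append (lo := 408) (c1 := 8) (c2 := 2) (pgChkGenW_append (lo := 408) (c1 := 6) (c2 := 2) (pgChkGenW_append (lo := 408) (c1 := 4) (c2 := 2) (pgChkGenW_append (lo := 408) (c1 := 2) (c2 := 2) (wccl1x1c408s0) wccl1x1c408s1) wccl1x1c408s2) wccl1x1c408s3) wccl1x1c408s4) wccl1x1c408s5

theorem wccl1x1c420s0 : pgChkGenW 8404 (List.range 8404) wcL1 [wcL2, wcL3, wcL4, wcL5, wcL6, wcL7, wcL8, wcL9, wcL10]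
    (wcgen wcT1x1 wcI1x1) 420 2 = true := by
  decide +kernel

theorem wccl1x1c420s1 : pgChkGenW 8404 (List.range 8404) wcL1 [wcL2, wcL3, wcL4, wcL5, wcL6, wcL7, wcL8, wcL9, wcL10]
    (wcgen wcT1x1 wcI1x1) 422 2 = true := by
  decide +kernel

theorem wccl1x1c420s2 : pgChkGenW 8404 (List.range 8404) wcL1 [wcL2, wcL3, wcL4, wcL5, wcL6, wcL7, wcL8, wcL9, wcL10]
    (wcgen wcT1x1 wcI1x1) 424 2 = true := by
  decide +kernel

theorem wccl1x1c420s3 : pgChkGenW 8404 (List.range 8404) wcL1 [wcL2, wcL3, wcL4, wcL5, wcL6, wcL7, wcL8, wcL9, wcL10]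
    (wcgen wcT1x1 wcI1x1) 426 2 = true := by
  decide +kernel

theorem wccl1x1c420s4 : pgChkGenW 8404 (List.range 8404) wcL1 [wcL2, wcL3, wcL4, wcL5, wcL6, wcL7, wcL8, wcL9, wcL10]
    (wcgen wcT1x1 wcI1x1) 428 2 = true := by
  decide +kernel

theorem wccl1x1c420s5 : pgChkGenW 8404 (List.range 8404) wcL1 [wcL2, wcL3, wcL4, wcL5, wcL6, wcL7, wcL8, wcL9, wcL10]
    (wcgen wcT1x1 wcI1x1) 430 2 = true := by
  decide +kernel

theorem wccl1x1c420 : pgChkGenW 8404 (List.range 8404) wcL1 [wcL2, wcL3, wcL4, wcL5, wcL6, wcL7, wcL8, wcL9, wcL10]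
    (wcgen wcT1x1 wcI1x1) 420 12 = true :=
  pgChkGenW_append (lo := 420) (c1 := 10) (c2 := 2) (pgChkGenW_append (lo := 420) (c1 := 8) (c2 := 2) (pgChkGenW_append (lo := 420) (c1 := 6) (c2 := 2) (pgChkGenW_append (lo := 420) (c1 := 4) (c2 := 2) (pgChkGenW_append (lo := 420) (c1 := 2) (c2 := 2) (wccl1x1c420s0) wccl1x1c420s1) wccl1x1c420s2) wccl1x1c420s3) wccl1x1c420s4) wccl1x1c420s5

theorem wccl1x1c432s0 : pgChkGenW 8404 (List.range 8404) wcL1 [wcL2, wcL3, wcL4, wcL5, wcL6, wcL7, wcL8, wcL9, wcL10]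
    (wcgen wcT1x1 wcI1x1) 432 2 = true := by
  decide +kernel

theorem wccl1x1c432s1 : pgChkGenW 8404 (List.range 8404) wcL1 [wcL2, wcL3, wcL4, wcL5, wcL6, wcL7, wcL8, wcL9, wcL10]
    (wcgen wcT1x1 wcI1x1) 434 2 = true := by
  decide +kernel

theorem wccl1x1c432s2 : pgChkGenW 8404 (List.range 8404) wcL1 [wcL2, wcL3, wcL4, wcL5, wcL6, wcL7, wcL8, wcL9, wcL10]
    (wcgen wcT1x1 wcI1x1) 436 2 = true := by
  decide +kernel

theorem wccl1x1c432s3 : pgChkGenW 8404 (List.range 8404) wcL1 [wcL2, wcL3, wcL4, wcL5, wcL6, wcL7, wcL8, wcL9, wcL10]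
    (wcgen wcT1x1 wcI1x1) 438 2 = true := by
  decide +kernel

theorem wccl1x1c432s4 : pgChkGenW 8404 (List.range 8404) wcL1 [wcL2, wcL3, wcL4, wcL5, wcL6, wcL7, wcL8, wcL9, wcL10]
    (wcgen wcT1x1 wcI1x1) 440 2 = true := by
  decide +kernel

theorem wccl1x1c432s5 : pgChkGenW 8404 (List.range 8404) wcL1 [wcL2, wcL3, wcL4, wcL5, wcL6, wcL7, wcL8, wcL9, wcL10]
    (wcgen wcT1x1 wcI1x1) 442 2 = true := by
  decide +kernel

theorem wccl1x1c432 : pgChkGenW 8404 (List.range 8404) wcL1 [wcL2, wcL3, wcL4, wcL5, wcL6, wcL7, wcL8, wcL9, wcL10]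
    (wcgen wcT1x1 wcI1x1) 432 12 = true :=
  pgChkGenW_append (lo := 432) (c1 := 10) (c2 := 2) (pgChkGenW_append (lo := 432) (c1 := 8) (c2 := 2) (pgChkGenW_append (lo := 432) (c1 := 6) (c2 := 2) (pgChkGenW_append (lo := 432) (c1 := 4) (c2 := 2) (pgChkGenW_append (lo := 432) (c1 := 2) (c2 := 2) (wccl1x1c432s0) wccl1x1c432s1) wccl1x1c432s2) wccl1x1c432s3) wccl1x1c432s4) wccl1x1c432s5

theorem wccl1x1c444s0 : pgChkGenW 8404 (List.range 8404) wcL1 [wcL2, wcL3, wcL4, wcL5, wcL6, wcL7, wcL8, wcL9, wcL10]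
    (wcgen wcT1x1 wcI1x1) 444 2 = true := by
  decide +kernel

theorem wccl1x1c444s1 : pgChkGenW 8404 (List.range 8404) wcL1 [wcL2, wcL3, wcL4, wcL5, wcL6, wcL7, wcL8, wcL9, wcL10]
    (wcgen wcT1x1 wcI1x1) 446 2 = true := by
  decide +kernel

theorem wccl1x1c444s2 : pgChkGenW 8404 (List.range 8404) wcL1 [wcL2, wcL3, wcL4, wcL5, wcL6, wcL7, wcL8, wcL9, wcL10]
    (wcgen wcT1x1 wcI1x1) 448 2 = true := by
  decide +kernel

theorem wccl1x1c444s3 : pgChkGenW 8404 (List.range 8404) wcL1 [wcL2, wcL3, wcL4, wcL5, wcL6, wcL7, wcL8, wcL9, wcL10]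
    (wcgen wcT1x1 wcI1x1) 450 2 = true := by
  decide +kernel

theorem wccl1x1c444s4 : pgChkGenW 8404 (List.range 8404) wcL1 [wcL2, wcL3, wcL4, wcL5, wcL6, wcL7, wcL8, wcL9, wcL10]
    (wcgen wcT1x1 wcI1x1) 452 2 = true := by
  decide +kernel

theorem wccl1x1c444s5 : pgChkGenW 8404 (List.range 8404) wcL1 [wcL2, wcL3, wcL4, wcL5, wcL6, wcL7, wcL8, wcL9, wcL10]
    (wcgen wcT1x1 wcI1x1) 454 2 = true := by
  decide +kernel

theorem wccl1x1c444 : pgChkGenW 8404 (List.range 8404) wcL1 [wcL2, wcL3, wcL4, wcL5, wcL6, wcL7, wcL8, wcL9, wcL10]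
    (wcgen wcT1x1 wcI1x1) 444 12 = true :=
  pgChkGenW_append (lo := 444) (c1 := 10) (c2 := 2) (pgChkGenW_append (lo := 444) (c1 := 8) (c2 := 2) (pgChkGenW_append (lo := 444) (c1 := 6) (c2 := 2) (pgChkGenW_append (lo := 444) (c1 := 4) (c2 := 2) (pgChkGenW_append (lo := 444) (c1 := 2) (c2 := 2) (wccl1x1c444s0) wccl1x1c444s1) wccl1x1c444s2) wccl1x1c444s3) wccl1x1c444s4) wccl1x1c444s5

end Cfsg.Agent.Lib.Helper5.U62Cov
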