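import Cfsg.Agent.Lib.Helper5.U62CovData
import Cfsg.Agent.Lib.helper23.PgX
import Cfsg.Agent.Lib.helper23.PgH

set_option autoImplicit false
set_option maxRecDepth 1000000
set_option Elab.async false

/-! the covering group of the unitary group of degree six over four elements, on 8404 points: the checks of the stabiliser chain (generated), part 47. -/

namespace Cfsg.Agent.Lib.Helper5.U62Cov

open Cfsg.Agent.Lib.helper23 Subgroup MulAction
theorem wccl1x1c456s0 : pgChkGenW 8404 (List.range 8404) wcL1 [wcL2, wcL3, wcL4, wcL5, wcL6, wcL7, wcL8, wcL9, wcL10]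
    (wcgen wcT1x1 wcI1x1) 456 2 = true := by
  decide +kernel

theorem wccl1x1c456s1 : pgChkGenW 8404 (List.range 8404) wcL1 [wcL2, wcL3, wcL4, wcL5, wcL6, wcL7, wcL8, wcL9, wcL10]
    (wcgen wcT1x1 wcI1x1) 458 2 = true := by
  decide +kernel

theorem wccl1x1c456s2 : pgChkGenW 8404 (List.range 8404) wcL1 [wcL2, wcL3, wcL4, wcL5, wcL6, wcL7, wcL8, wcL9, wcL10]
    (wcgen wcT1x1 wcI1x1) 460 2 = true := by
  decide +kernel

theorem wccl1x1c456s3 : pgChkGenW 8404 (List.range 8404) wcL1 [wcL2, wcL3, wcL4, wcL5, wcL6, wcL7, wcL8, wcL9, wcL10]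
    (wcgen wcT1x1 wcI1x1) 462 2 = true := by
  decide +kernel

theorem wccl1x1c456s4 : pgChkGenW 8404 (List.range 8404) wcL1 [wcL2, wcL3, wcL4, wcL5, wcL6, wcL7, wcL8, wcL9, wcL10]
    (wcgen wcT1x1 wcI1x1) 464 2 = true := by
  decide +kernel

theorem wccl1x1c456s5 : pgChkGenW 8404 (List.range 8404) wcL1 [wcL2, wcL3, wcL4, wcL5, wcL6, wcL7, wcL8, wcL9, wcL10]
    (wcgen wcT1x1 wcI1x1) 466 2 = true := by
  decide +kernel

theorem wccl1x1c456 : pgChkGenW 8404 (List.range 8404) wcL1 [wcL2, wcL3, wcL4, wcL5, wcL6, wcL7, wcL8, wcL9, wcL10]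
    (wcgen wcT1x1 wcI1x1) 456 12 = true :=
  pgChkGenW_append (lo := 456) (c1 := 10) (c2 := 2) (pgChkGenW_append (lo := 456) (c1 := 8) (c2 := 2) (pgChkGenW_append (lo := 456) (c1 := 6) (c2 := 2) (pgChkGenW_append (lo := 456) (c1 := 4) (c2 := 2) (pgChkGenW_append (lo := 456) (c1 := 2) (c2 := 2) (wccl1x1c456s0) wccl1x1c456s1) wccl1x1c456s2) wccl1x1c456s3) wccl1x1c456s4) wccl1x1c456s5

theorem wccl1x1c468s0 : pgChkGenW 8404 (List.range 8404) wcL1 [wcL2, wcL3, wcL4, wcL5, wcL6, wcL7, wcL8, wcL9, wcL10]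
    (wcgen wcT1x1 wcI1x1) 468 2 = true := by
  decide +kernel

theorem wccl1x1c468s1 : pgChkGenW 8404 (List.range 8404) wcL1 [wcL2, wcL3, wcL4, wcL5, wcL6, wcL7, wcL8, wcL9, wcL10]
    (wcgen wcT1x1 wcI1x1) 470 2 = true := by
  decide +kernel

theorem wccl1x1c468s2 : pgChkGenW 8404 (List.range 8404) wcL1 [wcL2, wcL3, wcL4, wcL5, wcL6, wcL7, wcL8, wcL9, wcL10]
    (wcgen wcT1x1 wcI1x1) 472 2 = true := by
  decide +kernel

theorem wccl1x1c468s3 : pgChkGenW 8404 (List.range 8404) wcL1 [wcL2, wcL3, wcL4, wcL5, wcL6, wcL7, wcL8, wcL9, wcL10]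
    (wcgen wcT1x1 wcI1x1) 474 2 = true := by
  decide +kernel

theorem wccl1x1c468s4 : pgChkGenW 8404 (List.range 8404) wcL1 [wcL2, wcL3, wcL4, wcL5, wcL6, wcL7, wcL8, wcL9, wcL10]
    (wcgen wcT1x1 wcI1x1) 476 2 = true := by
  decide +kernel

theorem wccl1x1c468s5 : pgChkGenW 8404 (List.range 8404) wcL1 [wcL2, wcL3, wcL4, wcL5, wcL6, wcL7, wcL8, wcL9, wcL10]
    (wcgen wcT1x1 wcI1x1) 478 2 = true := by
  decide +kernel

theorem wccl1x1c468 : pgChkGenW 8404 (List.range 8404) wcL1 [wcL2, wcL3, wcL4, wcL5, wcL6, wcL7, wcL8, wcL9, wcL10]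
    (wcgen wcT1x1 wcI1x1) 468 12 = true :=
  pgChkGenW_append (lo := 468) (c1 := 10) (c2 := 2) (pgChkGenW_append (lo := 468) (c1 := 8) (c2 := 2) (pgChkGenW_append (lo := 468) (c1 := 6) (c2 := 2) (pgChkGenW_append (lo := 468) (c1 := 4) (c2 := 2) (pgChkGenW_append (lo := 468) (c1 := 2) (c2 := 2) (wccl1x1c468s0) wccl1x1c468s1) wccl1x1c468s2) wccl1x1c468s3) wccl1x1c468s4) wccl1x1c468s5

theorem wccl1x1c480s0 : pgChkGenW 8404 (List.range 8404) wcL1 [wcL2, wcL3, wcL4, wcL5, wcL6, wcL7, wcL8, wcL9, wcL10]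
    (wcgen wcT1x1 wcI1x1) 480 2 = true := by
  decide +kernel

theorem wccl1x1c480s1 : pgChkGenW 8404 (List.range 8404) wcL1 [wcL2, wcL3, wcL4, wcL5, wcL6, wcL7, wcL8, wcL9, wcL10]
    (wcgen wcT1x1 wcI1x1) 482 2 = true := by
  decide +kernel

theorem wccl1x1c480s2 : pgChkGenW 8404 (List.range 8404) wcL1 [wcL2, wcL3, wcL4, wcL5, wcL6, wcL7, wcL8, wcL9, wcL10]
    (wcgen wcT1x1 wcI1x1) 484 2 = true := by
  decide +kernel

theorem wccl1x1c480s3 : pgChkGenW 8404 (List.range 8404) wcL1 [wcL2, wcL3, wcL4, wcL5, wcL6, wcL7, wcL8, wcL9, wcL10]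
    (wcgen wcT1x1 wcI1x1) 486 2 = true := by
  decide +kernel

theorem wccl1x1c480s4 : pgChkGenW 8404 (List.range 8404) wcL1 [wcL2, wcL3, wcL4, wcL5, wcL6, wcL7, wcL8, wcL9, wcL10]
    (wcgen wcT1x1 wcI1x1) 488 2 = true := by
  decide +kernel

theorem wccl1x1c480s5 : pgChkGenW 8404 (List.range 8404) wcL1 [wcL2, wcL3, wcL4, wcL5, wcL6, wcL7, wcL8, wcL9, wcL10]
    (wcgen wcT1x1 wcI1x1) 490 2 = true := by
  decide +kernel

theorem wccl1x1c480 : pgChkGenW 8404 (List.range 8404) wcL1 [wcL2, wcL3, wcL4, wcL5, wcL6, wcL7, wcL8, wcL9, wcL10]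
    (wcgen wcT1x1 wcI1x1) 480 12 = true :=
  pgChkGenW_append (lo := 480) (c1 := 10) (c2 := 2) (pgChkGenW_append (lo := 480) (c1 := 8) (c2 := 2) (pgChkGenW_append (lo := 480) (c1 := 6) (c2 := 2) (pgChkGenW_append (lo := 480) (c1 := 4) (c2 := 2) (pgChkGenW_append (lo := 480) (c1 := 2) (c2 := 2) (wccl1x1c480s0) wccl1x1c480s1) wccl1x1c480s2) wccl1x1c480s3) wccl1x1c480s4) wccl1x1c480s5

theorem wccl1x1c492s0 : pgChkGenW 8404 (List.range 8404) wcL1 [wcL2, wcL3, wcL4, wcL5, wcL6, wcL7, wcL8, wcL9, wcL10]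
    (wcgen wcT1x1 wcI1x1) 492 2 = true := by
  decide +kernel

theorem wccl1x1c492s1 : pgChkGenW 8404 (List.range 8404) wcL1 [wcL2, wcL3, wcL4, wcL5, wcL6, wcL7, wcL8, wcL9, wcL10]
    (wcgen wcT1x1 wcI1x1) 494 2 = true := by
  decide +kernel

theorem wccl1x1c492s2 : pgChkGenW 8404 (List.range 8404) wcL1 [wcL2, wcL3, wcL4, wcL5, wcL6, wcL7, wcL8, wcL9, wcL10]
    (wcgen wcT1x1 wcI1x1) 496 2 = true := by
  decide +kernel

theorem wccl1x1c492s3 : pgChkGenW 8404 (List.range 8404) wcL1 [wcL2, wcL3, wcL4, wcL5, wcL6, wcL7, wcL8, wcL9, wcL10]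
    (wcgen wcT1x1 wcI1x1) 498 2 = true := by
  decide +kernel

theorem wccl1x1c492s4 : pgChkGenW 8404 (List.range 8404) wcL1 [wcL2, wcL3, wcL4, wcL5, wcL6, wcL7, wcL8, wcL9, wcL10]
    (wcgen wcT1x1 wcI1x1) 500 2 = true := by
  decide +kernel

theorem wccl1x1c492s5 : pgChkGenW 8404 (List.range 8404) wcL1 [wcL2, wcL3, wcL4, wcL5, wcL6, wcL7, wcL8, wcL9, wcL10]
    (wcgen wcT1x1 wcI1x1) 502 2 = true := by
  decide +kernel

theorem wccl1x1c492 : pgChkGenW 8404 (List.range 8404) wcL1 [wcL2, wcL3, wcL4, wcL5, wcL6, wcL7, wcL8, wcL9, wcL10]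
    (wcgen wcT1x1 wcI1x1) 492 12 = true :=
  pgChkGenW_append (lo := 492) (c1 := 10) (c2 := 2) (pgChkGenW_append (lo := 492) (c1 := 8) (c2 := 2) (pgChkGenW_append (lo := 492) (c1 := 6) (c2 := 2) (pgChkGenW_append (lo := 492) (c1 := 4) (c2 := 2) (pgChkGenW_append (lo := 492) (c1 := 2) (c2 := 2) (wccl1x1c492s0) wccl1x1c492s1) wccl1x1c492s2) wccl1x1c492s3) wccl1x1c492s4) wccl1x1c492s5

end Cfsg.Agent.Lib.Helper5.U62Cov
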