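import Cfsg.Agent.Lib.Helper5.U62CovData
import Cfsg.Agent.Lib.helper23.PgX
import Cfsg.Agent.Lib.helper23.PgH

set_option autoImplicit false
set_option maxRecDepth 1000000
set_option Elab.async false

/-! the covering group of the unitary group of degree six over four elements, on 8404 points: the checks of the stabiliser chain (generated), part 48. -/

namespace Cfsg.Agent.Lib.Helper5.U62Cov

open Cfsg.Agent.Lib.helper23 Subgroup MulAction
theorem wccl1x1c504s0 : pgChkGenW 8404 (List.range 8404) wcL1 [wcL2, wcL3, wcL4, wcL5, wcL6, wcL7, wcL8, wcL9, wcL10]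
    (wcgen wcT1x1 wcI1x1) 504 2 = true := by
  decide +kernel

theorem wccl1x1c504s1 : pgChkGenW 8404 (List.range 8404) wcL1 [wcL2, wcL3, wcL4, wcL5, wcL6, wcL7, wcL8, wcL9, wcL10]
    (wcgen wcT1x1 wcI1x1) 506 2 = true := by
  decide +kernel

theorem wccl1x1c504s2 : pgChkGenW 8404 (List.range 8404) wcL1 [wcL2, wcL3, wcL4, wcL5, wcL6, wcL7, wcL8, wcL9, wcL10]
    (wcgen wcT1x1 wcI1x1) 508 2 = true := by
  decide +kernel

theorem wccl1x1c504s3 : pgChkGenW 8404 (List.range 8404) wcL1 [wcL2, wcL3, wcL4, wcL5, wcL6, wcL7, wcL8, wcL9, wcL10]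
    (wcgen wcT1x1 wcI1x1) 510 2 = true := by
  decide +kernel

theorem wccl1x1c504s4 : pgChkGenW 8404 (List.range 8404) wcL1 [wcL2, wcL3, wcL4, wcL5, wcL6, wcL7, wcL8, wcL9, wcL10]
    (wcgen wcT1x1 wcI1x1) 512 2 = true := by
  decide +kernel

theorem wccl1x1c504s5 : pgChkGenW 8404 (List.range 8404) wcL1 [wcL2, wcL3, wcL4, wcL5, wcL6, wcL7, wcL8, wcL9, wcL10]
    (wcgen wcT1x1 wcI1x1) 514 2 = true := by
  decide +kernel

theorem wccl1x1c504 : pgChkGenW 8404 (List.range 8404) wcL1 [wcL2, wcL3, wcL4, wcL5, wcL6, wcL7, wcL8, wcL9, wcL10]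
    (wcgen wcT1x1 wcI1x1) 504 12 = true :=
  pgChkGenW_append (lo := 504) (c1 := 10) (c2 := 2) (pgChkGenW_append (lo := 504) (c1 := 8) (c2 := 2) (pgChkGenW_append (lo := 504) (c1 := 6) (c2 := 2) (pgChkGenW_append (lo := 504) (c1 := 4) (c2 := 2) (pgChkGenW_append (lo := 504) (c1 := 2) (c2 := 2) (wccl1x1c504s0) wccl1x1c504s1) wccl1x1c504s2) wccl1x1c504s3) wccl1x1c504s4) wccl1x1c504s5

theorem wccl1x1c516s0 : pgChkGenW 8404 (List.range 8404) wcL1 [wcL2, wcL3, wcL4, wcL5, wcL6, wcL7, wcL8, wcL9, wcL10]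
    (wcgen wcT1x1 wcI1x1) 516 2 = true := by
  decide +kernel

theorem wccl1x1c516s1 : pgChkGenW 8404 (List.range 8404) wcL1 [wcL2, wcL3, wcL4, wcL5, wcL6, wcL7, wcL8, wcL9, wcL10]
    (wcgen wcT1x1 wcI1x1) 518 2 = true := by
  decide +kernel

theorem wccl1x1c516s2 : pgChkGenW 8404 (List.range 8404) wcL1 [wcL2, wcL3, wcL4, wcL5, wcL6, wcL7, wcL8, wcL9, wcL10]
    (wcgen wcT1x1 wcI1x1) 520 2 = true := by
  decide +kernel

theorem wccl1x1c516s3 : pgChkGenW 8404 (List.range 8404) wcL1 [wcL2, wcL3, wcL4, wcL5, wcL6, wcL7, wcL8, wcL9, wcL10]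
    (wcgen wcT1x1 wcI1x1) 522 2 = true := by
  decide +kernel

theorem wccl1x1c516s4 : pgChkGenW 8404 (List.range 8404) wcL1 [wcL2, wcL3, wcL4, wcL5, wcL6, wcL7, wcL8, wcL9, wcL10]
    (wcgen wcT1x1 wcI1x1) 524 2 = true := by
  decide +kernel

theorem wccl1x1c516s5 : pgChkGenW 8404 (List.range 8404) wcL1 [wcL2, wcL3, wcL4, wcL5, wcL6, wcL7, wcL8, wcL9, wcL10]
    (wcgen wcT1x1 wcI1x1) 526 2 = true := by
  decide +kernel

theorem wccl1x1c516 : pgChkGenW 8404 (List.range 8404) wcL1 [wcL2, wcL3, wcL4, wcL5, wcL6, wcL7, wcL8, wcL9, wcL10]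
    (wcgen wcT1x1 wcI1x1) 516 12 = true :=
  pgChkGenW_append (lo := 516) (c1 := 10) (c2 := 2) (pgChkGenW_append (lo := 516) (c1 := 8) (c2 := 2) (pgChkGenW_append (lo := 516) (c1 := 6) (c2 := 2) (pgChkGenW_append (lo := 516) (c1 := 4) (c2 := 2) (pgChkGenW_append (lo := 516) (c1 := 2) (c2 := 2) (wccl1x1c516s0) wccl1x1c516s1) wccl1x1c516s2) wccl1x1c516s3) wccl1x1c516s4) wccl1x1c516s5

theorem wccl1x1c528s0 : pgChkGenW 8404 (List.range 8404) wcL1 [wcL2, wcL3, wcL4, wcL5, wcL6, wcL7, wcL8, wcL9, wcL10]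
    (wcgen wcT1x1 wcI1x1) 528 2 = true := by
  decide +kernel

theorem wccl1x1c528s1 : pgChkGenW 8404 (List.range 8404) wcL1 [wcL2, wcL3, wcL4, wcL5, wcL6, wcL7, wcL8, wcL9, wcL10]
    (wcgen wcT1x1 wcI1x1) 530 2 = true := by
  decide +kernel

theorem wccl1x1c528s2 : pgChkGenW 8404 (List.range 8404) wcL1 [wcL2, wcL3, wcL4, wcL5, wcL6, wcL7, wcL8, wcL9, wcL10]
    (wcgen wcT1x1 wcI1x1) 532 2 = true := by
  decide +kernel

theorem wccl1x1c528s3 : pgChkGenW 8404 (List.range 8404) wcL1 [wcL2, wcL3, wcL4, wcL5, wcL6, wcL7, wcL8, wcL9, wcL10]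
    (wcgen wcT1x1 wcI1x1) 534 2 = true := by
  decide +kernel

theorem wccl1x1c528s4 : pgChkGenW 8404 (List.range 8404) wcL1 [wcL2, wcL3, wcL4, wcL5, wcL6, wcL7, wcL8, wcL9, wcL10]
    (wcgen wcT1x1 wcI1x1) 536 2 = true := by
  decide +kernel

theorem wccl1x1c528s5 : pgChkGenW 8404 (List.range 8404) wcL1 [wcL2, wcL3, wcL4, wcL5, wcL6, wcL7, wcL8, wcL9, wcL10]
    (wcgen wcT1x1 wcI1x1) 538 2 = true := by
  decide +kernel

theorem wccl1x1c528 : pgChkGenW 8404 (List.range 8404) wcL1 [wcL2, wcL3, wcL4, wcL5, wcL6, wcL7, wcL8, wcL9, wcL10]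
    (wcgen wcT1x1 wcI1x1) 528 12 = true :=
  pgChkGenW_append (lo := 528) (c1 := 10) (c2 := 2) (pgChkGenW_append (lo := 528) (c1 := 8) (c2 := 2) (pgChkGenW_append (lo := 528) (c1 := 6) (c2 := 2) (pgChkGenW_append (lo := 528) (c1 := 4) (c2 := 2) (pgChkGenW_append (lo := 528) (c1 := 2) (c2 := 2) (wccl1x1c528s0) wccl1x1c528s1) wccl1x1c528s2) wccl1x1c528s3) wccl1x1c528s4) wccl1x1c528s5

theorem wccl1x1c540s0 : pgChkGenW 8404 (List.range 8404) wcL1 [wcL2, wcL3, wcL4, wcL5, wcL6, wcL7, wcL8, wcL9, wcL10]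
    (wcgen wcT1x1 wcI1x1) 540 2 = true := by
  decide +kernel

theorem wccl1x1c540s1 : pgChkGenW 8404 (List.range 8404) wcL1 [wcL2, wcL3, wcL4, wcL5, wcL6, wcL7, wcL8, wcL9, wcL10]
    (wcgen wcT1x1 wcI1x1) 542 2 = true := by
  decide +kernel

theorem wccl1x1c540s2 : pgChkGenW 8404 (List.range 8404) wcL1 [wcL2, wcL3, wcL4, wcL5, wcL6, wcL7, wcL8, wcL9, wcL10]
    (wcgen wcT1x1 wcI1x1) 544 2 = true := by
  decide +kernel

theorem wccl1x1c540s3 : pgChkGenW 8404 (List.range 8404) wcL1 [wcL2, wcL3, wcL4, wcL5, wcL6, wcL7, wcL8, wcL9, wcL10]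
    (wcgen wcT1x1 wcI1x1) 546 2 = true := by
  decide +kernel

theorem wccl1x1c540s4 : pgChkGenW 8404 (List.range 8404) wcL1 [wcL2, wcL3, wcL4, wcL5, wcL6, wcL7, wcL8, wcL9, wcL10]
    (wcgen wcT1x1 wcI1x1) 548 2 = true := by
  decide +kernel

theorem wccl1x1c540s5 : pgChkGenW 8404 (List.range 8404) wcL1 [wcL2, wcL3, wcL4, wcL5, wcL6, wcL7, wcL8, wcL9, wcL10]
    (wcgen wcT1x1 wcI1x1) 550 2 = true := by
  decide +kernel

theorem wccl1x1c540 : pgChkGenW 8404 (List.range 8404) wcL1 [wcL2, wcL3, wcL4, wcL5, wcL6, wcL7, wcL8, wcL9, wcL10]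
    (wcgen wcT1x1 wcI1x1) 540 12 = true :=
  pgChkGenW_append (lo := 540) (c1 := 10) (c2 := 2) (pgChkGenW_append (lo := 540) (c1 := 8) (c2 := 2) (pgChkGenW_append (lo := 540) (c1 := 6) (c2 := 2) (pgChkGenW_append (lo := 540) (c1 := 4) (c2 := 2) (pgChkGenW_append (lo := 540) (c1 := 2) (c2 := 2) (wccl1x1c540s0) wccl1x1c540s1) wccl1x1c540s2) wccl1x1c540s3) wccl1x1c540s4) wccl1x1c540s5

end Cfsg.Agent.Lib.Helper5.U62Cov
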