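import Cfsg.Agent.Lib.Helper5.U62CovData
import Cfsg.Agent.Lib.helper23.PgX
import Cfsg.Agent.Lib.helper23.PgH

set_option autoImplicit false
set_option maxRecDepth 1000000
set_option Elab.async false

/-! the covering group of the unitary group of degree six over four elements, on 8404 points: the checks of the stabiliser chain (generated), part 49. -/

namespace Cfsg.Agent.Lib.Helper5.U62Cov

open Cfsg.Agent.Lib.helper23 Subgroup MulAction
theorem wccl1x1c552s0 : pgChkGenW 8404 (List.range 8404) wcL1 [wcL2, wcL3, wcL4, wcL5, wcL6, wcL7, wcL8, wcL9, wcL10]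
    (wcgen wcT1x1 wcI1x1) 552 2 = true := by
  decide +kernel

theorem wccl1x1c552s1 : pgChkGenW 8404 (List.range 8404) wcL1 [wcL2, wcL3, wcL4, wcL5, wcL6, wcL7, wcL8, wcL9, wcL10]
    (wcgen wcT1x1 wcI1x1) 554 2 = true := by
  decide +kernel

theorem wccl1x1c552s2 : pgChkGenW 8404 (List.range 8404) wcL1 [wcL2, wcL3, wcL4, wcL5, wcL6, wcL7, wcL8, wcL9, wcL10]
    (wcgen wcT1x1 wcI1x1) 556 2 = true := by
  decide +kernel

theorem wccl1x1c552s3 : pgChkGenW 8404 (List.range 8404) wcL1 [wcL2, wcL3, wcL4, wcL5, wcL6, wcL7, wcL8, wcL9, wcL10]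
    (wcgen wcT1x1 wcI1x1) 558 2 = true := by
  decide +kernel

theorem wccl1x1c552s4 : pgChkGenW 8404 (List.range 8404) wcL1 [wcL2, wcL3, wcL4, wcL5, wcL6, wcL7, wcL8, wcL9, wcL10]
    (wcgen wcT1x1 wcI1x1) 560 2 = true := by
  decide +kernel

theorem wccl1x1c552s5 : pgChkGenW 8404 (List.range 8404) wcL1 [wcL2, wcL3, wcL4, wcL5, wcL6, wcL7, wcL8, wcL9, wcL10]
    (wcgen wcT1x1 wcI1x1) 562 2 = true := by
  decide +kernel

theorem wccl1x1c552 : pgChkGenW 8404 (List.range 8404) wcL1 [wcL2, wcL3, wcL4, wcL5, wcL6, wcL7, wcL8, wcL9, wcL10]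
    (wcgen wcT1x1 wcI1x1) 552 12 = true :=
  pgChkGenW_append (lo := 552) (c1 := 10) (c2 := 2) (pgChkGenW_append (lo := 552) (c1 := 8) (c2 := 2) (pgChkGenW_append (lo := 552) (c1 := 6) (c2 := 2) (pgChkGenW_append (lo := 552) (c1 := 4) (c2 := 2) (pgChkGenW_append (lo := 552) (c1 := 2) (c2 := 2) (wccl1x1c552s0) wccl1x1c552s1) wccl1x1c552s2) wccl1x1c552s3) wccl1x1c552s4) wccl1x1c552s5

theorem wccl1x1c564s0 : pgChkGenW 8404 (List.range 8404) wcL1 [wcL2, wcL3, wcL4, wcL5, wcL6, wcL7, wcL8, wcL9, wcL10]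
    (wcgen wcT1x1 wcI1x1) 564 2 = true := by
  decide +kernel

theorem wccl1x1c564s1 : pgChkGenW 8404 (List.range 8404) wcL1 [wcL2, wcL3, wcL4, wcL5, wcL6, wcL7, wcL8, wcL9, wcL10]
    (wcgen wcT1x1 wcI1x1) 566 2 = true := by
  decide +kernel

theorem wccl1x1c564s2 : pgChkGenW 8404 (List.range 8404) wcL1 [wcL2, wcL3, wcL4, wcL5, wcL6, wcL7, wcL8, wcL9, wcL10]
    (wcgen wcT1x1 wcI1x1) 568 2 = true := by
  decide +kernel

theorem wccl1x1c564s3 : pgChkGenW 8404 (List.range 8404) wcL1 [wcL2, wcL3, wcL4, wcL5, wcL6, wcL7, wcL8, wcL9, wcL10]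
    (wcgen wcT1x1 wcI1x1) 570 2 = true := by
  decide +kernel

theorem wccl1x1c564s4 : pgChkGenW 8404 (List.range 8404) wcL1 [wcL2, wcL3, wcL4, wcL5, wcL6, wcL7, wcL8, wcL9, wcL10]
    (wcgen wcT1x1 wcI1x1) 572 2 = true := by
  decide +kernel

theorem wccl1x1c564s5 : pgChkGenW 8404 (List.range 8404) wcL1 [wcL2, wcL3, wcL4, wcL5, wcL6, wcL7, wcL8, wcL9, wcL10]
    (wcgen wcT1x1 wcI1x1) 574 2 = true := by
  decide +kernel

theorem wccl1x1c564 : pgChkGenW 8404 (List.range 8404) wcL1 [wcL2, wcL3, wcL4, wcL5, wcL6, wcL7, wcL8, wcL9, wcL10]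
    (wcgen wcT1x1 wcI1x1) 564 12 = true :=
  pgChkGenW_append (lo := 564) (c1 := 10) (c2 := 2) (pgChkGenW_append (lo := 564) (c1 := 8) (c2 := 2) (pgChkGenW_append (lo := 564) (c1 := 6) (c2 := 2) (pgChkGenW_append (lo := 564) (c1 := 4) (c2 := 2) (pgChkGenW_append (lo := 564) (c1 := 2) (c2 := 2) (wccl1x1c564s0) wccl1x1c564s1) wccl1x1c564s2) wccl1x1c564s3) wccl1x1c564s4) wccl1x1c564s5

theorem wccl1x1c576s0 : pgChkGenW 8404 (List.range 8404) wcL1 [wcL2, wcL3, wcL4, wcL5, wcL6, wcL7, wcL8, wcL9, wcL10]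
    (wcgen wcT1x1 wcI1x1) 576 2 = true := by
  decide +kernel

theorem wccl1x1c576s1 : pgChkGenW 8404 (List.range 8404) wcL1 [wcL2, wcL3, wcL4, wcL5, wcL6, wcL7, wcL8, wcL9, wcL10]
    (wcgen wcT1x1 wcI1x1) 578 2 = true := by
  decide +kernel

theorem wccl1x1c576s2 : pgChkGenW 8404 (List.range 8404) wcL1 [wcL2, wcL3, wcL4, wcL5, wcL6, wcL7, wcL8, wcL9, wcL10]
    (wcgen wcT1x1 wcI1x1) 580 2 = true := by
  decide +kernel

theorem wccl1x1c576s3 : pgChkGenW 8404 (List.range 8404) wcL1 [wcL2, wcL3, wcL4, wcL5, wcL6, wcL7, wcL8, wcL9, wcL10]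
    (wcgen wcT1x1 wcI1x1) 582 2 = true := by
  decide +kernel

theorem wccl1x1c576s4 : pgChkGenW 8404 (List.range 8404) wcL1 [wcL2, wcL3, wcL4, wcL5, wcL6, wcL7, wcL8, wcL9, wcL10]
    (wcgen wcT1x1 wcI1x1) 584 2 = true := by
  decide +kernel

theorem wccl1x1c576s5 : pgChkGenW 8404 (List.range 8404) wcL1 [wcL2, wcL3, wcL4, wcL5, wcL6, wcL7, wcL8, wcL9, wcL10]
    (wcgen wcT1x1 wcI1x1) 586 2 = true := by
  decide +kernel

theorem wccl1x1c576 : pgChkGenW 8404 (List.range 8404) wcL1 [wcL2, wcL3, wcL4, wcL5, wcL6, wcL7, wcL8, wcL9, wcL10]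
    (wcgen wcT1x1 wcI1x1) 576 12 = true :=
  pgChkGenW_append (lo := 576) (c1 := 10) (c2 := 2) (pgChkGenW_append (lo := 576) (c1 := 8) (c2 := 2) (pgChkGenW_append (lo := 576) (c1 := 6) (c2 := 2) (pgChkGenW_append (lo := 576) (c1 := 4) (c2 := 2) (pgChkGenW_append (lo := 576) (c1 := 2) (c2 := 2) (wccl1x1c576s0) wccl1x1c576s1) wccl1x1c576s2) wccl1x1c576s3) wccl1x1c576s4) wccl1x1c576s5

theorem wccl1x1c588s0 : pgChkGenW 8404 (List.range 8404) wcL1 [wcL2, wcL3, wcL4, wcL5, wcL6, wcL7, wcL8, wcL9, wcL10]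
    (wcgen wcT1x1 wcI1x1) 588 2 = true := by
  decide +kernel

theorem wccl1x1c588s1 : pgChkGenW 8404 (List.range 8404) wcL1 [wcL2, wcL3, wcL4, wcL5, wcL6, wcL7, wcL8, wcL9, wcL10]
    (wcgen wcT1x1 wcI1x1) 590 2 = true := by
  decide +kernel

theorem wccl1x1c588s2 : pgChkGenW 8404 (List.range 8404) wcL1 [wcL2, wcL3, wcL4, wcL5, wcL6, wcL7, wcL8, wcL9, wcL10]
    (wcgen wcT1x1 wcI1x1) 592 2 = true := by
  decide +kernel

theorem wccl1x1c588s3 : pgChkGenW 8404 (List.range 8404) wcL1 [wcL2, wcL3, wcL4, wcL5, wcL6, wcL7, wcL8, wcL9, wcL10]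
    (wcgen wcT1x1 wcI1x1) 594 2 = true := by
  decide +kernel

theorem wccl1x1c588s4 : pgChkGenW 8404 (List.range 8404) wcL1 [wcL2, wcL3, wcL4, wcL5, wcL6, wcL7, wcL8, wcL9, wcL10]
    (wcgen wcT1x1 wcI1x1) 596 2 = true := by
  decide +kernel

theorem wccl1x1c588s5 : pgChkGenW 8404 (List.range 8404) wcL1 [wcL2, wcL3, wcL4, wcL5, wcL6, wcL7, wcL8, wcL9, wcL10]
    (wcgen wcT1x1 wcI1x1) 598 2 = true := by
  decide +kernel

theorem wccl1x1c588 : pgChkGenW 8404 (List.range 8404) wcL1 [wcL2, wcL3, wcL4, wcL5, wcL6, wcL7, wcL8, wcL9, wcL10]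
    (wcgen wcT1x1 wcI1x1) 588 12 = true :=
  pgChkGenW_append (lo := 588) (c1 := 10) (c2 := 2) (pgChkGenW_append (lo := 588) (c1 := 8) (c2 := 2) (pgChkGenW_append (lo := 588) (c1 := 6) (c2 := 2) (pgChkGenW_append (lo := 588) (c1 := 4) (c2 := 2) (pgChkGenW_append (lo := 588) (c1 := 2) (c2 := 2) (wccl1x1c588s0) wccl1x1c588s1) wccl1x1c588s2) wccl1x1c588s3) wccl1x1c588s4) wccl1x1c588s5

end Cfsg.Agent.Lib.Helper5.U62Cov
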