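import Cfsg.Agent.Lib.Helper5.U62CovData
import Cfsg.Agent.Lib.helper23.PgX
import Cfsg.Agent.Lib.helper23.PgH

set_option autoImplicit false
set_option maxRecDepth 1000000
set_option Elab.async false

/-! the covering group of the unitary group of degree six over four elements, on 8404 points: the checks of the stabiliser chain (generated), part 50. -/

namespace Cfsg.Agent.Lib.Helper5.U62Cov

open Cfsg.Agent.Lib.helper23 Subgroup MulAction
theorem wccl1x1c600s0 : pgChkGenW 8404 (List.range 8404) wcL1 [wcL2, wcL3, wcL4, wcL5, wcL6, wcL7, wcL8, wcL9, wcL10]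
    (wcgen wcT1x1 wcI1x1) 600 2 = true := by
  decide +kernel

theorem wccl1x1c600s1 : pgChkGenW 8404 (List.range 8404) wcL1 [wcL2, wcL3, wcL4, wcL5, wcL6, wcL7, wcL8, wcL9, wcL10]
    (wcgen wcT1x1 wcI1x1) 602 2 = true := by
  decide +kernel

theorem wccl1x1c600s2 : pgChkGenW 8404 (List.range 8404) wcL1 [wcL2, wcL3, wcL4, wcL5, wcL6, wcL7, wcL8, wcL9, wcL10]
    (wcgen wcT1x1 wcI1x1) 604 2 = true := by
  decide +kernel

theorem wccl1x1c600s3 : pgChkGenW 8404 (List.range 8404) wcL1 [wcL2, wcL3, wcL4, wcL5, wcL6, wcL7, wcL8, wcL9, wcL10]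
    (wcgen wcT1x1 wcI1x1) 606 2 = true := by
  decide +kernel

theorem wccl1x1c600s4 : pgChkGenW 8404 (List.range 8404) wcL1 [wcL2, wcL3, wcL4, wcL5, wcL6, wcL7, wcL8, wcL9, wcL10]
    (wcgen wcT1x1 wcI1x1) 608 2 = true := by
  decide +kernel

theorem wccl1x1c600s5 : pgChkGenW 8404 (List.range 8404) wcL1 [wcL2, wcL3, wcL4, wcL5, wcL6, wcL7, wcL8, wcL9, wcL10]
    (wcgen wcT1x1 wcI1x1) 610 2 = true := by
  decide +kernel

theorem wccl1x1c600 : pgChkGenW 8404 (List.range 8404) wcL1 [wcL2, wcL3, wcL4, wcL5, wcL6, wcL7, wcL8, wcL9, wcL10]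
    (wcgen wcT1x1 wcI1x1) 600 12 = true :=
  pgChkGenW_append (lo := 600) (c1 := 10) (c2 := 2) (pgChkGenW_append (lo := 600) (c1 := 8) (c2 := 2) (pgChkGenW_append (lo := 600) (c1 := 6) (c2 := 2) (pgChkGenW_append (lo := 600) (c1 := 4) (c2 := 2) (pgChkGenW_append (lo := 600) (c1 := 2) (c2 := 2) (wccl1x1c600s0) wccl1x1c600s1) wccl1x1c600s2) wccl1x1c600s3) wccl1x1c600s4) wccl1x1c600s5

theorem wccl1x1c612s0 : pgChkGenW 8404 (List.range 8404) wcL1 [wcL2, wcL3, wcL4, wcL5, wcL6, wcL7, wcL8, wcL9, wcL10]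
    (wcgen wcT1x1 wcI1x1) 612 2 = true := by
  decide +kernel

theorem wccl1x1c612s1 : pgChkGenW 8404 (List.range 8404) wcL1 [wcL2, wcL3, wcL4, wcL5, wcL6, wcL7, wcL8, wcL9, wcL10]
    (wcgen wcT1x1 wcI1x1) 614 2 = true := by
  decide +kernel

theorem wccl1x1c612s2 : pgChkGenW 8404 (List.range 8404) wcL1 [wcL2, wcL3, wcL4, wcL5, wcL6, wcL7, wcL8, wcL9, wcL10]
    (wcgen wcT1x1 wcI1x1) 616 2 = true := by
  decide +kernel

theorem wccl1x1c612s3 : pgChkGenW 8404 (List.range 8404) wcL1 [wcL2, wcL3, wcL4, wcL5, wcL6, wcL7, wcL8, wcL9, wcL10]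
    (wcgen wcT1x1 wcI1x1) 618 2 = true := by
  decide +kernel

theorem wccl1x1c612s4 : pgChkGenW 8404 (List.range 8404) wcL1 [wcL2, wcL3, wcL4, wcL5, wcL6, wcL7, wcL8, wcL9, wcL10]
    (wcgen wcT1x1 wcI1x1) 620 2 = true := by
  decide +kernel

theorem wccl1x1c612s5 : pgChkGenW 8404 (List.range 8404) wcL1 [wcL2, wcL3, wcL4, wcL5, wcL6, wcL7, wcL8, wcL9, wcL10]
    (wcgen wcT1x1 wcI1x1) 622 2 = true := by
  decide +kernel

theorem wccl1x1c612 : pgChkGenW 8404 (List.range 8404) wcL1 [wcL2, wcL3, wcL4, wcL5, wcL6, wcL7, wcL8, wcL9, wcL10]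
    (wcgen wcT1x1 wcI1x1) 612 12 = true :=
  pgChkGenW_append (lo := 612) (c1 := 10) (c2 := 2) (pgChkGenW_append (lo := 612) (c1 := 8) (c2 := 2) (pgChkGenW_append (lo := 612) (c1 := 6) (c2 := 2) (pgChkGenW_append (lo := 612) (c1 := 4) (c2 := 2) (pgChkGenW_append (lo := 612) (c1 := 2) (c2 := 2) (wccl1x1c612s0) wccl1x1c612s1) wccl1x1c612s2) wccl1x1c612s3) wccl1x1c612s4) wccl1x1c612s5

theorem wccl1x1c624s0 : pgChkGenW 8404 (List.range 8404) wcL1 [wcL2, wcL3, wcL4, wcL5, wcL6, wcL7, wcL8, wcL9, wcL10]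
    (wcgen wcT1x1 wcI1x1) 624 2 = true := by
  decide +kernel

theorem wccl1x1c624s1 : pgChkGenW 8404 (List.range 8404) wcL1 [wcL2, wcL3, wcL4, wcL5, wcL6, wcL7, wcL8, wcL9, wcL10]
    (wcgen wcT1x1 wcI1x1) 626 2 = true := by
  decide +kernel

theorem wccl1x1c624s2 : pgChkGenW 8404 (List.range 8404) wcL1 [wcL2, wcL3, wcL4, wcL5, wcL6, wcL7, wcL8, wcL9, wcL10]
    (wcgen wcT1x1 wcI1x1) 628 2 = true := by
  decide +kernel

theorem wccl1x1c624s3 : pgChkGenW 8404 (List.range 8404) wcL1 [wcL2, wcL3, wcL4, wcL5, wcL6, wcL7, wcL8, wcL9, wcL10]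
    (wcgen wcT1x1 wcI1x1) 630 2 = true := by
  decide +kernel

theorem wccl1x1c624s4 : pgChkGenW 8404 (List.range 8404) wcL1 [wcL2, wcL3, wcL4, wcL5, wcL6, wcL7, wcL8, wcL9, wcL10]
    (wcgen wcT1x1 wcI1x1) 632 2 = true := by
  decide +kernel

theorem wccl1x1c624s5 : pgChkGenW 8404 (List.range 8404) wcL1 [wcL2, wcL3, wcL4, wcL5, wcL6, wcL7, wcL8, wcL9, wcL10]
    (wcgen wcT1x1 wcI1x1) 634 2 = true := by
  decide +kernel

theorem wccl1x1c624 : pgChkGenW 8404 (List.range 8404) wcL1 [wcL2, wcL3, wcL4, wcL5, wcL6, wcL7, wcL8, wcL9, wcL10]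
    (wcgen wcT1x1 wcI1x1) 624 12 = true :=
  pgChkGenW_append (lo := 624) (c1 := 10) (c2 := 2) (pgChkGenW_append (lo := 624) (c1 := 8) (c2 := 2) (pgChkGenW_append (lo := 624) (c1 := 6) (c2 := 2) (pgChkGenW_append (lo := 624) (c1 := 4) (c2 := 2) (pgChkGenW_append (lo := 624) (c1 := 2) (c2 := 2) (wccl1x1c624s0) wccl1x1c624s1) wccl1x1c624s2) wccl1x1c624s3) wccl1x1c624s4) wccl1x1c624s5

theorem wccl1x1c636s0 : pgChkGenW 8404 (List.range 8404) wcL1 [wcL2, wcL3, wcL4, wcL5, wcL6, wcL7, wcL8, wcL9, wcL10]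
    (wcgen wcT1x1 wcI1x1) 636 2 = true := by
  decide +kernel

theorem wccl1x1c636s1 : pgChkGenW 8404 (List.range 8404) wcL1 [wcL2, wcL3, wcL4, wcL5, wcL6, wcL7, wcL8, wcL9, wcL10]
    (wcgen wcT1x1 wcI1x1) 638 2 = true := by
  decide +kernel

theorem wccl1x1c636s2 : pgChkGenW 8404 (List.range 8404) wcL1 [wcL2, wcL3, wcL4, wcL5, wcL6, wcL7, wcL8, wcL9, wcL10]
    (wcgen wcT1x1 wcI1x1) 640 2 = true := by
  decide +kernel

theorem wccl1x1c636s3 : pgChkGenW 8404 (List.range 8404) wcL1 [wcL2, wcL3, wcL4, wcL5, wcL6, wcL7, wcL8, wcL9, wcL10]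
    (wcgen wcT1x1 wcI1x1) 642 2 = true := by
  decide +kernel

theorem wccl1x1c636s4 : pgChkGenW 8404 (List.range 8404) wcL1 [wcL2, wcL3, wcL4, wcL5, wcL6, wcL7, wcL8, wcL9, wcL10]
    (wcgen wcT1x1 wcI1x1) 644 2 = true := by
  decide +kernel

theorem wccl1x1c636s5 : pgChkGenW 8404 (List.range 8404) wcL1 [wcL2, wcL3, wcL4, wcL5, wcL6, wcL7, wcL8, wcL9, wcL10]
    (wcgen wcT1x1 wcI1x1) 646 2 = true := by
  decide +kernel

theorem wccl1x1c636 : pgChkGenW 8404 (List.range 8404) wcL1 [wcL2, wcL3, wcL4, wcL5, wcL6, wcL7, wcL8, wcL9, wcL10]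
    (wcgen wcT1x1 wcI1x1) 636 12 = true :=
  pgChkGenW_append (lo := 636) (c1 := 10) (c2 := 2) (pgChkGenW_append (lo := 636) (c1 := 8) (c2 := 2) (pgChkGenW_append (lo := 636) (c1 := 6) (c2 := 2) (pgChkGenW_append (lo := 636) (c1 := 4) (c2 := 2) (pgChkGenW_append (lo := 636) (c1 := 2) (c2 := 2) (wccl1x1c636s0) wccl1x1c636s1) wccl1x1c636s2) wccl1x1c636s3) wccl1x1c636s4) wccl1x1c636s5

end Cfsg.Agent.Lib.Helper5.U62Cov
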