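import Cfsg.Agent.Lib.Helper5.U62CovData
import Cfsg.Agent.Lib.helper23.PgX
import Cfsg.Agent.Lib.helper23.PgH

set_option autoImplicit false
set_option maxRecDepth 1000000
set_option Elab.async false

/-! the covering group of the unitary group of degree six over four elements, on 8404 points: the checks of the stabiliser chain (generated), part 51. -/

namespace Cfsg.Agent.Lib.Helper5.U62Cov

open Cfsg.Agent.Lib.helper23 Subgroup MulAction
theorem wccl1x1c648s0 : pgChkGenW 8404 (List.range 8404) wcL1 [wcL2, wcL3, wcL4, wcL5, wcL6, wcL7, wcL8, wcL9, wcL10]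
    (wcgen wcT1x1 wcI1x1) 648 2 = true := by
  decide +kernel

theorem wccl1x1c648s1 : pgChkGenW 8404 (List.range 8404) wcL1 [wcL2, wcL3, wcL4, wcL5, wcL6, wcL7, wcL8, wcL9, wcL10]
    (wcgen wcT1x1 wcI1x1) 650 2 = true := by
  decide +kernel

theorem wccl1x1c648s2 : pgChkGenW 8404 (List.range 8404) wcL1 [wcL2, wcL3, wcL4, wcL5, wcL6, wcL7, wcL8, wcL9, wcL10]
    (wcgen wcT1x1 wcI1x1) 652 2 = true := by
  decide +kernel

theorem wccl1x1c648s3 : pgChkGenW 8404 (List.range 8404) wcL1 [wcL2, wcL3, wcL4, wcL5, wcL6, wcL7, wcL8, wcL9, wcL10]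
    (wcgen wcT1x1 wcI1x1) 654 2 = true := by
  decide +kernel

theorem wccl1x1c648s4 : pgChkGenW 8404 (List.range 8404) wcL1 [wcL2, wcL3, wcL4, wcL5, wcL6, wcL7, wcL8, wcL9, wcL10]
    (wcgen wcT1x1 wcI1x1) 656 2 = true := by
  decide +kernel

theorem wccl1x1c648s5 : pgChkGenW 8404 (List.range 8404) wcL1 [wcL2, wcL3, wcL4, wcL5, wcL6, wcL7, wcL8, wcL9, wcL10]
    (wcgen wcT1x1 wcI1x1) 658 2 = true := by
  decide +kernel

theorem wccl1x1c648 : pgChkGenW 8404 (List.range 8404) wcL1 [wcL2, wcL3, wcL4, wcL5, wcL6, wcL7, wcL8, wcL9, wcL10]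
    (wcgen wcT1x1 wcI1x1) 648 12 = true :=
  pgChkGenW_append (lo := 648) (c1 := 10) (c2 := 2) (pgChkGenW_append (lo := 648) (c1 := 8) (c2 := 2) (pgChkGenW_append (lo := 648) (c1 := 6) (c2 := 2) (pgChkGenW_append (lo := 648) (c1 := 4) (c2 := 2) (pgChkGenW_append (lo := 648) (c1 := 2) (c2 := 2) (wccl1x1c648s0) wccl1x1c648s1) wccl1x1c648s2) wccl1x1c648s3) wccl1x1c648s4) wccl1x1c648s5

theorem wccl1x1c660s0 : pgChkGenW 8404 (List.range 8404) wcL1 [wcL2, wcL3, wcL4, wcL5, wcL6, wcL7, wcL8, wcL9, wcL10]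
    (wcgen wcT1x1 wcI1x1) 660 2 = true := by
  decide +kernel

theorem wccl1x1c660s1 : pgChkGenW 8404 (List.range 8404) wcL1 [wcL2, wcL3, wcL4, wcL5, wcL6, wcL7, wcL8, wcL9, wcL10]
    (wcgen wcT1x1 wcI1x1) 662 2 = true := by
  decide +kernel

theorem wccl1x1c660s2 : pgChkGenW 8404 (List.range 8404) wcL1 [wcL2, wcL3, wcL4, wcL5, wcL6, wcL7, wcL8, wcL9, wcL10]
    (wcgen wcT1x1 wcI1x1) 664 2 = true := by
  decide +kernel

theorem wccl1x1c660s3 : pgChkGenW 8404 (List.range 8404) wcL1 [wcL2, wcL3, wcL4, wcL5, wcL6, wcL7, wcL8, wcL9, wcL10]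
    (wcgen wcT1x1 wcI1x1) 666 2 = true := by
  decide +kernel

theorem wccl1x1c660s4 : pgChkGenW 8404 (List.range 8404) wcL1 [wcL2, wcL3, wcL4, wcL5, wcL6, wcL7, wcL8, wcL9, wcL10]
    (wcgen wcT1x1 wcI1x1) 668 2 = true := by
  decide +kernel

theorem wccl1x1c660s5 : pgChkGenW 8404 (List.range 8404) wcL1 [wcL2, wcL3, wcL4, wcL5, wcL6, wcL7, wcL8, wcL9, wcL10]
    (wcgen wcT1x1 wcI1x1) 670 2 = true := by
  decide +kernel

theorem wccl1x1c660 : pgChkGenW 8404 (List.range 8404) wcL1 [wcL2, wcL3, wcL4, wcL5, wcL6, wcL7, wcL8, wcL9, wcL10]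
    (wcgen wcT1x1 wcI1x1) 660 12 = true :=
  pgChkGenW_append (lo := 660) (c1 := 10) (c2 := 2) (pgChkGenW_append (lo := 660) (c1 := 8) (c2 := 2) (pgChkGenW_append (lo := 660) (c1 := 6) (c2 := 2) (pgChkGenW_append (lo := 660) (c1 := 4) (c2 := 2) (pgChkGenW_append (lo := 660) (c1 := 2) (c2 := 2) (wccl1x1c660s0) wccl1x1c660s1) wccl1x1c660s2) wccl1x1c660s3) wccl1x1c660s4) wccl1x1c660s5

theorem wccl1x1c672s0 : pgChkGenW 8404 (List.range 8404) wcL1 [wcL2, wcL3, wcL4, wcL5, wcL6, wcL7, wcL8, wcL9, wcL10]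
    (wcgen wcT1x1 wcI1x1) 672 2 = true := by
  decide +kernel

theorem wccl1x1c672s1 : pgChkGenW 8404 (List.range 8404) wcL1 [wcL2, wcL3, wcL4, wcL5, wcL6, wcL7, wcL8, wcL9, wcL10]
    (wcgen wcT1x1 wcI1x1) 674 2 = true := by
  decide +kernel

theorem wccl1x1c672s2 : pgChkGenW 8404 (List.range 8404) wcL1 [wcL2, wcL3, wcL4, wcL5, wcL6, wcL7, wcL8, wcL9, wcL10]
    (wcgen wcT1x1 wcI1x1) 676 2 = true := by
  decide +kernel

theorem wccl1x1c672s3 : pgChkGenW 8404 (List.range 8404) wcL1 [wcL2, wcL3, wcL4, wcL5, wcL6, wcL7, wcL8, wcL9, wcL10]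
    (wcgen wcT1x1 wcI1x1) 678 2 = true := by
  decide +kernel

theorem wccl1x1c672s4 : pgChkGenW 8404 (List.range 8404) wcL1 [wcL2, wcL3, wcL4, wcL5, wcL6, wcL7, wcL8, wcL9, wcL10]
    (wcgen wcT1x1 wcI1x1) 680 2 = true := by
  decide +kernel

theorem wccl1x1c672s5 : pgChkGenW 8404 (List.range 8404) wcL1 [wcL2, wcL3, wcL4, wcL5, wcL6, wcL7, wcL8, wcL9, wcL10]
    (wcgen wcT1x1 wcI1x1) 682 2 = true := by
  decide +kernel

theorem wccl1x1c672 : pgChkGenW 8404 (List.range 8404) wcL1 [wcL2, wcL3, wcL4, wcL5, wcL6, wcL7, wcL8, wcL9, wcL10]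
    (wcgen wcT1x1 wcI1x1) 672 12 = true :=
  pgChkGenW_append (lo := 672) (c1 := 10) (c2 := 2) (pgChkGenW_append (lo := 672) (c1 := 8) (c2 := 2) (pgChkGenW_append (lo := 672) (c1 := 6) (c2 := 2) (pgChkGenW_append (lo := 672) (c1 := 4) (c2 := 2) (pgChkGenW_append (lo := 672) (c1 := 2) (c2 := 2) (wccl1x1c672s0) wccl1x1c672s1) wccl1x1c672s2) wccl1x1c672s3) wccl1x1c672s4) wccl1x1c672s5

theorem wccl1x1c684s0 : pgChkGenW 8404 (List.range 8404) wcL1 [wcL2, wcL3, wcL4, wcL5, wcL6, wcL7, wcL8, wcL9, wcL10]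
    (wcgen wcT1x1 wcI1x1) 684 2 = true := by
  decide +kernel

theorem wccl1x1c684s1 : pgChkGenW 8404 (List.range 8404) wcL1 [wcL2, wcL3, wcL4, wcL5, wcL6, wcL7, wcL8, wcL9, wcL10]
    (wcgen wcT1x1 wcI1x1) 686 2 = true := by
  decide +kernel

theorem wccl1x1c684s2 : pgChkGenW 8404 (List.range 8404) wcL1 [wcL2, wcL3, wcL4, wcL5, wcL6, wcL7, wcL8, wcL9, wcL10]
    (wcgen wcT1x1 wcI1x1) 688 2 = true := by
  decide +kernel

theorem wccl1x1c684s3 : pgChkGenW 8404 (List.range 8404) wcL1 [wcL2, wcL3, wcL4, wcL5, wcL6, wcL7, wcL8, wcL9, wcL10]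
    (wcgen wcT1x1 wcI1x1) 690 2 = true := by
  decide +kernel

theorem wccl1x1c684s4 : pgChkGenW 8404 (List.range 8404) wcL1 [wcL2, wcL3, wcL4, wcL5, wcL6, wcL7, wcL8, wcL9, wcL10]
    (wcgen wcT1x1 wcI1x1) 692 7712 = true := by
  decide +kernel

theorem wccl1x1c684 : pgChkGenW 8404 (List.range 8404) wcL1 [wcL2, wcL3, wcL4, wcL5, wcL6, wcL7, wcL8, wcL9, wcL10]
    (wcgen wcT1x1 wcI1x1) 684 7720 = true :=
  pgChkGenW_append (lo := 684) (c1 := 8) (c2 := 7712) (pgChkGenW_append (lo := 684) (c1 := 6) (c2 := 2) (pgChkGenW_append (lo := 684) (c1 := 4) (c2 := 2) (pgChkGenW_append (lo := 684) (c1 := 2) (c2 := 2) (wccl1x1c684s0) wccl1x1c684s1) wccl1x1c684s2) wccl1x1c684s3) wccl1x1c684s4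

end Cfsg.Agent.Lib.Helper5.U62Cov
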