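import Cfsg.Agent.Lib.Helper5.U62CovChkP0
import Cfsg.Agent.Lib.Helper5.U62CovChkP1
import Cfsg.Agent.Lib.Helper5.U62CovChkP2
import Cfsg.Agent.Lib.Helper5.U62CovChkP3
import Cfsg.Agent.Lib.Helper5.U62CovChkP4
import Cfsg.Agent.Lib.Helper5.U62CovChkP5
import Cfsg.Agent.Lib.Helper5.U62CovChkP6
import Cfsg.Agent.Lib.Helper5.U62CovChkP7
import Cfsg.Agent.Lib.Helper5.U62CovChkP8
import Cfsg.Agent.Lib.Helper5.U62CovChkP9
import Cfsg.Agent.Lib.Helper5.U62CovChkP10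
import Cfsg.Agent.Lib.Helper5.U62CovChkP11
import Cfsg.Agent.Lib.Helper5.U62CovChkP12
import Cfsg.Agent.Lib.Helper5.U62CovChkP13
import Cfsg.Agent.Lib.Helper5.U62CovChkP14
import Cfsg.Agent.Lib.Helper5.U62CovChkP15
import Cfsg.Agent.Lib.Helper5.U62CovChkP16
import Cfsg.Agent.Lib.Helper5.U62CovChkP17
import Cfsg.Agent.Lib.Helper5.U62CovChkP18
import Cfsg.Agent.Lib.Helper5.U62CovChkP19
import Cfsg.Agent.Lib.Helper5.U62CovChkP20
import Cfsg.Agent.Lib.Helper5.U62CovChkP21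
import Cfsg.Agent.Lib.Helper5.U62CovChkP22
import Cfsg.Agent.Lib.Helper5.U62CovChkP23
import Cfsg.Agent.Lib.Helper5.U62CovChkP24
import Cfsg.Agent.Lib.Helper5.U62CovChkP25
import Cfsg.Agent.Lib.Helper5.U62CovChkP26
import Cfsg.Agent.Lib.Helper5.U62CovChkP27
import Cfsg.Agent.Lib.Helper5.U62CovChkP28
import Cfsg.Agent.Lib.Helper5.U62CovChkP29
import Cfsg.Agent.Lib.Helper5.U62CovChkP30
import Cfsg.Agent.Lib.Helper5.U62CovChkP31
import Cfsg.Agent.Lib.Helper5.U62CovChkP32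
import Cfsg.Agent.Lib.Helper5.U62CovChkP33
import Cfsg.Agent.Lib.Helper5.U62CovChkP34
import Cfsg.Agent.Lib.Helper5.U62CovChkP35
import Cfsg.Agent.Lib.Helper5.U62CovChkP36
import Cfsg.Agent.Lib.Helper5.U62CovChkP37
import Cfsg.Agent.Lib.Helper5.U62CovChkP38
import Cfsg.Agent.Lib.Helper5.U62CovChkP39
import Cfsg.Agent.Lib.Helper5.U62CovChkP40
import Cfsg.Agent.Lib.Helper5.U62CovChkP41
import Cfsg.Agent.Lib.Helper5.U62CovChkP42
import Cfsg.Agent.Lib.Helper5.U62CovChkP43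
import Cfsg.Agent.Lib.Helper5.U62CovChkP44
import Cfsg.Agent.Lib.Helper5.U62CovChkP45
import Cfsg.Agent.Lib.Helper5.U62CovChkP46
import Cfsg.Agent.Lib.Helper5.U62CovChkP47
import Cfsg.Agent.Lib.Helper5.U62CovChkP48
import Cfsg.Agent.Lib.Helper5.U62CovChkP49
import Cfsg.Agent.Lib.Helper5.U62CovChkP50
import Cfsg.Agent.Lib.Helper5.U62CovChkP51
import Cfsg.Agent.Lib.Helper5.U62CovData
import Cfsg.Agent.Lib.helper23.PgX
import Cfsg.Agent.Lib.helper23.PgH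

set_option autoImplicit false
set_option maxRecDepth 1000000
set_option Elab.async false

/-! the covering group of the unitary group of degree six over four elements, on 8404 points: the checks of the stabiliser chain (generated), part final. -/

namespace Cfsg.Agent.Lib.Helper5.U62Cov

open Cfsg.Agent.Lib.helper23 Subgroup MulAction
theorem wccl10x0 : pgChkGenW 8404 (List.range 8404) wcL10 []
    (wcgen wcT10x0 wcI10x0) 0 8404 = true :=
  wccl10x0c0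

theorem wccl10x1 : pgChkGenW 8404 (List.range 8404) wcL10 []
    (wcgen wcT10x1 wcI10x1) 0 8404 = true :=
  wccl10x1c0

theorem wccl9x0 : pgChkGenW 8404 (List.range 8404) wcL9 [wcL10]
    (wcgen wcT9x0 wcI9x0) 0 8404 = true :=
  wccl9x0c0

theorem wccl9x1 : pgChkGenW 8404 (List.range 8404) wcL9 [wcL10]
    (wcgen wcT9x1 wcI9x1) 0 8404 = true :=
  wccl9x1c0

theorem wccl8x0 : pgChkGenW 8404 (List.range 8404) wcL8 [wcL9, wcL10]
    (wcgen wcT8x0 wcI8x0) 0 8404 = true :=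
  wccl8x0c0

theorem wccl8x1 : pgChkGenW 8404 (List.range 8404) wcL8 [wcL9, wcL10]
    (wcgen wcT8x1 wcI8x1) 0 8404 = true :=
  wccl8x1c0

theorem wccl7x0 : pgChkGenW 8404 (List.range 8404) wcL7 [wcL8, wcL9, wcL10]
    (wcgen wcT7x0 wcI7x0) 0 8404 = true :=
  wccl7x0c0

theorem wccl7x1 : pgChkGenW 8404 (List.range 8404) wcL7 [wcL8, wcL9, wcL10]
    (wcgen wcT7x1 wcI7x1) 0 8404 = true :=
  wccl7x1c0

theorem wccl7x2 : pgChkGenW 8404 (List.range 8404) wcL7 [wcL8, wcL9, wcL10]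
    (wcgen wcT7x2 wcI7x2) 0 8404 = true :=
  wccl7x2c0

theorem wccl6x0 : pgChkGenW 8404 (List.range 8404) wcL6 [wcL7, wcL8, wcL9, wcL10]
    (wcgen wcT6x0 wcI6x0) 0 8404 = true :=
  wccl6x0c0

theorem wccl6x1 : pgChkGenW 8404 (List.range 8404) wcL6 [wcL7, wcL8, wcL9, wcL10]
    (wcgen wcT6x1 wcI6x1) 0 8404 = true :=
  wccl6x1c0

theorem wccl6x2 : pgChkGenW 8404 (List.range 8404) wcL6 [wcL7, wcL8, wcL9, wcL10]
    (wcgen wcT6x2 wcI6x2) 0 8404 = true :=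
  wccl6x2c0

theorem wccl6x3 : pgChkGenW 8404 (List.range 8404) wcL6 [wcL7, wcL8, wcL9, wcL10]
    (wcgen wcT6x3 wcI6x3) 0 8404 = true :=
  wccl6x3c0

theorem wccl6x4 : pgChkGenW 8404 (List.range 8404) wcL6 [wcL7, wcL8, wcL9, wcL10]
    (wcgen wcT6x4 wcI6x4) 0 8404 = true :=
  wccl6x4c0

theorem wccl6x5 : pgChkGenW 8404 (List.range 8404) wcL6 [wcL7, wcL8, wcL9, wcL10]
    (wcgen wcT6x5 wcI6x5) 0 8404 = true :=
  wccl6x5c0

theorem wccl5x0 : pgChkGenW 8404 (List.range 8404) wcL5 [wcL6, wcL7, wcL8, wcL9, wcL10]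
    (wcgen wcT5x0 wcI5x0) 0 8404 = true :=
  pgChkGenW_append (lo := 0) (c1 := 472) (c2 := 7932) (pgChkGenW_append (lo := 0) (c1 := 221) (c2 := 251) (wccl5x0c0) wccl5x0c221) wccl5x0c472

theorem wccl5x1 : pgChkGenW 8404 (List.range 8404) wcL5 [wcL6, wcL7, wcL8, wcL9, wcL10]
    (wcgen wcT5x1 wcI5x1) 0 8404 = true :=
  pgChkGenW_append (lo := 0) (c1 := 472) (c2 := 7932) (pgChkGenW_append (lo := 0) (c1 := 221) (c2 := 251) (wccl5x1c0) wccl5x1c221) wccl5x1c472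

theorem wccl5x2 : pgChkGenW 8404 (List.range 8404) wcL5 [wcL6, wcL7, wcL8, wcL9, wcL10]
    (wcgen wcT5x2 wcI5x2) 0 8404 = true :=
  pgChkGenW_append (lo := 0) (c1 := 472) (c2 := 7932) (pgChkGenW_append (lo := 0) (c1 := 221) (c2 := 251) (wccl5x2c0) wccl5x2c221) wccl5x2c472

theorem wccl5x3 : pgChkGenW 8404 (List.range 8404) wcL5 [wcL6, wcL7, wcL8, wcL9, wcL10]
    (wcgen wcT5x3 wcI5x3) 0 8404 = true :=
  pgChkGenW_append (lo := 0) (c1 := 472) (c2 := 7932) (pgChkGenW_append (lo := 0) (c1 := 221) (c2 := 251) (wccl5x3c0) wccl5x3c221) wccl5x3c472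

theorem wccl5x4 : pgChkGenW 8404 (List.range 8404) wcL5 [wcL6, wcL7, wcL8, wcL9, wcL10]
    (wcgen wcT5x4 wcI5x4) 0 8404 = true :=
  pgChkGenW_append (lo := 0) (c1 := 472) (c2 := 7932) (pgChkGenW_append (lo := 0) (c1 := 221) (c2 := 251) (wccl5x4c0) wccl5x4c221) wccl5x4c472

theorem wccl5x5 : pgChkGenW 8404 (List.range 8404) wcL5 [wcL6, wcL7, wcL8, wcL9, wcL10]
    (wcgen wcT5x5 wcI5x5) 0 8404 = true :=
  pgChkGenW_append (lo := 0) (c1 := 472) (c2 := 7932) (pgChkGenW_append (lo := 0) (c1 := 221) (c2 := 251) (wccl5x5c0) wccl5x5c221) wccl5x5c472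

theorem wccl5x6 : pgChkGenW 8404 (List.range 8404) wcL5 [wcL6, wcL7, wcL8, wcL9, wcL10]
    (wcgen wcT5x6 wcI5x6) 0 8404 = true :=
  pgChkGenW_append (lo := 0) (c1 := 472) (c2 := 7932) (pgChkGenW_append (lo := 0) (c1 := 221) (c2 := 251) (wccl5x6c0) wccl5x6c221) wccl5x6c472

theorem wccl5x7 : pgChkGenW 8404 (List.range 8404) wcL5 [wcL6, wcL7, wcL8, wcL9, wcL10]
    (wcgen wcT5x7 wcI5x7) 0 8404 = true :=
  pgChkGenW_append (lo := 0) (c1 := 472) (c2 := 7932) (pgChkGenW_append (lo := 0) (c1 := 221) (c2 := 251) (wccl5x7c0) wccl5x7c221) wccl5x7c472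

theorem wccl5x8 : pgChkGenW 8404 (List.range 8404) wcL5 [wcL6, wcL7, wcL8, wcL9, wcL10]
    (wcgen wcT5x8 wcI5x8) 0 8404 = true :=
  pgChkGenW_append (lo := 0) (c1 := 472) (c2 := 7932) (pgChkGenW_append (lo := 0) (c1 := 221) (c2 := 251) (wccl5x8c0) wccl5x8c221) wccl5x8c472

theorem wccl5x9 : pgChkGenW 8404 (List.range 8404) wcL5 [wcL6, wcL7, wcL8, wcL9, wcL10]
    (wcgen wcT5x9 wcI5x9) 0 8404 = true :=
  pgChkGenW_append (lo := 0) (c1 := 472) (c2 := 7932) (pgChkGenW_append (lo := 0) (c1 := 221) (c2 := 251) (wccl5x9c0) wccl5x9c221) wccl5x9c472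

theorem wccl5x10 : pgChkGenW 8404 (List.range 8404) wcL5 [wcL6, wcL7, wcL8, wcL9, wcL10]
    (wcgen wcT5x10 wcI5x10) 0 8404 = true :=
  pgChkGenW_append (lo := 0) (c1 := 472) (c2 := 7932) (pgChkGenW_append (lo := 0) (c1 := 221) (c2 := 251) (wccl5x10c0) wccl5x10c221) wccl5x10c472

theorem wccl4x0 : pgChkGenW 8404 (List.range 8404) wcL4 [wcL5, wcL6, wcL7, wcL8, wcL9, wcL10]
    (wcgen wcT4x0 wcI4x0) 0 8404 = true :=
  pgChkGenW_append (lo := 0) (c1 := 692) (c2 := 7712) (pgChkGenW_append (lo := 0) (c1 := 572) (c2 := 120) (pgChkGenW_append (lo := 0) (c1 := 439) (c2 := 133) (pgChkGenW_append (lo := 0) (c1 := 298) (c2 := 141) (wccl4x0c0) wccl4x0c298) wccl4x0c439) wccl4x0c572) wccl4x0c692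

theorem wccl4x1 : pgChkGenW 8404 (List.range 8404) wcL4 [wcL5, wcL6, wcL7, wcL8, wcL9, wcL10]
    (wcgen wcT4x1 wcI4x1) 0 8404 = true :=
  pgChkGenW_append (lo := 0) (c1 := 692) (c2 := 7712) (pgChkGenW_append (lo := 0) (c1 := 572) (c2 := 120) (pgChkGenW_append (lo := 0) (c1 := 439) (c2 := 133) (pgChkGenW_append (lo := 0) (c1 := 298) (c2 := 141) (wccl4x1c0) wccl4x1c298) wccl4x1c439) wccl4x1c572) wccl4x1c692

theorem wccl4x2 : pgChkGenW 8404 (List.range 8404) wcL4 [wcL5, wcL6, wcL7, wcL8, wcL9, wcL10]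
    (wcgen wcT4x2 wcI4x2) 0 8404 = true :=
  pgChkGenW_append (lo := 0) (c1 := 692) (c2 := 7712) (pgChkGenW_append (lo := 0) (c1 := 572) (c2 := 120) (pgChkGenW_append (lo := 0) (c1 := 439) (c2 := 133) (pgChkGenW_append (lo := 0) (c1 := 298) (c2 := 141) (wccl4x2c0) wccl4x2c298) wccl4x2c439) wccl4x2c572) wccl4x2c692

theorem wccl4x3 : pgChkGenW 8404 (List.range 8404) wcL4 [wcL5, wcL6, wcL7, wcL8, wcL9, wcL10]
    (wcgen wcT4x3 wcI4x3) 0 8404 = true :=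
  pgChkGenW_append (lo := 0) (c1 := 692) (c2 := 7712) (pgChkGenW_append (lo := 0) (c1 := 572) (c2 := 120) (pgChkGenW_append (lo := 0) (c1 := 439) (c2 := 133) (pgChkGenW_append (lo := 0) (c1 := 298) (c2 := 141) (wccl4x3c0) wccl4x3c298) wccl4x3c439) wccl4x3c572) wccl4x3c692

theorem wccl3x0 : pgChkGenW 8404 (List.range 8404) wcL3 [wcL4, wcL5, wcL6, wcL7, wcL8, wcL9, wcL10]
    (wcgen wcT3x0 wcI3x0) 0 8404 = true :=
  wccl3x0c0

theorem wccl3x1 : pgChkGenW 8404 (List.range 8404) wcL3 [wcL4, wcL5, wcL6, wcL7, wcL8, wcL9, wcL10]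
    (wcgen wcT3x1 wcI3x1) 0 8404 = true :=
  wccl3x1c0

theorem wccl2x0 : pgChkGenW 8404 (List.range 8404) wcL2 [wcL3, wcL4, wcL5, wcL6, wcL7, wcL8, wcL9, wcL10]
    (wcgen wcT2x0 wcI2x0) 0 8404 = true :=
  pgChkGenW_append (lo := 0) (c1 := 692) (c2 := 7712) (pgChkGenW_append (lo := 0) (c1 := 650) (c2 := 42) (pgChkGenW_append (lo := 0) (c1 := 615) (c2 := 35) (pgChkGenW_append (lo := 0) (c1 := 572) (c2 := 43) (pgChkGenW_append (lo := 0) (c1 := 516) (c2 := 56) (pgChkGenW_append (lo := 0) (c1 := 474) (c2 := 42) (pgChkGenW_append (lo := 0) (c1 := 439) (c2 := 35) (pgChkGenW_append (lo := 0) (c1 := 396) (c2 := 43) (pgChkGenW_append (lo := 0) (c1 := 340) (c2 := 56) (pgChkGenW_append (lo := 0) (c1 := 298) (c2 := 42) (pgChkGenW_append (lo := 0) (c1 := 263) (c2 := 35) (pgChkGenW_append (lo := 0) (c1 := 220) (c2 := 43) (pgChkGenW_append (lo := 0) (c1 := 158) (c2 := 62) (pgChkGenW_append (lo := 0) (c1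 := 96) (c2 := 62) (pgChkGenW_append (lo := 0) (c1 := 44) (c2 := 52) (wccl2x0c0) wccl2x0c44) wccl2x0c96) wccl2x0c158) wccl2x0c220) wccl2x0c263) wccl2x0c298) wccl2x0c340) wccl2x0c396) wccl2x0c439) wccl2x0c474) wccl2x0c516) wccl2x0c572) wccl2x0c615) wccl2x0c650) wccl2x0c692

theorem wccl2x1 : pgChkGenW 8404 (List.range 8404) wcL2 [wcL3, wcL4, wcL5, wcL6, wcL7, wcL8, wcL9, wcL10]
    (wcgen wcT2x1 wcI2x1) 0 8404 = true :=
  pgChkGenW_append (lo := 0) (c1 := 692) (c2 := 7712) (pgChkGenW_append (lo := 0) (c1 := 650) (c2 := 42) (pgChkGenW_append (lo := 0) (c1 := 615) (c2 := 35) (pgChkGenW_append (lo := 0) (c1 := 572) (c2 := 43) (pgChkGenW_append (lo := 0) (c1 := 516) (c2 := 56) (pgChkGenW_append (lo := 0) (c1 := 474) (c2 := 42) (pgChkGenW_append (lo := 0) (c1 := 439) (c2 := 35) (pgChkGenW_append (lo := 0) (c1 := 396) (c2 := 43) (pgChkGenW_append (lo := 0) (c1 := 340) (c2 := 56) (pgChkGenW_append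 (lo := 0) (c1 := 298) (c2 := 42) (pgChkGenW_append (lo := 0) (c1 := 263) (c2 := 35) (pgChkGenW_append (lo := 0) (c1 := 220) (c2 := 43) (pgChkGenW_append (lo := 0) (c1 := 158) (c2 := 62) (pgChkGenW_append (lo := 0) (c1 := 96) (c2 := 62) (pgChkGenW_append (lo := 0) (c1 := 44) (c2 := 52) (wccl2x1c0) wccl2x1c44) wccl2x1c96) wccl2x1c158) wccl2x1c220) wccl2x1c263) wccl2x1c298) wccl2x1c340) wccl2x1c396) wccl2x1c439) wccl2x1c474) wccl2x1c516) wccl2x1c572) wccl2x1c615) wccl2x1c650) wccl2x1c692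

theorem wccl1x0 : pgChkGenW 8404 (List.range 8404) wcL1 [wcL2, wcL3, wcL4, wcL5, wcL6, wcL7, wcL8, wcL9, wcL10]
    (wcgen wcT1x0 wcI1x0) 0 8404 = true :=
  pgChkGenW_append (lo := 0) (c1 := 684) (c2 := 7720) (pgChkGenW_append (lo := 0) (c1 := 672) (c2 := 12) (pgChkGenW_append (lo := 0) (c1 := 660) (c2 := 12) (pgChkGenW_append (lo := 0) (c1 := 648) (c2 := 12) (pgChkGenW_append (lo := 0) (c1 := 636) (c2 := 12) (pgChkGenW_append (lo := 0) (c1 := 624) (c2 := 12) (pgChkGenW_append (lo := 0) (c1 := 612) (c2 := 12) (pgChkGenW_append (lo := 0) (c1 := 600) (c2 := 12) (pgChkGenW_append (lo := 0) (c1 := 588) (c2 := 12) (pgChkGenW_append (lo := 0) (c1 := 576) (c2 := 12) (pgChkGenW_append (lo := 0) (c1 := 564) (c2 := 12) (pgChkGenW_append (lo := 0) (c1 := 552) (c2 := 12) (pgChkGenW_append (lo := 0) (c1 := 540) (c2 := 12) (pgChkGenW_append (lo := 0) (c1 := 528) (c2 := 12) (pgChkGenW_append (lo := 0)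 (c1 := 516) (c2 := 12) (pgChkGenW_append (lo := 0) (c1 := 504) (c2 := 12) (pgChkGenW_append (lo := 0) (c1 := 492) (c2 := 12) (pgChkGenW_append (lo := 0) (c1 := 480) (c2 := 12) (pgChkGenW_append (lo := 0) (c1 := 468) (c2 := 12) (pgChkGenW_append (lo := 0) (c1 := 456) (c2 := 12) (pgChkGenW_append (lo := 0) (c1 := 444) (c2 := 12) (pgChkGenW_append (lo := 0) (c1 := 432) (c2 := 12) (pgChkGenW_append (lo := 0) (c1 := 420) (c2 := 12) (pgChkGenW_append (lo := 0) (c1 := 408) (c2 := 12) (pgChkGenW_append (lo := 0) (c1 := 396) (c2 := 12) (pgChkGenW_append (lo := 0) (c1 := 384) (c2 := 12) (pgChkGenW_append (lo := 0) (c1 := 372) (c2 := 12) (pgChkGenW_append (lo := 0) (c1 := 360) (c2 := 12) (pgChkGenW_append (lo := 0) (c1 := 348) (c2 := 12) (pgChkGenW_append (lo := 0) (c1 := 336) (c2 := 12) (pgChkGenW_append (lo := 0) (c1 := 324) (c2 := 12) (pgChkGenW_append (lo := 0) (c1 := 312) (c2 := 12) (pgChkGenW_append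 (lo := 0) (c1 := 300) (c2 := 12) (pgChkGenW_append (lo := 0) (c1 := 288) (c2 := 12) (pgChkGenW_append (lo := 0) (c1 := 276) (c2 := 12) (pgChkGenW_append (lo := 0) (c1 := 264) (c2 := 12) (pgChkGenW_append (lo := 0) (c1 := 252) (c2 := 12) (pgChkGenW_append (lo := 0) (c1 := 240) (c2 := 12) (pgChkGenW_append (lo := 0) (c1 := 228) (c2 := 12) (pgChkGenW_append (lo := 0) (c1 := 216) (c2 := 12) (pgChkGenW_append (lo := 0) (c1 := 204) (c2 := 12) (pgChkGenW_append (lo := 0) (c1 := 192) (c2 := 12) (pgChkGenW_append (lo := 0) (c1 := 180) (c2 := 12) (pgChkGenW_append (lo := 0) (c1 := 168) (c2 := 12) (pgChkGenW_append (lo := 0) (c1 := 156) (c2 := 12) (pgChkGenW_append (lo := 0) (c1 := 144) (c2 := 12) (pgChkGenW_append (lo := 0) (c1 := 132) (c2 := 12) (pgChkGenW_append (lo := 0) (c1 := 120) (c2 := 12) (pgChkGenW_append (lo := 0) (c1 := 108) (c2 := 12) (pgChkGenW_append (lo := 0) (c1 := 96) (c2 := 12) (pgChkGenW_append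 (lo := 0) (c1 := 84) (c2 := 12) (pgChkGenW_append (lo := 0) (c1 := 72) (c2 := 12) (pgChkGenW_append (lo := 0) (c1 := 60) (c2 := 12) (pgChkGenW_append (lo := 0) (c1 := 48) (c2 := 12) (pgChkGenW_append (lo := 0) (c1 := 36) (c2 := 12) (pgChkGenW_append (lo := 0) (c1 := 24) (c2 := 12) (pgChkGenW_append (lo := 0) (c1 := 12) (c2 := 12) (wccl1x0c0) wccl1x0c12) wccl1x0c24) wccl1x0c36) wccl1x0c48) wccl1x0c60) wccl1x0c72) wccl1x0c84) wccl1x0c96) wccl1x0c108) wccl1x0c120) wccl1x0c132) wccl1x0c144) wccl1x0c156) wccl1x0c168) wccl1x0c180) wccl1x0c192) wccl1x0c204) wccl1x0c216) wccl1x0c228) wccl1x0c240) wccl1x0c252) wccl1x0c264) wccl1x0c276) wccl1x0c288) wccl1x0c300) wccl1x0c312) wccl1x0c324) wccl1x0c336) wccl1x0c348) wccl1x0c360) wccl1x0c372) wccl1x0c384) wccl1x0c396) wccl1x0c408) wccl1x0c420) wccl1x0c432) wccl1x0c444) wccl1x0c456) wccl1x0c468) wccl1x0c480) wccl1x0c492) wccl1x0c504) wccl1x0c516) wccl1x0c528)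 wccl1x0c540) wccl1x0c552) wccl1x0c564) wccl1x0c576) wccl1x0c588) wccl1x0c600) wccl1x0c612) wccl1x0c624) wccl1x0c636) wccl1x0c648) wccl1x0c660) wccl1x0c672) wccl1x0c684

theorem wccl1x1 : pgChkGenW 8404 (List.range 8404) wcL1 [wcL2, wcL3, wcL4, wcL5, wcL6, wcL7, wcL8, wcL9, wcL10]
    (wcgen wcT1x1 wcI1x1) 0 8404 = true :=
  pgChkGenW_append (lo := 0) (c1 := 684) (c2 := 7720) (pgChkGenW_append (lo := 0) (c1 := 672) (c2 := 12) (pgChkGenW_append (lo := 0) (c1 := 660) (c2 := 12) (pgChkGenW_append (lo := 0) (c1 := 648) (c2 := 12) (pgChkGenW_append (lo := 0) (c1 := 636) (c2 := 12) (pgChkGenW_append (lo := 0) (c1 := 624) (c2 := 12) (pgChkGenW_append (lo := 0) (c1 := 612) (c2 := 12) (pgChkGenW_append (lo := 0) (c1 := 600) (c2 := 12) (pgChkGenW_append (lo := 0) (c1 := 588) (c2 := 12) (pgChkGenW_append (lo := 0) (c1 := 576) (c2 := 12) (pgChkGenW_append (lo := 0) (c1 := 564) (c2 := 12) (pgChkGenW_append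 (lo := 0) (c1 := 552) (c2 := 12) (pgChkGenW_append (lo := 0) (c1 := 540) (c2 := 12) (pgChkGenW_append (lo := 0) (c1 := 528) (c2 := 12) (pgChkGenW_append (lo := 0) (c1 := 516) (c2 := 12) (pgChkGenW_append (lo := 0) (c1 := 504) (c2 := 12) (pgChkGenW_append (lo := 0) (c1 := 492) (c2 := 12) (pgChkGenW_append (lo := 0) (c1 := 480) (c2 := 12) (pgChkGenW_append (lo := 0) (c1 := 468) (c2 := 12) (pgChkGenW_append (lo := 0) (c1 := 456) (c2 := 12) (pgChkGenW_append (lo := 0) (c1 := 444) (c2 := 12) (pgChkGenW_append (lo := 0) (c1 := 432) (c2 := 12) (pgChkGenW_append (lo := 0) (c1 := 420) (c2 := 12) (pgChkGenW_append (lo := 0) (c1 := 408) (c2 := 12) (pgChkGenW_append (lo := 0) (c1 := 396) (c2 := 12) (pgChkGenW_append (lo := 0) (c1 := 384) (c2 := 12) (pgChkGenW_append (lo := 0) (c1 := 372) (c2 := 12) (pgChkGenW_append (lo := 0) (c1 := 360) (c2 := 12) (pgChkGenW_append (lo := 0) (c1 := 348) (c2 := 12)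 (pgChkGenW_append (lo := 0) (c1 := 336) (c2 := 12) (pgChkGenW_append (lo := 0) (c1 := 324) (c2 := 12) (pgChkGenW_append (lo := 0) (c1 := 312) (c2 := 12) (pgChkGenW_append (lo := 0) (c1 := 300) (c2 := 12) (pgChkGenW_append (lo := 0) (c1 := 288) (c2 := 12) (pgChkGenW_append (lo := 0) (c1 := 276) (c2 := 12) (pgChkGenW_append (lo := 0) (c1 := 264) (c2 := 12) (pgChkGenW_append (lo := 0) (c1 := 252) (c2 := 12) (pgChkGenW_append (lo := 0) (c1 := 240) (c2 := 12) (pgChkGenW_append (lo := 0) (c1 := 228) (c2 := 12) (pgChkGenW_append (lo := 0) (c1 := 216) (c2 := 12) (pgChkGenW_append (lo := 0) (c1 := 204) (c2 := 12) (pgChkGenW_append (lo := 0) (c1 := 192) (c2 := 12) (pgChkGenW_append (lo := 0) (c1 := 180) (c2 := 12) (pgChkGenW_append (lo := 0) (c1 := 168) (c2 := 12) (pgChkGenW_append (lo := 0) (c1 := 156) (c2 := 12) (pgChkGenW_append (lo := 0) (c1 := 144) (c2 := 12) (pgChkGenW_append (lo := 0) (c1 :=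 132) (c2 := 12) (pgChkGenW_append (lo := 0) (c1 := 120) (c2 := 12) (pgChkGenW_append (lo := 0) (c1 := 108) (c2 := 12) (pgChkGenW_append (lo := 0) (c1 := 96) (c2 := 12) (pgChkGenW_append (lo := 0) (c1 := 84) (c2 := 12) (pgChkGenW_append (lo := 0) (c1 := 72) (c2 := 12) (pgChkGenW_append (lo := 0) (c1 := 60) (c2 := 12) (pgChkGenW_append (lo := 0) (c1 := 48) (c2 := 12) (pgChkGenW_append (lo := 0) (c1 := 36) (c2 := 12) (pgChkGenW_append (lo := 0) (c1 := 24) (c2 := 12) (pgChkGenW_append (lo := 0) (c1 := 12) (c2 := 12) (wccl1x1c0) wccl1x1c12) wccl1x1c24) wccl1x1c36) wccl1x1c48) wccl1x1c60) wccl1x1c72) wccl1x1c84) wccl1x1c96) wccl1x1c108) wccl1x1c120) wccl1x1c132) wccl1x1c144) wccl1x1c156) wccl1x1c168) wccl1x1c180) wccl1x1c192) wccl1x1c204) wccl1x1c216) wccl1x1c228) wccl1x1c240) wccl1x1c252) wccl1x1c264) wccl1x1c276) wccl1x1c288) wccl1x1c300) wccl1x1c312) wccl1x1c324) wccl1x1c336) wccl1x1c348) wccl1x1c360)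 wccl1x1c372) wccl1x1c384) wccl1x1c396) wccl1x1c408) wccl1x1c420) wccl1x1c432) wccl1x1c444) wccl1x1c456) wccl1x1c468) wccl1x1c480) wccl1x1c492) wccl1x1c504) wccl1x1c516) wccl1x1c528) wccl1x1c540) wccl1x1c552) wccl1x1c564) wccl1x1c576) wccl1x1c588) wccl1x1c600) wccl1x1c612) wccl1x1c624) wccl1x1c636) wccl1x1c648) wccl1x1c660) wccl1x1c672) wccl1x1c684

theorem wcchkL10 : pgChkLvlW 8404 (List.range 8404) wcL10 [] = true := by
  apply pgChkLvlW_ofAllX wcchk0x10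
  intro s hs
  change s ∈ [wcgen wcT10x0 wcI10x0, wcgen wcT10x1 wcI10x1] at hs
  simp only [List.mem_cons, List.not_mem_nil, or_false] at hs
  rcases hs with rfl | rfl
  · exact wccl10x0
  · exact wccl10x1

theorem wcchkL9 : pgChkLvlW 8404 (List.range 8404) wcL9 [wcL10] = true := by
  apply pgChkLvlW_ofAllX wcchk0x9
  intro s hs
  change s ∈ [wcgen wcT9x0 wcI9x0, wcgen wcT9x1 wcI9x1] at hs
  simp only [List.mem_cons, List.not_mem_nil, or_false] at hs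
  rcases hs with rfl | rfl
  · exact wccl9x0
  · exact wccl9x1

theorem wcchkL8 : pgChkLvlW 8404 (List.range 8404) wcL8 [wcL9, wcL10] = true := by
  apply pgChkLvlW_ofAllX wcchk0x8
  intro s hs
  change s ∈ [wcgen wcT8x0 wcI8x0, wcgen wcT8x1 wcI8x1] at hs
  simp only [List.mem_cons, List.not_mem_nil, or_false] at hs
  rcases hs with rfl | rfl
  · exact wccl8x0
  · exact wccl8x1

theorem wcchkL7 : pgChkLvlW 8404 (List.range 8404) wcL7 [wcL8, wcL9, wcL10] = true := by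
  apply pgChkLvlW_ofAllX wcchk0x7
  intro s hs
  change s ∈ [wcgen wcT7x0 wcI7x0, wcgen wcT7x1 wcI7x1, wcgen wcT7x2 wcI7x2] at hs
  simp only [List.mem_cons, List.not_mem_nil, or_false] at hs
  rcases hs with rfl | rfl | rfl
  · exact wccl7x0
  · exact wccl7x1
  · exact wccl7x2

theorem wcchkL6 : pgChkLvlW 8404 (List.range 8404) wcL6 [wcL7, wcL8, wcL9, wcL10] = true := by
  apply pgChkLvlW_ofAllX wcchk0x6
  intro s hs
  change s ∈ [wcgen wcT6x0 wcI6x0, wcgen wcT6x1 wcI6x1, wcgen wcT6x2 wcI6x2, wcgen wcT6x3 wcI6x3, wcgen wcT6x4 wcI6x4, wcgen wcT6x5 wcI6x5] at hs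
  simp only [List.mem_cons, List.not_mem_nil, or_false] at hs
  rcases hs with rfl | rfl | rfl | rfl | rfl | rfl
  · exact wccl6x0
  · exact wccl6x1
  · exact wccl6x2
  · exact wccl6x3
  · exact wccl6x4
  · exact wccl6x5

theorem wcchkL5 : pgChkLvlW 8404 (List.range 8404) wcL5 [wcL6, wcL7, wcL8, wcL9, wcL10] = true := by
  apply pgChkLvlW_ofAllX wcchk0x5
  intro s hs
  change s ∈ [wcgen wcT5x0 wcI5x0, wcgen wcT5x1 wcI5x1, wcgen wcT5x2 wcI5x2, wcgen wcT5x3 wcI5x3, wcgen wcT5x4 wcI5x4, wcgen wcT5x5 wcI5x5, wcgen wcT5x6 wcI5x6, wcgen wcT5x7 wcI5x7, wcgen wcT5x8 wcI5x8, wcgen wcT5x9 wcI5x9, wcgen wcT5x10 wcI5x10] at hs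
  simp only [List.mem_cons, List.not_mem_nil, or_false] at hs
  rcases hs with rfl | rfl | rfl | rfl | rfl | rfl | rfl | rfl | rfl | rfl | rfl
  · exact wccl5x0
  · exact wccl5x1
  · exact wccl5x2
  · exact wccl5x3
  · exact wccl5x4
  · exact wccl5x5
  · exact wccl5x6
  · exact wccl5x7
  · exact wccl5x8
  · exact wccl5x9
  · exact wccl5x10

theorem wcchkL4 : pgChkLvlW 8404 (List.range 8404) wcL4 [wcL5, wcL6, wcL7, wcL8, wcL9, wcL10] = true := by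
  apply pgChkLvlW_ofAllX wcchk0x4
  intro s hs
  change s ∈ [wcgen wcT4x0 wcI4x0, wcgen wcT4x1 wcI4x1, wcgen wcT4x2 wcI4x2, wcgen wcT4x3 wcI4x3] at hs
  simp only [List.mem_cons, List.not_mem_nil, or_false] at hs
  rcases hs with rfl | rfl | rfl | rfl
  · exact wccl4x0
  · exact wccl4x1
  · exact wccl4x2
  · exact wccl4x3

theorem wcchkL3 : pgChkLvlW 8404 (List.range 8404) wcL3 [wcL4, wcL5, wcL6, wcL7, wcL8, wcL9, wcL10] = true := by
  apply pgChkLvlW_ofAllX wcchk0x3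
  intro s hs
  change s ∈ [wcgen wcT3x0 wcI3x0, wcgen wcT3x1 wcI3x1] at hs
  simp only [List.mem_cons, List.not_mem_nil, or_false] at hs
  rcases hs with rfl | rfl
  · exact wccl3x0
  · exact wccl3x1

theorem wcchkL2 : pgChkLvlW 8404 (List.range 8404) wcL2 [wcL3, wcL4, wcL5, wcL6, wcL7, wcL8, wcL9, wcL10] = true := by
  apply pgChkLvlW_ofAllX wcchk0x2
  intro s hs
  change s ∈ [wcgen wcT2x0 wcI2x0, wcgen wcT2x1 wcI2x1] at hs
  simp only [List.mem_cons, List.not_mem_nil, or_false] at hs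
  rcases hs with rfl | rfl
  · exact wccl2x0
  · exact wccl2x1

theorem wcchkL1 : pgChkLvlW 8404 (List.range 8404) wcL1 [wcL2, wcL3, wcL4, wcL5, wcL6, wcL7, wcL8, wcL9, wcL10] = true := by
  apply pgChkLvlW_ofAllX wcchk0x1
  intro s hs
  change s ∈ [wcgen wcT1x0 wcI1x0, wcgen wcT1x1 wcI1x1] at hs
  simp only [List.mem_cons, List.not_mem_nil, or_false] at hs
  rcases hs with rfl | rfl
  · exact wccl1x0
  · exact wccl1x1

/-- the stabiliser chain -/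
def wcC : List PgLvlW := [wcL1, wcL2, wcL3, wcL4, wcL5, wcL6, wcL7, wcL8, wcL9, wcL10]

theorem wcchkC : pgChkW 8404 (pgRigidAll 8404).base wcC = true := by
  change pgChkW 8404 (List.range 8404) [wcL1, wcL2, wcL3, wcL4, wcL5, wcL6, wcL7, wcL8, wcL9, wcL10] = true
  rw [pgChkW_cons, pgChkW_cons, pgChkW_cons, pgChkW_cons, pgChkW_cons, pgChkW_cons, pgChkW_cons, pgChkW_cons, pgChkW_cons, pgChkW_cons, wcchkL1, wcchkL2, wcchkL3, wcchkL4, wcchkL5, wcchkL6, wcchkL7, wcchkL8, wcchkL9, wcchkL10]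
  rfl

end Cfsg.Agent.Lib.Helper5.U62Cov
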