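import Cfsg.Agent.Lib.Helper5.U62CovData
import Cfsg.Agent.Lib.helper23.PgX
import Cfsg.Agent.Lib.helper23.PgH

set_option autoImplicit false
set_option maxRecDepth 1000000
set_option Elab.async false

/-! the covering group of the unitary group of degree six over four elements, on 8404 points: the checks of the stabiliser chain (generated), part 0. -/

namespace Cfsg.Agent.Lib.Helper5.U62Cov

open Cfsg.Agent.Lib.helper23 Subgroup MulAction
theorem wcchk0x10 : pgChkLvlW0 8404 wcL10 [] = true := by decide +kernel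

theorem wcchk0x9 : pgChkLvlW0 8404 wcL9 [wcL10] = true := by decide +kernel

theorem wcchk0x8 : pgChkLvlW0 8404 wcL8 [wcL9, wcL10] = true := by decide +kernel

theorem wcchk0x7 : pgChkLvlW0 8404 wcL7 [wcL8, wcL9, wcL10] = true := by decide +kernel

theorem wcchk0x6 : pgChkLvlW0 8404 wcL6 [wcL7, wcL8, wcL9, wcL10] = true := by decide +kernel

theorem wcchk0x5 : pgChkLvlW0 8404 wcL5 [wcL6, wcL7, wcL8, wcL9, wcL10] = true := by decide +kernel

theorem wcchk0x4 : pgChkLvlW0 8404 wcL4 [wcL5, wcL6, wcL7, wcL8, wcL9, wcL10] = true := by decide +kernel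

theorem wcchk0x3 : pgChkLvlW0 8404 wcL3 [wcL4, wcL5, wcL6, wcL7, wcL8, wcL9, wcL10] = true := by decide +kernel

theorem wcchk0x2 : pgChkLvlW0 8404 wcL2 [wcL3, wcL4, wcL5, wcL6, wcL7, wcL8, wcL9, wcL10] = true := by decide +kernel

theorem wcchk0x1 : pgChkLvlW0 8404 wcL1 [wcL2, wcL3, wcL4, wcL5, wcL6, wcL7, wcL8, wcL9, wcL10] = true := by decide +kernel

end Cfsg.Agent.Lib.Helper5.U62Cov
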