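import Cfsg.Agent.Lib.Helper5.U62CovData
import Cfsg.Agent.Lib.helper23.PgX
import Cfsg.Agent.Lib.helper23.PgH

set_option autoImplicit false
set_option maxRecDepth 1000000
set_option Elab.async false

/-! the covering group of the unitary group of degree six over four elements, on 8404 points: the checks of the stabiliser chain (generated), part 10. -/

namespace Cfsg.Agent.Lib.Helper5.U62Cov

open Cfsg.Agent.Lib.helper23 Subgroup MulAction
theorem wccl5x10c0 : pgChkGenW 8404 (List.range 8404) wcL5 [wcL6, wcL7, wcL8, wcL9, wcL10]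
    (wcgen wcT5x10 wcI5x10) 0 221 = true := by
  decide +kernel

theorem wccl5x10c221 : pgChkGenW 8404 (List.range 8404) wcL5 [wcL6, wcL7, wcL8, wcL9, wcL10]
    (wcgen wcT5x10 wcI5x10) 221 251 = true := by
  decide +kernel

theorem wccl5x10c472 : pgChkGenW 8404 (List.range 8404) wcL5 [wcL6, wcL7, wcL8, wcL9, wcL10]
    (wcgen wcT5x10 wcI5x10) 472 7932 = true := by
  decide +kernel

theorem wccl4x0c0 : pgChkGenW 8404 (List.range 8404) wcL4 [wcL5, wcL6, wcL7, wcL8, wcL9, wcL10]
    (wcgen wcT4x0 wcI4x0) 0 298 = true := by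
  decide +kernel

end Cfsg.Agent.Lib.Helper5.U62Cov
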