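import Cfsg.Agent.Lib.Helper5.U62CovData
import Cfsg.Agent.Lib.helper23.PgX
import Cfsg.Agent.Lib.helper23.PgH

set_option autoImplicit false
set_option maxRecDepth 1000000
set_option Elab.async false

/-! the covering group of the unitary group of degree six over four elements, on 8404 points: the checks of the stabiliser chain (generated), part 32. -/

namespace Cfsg.Agent.Lib.Helper5.U62Cov

open Cfsg.Agent.Lib.helper23 Subgroup MulAction
theorem wccl1x0c432s0 : pgChkGenW 8404 (List.range 8404) wcL1 [wcL2, wcL3, wcL4, wcL5, wcL6, wcL7, wcL8, wcL9, wcL10]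
    (wcgen wcT1x0 wcI1x0) 432 2 = true := by
  decide +kernel

theorem wccl1x0c432s1 : pgChkGenW 8404 (List.range 8404) wcL1 [wcL2, wcL3, wcL4, wcL5, wcL6, wcL7, wcL8, wcL9, wcL10]
    (wcgen wcT1x0 wcI1x0) 434 2 = true := by
  decide +kernel

theorem wccl1x0c432s2 : pgChkGenW 8404 (List.range 8404) wcL1 [wcL2, wcL3, wcL4, wcL5, wcL6, wcL7, wcL8, wcL9, wcL10]
    (wcgen wcT1x0 wcI1x0) 436 2 = true := by
  decide +kernel

theorem wccl1x0c432s3 : pgChkGenW 8404 (List.range 8404) wcL1 [wcL2, wcL3, wcL4, wcL5, wcL6, wcL7, wcL8, wcL9, wcL10]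
    (wcgen wcT1x0 wcI1x0) 438 2 = true := by
  decide +kernel

theorem wccl1x0c432s4 : pgChkGenW 8404 (List.range 8404) wcL1 [wcL2, wcL3, wcL4, wcL5, wcL6, wcL7, wcL8, wcL9, wcL10]
    (wcgen wcT1x0 wcI1x0) 440 2 = true := by
  decide +kernel

theorem wccl1x0c432s5 : pgChkGenW 8404 (List.range 8404) wcL1 [wcL2, wcL3, wcL4, wcL5, wcL6, wcL7, wcL8, wcL9, wcL10]
    (wcgen wcT1x0 wcI1x0) 442 2 = true := by
  decide +kernel

theorem wccl1x0c432 : pgChkGenW 8404 (List.range 8404) wcL1 [wcL2, wcL3, wcL4, wcL5, wcL6, wcL7, wcL8, wcL9, wcL10]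
    (wcgen wcT1x0 wcI1x0) 432 12 = true :=
  pgChkGenW_append (lo := 432) (c1 := 10) (c2 := 2) (pgChkGenW_append (lo := 432) (c1 := 8) (c2 := 2) (pgChkGenW_append (lo := 432) (c1 := 6) (c2 := 2) (pgChkGenW_append (lo := 432) (c1 := 4) (c2 := 2) (pgChkGenW_append (lo := 432) (c1 := 2) (c2 := 2) (wccl1x0c432s0) wccl1x0c432s1) wccl1x0c432s2) wccl1x0c432s3) wccl1x0c432s4) wccl1x0c432s5

theorem wccl1x0c444s0 : pgChkGenW 8404 (List.range 8404) wcL1 [wcL2, wcL3, wcL4, wcL5, wcL6, wcL7, wcL8, wcL9, wcL10]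
    (wcgen wcT1x0 wcI1x0) 444 2 = true := by
  decide +kernel

theorem wccl1x0c444s1 : pgChkGenW 8404 (List.range 8404) wcL1 [wcL2, wcL3, wcL4, wcL5, wcL6, wcL7, wcL8, wcL9, wcL10]
    (wcgen wcT1x0 wcI1x0) 446 2 = true := by
  decide +kernel

theorem wccl1x0c444s2 : pgChkGenW 8404 (List.range 8404) wcL1 [wcL2, wcL3, wcL4, wcL5, wcL6, wcL7, wcL8, wcL9, wcL10]
    (wcgen wcT1x0 wcI1x0) 448 2 = true := by
  decide +kernel

theorem wccl1x0c444s3 : pgChkGenW 8404 (List.range 8404) wcL1 [wcL2, wcL3, wcL4, wcL5, wcL6, wcL7, wcL8, wcL9, wcL10]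
    (wcgen wcT1x0 wcI1x0) 450 2 = true := by
  decide +kernel

theorem wccl1x0c444s4 : pgChkGenW 8404 (List.range 8404) wcL1 [wcL2, wcL3, wcL4, wcL5, wcL6, wcL7, wcL8, wcL9, wcL10]
    (wcgen wcT1x0 wcI1x0) 452 2 = true := by
  decide +kernel

theorem wccl1x0c444s5 : pgChkGenW 8404 (List.range 8404) wcL1 [wcL2, wcL3, wcL4, wcL5, wcL6, wcL7, wcL8, wcL9, wcL10]
    (wcgen wcT1x0 wcI1x0) 454 2 = true := by
  decide +kernel

theorem wccl1x0c444 : pgChkGenW 8404 (List.range 8404) wcL1 [wcL2, wcL3, wcL4, wcL5, wcL6, wcL7, wcL8, wcL9, wcL10]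
    (wcgen wcT1x0 wcI1x0) 444 12 = true :=
  pgChkGenW_append (lo := 444) (c1 := 10) (c2 := 2) (pgChkGenW_append (lo := 444) (c1 := 8) (c2 := 2) (pgChkGenW_append (lo := 444) (c1 := 6) (c2 := 2) (pgChkGenW_append (lo := 444) (c1 := 4) (c2 := 2) (pgChkGenW_append (lo := 444) (c1 := 2) (c2 := 2) (wccl1x0c444s0) wccl1x0c444s1) wccl1x0c444s2) wccl1x0c444s3) wccl1x0c444s4) wccl1x0c444s5

theorem wccl1x0c456s0 : pgChkGenW 8404 (List.range 8404) wcL1 [wcL2, wcL3, wcL4, wcL5, wcL6, wcL7, wcL8, wcL9, wcL10]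
    (wcgen wcT1x0 wcI1x0) 456 2 = true := by
  decide +kernel

theorem wccl1x0c456s1 : pgChkGenW 8404 (List.range 8404) wcL1 [wcL2, wcL3, wcL4, wcL5, wcL6, wcL7, wcL8, wcL9, wcL10]
    (wcgen wcT1x0 wcI1x0) 458 2 = true := by
  decide +kernel

theorem wccl1x0c456s2 : pgChkGenW 8404 (List.range 8404) wcL1 [wcL2, wcL3, wcL4, wcL5, wcL6, wcL7, wcL8, wcL9, wcL10]
    (wcgen wcT1x0 wcI1x0) 460 2 = true := by
  decide +kernel

theorem wccl1x0c456s3 : pgChkGenW 8404 (List.range 8404) wcL1 [wcL2, wcL3, wcL4, wcL5, wcL6, wcL7, wcL8, wcL9, wcL10]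
    (wcgen wcT1x0 wcI1x0) 462 2 = true := by
  decide +kernel

theorem wccl1x0c456s4 : pgChkGenW 8404 (List.range 8404) wcL1 [wcL2, wcL3, wcL4, wcL5, wcL6, wcL7, wcL8, wcL9, wcL10]
    (wcgen wcT1x0 wcI1x0) 464 2 = true := by
  decide +kernel

theorem wccl1x0c456s5 : pgChkGenW 8404 (List.range 8404) wcL1 [wcL2, wcL3, wcL4, wcL5, wcL6, wcL7, wcL8, wcL9, wcL10]
    (wcgen wcT1x0 wcI1x0) 466 2 = true := by
  decide +kernel

theorem wccl1x0c456 : pgChkGenW 8404 (List.range 8404) wcL1 [wcL2, wcL3, wcL4, wcL5, wcL6, wcL7, wcL8, wcL9, wcL10]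
    (wcgen wcT1x0 wcI1x0) 456 12 = true :=
  pgChkGenW_append (lo := 456) (c1 := 10) (c2 := 2) (pgChkGenW_append (lo := 456) (c1 := 8) (c2 := 2) (pgChkGenW_append (lo := 456) (c1 := 6) (c2 := 2) (pgChkGenW_append (lo := 456) (c1 := 4) (c2 := 2) (pgChkGenW_append (lo := 456) (c1 := 2) (c2 := 2) (wccl1x0c456s0) wccl1x0c456s1) wccl1x0c456s2) wccl1x0c456s3) wccl1x0c456s4) wccl1x0c456s5

theorem wccl1x0c468s0 : pgChkGenW 8404 (List.range 8404) wcL1 [wcL2, wcL3, wcL4, wcL5, wcL6, wcL7, wcL8, wcL9, wcL10]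
    (wcgen wcT1x0 wcI1x0) 468 2 = true := by
  decide +kernel

theorem wccl1x0c468s1 : pgChkGenW 8404 (List.range 8404) wcL1 [wcL2, wcL3, wcL4, wcL5, wcL6, wcL7, wcL8, wcL9, wcL10]
    (wcgen wcT1x0 wcI1x0) 470 2 = true := by
  decide +kernel

theorem wccl1x0c468s2 : pgChkGenW 8404 (List.range 8404) wcL1 [wcL2, wcL3, wcL4, wcL5, wcL6, wcL7, wcL8, wcL9, wcL10]
    (wcgen wcT1x0 wcI1x0) 472 2 = true := by
  decide +kernel

theorem wccl1x0c468s3 : pgChkGenW 8404 (List.range 8404) wcL1 [wcL2, wcL3, wcL4, wcL5, wcL6, wcL7, wcL8, wcL9, wcL10]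
    (wcgen wcT1x0 wcI1x0) 474 2 = true := by
  decide +kernel

theorem wccl1x0c468s4 : pgChkGenW 8404 (List.range 8404) wcL1 [wcL2, wcL3, wcL4, wcL5, wcL6, wcL7, wcL8, wcL9, wcL10]
    (wcgen wcT1x0 wcI1x0) 476 2 = true := by
  decide +kernel

theorem wccl1x0c468s5 : pgChkGenW 8404 (List.range 8404) wcL1 [wcL2, wcL3, wcL4, wcL5, wcL6, wcL7, wcL8, wcL9, wcL10]
    (wcgen wcT1x0 wcI1x0) 478 2 = true := by
  decide +kernel

theorem wccl1x0c468 : pgChkGenW 8404 (List.range 8404) wcL1 [wcL2, wcL3, wcL4, wcL5, wcL6, wcL7, wcL8, wcL9, wcL10]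
    (wcgen wcT1x0 wcI1x0) 468 12 = true :=
  pgChkGenW_append (lo := 468) (c1 := 10) (c2 := 2) (pgChkGenW_append (lo := 468) (c1 := 8) (c2 := 2) (pgChkGenW_append (lo := 468) (c1 := 6) (c2 := 2) (pgChkGenW_append (lo := 468) (c1 := 4) (c2 := 2) (pgChkGenW_append (lo := 468) (c1 := 2) (c2 := 2) (wccl1x0c468s0) wccl1x0c468s1) wccl1x0c468s2) wccl1x0c468s3) wccl1x0c468s4) wccl1x0c468s5

end Cfsg.Agent.Lib.Helper5.U62Cov
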