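import Cfsg.Agent.Lib.Helper5.U62CovData
import Cfsg.Agent.Lib.helper23.PgX
import Cfsg.Agent.Lib.helper23.PgH

set_option autoImplicit false
set_option maxRecDepth 1000000
set_option Elab.async false

/-! the covering group of the unitary group of degree six over four elements, on 8404 points: the checks of the stabiliser chain (generated), part 43. -/

namespace Cfsg.Agent.Lib.Helper5.U62Cov

open Cfsg.Agent.Lib.helper23 Subgroup MulAction
theorem wccl1x1c264s0 : pgChkGenW 8404 (List.range 8404) wcL1 [wcL2, wcL3, wcL4, wcL5, wcL6, wcL7, wcL8, wcL9, wcL10]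
    (wcgen wcT1x1 wcI1x1) 264 2 = true := by
  decide +kernel

theorem wccl1x1c264s1 : pgChkGenW 8404 (List.range 8404) wcL1 [wcL2, wcL3, wcL4, wcL5, wcL6, wcL7, wcL8, wcL9, wcL10]
    (wcgen wcT1x1 wcI1x1) 266 2 = true := by
  decide +kernel

theorem wccl1x1c264s2 : pgChkGenW 8404 (List.range 8404) wcL1 [wcL2, wcL3, wcL4, wcL5, wcL6, wcL7, wcL8, wcL9, wcL10]
    (wcgen wcT1x1 wcI1x1) 268 2 = true := by
  decide +kernel

theorem wccl1x1c264s3 : pgChkGenW 8404 (List.range 8404) wcL1 [wcL2, wcL3, wcL4, wcL5, wcL6, wcL7, wcL8, wcL9, wcL10]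
    (wcgen wcT1x1 wcI1x1) 270 2 = true := by
  decide +kernel

theorem wccl1x1c264s4 : pgChkGenW 8404 (List.range 8404) wcL1 [wcL2, wcL3, wcL4, wcL5, wcL6, wcL7, wcL8, wcL9, wcL10]
    (wcgen wcT1x1 wcI1x1) 272 2 = true := by
  decide +kernel

theorem wccl1x1c264s5 : pgChkGenW 8404 (List.range 8404) wcL1 [wcL2, wcL3, wcL4, wcL5, wcL6, wcL7, wcL8, wcL9, wcL10]
    (wcgen wcT1x1 wcI1x1) 274 2 = true := by
  decide +kernel

theorem wccl1x1c264 : pgChkGenW 8404 (List.range 8404) wcL1 [wcL2, wcL3, wcL4, wcL5, wcL6, wcL7, wcL8, wcL9, wcL10]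
    (wcgen wcT1x1 wcI1x1) 264 12 = true :=
  pgChkGenW_append (lo := 264) (c1 := 10) (c2 := 2) (pgChkGenW_append (lo := 264) (c1 := 8) (c2 := 2) (pgChkGenW_append (lo := 264) (c1 := 6) (c2 := 2) (pgChkGenW_append (lo := 264) (c1 := 4) (c2 := 2) (pgChkGenW_append (lo := 264) (c1 := 2) (c2 := 2) (wccl1x1c264s0) wccl1x1c264s1) wccl1x1c264s2) wccl1x1c264s3) wccl1x1c264s4) wccl1x1c264s5

theorem wccl1x1c276s0 : pgChkGenW 8404 (List.range 8404) wcL1 [wcL2, wcL3, wcL4, wcL5, wcL6, wcL7, wcL8, wcL9, wcL10]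
    (wcgen wcT1x1 wcI1x1) 276 2 = true := by
  decide +kernel

theorem wccl1x1c276s1 : pgChkGenW 8404 (List.range 8404) wcL1 [wcL2, wcL3, wcL4, wcL5, wcL6, wcL7, wcL8, wcL9, wcL10]
    (wcgen wcT1x1 wcI1x1) 278 2 = true := by
  decide +kernel

theorem wccl1x1c276s2 : pgChkGenW 8404 (List.range 8404) wcL1 [wcL2, wcL3, wcL4, wcL5, wcL6, wcL7, wcL8, wcL9, wcL10]
    (wcgen wcT1x1 wcI1x1) 280 2 = true := by
  decide +kernel

theorem wccl1x1c276s3 : pgChkGenW 8404 (List.range 8404) wcL1 [wcL2, wcL3, wcL4, wcL5, wcL6, wcL7, wcL8, wcL9, wcL10]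
    (wcgen wcT1x1 wcI1x1) 282 2 = true := by
  decide +kernel

theorem wccl1x1c276s4 : pgChkGenW 8404 (List.range 8404) wcL1 [wcL2, wcL3, wcL4, wcL5, wcL6, wcL7, wcL8, wcL9, wcL10]
    (wcgen wcT1x1 wcI1x1) 284 2 = true := by
  decide +kernel

theorem wccl1x1c276s5 : pgChkGenW 8404 (List.range 8404) wcL1 [wcL2, wcL3, wcL4, wcL5, wcL6, wcL7, wcL8, wcL9, wcL10]
    (wcgen wcT1x1 wcI1x1) 286 2 = true := by
  decide +kernel

theorem wccl1x1c276 : pgChkGenW 8404 (List.range 8404) wcL1 [wcL2, wcL3, wcL4, wcL5, wcL6, wcL7, wcL8, wcL9, wcL10]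
    (wcgen wcT1x1 wcI1x1) 276 12 = true :=
  pgChkGenW_append (lo := 276) (c1 := 10) (c2 := 2) (pgChkGenW_append (lo := 276) (c1 := 8) (c2 := 2) (pgChkGenW_append (lo := 276) (c1 := 6) (c2 := 2) (pgChkGenW_append (lo := 276) (c1 := 4) (c2 := 2) (pgChkGenW_append (lo := 276) (c1 := 2) (c2 := 2) (wccl1x1c276s0) wccl1x1c276s1) wccl1x1c276s2) wccl1x1c276s3) wccl1x1c276s4) wccl1x1c276s5

theorem wccl1x1c288s0 : pgChkGenW 8404 (List.range 8404) wcL1 [wcL2, wcL3, wcL4, wcL5, wcL6, wcL7, wcL8, wcL9, wcL10]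
    (wcgen wcT1x1 wcI1x1) 288 2 = true := by
  decide +kernel

theorem wccl1x1c288s1 : pgChkGenW 8404 (List.range 8404) wcL1 [wcL2, wcL3, wcL4, wcL5, wcL6, wcL7, wcL8, wcL9, wcL10]
    (wcgen wcT1x1 wcI1x1) 290 2 = true := by
  decide +kernel

theorem wccl1x1c288s2 : pgChkGenW 8404 (List.range 8404) wcL1 [wcL2, wcL3, wcL4, wcL5, wcL6, wcL7, wcL8, wcL9, wcL10]
    (wcgen wcT1x1 wcI1x1) 292 2 = true := by
  decide +kernel

theorem wccl1x1c288s3 : pgChkGenW 8404 (List.range 8404) wcL1 [wcL2, wcL3, wcL4, wcL5, wcL6, wcL7, wcL8, wcL9, wcL10]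
    (wcgen wcT1x1 wcI1x1) 294 2 = true := by
  decide +kernel

theorem wccl1x1c288s4 : pgChkGenW 8404 (List.range 8404) wcL1 [wcL2, wcL3, wcL4, wcL5, wcL6, wcL7, wcL8, wcL9, wcL10]
    (wcgen wcT1x1 wcI1x1) 296 2 = true := by
  decide +kernel

theorem wccl1x1c288s5 : pgChkGenW 8404 (List.range 8404) wcL1 [wcL2, wcL3, wcL4, wcL5, wcL6, wcL7, wcL8, wcL9, wcL10]
    (wcgen wcT1x1 wcI1x1) 298 2 = true := by
  decide +kernel

theorem wccl1x1c288 : pgChkGenW 8404 (List.range 8404) wcL1 [wcL2, wcL3, wcL4, wcL5, wcL6, wcL7, wcL8, wcL9, wcL10]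
    (wcgen wcT1x1 wcI1x1) 288 12 = true :=
  pgChkGenW_append (lo := 288) (c1 := 10) (c2 := 2) (pgChkGenW_append (lo := 288) (c1 := 8) (c2 := 2) (pgChkGenW_append (lo := 288) (c1 := 6) (c2 := 2) (pgChkGenW_append (lo := 288) (c1 := 4) (c2 := 2) (pgChkGenW_append (lo := 288) (c1 := 2) (c2 := 2) (wccl1x1c288s0) wccl1x1c288s1) wccl1x1c288s2) wccl1x1c288s3) wccl1x1c288s4) wccl1x1c288s5

theorem wccl1x1c300s0 : pgChkGenW 8404 (List.range 8404) wcL1 [wcL2, wcL3, wcL4, wcL5, wcL6, wcL7, wcL8, wcL9, wcL10]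
    (wcgen wcT1x1 wcI1x1) 300 2 = true := by
  decide +kernel

theorem wccl1x1c300s1 : pgChkGenW 8404 (List.range 8404) wcL1 [wcL2, wcL3, wcL4, wcL5, wcL6, wcL7, wcL8, wcL9, wcL10]
    (wcgen wcT1x1 wcI1x1) 302 2 = true := by
  decide +kernel

theorem wccl1x1c300s2 : pgChkGenW 8404 (List.range 8404) wcL1 [wcL2, wcL3, wcL4, wcL5, wcL6, wcL7, wcL8, wcL9, wcL10]
    (wcgen wcT1x1 wcI1x1) 304 2 = true := by
  decide +kernel

theorem wccl1x1c300s3 : pgChkGenW 8404 (List.range 8404) wcL1 [wcL2, wcL3, wcL4, wcL5, wcL6, wcL7, wcL8, wcL9, wcL10]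
    (wcgen wcT1x1 wcI1x1) 306 2 = true := by
  decide +kernel

theorem wccl1x1c300s4 : pgChkGenW 8404 (List.range 8404) wcL1 [wcL2, wcL3, wcL4, wcL5, wcL6, wcL7, wcL8, wcL9, wcL10]
    (wcgen wcT1x1 wcI1x1) 308 2 = true := by
  decide +kernel

theorem wccl1x1c300s5 : pgChkGenW 8404 (List.range 8404) wcL1 [wcL2, wcL3, wcL4, wcL5, wcL6, wcL7, wcL8, wcL9, wcL10]
    (wcgen wcT1x1 wcI1x1) 310 2 = true := by
  decide +kernel

theorem wccl1x1c300 : pgChkGenW 8404 (List.range 8404) wcL1 [wcL2, wcL3, wcL4, wcL5, wcL6, wcL7, wcL8, wcL9, wcL10]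
    (wcgen wcT1x1 wcI1x1) 300 12 = true :=
  pgChkGenW_append (lo := 300) (c1 := 10) (c2 := 2) (pgChkGenW_append (lo := 300) (c1 := 8) (c2 := 2) (pgChkGenW_append (lo := 300) (c1 := 6) (c2 := 2) (pgChkGenW_append (lo := 300) (c1 := 4) (c2 := 2) (pgChkGenW_append (lo := 300) (c1 := 2) (c2 := 2) (wccl1x1c300s0) wccl1x1c300s1) wccl1x1c300s2) wccl1x1c300s3) wccl1x1c300s4) wccl1x1c300s5

end Cfsg.Agent.Lib.Helper5.U62Cov
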