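import Mathlib
import Cfsg.Agent.Lib.Helper5.PcPF
import Cfsg.Agent.Lib.Helper5.PcPK
import Cfsg.Agent.Lib.Helper5.U62CovChk
import Cfsg.Agent.Lib.Helper5.U62CovEl

set_option autoImplicit false
set_option maxRecDepth 1000000
set_option Elab.async false

/-! Checks on the elements of the covering group on 8404 points (generated), part 1. -/

namespace Cfsg.Agent.Lib.Helper5.U62Cov

open Cfsg.Agent.Lib.helper23 Cfsg.Agent.Lib.Helper5.CP Cfsg.Agent.Lib.Helper5.PcP
theorem etabsp1_chk : tabsChk wclk 8404 (pgRigidAll 8404).base wcC etabsp1 = true := by decide +kernel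

end Cfsg.Agent.Lib.Helper5.U62Cov
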