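import Mathlib
import Cfsg.Agent.Lib.Helper5.PcPF
import Cfsg.Agent.Lib.Helper5.PcPK
import Cfsg.Agent.Lib.Helper5.U62CovChk
import Cfsg.Agent.Lib.Helper5.U62CovEl
import Cfsg.Agent.Lib.Helper5.U62CovElChk0
import Cfsg.Agent.Lib.Helper5.U62CovElChk1
import Cfsg.Agent.Lib.Helper5.U62CovElChk2
import Cfsg.Agent.Lib.Helper5.U62CovElChk3

set_option autoImplicit false
set_option maxRecDepth 1000000
set_option Elab.async false

/-! Checks on the elements of the covering group on 8404 points (generated), part 4. -/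

namespace Cfsg.Agent.Lib.Helper5.U62Cov

open Cfsg.Agent.Lib.helper23 Cfsg.Agent.Lib.Helper5.CP Cfsg.Agent.Lib.Helper5.PcP
theorem etabs_chk : tabsChk wclk 8404 (pgRigidAll 8404).base wcC etabs = true :=
  tabsChk_append _ _ _ _ _ _ etabsp0_chk (tabsChk_append _ _ _ _ _ _ etabsp1_chk
    (tabsChk_append _ _ _ _ _ _ etabsp2_chk etabsp3_chk))

theorem wcid_chk : eqW wclk 8404 wcId [] = true := by decide +kernel

theorem commZ3_chk : eqWW wclk 8404 [wcEZ3, wcEY3, wcEX3] [wcEX3, wcEY3] = true := by decide +kernel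

theorem kerZ3_chk : allB 693 (fun p => Nat.beq (wclk wcEZ3 p) p) = true := by decide +kernel

theorem cenAZ3_chk : eqWW wclk 8404 [wcEZ3, wcT1x0] [wcT1x0, wcEZ3] = true := by decide +kernel

theorem cenBZ3_chk : eqWW wclk 8404 [wcEZ3, wcT1x1] [wcT1x1, wcEZ3] = true := by decide +kernel

theorem powZ3_chk : eqWW wclk 8404 [wcEZ3, wcEZ3, wcEZ3] [] = true := by decide +kernel

theorem commZ2a_chk : eqWW wclk 8404 [wcEZ2a, wcEY1, wcEX1] [wcEX1, wcEY1] = true := by decide +kernel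

theorem kerZ2a_chk : allB 693 (fun p => Nat.beq (wclk wcEZ2a p) p) = true := by decide +kernel

theorem cenAZ2a_chk : eqWW wclk 8404 [wcEZ2a, wcT1x0] [wcT1x0, wcEZ2a] = true := by decide +kernel

theorem cenBZ2a_chk : eqWW wclk 8404 [wcEZ2a, wcT1x1] [wcT1x1, wcEZ2a] = true := by decide +kernel

theorem powZ2a_chk : eqWW wclk 8404 [wcEZ2a, wcEZ2a] [] = true := by decide +kernel

theorem commZ2b_chk : eqWW wclk 8404 [wcEZ2b, wcEY1, wcEX2] [wcEX2, wcEY1] = true := by decide +kernel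

theorem kerZ2b_chk : allB 693 (fun p => Nat.beq (wclk wcEZ2b p) p) = true := by decide +kernel

theorem cenAZ2b_chk : eqWW wclk 8404 [wcEZ2b, wcT1x0] [wcT1x0, wcEZ2b] = true := by decide +kernel

theorem cenBZ2b_chk : eqWW wclk 8404 [wcEZ2b, wcT1x1] [wcT1x1, wcEZ2b] = true := by decide +kernel

theorem powZ2b_chk : eqWW wclk 8404 [wcEZ2b, wcEZ2b] [] = true := by decide +kernel

theorem vals_chk :
    (wclk wcEZ3 693 = 695 ∧ wclk wcEZ3 695 = 694) ∧
    (wclk wcEZ2a 693 = 693 ∧ wclk wcEZ2b 693 = 693) ∧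
    wclk wcEZ2a 2772 = 2773 ∧ wclk wcEZ2b 2772 = 2772 ∧
    wclk wcEZ2b 5588 = 5589 := by decide +kernel

end Cfsg.Agent.Lib.Helper5.U62Cov
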