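import Mathlib
import Cfsg.Agent.Lib.Helper5.U62CovElChk
import Cfsg.Agent.Lib.Helper5.StemY
import Cfsg.Agent.Lib.helper23.U6B
import Cfsg.Prelude.Def_KGroupFacts

set_option autoImplicit false
set_option maxRecDepth 1000000

/-! The group on 8404 points generated by lifts of the two generators is a stem extension of the
projective special unitary group of degree six over the field with four elements (on 693 points),
with kernel the product of cyclic groups of orders three, two and two. -/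

namespace Cfsg.Agent.Lib.Helper5.U62Cov

open Cfsg Cfsg.Agent.Lib.helper23 Cfsg.Agent.Lib.Helper5.CP Cfsg.Agent.Lib.Helper5.PcP
open Subgroup
open scoped commutatorElement

theorem wcA : pgGrpW 8404 wcC ≤ (pgRigidAll 8404).A := le_top

theorem wcok : ∀ P ∈ wcL1.own, P.ok 8404 = true :=
  pgChkW_own_ok 8404 (pgRigidAll 8404).base wcC wcchkC

theorem wcord : pgOrdW 8404 wcC = 110361968640 := by decide +kernel

/-- the covering group on 8404 points -/
abbrev Cov : Subgroup (Equiv.Perm (Fin 8404)) := closure (pgSet 8404 wcL1.own)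

theorem Cov_eq : Cov = pgGrpW 8404 wcC := rfl

theorem Cov_card : Nat.card Cov = 110361968640 := by
  rw [Cov_eq, pgCardW (pgRigidAll 8404) wcC wcchkC wcA, wcord]

instance Cov_finite : Finite Cov := Nat.finite_of_card_ne_zero (by rw [Cov_card]; norm_num)

/-- the group on 693 points, as a type -/
abbrev HG : Type := ↥P693

theorem card_HG : Nat.card HG = 9196830720 := P693_card

instance HG_finite : Finite HG := Nat.finite_of_card_ne_zero (by rw [card_HG]; norm_num)

/-! ### the restriction to the first 693 points -/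

/-- the permutations preserving the first 693 points -/
def Stab : Subgroup (Equiv.Perm (Fin 8404)) where
  carrier := {g | ∀ i : Fin 8404, (g i).1 < 693 ↔ i.1 < 693}
  one_mem' := fun _ => Iff.rfl
  mul_mem' := by
    intro a b ha hb i
    rw [Equiv.Perm.mul_apply]
    exact (ha (b i)).trans (hb i)
  inv_mem' := by
    intro a ha i
    have := ha (a⁻¹ i)
    have e : a (a⁻¹ i) = i := by simp
    rw [e] at this
    exact this.symm

/-- the embedding of the first 693 points -/
def emb (i : Fin 693) : Fin 8404 := ⟨i.1, by omega⟩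

theorem emb_injective : Function.Injective emb := by
  intro i j h
  apply Fin.ext
  have h' : (emb i).1 = (emb j).1 := congrArg Fin.val h
  exact h'

/-- the restriction to the first 693 points, as a function -/
def resFun (g : Stab) (i : Fin 693) : Fin 693 := ⟨(g.1 (emb i)).1, (g.2 (emb i)).2 i.2⟩

theorem emb_resFun (g : Stab) (i : Fin 693) : emb (resFun g i) = g.1 (emb i) := Fin.ext rfl

theorem resFun_mul (g h : Stab) (i : Fin 693) : resFun (g * h) i = resFun g (resFun h i) := by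
  apply emb_injective
  rw [emb_resFun, emb_resFun, emb_resFun]
  rfl

theorem resFun_one (i : Fin 693) : resFun 1 i = i := by
  apply emb_injective
  rw [emb_resFun]
  rfl

/-- the restriction to the first 693 points -/
def res : Stab →* Equiv.Perm (Fin 693) where
  toFun g :=
    { toFun := resFun g
      invFun := resFun g⁻¹
      left_inv := fun i => by rw [← resFun_mul, inv_mul_cancel, resFun_one]
      right_inv := fun i => by rw [← resFun_mul, mul_inv_cancel, resFun_one] }
  map_one' := by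
    apply Equiv.ext
    intro i
    exact resFun_one i
  map_mul' := by
    intro g h
    apply Equiv.ext
    intro i
    exact resFun_mul g h i

theorem res_apply (g : Stab) (i : Fin 693) : ((res g) i).1 = (g.1 (emb i)).1 := rfl

/-! ### the generators -/

/-- the lift of the generator of index `k`, as a pair of lookups -/
def cG (k : ℕ) : PFun := wcL1.own.getD k PFun.one

/-- the generator of index `k`, as a pair of lookups -/
def bG (k : ℕ) : PFun := u6pL1.own.getD k PFun.one

theorem cG_ok (k : ℕ) : (cG k).ok 8404 = true := pgGetD_ok wcok k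

theorem bG_ok (k : ℕ) : (bG k).ok 693 = true := pgGetD_ok u6pok k

theorem own_length : wcL1.own.length = 2 := rfl

theorem bown_length : u6pL1.own.length = 2 := rfl

theorem mem_own {P : PFun} (hP : P ∈ wcL1.own) : ∃ k, k < 2 ∧ P = cG k := by
  obtain ⟨k, hk, rfl⟩ := List.mem_iff_getElem.mp hP
  refine ⟨k, by rw [← own_length]; exact hk, ?_⟩
  unfold cG
  rw [List.getD_eq_getElem _ _ hk]

theorem mem_bown {P : PFun} (hP : P ∈ u6pL1.own) : ∃ k, k < 2 ∧ P = bG k := by
  obtain ⟨k, hk, rfl⟩ := List.mem_iff_getElem.mp hP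
  refine ⟨k, by rw [← bown_length]; exact hk, ?_⟩
  unfold bG
  rw [List.getD_eq_getElem _ _ hk]

theorem stab_chk : pgAll 2 (fun k => pgAll 8404 (fun i =>
    pgEqB (Nat.blt ((cG k).f i) 693) (Nat.blt i 693))) = true := by decide +kernel

theorem res_chk : pgAll 2 (fun k => pgAll 693 (fun i =>
    Nat.beq ((cG k).f i) ((bG k).f i))) = true := by decide +kernel

theorem perm_mem_Stab {P : PFun} (hP : P.ok 8404 = true)
    (h : pgAll 8404 (fun i => pgEqB (Nat.blt (P.f i) 693) (Nat.blt i 693)) = true) :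
    P.perm 8404 ∈ Stab := by
  intro i
  rw [PFun.perm_apply hP]
  have := (pgAll_iff _ _).1 h i.1 i.2
  rw [pgEqB_iff] at this
  constructor
  · intro h1
    have h2 : Nat.blt (P.f i.1) 693 = true := by simpa using h1
    rw [this] at h2
    simpa using h2
  · intro h1
    have h2 : Nat.blt i.1 693 = true := by simpa using h1
    rw [← this] at h2
    simpa using h2

theorem cG_stab (k : ℕ) (hk : k < 2) : (cG k).perm 8404 ∈ Stab :=
  perm_mem_Stab (cG_ok k) ((pgAll_iff _ _).1 stab_chk k hk)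

theorem Cov_le_Stab : Cov ≤ Stab := by
  rw [closure_le]
  rintro _ ⟨P, hP, rfl⟩
  obtain ⟨k, hk, rfl⟩ := mem_own hP
  exact cG_stab k hk

theorem res_perm {P Q : PFun} (hP : P.ok 8404 = true) (hs : P.perm 8404 ∈ Stab)
    (hQ : Q.ok 693 = true) (h : pgAll 693 (fun i => Nat.beq (P.f i) (Q.f i)) = true) :
    res ⟨P.perm 8404, hs⟩ = Q.perm 693 := by
  apply Equiv.ext
  intro i
  apply Fin.ext
  rw [res_apply, PFun.perm_apply hP, PFun.perm_apply hQ]
  have := (pgAll_iff _ _).1 h i.1 i.2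
  rw [Nat.beq_eq] at this
  exact this

theorem res_cG (k : ℕ) (hk : k < 2) : res ⟨(cG k).perm 8404, cG_stab k hk⟩ = (bG k).perm 693 :=
  res_perm (cG_ok k) (cG_stab k hk) (bG_ok k) ((pgAll_iff _ _).1 res_chk k hk)

/-- the restriction on the covering group -/
def sig0 : Cov →* Equiv.Perm (Fin 693) := res.comp (Subgroup.inclusion Cov_le_Stab)

theorem sig0_mem (γ : Cov) : sig0 γ ∈ P693 := by
  have hle : Cov ≤ (P693.comap res).map Stab.subtype := by
    rw [closure_le]
    rintro _ ⟨P, hP, rfl⟩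
    obtain ⟨k, hk, rfl⟩ := mem_own hP
    refine ⟨⟨(cG k).perm 8404, cG_stab k hk⟩, ?_, rfl⟩
    show res _ ∈ P693
    rw [res_cG k hk]
    exact pgGetD_mem k
  obtain ⟨s, hs, hsγ⟩ := hle γ.2
  have e : Subgroup.inclusion Cov_le_Stab γ = s := Subtype.ext hsγ.symm
  show res (Subgroup.inclusion Cov_le_Stab γ) ∈ P693
  rw [e]
  exact hs

/-- the covering map -/
def sig : Cov →* HG := sig0.codRestrict P693 sig0_mem

theorem sig_coe (γ : Cov) : ((sig γ : HG) : Equiv.Perm (Fin 693)) = sig0 γ := rfl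

/-- the lift of the generator of index `k` -/
def xG (k : ℕ) : Cov := ⟨(cG k).perm 8404, pgGetD_mem k⟩

theorem sig0_xG (k : ℕ) (hk : k < 2) : sig0 (xG k) = (bG k).perm 693 := res_cG k hk

theorem sig_surj : Function.Surjective sig := by
  rintro ⟨y, hy⟩
  have key : ∀ y (hy : y ∈ P693), ∃ γ : Cov, sig0 γ = y := by
    intro y hy
    induction hy using Subgroup.closure_induction with
    | mem y hy =>
      obtain ⟨P, hP, rfl⟩ := hy
      obtain ⟨k, hk, rfl⟩ := mem_bown hP
      exact ⟨xG k, sig0_xG k hk⟩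
    | one => exact ⟨1, map_one _⟩
    | mul a b ha hb iha ihb =>
      obtain ⟨γ, hγ⟩ := iha
      obtain ⟨δ, hδ⟩ := ihb
      exact ⟨γ * δ, by rw [map_mul, hγ, hδ]⟩
    | inv a ha iha =>
      obtain ⟨γ, hγ⟩ := iha
      exact ⟨γ⁻¹, by rw [map_inv, hγ]⟩
  obtain ⟨γ, hγ⟩ := key y hy
  exact ⟨γ, Subtype.ext hγ⟩

theorem card_ker_sig : Nat.card sig.ker = 12 := by
  have h1 := Subgroup.card_eq_card_quotient_mul_card_subgroup sig.ker
  have e := QuotientGroup.quotientKerEquivOfSurjective sig sig_surj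
  rw [Nat.card_congr e.toEquiv, Cov_card, card_HG] at h1
  omega

/-! ### elements given by tables -/

theorem etabs_mem : (∀ t ∈ etabs, (mkP wclk t).perm 8404 ∈ pgGrpW 8404 wcC) ∧
    (∀ t ∈ etabs, (mkP wclk t).ok 8404 = true) :=
  tabs_of_chk (pgRigidAll 8404) wcchkC wcA rfl etabs etabs_chk

/-- the elements of the tables -/
noncomputable def eG : List Cov := elList etabs etabs_mem.1

theorem eG_rep : List.Forall₂ (RepS wclk 8404 Cov) (etabs.map Prod.fst) eG :=
  elList_rep etabs etabs_mem.1 etabs_mem.2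

/-- the table of index `i` -/
def eT (i : ℕ) : ℕ := (etabs.map Prod.fst).getD i wcId

/-- the element of index `i` -/
noncomputable def eE (i : ℕ) : Cov := eG.getD i 1

theorem eE_rep (i : ℕ) : RepS wclk 8404 Cov (eT i) (eE i) :=
  getD_rep wcId wcid_chk _ _ eG_rep i

theorem xG_rep0 : RepS wclk 8404 Cov wcT1x0 (xG 0) := by
  intro i
  show (((cG 0).perm 8404) i).1 = wclk wcT1x0 i.1
  rw [PFun.perm_apply (cG_ok 0)]
  rfl

theorem xG_rep1 : RepS wclk 8404 Cov wcT1x1 (xG 1) := by
  intro i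
  show (((cG 1).perm 8404) i).1 = wclk wcT1x1 i.1
  rw [PFun.perm_apply (cG_ok 1)]
  rfl

/-- the three central elements: indices in the list of tables -/
noncomputable def z3 : Cov := eE 5
noncomputable def z2a : Cov := eE 6
noncomputable def z2b : Cov := eE 7

theorem rX1 : RepS wclk 8404 Cov wcEX1 (eE 0) := eE_rep 0
theorem rY1 : RepS wclk 8404 Cov wcEY1 (eE 1) := eE_rep 1
theorem rX2 : RepS wclk 8404 Cov wcEX2 (eE 2) := eE_rep 2
theorem rX3 : RepS wclk 8404 Cov wcEX3 (eE 3) := eE_rep 3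
theorem rY3 : RepS wclk 8404 Cov wcEY3 (eE 4) := eE_rep 4
theorem rZ3 : RepS wclk 8404 Cov wcEZ3 z3 := eE_rep 5
theorem rZ2a : RepS wclk 8404 Cov wcEZ2a z2a := eE_rep 6
theorem rZ2b : RepS wclk 8404 Cov wcEZ2b z2b := eE_rep 7

theorem rep2 {a b : ℕ} {x y : Cov} (hx : RepS wclk 8404 Cov a x) (hy : RepS wclk 8404 Cov b y) :
    List.Forall₂ (RepS wclk 8404 Cov) [a, b] [x, y] :=
  List.Forall₂.cons hx (List.Forall₂.cons hy List.Forall₂.nil)

theorem rep3 {a b c : ℕ} {x y z : Cov} (hx : RepS wclk 8404 Cov a x)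
    (hy : RepS wclk 8404 Cov b y) (hz : RepS wclk 8404 Cov c z) :
    List.Forall₂ (RepS wclk 8404 Cov) [a, b, c] [x, y, z] :=
  List.Forall₂.cons hx (rep2 hy hz)

theorem comm_of_chk {a b c : ℕ} {x y z : Cov} (hx : RepS wclk 8404 Cov a x)
    (hy : RepS wclk 8404 Cov b y) (hz : RepS wclk 8404 Cov c z)
    (h : eqWW wclk 8404 [c, b, a] [a, b] = true) : z = ⁅x, y⁆ := by
  have e := eq_of_chk [c, b, a] [a, b] [z, y, x] [x, y] (rep3 hz hy hx) (rep2 hx hy) h
  simp only [List.prod_cons, List.prod_nil, mul_one] at e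
  rw [commutatorElement_def]
  calc z = z * (y * x) * (y * x)⁻¹ := by group
    _ = x * y * (y * x)⁻¹ := by rw [e]
    _ = x * y * x⁻¹ * y⁻¹ := by group

theorem z3_eq : z3 = ⁅eE 3, eE 4⁆ := comm_of_chk rX3 rY3 rZ3 commZ3_chk
theorem z2a_eq : z2a = ⁅eE 0, eE 1⁆ := comm_of_chk rX1 rY1 rZ2a commZ2a_chk
theorem z2b_eq : z2b = ⁅eE 2, eE 1⁆ := comm_of_chk rX2 rY1 rZ2b commZ2b_chk

theorem ker_of_chk {T : ℕ} {z : Cov} (hz : RepS wclk 8404 Cov T z)
    (h : allB 693 (fun p => Nat.beq (wclk T p) p) = true) : z ∈ sig.ker := by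
  rw [MonoidHom.mem_ker]
  apply Subtype.ext
  rw [sig_coe]
  apply Equiv.ext
  intro i
  apply Fin.ext
  show ((res (Subgroup.inclusion Cov_le_Stab z)) i).1 = i.1
  rw [res_apply]
  show ((z.1 (emb i))).1 = i.1
  rw [hz (emb i)]
  have := (allB_iff _ _).1 h i.1 i.2
  rw [Nat.beq_eq] at this
  exact this

theorem z3_ker : z3 ∈ sig.ker := ker_of_chk rZ3 kerZ3_chk
theorem z2a_ker : z2a ∈ sig.ker := ker_of_chk rZ2a kerZ2a_chk
theorem z2b_ker : z2b ∈ sig.ker := ker_of_chk rZ2b kerZ2b_chk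

theorem central_of_chk {T : ℕ} {z : Cov} (hz : RepS wclk 8404 Cov T z)
    (hA : eqWW wclk 8404 [T, wcT1x0] [wcT1x0, T] = true)
    (hB : eqWW wclk 8404 [T, wcT1x1] [wcT1x1, T] = true) : z ∈ Subgroup.center Cov := by
  have eA := eq_of_chk [T, wcT1x0] [wcT1x0, T] [z, xG 0] [xG 0, z] (rep2 hz xG_rep0)
    (rep2 xG_rep0 hz) hA
  have eB := eq_of_chk [T, wcT1x1] [wcT1x1, T] [z, xG 1] [xG 1, z] (rep2 hz xG_rep1)
    (rep2 xG_rep1 hz) hB
  simp only [List.prod_cons, List.prod_nil, mul_one] at eA eB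
  rw [Subgroup.mem_center_iff]
  intro g
  apply Subtype.ext
  show g.1 * z.1 = z.1 * g.1
  have hle : Cov ≤ Subgroup.centralizer {z.1} := by
    rw [closure_le]
    rintro _ ⟨P, hP, rfl⟩
    obtain ⟨k, hk, rfl⟩ := mem_own hP
    rw [SetLike.mem_coe, Subgroup.mem_centralizer_iff]
    intro w hw
    rw [Set.mem_singleton_iff] at hw
    subst hw
    interval_cases k
    · exact congrArg Subtype.val eA
    · exact congrArg Subtype.val eB
  have := Subgroup.mem_centralizer_iff.mp (hle g.2) z.1 rfl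
  exact this.symm

theorem z3_central : z3 ∈ Subgroup.center Cov := central_of_chk rZ3 cenAZ3_chk cenBZ3_chk
theorem z2a_central : z2a ∈ Subgroup.center Cov :=
  central_of_chk rZ2a cenAZ2a_chk cenBZ2a_chk
theorem z2b_central : z2b ∈ Subgroup.center Cov :=
  central_of_chk rZ2b cenAZ2b_chk cenBZ2b_chk

theorem z3_pow : z3 ^ 3 = 1 := by
  have e := eq_of_chk [wcEZ3, wcEZ3, wcEZ3] [] [z3, z3, z3] []
    (rep3 rZ3 rZ3 rZ3) List.Forall₂.nil powZ3_chk
  simp only [List.prod_cons, List.prod_nil, mul_one] at e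
  calc z3 ^ 3 = z3 * (z3 * z3) := by simp only [pow_succ, pow_zero, one_mul, mul_assoc]
    _ = 1 := e

theorem z2a_pow : z2a ^ 2 = 1 := by
  have e := eq_of_chk [wcEZ2a, wcEZ2a] [] [z2a, z2a] []
    (rep2 rZ2a rZ2a) List.Forall₂.nil powZ2a_chk
  simp only [List.prod_cons, List.prod_nil, mul_one] at e
  calc z2a ^ 2 = z2a * z2a := by simp only [pow_succ, pow_zero, one_mul]
    _ = 1 := e

theorem z2b_pow : z2b ^ 2 = 1 := by
  have e := eq_of_chk [wcEZ2b, wcEZ2b] [] [z2b, z2b] []
    (rep2 rZ2b rZ2b) List.Forall₂.nil powZ2b_chk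
  simp only [List.prod_cons, List.prod_nil, mul_one] at e
  calc z2b ^ 2 = z2b * z2b := by simp only [pow_succ, pow_zero, one_mul]
    _ = 1 := e

theorem el_val {T : ℕ} {z : Cov} (hz : RepS wclk 8404 Cov T z) (i j : ℕ) (hi : i < 8404)
    (hj : j < 8404) (h : wclk T i = j) : z.1 ⟨i, hi⟩ = ⟨j, hj⟩ := by
  apply Fin.ext
  rw [hz ⟨i, hi⟩]
  exact h

theorem pow_fix {g : Equiv.Perm (Fin 8404)} {x : Fin 8404} (h : g x = x) (n : ℕ) :
    (g ^ n) x = x := Equiv.Perm.pow_apply_eq_self_of_apply_eq_self h n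

theorem indep : ∀ a b c : ℕ, a < 3 → b < 2 → c < 2 → z3 ^ a * (z2a ^ b * z2b ^ c) = 1 →
    a = 0 ∧ b = 0 ∧ c = 0 := by
  intro a b c ha hb hc h
  obtain ⟨⟨e1, e2⟩, ⟨e4, e5⟩, e6, e8, e9⟩ := vals_chk
  have h' : z3.1 ^ a * (z2a.1 ^ b * z2b.1 ^ c) = 1 := by
    have := congrArg Subtype.val h
    simpa using this
  have ha0 : a = 0 := by
    have f1 : z2a.1 ⟨693, by norm_num⟩ = ⟨693, by norm_num⟩ := el_val rZ2a 693 693 _ _ e4
    have f2 : z2b.1 ⟨693, by norm_num⟩ = ⟨693, by norm_num⟩ := el_val rZ2b 693 693 _ _ e5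
    have g1 : z3.1 ⟨693, by norm_num⟩ = ⟨695, by norm_num⟩ := el_val rZ3 693 695 _ _ e1
    have g2 : z3.1 ⟨695, by norm_num⟩ = ⟨694, by norm_num⟩ := el_val rZ3 695 694 _ _ e2
    have h1 := congrArg (fun g : Equiv.Perm (Fin 8404) => g ⟨693, by norm_num⟩) h'
    simp only [Equiv.Perm.mul_apply, Equiv.Perm.one_apply] at h1
    rw [pow_fix f2, pow_fix f1] at h1
    interval_cases a
    · rfl
    · rw [pow_one, g1] at h1
      exact absurd (congrArg Fin.val h1) (by norm_num)
    · rw [pow_two, Equiv.Perm.mul_apply, g1, g2] at h1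
      exact absurd (congrArg Fin.val h1) (by norm_num)
  subst ha0
  rw [pow_zero, one_mul] at h'
  have hb0 : b = 0 := by
    have f2 : z2b.1 ⟨2772, by norm_num⟩ = ⟨2772, by norm_num⟩ :=
      el_val rZ2b 2772 2772 _ _ e8
    have g1 : z2a.1 ⟨2772, by norm_num⟩ = ⟨2773, by norm_num⟩ :=
      el_val rZ2a 2772 2773 _ _ e6
    have h1 := congrArg (fun g : Equiv.Perm (Fin 8404) => g ⟨2772, by norm_num⟩) h'
    simp only [Equiv.Perm.mul_apply, Equiv.Perm.one_apply] at h1
    rw [pow_fix f2] at h1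
    interval_cases b
    · rfl
    · rw [pow_one, g1] at h1
      exact absurd (congrArg Fin.val h1) (by norm_num)
  subst hb0
  rw [pow_zero, one_mul] at h'
  have hc0 : c = 0 := by
    have g1 : z2b.1 ⟨5588, by norm_num⟩ = ⟨5589, by norm_num⟩ :=
      el_val rZ2b 5588 5589 _ _ e9
    have h1 := congrArg (fun g : Equiv.Perm (Fin 8404) => g ⟨5588, by norm_num⟩) h'
    simp only [Equiv.Perm.one_apply] at h1
    interval_cases c
    · rfl
    · rw [pow_one, g1] at h1
      exact absurd (congrArg Fin.val h1) (by norm_num)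
  exact ⟨rfl, rfl, hc0⟩

/-! ### the stem extension -/

theorem ker_struct :
    (∀ x ∈ sig.ker, ∃ a b c : ℕ, x = z3 ^ a * (z2a ^ b * z2b ^ c)) ∧
    Nonempty (sig.ker ≃* Multiplicative (ZMod 3 × ZMod 2 × ZMod 2)) :=
  Cfsg.Agent.Lib.Helper5.Stem.ker_equiv_of_three sig 3 2 2 z3 z2a z2b z3_ker z2a_ker z2b_ker
    z3_central z2a_central z2b_central z3_pow z2a_pow z2b_pow indep (by rw [card_ker_sig])

theorem sig_stem : Cfsg.IsStemExtension sig := by
  refine ⟨sig_surj, ?_, ?_⟩
  · intro k hk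
    obtain ⟨a, b, c, rfl⟩ := ker_struct.1 k hk
    exact mul_mem (pow_mem z3_central _) (mul_mem (pow_mem z2a_central _) (pow_mem z2b_central _))
  · intro k hk
    obtain ⟨a, b, c, rfl⟩ := ker_struct.1 k hk
    have h3 : z3 ∈ commutator Cov := by
      rw [z3_eq, commutator_def]
      exact Subgroup.commutator_mem_commutator (Subgroup.mem_top _) (Subgroup.mem_top _)
    have ha : z2a ∈ commutator Cov := by
      rw [z2a_eq, commutator_def]
      exact Subgroup.commutator_mem_commutator (Subgroup.mem_top _) (Subgroup.mem_top _)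
    have hb : z2b ∈ commutator Cov := by
      rw [z2b_eq, commutator_def]
      exact Subgroup.commutator_mem_commutator (Subgroup.mem_top _) (Subgroup.mem_top _)
    exact mul_mem (pow_mem h3 _) (mul_mem (pow_mem ha _) (pow_mem hb _))

/-- the group on 693 points has a finite stem extension with kernel the product of cyclic groups of
orders three, two and two -/
theorem exists_stem_HG : ∃ (Γ : Type) (_ : Group Γ) (_ : Finite Γ) (σ : Γ →* HG),
    Cfsg.IsStemExtension σ ∧
      Nonempty (σ.ker ≃* Multiplicative (ZMod 3 × ZMod 2 × ZMod 2)) :=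
  ⟨↥Cov, inferInstance, inferInstance, sig, sig_stem, ker_struct.2⟩

end Cfsg.Agent.Lib.Helper5.U62Cov
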