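import Mathlib
import Cfsg.Agent.Lib.Helper5.U62E
import Cfsg.Agent.Lib.Helper5.U62CovMain
import Cfsg.Agent.Lib.Helper5.StemX
import Cfsg.Agent.Lib.helper23.SUTr
import Cfsg.Agent.Lib.helper23.U6B

set_option autoImplicit false

/-! The Schur multiplier of the projective special unitary group of degree six over a field with
four elements is the product of cyclic groups of orders three, two and two. -/

namespace Cfsg.Agent.Lib.Helper5.U62M

open Cfsg Cfsg.Agent.Lib.Helper5.Stem Cfsg.Agent.Lib.helper23

universe u

theorem u62_multiplier {F : Type u} [Field F] [Fintype F] (hF : Fintype.card F = 4) :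
    Cfsg.HasSchurMultiplier (Cfsg.PSU 6 F 2) (Multiplicative (ZMod 3 × ZMod 2 × ZMod 2)) := by
  have hcard : Fintype.card F = Fintype.card GF4 := by rw [hF, GF4.card]
  let e : F ≃+* GF4 := FiniteField.ringEquivOfCardEq hcard
  apply hasSchurMultiplier_of_equiv ((psuEquiv e 2).trans u6PsuEquiv)
  · exact Cfsg.Agent.Lib.Helper5.U62Cov.exists_stem_HG
  · intro Γ _ _ σ hσ
    exact hg_ker_quot σ hσ

end Cfsg.Agent.Lib.Helper5.U62M
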