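import Mathlib
import Cfsg.Agent.Lib.Helper5.UNI.Defs
import Cfsg.Agent.Lib.Helper5.UNIA5B
import Cfsg.Agent.Lib.Helper5.UNIA8
import Cfsg.Agent.Lib.Helper5.UNIA9
import Cfsg.Agent.Lib.Helper1.UNIA4
import Cfsg.Agent.Lib.Helper21.UNIA7
import Cfsg.Agent.Lib.Helper12.UNIG7
import Cfsg.Agent.Lib.Helper20.UNIC1
import Cfsg.Agent.Lib.Helper28.UNIC3
import Cfsg.Agent.Lib.Helper28.UNIG1A
import Cfsg.Agent.Lib.Helper26.UNIG1B
import Cfsg.Agent.Lib.Helper11.UNIG2A
import Cfsg.Agent.Lib.Helper11.UNIG2B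
import Cfsg.Agent.Lib.Helper22.UNIG2Ccore
import Cfsg.Agent.Lib.helper2.UNIG3core
import Cfsg.Agent.Lib.helper8.ChevSyl
import Cfsg.Agent.Lib.helper8.ChevCnt1
import Cfsg.Agent.S1048
import Cfsg.Agent.Lib.helper8.ChevBNAll2
import Cfsg.Agent.Lib.helper8.ChevOrdAll
import Cfsg.Agent.Lib.helper8.ChevPosLen
import Cfsg.Agent.Lib.helper8.ChevCommAll
import Cfsg.Agent.Lib.helper8.ChevBaseAll
import Cfsg.Agent.Lib.helper8.ChevReflAll
import Cfsg.Agent.Lib.helper8.ChevOrd4
import Cfsg.Agent.Lib.helper8.ChevGroup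

set_option autoImplicit false

namespace Cfsg.Agent.Lib.Helper5.UNI

open Cfsg.Lie Cfsg.Lie.ChevalleyDatum Cfsg.Agent.Lib.helper8 Cfsg.Agent.Lib.helper3
  Cfsg.Agent.Lib.helper14

universe u

variable {F : Type u} [Field F]

section

variable {G : Type*} [Group G]

/-- `relSt` only depends on the values of the family on the subsets of `J` -/
theorem unig4_relSt_congr (Q Q' : Finset ℕ → Subgroup G) (J : Finset ℕ)
    (h : ∀ K ⊆ J, Q K = Q' K) (g : G) : relSt Q J g = relSt Q' J g := by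
  unfold relSt
  apply Finset.sum_congr rfl
  intro K hK
  rw [Finset.mem_powerset] at hK
  rw [h K hK, h J (Finset.Subset.refl J)]

theorem unig4_relSt_conj (Q : Finset ℕ → Subgroup G) (J : Finset ℕ) (x g : G) (hx : x ∈ Q J) :
    relSt Q J (x * g * x⁻¹) = relSt Q J g := by
  unfold relSt
  apply Finset.sum_congr rfl
  intro K _
  rw [relFix_conj (Q J) (Q K) x g hx]

/-- membership in the normalizer of a `subgroupOf` from the ambient normalizer -/
theorem unig4_normalizer_subgroupOf (Γ N X : Subgroup G) (h : X ≤ Subgroup.normalizer (N : Set G)) :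
    X.subgroupOf Γ ≤ Subgroup.normalizer ((N.subgroupOf Γ : Subgroup ↥Γ) : Set ↥Γ) := by
  intro x hx
  rw [Subgroup.mem_subgroupOf] at hx
  rw [Subgroup.mem_normalizer_iff]
  intro y
  rw [Subgroup.mem_subgroupOf, Subgroup.mem_subgroupOf]
  have := Subgroup.mem_normalizer_iff.mp (h hx) (y : G)
  simpa using this

end

section PLevel

variable (D : ChevalleyDatum) (hB : H8Base.{u} D) (P : Cfsg.BNPair ↥(D.group F))
  (σ : ℕ → ↥(D.group F))

/-- the statement of row G3 (`uni_nJ_exists`), assembled directly from helper2's `unig3_core`,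
helper22's `unig2c_core` and the landed rows C1 C3 G1A G1B G2A G2B (so that G4 does not wait
for the verbatim wrappers of G2C / G3) -/
theorem unig4_nJ_exists (hD : D ∈ [chevG2, chevB2, chevD4, chevF4, chevE6, chevE7, chevE8])
    (hPB : P.B = (D.borelSubgroup F).subgroupOf (D.group F))
    (hPN : P.N = (D.monomialSubgroup F).subgroupOf (D.group F))
    (hPS : P.S = {n : ↥(D.group F) | ∃ i < D.rank,
      ((n : GL D.Idx F) : Matrix D.Idx D.Idx F) = D.nMat F (D.simple i) 1})
    (hσv : ∀ i, i < D.rank → ((σ i : ↥(D.group F)) : GL D.Idx F) = h8nU D hB (D.simple i) 1)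
    (J : Finset ℕ) (hJ : J ⊆ Finset.range D.rank) :
    ∃ n : ↥(D.group F), n ∈ subN P (σ '' (J : Set ℕ)) ∧
      (∀ j ∈ J, ¬ Pp P (σ j) n⁻¹) ∧
      (∀ m ∈ subN P (σ '' (J : Set ℕ)), (∀ j ∈ J, ¬ Pp P (σ j) m) →
        ∀ j ∈ J, Pp P (σ j) (m * n)) ∧
      (∀ x ∈ (D.posUnipotent F).subgroupOf (D.group F), n⁻¹ * x * n ∈ P.B →
        x ∈ (D.unipotentRadical F (J : Set ℕ)).subgroupOf (D.group F)) ∧
      (D.diagonalSubgroup F).subgroupOf (D.group F) ≤ P.B.map (MulAut.conj n).toMonoidHom := by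
  have hA := h8reflAll D hD
  have hC := h8commAll.{u} D hD
  have hBN := h8bn_all D hD
  have hW := h8bn2_all D hD
  obtain ⟨hO, hO2⟩ := h8ord_all D hD
  have hT := uni_tab_all D hD
  have hJr : ∀ j ∈ J, j < D.rank := fun j hj => Finset.mem_range.1 (hJ hj)
  exact unig3_core D hB P σ hA hBN hPB hσv J
    (uni_exists_wJ D hB hA hBN hO2 hT (J : Set ℕ))
    (fun w hw => uni_nW_mem D hB (J : Set ℕ) w hw)
    (fun w hw x hx hxB => uni_U_inf_conj D hD hB (J : Set ℕ) w hw x hx hxB)
    (fun w hw n hn => uni_h1J D hB P σ hA hBN hW hO2 hT hPB hPN hPS hσv J hJr w hw n hn)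
    (fun w hw n hn => unig2c_core D hB P σ hA hC hBN hW hO2 hT hPB hPN hσv J hJr w hw n hn
      (fun m hm r hr => uni_subN_act D hB P σ hA hBN J hJr m hm hPB hPN hσv r hr))

end PLevel

/-- G4 (KEY): the relative Steinberg function of `P_J` summed over the `p`-elements of `P_J` -/
theorem uni_sum_pJ [Fintype F] (p : ℕ) [Fact p.Prime] [CharP F p] (D : ChevalleyDatum)
    (hD : D ∈ [chevG2, chevB2, chevD4, chevF4, chevE6, chevE7, chevE8])
    [Fintype ↥(D.group F)] (J : Finset ℕ) (hJ : J ⊆ Finset.range D.rank) :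
    sumOver (D.parabolicIn F J) (IsPElt p) (relSt (fun K => D.parabolicIn F K) J) =
      (Fintype.card F : ℤ) ^ (D.nroots / 2) := by
  classical
  have hB := h8base_all.{u} D hD
  have hA := h8reflAll D hD
  have hC := h8commAll.{u} D hD
  have hBN := h8bn_all D hD
  have hW := h8bn2_all D hD
  obtain ⟨hO, hO2⟩ := h8ord_all D hD
  have hlen := h8posLen_all D hD
  obtain ⟨P, hPB, hPN, hPS⟩ := h8bnpair (F := F) D hB hA hC hBN hW
  have hBG := h8_B_le_group (F := F) D hB
  have hNG := h8_N_le_group (F := F) D hB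
  have hUG := h8_U_le_group (F := F) D
  have hHG : D.diagonalSubgroup F ≤ D.group F := le_trans (h8H_le_B D) hBG
  have hsN : ∀ i, i < D.rank → h8nU D hB (D.simple i) (1 : F) ∈ D.monomialSubgroup F :=
    fun i hi => h8nU_mem_N D hB _ (h8simple_pos D hBN i hi).1
  let σ : ℕ → ↥(D.group F) := fun i =>
    if h : i < D.rank then ⟨h8nU D hB (D.simple i) 1, hNG (hsN i h)⟩ else 1
  have hσv : ∀ i, i < D.rank → ((σ i : ↥(D.group F)) : GL D.Idx F) = h8nU D hB (D.simple i) 1 := by
    intro i hi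
    simp only [σ, dif_pos hi]
  have hJr : ∀ j ∈ J, j < D.rank := fun j hj => Finset.mem_range.1 (hJ hj)
  have hσS : ∀ i ∈ J, σ i ∈ P.S := by
    intro i hi
    rw [hPS]
    refine ⟨i, hJr i hi, ?_⟩
    rw [hσv i (hJr i hi), h8nU_val]
  obtain ⟨n, hnN, h1, h2, hE, hH⟩ := unig4_nJ_exists D hB P σ hD hPB hPN hPS hσv J hJ
  -- the subgroups
  set X : Subgroup ↥(D.group F) := D.parabolicIn F J with hX
  set U' : Subgroup ↥(D.group F) := (D.posUnipotent F).subgroupOf (D.group F) with hU'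
  set H' : Subgroup ↥(D.group F) := (D.diagonalSubgroup F).subgroupOf (D.group F) with hH'
  set UJ : Subgroup ↥(D.group F) :=
    (D.unipotentRadical F (J : Set ℕ)).subgroupOf (D.group F) with hUJ
  set Dn : Subgroup ↥(D.group F) := P.B ⊓ P.B.map (MulAut.conj n).toMonoidHom with hDn
  have hXeq : X = P.parabolic (σ '' (J : Set ℕ)) := uni_par_eq D hB P σ hBN hPB hσv J hJ
  -- S1048
  obtain ⟨h48, -, -⟩ := Cfsg.Agent.S1048.result (F := F) D hD (J : Set ℕ)
  have hXnorm : X ≤ Subgroup.normalizer ((UJ : Subgroup ↥(D.group F)) : Set ↥(D.group F)) :=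
    unig4_normalizer_subgroupOf (D.group F) _ _ h48
  have hBX : P.B ≤ X := by
    rw [hPB]
    intro x hx
    rw [Subgroup.mem_subgroupOf] at hx
    show x ∈ D.parabolicIn F J
    unfold ChevalleyDatum.parabolicIn
    rw [Subgroup.mem_subgroupOf]
    unfold ChevalleyDatum.parabolicSubgroup
    exact Subgroup.mem_sup_left hx
  have hUB : U' ≤ P.B := by
    rw [hPB]
    intro x hx
    rw [Subgroup.mem_subgroupOf] at hx ⊢
    exact h8U_le_B D hx
  have hUJU : UJ ≤ U' := by
    intro x hx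
    rw [Subgroup.mem_subgroupOf] at hx ⊢
    revert hx
    apply (show D.unipotentRadical F (J : Set ℕ) ≤ D.posUnipotent F from ?_)
    unfold ChevalleyDatum.unipotentRadical ChevalleyDatum.posUnipotent
    apply Subgroup.closure_mono
    rintro g ⟨r, t, hr, _, hg⟩
    exact ⟨r, t, hr, hg⟩
  have hnX : n ∈ X := by
    rw [hXeq]
    have : subN P (σ '' (J : Set ℕ)) ≤ P.parabolic (σ '' (J : Set ℕ)) := by
      unfold subN Cfsg.BNPair.parabolic
      apply sup_le le_sup_right
      exact le_trans inf_le_left le_sup_left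
    exact this hnN
  -- `Dn ⊓ U' = UJ`
  have hDU : Dn ⊓ U' = UJ := by
    apply le_antisymm
    · intro x hx
      rw [Subgroup.mem_inf] at hx
      obtain ⟨hxD, hxU⟩ := hx
      rw [hDn, Subgroup.mem_inf] at hxD
      obtain ⟨_, hx2⟩ := hxD
      rw [Subgroup.mem_map] at hx2
      obtain ⟨b, hb, rfl⟩ := hx2
      apply hE _ hxU
      have : n⁻¹ * ((MulAut.conj n).toMonoidHom b) * n = b := by
        show n⁻¹ * (n * b * n⁻¹) * n = b
        group
      rw [this]
      exact hb
    · intro x hx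
      have hxU : x ∈ U' := hUJU hx
      rw [Subgroup.mem_inf]
      refine ⟨?_, hxU⟩
      rw [hDn, Subgroup.mem_inf]
      refine ⟨hUB hxU, ?_⟩
      rw [Subgroup.mem_map]
      refine ⟨n⁻¹ * x * n, ?_, ?_⟩
      · apply hUB
        apply hUJU
        have hn' := hXnorm (X.inv_mem hnX)
        have := (Subgroup.mem_normalizer_iff.mp hn' x).mp hx
        simpa using this
      · show n * (n⁻¹ * x * n) * n⁻¹ = x
        group
  -- Sylow
  have hc : Nat.card U' = p ^ (Nat.card ↥(D.group F)).factorization p := by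
    rw [hU', Nat.card_congr (Subgroup.subgroupOfEquivOfLe hUG).toEquiv]
    exact h8sylow_card p D hD
  let S : Sylow p ↥(D.group F) := Sylow.ofCard U' hc
  have hS : (S : Subgroup ↥(D.group F)) = U' := Sylow.coe_ofCard U' hc
  -- normality of `U'` in `B`
  have hUn : P.B ≤ Subgroup.normalizer ((U' : Subgroup ↥(D.group F)) : Set ↥(D.group F)) := by
    rw [hPB]
    apply unig4_normalizer_subgroupOf (D.group F)
    unfold ChevalleyDatum.borelSubgroup
    exact sup_le Subgroup.le_normalizer (h8_H_le_normalizer_U D hB)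
  -- the cardinality condition
  have hHB : H' ≤ P.B := by
    rw [hPB]
    intro x hx
    rw [Subgroup.mem_subgroupOf] at hx ⊢
    exact h8H_le_B D hx
  have hBsup : P.B = U' ⊔ H' := by
    rw [hPB, hU', hH', ← Subgroup.subgroupOf_sup hUG hHG]
    rfl
  have hHn : H' ≤ Subgroup.normalizer ((U' : Subgroup ↥(D.group F)) : Set ↥(D.group F)) :=
    le_trans hHB hUn
  have hUH : U' ⊓ H' = ⊥ := by
    rw [hU', hH', eq_bot_iff]
    intro x hx
    rw [Subgroup.mem_inf, Subgroup.mem_subgroupOf, Subgroup.mem_subgroupOf] at hx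
    have h0 : (x : GL D.Idx F) ∈ D.posUnipotent F ⊓ D.diagonalSubgroup F := hx
    rw [h8_U_inf_H D hB, Subgroup.mem_bot] at h0
    rw [Subgroup.mem_bot]
    exact Subtype.ext h0
  have hHD : H' ≤ Dn := by
    rw [hDn]
    exact le_inf hHB hH
  have hcard := relIndex_card P.B U' H' Dn hBsup hHn hUH hHD inf_le_left
  -- apply A7
  have hmain := sum_tau p X P.B U' Dn hBX hUB inf_le_left hUn
    (fun u hu => pelt_of_mem p S u (by rw [hS]; exact hu))
    (fun g hg hp => by
      have := sylow_conj_into p S X (by rw [hS]; exact le_trans hUB hBX) g hg hp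
      rwa [hS] at this)
    (by rw [hDU]; exact hXnorm) hcard
    (relSt (fun K => D.parabolicIn F K) J)
    (fun x hx g _ => unig4_relSt_conj (fun K => D.parabolicIn F K) J x g hx)
    (fun b hb => by
      rw [unig4_relSt_congr (fun K => D.parabolicIn F K)
        (fun K => P.parabolic (σ '' (K : Set ℕ))) J
        (fun K hK => uni_par_eq D hB P σ hBN hPB hσv K (hK.trans hJ)) b]
      exact rel_st_value P J σ hσS hnN h1 h2 b hb)
  rw [hmain, hU', Nat.card_congr (Subgroup.subgroupOfEquivOfLe hUG).toEquiv,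
    h8card_U D hB hC hO hO2 hlen]
  push_cast
  rfl

end Cfsg.Agent.Lib.Helper5.UNI
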