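import Mathlib
import Cfsg.Agent.Lib.Helper5.UNI.Defs
import Cfsg.Agent.Lib.Helper5.UNIA6
import Cfsg.Agent.Lib.Helper21.UNIA5
import Cfsg.Agent.Lib.Helper26.UNIG5
import Cfsg.Agent.Lib.Helper22.UNIG6
import Cfsg.Agent.Lib.Helper5.UNIG4

set_option autoImplicit false

namespace Cfsg.Agent.Lib.Helper5.UNI

open Cfsg.Lie Cfsg.Lie.ChevalleyDatum Cfsg.Agent.Lib.helper8 Cfsg.Agent.Lib.helper3
  Cfsg.Agent.Lib.helper14

section

variable {G : Type*} [Group G]

theorem unimain_sumOver_sum [Fintype G] (X : Subgroup G) (Q : G → Prop) {ι : Type*}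
    (s : Finset ι) (f : ι → G → ℤ) :
    sumOver X Q (fun g => ∑ k ∈ s, f k g) = ∑ k ∈ s, sumOver X Q (f k) := by
  classical
  unfold sumOver
  rw [Finset.sum_comm]
  apply Finset.sum_congr rfl
  intro g _
  split_ifs with h
  · rfl
  · simp

theorem unimain_sumOver_mul [Fintype G] (X : Subgroup G) (Q : G → Prop) (a : ℤ) (f : G → ℤ) :
    sumOver X Q (fun g => a * f g) = a * sumOver X Q f := by
  classical
  unfold sumOver
  rw [Finset.mul_sum]
  apply Finset.sum_congr rfl
  intro g _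
  split_ifs with h
  · rfl
  · simp

theorem unimain_pelt_conj (p : ℕ) (x g : G) (h : IsPElt p g) : IsPElt p (x * g * x⁻¹) := by
  obtain ⟨k, hk⟩ := h
  refine ⟨k, ?_⟩
  rw [← hk]
  have : x * g * x⁻¹ = MulAut.conj x g := rfl
  rw [this, MulEquiv.orderOf_eq]

end

universe u

variable {F : Type u} [Field F]

theorem unimain_par_mono (D : ChevalleyDatum) (K J : Finset ℕ) (h : K ⊆ J) :
    D.parabolicIn F K ≤ D.parabolicIn F J := by
  unfold ChevalleyDatum.parabolicIn
  intro x hx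
  rw [Subgroup.mem_subgroupOf] at hx ⊢
  revert hx
  apply (show D.parabolicSubgroup F (K : Set ℕ) ≤ D.parabolicSubgroup F (J : Set ℕ) from ?_)
  unfold ChevalleyDatum.parabolicSubgroup
  apply sup_le_sup_left
  apply Subgroup.closure_mono
  rintro g ⟨j, hj, hjr, hg⟩
  exact ⟨j, Finset.mem_coe.2 (h (Finset.mem_coe.1 hj)), hjr, hg⟩

/-- MAIN: the statement of S2314 -/
theorem uni_main [Fintype F] (p : ℕ) [Fact p.Prime] [CharP F p] (D : ChevalleyDatum)
    (hD : D ∈ [chevG2, chevB2, chevD4, chevF4, chevE6, chevE7, chevE8]) :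
    Nat.card {g : ↥(D.group F) // ∃ k : ℕ, orderOf g = p ^ k} =
      Fintype.card F ^ (2 * (D.nroots / 2)) := by
  classical
  let _inst : Fintype ↥(D.group F) := Fintype.ofFinite _
  set R := Finset.range D.rank with hR
  set q : ℤ := (Fintype.card F : ℤ) ^ (D.nroots / 2) with hq
  let Q : Finset ℕ → Subgroup ↥(D.group F) := fun K => D.parabolicIn F K
  let c : Finset ℕ → ℤ := fun K =>
    (Nat.card {g : ↥(D.group F) // g ∈ Q K ∧ IsPElt p g} : ℤ)
  let idx : Finset ℕ → Finset ℕ → ℤ := fun J K => ((Q K).relIndex (Q J) : ℤ)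
  have hmono : ∀ K J : Finset ℕ, K ⊆ J → Q K ≤ Q J := fun K J h => unimain_par_mono D K J h
  have hid : ∀ J ⊆ R, idx J J = 1 := by
    intro J _
    show ((Q J).relIndex (Q J) : ℤ) = 1
    rw [Subgroup.relIndex_self]
    rfl
  have hmul : ∀ J ⊆ R, ∀ K ⊆ J, ∀ L ⊆ K, idx J K * idx K L = idx J L := by
    intro J _ K hK L hL
    show ((Q K).relIndex (Q J) : ℤ) * ((Q L).relIndex (Q K) : ℤ) = ((Q L).relIndex (Q J) : ℤ)
    rw [mul_comm]
    exact_mod_cast Subgroup.relIndex_mul_relIndex (Q L) (Q K) (Q J) (hmono L K hL) (hmono K J hK)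
  have hsum : ∀ J ⊆ R, ∑ K ∈ J.powerset, (-1 : ℤ) ^ K.card * idx J K * c K = q := by
    intro J hJ
    have h4 := uni_sum_pJ (F := F) p D hD J hJ
    rw [hq, ← h4]
    unfold relSt
    rw [unimain_sumOver_sum]
    apply Finset.sum_congr rfl
    intro K hK
    rw [Finset.mem_powerset] at hK
    rw [unimain_sumOver_mul, sum_relFix (Q J) (Q K) (hmono K J hK) (IsPElt p)
      (fun x _ g hg => unimain_pelt_conj p x g hg), mul_assoc]
  have hM := moebius_ind R idx c q hid hmul hsum R (Finset.Subset.refl R)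
  have htop : Q R = ⊤ := uni_par_top D hD
  have hidx : ∀ K, idx R K = ((D.parabolicIn F K).index : ℤ) := by
    intro K
    show ((Q K).relIndex (Q R) : ℤ) = _
    rw [htop, Subgroup.relIndex_top_right]
  have hst := uni_st_one (F := F) D hD
  have hc : c R = q * q := by
    rw [hM]
    congr 1
    rw [hq, ← hst]
    apply Finset.sum_congr rfl
    intro K _
    rw [hidx]
  have hcR : c R = (Nat.card {g : ↥(D.group F) // ∃ k : ℕ, orderOf g = p ^ k} : ℤ) := by
    show (Nat.card {g : ↥(D.group F) // g ∈ Q R ∧ IsPElt p g} : ℤ) = _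
    congr 1
    apply Nat.card_congr
    apply Equiv.subtypeEquivRight
    intro g
    rw [htop]
    constructor
    · rintro ⟨_, h⟩; exact h
    · intro h; exact ⟨Subgroup.mem_top g, h⟩
  have hfin : (Nat.card {g : ↥(D.group F) // ∃ k : ℕ, orderOf g = p ^ k} : ℤ) =
      ((Fintype.card F ^ (2 * (D.nroots / 2)) : ℕ) : ℤ) := by
    rw [← hcR, hc, hq]
    push_cast
    ring
  exact_mod_cast hfin

end Cfsg.Agent.Lib.Helper5.UNI
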